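import Mathlib
/-!
# Flatness of localized modules, elementwise (helper3)

`R → A` an algebra, `E` an `A`-module, `T ⊆ A` a submonoid, `g : E → E'` a localization at `T`.
For an `R`-linear map `φ : P → P'`:

* `lTensor_injective_iff` : `E' ⊗ φ` is injective iff every element of `ker (E ⊗ φ)` is killed by
  an element of `T`.
* `flat_iff` : `E'` is `R`-flat iff for every ideal `𝔟` of `R` every element of
  `ker (E ⊗ 𝔟 → E ⊗ R)` is killed by an element of `T`.
* `flat_of_le` : flatness passes to further localizations.
-/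

set_option autoImplicit false
universe u

open TensorProduct

namespace Groth.Agent.Lib.helper3.FlatLocus

section L1

variable {R A : Type*} [CommRing R] [CommRing A] [Algebra R A] (T : Submonoid A)
  {E E' : Type*} [AddCommGroup E] [Module R E] [Module A E] [IsScalarTower R A E]
  [AddCommGroup E'] [Module R E'] [Module A E'] [IsScalarTower R A E']
  (g : E →ₗ[A] E') [IsLocalizedModule T g]
  {P P' : Type*} [AddCommGroup P] [Module R P] [AddCommGroup P'] [Module R P']
  (φ : P →ₗ[R] P')

theorem rTensor_comm_lTensor (x : E ⊗[R] P) :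
    AlgebraTensorModule.rTensor R P' g (AlgebraTensorModule.lTensor A E φ x) =
      AlgebraTensorModule.lTensor A E' φ (AlgebraTensorModule.rTensor R P g x) := by
  induction x using TensorProduct.induction_on with
  | zero => simp
  | add x y hx hy => simp only [map_add, hx, hy]
  | tmul e p => simp

include g in
theorem lTensor_injective_iff :
    Function.Injective (φ.lTensor E') ↔
      ∀ x : E ⊗[R] P, (φ.lTensor E) x = 0 → ∃ t ∈ T, t • x = 0 := by
  set gP := AlgebraTensorModule.rTensor R P g with hgP
  set gP' := AlgebraTensorModule.rTensor R P' g with hgP'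
  set F := AlgebraTensorModule.lTensor A E φ with hF
  set F' := AlgebraTensorModule.lTensor A E' φ with hF'
  have hcomm : ∀ x, gP' (F x) = F' (gP x) := rTensor_comm_lTensor g φ
  constructor
  · intro hinj x hx
    have h1 : F' (gP x) = 0 := by
      rw [← hcomm]
      have : F x = 0 := hx
      rw [this, map_zero]
    have h2 : gP x = 0 := hinj (by rw [map_zero]; exact h1)
    obtain ⟨c, hc⟩ := (IsLocalizedModule.eq_zero_iff T gP).mp h2
    exact ⟨c.1, c.2, hc⟩
  · intro H
    rw [injective_iff_map_eq_zero]
    intro y hy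
    obtain ⟨⟨x, t⟩, hxt⟩ := IsLocalizedModule.surj T gP y
    have hxt' : (t : A) • y = gP x := hxt
    have h1 : gP' (F x) = 0 := by
      rw [hcomm, ← hxt', map_smul]
      have : F' y = 0 := hy
      rw [this, smul_zero]
    obtain ⟨s, hs⟩ := (IsLocalizedModule.eq_zero_iff T gP').mp h1
    have hs' : (s : A) • F x = 0 := hs
    have h2 : (φ.lTensor E) ((s : A) • x) = 0 := by
      change F ((s : A) • x) = 0
      rw [map_smul]
      exact hs'
    obtain ⟨t', ht', ht'x⟩ := H _ h2
    have h3 : gP x = 0 := by
      rw [IsLocalizedModule.eq_zero_iff T gP]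
      refine ⟨⟨t', ht'⟩ * s, ?_⟩
      change (t' * (s : A)) • x = 0
      rw [mul_smul]
      exact ht'x
    rw [h3] at hxt
    exact (IsLocalizedModule.smul_injective gP t) (by simpa using hxt)

include g in
theorem flat_iff :
    Module.Flat R E' ↔
      ∀ (𝔟 : Ideal R) (x : E ⊗[R] 𝔟), (𝔟.subtype.lTensor E) x = 0 → ∃ t ∈ T, t • x = 0 := by
  rw [Module.Flat.iff_lTensor_injective']
  constructor
  · intro h 𝔟
    exact (lTensor_injective_iff T g 𝔟.subtype).mp (h 𝔟)
  · intro h 𝔟
    exact (lTensor_injective_iff T g 𝔟.subtype).mpr (h 𝔟)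

end L1

section Le

variable {R A : Type*} [CommRing R] [CommRing A] [Algebra R A] (T T' : Submonoid A)
  {E E' E'' : Type*} [AddCommGroup E] [Module R E] [Module A E] [IsScalarTower R A E]
  [AddCommGroup E'] [Module R E'] [Module A E'] [IsScalarTower R A E']
  [AddCommGroup E''] [Module R E''] [Module A E''] [IsScalarTower R A E'']
  (g : E →ₗ[A] E') [IsLocalizedModule T g] (g' : E →ₗ[A] E'') [IsLocalizedModule T' g']

include g g' in
theorem flat_of_le (hle : T ≤ T') (h : Module.Flat R E') : Module.Flat R E'' := by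
  rw [flat_iff T' g']
  intro 𝔟 x hx
  obtain ⟨t, ht, htx⟩ := (flat_iff T g).mp h 𝔟 x hx
  exact ⟨t, hle ht, htx⟩

end Le

end Groth.Agent.Lib.helper3.FlatLocus
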