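import Mathlib
import Groth.Agent.Lib.Helper3.FlatLocus1
/-!
# Flatness of a localized quotient `T⁻¹(F ⧸ N)` via the presentation (helper3)

`A` an `R`-algebra, `F` an `A`-module, `N ⊆ F` an `A`-submodule, `T ⊆ A` a submonoid.

* `rel N P` : the `A`-submodule `im (N ⊗[R] P → F ⊗[R] P)` of `F ⊗[R] P`.
* `torsion_of_pres` / `pres_of_torsion` : for `φ : P → P'`, "every element of
  `ker ((F ⧸ N) ⊗ P → (F ⧸ N) ⊗ P')` is `T`-torsion" is equivalent to "every `x̃ : F ⊗ P` whose image in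
  `F ⊗ P'` lies in `rel N P'` satisfies `t • x̃ ∈ rel N P` for some `t ∈ T`".
* submodule forms for an ideal `I` of `R` when `F` is `R`-flat:
  `forall_mem_of_flat`, `injective_lTensor_of_forall_mem`, `flat_iff_forall_mem`.
-/

set_option autoImplicit false

open TensorProduct

namespace Groth.Agent.Lib.helper3.FlatDesc

open Groth.Agent.Lib.helper3.FlatLocus

section Pres

variable {R A : Type*} [CommRing R] [CommRing A] [Algebra R A]
  {F : Type*} [AddCommGroup F] [Module R F] [Module A F] [IsScalarTower R A F]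
  (N : Submodule A F) (T : Submonoid A)

/-- The image of `N ⊗[R] P` in `F ⊗[R] P`, as an `A`-submodule. -/
def rel (P : Type*) [AddCommGroup P] [Module R P] : Submodule A (F ⊗[R] P) :=
  LinearMap.range (AlgebraTensorModule.rTensor R P N.subtype)

variable {P P' : Type*} [AddCommGroup P] [Module R P] [AddCommGroup P'] [Module R P']
  (φ : P →ₗ[R] P')

theorem mem_rel_iff (x : F ⊗[R] P) :
    x ∈ rel N P ↔ ∃ w : N ⊗[R] P, ((N.subtype.restrictScalars R).rTensor P) w = x := Iff.rfl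

theorem tmul_mem_rel {n : F} (hn : n ∈ N) (p : P) : n ⊗ₜ[R] p ∈ rel N P :=
  ⟨(⟨n, hn⟩ : N) ⊗ₜ[R] p, rfl⟩

/-- `rel N P` is the kernel of `F ⊗ P → (F ⧸ N) ⊗ P`. -/
theorem mem_rel_iff_mkQ (x : F ⊗[R] P) :
    x ∈ rel N P ↔ ((N.mkQ.restrictScalars R).rTensor P) x = 0 := by
  have hex : Function.Exact ((N.subtype.restrictScalars R).rTensor P)
      ((N.mkQ.restrictScalars R).rTensor P) :=
    rTensor_exact P (f := N.subtype.restrictScalars R) (g := N.mkQ.restrictScalars R)
      (LinearMap.exact_subtype_mkQ N) (Submodule.mkQ_surjective N)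
  rw [mem_rel_iff]
  exact (hex x).symm

theorem lTensor_rTensor_comm (x : F ⊗[R] P) :
    (φ.lTensor (F ⧸ N)) (((N.mkQ.restrictScalars R).rTensor P) x) =
      ((N.mkQ.restrictScalars R).rTensor P') ((φ.lTensor F) x) := by
  induction x using TensorProduct.induction_on with
  | zero => simp
  | add x y hx hy => simp only [map_add, hx, hy]
  | tmul e p => simp

theorem smul_rTensor_mkQ (t : A) (x : F ⊗[R] P) :
    t • ((N.mkQ.restrictScalars R).rTensor P) x = ((N.mkQ.restrictScalars R).rTensor P) (t • x) := by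
  have h := (AlgebraTensorModule.rTensor R P N.mkQ).map_smul t x
  exact h.symm

theorem torsion_of_pres
    (h : ∀ x : F ⊗[R] P, (φ.lTensor F) x ∈ rel N P' → ∃ t ∈ T, t • x ∈ rel N P) :
    ∀ x : (F ⧸ N) ⊗[R] P, (φ.lTensor (F ⧸ N)) x = 0 → ∃ t ∈ T, t • x = 0 := by
  intro x hx
  obtain ⟨x', rfl⟩ := LinearMap.rTensor_surjective P
    (show Function.Surjective (N.mkQ.restrictScalars R) from Submodule.mkQ_surjective N) x
  rw [lTensor_rTensor_comm, ← mem_rel_iff_mkQ] at hx
  obtain ⟨t, ht, htx⟩ := h x' hx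
  refine ⟨t, ht, ?_⟩
  rw [smul_rTensor_mkQ, ← mem_rel_iff_mkQ]
  exact htx

theorem pres_of_torsion
    (h : ∀ x : (F ⧸ N) ⊗[R] P, (φ.lTensor (F ⧸ N)) x = 0 → ∃ t ∈ T, t • x = 0) :
    ∀ x : F ⊗[R] P, (φ.lTensor F) x ∈ rel N P' → ∃ t ∈ T, t • x ∈ rel N P := by
  intro x hx
  rw [mem_rel_iff_mkQ, ← lTensor_rTensor_comm] at hx
  obtain ⟨t, ht, htx⟩ := h _ hx
  refine ⟨t, ht, ?_⟩
  rw [mem_rel_iff_mkQ, ← smul_rTensor_mkQ]
  exact htx

end Pres

section Sub

variable {R A : Type*} [CommRing R] [CommRing A] [Algebra R A]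
  {F : Type*} [AddCommGroup F] [Module R F] [Module A F] [IsScalarTower R A F]
  (N : Submodule A F) (T : Submonoid A) (I : Ideal R)

/-- the multiplication map `F ⊗[R] I → F`, `x ⊗ i ↦ i • x`, as an `A`-linear map. -/
noncomputable def mulI : F ⊗[R] I →ₗ[A] F :=
  (AlgebraTensorModule.rid R A F).toLinearMap ∘ₗ AlgebraTensorModule.lTensor A F I.subtype

@[simp]
theorem mulI_tmul (x : F) (i : I) : mulI (A := A) I (x ⊗ₜ[R] i) = (i : R) • x := by
  simp [mulI]

theorem mulI_injective [Module.Flat R F] : Function.Injective (mulI (A := A) (F := F) I) := by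
  have h1 : Function.Injective (I.subtype.lTensor F) :=
    Module.Flat.lTensor_preserves_injective_linearMap _ I.injective_subtype
  intro x y hxy
  apply h1
  apply (AlgebraTensorModule.rid R A F).injective
  exact hxy

theorem mulI_mem_smul_top (x : F ⊗[R] I) :
    mulI (A := A) I x ∈ I • (⊤ : Submodule R F) := by
  induction x using TensorProduct.induction_on with
  | zero => simp
  | add x y hx hy => rw [map_add]; exact Submodule.add_mem _ hx hy
  | tmul e i =>
    rw [mulI_tmul]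
    exact Submodule.smul_mem_smul i.2 Submodule.mem_top

theorem exists_mulI_eq {y : F} (hy : y ∈ I • (⊤ : Submodule R F)) :
    ∃ x : F ⊗[R] I, mulI (A := A) I x = y := by
  refine Submodule.smul_induction_on hy ?_ ?_
  · intro r hr n _
    exact ⟨n ⊗ₜ[R] ⟨r, hr⟩, by simp⟩
  · rintro x y ⟨x', rfl⟩ ⟨y', rfl⟩
    exact ⟨x' + y', map_add _ _ _⟩

theorem mulI_mem_of_mem_rel {x : F ⊗[R] I} (hx : x ∈ rel N I) :
    mulI (A := A) I x ∈ I • (N.restrictScalars R) := by
  obtain ⟨w, rfl⟩ := hx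
  induction w using TensorProduct.induction_on with
  | zero => simp
  | add x y hx hy =>
    rw [map_add, map_add]
    exact Submodule.add_mem _ hx hy
  | tmul n i =>
    rw [AlgebraTensorModule.rTensor_tmul, mulI_tmul]
    exact Submodule.smul_mem_smul i.2 n.2

theorem exists_mem_rel_mulI_eq {y : F} (hy : y ∈ I • (N.restrictScalars R)) :
    ∃ x : F ⊗[R] I, x ∈ rel N I ∧ mulI (A := A) I x = y := by
  refine Submodule.smul_induction_on hy ?_ ?_
  · intro r hr n hn
    exact ⟨n ⊗ₜ[R] ⟨r, hr⟩, tmul_mem_rel N hn _, by simp⟩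
  · rintro x y ⟨x', hx', rfl⟩ ⟨y', hy', rfl⟩
    exact ⟨x' + y', Submodule.add_mem _ hx' hy', map_add _ _ _⟩

theorem rid_rTensor_mkQ (z : F ⊗[R] R) :
    TensorProduct.rid R (F ⧸ N) (((N.mkQ.restrictScalars R).rTensor R) z) =
      N.mkQ (TensorProduct.rid R F z) := by
  induction z using TensorProduct.induction_on with
  | zero => simp
  | add x y hx hy => simp only [map_add, hx, hy]
  | tmul e r => simp

theorem lTensor_mem_rel_iff (x : F ⊗[R] I) :
    (I.subtype.lTensor F) x ∈ rel N R ↔ mulI (A := A) I x ∈ N := by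
  rw [mem_rel_iff_mkQ, ← (TensorProduct.rid R (F ⧸ N)).map_eq_zero_iff, rid_rTensor_mkQ,
    Submodule.mkQ_apply, Submodule.Quotient.mk_eq_zero]
  rfl

/-- **Submodule form, `⇐`.** -/
theorem torsion_of_forall_mem [Module.Flat R F]
    (h : ∀ y ∈ N, y ∈ I • (⊤ : Submodule R F) → ∃ t ∈ T, t • y ∈ I • (N.restrictScalars R)) :
    ∀ x : (F ⧸ N) ⊗[R] I, (I.subtype.lTensor (F ⧸ N)) x = 0 → ∃ t ∈ T, t • x = 0 := by
  apply torsion_of_pres N T I.subtype
  intro x hx
  rw [lTensor_mem_rel_iff] at hx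
  obtain ⟨t, ht, hty⟩ := h _ hx (mulI_mem_smul_top I x)
  obtain ⟨w, hw, hwy⟩ := exists_mem_rel_mulI_eq N I hty
  refine ⟨t, ht, ?_⟩
  have : t • x = w := by
    apply mulI_injective (A := A) I
    rw [map_smul, hwy]
  rw [this]
  exact hw

/-- **Submodule form, `⇒`.** -/
theorem forall_mem_of_torsion
    (h : ∀ x : (F ⧸ N) ⊗[R] I, (I.subtype.lTensor (F ⧸ N)) x = 0 → ∃ t ∈ T, t • x = 0) :
    ∀ y ∈ N, y ∈ I • (⊤ : Submodule R F) → ∃ t ∈ T, t • y ∈ I • (N.restrictScalars R) := by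
  intro y hyN hyI
  obtain ⟨x, rfl⟩ := exists_mulI_eq (A := A) I hyI
  have hx : (I.subtype.lTensor F) x ∈ rel N R := (lTensor_mem_rel_iff N I x).mpr hyN
  obtain ⟨t, ht, htx⟩ := pres_of_torsion N T I.subtype h x hx
  refine ⟨t, ht, ?_⟩
  rw [← map_smul]
  exact mulI_mem_of_mem_rel N I htx

end Sub

section Loc

variable {R A : Type*} [CommRing R] [CommRing A] [Algebra R A]
  {F : Type*} [AddCommGroup F] [Module R F] [Module A F] [IsScalarTower R A F]
  (N : Submodule A F) (T : Submonoid A)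
  {L : Type*} [AddCommGroup L] [Module R L] [Module A L] [IsScalarTower R A L]
  (g : (F ⧸ N) →ₗ[A] L) [IsLocalizedModule T g]
  {P P' : Type*} [AddCommGroup P] [Module R P] [AddCommGroup P'] [Module R P']
  (φ : P →ₗ[R] P')

include g in
theorem injective_lTensor_of_pres
    (h : ∀ x : F ⊗[R] P, (φ.lTensor F) x ∈ rel N P' → ∃ t ∈ T, t • x ∈ rel N P) :
    Function.Injective (φ.lTensor L) :=
  (lTensor_injective_iff T g φ).mpr (torsion_of_pres N T φ h)

include g in
theorem pres_of_injective_lTensor (h : Function.Injective (φ.lTensor L)) :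
    ∀ x : F ⊗[R] P, (φ.lTensor F) x ∈ rel N P' → ∃ t ∈ T, t • x ∈ rel N P :=
  pres_of_torsion N T φ ((lTensor_injective_iff T g φ).mp h)

include g in
theorem injective_lTensor_of_forall_mem [Module.Flat R F] (I : Ideal R)
    (h : ∀ y ∈ N, y ∈ I • (⊤ : Submodule R F) → ∃ t ∈ T, t • y ∈ I • (N.restrictScalars R)) :
    Function.Injective (I.subtype.lTensor L) :=
  (lTensor_injective_iff T g I.subtype).mpr (torsion_of_forall_mem N T I h)

include g in
theorem forall_mem_of_flat (hL : Module.Flat R L) (I : Ideal R) :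
    ∀ y ∈ N, y ∈ I • (⊤ : Submodule R F) → ∃ t ∈ T, t • y ∈ I • (N.restrictScalars R) :=
  forall_mem_of_torsion N T I
    ((lTensor_injective_iff T g I.subtype).mp
      (Module.Flat.lTensor_preserves_injective_linearMap _ I.injective_subtype))

include g in
theorem flat_of_forall_mem [Module.Flat R F]
    (h : ∀ (I : Ideal R), ∀ y ∈ N, y ∈ I • (⊤ : Submodule R F) →
      ∃ t ∈ T, t • y ∈ I • (N.restrictScalars R)) : Module.Flat R L := by
  rw [Module.Flat.iff_lTensor_injective']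
  intro I
  exact injective_lTensor_of_forall_mem N T g I (h I)

end Loc

end Groth.Agent.Lib.helper3.FlatDesc
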