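import Mathlib
import Groth.Agent.Lib.Helper3.FlatLocus1
import Groth.Agent.Lib.Helper11.GenFree8
import Groth.Agent.Lib.Helper8.LocalFlat
/-!
# Openness of the flat locus, Noetherian case: the generic-freeness part (helper3)

`exists_notMem_forall_ideal_quotient` : `A` a finite type `R`-algebra, `M` a finite `A`-module, `p` a
prime of `R`. There is `f ∉ p` such that for every ideal `𝔟` of `R ⧸ p`, every element of
`ker (M ⊗[R] 𝔟 → M ⊗[R] R ⧸ p)` is killed by a power of `f`.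
-/

set_option autoImplicit false
universe u

open TensorProduct

namespace Groth.Agent.Lib.helper3.FlatLocus

open Groth.Agent.Lib.helper11.GenFree Groth.Agent.Lib.helper8.LocalFlat

theorem exists_generic_free (R A : Type u) [CommRing R] [CommRing A] [Algebra R A]
    [Algebra.FiniteType R A]
    (M : Type u) [AddCommGroup M] [Module R M] [Module A M] [IsScalarTower R A M]
    [Module.Finite A M] (p : Ideal R) [p.IsPrime] :
    ∃ a : R ⧸ p, a ≠ 0 ∧ Module.Free (Localization.Away a)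
      (Localization.Away a ⊗[R ⧸ p] ((R ⧸ p) ⊗[R] M)) := by
  let _ : Algebra A ((R ⧸ p) ⊗[R] A) := Algebra.TensorProduct.rightAlgebra
  obtain ⟨a, ha, hPF⟩ := GF_of_finiteType_domain (R := R ⧸ p) ((R ⧸ p) ⊗[R] A)
    (((R ⧸ p) ⊗[R] A) ⊗[A] M)
  refine ⟨a, ha, ?_⟩
  exact PF.of_equiv (Algebra.IsPushout.cancelBaseChange R (R ⧸ p) A ((R ⧸ p) ⊗[R] A) M) hPF

theorem exists_notMem_forall_ideal_quotient
    (R A : Type u) [CommRing R] [CommRing A] [Algebra R A] [Algebra.FiniteType R A]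
    (M : Type u) [AddCommGroup M] [Module R M] [Module A M] [IsScalarTower R A M]
    [Module.Finite A M] (p : Ideal R) [p.IsPrime] :
    ∃ f : R, f ∉ p ∧ ∀ (𝔟 : Ideal (R ⧸ p)) (x : M ⊗[R] 𝔟),
      ((𝔟.subtype.restrictScalars R).lTensor M) x = 0 → ∃ n : ℕ, f ^ n • x = 0 := by
  obtain ⟨a, ha, hfree⟩ := exists_generic_free R A M p
  obtain ⟨f, rfl⟩ := Ideal.Quotient.mk_surjective a
  refine ⟨f, fun hf => ha (Ideal.Quotient.eq_zero_iff_mem.mpr hf), ?_⟩
  set a := Ideal.Quotient.mk p f with ha_def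
  have hflat : Module.Flat (R ⧸ p) (Localization.Away a ⊗[R ⧸ p] ((R ⧸ p) ⊗[R] M)) := by
    haveI : Module.Flat (Localization.Away a)
      (Localization.Away a ⊗[R ⧸ p] ((R ⧸ p) ⊗[R] M)) := Module.Flat.of_free
    haveI : Module.Flat (R ⧸ p) (Localization.Away a) :=
      IsLocalization.flat _ (Submonoid.powers a)
    exact Module.Flat.trans (R ⧸ p) (Localization.Away a) _
  intro 𝔟 x hx
  have key := (lTensor_injective_iff (R := R ⧸ p) (A := R ⧸ p) (Submonoid.powers a)
    (TensorProduct.mk (R ⧸ p) (Localization.Away a) ((R ⧸ p) ⊗[R] M) 1) 𝔟.subtype).mp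
    (Module.Flat.lTensor_preserves_injective_linearMap _ 𝔟.injective_subtype)
  let e := AlgebraTensorModule.cancelBaseChange R (R ⧸ p) (R ⧸ p) 𝔟 M
  let e' := AlgebraTensorModule.cancelBaseChange R (R ⧸ p) (R ⧸ p) (R ⧸ p) M
  set x' := TensorProduct.comm R M 𝔟 x with hx'
  set z' := e.symm x' with hz'
  set z := TensorProduct.comm (R ⧸ p) 𝔟 ((R ⧸ p) ⊗[R] M) z' with hz
  have h1 : ((𝔟.subtype.restrictScalars R).rTensor M) x' = 0 := by
    have := LinearMap.congr_fun
      (LinearMap.comm_comp_lTensor_comp_comm_eq (R := R) (Q := M)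
        (𝔟.subtype.restrictScalars R)) x'
    rw [← this]
    simp only [LinearMap.coe_comp, LinearEquiv.coe_coe, Function.comp_apply, hx']
    rw [show (TensorProduct.comm R (↥𝔟) M) ((TensorProduct.comm R M ↥𝔟) x) = x from
      (TensorProduct.comm R M 𝔟).symm_apply_apply x, hx, map_zero]
  have h2 : (𝔟.subtype.rTensor ((R ⧸ p) ⊗[R] M)) z' = 0 := by
    apply e'.injective
    rw [map_zero, ← cancelBaseChange_rTensor, hz', LinearEquiv.apply_symm_apply]
    exact h1
  have h3 : (𝔟.subtype.lTensor ((R ⧸ p) ⊗[R] M)) z = 0 := by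
    have := LinearMap.congr_fun
      (LinearMap.comm_comp_rTensor_comp_comm_eq (R := R ⧸ p) (Q := (R ⧸ p) ⊗[R] M)
        𝔟.subtype) z
    rw [← this]
    simp only [LinearMap.coe_comp, LinearEquiv.coe_coe, Function.comp_apply, hz]
    rw [show (TensorProduct.comm (R ⧸ p) ((R ⧸ p) ⊗[R] M) 𝔟)
        ((TensorProduct.comm (R ⧸ p) 𝔟 ((R ⧸ p) ⊗[R] M)) z') = z' from
      (TensorProduct.comm (R ⧸ p) 𝔟 ((R ⧸ p) ⊗[R] M)).symm_apply_apply z', h2, map_zero]
  obtain ⟨t, ⟨n, rfl⟩, htz⟩ := key z h3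
  refine ⟨n, ?_⟩
  have h4 : a ^ n • z' = 0 := by
    apply (TensorProduct.comm (R ⧸ p) 𝔟 ((R ⧸ p) ⊗[R] M)).injective
    rw [map_smul, map_zero]
    exact htz
  have h5 : a ^ n • x' = 0 := by
    have : e (a ^ n • z') = 0 := by rw [h4, map_zero]
    rw [map_smul, hz', LinearEquiv.apply_symm_apply] at this
    exact this
  have h6 : f ^ n • x' = 0 := by
    rw [← h5, ha_def, ← map_pow, ← Ideal.Quotient.algebraMap_eq, algebraMap_smul]
  apply (TensorProduct.comm R M 𝔟).injective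
  rw [map_smul, map_zero]
  exact h6

end Groth.Agent.Lib.helper3.FlatLocus
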