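import Mathlib
import Groth.Agent.Lib.Helper3.FlatDescA
import Groth.Agent.Lib.Helper3.FlatLocus3
/-!
# Base change of `Tor₁(-, R/p)` up to `f`-torsion (helper3)

`R` a ring, `p` an ideal, `A` an `R`-algebra, `F` a flat `R`-module which is an `A`-module,
`N ⊆ F` an `A`-submodule, `f : R`.

* `GenFlat N p f` : "`((F ⧸ N) / p)_f` is flat over `R ⧸ p`", in presentation form.
* `exists_genFlat` : generic flatness gives `f ∉ p` with `GenFlat N p f` (Noetherian, finite type).
* `Dsub N p = N ⊓ p F`.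
* `exists_mem_range_of_genFlat` (core) : for an `R ⧸ p`-module `Q`, the kernel of
  `N ⊗ Q → F ⊗ Q` is, up to `f`-power torsion, the image of `Dsub N p ⊗ Q`.
* `exists_sub_mem_rel_of_genFlat` (AS) : for `J ⊆ Y` with `p Y ⊆ J`, `x ∈ F ⊗ J` with image in
  `F ⊗ Y` lying in `rel N Y`: `fⁿ x = u + x'` with `u ∈ rel N J` and the image of `x'` in `F ⊗ Y` lying
  in `rel (Dsub N p) Y`.
-/

set_option autoImplicit false
universe u

open TensorProduct

namespace Groth.Agent.Lib.helper3.FlatDesc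

open Groth.Agent.Lib.helper3.FlatLocus Groth.Agent.Lib.helper8.LocalFlat

section Gen

/-- generalization of `exists_notMem_forall_ideal_quotient` to arbitrary injective maps of
`R ⧸ p`-modules. -/
theorem exists_notMem_forall_injective
    (R A : Type u) [CommRing R] [CommRing A] [Algebra R A] [Algebra.FiniteType R A]
    (M : Type u) [AddCommGroup M] [Module R M] [Module A M] [IsScalarTower R A M]
    [Module.Finite A M] (p : Ideal R) [p.IsPrime] :
    ∃ f : R, f ∉ p ∧ ∀ (K G : Type u) [AddCommGroup K] [AddCommGroup G] [Module R K]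
      [Module (R ⧸ p) K] [IsScalarTower R (R ⧸ p) K] [Module R G] [Module (R ⧸ p) G]
      [IsScalarTower R (R ⧸ p) G] (φ : K →ₗ[R ⧸ p] G), Function.Injective φ →
      ∀ x : M ⊗[R] K, ((φ.restrictScalars R).lTensor M) x = 0 → ∃ n : ℕ, f ^ n • x = 0 := by
  obtain ⟨a, ha, hfree⟩ := exists_generic_free R A M p
  obtain ⟨f, rfl⟩ := Ideal.Quotient.mk_surjective a
  refine ⟨f, fun hf => ha (Ideal.Quotient.eq_zero_iff_mem.mpr hf), ?_⟩
  set a := Ideal.Quotient.mk p f with ha_def
  have hflat : Module.Flat (R ⧸ p) (Localization.Away a ⊗[R ⧸ p] ((R ⧸ p) ⊗[R] M)) := by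
    haveI : Module.Flat (Localization.Away a)
      (Localization.Away a ⊗[R ⧸ p] ((R ⧸ p) ⊗[R] M)) := Module.Flat.of_free
    haveI : Module.Flat (R ⧸ p) (Localization.Away a) :=
      IsLocalization.flat _ (Submonoid.powers a)
    exact Module.Flat.trans (R ⧸ p) (Localization.Away a) _
  intro K G _ _ _ _ _ _ _ _ φ hφ x hx
  have key := (lTensor_injective_iff (R := R ⧸ p) (A := R ⧸ p) (Submonoid.powers a)
    (TensorProduct.mk (R ⧸ p) (Localization.Away a) ((R ⧸ p) ⊗[R] M) 1) φ).mp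
    (Module.Flat.lTensor_preserves_injective_linearMap _ hφ)
  let e := AlgebraTensorModule.cancelBaseChange R (R ⧸ p) (R ⧸ p) K M
  let e' := AlgebraTensorModule.cancelBaseChange R (R ⧸ p) (R ⧸ p) G M
  set x' := TensorProduct.comm R M K x with hx'
  set z' := e.symm x' with hz'
  set z := TensorProduct.comm (R ⧸ p) K ((R ⧸ p) ⊗[R] M) z' with hz
  have h1 : ((φ.restrictScalars R).rTensor M) x' = 0 := by
    have := LinearMap.congr_fun
      (LinearMap.comm_comp_lTensor_comp_comm_eq (R := R) (Q := M)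
        (φ.restrictScalars R)) x'
    rw [← this]
    simp only [LinearMap.coe_comp, LinearEquiv.coe_coe, Function.comp_apply, hx']
    rw [show (TensorProduct.comm R K M) ((TensorProduct.comm R M K) x) = x from
      (TensorProduct.comm R M K).symm_apply_apply x, hx, map_zero]
  have h2 : (φ.rTensor ((R ⧸ p) ⊗[R] M)) z' = 0 := by
    apply e'.injective
    rw [map_zero, ← cancelBaseChange_rTensor, hz', LinearEquiv.apply_symm_apply]
    exact h1
  have h3 : (φ.lTensor ((R ⧸ p) ⊗[R] M)) z = 0 := by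
    have := LinearMap.congr_fun
      (LinearMap.comm_comp_rTensor_comp_comm_eq (R := R ⧸ p) (Q := (R ⧸ p) ⊗[R] M)
        φ) z
    rw [← this]
    simp only [LinearMap.coe_comp, LinearEquiv.coe_coe, Function.comp_apply, hz]
    rw [show (TensorProduct.comm (R ⧸ p) ((R ⧸ p) ⊗[R] M) K)
        ((TensorProduct.comm (R ⧸ p) K ((R ⧸ p) ⊗[R] M)) z') = z' from
      (TensorProduct.comm (R ⧸ p) K ((R ⧸ p) ⊗[R] M)).symm_apply_apply z', h2, map_zero]
  obtain ⟨t, ⟨n, rfl⟩, htz⟩ := key z h3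
  refine ⟨n, ?_⟩
  have h4 : a ^ n • z' = 0 := by
    apply (TensorProduct.comm (R ⧸ p) K ((R ⧸ p) ⊗[R] M)).injective
    rw [map_smul, map_zero]
    exact htz
  have h5 : a ^ n • x' = 0 := by
    have : e (a ^ n • z') = 0 := by rw [h4, map_zero]
    rw [map_smul, hz', LinearEquiv.apply_symm_apply] at this
    exact this
  have h6 : f ^ n • x' = 0 := by
    rw [← h5, ha_def, ← map_pow, ← Ideal.Quotient.algebraMap_eq, algebraMap_smul]
  apply (TensorProduct.comm R M K).injective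
  rw [map_smul, map_zero]
  exact h6

end Gen

section Core

variable {R : Type u} {A : Type*} [CommRing R] [CommRing A] [Algebra R A]
  {F : Type*} [AddCommGroup F] [Module R F] [Module A F] [IsScalarTower R A F]
  (N : Submodule A F) (p : Ideal R) (f : R)

/-- "`((F ⧸ N) / p)_f` is flat over `R ⧸ p`", in presentation form. -/
def GenFlat : Prop :=
  ∀ (K G : Type u) [AddCommGroup K] [AddCommGroup G] [Module R K]
    [Module (R ⧸ p) K] [IsScalarTower R (R ⧸ p) K] [Module R G] [Module (R ⧸ p) G]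
    [IsScalarTower R (R ⧸ p) G] (φ : K →ₗ[R ⧸ p] G), Function.Injective φ →
    ∀ x : F ⊗[R] K, ((φ.restrictScalars R).lTensor F) x ∈ rel N G →
      ∃ n : ℕ, f ^ n • x ∈ rel N K

/-- `N ⊓ p F` as an `A`-submodule. -/
def Dsub : Submodule A F where
  carrier := {y | y ∈ N ∧ y ∈ p • (⊤ : Submodule R F)}
  add_mem' := fun ha hb => ⟨N.add_mem ha.1 hb.1, Submodule.add_mem _ ha.2 hb.2⟩
  zero_mem' := ⟨N.zero_mem, Submodule.zero_mem _⟩
  smul_mem' := by
    intro a y hy
    refine ⟨N.smul_mem a hy.1, ?_⟩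
    refine Submodule.smul_induction_on hy.2 ?_ ?_
    · intro r hr n _
      rw [smul_comm]
      exact Submodule.smul_mem_smul hr Submodule.mem_top
    · intro x y hx hy
      rw [smul_add]
      exact Submodule.add_mem _ hx hy

theorem mem_Dsub {y : F} : y ∈ Dsub N p ↔ y ∈ N ∧ y ∈ p • (⊤ : Submodule R F) := Iff.rfl

theorem Dsub_le : Dsub N p ≤ N := fun _ hy => hy.1

theorem rl_comm {X X' Y Y' : Type*} [AddCommGroup X] [Module R X] [AddCommGroup X'] [Module R X']
    [AddCommGroup Y] [Module R Y] [AddCommGroup Y'] [Module R Y']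
    (α : X →ₗ[R] X') (β : Y →ₗ[R] Y') (w : X ⊗[R] Y) :
    (α.rTensor Y') ((β.lTensor X) w) = (β.lTensor X') ((α.rTensor Y) w) := by
  rw [← LinearMap.comp_apply, ← LinearMap.comp_apply, LinearMap.rTensor_comp_lTensor,
    LinearMap.lTensor_comp_rTensor]

/-- the inclusion `Dsub N p → N` as an `R`-linear map. -/
noncomputable def inclD : Dsub N p →ₗ[R] N :=
  (Submodule.inclusion (Dsub_le N p)).restrictScalars R

theorem exists_eq_tmul_one (c : N ⊗[R] (R ⧸ p)) : ∃ n : N, c = n ⊗ₜ[R] (1 : R ⧸ p) := by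
  induction c using TensorProduct.induction_on with
  | zero => exact ⟨0, by simp⟩
  | add x y hx hy =>
    obtain ⟨n, rfl⟩ := hx
    obtain ⟨m, rfl⟩ := hy
    exact ⟨n + m, by rw [TensorProduct.add_tmul]⟩
  | tmul n r =>
    obtain ⟨r, rfl⟩ := Ideal.Quotient.mk_surjective r
    refine ⟨r • n, ?_⟩
    rw [TensorProduct.smul_tmul]
    congr 1
    rw [← Ideal.Quotient.algebraMap_eq, Algebra.algebraMap_eq_smul_one]

theorem exists_mem_Dsub_of_rTensor_eq_zero (c : N ⊗[R] (R ⧸ p))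
    (hc : ((N.subtype.restrictScalars R).rTensor (R ⧸ p)) c = 0) :
    ∃ n : N, n.1 ∈ Dsub N p ∧ c = n ⊗ₜ[R] (1 : R ⧸ p) := by
  obtain ⟨n, rfl⟩ := exists_eq_tmul_one N p c
  refine ⟨n, ⟨n.2, ?_⟩, rfl⟩
  have h1 : (n.1 : F) ⊗ₜ[R] (1 : R ⧸ p) = 0 := hc
  have h2 := congrArg (TensorProduct.tensorQuotEquivQuotSMul F p) h1
  rw [map_zero, ← map_one (Ideal.Quotient.mk p),
    TensorProduct.tensorQuotEquivQuotSMul_tmul_mk, one_smul,
    Submodule.Quotient.mk_eq_zero] at h2
  exact h2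

theorem mem_range_of_rTensor_eq_zero_finsupp (Q : Type*) (g : N ⊗[R] (Q →₀ (R ⧸ p)))
    (hg : ((N.subtype.restrictScalars R).rTensor (Q →₀ R ⧸ p)) g = 0) :
    g ∈ LinearMap.range ((inclD N p).rTensor (Q →₀ R ⧸ p)) := by
  classical
  let eN := TensorProduct.finsuppRight R R N (R ⧸ p) Q
  have h1 : g = eN.symm (eN g) := (eN.symm_apply_apply g).symm
  rw [h1, ← Finsupp.sum_single (eN g), Finsupp.sum, map_sum]
  refine Submodule.sum_mem _ fun q _ => ?_
  have h2 : ((N.subtype.restrictScalars R).rTensor (R ⧸ p)) ((eN g) q) = 0 := by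
    rw [TensorProduct.finsuppRight_apply, rl_comm, hg, map_zero]
  obtain ⟨n, hn, hc⟩ := exists_mem_Dsub_of_rTensor_eq_zero N p _ h2
  rw [hc, TensorProduct.finsuppRight_symm_apply_single]
  exact ⟨(⟨n.1, hn⟩ : Dsub N p) ⊗ₜ[R] Finsupp.single q 1, rfl⟩

theorem core_abstract (hG : GenFlat N p f)
    (Q G : Type u) [AddCommGroup Q] [Module R Q] [Module (R ⧸ p) Q] [IsScalarTower R (R ⧸ p) Q]
    [AddCommGroup G] [Module R G] [Module (R ⧸ p) G] [IsScalarTower R (R ⧸ p) G]
    (ρ : G →ₗ[R ⧸ p] Q) (hρ : Function.Surjective ρ)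
    (hPi : ∀ g : N ⊗[R] G, ((N.subtype.restrictScalars R).rTensor G) g = 0 →
      g ∈ LinearMap.range ((inclD N p).rTensor G))
    (z : N ⊗[R] Q) (hz : ((N.subtype.restrictScalars R).rTensor Q) z = 0) :
    ∃ n : ℕ, f ^ n • z ∈ LinearMap.range ((inclD N p).rTensor Q) := by
  let φ : LinearMap.ker ρ →ₗ[R ⧸ p] G := (LinearMap.ker ρ).subtype
  have hφ : Function.Injective φ := (LinearMap.ker ρ).injective_subtype
  have hex : Function.Exact (φ.restrictScalars R) (ρ.restrictScalars R) :=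
    LinearMap.exact_subtype_ker_map ρ
  have hρR : Function.Surjective (ρ.restrictScalars R) := hρ
  -- 1
  obtain ⟨g, rfl⟩ := LinearMap.lTensor_surjective N hρR z
  -- 2
  have h2 : ((ρ.restrictScalars R).lTensor F)
      (((N.subtype.restrictScalars R).rTensor G) g) = 0 := by
    rw [← rl_comm, hz]
  obtain ⟨k', hk'⟩ := (lTensor_exact F hex hρR _).mp h2
  -- 3
  have h3 : ((φ.restrictScalars R).lTensor F) k' ∈ rel N G := by
    rw [hk']; exact ⟨g, rfl⟩
  obtain ⟨n, k3, hk3⟩ := hG _ _ φ hφ k' h3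
  have hk3' : ((N.subtype.restrictScalars R).rTensor _) k3 = f ^ n • k' := hk3
  -- 4
  have h4 : ((N.subtype.restrictScalars R).rTensor G)
      (f ^ n • g - ((φ.restrictScalars R).lTensor N) k3) = 0 := by
    rw [map_sub, map_smul, rl_comm, hk3', map_smul, hk', sub_self]
  have h5 : ((ρ.restrictScalars R).lTensor N) (f ^ n • g - ((φ.restrictScalars R).lTensor N) k3)
      = f ^ n • ((ρ.restrictScalars R).lTensor N) g := by
    rw [map_sub, map_smul]
    have : ((ρ.restrictScalars R).lTensor N) (((φ.restrictScalars R).lTensor N) k3) = 0 :=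
      (lTensor_exact N hex hρR _).mpr ⟨k3, rfl⟩
    rw [this, sub_zero]
  -- 5
  obtain ⟨dG, hdG⟩ := hPi _ h4
  refine ⟨n, ((ρ.restrictScalars R).lTensor (Dsub N p)) dG, ?_⟩
  rw [rl_comm, hdG, h5]

/-- **Core.** For an `R ⧸ p`-module `Q`, the kernel of `N ⊗ Q → F ⊗ Q` is, up to `f`-power torsion,
the image of `Dsub N p ⊗ Q`. -/
theorem exists_mem_range_of_genFlat (hG : GenFlat N p f)
    (Q : Type u) [AddCommGroup Q] [Module R Q] [Module (R ⧸ p) Q] [IsScalarTower R (R ⧸ p) Q]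
    (z : N ⊗[R] Q) (hz : ((N.subtype.restrictScalars R).rTensor Q) z = 0) :
    ∃ n : ℕ, f ^ n • z ∈ LinearMap.range ((inclD N p).rTensor Q) := by
  classical
  refine core_abstract N p f hG Q (Q →₀ (R ⧸ p)) (Finsupp.linearCombination (R ⧸ p) id)
    (fun q => ⟨Finsupp.single q 1, by simp⟩)
    (mem_range_of_rTensor_eq_zero_finsupp N p Q) z hz

/-- **(AS).** -/
theorem exists_sub_mem_rel_of_genFlat (hG : GenFlat N p f)
    {J Y Q : Type u} [AddCommGroup J] [Module R J] [AddCommGroup Y] [Module R Y]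
    [AddCommGroup Q] [Module R Q] [Module (R ⧸ p) Q] [IsScalarTower R (R ⧸ p) Q]
    (ι : J →ₗ[R] Y) (π : Y →ₗ[R] Q) (hex : Function.Exact ι π) (hπ : Function.Surjective π)
    (x : F ⊗[R] J) (hx : (ι.lTensor F) x ∈ rel N Y) :
    ∃ n : ℕ, ∃ u ∈ rel N J, (ι.lTensor F) (f ^ n • x - u) ∈ rel (Dsub N p) Y := by
  obtain ⟨w, hw⟩ := hx
  have hw' : ((N.subtype.restrictScalars R).rTensor Y) w = (ι.lTensor F) x := hw
  have hz : ((N.subtype.restrictScalars R).rTensor Q) ((π.lTensor N) w) = 0 := by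
    rw [rl_comm, hw']
    exact (lTensor_exact F hex hπ _).mpr ⟨x, rfl⟩
  obtain ⟨n, d, hd⟩ := exists_mem_range_of_genFlat N p f hG Q _ hz
  obtain ⟨d', rfl⟩ := LinearMap.lTensor_surjective (Dsub N p) hπ d
  have h1 : (π.lTensor N) (f ^ n • w - ((inclD N p).rTensor Y) d') = 0 := by
    rw [map_sub, map_smul, ← hd, rl_comm, sub_self]
  obtain ⟨u0, hu0⟩ := (lTensor_exact N hex hπ _).mp h1
  refine ⟨n, ((N.subtype.restrictScalars R).rTensor J) u0, ⟨u0, rfl⟩, ?_⟩
  refine ⟨d', ?_⟩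
  change (((Dsub N p).subtype.restrictScalars R).rTensor Y) d' = _
  rw [map_sub, map_smul, ← hw', ← rl_comm, hu0, map_sub, map_smul, sub_sub_cancel,
    ← LinearMap.comp_apply, ← LinearMap.rTensor_comp]
  rfl

end Core

section Exists

/-- generic flatness gives `f ∉ p` with `GenFlat N p f`. -/
theorem exists_genFlat {R A F : Type u} [CommRing R] [CommRing A] [Algebra R A]
    [Algebra.FiniteType R A] [AddCommGroup F] [Module R F] [Module A F] [IsScalarTower R A F]
    (N : Submodule A F) [Module.Finite A (F ⧸ N)] (p : Ideal R) [p.IsPrime] :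
    ∃ f : R, f ∉ p ∧ GenFlat N p f := by
  obtain ⟨f, hf, h⟩ := exists_notMem_forall_injective R A (F ⧸ N) p
  refine ⟨f, hf, ?_⟩
  intro K G _ _ _ _ _ _ _ _ φ hφ x hx
  have key := pres_of_torsion N (Submonoid.powers (algebraMap R A f)) (φ.restrictScalars R) ?_ x hx
  · obtain ⟨t, ⟨n, rfl⟩, ht⟩ := key
    refine ⟨n, ?_⟩
    have ht' : (algebraMap R A f) ^ n • x ∈ rel N K := ht
    rw [← map_pow, algebraMap_smul] at ht'
    exact ht'
  · intro y hy
    obtain ⟨n, hn⟩ := h K G φ hφ y hy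
    refine ⟨(algebraMap R A f) ^ n, ⟨n, rfl⟩, ?_⟩
    rw [← map_pow, algebraMap_smul]
    exact hn

end Exists

section Torsion

variable {R : Type u} {A : Type*} [CommRing R] [CommRing A] [Algebra R A]
  {F : Type*} [AddCommGroup F] [Module R F] [Module A F] [IsScalarTower R A F]
  {N : Submodule A F} {p : Ideal R} {f : R}

/-- `GenFlat` applied to `R`-modules killed by `p`. -/
theorem GenFlat.of_torsion (hG : GenFlat N p f) {K G : Type u} [AddCommGroup K] [AddCommGroup G]
    [Module R K] [Module R G] (hK : ∀ r ∈ p, ∀ x : K, r • x = 0)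
    (hG' : ∀ r ∈ p, ∀ x : G, r • x = 0)
    (φ : K →ₗ[R] G) (hφ : Function.Injective φ) (x : F ⊗[R] K)
    (hx : (φ.lTensor F) x ∈ rel N G) :
    ∃ n : ℕ, f ^ n • x ∈ rel N K := by
  have hK' : Module.IsTorsionBySet R K p := fun x a => hK a.1 a.2 x
  have hG'' : Module.IsTorsionBySet R G p := fun x a => hG' a.1 a.2 x
  letI := hK'.module
  letI := hG''.module
  haveI : IsScalarTower R (R ⧸ p) K := Module.IsTorsionBySet.isScalarTower hK'
  haveI : IsScalarTower R (R ⧸ p) G := Module.IsTorsionBySet.isScalarTower hG''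
  let φ' : K →ₗ[R ⧸ p] G :=
    { toFun := φ
      map_add' := φ.map_add
      map_smul' := by
        intro c x
        obtain ⟨r, rfl⟩ := Ideal.Quotient.mk_surjective c
        exact φ.map_smul r x }
  exact hG K G φ' hφ x hx

/-- **(AS)** for a quotient `Q` killed by `p`. -/
theorem exists_sub_mem_rel_of_genFlat' (hG : GenFlat N p f)
    {J Y Q : Type u} [AddCommGroup J] [Module R J] [AddCommGroup Y] [Module R Y]
    [AddCommGroup Q] [Module R Q] (hQ : ∀ r ∈ p, ∀ x : Q, r • x = 0)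
    (ι : J →ₗ[R] Y) (π : Y →ₗ[R] Q) (hex : Function.Exact ι π) (hπ : Function.Surjective π)
    (x : F ⊗[R] J) (hx : (ι.lTensor F) x ∈ rel N Y) :
    ∃ n : ℕ, ∃ u ∈ rel N J, (ι.lTensor F) (f ^ n • x - u) ∈ rel (Dsub N p) Y := by
  have hQ' : Module.IsTorsionBySet R Q p := fun x a => hQ a.1 a.2 x
  letI := hQ'.module
  haveI : IsScalarTower R (R ⧸ p) Q := Module.IsTorsionBySet.isScalarTower hQ'
  exact exists_sub_mem_rel_of_genFlat N p f hG ι π hex hπ x hx

end Torsion

end Groth.Agent.Lib.helper3.FlatDesc
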