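import Mathlib
import Groth.Agent.Lib.Helper3.FlatDescB
/-!
# The concrete model `Fin b → MvPolynomial (Fin n) B` and change of coefficient ring (helper3)

For a ring map `B → B'`:
* `mapF : (Fin b → MvPolynomial (Fin n) B) →ₗ[B] (Fin b → MvPolynomial (Fin n) B')`.
* `eta P : (Fin b → MvPolynomial (Fin n) B) ⊗[B] P ≃+ (Fin b → MvPolynomial (Fin n) B') ⊗[B'] P`
  for a `B'`-module `P`, `x ⊗ p ↦ mapF x ⊗ p`, semilinear, natural in `P`, compatible with `rel`.
* `pres_transfer` : the presentation criterion transfers from level `B` to level `B'`.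
-/

set_option autoImplicit false
universe u

open TensorProduct

namespace Groth.Agent.Lib.helper3.FlatDesc

section Model

variable (n b : ℕ) {B B' : Type*} [CommRing B] [CommRing B'] [Algebra B B']

/-- coefficientwise base change of polynomial vectors. -/
noncomputable def mapF :
    (Fin b → MvPolynomial (Fin n) B) →ₗ[B] (Fin b → MvPolynomial (Fin n) B') :=
  ((MvPolynomial.mapAlgHom (Algebra.ofId B B')).toLinearMap).compLeft (Fin b)

variable {n b}

@[simp]
theorem mapF_apply (x : Fin b → MvPolynomial (Fin n) B) (i : Fin b) :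
    mapF n b (B' := B') x i = MvPolynomial.map (algebraMap B B') (x i) := rfl

theorem mapF_smul (a : MvPolynomial (Fin n) B) (x : Fin b → MvPolynomial (Fin n) B) :
    mapF n b (B' := B') (a • x) = MvPolynomial.map (algebraMap B B') a • mapF n b x := by
  ext i : 1
  simp

theorem mapF_smul' (c : B) (x : Fin b → MvPolynomial (Fin n) B) :
    mapF n b (B' := B') (c • x) = algebraMap B B' c • mapF n b x := by
  rw [map_smul, algebraMap_smul]

theorem mapF_injective (h : Function.Injective (algebraMap B B')) :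
    Function.Injective (mapF n b (B := B) (B' := B')) := by
  intro x y hxy
  ext i : 1
  apply MvPolynomial.map_injective _ h
  have := congrFun hxy i
  simpa using this

theorem mapF_mapF {B'' : Type*} [CommRing B''] [Algebra B B''] [Algebra B' B'']
    [IsScalarTower B B' B''] (x : Fin b → MvPolynomial (Fin n) B) :
    mapF n b (B := B') (B' := B'') (mapF n b x) = mapF n b x := by
  ext i : 1
  simp only [mapF_apply, MvPolynomial.map_map]
  rw [← IsScalarTower.algebraMap_eq]

variable (n b B B') in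
/-- `B' ⊗[B] F_B ≃ F_B'`. -/
noncomputable def eF :
    B' ⊗[B] (Fin b → MvPolynomial (Fin n) B) ≃ₗ[B'] (Fin b → MvPolynomial (Fin n) B') :=
  (TensorProduct.piRight B B' B' (fun _ : Fin b => MvPolynomial (Fin n) B)) ≪≫ₗ
    LinearEquiv.piCongrRight
      (fun _ => (MvPolynomial.algebraTensorAlgEquiv (σ := Fin n) B B').toLinearEquiv)

theorem eF_tmul (c : B') (x : Fin b → MvPolynomial (Fin n) B) :
    eF n b B B' (c ⊗ₜ[B] x) = c • mapF n b x := by
  ext i : 1
  simp [eF]

variable (n b B) in
/-- `F_B ⊗[B] P ≃ F_B' ⊗[B'] P`. -/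
noncomputable def eta (P : Type*) [AddCommGroup P] [Module B P] [Module B' P]
    [IsScalarTower B B' P] :
    (Fin b → MvPolynomial (Fin n) B) ⊗[B] P ≃+ (Fin b → MvPolynomial (Fin n) B') ⊗[B'] P :=
  (TensorProduct.comm B _ P).toAddEquiv.trans <|
    (AlgebraTensorModule.cancelBaseChange B B' B' P
      (Fin b → MvPolynomial (Fin n) B)).symm.toAddEquiv.trans <|
    (TensorProduct.congr (LinearEquiv.refl B' P) (eF n b B B')).toAddEquiv.trans
      (TensorProduct.comm B' P _).toAddEquiv

variable {P P' : Type*} [AddCommGroup P] [Module B P] [Module B' P] [IsScalarTower B B' P]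
  [AddCommGroup P'] [Module B P'] [Module B' P'] [IsScalarTower B B' P']

@[simp]
theorem eta_tmul (x : Fin b → MvPolynomial (Fin n) B) (p : P) :
    eta n b B P (x ⊗ₜ[B] p) = mapF n b (B' := B') x ⊗ₜ[B'] p := by
  simp [eta, eF_tmul]

theorem eta_smul (a : MvPolynomial (Fin n) B) (z : (Fin b → MvPolynomial (Fin n) B) ⊗[B] P) :
    eta n b B P (a • z) = MvPolynomial.map (algebraMap B B') a • eta n b B (B' := B') P z := by
  induction z using TensorProduct.induction_on with
  | zero => simp
  | add x y hx hy => rw [smul_add, map_add, hx, hy, map_add, smul_add]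
  | tmul x p => rw [TensorProduct.smul_tmul', eta_tmul, eta_tmul, mapF_smul, TensorProduct.smul_tmul']

theorem eta_lTensor (φ : P →ₗ[B'] P') (z : (Fin b → MvPolynomial (Fin n) B) ⊗[B] P) :
    eta n b B P' (((φ.restrictScalars B).lTensor _) z) = (φ.lTensor _) (eta n b B (B' := B') P z) := by
  induction z using TensorProduct.induction_on with
  | zero => simp
  | add x y hx hy => simp only [map_add, hx, hy]
  | tmul x p => simp

end Model

section Rel

variable {n b c : ℕ} {B B' : Type*} [CommRing B] [CommRing B'] [Algebra B B']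
  (v : Fin c → (Fin b → MvPolynomial (Fin n) B))
  {P P' : Type*} [AddCommGroup P] [Module B P] [Module B' P] [IsScalarTower B B' P]
  [AddCommGroup P'] [Module B P'] [Module B' P'] [IsScalarTower B B' P']

/-- the submodule generated by the family `v`. -/
noncomputable abbrev NB : Submodule (MvPolynomial (Fin n) B) (Fin b → MvPolynomial (Fin n) B) :=
  Submodule.span _ (Set.range v)

variable (B') in
/-- the base-changed family. -/
noncomputable abbrev vmap : Fin c → (Fin b → MvPolynomial (Fin n) B') := fun l => mapF n b (v l)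

theorem mapF_mem_NB {x : Fin b → MvPolynomial (Fin n) B} (hx : x ∈ NB v) :
    mapF n b (B' := B') x ∈ NB (vmap B' v) := by
  induction hx using Submodule.span_induction with
  | mem x hx =>
    obtain ⟨l, rfl⟩ := hx
    exact Submodule.subset_span ⟨l, rfl⟩
  | zero => rw [map_zero]; exact Submodule.zero_mem _
  | add x y _ _ hx hy => rw [map_add]; exact Submodule.add_mem _ hx hy
  | smul a x _ hx => rw [mapF_smul]; exact Submodule.smul_mem _ _ hx

theorem eta_mem_rel {z : (Fin b → MvPolynomial (Fin n) B) ⊗[B] P} (hz : z ∈ rel (NB v) P) :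
    eta n b B (B' := B') P z ∈ rel (NB (vmap B' v)) P := by
  obtain ⟨w, rfl⟩ := hz
  induction w using TensorProduct.induction_on with
  | zero => simp
  | add x y hx hy => rw [map_add, map_add]; exact Submodule.add_mem _ hx hy
  | tmul x p =>
    rw [AlgebraTensorModule.rTensor_tmul, eta_tmul]
    exact tmul_mem_rel _ (mapF_mem_NB v x.2) p

theorem C_smul_eq (c' : B') (y : (Fin b → MvPolynomial (Fin n) B') ⊗[B'] P) :
    (MvPolynomial.C c' : MvPolynomial (Fin n) B') • y = c' • y := by
  rw [← MvPolynomial.algebraMap_eq, algebraMap_smul]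

theorem lTensor_lsmul (c' : B') (y : (Fin b → MvPolynomial (Fin n) B') ⊗[B'] P) :
    ((LinearMap.lsmul B' P c').lTensor _) y = c' • y := by
  induction y using TensorProduct.induction_on with
  | zero => simp
  | add x y hx hy => rw [map_add, hx, hy, smul_add]
  | tmul x p => simp

theorem lTensor_mem_rel {R A F : Type*} [CommRing R] [CommRing A] [Algebra R A] [AddCommGroup F]
    [Module R F] [Module A F] [IsScalarTower R A F] (N : Submodule A F)
    {Q Q' : Type*} [AddCommGroup Q] [Module R Q] [AddCommGroup Q'] [Module R Q']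
    (ψ : Q →ₗ[R] Q') {z : F ⊗[R] Q} (hz : z ∈ rel N Q) : (ψ.lTensor F) z ∈ rel N Q' := by
  obtain ⟨w, rfl⟩ := hz
  exact ⟨(ψ.lTensor N) w, (rl_comm (N.subtype.restrictScalars R) ψ w)⟩

theorem smul_mem_image (a' : MvPolynomial (Fin n) B') :
    ∀ z ∈ rel (NB v) P, ∃ z1 ∈ rel (NB v) P,
      eta n b B P z1 = a' • eta n b B (B' := B') P z := by
  induction a' using MvPolynomial.induction_on with
  | C c' =>
    intro z hz
    refine ⟨(((LinearMap.lsmul B' P c').restrictScalars B).lTensor _) z,
      lTensor_mem_rel _ _ hz, ?_⟩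
    rw [eta_lTensor, lTensor_lsmul, C_smul_eq]
  | add p q hp hq =>
    intro z hz
    obtain ⟨z1, hz1, h1⟩ := hp z hz
    obtain ⟨z2, hz2, h2⟩ := hq z hz
    exact ⟨z1 + z2, Submodule.add_mem _ hz1 hz2, by rw [map_add, h1, h2, add_smul]⟩
  | mul_X p i hp =>
    intro z hz
    obtain ⟨z1, hz1, h1⟩ := hp ((MvPolynomial.X i : MvPolynomial (Fin n) B) • z)
      (Submodule.smul_mem _ _ hz)
    refine ⟨z1, hz1, ?_⟩
    rw [h1, eta_smul, MvPolynomial.map_X, mul_smul]

theorem exists_of_mem_rel {z' : (Fin b → MvPolynomial (Fin n) B') ⊗[B'] P}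
    (hz' : z' ∈ rel (NB (vmap B' v)) P) :
    ∃ z ∈ rel (NB v) P, eta n b B (B' := B') P z = z' := by
  obtain ⟨w, rfl⟩ := hz'
  induction w using TensorProduct.induction_on with
  | zero => exact ⟨0, Submodule.zero_mem _, by simp⟩
  | add x y hx hy =>
    obtain ⟨z1, hz1, h1⟩ := hx
    obtain ⟨z2, hz2, h2⟩ := hy
    exact ⟨z1 + z2, Submodule.add_mem _ hz1 hz2, by rw [map_add, h1, h2, map_add]⟩
  | tmul x p =>
    rw [AlgebraTensorModule.rTensor_tmul]
    obtain ⟨x, hx⟩ := x
    change ∃ z ∈ rel (NB v) P, eta n b B (B' := B') P z = x ⊗ₜ[B'] p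
    induction hx using Submodule.span_induction with
    | mem x hx =>
      obtain ⟨l, rfl⟩ := hx
      exact ⟨v l ⊗ₜ[B] p, tmul_mem_rel _ (Submodule.subset_span (Set.mem_range_self l)) p, by simp⟩
    | zero => exact ⟨0, Submodule.zero_mem _, by simp⟩
    | add x y _ _ hx hy =>
      obtain ⟨z1, hz1, h1⟩ := hx
      obtain ⟨z2, hz2, h2⟩ := hy
      exact ⟨z1 + z2, Submodule.add_mem _ hz1 hz2, by rw [map_add, h1, h2, TensorProduct.add_tmul]⟩
    | smul a x _ hx =>
      obtain ⟨z1, hz1, h1⟩ := hx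
      obtain ⟨z2, hz2, h2⟩ := smul_mem_image v a z1 hz1
      exact ⟨z2, hz2, by rw [h2, h1, TensorProduct.smul_tmul']⟩

theorem eta_mem_rel_iff (z : (Fin b → MvPolynomial (Fin n) B) ⊗[B] P) :
    eta n b B (B' := B') P z ∈ rel (NB (vmap B' v)) P ↔ z ∈ rel (NB v) P := by
  constructor
  · intro h
    obtain ⟨z1, hz1, h1⟩ := exists_of_mem_rel v h
    rwa [← (eta n b B (B' := B') P).injective h1]
  · exact eta_mem_rel v

/-- **Transfer of the presentation criterion** from level `B` to level `B'`. -/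
theorem pres_transfer (T : Submonoid (MvPolynomial (Fin n) B))
    (T' : Submonoid (MvPolynomial (Fin n) B'))
    (hT : ∀ t ∈ T, MvPolynomial.map (algebraMap B B') t ∈ T') (φ : P →ₗ[B'] P')
    (h : ∀ x : (Fin b → MvPolynomial (Fin n) B) ⊗[B] P,
      ((φ.restrictScalars B).lTensor _) x ∈ rel (NB v) P' → ∃ t ∈ T, t • x ∈ rel (NB v) P) :
    ∀ x' : (Fin b → MvPolynomial (Fin n) B') ⊗[B'] P,
      (φ.lTensor _) x' ∈ rel (NB (vmap B' v)) P' → ∃ t' ∈ T', t' • x' ∈ rel (NB (vmap B' v)) P := by
  intro x' hx'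
  obtain ⟨x, rfl⟩ := (eta n b B (B' := B') P).surjective x'
  rw [← eta_lTensor, eta_mem_rel_iff] at hx'
  obtain ⟨t, ht, htx⟩ := h x hx'
  refine ⟨_, hT t ht, ?_⟩
  rw [← eta_smul, eta_mem_rel_iff]
  exact htx

end Rel

end Groth.Agent.Lib.helper3.FlatDesc
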