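import Mathlib
import Groth.Agent.Lib.Helper3.FlatDescC
/-!
# Flatness at a Noetherian level `B` from generic flatness at level `R0` and finitely many
equations (helper3)
-/

set_option autoImplicit false
universe u

open TensorProduct

namespace Groth.Agent.Lib.helper3.FlatDesc

open Groth.Agent.Lib.helper3.FlatLocus Groth.Agent.Lib.helper8.LocalFlat

section LevelB

variable {R0 B : Type u} [CommRing R0] [CommRing B] [Algebra R0 B]
  {n b c : ℕ} (v0 : Fin c → (Fin b → MvPolynomial (Fin n) R0))
  (p0 : Ideal R0) (f : R0)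
  (q : Ideal (MvPolynomial (Fin n) B)) [q.IsPrime]

theorem smul_quotient_eq_zero (r : R0) (hr : r ∈ p0) (x : B ⧸ p0.map (algebraMap R0 B)) :
    r • x = 0 := by
  obtain ⟨y, rfl⟩ := Ideal.Quotient.mk_surjective x
  rw [← algebraMap_smul B r, Algebra.smul_def, Ideal.Quotient.algebraMap_eq, ← map_mul,
    Ideal.Quotient.eq_zero_iff_mem]
  exact Ideal.mul_mem_right _ _ (Ideal.mem_map_of_mem _ hr)

/-- **(H2) at level `B`.** -/
theorem flat_quotient_of_genFlat (hG : GenFlat (NB v0) p0 f)
    (hf : MvPolynomial.C (algebraMap R0 B f) ∉ q)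
    {L : Type*} [AddCommGroup L] [Module B L] [Module (MvPolynomial (Fin n) B) L]
    [IsScalarTower B (MvPolynomial (Fin n) B) L]
    (g : ((Fin b → MvPolynomial (Fin n) B) ⧸ NB (vmap B v0)) →ₗ[MvPolynomial (Fin n) B] L)
    [IsLocalizedModule q.primeCompl g] :
    Module.Flat (B ⧸ p0.map (algebraMap R0 B)) ((B ⧸ p0.map (algebraMap R0 B)) ⊗[B] L) := by
  apply flat_baseChange_of_forall_ideal
  intro 𝔟
  rw [← LinearMap.lTensor_inj_iff_rTensor_inj]
  apply injective_lTensor_of_pres (NB (vmap B v0)) q.primeCompl g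
  apply pres_transfer v0 (Submonoid.powers (MvPolynomial.C f)) q.primeCompl ?_
    (𝔟.subtype.restrictScalars B)
  · intro x hx
    obtain ⟨k, hk⟩ := hG.of_torsion (K := 𝔟) (G := B ⧸ p0.map (algebraMap R0 B))
      (fun r hr x => Subtype.ext (smul_quotient_eq_zero p0 r hr x.1))
      (smul_quotient_eq_zero p0)
      ((𝔟.subtype.restrictScalars B).restrictScalars R0) 𝔟.injective_subtype x hx
    refine ⟨MvPolynomial.C f ^ k, ⟨k, rfl⟩, ?_⟩
    rw [← map_pow, ← MvPolynomial.algebraMap_eq, algebraMap_smul]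
    exact hk
  · rintro t ⟨k, rfl⟩
    simp only [map_pow, MvPolynomial.map_C]
    exact fun h => hf (Ideal.IsPrime.mem_of_pow_mem inferInstance _ h)

/-- `x ⊗ c ↦ c • mapF x`. -/
noncomputable def muB (z : (Fin b → MvPolynomial (Fin n) R0) ⊗[R0] B) :
    Fin b → MvPolynomial (Fin n) B :=
  TensorProduct.rid B _ (eta n b R0 (B' := B) B z)

theorem muB_add (z w : (Fin b → MvPolynomial (Fin n) R0) ⊗[R0] B) :
    muB (z + w) = muB z + muB w := by
  simp only [muB, map_add]

theorem muB_zero : muB (0 : (Fin b → MvPolynomial (Fin n) R0) ⊗[R0] B) = 0 := by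
  simp only [muB, map_zero]

theorem muB_tmul (x : Fin b → MvPolynomial (Fin n) R0) (c : B) :
    muB (x ⊗ₜ[R0] c) = c • mapF n b x := by
  simp [muB]

theorem mulI_eta (J : Ideal B) (x0 : (Fin b → MvPolynomial (Fin n) R0) ⊗[R0] J) :
    mulI (A := MvPolynomial (Fin n) B) J (eta n b R0 (B' := B) J x0) =
      muB (((J.subtype.restrictScalars R0).lTensor _) x0) := by
  induction x0 using TensorProduct.induction_on with
  | zero => simp [muB_zero]
  | add x y hx hy => simp only [map_add, hx, hy, muB_add]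
  | tmul x j => simp [muB_tmul]

theorem muB_mem_span {D : Submodule (MvPolynomial (Fin n) R0) (Fin b → MvPolynomial (Fin n) R0)}
    {z : (Fin b → MvPolynomial (Fin n) R0) ⊗[R0] B} (hz : z ∈ rel D B) :
    muB z ∈ Submodule.span B
      ((mapF n b (B := R0) (B' := B)) '' (D : Set (Fin b → MvPolynomial (Fin n) R0))) := by
  obtain ⟨w, rfl⟩ := hz
  induction w using TensorProduct.induction_on with
  | zero => simp [muB_zero]
  | add x y hx hy => rw [map_add, muB_add]; exact Submodule.add_mem _ hx hy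
  | tmul d c =>
    rw [AlgebraTensorModule.rTensor_tmul, muB_tmul]
    exact Submodule.smul_mem _ _ (Submodule.subset_span ⟨d.1, d.2, rfl⟩)

theorem smul_mem_ideal_smul_restrictScalars (J : Ideal B)
    (N : Submodule (MvPolynomial (Fin n) B) (Fin b → MvPolynomial (Fin n) B))
    (t : MvPolynomial (Fin n) B) {y : Fin b → MvPolynomial (Fin n) B}
    (hy : y ∈ J • (N.restrictScalars B)) : t • y ∈ J • (N.restrictScalars B) := by
  refine Submodule.smul_induction_on hy ?_ ?_
  · intro j hj m hm
    rw [smul_comm]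
    exact Submodule.smul_mem_smul hj (N.smul_mem t hm)
  · intro x y hx hy
    rw [smul_add]
    exact Submodule.add_mem _ hx hy

/-- **(H1) at level `B`**, submodule form. -/
theorem forall_mem_of_genFlat (hG : GenFlat (NB v0) p0 f)
    (hf : MvPolynomial.C (algebraMap R0 B f) ∉ q)
    (hE : ∃ t : MvPolynomial (Fin n) B, t ∉ q ∧ ∀ d ∈ Dsub (NB v0) p0,
      t • mapF n b (B' := B) d ∈
        (p0.map (algebraMap R0 B)) • ((NB (vmap B v0)).restrictScalars B)) :
    ∀ y ∈ NB (vmap B v0),
      y ∈ (p0.map (algebraMap R0 B)) • (⊤ : Submodule B (Fin b → MvPolynomial (Fin n) B)) →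
      ∃ t ∈ q.primeCompl,
        t • y ∈ (p0.map (algebraMap R0 B)) • ((NB (vmap B v0)).restrictScalars B) := by
  intro y hyN hyJ
  set J := p0.map (algebraMap R0 B) with hJ
  obtain ⟨x, rfl⟩ := exists_mulI_eq (A := MvPolynomial (Fin n) B) J hyJ
  have hx : (J.subtype.lTensor _) x ∈ rel (NB (vmap B v0)) B :=
    (lTensor_mem_rel_iff _ J x).mpr hyN
  obtain ⟨x0, rfl⟩ := (eta n b R0 (B' := B) J).surjective x
  have hx0 : ((J.subtype.restrictScalars R0).lTensor _) x0 ∈ rel (NB v0) B := by
    rw [← eta_mem_rel_iff (B' := B) v0, eta_lTensor]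
    exact hx
  obtain ⟨k, u, hu, h1⟩ := exists_sub_mem_rel_of_genFlat' hG (Q := B ⧸ J)
    (smul_quotient_eq_zero p0) (J.subtype.restrictScalars R0)
    ((Submodule.mkQ J).restrictScalars R0) (LinearMap.exact_subtype_mkQ J)
    (Submodule.mkQ_surjective J) x0 hx0
  obtain ⟨t, htq, ht⟩ := hE
  refine ⟨t * MvPolynomial.C (algebraMap R0 B f) ^ k, ?_, ?_⟩
  · intro h
    rcases (inferInstance : q.IsPrime).mem_or_mem h with h | h
    · exact htq h
    · exact hf (Ideal.IsPrime.mem_of_pow_mem inferInstance _ h)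
  · have e1 : eta n b R0 (B' := B) J (f ^ k • x0) =
        (MvPolynomial.C (algebraMap R0 B f) ^ k : MvPolynomial (Fin n) B) •
          eta n b R0 (B' := B) J x0 := by
      rw [← algebraMap_smul (MvPolynomial (Fin n) R0) (f ^ k) x0, eta_smul,
        MvPolynomial.algebraMap_eq, MvPolynomial.map_C, map_pow, map_pow]
    have h2 : mulI (A := MvPolynomial (Fin n) B) J (eta n b R0 (B' := B) J (f ^ k • x0 - u)) ∈
        Submodule.span B ((mapF n b (B := R0) (B' := B)) ''
          (Dsub (NB v0) p0 : Set (Fin b → MvPolynomial (Fin n) R0))) := by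
      rw [mulI_eta]
      exact muB_mem_span h1
    have h3 : mulI (A := MvPolynomial (Fin n) B) J (eta n b R0 (B' := B) J u) ∈
        J • ((NB (vmap B v0)).restrictScalars B) :=
      mulI_mem_of_mem_rel _ J (eta_mem_rel v0 hu)
    have h4 : (MvPolynomial.C (algebraMap R0 B f) ^ k : MvPolynomial (Fin n) B) •
        mulI (A := MvPolynomial (Fin n) B) J (eta n b R0 (B' := B) J x0) =
        mulI (A := MvPolynomial (Fin n) B) J (eta n b R0 (B' := B) J (f ^ k • x0 - u)) +
          mulI (A := MvPolynomial (Fin n) B) J (eta n b R0 (B' := B) J u) := by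
      rw [← map_add, ← map_add, sub_add_cancel, e1, map_smul]
    have h5 : ∀ m ∈ Submodule.span B ((mapF n b (B := R0) (B' := B)) ''
          (Dsub (NB v0) p0 : Set (Fin b → MvPolynomial (Fin n) R0))),
        t • m ∈ J • ((NB (vmap B v0)).restrictScalars B) := by
      intro m hm
      induction hm using Submodule.span_induction with
      | mem x hx =>
        obtain ⟨d, hd, rfl⟩ := hx
        exact ht d hd
      | zero => rw [smul_zero]; exact Submodule.zero_mem _
      | add x y _ _ hx hy => rw [smul_add]; exact Submodule.add_mem _ hx hy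
      | smul a x _ hx => rw [smul_comm]; exact Submodule.smul_mem _ _ hx
    rw [mul_smul, h4, smul_add]
    exact Submodule.add_mem _ (h5 _ h2) (smul_mem_ideal_smul_restrictScalars J _ t h3)

/-- **Flatness at level `B`** from generic flatness at level `R0` and the equations `(E)`. -/
theorem flat_localizedModule_of_E [IsNoetherianRing R0] [Algebra.FiniteType R0 B]
    (hG : GenFlat (NB v0) p0 f)
    (hf : MvPolynomial.C (algebraMap R0 B f) ∉ q)
    (hp : ∀ r ∈ p0, MvPolynomial.C (algebraMap R0 B r) ∈ q)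
    (hE : ∃ t : MvPolynomial (Fin n) B, t ∉ q ∧ ∀ d ∈ Dsub (NB v0) p0,
      t • mapF n b (B' := B) d ∈
        (p0.map (algebraMap R0 B)) • ((NB (vmap B v0)).restrictScalars B)) :
    Module.Flat B (LocalizedModule q.primeCompl
      ((Fin b → MvPolynomial (Fin n) B) ⧸ NB (vmap B v0))) := by
  haveI : IsNoetherianRing B := Algebra.FiniteType.isNoetherianRing R0 B
  set J := p0.map (algebraMap R0 B) with hJ
  haveI h2 : Module.Flat (B ⧸ J) ((B ⧸ J) ⊗[B] LocalizedModule q.primeCompl
      ((Fin b → MvPolynomial (Fin n) B) ⧸ NB (vmap B v0))) :=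
    flat_quotient_of_genFlat v0 p0 f q hG hf (LocalizedModule.mkLinearMap q.primeCompl _)
  have h1 : Function.Injective (J.subtype.rTensor (LocalizedModule q.primeCompl
      ((Fin b → MvPolynomial (Fin n) B) ⧸ NB (vmap B v0)))) := by
    rw [← LinearMap.lTensor_inj_iff_rTensor_inj]
    exact injective_lTensor_of_forall_mem (NB (vmap B v0)) q.primeCompl
      (LocalizedModule.mkLinearMap q.primeCompl _) J (forall_mem_of_genFlat v0 p0 f q hG hf hE)
  have hI : J.map (algebraMap B (Localization.AtPrime q)) ≤ Ideal.jacobson ⊥ := by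
    refine le_trans ?_ (IsLocalRing.maximalIdeal_le_jacobson ⊥)
    rw [Ideal.map_le_iff_le_comap, hJ, Ideal.map_le_iff_le_comap]
    intro r hr
    rw [Ideal.mem_comap, Ideal.mem_comap,
      IsScalarTower.algebraMap_apply B (MvPolynomial (Fin n) B) (Localization.AtPrime q),
      IsLocalization.AtPrime.to_map_mem_maximal_iff (Localization.AtPrime q) q,
      MvPolynomial.algebraMap_eq]
    exact hp r hr
  exact flat_of_forall_flat_quotient_pow (S := Localization.AtPrime q) J hI
    (fun k _ => flat_quotient_pow J _ h1 k)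

end LevelB

end Groth.Agent.Lib.helper3.FlatDesc
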