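import Mathlib
import Groth.Agent.Lib.Helper3.FlatDescD
/-!
# Descent of the finitely many equations `(E)` to a finitely generated subalgebra (helper3)
-/

set_option autoImplicit false
universe u

open TensorProduct

namespace Groth.Agent.Lib.helper3.FlatDesc

open Groth.Agent.Lib.helper3.FlatLocus

section W

variable {R0 : Type*} [CommRing R0] (B : Type*) [CommRing B] [Algebra R0 B]
  {n b c s : ℕ} (v0 : Fin c → (Fin b → MvPolynomial (Fin n) R0)) (a : Fin s → R0)

/-- the generators `a i • v l` of `p N` at level `B`. -/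
noncomputable def genB : Fin s × Fin c → (Fin b → MvPolynomial (Fin n) B) :=
  fun il => (MvPolynomial.C (algebraMap R0 B (a il.1)) : MvPolynomial (Fin n) B) • vmap B v0 il.2

theorem mapF_genB {B' : Type*} [CommRing B'] [Algebra R0 B'] [Algebra B B'] [IsScalarTower R0 B B']
    (il : Fin s × Fin c) : mapF n b (B' := B') (genB B v0 a il) = genB B' v0 a il := by
  simp only [genB, vmap, mapF_smul, MvPolynomial.map_C, mapF_mapF]
  rw [← IsScalarTower.algebraMap_apply]

variable {B}

theorem mem_span_genB_of_mem {y : Fin b → MvPolynomial (Fin n) B}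
    (hy : y ∈ ((Ideal.span (Set.range a)).map (algebraMap R0 B)) •
      ((NB (vmap B v0)).restrictScalars B)) :
    y ∈ Submodule.span (MvPolynomial (Fin n) B) (Set.range (genB B v0 a)) := by
  have key : ∀ i, ∀ m ∈ NB (vmap B v0), algebraMap R0 B (a i) • m ∈
      Submodule.span (MvPolynomial (Fin n) B) (Set.range (genB B v0 a)) := by
    intro i m hm
    induction hm using Submodule.span_induction with
    | mem m hm =>
      obtain ⟨l, rfl⟩ := hm
      rw [← algebraMap_smul (MvPolynomial (Fin n) B), MvPolynomial.algebraMap_eq]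
      exact Submodule.subset_span ⟨(i, l), rfl⟩
    | zero => rw [smul_zero]; exact Submodule.zero_mem _
    | add x y _ _ hx hy => rw [smul_add]; exact Submodule.add_mem _ hx hy
    | smul p x _ hx => rw [smul_comm]; exact Submodule.smul_mem _ _ hx
  refine Submodule.smul_induction_on hy ?_ ?_
  · intro j hj m hm
    have hm' : m ∈ NB (vmap B v0) := hm
    rw [Ideal.map_span] at hj
    induction hj using Submodule.span_induction with
    | mem j hj =>
      obtain ⟨_, ⟨i, rfl⟩, rfl⟩ := hj
      exact key i m hm'
    | zero => rw [zero_smul]; exact Submodule.zero_mem _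
    | add x y _ _ hx hy => rw [add_smul]; exact Submodule.add_mem _ hx hy
    | smul r x _ hx =>
      rw [smul_eq_mul, mul_smul, ← algebraMap_smul (MvPolynomial (Fin n) B) r]
      exact Submodule.smul_mem _ _ hx
  · intro x y hx hy
    exact Submodule.add_mem _ hx hy

theorem mem_of_mem_span_genB {p0 : Ideal R0} (ha : ∀ i, a i ∈ p0)
    {y : Fin b → MvPolynomial (Fin n) B}
    (hy : y ∈ Submodule.span (MvPolynomial (Fin n) B) (Set.range (genB B v0 a))) :
    y ∈ (p0.map (algebraMap R0 B)) • ((NB (vmap B v0)).restrictScalars B) := by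
  induction hy using Submodule.span_induction with
  | mem y hy =>
    obtain ⟨il, rfl⟩ := hy
    simp only [genB]
    rw [← MvPolynomial.algebraMap_eq, algebraMap_smul]
    exact Submodule.smul_mem_smul (Ideal.mem_map_of_mem _ (ha il.1))
      (Submodule.subset_span (Set.mem_range_self il.2))
  | zero => exact Submodule.zero_mem _
  | add x y _ _ hx hy => exact Submodule.add_mem _ hx hy
  | smul p x _ hx => exact smul_mem_ideal_smul_restrictScalars _ _ p hx

end W

section Descent

variable {R0 R : Type u} [CommRing R0] [CommRing R] [Algebra R0 R]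
  {n b c : ℕ} (v0 : Fin c → (Fin b → MvPolynomial (Fin n) R0)) (p0 : Ideal R0)
  (q : Ideal (MvPolynomial (Fin n) R)) [q.IsPrime]

theorem mapF_mem_smul_top (B : Type*) [CommRing B] [Algebra R0 B]
    {d : Fin b → MvPolynomial (Fin n) R0}
    (hd : d ∈ p0 • (⊤ : Submodule R0 (Fin b → MvPolynomial (Fin n) R0))) :
    mapF n b (B' := B) d ∈
      (p0.map (algebraMap R0 B)) • (⊤ : Submodule B (Fin b → MvPolynomial (Fin n) B)) := by
  refine Submodule.smul_induction_on hd ?_ ?_
  · intro r hr x _
    rw [mapF_smul']
    exact Submodule.smul_mem_smul (Ideal.mem_map_of_mem _ hr) Submodule.mem_top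
  · intro x y hx hy
    rw [map_add]
    exact Submodule.add_mem _ hx hy

theorem lift_of_coeffs_subset (B : Subalgebra R0 R) (p : MvPolynomial (Fin n) R)
    (hp : (p.coeffs : Set R) ⊆ B) :
    ∃ p' : MvPolynomial (Fin n) B, MvPolynomial.map (algebraMap B R) p' = p := by
  have : p ∈ Set.range (MvPolynomial.map (algebraMap B R)) := by
    rw [MvPolynomial.mem_range_map_iff_coeffs_subset]
    intro x hx
    exact ⟨⟨x, hp hx⟩, rfl⟩
  exact this

/-- **Descent of one equation.** -/
theorem eq_of_map_eq (B : Subalgebra R0 R) {ι : Type*} [Fintype ι]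
    (gen : ι → (Fin b → MvPolynomial (Fin n) B)) (y : Fin b → MvPolynomial (Fin n) B)
    (t : MvPolynomial (Fin n) B) (cc : ι → MvPolynomial (Fin n) B)
    (h : MvPolynomial.map (algebraMap B R) t • mapF n b (B' := R) y =
      ∑ i, MvPolynomial.map (algebraMap B R) (cc i) • mapF n b (B' := R) (gen i)) :
    t • y = ∑ i, cc i • gen i := by
  apply mapF_injective (n := n) (b := b) (B := B) (B' := R) Subtype.val_injective
  rw [mapF_smul, h, map_sum]
  exact Finset.sum_congr rfl fun i _ => (mapF_smul _ _).symm

/-- **(E).** If the localization of `M_R` at `q` is flat over `R`, the finitely many equations needed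
hold over a finitely generated subalgebra. -/
theorem exists_fg_subalgebra_E [IsNoetherianRing R0]
    (hflat : Module.Flat R (LocalizedModule q.primeCompl
      ((Fin b → MvPolynomial (Fin n) R) ⧸ NB (vmap R v0)))) :
    ∃ B : Subalgebra R0 R, B.FG ∧ ∃ t : MvPolynomial (Fin n) B,
      t ∉ q.comap (MvPolynomial.map (algebraMap B R)) ∧ ∀ d ∈ Dsub (NB v0) p0,
        t • mapF n b (B' := B) d ∈
          (p0.map (algebraMap R0 B)) • ((NB (vmap B v0)).restrictScalars B) := by
  classical
  obtain ⟨s, a, ha⟩ := Submodule.fg_iff_exists_fin_generating_family.mp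
    (IsNoetherian.noetherian p0)
  have ha' : Ideal.span (Set.range a) = p0 := ha
  have hamem : ∀ i, a i ∈ p0 := fun i => ha' ▸ Ideal.subset_span (Set.mem_range_self i)
  obtain ⟨r, d, hd⟩ := Submodule.fg_iff_exists_fin_generating_family.mp
    (IsNoetherian.noetherian (Dsub (NB v0) p0))
  have hdmem : ∀ j, d j ∈ Dsub (NB v0) p0 := fun j => hd ▸ Submodule.subset_span
    (Set.mem_range_self j)
  -- top level
  have h1 : ∀ j, ∃ t ∈ q.primeCompl, t • mapF n b (B' := R) (d j) ∈
      (p0.map (algebraMap R0 R)) • ((NB (vmap R v0)).restrictScalars R) := fun j =>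
    forall_mem_of_flat (NB (vmap R v0)) q.primeCompl
      (LocalizedModule.mkLinearMap q.primeCompl _) hflat (p0.map (algebraMap R0 R)) _
      (mapF_mem_NB v0 (hdmem j).1) (mapF_mem_smul_top p0 R (hdmem j).2)
  choose t ht h1 using h1
  have h2 : ∀ j, ∃ cc : Fin s × Fin c → MvPolynomial (Fin n) R,
      ∑ il, cc il • genB R v0 a il = t j • mapF n b (B' := R) (d j) := fun j =>
    (Submodule.mem_span_range_iff_exists_fun _).mp
      (mem_span_genB_of_mem v0 a (by rw [ha']; exact h1 j))
  choose cc hcc using h2
  let S : Finset R := (Finset.univ.biUnion fun j => (t j).coeffs) ∪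
    (Finset.univ.biUnion fun j => Finset.univ.biUnion fun il => (cc j il).coeffs)
  let B : Subalgebra R0 R := Algebra.adjoin R0 (S : Set R)
  have hSB : (S : Set R) ⊆ B := Algebra.subset_adjoin
  have ht' : ∀ j, ∃ p' : MvPolynomial (Fin n) B, MvPolynomial.map (algebraMap B R) p' = t j := by
    intro j
    apply lift_of_coeffs_subset
    refine subset_trans ?_ hSB
    intro x hx
    simp only [S, Finset.coe_union, Finset.coe_biUnion, Set.mem_union, Set.mem_iUnion]
    exact Or.inl ⟨j, by simp, hx⟩
  have hcc' : ∀ j il, ∃ p' : MvPolynomial (Fin n) B,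
      MvPolynomial.map (algebraMap B R) p' = cc j il := by
    intro j il
    apply lift_of_coeffs_subset
    refine subset_trans ?_ hSB
    intro x hx
    simp only [S, Finset.coe_union, Finset.coe_biUnion, Set.mem_union, Set.mem_iUnion]
    exact Or.inr ⟨j, by simp, il, by simp, hx⟩
  choose t' ht' using ht'
  choose cc' hcc' using hcc'
  have hE : ∀ j, t' j • mapF n b (B' := B) (d j) = ∑ il, cc' j il • genB B v0 a il := by
    intro j
    apply eq_of_map_eq
    rw [ht', mapF_mapF, ← hcc j]
    refine Finset.sum_congr rfl fun il _ => ?_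
    rw [hcc', mapF_genB]
  have hE' : ∀ j, t' j • mapF n b (B' := B) (d j) ∈
      (p0.map (algebraMap R0 B)) • ((NB (vmap B v0)).restrictScalars B) := by
    intro j
    apply mem_of_mem_span_genB v0 a hamem
    rw [hE j]
    exact Submodule.sum_mem _ fun il _ => Submodule.smul_mem _ _
      (Submodule.subset_span (Set.mem_range_self il))
  refine ⟨B, Subalgebra.fg_adjoin_finset S, ∏ j, t' j, ?_, ?_⟩
  · intro h
    haveI : (q.comap (MvPolynomial.map (algebraMap B R))).IsPrime := Ideal.comap_isPrime _ _
    obtain ⟨j, _, hj⟩ := (Ideal.IsPrime.prod_mem_iff).mp h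
    rw [Ideal.mem_comap, ht'] at hj
    exact ht j hj
  · intro d0 hd0
    rw [← hd] at hd0
    induction hd0 using Submodule.span_induction with
    | mem x hx =>
      obtain ⟨j, rfl⟩ := hx
      rw [← Finset.prod_erase_mul _ _ (Finset.mem_univ j), mul_smul]
      exact smul_mem_ideal_smul_restrictScalars _ _ _ (hE' j)
    | zero => rw [map_zero, smul_zero]; exact Submodule.zero_mem _
    | add x y _ _ hx hy => rw [map_add, smul_add]; exact Submodule.add_mem _ hx hy
    | smul p x _ hx =>
      rw [mapF_smul, smul_comm]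
      exact smul_mem_ideal_smul_restrictScalars _ _ _ hx

end Descent

end Groth.Agent.Lib.helper3.FlatDesc
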