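import Mathlib
import Groth.Agent.Lib.Helper3.FlatLocus1
/-!
# Openness of the flat locus, Noetherian case: the `Tor₁` part (helper3)

`exists_notMem_forall_smul_eq_zero` : `A` Noetherian `R`-algebra, `M` finite `A`-module, `q` a prime of
`A` with `M_q` flat over `R`, `φ : P → P'` injective `R`-linear with `P` finite. Then some `g ∉ q`
kills `ker (M ⊗ φ)`.
-/

set_option autoImplicit false
universe u

open TensorProduct

namespace Groth.Agent.Lib.helper3.FlatLocus

theorem exists_notMem_forall_smul_eq_zero
    {R A : Type u} [CommRing R] [CommRing A] [Algebra R A] [IsNoetherianRing A]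
    (M : Type u) [AddCommGroup M] [Module R M] [Module A M] [IsScalarTower R A M]
    [Module.Finite A M]
    (q : Ideal A) [q.IsPrime] (hq : Module.Flat R (LocalizedModule q.primeCompl M))
    {P P' : Type u} [AddCommGroup P] [Module R P] [Module.Finite R P] [AddCommGroup P']
    [Module R P'] (φ : P →ₗ[R] P') (hφ : Function.Injective φ) :
    ∃ g : A, g ∉ q ∧ ∀ x : M ⊗[R] P, (φ.lTensor M) x = 0 → g • x = 0 := by
  classical
  have hinj : Function.Injective (φ.lTensor (LocalizedModule q.primeCompl M)) :=
    Module.Flat.lTensor_preserves_injective_linearMap φ hφ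
  have key := (lTensor_injective_iff q.primeCompl
    (LocalizedModule.mkLinearMap q.primeCompl M) φ).mp hinj
  set K : Submodule A (M ⊗[R] P) := LinearMap.ker (AlgebraTensorModule.lTensor A M φ) with hK
  haveI : Module.Finite A (M ⊗[R] P) :=
    Module.Finite.equiv (AlgebraTensorModule.cancelBaseChange R A A M P)
  haveI : IsNoetherian A (M ⊗[R] P) := isNoetherian_of_isNoetherianRing_of_finite A _
  obtain ⟨S, hS⟩ := (IsNoetherian.noetherian K : K.FG)
  have hSK : ∀ x ∈ S, (φ.lTensor M) x = 0 := by
    intro x hx
    have : x ∈ K := by rw [← hS]; exact Submodule.subset_span hx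
    exact this
  choose! t ht htx using fun x (hx : x ∈ S) => key x (hSK x hx)
  refine ⟨∏ x ∈ S, t x, ?_, ?_⟩
  · have : ∏ x ∈ S, t x ∈ q.primeCompl := Submonoid.prod_mem _ fun x hx => ht x hx
    exact this
  · intro x hx
    have hxK : x ∈ K := hx
    rw [← hS] at hxK
    refine Submodule.span_induction (p := fun y _ => (∏ x ∈ S, t x) • y = 0) ?_ ?_ ?_ ?_ hxK
    · intro y hy
      rw [← Finset.mul_prod_erase S t hy, mul_comm, mul_smul, htx y hy, smul_zero]
    · exact smul_zero _
    · intro y z _ _ hy hz
      rw [smul_add, hy, hz, add_zero]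
    · intro a y _ hy
      rw [smul_comm, hy, smul_zero]

end Groth.Agent.Lib.helper3.FlatLocus
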