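import Mathlib
import Groth.Agent.Lib.Helper3.FlatLocus2
import Groth.Agent.Lib.Helper3.FlatLocus3
/-!
# Openness of the flat locus, Noetherian case: ring level (helper3)

* `isOpen_of_nagata` : Nagata's openness criterion on the spectrum of a Noetherian ring.
* `exists_notMem_forall_flat` : `R` Noetherian, `A` of finite type over `R`, `M` a finite `A`-module, `q` a
  prime of `A` with `M_q` flat over `R`. There is `g ∉ q` with `M_{q'}` flat over `R` for all primes
  `q' ⊇ q` with `g ∉ q'`.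
* `isOpen_flatLocus_primeSpectrum` : the set of primes `q` of `A` with `M_q` flat over `R` is open
  (EGA IV 11.1.1, Noetherian case).
-/

set_option autoImplicit false
universe u

open TensorProduct

namespace Groth.Agent.Lib.helper3.FlatLocus

open Groth.Agent.Lib.helper8.LocalFlat

/-- **Nagata's openness criterion.** -/
theorem isOpen_of_nagata {A : Type*} [CommRing A] [IsNoetherianRing A]
    (U : Set (PrimeSpectrum A)) (hgen : StableUnderGeneralization U)
    (h : ∀ q ∈ U, ∃ g : A, g ∉ q.asIdeal ∧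
      ∀ q' : PrimeSpectrum A, q ≤ q' → g ∉ q'.asIdeal → q' ∈ U) :
    IsOpen U := by
  classical
  rw [← isClosed_compl_iff, ← closure_subset_iff_isClosed]
  intro z hz
  by_contra hzU
  have hzU' : z ∈ U := by
    by_contra h'
    exact hzU h'
  rw [← PrimeSpectrum.zeroLocus_vanishingIdeal_eq_closure] at hz
  set I := PrimeSpectrum.vanishingIdeal Uᶜ with hI
  have hIz : I ≤ z.asIdeal := hz
  obtain ⟨q₀, hq₀min, hq₀z⟩ := Ideal.exists_minimalPrimes_le hIz
  have hq₀prime : q₀.IsPrime := hq₀min.1.1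
  let Q₀ : PrimeSpectrum A := ⟨q₀, hq₀prime⟩
  have hQ₀z : Q₀ ≤ z := hq₀z
  have hQ₀U : Q₀ ∈ U := hgen ((PrimeSpectrum.le_iff_specializes _ _).mp hQ₀z) hzU'
  obtain ⟨g, hg, hgU⟩ := h Q₀ hQ₀U
  have hfin : (I.minimalPrimes).Finite := I.finite_minimalPrimes_of_isNoetherianRing
  let T := hfin.toFinset.erase q₀
  have hJ : ¬ (T.inf id ≤ q₀) := by
    intro hle
    obtain ⟨q₁, hq₁T, hq₁le⟩ := (Ideal.IsPrime.inf_le' hq₀prime).mp hle
    have hq₁ne : q₁ ≠ q₀ := (Finset.mem_erase.mp hq₁T).1
    have hq₁min : q₁ ∈ I.minimalPrimes := hfin.mem_toFinset.mp (Finset.mem_erase.mp hq₁T).2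
    exact hq₁ne (le_antisymm hq₁le (hq₀min.2 hq₁min.1 hq₁le))
  obtain ⟨h', hh'T, hh'q₀⟩ := SetLike.not_le_iff_exists.mp hJ
  have hmem : g * h' ∈ I := by
    rw [hI, PrimeSpectrum.mem_vanishingIdeal]
    intro z' hz'
    have hIz' : I ≤ z'.asIdeal := fun a ha =>
      (PrimeSpectrum.mem_vanishingIdeal _ _).mp ha z' hz'
    obtain ⟨q₁, hq₁min, hq₁z'⟩ := Ideal.exists_minimalPrimes_le hIz'
    by_cases hq : q₁ = q₀
    · have hg' : g ∈ z'.asIdeal := by
        by_contra hgz
        have hle : q₀ ≤ z'.asIdeal := hq ▸ hq₁z'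
        exact hz' (hgU z' hle hgz)
      exact z'.asIdeal.mul_mem_right _ hg'
    · have hmemT : q₁ ∈ T := Finset.mem_erase.mpr ⟨hq, hfin.mem_toFinset.mpr hq₁min⟩
      have hle : T.inf id ≤ q₁ := Finset.inf_le (f := id) hmemT
      exact z'.asIdeal.mul_mem_left _ (hq₁z' (hle hh'T))
  have hgh : g * h' ∈ q₀ := hq₀min.1.2 hmem
  rcases hq₀prime.mem_or_mem hgh with h1 | h1
  · exact hg h1
  · exact hh'q₀ h1

section Main

variable (R A : Type u) [CommRing R] [CommRing A] [Algebra R A] [IsNoetherianRing R]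
  [Algebra.FiniteType R A]
  (M : Type u) [AddCommGroup M] [Module R M] [Module A M] [IsScalarTower R A M]
  [Module.Finite A M]

theorem exists_notMem_forall_flat (q : Ideal A) [q.IsPrime]
    (hq : Module.Flat R (LocalizedModule q.primeCompl M)) :
    ∃ g : A, g ∉ q ∧ ∀ (q' : Ideal A) [q'.IsPrime], q ≤ q' → g ∉ q' →
      Module.Flat R (LocalizedModule q'.primeCompl M) := by
  haveI : IsNoetherianRing A := Algebra.FiniteType.isNoetherianRing R A
  set p : Ideal R := q.comap (algebraMap R A) with hp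
  haveI : p.IsPrime := Ideal.comap_isPrime _ _
  obtain ⟨g1, hg1, hA⟩ := exists_notMem_forall_smul_eq_zero M q hq p.subtype
    p.injective_subtype
  obtain ⟨f, hf, hB⟩ := exists_notMem_forall_ideal_quotient R A M p
  have hfq : algebraMap R A f ∉ q := fun h => hf h
  refine ⟨g1 * algebraMap R A f, fun h => ?_, ?_⟩
  · rcases (inferInstance : q.IsPrime).mem_or_mem h with h | h
    · exact hg1 h
    · exact hfq h
  intro q' _ hqq' hgq'
  have hg1q' : g1 ∉ q' := fun h => hgq' (q'.mul_mem_right _ h)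
  have hfq' : algebraMap R A f ∉ q' := fun h => hgq' (q'.mul_mem_left _ h)
  set L := LocalizedModule q'.primeCompl M with hL
  let mk := LocalizedModule.mkLinearMap q'.primeCompl M
  -- (H1)
  have h1 : Function.Injective (p.subtype.rTensor L) := by
    rw [← LinearMap.lTensor_inj_iff_rTensor_inj]
    exact (lTensor_injective_iff q'.primeCompl mk p.subtype).mpr
      (fun x hx => ⟨g1, hg1q', hA x hx⟩)
  -- (H2)
  haveI h2 : Module.Flat (R ⧸ p) ((R ⧸ p) ⊗[R] L) := by
    apply flat_baseChange_of_forall_ideal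
    intro 𝔟
    rw [← LinearMap.lTensor_inj_iff_rTensor_inj]
    refine (lTensor_injective_iff q'.primeCompl mk (𝔟.subtype.restrictScalars R)).mpr
      (fun x hx => ?_)
    obtain ⟨n, hn⟩ := hB 𝔟 x hx
    refine ⟨algebraMap R A f ^ n, Submonoid.pow_mem _ hfq' n, ?_⟩
    rw [← map_pow, algebraMap_smul]
    exact hn
  have h3 : ∀ k : ℕ, 0 < k → Module.Flat (R ⧸ p ^ k) ((R ⧸ p ^ k) ⊗[R] L) :=
    fun k _ => flat_quotient_pow p L h1 k
  have hI : p.map (algebraMap R (Localization.AtPrime q')) ≤ Ideal.jacobson ⊥ := by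
    rw [IsLocalRing.jacobson_eq_maximalIdeal ⊥ bot_ne_top, Ideal.map_le_iff_le_comap]
    intro r hr
    rw [Ideal.mem_comap, IsScalarTower.algebraMap_apply R A (Localization.AtPrime q'),
      IsLocalization.AtPrime.to_map_mem_maximal_iff (Localization.AtPrime q') q']
    exact hqq' hr
  exact flat_of_forall_flat_quotient_pow (R := R) (S := Localization.AtPrime q') (M := L) p hI h3

theorem isOpen_flatLocus_primeSpectrum :
    IsOpen {q : PrimeSpectrum A | Module.Flat R (LocalizedModule q.asIdeal.primeCompl M)} := by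
  haveI : IsNoetherianRing A := Algebra.FiniteType.isNoetherianRing R A
  apply isOpen_of_nagata
  · intro x y hyx hx
    have hle : y.asIdeal ≤ x.asIdeal := (PrimeSpectrum.le_iff_specializes y x).mpr hyx
    have hle' : x.asIdeal.primeCompl ≤ y.asIdeal.primeCompl := fun a ha h => ha (hle h)
    exact flat_of_le x.asIdeal.primeCompl y.asIdeal.primeCompl
      (LocalizedModule.mkLinearMap x.asIdeal.primeCompl M)
      (LocalizedModule.mkLinearMap y.asIdeal.primeCompl M) hle' hx
  · intro q hq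
    obtain ⟨g, hg, hgq⟩ := exists_notMem_forall_flat R A M q.asIdeal hq
    exact ⟨g, hg, fun q' hqq' hgq' => hgq q'.asIdeal hqq' hgq'⟩

end Main

end Groth.Agent.Lib.helper3.FlatLocus
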