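import Mathlib
import Groth.Agent.Lib.Helper3.FlatDescE
import Groth.Agent.Lib.Helper3.FlatLocus4
/-!
# Openness of the flat locus for the concrete model over an arbitrary base ring (helper3)
-/

set_option autoImplicit false
universe u

open TensorProduct

namespace Groth.Agent.Lib.helper3.FlatDesc

open Groth.Agent.Lib.helper3.FlatLocus

section Transfer

variable {B R : Type*} [CommRing B] [CommRing R] [Algebra B R]
  {n b c : ℕ} (v : Fin c → (Fin b → MvPolynomial (Fin n) B))
  (q' : Ideal (MvPolynomial (Fin n) R)) [q'.IsPrime]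

/-- flatness of the localization at the contracted prime at level `B` implies flatness of the
localization at `q'` at level `R`. -/
theorem flat_of_flat_comap
    (h : Module.Flat B (LocalizedModule (q'.comap (MvPolynomial.map (algebraMap B R))).primeCompl
      ((Fin b → MvPolynomial (Fin n) B) ⧸ NB v))) :
    Module.Flat R (LocalizedModule q'.primeCompl
      ((Fin b → MvPolynomial (Fin n) R) ⧸ NB (vmap R v))) := by
  rw [Module.Flat.iff_lTensor_injective']
  intro I
  apply injective_lTensor_of_pres (NB (vmap R v)) q'.primeCompl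
    (LocalizedModule.mkLinearMap q'.primeCompl _)
  apply pres_transfer v (q'.comap (MvPolynomial.map (algebraMap B R))).primeCompl q'.primeCompl
    (fun t ht => ht) I.subtype
  haveI := h
  exact pres_of_injective_lTensor (NB v)
    (q'.comap (MvPolynomial.map (algebraMap B R))).primeCompl
    (LocalizedModule.mkLinearMap (q'.comap (MvPolynomial.map (algebraMap B R))).primeCompl _)
    (I.subtype.restrictScalars B)
    (Module.Flat.lTensor_preserves_injective_linearMap _ I.injective_subtype)

end Transfer

section CoreModel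

variable {R0 R : Type u} [CommRing R0] [CommRing R] [Algebra R0 R] [IsNoetherianRing R0]
  {n b c : ℕ} (v0 : Fin c → (Fin b → MvPolynomial (Fin n) R0))

omit [IsNoetherianRing R0] in
theorem vmap_vmap (B : Type*) [CommRing B] [Algebra R0 B] [Algebra B R] [IsScalarTower R0 B R] :
    vmap R (vmap B v0) = vmap R v0 := by
  funext l
  exact mapF_mapF _

/-- **Pointwise descent + openness, model case.** -/
theorem exists_notMem_forall_flat_model (q : Ideal (MvPolynomial (Fin n) R)) [q.IsPrime]
    (hflat : Module.Flat R (LocalizedModule q.primeCompl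
      ((Fin b → MvPolynomial (Fin n) R) ⧸ NB (vmap R v0)))) :
    ∃ g : MvPolynomial (Fin n) R, g ∉ q ∧ ∀ (q' : Ideal (MvPolynomial (Fin n) R)) [q'.IsPrime],
      g ∉ q' → Module.Flat R (LocalizedModule q'.primeCompl
        ((Fin b → MvPolynomial (Fin n) R) ⧸ NB (vmap R v0))) := by
  set p0 : Ideal R0 := (q.comap (MvPolynomial.C : R →+* MvPolynomial (Fin n) R)).comap
    (algebraMap R0 R) with hp0
  haveI : p0.IsPrime := Ideal.comap_isPrime _ _
  obtain ⟨f, hf, hG⟩ := exists_genFlat (NB v0) p0
  obtain ⟨B, hBfg, t, ht, hE⟩ := exists_fg_subalgebra_E v0 p0 q hflat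
  haveI : Algebra.FiniteType R0 B := (Subalgebra.fg_iff_finiteType B).mp hBfg
  set qB : Ideal (MvPolynomial (Fin n) B) := q.comap (MvPolynomial.map (algebraMap B R)) with hqB
  haveI : qB.IsPrime := Ideal.comap_isPrime _ _
  have hmem : ∀ r : R0, MvPolynomial.C (algebraMap R0 B r) ∈ qB ↔ r ∈ p0 := by
    intro r
    rw [hqB, Ideal.mem_comap, MvPolynomial.map_C, ← IsScalarTower.algebraMap_apply, hp0,
      Ideal.mem_comap, Ideal.mem_comap]
  have hflatB : Module.Flat B (LocalizedModule qB.primeCompl
      ((Fin b → MvPolynomial (Fin n) B) ⧸ NB (vmap B v0))) :=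
    flat_localizedModule_of_E v0 p0 f qB hG (fun h => hf ((hmem f).mp h))
      (fun r hr => (hmem r).mpr hr) ⟨t, ht, hE⟩
  -- Noetherian openness at level `B`
  haveI : IsNoetherianRing B := Algebra.FiniteType.isNoetherianRing R0 B
  have hopen := isOpen_flatLocus_primeSpectrum B (MvPolynomial (Fin n) B)
    ((Fin b → MvPolynomial (Fin n) B) ⧸ NB (vmap B v0))
  obtain ⟨_, ⟨gB, rfl⟩, hgB, hsub⟩ :=
    PrimeSpectrum.isTopologicalBasis_basic_opens.exists_subset_of_mem_open
      (show (⟨qB, inferInstance⟩ : PrimeSpectrum (MvPolynomial (Fin n) B)) ∈ _ from hflatB) hopen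
  refine ⟨MvPolynomial.map (algebraMap B R) gB, hgB, ?_⟩
  intro q' _ hq'
  rw [← vmap_vmap v0 B]
  apply flat_of_flat_comap
  exact hsub (a := ⟨q'.comap (MvPolynomial.map (algebraMap B R)), Ideal.comap_isPrime _ _⟩) hq'

end CoreModel

end Groth.Agent.Lib.helper3.FlatDesc
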