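import Mathlib
import Groth.Agent.Lib.Helper3.FlatDescF
/-!
# Openness of the flat locus: finitely presented modules over polynomial rings and over finitely
presented algebras, arbitrary base ring (helper3)
-/

set_option autoImplicit false
universe u

open TensorProduct

namespace Groth.Agent.Lib.helper3.FlatDesc

open Groth.Agent.Lib.helper3.FlatLocus

section Poly

variable (R : Type u) [CommRing R] (n : ℕ)
  (M : Type u) [AddCommGroup M] [Module R M] [Module (MvPolynomial (Fin n) R) M]
  [IsScalarTower R (MvPolynomial (Fin n) R) M] [Module.FinitePresentation (MvPolynomial (Fin n) R) M]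

theorem lift_of_coeffs_subset' {A R : Type*} [CommRing A] [CommRing R] [Algebra A R] {n : ℕ}
    (B : Subalgebra A R) (p : MvPolynomial (Fin n) R)
    (hp : (p.coeffs : Set R) ⊆ B) :
    ∃ p' : MvPolynomial (Fin n) B, MvPolynomial.map (algebraMap B R) p' = p := by
  have : p ∈ Set.range (MvPolynomial.map (algebraMap B R)) := by
    rw [MvPolynomial.mem_range_map_iff_coeffs_subset]
    intro x hx
    exact ⟨⟨x, hp hx⟩, rfl⟩
  exact this

/-- every finite family of polynomial vectors is defined over a finitely generated `ℤ`-subalgebra. -/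
theorem exists_vmap_eq {b c : ℕ} (v : Fin c → (Fin b → MvPolynomial (Fin n) R)) :
    ∃ R0 : Subalgebra ℤ R, R0.FG ∧ ∃ v0 : Fin c → (Fin b → MvPolynomial (Fin n) R0),
      vmap R v0 = v := by
  classical
  let S : Finset R := Finset.univ.biUnion fun l => Finset.univ.biUnion fun i => (v l i).coeffs
  let R0 : Subalgebra ℤ R := Algebra.adjoin ℤ (S : Set R)
  have hS : (S : Set R) ⊆ R0 := Algebra.subset_adjoin
  have h : ∀ l i, ∃ p' : MvPolynomial (Fin n) R0,
      MvPolynomial.map (algebraMap R0 R) p' = v l i := by
    intro l i
    apply lift_of_coeffs_subset'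
    refine subset_trans ?_ hS
    intro x hx
    simp only [S, Finset.coe_biUnion, Set.mem_iUnion]
    exact ⟨l, by simp, i, by simp, hx⟩
  choose v0 hv0 using h
  refine ⟨R0, Subalgebra.fg_adjoin_finset S, v0, ?_⟩
  funext l i
  exact hv0 l i

/-- **Openness of the flat locus** for a finitely presented module over a polynomial ring over an
arbitrary ring. -/
theorem isOpen_flatLocus_mvPolynomial :
    IsOpen {q : PrimeSpectrum (MvPolynomial (Fin n) R) |
      Module.Flat R (LocalizedModule q.asIdeal.primeCompl M)} := by
  obtain ⟨b, K, e, hK⟩ := Module.FinitePresentation.exists_fin (MvPolynomial (Fin n) R) M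
  obtain ⟨c, v, hv⟩ := Submodule.fg_iff_exists_fin_generating_family.mp hK
  obtain ⟨R0, hR0, v0, rfl⟩ := exists_vmap_eq R n v
  subst hv
  haveI : Algebra.FiniteType ℤ R0 := (Subalgebra.fg_iff_finiteType R0).mp hR0
  haveI : IsNoetherianRing R0 := Algebra.FiniteType.isNoetherianRing ℤ R0
  have key : ∀ q : Ideal (MvPolynomial (Fin n) R), ∀ [q.IsPrime],
      (Module.Flat R (LocalizedModule q.primeCompl M) ↔
        Module.Flat R (LocalizedModule q.primeCompl
          ((Fin b → MvPolynomial (Fin n) R) ⧸ NB (vmap R v0)))) := by
    intro q _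
    constructor
    · intro h
      exact flat_of_le q.primeCompl q.primeCompl (LocalizedModule.mkLinearMap q.primeCompl M)
        ((LocalizedModule.mkLinearMap q.primeCompl _) ∘ₗ e.toLinearMap) le_rfl h
    · intro h
      exact flat_of_le q.primeCompl q.primeCompl
        ((LocalizedModule.mkLinearMap q.primeCompl _) ∘ₗ e.toLinearMap)
        (LocalizedModule.mkLinearMap q.primeCompl M) le_rfl h
  rw [isOpen_iff_forall_mem_open]
  intro q hq
  obtain ⟨g, hg, hgq⟩ := exists_notMem_forall_flat_model v0 q.asIdeal
    ((key q.asIdeal).mp hq)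
  refine ⟨PrimeSpectrum.basicOpen g, ?_, (PrimeSpectrum.basicOpen g).isOpen, hg⟩
  intro q' hq'
  exact (key q'.asIdeal).mpr (hgq q'.asIdeal hq')

end Poly

section Alg

variable {R P S : Type*} [CommRing R] [CommRing P] [CommRing S] [Algebra R P] [Algebra R S]
  (π : P →ₐ[R] S) (hπ : Function.Surjective π)
  (M : Type*) [AddCommGroup M] [Module R M] [Module S M] [IsScalarTower R S M]
  [Module P M] [IsScalarTower R P M] (hM : ∀ (p : P) (m : M), p • m = π p • m)

include hM in
theorem smul_tensor_eq (p : P) {Q : Type*} [AddCommGroup Q] [Module R Q] (x : M ⊗[R] Q) :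
    p • x = π p • x := by
  induction x using TensorProduct.induction_on with
  | zero => simp
  | add x y hx hy => rw [smul_add, smul_add, hx, hy]
  | tmul m q => rw [TensorProduct.smul_tmul', TensorProduct.smul_tmul', hM]

include hπ hM in
/-- localizing `M` at a prime of `S`, or at its preimage in `P`, gives the same flatness over `R`. -/
theorem flat_localizedModule_comap_iff (q : Ideal S) [q.IsPrime] :
    Module.Flat R (LocalizedModule (q.comap π).primeCompl M) ↔
      Module.Flat R (LocalizedModule q.primeCompl M) := by
  rw [flat_iff (q.comap π).primeCompl (LocalizedModule.mkLinearMap (q.comap π).primeCompl M),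
    flat_iff q.primeCompl (LocalizedModule.mkLinearMap q.primeCompl M)]
  constructor
  · intro h 𝔟 x hx
    obtain ⟨t, ht, htx⟩ := h 𝔟 x hx
    exact ⟨π t, ht, by rw [← smul_tensor_eq π M hM]; exact htx⟩
  · intro h 𝔟 x hx
    obtain ⟨t, ht, htx⟩ := h 𝔟 x hx
    obtain ⟨p, rfl⟩ := hπ t
    exact ⟨p, ht, by rw [smul_tensor_eq π M hM]; exact htx⟩

end Alg

section Main

/-- **Openness of the flat locus** (EGA IV 11.3.1, Stacks 00RC), algebra form. -/
theorem isOpen_flatLocus_of_finitePresentation {R S M : Type u} [CommRing R] [CommRing S]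
    [Algebra R S] [Algebra.FinitePresentation R S] [AddCommGroup M] [Module S M] [Module R M]
    [IsScalarTower R S M] [Module.FinitePresentation S M] :
    IsOpen {q : PrimeSpectrum S | Module.Flat R (LocalizedModule q.asIdeal.primeCompl M)} := by
  obtain ⟨n, π, hπ, hker⟩ := Algebra.FinitePresentation.out (R := R) (A := S)
  letI : Algebra (MvPolynomial (Fin n) R) S := π.toRingHom.toAlgebra
  letI : Module (MvPolynomial (Fin n) R) M := Module.compHom M π.toRingHom
  haveI : IsScalarTower (MvPolynomial (Fin n) R) S M :=
    ⟨fun p s m => by change (π p * s) • m = π p • (s • m); rw [mul_smul]⟩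
  haveI : IsScalarTower R (MvPolynomial (Fin n) R) M :=
    ⟨fun r p m => by change π (r • p) • m = r • (π p • m); rw [map_smul, smul_assoc]⟩
  haveI : Module.FinitePresentation (MvPolynomial (Fin n) R) S := by
    refine Module.finitePresentation_of_surjective (Algebra.linearMap _ S) hπ ?_
    have : LinearMap.ker (Algebra.linearMap (MvPolynomial (Fin n) R) S) =
        RingHom.ker π.toRingHom := by
      ext x
      rfl
    rw [this]
    exact hker
  haveI : Module.FinitePresentation (MvPolynomial (Fin n) R) M :=
    Module.FinitePresentation.trans _ M S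
  have hopen := isOpen_flatLocus_mvPolynomial R n M
  have : {q : PrimeSpectrum S | Module.Flat R (LocalizedModule q.asIdeal.primeCompl M)} =
      (PrimeSpectrum.comap π.toRingHom) ⁻¹' {q' : PrimeSpectrum (MvPolynomial (Fin n) R) |
        Module.Flat R (LocalizedModule q'.asIdeal.primeCompl M)} := by
    ext q
    exact (flat_localizedModule_comap_iff π hπ M (fun _ _ => rfl) q.asIdeal).symm
  rw [this]
  exact hopen.preimage (PrimeSpectrum.continuous_comap _)

end Main

end Groth.Agent.Lib.helper3.FlatDesc
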