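import Mathlib
import Groth.Agent.Lib.Helper3.FlatDescF
import Groth.Agent.Lib.Helper17.FlatOver1
/-!
# Pointwise and global descent of flatness to finitely generated subalgebras, model case (helper3)

`R0` Noetherian, `R` an `R0`-algebra, `M_B := (Fin b → MvPolynomial (Fin n) B) ⧸ span (vmap B v0)`.

* `exists_fg_subalgebra_forall_flat` (EGA IV 11.2.6 + openness): if `(M_R)_q` is `R`-flat there are a
  f.g. `R0`-subalgebra `B ⊆ R` and `g ∈ P_B` with image not in `q` such that `M_B` is `B`-flat at all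
  primes of `D(g)`.
* `flat_model_iff_forall_prime` : `M_R` is `R`-flat iff it is so at all primes of `P_R`.
* `exists_fg_subalgebra_flat_model` (EGA IV 11.2.6.1): if `M_R` is `R`-flat, then `M_B` is `B`-flat
  for some f.g. `R0`-subalgebra `B ⊆ R`.
-/

set_option autoImplicit false
universe u

open TensorProduct

namespace Groth.Agent.Lib.helper3.FlatDesc

open Groth.Agent.Lib.helper3.FlatLocus

section Pointwise

variable {R0 R : Type u} [CommRing R0] [CommRing R] [Algebra R0 R] [IsNoetherianRing R0]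
  {n b c : ℕ} (v0 : Fin c → (Fin b → MvPolynomial (Fin n) R0))

/-- **Pointwise descent of flatness + openness.** -/
theorem exists_fg_subalgebra_forall_flat (q : Ideal (MvPolynomial (Fin n) R)) [q.IsPrime]
    (hflat : Module.Flat R (LocalizedModule q.primeCompl
      ((Fin b → MvPolynomial (Fin n) R) ⧸ NB (vmap R v0)))) :
    ∃ B : Subalgebra R0 R, B.FG ∧ ∃ gB : MvPolynomial (Fin n) B,
      MvPolynomial.map (algebraMap B R) gB ∉ q ∧
      ∀ (q' : Ideal (MvPolynomial (Fin n) B)) [q'.IsPrime], gB ∉ q' →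
        Module.Flat B (LocalizedModule q'.primeCompl
          ((Fin b → MvPolynomial (Fin n) B) ⧸ NB (vmap B v0))) := by
  set p0 : Ideal R0 := (q.comap (MvPolynomial.C : R →+* MvPolynomial (Fin n) R)).comap
    (algebraMap R0 R) with hp0
  haveI : p0.IsPrime := Ideal.comap_isPrime _ _
  obtain ⟨f, hf, hG⟩ := exists_genFlat (NB v0) p0
  obtain ⟨B, hBfg, t, ht, hE⟩ := exists_fg_subalgebra_E v0 p0 q hflat
  haveI : Algebra.FiniteType R0 B := (Subalgebra.fg_iff_finiteType B).mp hBfg
  set qB : Ideal (MvPolynomial (Fin n) B) := q.comap (MvPolynomial.map (algebraMap B R)) with hqB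
  haveI : qB.IsPrime := Ideal.comap_isPrime _ _
  have hmem : ∀ r : R0, MvPolynomial.C (algebraMap R0 B r) ∈ qB ↔ r ∈ p0 := by
    intro r
    rw [hqB, Ideal.mem_comap, MvPolynomial.map_C, ← IsScalarTower.algebraMap_apply, hp0,
      Ideal.mem_comap, Ideal.mem_comap]
  have hflatB : Module.Flat B (LocalizedModule qB.primeCompl
      ((Fin b → MvPolynomial (Fin n) B) ⧸ NB (vmap B v0))) :=
    flat_localizedModule_of_E v0 p0 f qB hG (fun h => hf ((hmem f).mp h))
      (fun r hr => (hmem r).mpr hr) ⟨t, ht, hE⟩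
  haveI : IsNoetherianRing B := Algebra.FiniteType.isNoetherianRing R0 B
  have hopen := isOpen_flatLocus_primeSpectrum B (MvPolynomial (Fin n) B)
    ((Fin b → MvPolynomial (Fin n) B) ⧸ NB (vmap B v0))
  obtain ⟨_, ⟨gB, rfl⟩, hgB, hsub⟩ :=
    PrimeSpectrum.isTopologicalBasis_basic_opens.exists_subset_of_mem_open
      (show (⟨qB, inferInstance⟩ : PrimeSpectrum (MvPolynomial (Fin n) B)) ∈ _ from hflatB) hopen
  refine ⟨B, hBfg, gB, hgB, ?_⟩
  intro q' _ hq'
  exact hsub (a := ⟨q', inferInstance⟩) hq'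

end Pointwise

section LocalGlobal

variable {R : Type*} [CommRing R] {n b : ℕ}
  (N : Submodule (MvPolynomial (Fin n) R) (Fin b → MvPolynomial (Fin n) R))

/-- flatness of the model over the base is local on the polynomial ring. -/
theorem flat_model_iff_forall_prime :
    Module.Flat R ((Fin b → MvPolynomial (Fin n) R) ⧸ N) ↔
      ∀ (q : Ideal (MvPolynomial (Fin n) R)) [q.IsPrime],
        Module.Flat R (LocalizedModule q.primeCompl ((Fin b → MvPolynomial (Fin n) R) ⧸ N)) := by
  constructor
  · intro h q _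
    exact Groth.Agent.Lib.helper17.FlatOver1.flat_of_isLocalizedModule_over q.primeCompl
      (LocalizedModule.mkLinearMap q.primeCompl ((Fin b → MvPolynomial (Fin n) R) ⧸ N))
  · intro h
    refine Module.flat_of_isLocalized_maximal (R := R) (MvPolynomial (Fin n) R)
      ((Fin b → MvPolynomial (Fin n) R) ⧸ N)
      (fun P _ => LocalizedModule P.primeCompl ((Fin b → MvPolynomial (Fin n) R) ⧸ N))
      (fun P _ => LocalizedModule.mkLinearMap P.primeCompl _) ?_
    intro P hP
    haveI : P.IsPrime := hP.isPrime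
    exact h P

end LocalGlobal

section BaseChange

variable {B B' : Type*} [CommRing B] [CommRing B'] [Algebra B B']
  {n b c : ℕ} (v : Fin c → (Fin b → MvPolynomial (Fin n) B))

/-- base change of flatness for the model (no tensor products needed). -/
theorem flat_model_baseChange
    (h : Module.Flat B ((Fin b → MvPolynomial (Fin n) B) ⧸ NB v)) :
    Module.Flat B' ((Fin b → MvPolynomial (Fin n) B') ⧸ NB (vmap B' v)) := by
  rw [flat_model_iff_forall_prime]
  intro q' _
  apply flat_of_flat_comap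
  exact (flat_model_iff_forall_prime (NB v)).mp h _

end BaseChange

section Global

variable {R0 R : Type u} [CommRing R0] [CommRing R] [Algebra R0 R] [IsNoetherianRing R0]
  {n b c : ℕ} (v0 : Fin c → (Fin b → MvPolynomial (Fin n) R0))

omit [IsNoetherianRing R0] in
theorem flat_at_of_le {B1 B2 : Subalgebra R0 R} (hle : B1 ≤ B2) (g1 : MvPolynomial (Fin n) B1)
    (h1 : ∀ (q1 : Ideal (MvPolynomial (Fin n) B1)) [q1.IsPrime], g1 ∉ q1 →
      Module.Flat B1 (LocalizedModule q1.primeCompl
        ((Fin b → MvPolynomial (Fin n) B1) ⧸ NB (vmap B1 v0))))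
    (q2 : Ideal (MvPolynomial (Fin n) B2)) [q2.IsPrime]
    (hq2 : MvPolynomial.map (Subalgebra.inclusion hle).toRingHom g1 ∉ q2) :
    Module.Flat B2 (LocalizedModule q2.primeCompl
      ((Fin b → MvPolynomial (Fin n) B2) ⧸ NB (vmap B2 v0))) := by
  letI : Algebra B1 B2 := (Subalgebra.inclusion hle).toRingHom.toAlgebra
  haveI : IsScalarTower R0 B1 B2 := IsScalarTower.of_algebraMap_eq (fun r => rfl)
  rw [← vmap_vmap v0 B1]
  apply flat_of_flat_comap
  exact h1 _ hq2

/-- **Global descent of flatness to a finitely generated subalgebra** (EGA IV 11.2.6.1). -/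
theorem exists_fg_subalgebra_flat_model
    (hflat : Module.Flat R ((Fin b → MvPolynomial (Fin n) R) ⧸ NB (vmap R v0))) :
    ∃ B : Subalgebra R0 R, B.FG ∧
      Module.Flat B ((Fin b → MvPolynomial (Fin n) B) ⧸ NB (vmap B v0)) := by
  classical
  have h1 := (flat_model_iff_forall_prime (NB (vmap R v0))).mp hflat
  have h2 : ∀ q : PrimeSpectrum (MvPolynomial (Fin n) R), ∃ B : Subalgebra R0 R, B.FG ∧
      ∃ gB : MvPolynomial (Fin n) B,
      MvPolynomial.map (algebraMap B R) gB ∉ q.asIdeal ∧
      ∀ (q' : Ideal (MvPolynomial (Fin n) B)) [q'.IsPrime], gB ∉ q' →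
        Module.Flat B (LocalizedModule q'.primeCompl
          ((Fin b → MvPolynomial (Fin n) B) ⧸ NB (vmap B v0))) := fun q =>
    exists_fg_subalgebra_forall_flat v0 q.asIdeal (h1 q.asIdeal)
  choose Bq hfg g hg hfl using h2
  choose tB htB using hfg
  set S : Set (MvPolynomial (Fin n) R) :=
    Set.range (fun q => MvPolynomial.map (algebraMap (Bq q) R) (g q)) with hS
  have hspan : Ideal.span S = ⊤ := by
    by_contra hne
    obtain ⟨m, hm, hle⟩ := Ideal.exists_le_maximal _ hne
    exact hg ⟨m, hm.isPrime⟩ (hle (Ideal.subset_span ⟨⟨m, hm.isPrime⟩, rfl⟩))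
  obtain ⟨S', hS'S, hS'⟩ := (Ideal.span_eq_top_iff_finite S).mp hspan
  have hone : (1 : MvPolynomial (Fin n) R) ∈ Ideal.span (S' : Set (MvPolynomial (Fin n) R)) := by
    rw [hS']; trivial
  obtain ⟨h, hh⟩ := Submodule.mem_span_finset'.mp hone
  have hqa : ∀ a : S', ∃ q, MvPolynomial.map (algebraMap (Bq q) R) (g q) = a.1 := fun a =>
    hS'S a.2
  choose qa hqa using hqa
  let T : Finset R := (Finset.univ.biUnion fun a : S' => tB (qa a)) ∪
    (Finset.univ.biUnion fun a : S' => (h a).coeffs)
  let B' : Subalgebra R0 R := Algebra.adjoin R0 (T : Set R)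
  have hTB : (T : Set R) ⊆ B' := Algebra.subset_adjoin
  have hle : ∀ a : S', Bq (qa a) ≤ B' := by
    intro a
    rw [← htB (qa a)]
    apply Algebra.adjoin_mono
    intro x hx
    simp only [T, Finset.coe_union, Finset.coe_biUnion, Set.mem_union, Set.mem_iUnion]
    exact Or.inl ⟨a, by simp, hx⟩
  have hh' : ∀ a : S', ∃ p' : MvPolynomial (Fin n) B',
      MvPolynomial.map (algebraMap B' R) p' = h a := by
    intro a
    apply lift_of_coeffs_subset
    refine subset_trans ?_ hTB
    intro x hx
    simp only [T, Finset.coe_union, Finset.coe_biUnion, Set.mem_union, Set.mem_iUnion]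
    exact Or.inr ⟨a, by simp, hx⟩
  choose h' hh' using hh'
  set g' : S' → MvPolynomial (Fin n) B' := fun a =>
    MvPolynomial.map (Subalgebra.inclusion (hle a)).toRingHom (g (qa a)) with hg'
  have hg'map : ∀ a : S', MvPolynomial.map (algebraMap B' R) (g' a) = a.1 := by
    intro a
    rw [← hqa a, hg', MvPolynomial.map_map]
    rfl
  have heq : ∑ a : S', h' a * g' a = 1 := by
    apply MvPolynomial.map_injective (algebraMap B' R) Subtype.val_injective
    rw [map_sum, map_one, ← hh]
    refine Finset.sum_congr rfl fun a _ => ?_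
    rw [map_mul, hh', hg'map, smul_eq_mul]
  refine ⟨B', Subalgebra.fg_adjoin_finset T, ?_⟩
  rw [flat_model_iff_forall_prime]
  intro q' _
  have hex : ∃ a : S', g' a ∉ q' := by
    by_contra hcon
    push Not at hcon
    have : (1 : MvPolynomial (Fin n) B') ∈ q' := by
      rw [← heq]
      exact Ideal.sum_mem _ fun a _ => Ideal.mul_mem_left _ _ (hcon a)
    exact (inferInstance : q'.IsPrime).ne_top ((Ideal.eq_top_iff_one _).mpr this)
  obtain ⟨a, ha⟩ := hex
  exact flat_at_of_le v0 (hle a) (g (qa a)) (hfl (qa a)) q' ha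

end Global

end Groth.Agent.Lib.helper3.FlatDesc
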