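import Mathlib
import Groth.Agent.Lib.Helper3.FlatDescK
import Groth.Agent.Lib.Helper3.FlatDescG
/-!
# Descent of flatness for finitely presented algebras: algebra form (helper3)

* `flat_localizedModule_powers_of_forall_prime` : flatness on `D(g)` from flatness at all primes of
  `D(g)`.
* `quotTensorEquiv` : `A ⊗[C] (C[X]/(w)) ≃ₐ[A] A[X]/(w)`.
* `exists_fg_model_flat_away` (Stacks 00R6 + 00RC, cf. 046Z): `B` f.p. over `A`, `B_q` flat over `A`
  ⇒ a model `B₀` over a finitely generated `ℤ`-algebra `A₀ ⊆ A` and `g₀ ∈ B₀`, not in `q`, with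
  `(B₀)_{g₀}` flat over `A₀`.
* `exists_fg_model_flat` : `B` f.p. and flat over `A` ⇒ a flat f.p. model over a f.g. `ℤ`-algebra.
* `flat_atPrime_iff_model` : for a presentation `π : C[X] ↠ B` with kernel `(w)`, `B_q` is flat over
  `C₀` iff the model `(Fin 1 → C[X])/span(vOf w)` is flat over `C₀` at `π⁻¹ q`.
-/

set_option autoImplicit false
set_option linter.style.haveILetI false
universe u

open TensorProduct

namespace Groth.Agent.Lib.helper3.FlatDesc

open Groth.Agent.Lib.helper3.FlatLocus

section Away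

theorem flat_localizedModule_powers_of_forall_prime {C S₀ : Type*} [CommRing C] [CommRing S₀]
    [Algebra C S₀] (M : Type*) [AddCommGroup M] [Module C M] [Module S₀ M] [IsScalarTower C S₀ M]
    (g₀ : S₀)
    (h : ∀ (q₀ : Ideal S₀) [q₀.IsPrime], g₀ ∉ q₀ →
      Module.Flat C (LocalizedModule q₀.primeCompl M)) :
    Module.Flat C (LocalizedModule (Submonoid.powers g₀) M) := by
  rw [flat_iff (Submonoid.powers g₀) (LocalizedModule.mkLinearMap (Submonoid.powers g₀) M)]
  intro 𝔟 x hx
  by_contra hcon
  push Not at hcon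
  have hdisj : Disjoint ((Ideal.torsionOf S₀ (M ⊗[C] 𝔟) x : Ideal S₀) : Set S₀)
      (Submonoid.powers g₀ : Set S₀) := by
    rw [Set.disjoint_left]
    intro c hc hc'
    exact hcon c hc' ((Ideal.mem_torsionOf_iff _ _).mp hc)
  obtain ⟨r, hrp, hIr, hrT⟩ := Ideal.exists_le_prime_disjoint _ _ hdisj
  have hg : g₀ ∉ r := fun hg => Set.disjoint_left.mp hrT hg ⟨1, pow_one g₀⟩
  obtain ⟨t, ht, htx⟩ :=
    (flat_iff r.primeCompl (LocalizedModule.mkLinearMap r.primeCompl M)).mp (h r hg) 𝔟 x hx
  exact ht (hIr ((Ideal.mem_torsionOf_iff _ _).mpr htx))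

end Away

section AlgIso

variable {C : Type*} (A : Type*) [CommRing C] [CommRing A] [Algebra C A] {n d : ℕ}
  (w : Fin d → MvPolynomial (Fin n) C)

/-- the base-changed relations. -/
noncomputable abbrev wmap : Fin d → MvPolynomial (Fin n) A :=
  fun l => MvPolynomial.map (algebraMap C A) (w l)

theorem map_span_range_eq :
    (Ideal.span (Set.range w)).map (MvPolynomial.map (algebraMap C A)) =
      Ideal.span (Set.range (wmap A w)) := by
  rw [Ideal.map_span]
  congr 1
  ext x
  simp [wmap]

/-- `A ⊗[C] (C[X]/(w)) ≃ₐ[A] A[X]/(w)`. -/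
noncomputable def quotTensorEquiv :
    A ⊗[C] (MvPolynomial (Fin n) C ⧸ Ideal.span (Set.range w)) ≃ₐ[A]
      MvPolynomial (Fin n) A ⧸ Ideal.span (Set.range (wmap A w)) :=
  (Algebra.TensorProduct.tensorQuotientEquiv A (MvPolynomial (Fin n) C) A
    (Ideal.span (Set.range w))).trans
    (Ideal.quotientEquivAlg _ _ (MvPolynomial.algebraTensorAlgEquiv C A) (by
      rw [Ideal.map_span, Ideal.map_span]
      congr 1
      ext x
      simp only [Set.mem_range, Set.mem_image, exists_exists_eq_and, wmap,
        Algebra.TensorProduct.includeRight_apply]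
      constructor
      · rintro ⟨l, rfl⟩
        exact ⟨l, by simp⟩
      · rintro ⟨l, rfl⟩
        exact ⟨l, by simp⟩))

theorem quotTensorEquiv_one_tmul (p : MvPolynomial (Fin n) C) :
    quotTensorEquiv A w (1 ⊗ₜ[C] Ideal.Quotient.mk _ p) =
      Ideal.Quotient.mk _ (MvPolynomial.map (algebraMap C A) p) := by
  simp [quotTensorEquiv]

end AlgIso

section Fin1

variable {C : Type*} [CommRing C] {n d : ℕ} (w : Fin d → MvPolynomial (Fin n) C)

/-- the family of vectors `Fin 1 → C[X]` attached to the relations `w`. -/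
def vOf : Fin d → (Fin 1 → MvPolynomial (Fin n) C) := fun l _ => w l

theorem vmap_vOf (A : Type*) [CommRing A] [Algebra C A] : vmap A (vOf w) = vOf (wmap A w) := rfl

/-- the model with `b = 1` is the quotient ring `C[X]/(w)`. -/
noncomputable def modelEquivQuot :
    ((Fin 1 → MvPolynomial (Fin n) C) ⧸ NB (vOf w)) ≃ₗ[MvPolynomial (Fin n) C]
      (MvPolynomial (Fin n) C ⧸ Ideal.span (Set.range w)) :=
  Submodule.Quotient.equiv (NB (vOf w)) (Ideal.span (Set.range w))
    (LinearEquiv.funUnique (Fin 1) (MvPolynomial (Fin n) C) (MvPolynomial (Fin n) C)) (by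
      rw [Submodule.map_span]
      congr 1
      ext x
      simp [vOf])

theorem smul_quot_eq {C₀ : Type*} [CommRing C₀] [Algebra C₀ C] (p : MvPolynomial (Fin n) C)
    (m : MvPolynomial (Fin n) C ⧸ Ideal.span (Set.range w)) :
    p • m = Ideal.Quotient.mkₐ C₀ (Ideal.span (Set.range w)) p • m := by
  obtain ⟨y, rfl⟩ := Ideal.Quotient.mk_surjective m
  rfl

/-- flatness of the localizations of `C[X]/(w)` in terms of the model. -/
theorem flat_localizedModule_quot_iff {C₀ : Type*} [CommRing C₀] [Algebra C₀ C]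
    (q₀ : Ideal (MvPolynomial (Fin n) C ⧸ Ideal.span (Set.range w))) [q₀.IsPrime] :
    Module.Flat C₀ (LocalizedModule q₀.primeCompl
        (MvPolynomial (Fin n) C ⧸ Ideal.span (Set.range w))) ↔
      Module.Flat C₀ (LocalizedModule
        (q₀.comap (Ideal.Quotient.mkₐ C₀ (Ideal.span (Set.range w)))).primeCompl
        ((Fin 1 → MvPolynomial (Fin n) C) ⧸ NB (vOf w))) := by
  rw [← flat_localizedModule_comap_iff (Ideal.Quotient.mkₐ C₀ (Ideal.span (Set.range w)))
    (Ideal.Quotient.mkₐ_surjective C₀ _) _ (smul_quot_eq w) q₀]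
  set T := (q₀.comap (Ideal.Quotient.mkₐ C₀ (Ideal.span (Set.range w)))).primeCompl with hT
  constructor
  · intro h
    exact flat_of_le T T
      ((LocalizedModule.mkLinearMap T _) ∘ₗ (modelEquivQuot w).toLinearMap)
      (LocalizedModule.mkLinearMap T _) le_rfl h
  · intro h
    exact flat_of_le T T (LocalizedModule.mkLinearMap T _)
      ((LocalizedModule.mkLinearMap T _) ∘ₗ (modelEquivQuot w).toLinearMap) le_rfl h

end Fin1

section Coeffs

variable (A : Type*) [CommRing A] {n d : ℕ}

/-- every finite family of polynomials (and any finite set of scalars) is defined over a finitely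
generated `ℤ`-subalgebra. -/
theorem exists_wmap_eq (w : Fin d → MvPolynomial (Fin n) A) (s : Finset A) :
    ∃ R0 : Subalgebra ℤ A, R0.FG ∧ (s : Set A) ⊆ R0 ∧
      ∃ w0 : Fin d → MvPolynomial (Fin n) R0, wmap A w0 = w := by
  classical
  let S : Finset A := s ∪ Finset.univ.biUnion fun l => (w l).coeffs
  let R0 : Subalgebra ℤ A := Algebra.adjoin ℤ (S : Set A)
  have hS : (S : Set A) ⊆ R0 := Algebra.subset_adjoin
  have h : ∀ l, ∃ p' : MvPolynomial (Fin n) R0,
      MvPolynomial.map (algebraMap R0 A) p' = w l := by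
    intro l
    apply lift_of_coeffs_subset'
    refine subset_trans ?_ hS
    intro x hx
    simp only [S, Finset.coe_union, Finset.coe_biUnion, Set.mem_union, Set.mem_iUnion]
    exact Or.inr ⟨l, by simp, hx⟩
  choose w0 hw0 using h
  refine ⟨R0, Subalgebra.fg_adjoin_finset S, ?_, w0, ?_⟩
  · refine subset_trans ?_ hS
    intro x hx
    simp only [S, Finset.coe_union, Set.mem_union]
    exact Or.inl hx
  · funext l
    exact hw0 l

end Coeffs

section Pres

variable {C : Type*} [CommRing C] {n d : ℕ} (w : Fin d → MvPolynomial (Fin n) C)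

theorem mem_NB_vOf_iff (x : Fin 1 → MvPolynomial (Fin n) C) :
    x ∈ NB (vOf w) ↔ x 0 ∈ Ideal.span (Set.range w) := by
  have h : (NB (vOf w)).map
      (LinearEquiv.funUnique (Fin 1) (MvPolynomial (Fin n) C) (MvPolynomial (Fin n) C)
        : (Fin 1 → MvPolynomial (Fin n) C) →ₗ[MvPolynomial (Fin n) C] MvPolynomial (Fin n) C) =
      Ideal.span (Set.range w) := by
    rw [Submodule.map_span]
    congr 1
    ext y
    simp [vOf]
  rw [← h]
  constructor
  · intro hx
    exact ⟨x, hx, rfl⟩
  · rintro ⟨y, hy, hxy⟩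
    have : y = x := (LinearEquiv.funUnique (Fin 1) (MvPolynomial (Fin n) C)
      (MvPolynomial (Fin n) C)).injective hxy
    rwa [← this]

variable {B : Type*} [CommRing B] [Algebra C B]
  (π : MvPolynomial (Fin n) C →ₐ[C] B) (hπ : Function.Surjective π)
  (hw : RingHom.ker π = Ideal.span (Set.range w))

include hπ hw in
/-- flatness of `B_q` over `A₀` in terms of the model of a presentation of `B`. -/
theorem flat_atPrime_iff_model {C₀ : Type*} [CommRing C₀] [Algebra C₀ C] [Algebra C₀ B]
    [IsScalarTower C₀ C B] (q : Ideal B) [q.IsPrime] :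
    Module.Flat C₀ (Localization.AtPrime q) ↔
      Module.Flat C₀ (LocalizedModule (q.comap π).primeCompl
        ((Fin 1 → MvPolynomial (Fin n) C) ⧸ NB (vOf w))) := by
  letI : Module (MvPolynomial (Fin n) C) B := Module.compHom B π.toRingHom
  have hM : ∀ (p : MvPolynomial (Fin n) C) (m : B), p • m = π p • m := fun p m => rfl
  haveI : IsScalarTower C (MvPolynomial (Fin n) C) B := ⟨fun a p b => by
    rw [hM, hM, map_smul, smul_assoc]⟩
  haveI : IsScalarTower C₀ (MvPolynomial (Fin n) C) B := ⟨fun a p b => by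
    rw [← algebraMap_smul C a p, ← algebraMap_smul C a (p • b), smul_assoc]⟩
  let π' : MvPolynomial (Fin n) C →ₐ[C₀] B := π.restrictScalars C₀
  have hπ' : Function.Surjective π' := hπ
  let φ : (Fin 1 → MvPolynomial (Fin n) C) →ₗ[MvPolynomial (Fin n) C] B :=
    { toFun := fun x => π (x 0)
      map_add' := fun x y => by simp
      map_smul' := fun p x => by
        simp only [Pi.smul_apply, smul_eq_mul, map_mul, RingHom.id_apply]
        rfl }
  have hφ : Function.Surjective φ := fun b => by
    obtain ⟨p, rfl⟩ := hπ b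
    exact ⟨fun _ => p, rfl⟩
  have hker : LinearMap.ker φ = NB (vOf w) := by
    ext x
    rw [LinearMap.mem_ker, mem_NB_vOf_iff, ← hw, RingHom.mem_ker]
    rfl
  let e : ((Fin 1 → MvPolynomial (Fin n) C) ⧸ NB (vOf w)) ≃ₗ[MvPolynomial (Fin n) C] B :=
    (Submodule.quotEquivOfEq _ _ hker.symm).trans (φ.quotKerEquivOfSurjective hφ)
  have h1 : Module.Flat C₀ (Localization.AtPrime q) ↔
      Module.Flat C₀ (LocalizedModule q.primeCompl B) := by
    constructor
    · intro h
      exact flat_of_le q.primeCompl q.primeCompl (Algebra.linearMap B (Localization.AtPrime q))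
        (LocalizedModule.mkLinearMap q.primeCompl B) le_rfl h
    · intro h
      exact flat_of_le q.primeCompl q.primeCompl (LocalizedModule.mkLinearMap q.primeCompl B)
        (Algebra.linearMap B (Localization.AtPrime q)) le_rfl h
  have h3 : Module.Flat C₀ (LocalizedModule (q.comap π').primeCompl B) ↔
      Module.Flat C₀ (LocalizedModule (q.comap π').primeCompl
        ((Fin 1 → MvPolynomial (Fin n) C) ⧸ NB (vOf w))) := by
    constructor
    · intro h
      exact flat_of_le (q.comap π').primeCompl (q.comap π').primeCompl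
        ((LocalizedModule.mkLinearMap (q.comap π').primeCompl B) ∘ₗ e.toLinearMap)
        (LocalizedModule.mkLinearMap (q.comap π').primeCompl _) le_rfl h
    · intro h
      exact flat_of_le (q.comap π').primeCompl (q.comap π').primeCompl
        (LocalizedModule.mkLinearMap (q.comap π').primeCompl _)
        ((LocalizedModule.mkLinearMap (q.comap π').primeCompl B) ∘ₗ e.toLinearMap) le_rfl h
  rw [h1, ← flat_localizedModule_comap_iff π' hπ' B hM q]
  exact h3

end Pres

section Main

/-- the descended algebra `B'[X]/(w0)` base changes to `B`. -/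
noncomputable def presTensorEquiv {A B : Type*} [CommRing A] [CommRing B] [Algebra A B]
    {R0 : Type*} [CommRing R0] [Algebra R0 A] (A' : Subalgebra R0 A) {n d : ℕ}
    (w0 : Fin d → MvPolynomial (Fin n) R0)
    (π : MvPolynomial (Fin n) A →ₐ[A] B) (hπ : Function.Surjective π)
    (hw : RingHom.ker π = Ideal.span (Set.range (wmap A w0))) :
    A ⊗[A'] (MvPolynomial (Fin n) A' ⧸ Ideal.span (Set.range (wmap A' w0))) ≃ₐ[A] B :=
  (quotTensorEquiv A (wmap A' w0)).trans
    ((Ideal.quotientEquivAlgOfEq A (show Ideal.span (Set.range (wmap A (wmap A' w0))) =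
        RingHom.ker π by
      rw [hw]
      congr 2
      funext l
      simp only [wmap, MvPolynomial.map_map]
      congr 2)).trans
      (Ideal.quotientKerAlgEquivOfSurjective hπ))

theorem presTensorEquiv_one_tmul {A B : Type*} [CommRing A] [CommRing B] [Algebra A B]
    {R0 : Type*} [CommRing R0] [Algebra R0 A] (A' : Subalgebra R0 A) {n d : ℕ}
    (w0 : Fin d → MvPolynomial (Fin n) R0)
    (π : MvPolynomial (Fin n) A →ₐ[A] B) (hπ : Function.Surjective π)
    (hw : RingHom.ker π = Ideal.span (Set.range (wmap A w0)))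
    (p : MvPolynomial (Fin n) A') :
    presTensorEquiv A' w0 π hπ hw (1 ⊗ₜ Ideal.Quotient.mk _ p) =
      π (MvPolynomial.map (algebraMap A' A) p) := by
  simp only [presTensorEquiv, AlgEquiv.trans_apply, quotTensorEquiv_one_tmul]
  rfl

/-- flatness of `(C[X]/(w))_g` over `C₀` from flatness of the model at all primes of `D(g)`. -/
theorem flat_away_of_forall_model {C C₀ : Type*} [CommRing C] [CommRing C₀] [Algebra C₀ C]
    {n d : ℕ} (w : Fin d → MvPolynomial (Fin n) C) (g : MvPolynomial (Fin n) C)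
    (h : ∀ (q' : Ideal (MvPolynomial (Fin n) C)) [q'.IsPrime], g ∉ q' →
      Module.Flat C₀ (LocalizedModule q'.primeCompl
        ((Fin 1 → MvPolynomial (Fin n) C) ⧸ NB (vOf w)))) :
    Module.Flat C₀ (Localization.Away
      (Ideal.Quotient.mk (Ideal.span (Set.range w)) g)) := by
  set g₀ := Ideal.Quotient.mk (Ideal.span (Set.range w)) g with hg₀
  have h1 : Module.Flat C₀ (LocalizedModule (Submonoid.powers g₀)
      (MvPolynomial (Fin n) C ⧸ Ideal.span (Set.range w))) := by
    apply flat_localizedModule_powers_of_forall_prime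
    intro q₀ _ hq₀
    rw [flat_localizedModule_quot_iff w q₀]
    exact h _ hq₀
  exact flat_of_le (Submonoid.powers g₀) (Submonoid.powers g₀)
    (LocalizedModule.mkLinearMap (Submonoid.powers g₀) _)
    (Algebra.linearMap _ (Localization.Away g₀)) le_rfl h1

/-- **Pointwise descent of flatness, algebra form** (Stacks 00R6 + 00RC; cf. 046Z): if `B` is a
finitely presented `A`-algebra and `B_q` is flat over `A`, then there are a finitely generated
`ℤ`-algebra `A₀ ⊆ A` (containing a prescribed finite set), a finitely presented `A₀`-algebra `B₀` with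
`A ⊗[A₀] B₀ ≃ B`, and `g₀ ∈ B₀` with image outside `q` such that `(B₀)_{g₀}` is flat over `A₀`. -/
theorem exists_fg_model_flat_away {A B : Type u} [CommRing A] [CommRing B] [Algebra A B]
    [Algebra.FinitePresentation A B] (q : Ideal B) [q.IsPrime]
    (hq : Module.Flat A (Localization.AtPrime q)) (s : Finset A) :
    ∃ (A₀ : Type u) (_ : CommRing A₀) (_ : Algebra A₀ A), Algebra.FiniteType ℤ A₀ ∧
      Function.Injective (algebraMap A₀ A) ∧ (s : Set A) ⊆ Set.range (algebraMap A₀ A) ∧
      ∃ (B₀ : Type u) (_ : CommRing B₀) (_ : Algebra A₀ B₀), Algebra.FinitePresentation A₀ B₀ ∧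
      ∃ (e : A ⊗[A₀] B₀ ≃ₐ[A] B) (g₀ : B₀), e (1 ⊗ₜ g₀) ∉ q ∧
        Module.Flat A₀ (Localization.Away g₀) := by
  obtain ⟨n, π, hπ, hfg⟩ := Algebra.FinitePresentation.out (R := A) (A := B)
  obtain ⟨d, w, hw⟩ := Submodule.fg_iff_exists_fin_generating_family.mp hfg
  obtain ⟨R0, hR0, hs, w0, rfl⟩ := exists_wmap_eq A w s
  haveI : Algebra.FiniteType ℤ R0 := (Subalgebra.fg_iff_finiteType R0).mp hR0
  haveI : IsNoetherianRing R0 := Algebra.FiniteType.isNoetherianRing ℤ R0
  have hw' : RingHom.ker π = Ideal.span (Set.range (wmap A w0)) := hw.symm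
  have hflat := (flat_atPrime_iff_model (wmap A w0) π hπ hw' (C₀ := A) q).mp hq
  obtain ⟨A', hA'fg, gB, hgB, hfl⟩ :=
    exists_fg_subalgebra_forall_flat (vOf w0) (q.comap π) hflat
  haveI : Algebra.FiniteType R0 A' := (Subalgebra.fg_iff_finiteType A').mp hA'fg
  refine ⟨A', inferInstance, inferInstance, Algebra.FiniteType.trans (S := R0) ‹_› ‹_›,
    Subtype.val_injective, ?_,
    MvPolynomial (Fin n) A' ⧸ Ideal.span (Set.range (wmap A' w0)), inferInstance, inferInstance,
    ?_, presTensorEquiv A' w0 π hπ hw', Ideal.Quotient.mk _ gB, ?_, ?_⟩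
  · intro x hx
    obtain ⟨y, hy⟩ : x ∈ Set.range (algebraMap R0 A) := ⟨⟨x, hs hx⟩, rfl⟩
    exact ⟨algebraMap R0 A' y, by rw [← IsScalarTower.algebraMap_apply, hy]⟩
  · classical
    exact Algebra.FinitePresentation.quotient ⟨Finset.univ.image (wmap A' w0), by simp⟩
  · rw [presTensorEquiv_one_tmul]
    exact hgB
  · exact flat_away_of_forall_model (wmap A' w0) gB hfl

/-- **Global descent of flatness, algebra form** (EGA IV 11.2.6.1): a flat finitely presented
`A`-algebra is the base change of a flat finitely presented algebra over a finitely generated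
`ℤ`-subalgebra of `A` (containing a prescribed finite set). -/
theorem exists_fg_model_flat {A B : Type u} [CommRing A] [CommRing B] [Algebra A B]
    [Algebra.FinitePresentation A B] [Module.Flat A B] (s : Finset A) :
    ∃ (A₀ : Type u) (_ : CommRing A₀) (_ : Algebra A₀ A), Algebra.FiniteType ℤ A₀ ∧
      Function.Injective (algebraMap A₀ A) ∧ (s : Set A) ⊆ Set.range (algebraMap A₀ A) ∧
      ∃ (B₀ : Type u) (_ : CommRing B₀) (_ : Algebra A₀ B₀), Algebra.FinitePresentation A₀ B₀ ∧
        Module.Flat A₀ B₀ ∧ Nonempty (A ⊗[A₀] B₀ ≃ₐ[A] B) := by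
  obtain ⟨n, π, hπ, hfg⟩ := Algebra.FinitePresentation.out (R := A) (A := B)
  obtain ⟨d, w, hw⟩ := Submodule.fg_iff_exists_fin_generating_family.mp hfg
  obtain ⟨R0, hR0, hs, w0, rfl⟩ := exists_wmap_eq A w s
  haveI : Algebra.FiniteType ℤ R0 := (Subalgebra.fg_iff_finiteType R0).mp hR0
  haveI : IsNoetherianRing R0 := Algebra.FiniteType.isNoetherianRing ℤ R0
  have hw' : RingHom.ker π = Ideal.span (Set.range (wmap A w0)) := hw.symm
  have hflat : Module.Flat A ((Fin 1 → MvPolynomial (Fin n) A) ⧸ NB (vmap A (vOf w0))) := by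
    refine Module.Flat.of_linearEquiv (M := B)
      (((modelEquivQuot (wmap A w0)).restrictScalars A).trans
        ((Ideal.quotientEquivAlgOfEq A hw'.symm).trans
          (Ideal.quotientKerAlgEquivOfSurjective hπ)).toLinearEquiv)
  obtain ⟨A', hA'fg, hfl⟩ := exists_fg_subalgebra_flat_model (vOf w0) hflat
  haveI : Algebra.FiniteType R0 A' := (Subalgebra.fg_iff_finiteType A').mp hA'fg
  refine ⟨A', inferInstance, inferInstance, Algebra.FiniteType.trans (S := R0) ‹_› ‹_›,
    Subtype.val_injective, ?_,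
    MvPolynomial (Fin n) A' ⧸ Ideal.span (Set.range (wmap A' w0)), inferInstance, inferInstance,
    ?_, ?_, ⟨presTensorEquiv A' w0 π hπ hw'⟩⟩
  · intro x hx
    obtain ⟨y, hy⟩ : x ∈ Set.range (algebraMap R0 A) := ⟨⟨x, hs hx⟩, rfl⟩
    exact ⟨algebraMap R0 A' y, by rw [← IsScalarTower.algebraMap_apply, hy]⟩
  · classical
    exact Algebra.FinitePresentation.quotient ⟨Finset.univ.image (wmap A' w0), by simp⟩
  · haveI : Module.Flat A' ((Fin 1 → MvPolynomial (Fin n) A') ⧸ NB (vOf (wmap A' w0))) := hfl
    exact Module.Flat.of_linearEquiv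
      (((modelEquivQuot (wmap A' w0)).restrictScalars A').symm)

end Main

end Groth.Agent.Lib.helper3.FlatDesc
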