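import Mathlib
import Groth.Agent.Lib.Helper3.FlatLocus4
/-!
# Openness of the flat locus of a morphism locally of finite type over a locally Noetherian base
(helper3)  — EGA IV 11.1.1 (structure sheaf case, Noetherian base).

* `flat_localRingHom_iff` : `R_Q → S_P` is flat iff `S_P` is flat over `R`.
* `flat_stalkMap_iff` : chart description of flatness of a stalk map.
* `isOpen_flatLocus` : `{x | f.stalkMap x flat}` is open for `f : X ⟶ S` locally of finite type,
  `S` locally Noetherian.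
-/

set_option autoImplicit false
universe u

open AlgebraicGeometry CategoryTheory TopologicalSpace

namespace Groth.Agent.Lib.helper3.FlatLocus

theorem flat_localRingHom_iff {R S : Type u} [CommRing R] [CommRing S] (φ : R →+* S)
    (P : Ideal S) [P.IsPrime] (Q : Ideal R) [Q.IsPrime] (hQP : Q = P.comap φ) :
    (Localization.localRingHom Q P φ hQP).Flat ↔
      (letI := φ.toAlgebra; Module.Flat R (Localization.AtPrime P)) := by
  subst hQP
  algebraize [φ, Localization.localRingHom (Ideal.comap φ P) P φ rfl]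
  have : IsScalarTower R (Localization.AtPrime (Ideal.comap φ P)) (Localization.AtPrime P) :=
    .of_algebraMap_eq fun x ↦ (Localization.localRingHom_to_map _ _ _ rfl x).symm
  constructor
  · intro h
    have h' : Module.Flat (Localization.AtPrime (Ideal.comap φ P)) (Localization.AtPrime P) := h
    exact Module.Flat.trans R (Localization.AtPrime (Ideal.comap φ P)) (Localization.AtPrime P)
  · intro h
    rw [RingHom.Flat, Module.flat_iff_of_isLocalization
      (S := (Localization.AtPrime (Ideal.comap φ P))) (p := (Ideal.comap φ P).primeCompl)]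
    exact h

theorem flat_stalkMap_iff {X S : Scheme.{u}} (f : X ⟶ S) {x : X} (V : S.Opens)
    (hV : IsAffineOpen V) (U : X.Opens) (hU : IsAffineOpen U) (hUV : U ≤ f ⁻¹ᵁ V) (hx : x ∈ U) :
    (f.stalkMap x).hom.Flat ↔
      (letI := (f.appLE V U hUV).hom.toAlgebra
       Module.Flat Γ(S, V) (Localization.AtPrime (hU.primeIdealOf ⟨x, hx⟩).asIdeal)) := by
  rw [RingHom.Flat.respectsIso.arrow_mk_iso_iff
    (IsAffineOpen.arrowStalkMapIso f V hV U hU hUV hx)]
  exact flat_localRingHom_iff (f.appLE V U hUV).hom (hU.primeIdealOf ⟨x, hx⟩).asIdeal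
    (hV.primeIdealOf ⟨f x, hUV hx⟩).asIdeal
    congr($(IsAffineOpen.comap_primeIdealOf_appLE V hV U hU hUV hx).1).symm

theorem isOpen_flatLocus {X S : Scheme.{u}} [IsLocallyNoetherian S] (f : X ⟶ S)
    [LocallyOfFiniteType f] : IsOpen {x : X | (f.stalkMap x).hom.Flat} := by
  rw [isOpen_iff_forall_mem_open]
  intro x hx
  obtain ⟨_, ⟨V, hV : IsAffineOpen V, rfl⟩, hfxV, -⟩ :=
    S.isBasis_affineOpens.exists_subset_of_mem_open (Set.mem_univ (f x)) isOpen_univ
  obtain ⟨_, ⟨U, hU : IsAffineOpen U, rfl⟩, hxU, hUV'⟩ :=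
    X.isBasis_affineOpens.exists_subset_of_mem_open (show x ∈ (f ⁻¹ᵁ V : Set X) from hfxV)
      (f ⁻¹ᵁ V).isOpen
  have hUV : U ≤ f ⁻¹ᵁ V := hUV'
  have hft : (f.appLE V U hUV).hom.FiniteType := f.finiteType_appLE hV hU hUV
  haveI : IsNoetherianRing Γ(S, V) := IsLocallyNoetherian.component_noetherian ⟨V, hV⟩
  algebraize [(f.appLE V U hUV).hom]
  have hopen := isOpen_flatLocus_primeSpectrum Γ(S, V) Γ(X, U) Γ(X, U)
  set O : Set (PrimeSpectrum Γ(X, U)) :=
    {q | Module.Flat Γ(S, V) (LocalizedModule q.asIdeal.primeCompl Γ(X, U))} with hO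
  refine ⟨hU.fromSpec '' O, ?_, hU.fromSpec.isOpenEmbedding.isOpenMap _ hopen, ?_⟩
  · rintro _ ⟨q, hq, rfl⟩
    have hyU : hU.fromSpec q ∈ U := by
      rw [← SetLike.mem_coe, ← hU.range_fromSpec]
      exact Set.mem_range_self q
    have hq' : hU.primeIdealOf ⟨hU.fromSpec q, hyU⟩ = q :=
      hU.fromSpec.isOpenEmbedding.injective (hU.fromSpec_primeIdealOf ⟨hU.fromSpec q, hyU⟩)
    change (f.stalkMap (hU.fromSpec q)).hom.Flat
    rw [flat_stalkMap_iff f V hV U hU hUV hyU, hq']
    exact hq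
  · refine ⟨hU.primeIdealOf ⟨x, hxU⟩, ?_, hU.fromSpec_primeIdealOf ⟨x, hxU⟩⟩
    exact (flat_stalkMap_iff f V hV U hU hUV hxU).mp hx

end Groth.Agent.Lib.helper3.FlatLocus
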