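import Mathlib
import Groth.Agent.Lib.Helper3.FlatDescG
import Groth.Agent.Lib.Helper3.FlatLocus5
/-!
# Openness of the flat locus of a morphism locally of finite presentation (helper3)
EGA IV 11.3.1 (structure sheaf case).
-/

set_option autoImplicit false
universe u

open AlgebraicGeometry CategoryTheory TopologicalSpace

namespace Groth.Agent.Lib.helper3.FlatDesc

open Groth.Agent.Lib.helper3.FlatLocus

theorem isOpen_flatLocus_of_locallyOfFinitePresentation {X S : Scheme.{u}} (f : X ⟶ S)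
    [LocallyOfFinitePresentation f] : IsOpen {x : X | (f.stalkMap x).hom.Flat} := by
  rw [isOpen_iff_forall_mem_open]
  intro x hx
  obtain ⟨_, ⟨V, hV : IsAffineOpen V, rfl⟩, hfxV, -⟩ :=
    S.isBasis_affineOpens.exists_subset_of_mem_open (Set.mem_univ (f x)) isOpen_univ
  obtain ⟨_, ⟨U, hU : IsAffineOpen U, rfl⟩, hxU, hUV'⟩ :=
    X.isBasis_affineOpens.exists_subset_of_mem_open (show x ∈ (f ⁻¹ᵁ V : Set X) from hfxV)
      (f ⁻¹ᵁ V).isOpen
  have hUV : U ≤ f ⁻¹ᵁ V := hUV'
  have hfp : (f.appLE V U hUV).hom.FinitePresentation := f.finitePresentation_appLE hV hU hUV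
  algebraize [(f.appLE V U hUV).hom]
  have hopen := isOpen_flatLocus_of_finitePresentation (R := Γ(S, V)) (S := Γ(X, U))
    (M := Γ(X, U))
  set O : Set (PrimeSpectrum Γ(X, U)) :=
    {q | Module.Flat Γ(S, V) (LocalizedModule q.asIdeal.primeCompl Γ(X, U))} with hO
  refine ⟨hU.fromSpec '' O, ?_, hU.fromSpec.isOpenEmbedding.isOpenMap _ hopen, ?_⟩
  · rintro _ ⟨q, hq, rfl⟩
    have hyU : hU.fromSpec q ∈ U := by
      rw [← SetLike.mem_coe, ← hU.range_fromSpec]
      exact Set.mem_range_self q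
    have hq' : hU.primeIdealOf ⟨hU.fromSpec q, hyU⟩ = q :=
      hU.fromSpec.isOpenEmbedding.injective (hU.fromSpec_primeIdealOf ⟨hU.fromSpec q, hyU⟩)
    change (f.stalkMap (hU.fromSpec q)).hom.Flat
    rw [flat_stalkMap_iff f V hV U hU hUV hyU, hq']
    exact hq
  · refine ⟨hU.primeIdealOf ⟨x, hxU⟩, ?_, hU.fromSpec_primeIdealOf ⟨x, hxU⟩⟩
    exact (flat_stalkMap_iff f V hV U hU hUV hxU).mp hx

end Groth.Agent.Lib.helper3.FlatDesc
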