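import Mathlib
import Groth.Prelude.Def_CurvBase

/-!
`Curv2.resMap` and the morphism `Spec κ(x) ⟶ X ⟶ Spec k` (helper3).
-/

set_option autoImplicit false
universe u

namespace Groth.Agent.Lib.helper3.ResMap

open AlgebraicGeometry CategoryTheory

/-- a morphism to an affine scheme, in terms of its global sections map -/
theorem eq_toSpecΓ_comp {A : CommRingCat.{u}} {X : Scheme.{u}} (f : X ⟶ Spec A) :
    f = X.toSpecΓ ≫ Spec.map f.appTop ≫ Spec.map (Scheme.ΓSpecIso A).inv := by
  rw [← Scheme.toSpecΓ_naturality_assoc, toSpecΓ_SpecMap_ΓSpecIso_inv, Category.comp_id]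

/-- the ring map `resMap` induces the composite `Spec κ(x) ⟶ X ⟶ Spec k` -/
theorem specMap_resMap (k : Type u) [Field k] (X : Scheme.{u}) [X.Over (Spec (CommRingCat.of k))]
    (x : X) :
    Spec.map (CommRingCat.ofHom (Curv2.resMap k X x)) =
      X.fromSpecResidueField x ≫ (X ↘ Spec (CommRingCat.of k)) := by
  have h1 : CommRingCat.ofHom (Curv2.resMap k X x) =
      (Scheme.ΓSpecIso (CommRingCat.of k)).inv ≫ (X ↘ Spec (CommRingCat.of k)).appTop ≫
        X.presheaf.germ ⊤ x trivial ≫ X.residue x := rfl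
  rw [h1]
  conv_rhs => rw [eq_toSpecΓ_comp (X ↘ Spec (CommRingCat.of k))]
  rw [Scheme.fromSpecResidueField, Category.assoc, Scheme.fromSpecStalk_toSpecΓ_assoc]
  simp only [Spec.map_comp, Category.assoc]

end Groth.Agent.Lib.helper3.ResMap
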