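import Mathlib

/-!
Stalks of a base change `X_K` compared with the base change of `Spec 𝒪_{X,x}` (helper3):
the canonical morphism `Spec 𝒪_{X,x} ⟶ X` is flat, and every point of `X_K` over `x` is the image
of a point `y` of `Spec 𝒪_{X,x} ×_X X_K` with injective stalk map.
-/

set_option autoImplicit false
universe u

namespace Groth.Agent.Lib.helper3.StalkBC

open CategoryTheory Limits AlgebraicGeometry

/-- `Spec 𝒪_{X,x} ⟶ X` is flat -/
theorem flat_fromSpecStalk (X : Scheme.{u}) (x : X) : Flat (X.fromSpecStalk x) := by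
  obtain ⟨_, ⟨U, hU : IsAffineOpen U, rfl⟩, hxU, -⟩ :=
    X.isBasis_affineOpens.exists_subset_of_mem_open (Set.mem_univ x) isOpen_univ
  rw [← hU.fromSpecStalk_eq_fromSpecStalk hxU]
  have h1 : Flat (Spec.map (X.presheaf.germ U x hxU)) := by
    rw [Flat.SpecMap_iff]
    let _ := TopCat.Presheaf.algebra_section_stalk X.presheaf (U := U) ⟨x, hxU⟩
    have h2 := hU.isLocalization_stalk ⟨x, hxU⟩
    exact IsLocalization.flat (X.presheaf.stalk x) (hU.primeIdealOf ⟨x, hxU⟩).asIdeal.primeCompl
  unfold IsAffineOpen.fromSpecStalk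
  infer_instance

/-- the stalk maps of a flat morphism are injective -/
theorem stalkMap_injective_of_flat {X Y : Scheme.{u}} (f : X ⟶ Y) [Flat f] (x : X) :
    Function.Injective (f.stalkMap x).hom := by
  algebraize [(f.stalkMap x).hom]
  have : Module.FaithfullyFlat (Y.presheaf.stalk (f x)) (X.presheaf.stalk x) :=
    @Module.FaithfullyFlat.of_flat_of_isLocalHom _ _ _ _ _ _ _
      (Flat.stalkMap f x) (f.toLRSHom.prop x)
  exact ‹RingHom.FaithfullyFlat _›.injective

/-- Let `π : X' ⟶ X` be any morphism and `x' ∈ X'` with image `x`. Then `x'` is the image of a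
point `y` of `Spec 𝒪_{X,x} ×_X X'`, and the stalk of `X'` at `x'` embeds into the stalk at `y`. -/
theorem exists_point_injective {X X' : Scheme.{u}} (π : X' ⟶ X) (x : X) (x' : X') (h : π x' = x) :
    ∃ (y : ↥(pullback (X.fromSpecStalk x) π))
      (φ : X'.presheaf.stalk x' →+* (pullback (X.fromSpecStalk x) π).presheaf.stalk y),
        Function.Injective φ := by
  have hflat : Flat (X.fromSpecStalk x) := flat_fromSpecStalk X x
  have hflat2 : Flat (pullback.snd (X.fromSpecStalk x) π) := inferInstance
  obtain ⟨y, -, hy⟩ := Scheme.Pullback.exists_preimage_pullback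
    (f := X.fromSpecStalk x) (g := π) (IsLocalRing.closedPoint _) x'
    (Scheme.fromSpecStalk_closedPoint.trans h.symm)
  refine ⟨y, ((pullback.snd (X.fromSpecStalk x) π).stalkMap y).hom.comp
    (X'.presheaf.stalkCongr (.of_eq hy)).inv.hom, ?_⟩
  rw [RingHom.coe_comp]
  refine (stalkMap_injective_of_flat _ y).comp ?_
  exact (ConcreteCategory.bijective_of_isIso (X'.presheaf.stalkCongr (.of_eq hy)).inv).injective

end Groth.Agent.Lib.helper3.StalkBC
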