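import Mathlib
import Groth.Agent.Lib.Helper3.StalkBC
import Groth.Agent.Lib.Helper3.ResMap

/-!
# The base change of `Spec 𝒪_{X,x} ⟶ X` and its stalks (helper3)

For `π : X' ⟶ X` and `x : X`, the projection `ρ : Spec 𝒪_{X,x} ×_X X' ⟶ X'` is a flat preimmersion;
its stalk maps are bijective and its range is the set of points of `X'` mapping to a generization
of `x`.
-/

set_option autoImplicit false
universe u

namespace Groth.Agent.Lib.helper3.StalkBC2

open AlgebraicGeometry CategoryTheory Limits

variable {X X' : Scheme.{u}} (π : X' ⟶ X) (x : X)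

theorem flat_snd : Flat (pullback.snd (X.fromSpecStalk x) π) := by
  have hflat : Flat (X.fromSpecStalk x) := StalkBC.flat_fromSpecStalk X x
  exact MorphismProperty.pullback_snd (P := @Flat) _ _ hflat

theorem surjectiveOnStalks_snd : SurjectiveOnStalks (pullback.snd (X.fromSpecStalk x) π) := by
  have h : SurjectiveOnStalks (X.fromSpecStalk x) := inferInstance
  exact MorphismProperty.pullback_snd (P := @SurjectiveOnStalks) _ _ h

/-- the stalk maps of `Spec 𝒪_{X,x} ×_X X' ⟶ X'` are bijective -/
theorem stalkMap_snd_bijective (y : ↥(pullback (X.fromSpecStalk x) π)) :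
    Function.Bijective ((pullback.snd (X.fromSpecStalk x) π).stalkMap y).hom := by
  have h1 := flat_snd π x
  have h2 := surjectiveOnStalks_snd π x
  exact ⟨StalkBC.stalkMap_injective_of_flat _ y, (pullback.snd (X.fromSpecStalk x) π).stalkMap_surjective y⟩

/-- the ring isomorphism between the local ring of `X'` at `ρ y` and that of
`Spec 𝒪_{X,x} ×_X X'` at `y` -/
noncomputable def stalkEquiv (y : ↥(pullback (X.fromSpecStalk x) π)) :
    X'.presheaf.stalk ((pullback.snd (X.fromSpecStalk x) π) y) ≃+*
      (pullback (X.fromSpecStalk x) π).presheaf.stalk y :=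
  RingEquiv.ofBijective ((pullback.snd (X.fromSpecStalk x) π).stalkMap y).hom
    (stalkMap_snd_bijective π x y)

/-- a point of `X'` mapping to a generization of `x` lifts to `Spec 𝒪_{X,x} ×_X X'` -/
theorem exists_point_of_specializes (x' : X') (h : π x' ⤳ x) :
    ∃ y : ↥(pullback (X.fromSpecStalk x) π), (pullback.snd (X.fromSpecStalk x) π) y = x' := by
  have h1 : x' ∈ Set.range (pullback.snd (X.fromSpecStalk x) π) := by
    rw [Scheme.Pullback.range_snd, Set.mem_preimage, Scheme.range_fromSpecStalk]
    exact h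
  exact h1

/-- a point of `X'` over `x` lifts to a point of `Spec 𝒪_{X,x} ×_X X'` over the closed point -/
theorem exists_point_over_closedPoint (x' : X') (h : π x' = x) :
    ∃ y : ↥(pullback (X.fromSpecStalk x) π), (pullback.snd (X.fromSpecStalk x) π) y = x' ∧
      (pullback.fst (X.fromSpecStalk x) π) y = IsLocalRing.closedPoint (X.presheaf.stalk x) := by
  obtain ⟨y, hy1, hy2⟩ := Scheme.Pullback.exists_preimage_pullback
    (f := X.fromSpecStalk x) (g := π) (IsLocalRing.closedPoint _) x'
    (by rw [Scheme.fromSpecStalk_closedPoint, h])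
  exact ⟨y, hy2, hy1⟩

/-- the image in `X` of a point of `Spec 𝒪_{X,x} ×_X X'` is a generization of `x` -/
theorem snd_specializes (y : ↥(pullback (X.fromSpecStalk x) π)) :
    π ((pullback.snd (X.fromSpecStalk x) π) y) ⤳ x := by
  have h1 : (pullback.snd (X.fromSpecStalk x) π) y ∈
      Set.range (pullback.snd (X.fromSpecStalk x) π) := ⟨y, rfl⟩
  rw [Scheme.Pullback.range_snd, Set.mem_preimage, Scheme.range_fromSpecStalk] at h1
  exact h1

/-- if the closed point lies under `y`, then `ρ y` lies over `x` -/
theorem snd_eq_of_fst_eq_closedPoint (y : ↥(pullback (X.fromSpecStalk x) π))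
    (h : (pullback.fst (X.fromSpecStalk x) π) y = IsLocalRing.closedPoint (X.presheaf.stalk x)) :
    π ((pullback.snd (X.fromSpecStalk x) π) y) = x := by
  have h1 : (pullback.snd (X.fromSpecStalk x) π ≫ π) y =
      (pullback.fst (X.fromSpecStalk x) π ≫ X.fromSpecStalk x) y := by
    rw [pullback.condition]
  have h2 : π ((pullback.snd (X.fromSpecStalk x) π) y) =
      (X.fromSpecStalk x) ((pullback.fst (X.fromSpecStalk x) π) y) := h1
  rw [h2, h, Scheme.fromSpecStalk_closedPoint]


section Field

open TensorProduct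

variable {k : Type u} [Field k] (f : X ⟶ Spec (CommRingCat.of k)) (K : Type u) [Field K]
  [Algebra k K] [Algebra k (X.presheaf.stalk x)]
  (hj : X.fromSpecStalk x ≫ f =
    Spec.map (CommRingCat.ofHom (algebraMap k (X.presheaf.stalk x))))
include hj

/-- `Spec 𝒪_{X,x} ×_X X_K ≅ Spec (𝒪_{X,x} ⊗_k K)` -/
noncomputable def specIso :
    pullback (X.fromSpecStalk x)
      (pullback.fst f (Spec.map (CommRingCat.ofHom (algebraMap k K)))) ≅
      Spec (CommRingCat.of ((X.presheaf.stalk x) ⊗[k] K)) :=
  pullbackRightPullbackFstIso f (Spec.map (CommRingCat.ofHom (algebraMap k K)))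
      (X.fromSpecStalk x) ≪≫
    pullback.congrHom hj rfl ≪≫ pullbackSpecIso k (X.presheaf.stalk x) K

theorem specIso_inv_fst :
    (specIso x f K hj).inv ≫ pullback.fst (X.fromSpecStalk x)
      (pullback.fst f (Spec.map (CommRingCat.ofHom (algebraMap k K)))) =
      Spec.map (CommRingCat.ofHom
        (Algebra.TensorProduct.includeLeftRingHom :
          (X.presheaf.stalk x) →+* (X.presheaf.stalk x) ⊗[k] K)) := by
  simp only [specIso, Iso.trans_inv, Category.assoc, pullbackRightPullbackFstIso_inv_fst,
    pullback.congrHom_inv, pullback.lift_fst, Category.comp_id, pullbackSpecIso_inv_fst]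

/-- a point of `X_K` over a generization of `x` has local ring isomorphic to a localization of
`𝒪_{X,x} ⊗_k K` at a prime -/
theorem exists_prime_of_specializes
    (x' : ↥(pullback f (Spec.map (CommRingCat.ofHom (algebraMap k K)))))
    (h : (pullback.fst f (Spec.map (CommRingCat.ofHom (algebraMap k K)))) x' ⤳ x) :
    ∃ p : PrimeSpectrum ((X.presheaf.stalk x) ⊗[k] K),
      Nonempty ((pullback f (Spec.map (CommRingCat.ofHom (algebraMap k K)))).presheaf.stalk x' ≃+*
        Localization.AtPrime p.asIdeal) := by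
  obtain ⟨y, rfl⟩ := exists_point_of_specializes _ x x' h
  let e := specIso x f K hj
  refine ⟨e.hom y, ⟨?_⟩⟩
  have e1 := stalkEquiv (pullback.fst f (Spec.map (CommRingCat.ofHom (algebraMap k K)))) x y
  have e2 : (Spec (CommRingCat.of ((X.presheaf.stalk x) ⊗[k] K))).presheaf.stalk (e.hom y) ≃+*
      (pullback (X.fromSpecStalk x)
        (pullback.fst f (Spec.map (CommRingCat.ofHom (algebraMap k K))))).presheaf.stalk y :=
    (asIso (e.hom.stalkMap y)).commRingCatIsoToRingEquiv
  have e3 : Localization.AtPrime (e.hom y).asIdeal ≃+*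
      (Spec (CommRingCat.of ((X.presheaf.stalk x) ⊗[k] K))).presheaf.stalk (e.hom y) :=
    (IsLocalization.algEquiv (e.hom y).asIdeal.primeCompl (Localization.AtPrime (e.hom y).asIdeal)
      ((Spec.structureSheaf ((X.presheaf.stalk x) ⊗[k] K)).presheaf.stalk (e.hom y))).toRingEquiv
  exact e1.trans (e2.symm.trans e3.symm)

/-- for `K/k` algebraic, the localization of `𝒪_{X,x} ⊗_k K` at a maximal ideal is isomorphic to
the local ring of `X_K` at a point over `x` -/
theorem exists_point_of_isMaximal [Algebra.IsAlgebraic k K]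
    (m : Ideal ((X.presheaf.stalk x) ⊗[k] K)) [hm : m.IsMaximal] :
    ∃ x' : ↥(pullback f (Spec.map (CommRingCat.ofHom (algebraMap k K)))),
      (pullback.fst f (Spec.map (CommRingCat.ofHom (algebraMap k K)))) x' = x ∧
      Nonempty (Localization.AtPrime m ≃+*
        (pullback f (Spec.map (CommRingCat.ofHom (algebraMap k K)))).presheaf.stalk x') := by
  let e := specIso x f K hj
  let p : PrimeSpectrum ((X.presheaf.stalk x) ⊗[k] K) := ⟨m, hm.isPrime⟩
  let y := e.inv p
  have hfst : (pullback.fst (X.fromSpecStalk x)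
      (pullback.fst f (Spec.map (CommRingCat.ofHom (algebraMap k K))))) y =
      IsLocalRing.closedPoint (X.presheaf.stalk x) := by
    have h1 : (pullback.fst (X.fromSpecStalk x)
        (pullback.fst f (Spec.map (CommRingCat.ofHom (algebraMap k K))))) y =
        (e.inv ≫ pullback.fst (X.fromSpecStalk x)
          (pullback.fst f (Spec.map (CommRingCat.ofHom (algebraMap k K))))) p := rfl
    rw [h1, specIso_inv_fst]
    have hint : Algebra.IsIntegral k K := inferInstance
    have h2 : (Ideal.comap (algebraMap (X.presheaf.stalk x) ((X.presheaf.stalk x) ⊗[k] K))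
        m).IsMaximal := Ideal.isMaximal_comap_of_isIntegral_of_isMaximal m
    apply PrimeSpectrum.ext
    exact IsLocalRing.eq_maximalIdeal h2
  refine ⟨(pullback.snd (X.fromSpecStalk x)
      (pullback.fst f (Spec.map (CommRingCat.ofHom (algebraMap k K))))) y,
    snd_eq_of_fst_eq_closedPoint _ x y hfst, ⟨?_⟩⟩
  have e1 := stalkEquiv (pullback.fst f (Spec.map (CommRingCat.ofHom (algebraMap k K)))) x y
  have e2 : (pullback (X.fromSpecStalk x)
        (pullback.fst f (Spec.map (CommRingCat.ofHom (algebraMap k K))))).presheaf.stalk y ≃+*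
      (Spec (CommRingCat.of ((X.presheaf.stalk x) ⊗[k] K))).presheaf.stalk p :=
    (asIso (e.inv.stalkMap p)).commRingCatIsoToRingEquiv
  have hloc : IsLocalization.AtPrime
      ((Spec.structureSheaf ((X.presheaf.stalk x) ⊗[k] K)).presheaf.stalk p) m :=
    StructureSheaf.IsLocalization.to_stalk (R := (X.presheaf.stalk x) ⊗[k] K) p
  have e3 : Localization.AtPrime m ≃+*
      (Spec (CommRingCat.of ((X.presheaf.stalk x) ⊗[k] K))).presheaf.stalk p :=
    (IsLocalization.algEquiv m.primeCompl (Localization.AtPrime m)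
      ((Spec.structureSheaf ((X.presheaf.stalk x) ⊗[k] K)).presheaf.stalk p)).toRingEquiv
  exact e3.trans (e2.symm.trans e1.symm)

end Field


/-- the ring map `Curv2.stalkMap` induces the composite `Spec 𝒪_{X,x} ⟶ X ⟶ Spec k` -/
theorem specMap_stalkMap (k : Type u) [Field k] (X : Scheme.{u}) [X.Over (Spec (CommRingCat.of k))]
    (x : X) :
    X.fromSpecStalk x ≫ (X ↘ Spec (CommRingCat.of k)) =
      Spec.map (CommRingCat.ofHom (Curv2.stalkMap k X x)) := by
  have h1 : CommRingCat.ofHom (Curv2.stalkMap k X x) =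
      (Scheme.ΓSpecIso (CommRingCat.of k)).inv ≫ (X ↘ Spec (CommRingCat.of k)).appTop ≫
        X.presheaf.germ ⊤ x trivial := rfl
  rw [h1]
  conv_lhs => rw [ResMap.eq_toSpecΓ_comp (X ↘ Spec (CommRingCat.of k))]
  rw [Scheme.fromSpecStalk_toSpecΓ_assoc]
  simp only [Spec.map_comp, Category.assoc]

end Groth.Agent.Lib.helper3.StalkBC2
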