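import Mathlib
import Groth.Agent.Lib.Helper26.DimFormula6

/-!
# Helper library (helper3): the dimension inequality for finite type algebras over a Noetherian
ring, in a form adapted to schemes (arbitrary, not necessarily integral, rings; transcendence
degrees computed on any algebraic overfields such as residue fields).

* `td φ`: transcendence degree of a ring homomorphism.
* `td_eq_of_square`: invariance of `td` under algebraic injective vertical maps.
* `height_add_le`: `A` Noetherian, `B` of finite type over `A`, `q` a prime of `B` over `p`;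
  if `trdeg (A/p) (B/q) = n` and `trdeg (A/p₀) (B/q₀) ≤ E` for all minimal primes `q₀ ≤ q`
  then `ht q + n ≤ ht p + E`.
-/

set_option autoImplicit false
universe u

namespace Groth.Agent.Lib.helper3.DimIneq

open Function

/-- transcendence degree of a ring homomorphism. -/
noncomputable abbrev td {R S : Type u} [CommRing R] [CommRing S] (φ : R →+* S) : Cardinal.{u} :=
  @Algebra.trdeg R S _ _ φ.toAlgebra

theorem td_algebraMap {R S : Type u} [CommRing R] [CommRing S] [Algebra R S] :
    td (algebraMap R S) = Algebra.trdeg R S := by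
  unfold td
  congr 1

theorem td_eq_of_square {R S R1 S1 : Type u} [CommRing R] [CommRing S] [CommRing R1] [CommRing S1]
    [IsDomain S1]
    (α : R →+* S) (β : S →+* S1) (γ : R →+* R1) (δ : R1 →+* S1)
    (hcomm : β.comp α = δ.comp γ) (hα : Injective α) (hβ : Injective β) (hγ : Injective γ)
    (hδ : Injective δ)
    (hβa : @Algebra.IsAlgebraic S S1 _ _ β.toAlgebra)
    (hγa : @Algebra.IsAlgebraic R R1 _ _ γ.toAlgebra) :
    td α = td δ := by
  letI := α.toAlgebra; letI := β.toAlgebra; letI := γ.toAlgebra; letI := δ.toAlgebra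
  letI : Algebra R S1 := (β.comp α).toAlgebra
  haveI : IsScalarTower R S S1 := IsScalarTower.of_algebraMap_eq (fun x => rfl)
  haveI : IsScalarTower R R1 S1 := IsScalarTower.of_algebraMap_eq (fun x => by
    change (β.comp α) x = δ (γ x); rw [hcomm]; rfl)
  haveI : FaithfulSMul R S := (faithfulSMul_iff_algebraMap_injective R S).mpr hα
  haveI : FaithfulSMul S S1 := (faithfulSMul_iff_algebraMap_injective S S1).mpr hβ
  haveI : FaithfulSMul R R1 := (faithfulSMul_iff_algebraMap_injective R R1).mpr hγ
  haveI : FaithfulSMul R1 S1 := (faithfulSMul_iff_algebraMap_injective R1 S1).mpr hδ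
  haveI : Nontrivial R := ⟨⟨0, 1, fun h => zero_ne_one (α := S1) (by
    have := congrArg (β.comp α) h; simpa using this)⟩⟩
  have h1 := trdeg_add_eq R S (A := S1)
  have h2 := trdeg_add_eq R R1 (A := S1)
  rw [trdeg_eq_zero (R := S) (A := S1), add_zero] at h1
  rw [trdeg_eq_zero (R := R) (A := R1), zero_add] at h2
  exact h1.trans h2.symm


theorem isAlgebraic_of_surjective {R S : Type u} [CommRing R] [CommRing S] [Nontrivial R]
    (f : R →+* S) (hf : Surjective f) : @Algebra.IsAlgebraic R S _ _ f.toAlgebra := by
  letI := f.toAlgebra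
  haveI : Algebra.IsIntegral R S := Algebra.isIntegral_of_surjective hf
  infer_instance

/-- a chain of primes all containing `ker π` maps to a chain of the same length. -/
theorem length_le_height_map {B B' : Type u} [CommRing B] [CommRing B'] (π : B →+* B')
    (hπ : Surjective π) (l : LTSeries (PrimeSpectrum B))
    (hl : RingHom.ker π ≤ l.head.asIdeal) (hp : (l.last.asIdeal.map π).IsPrime) :
    (l.length : ℕ∞) ≤ (l.last.asIdeal.map π).height := by
  have hli : ∀ i, l i ∈ PrimeSpectrum.zeroLocus (R := B) (RingHom.ker π) := fun i => by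
    rw [PrimeSpectrum.mem_zeroLocus]
    exact hl.trans (LTSeries.head_le l i)
  let e := Ideal.primeSpectrumOrderIsoZeroLocusOfSurj π hπ (I := RingHom.ker π) rfl
  let l' : LTSeries (PrimeSpectrum B') :=
    { length := l.length
      toFun := fun i => e.symm ⟨l i, hli i⟩
      step := fun i => e.symm.strictMono (Subtype.mk_lt_mk.mpr (l.step i)) }
  have h1 : (l'.length : ℕ∞) ≤ Order.height l'.last := Order.length_le_height_last
  have h2 : l'.last = ⟨l.last.asIdeal.map π, hp⟩ := by
    apply PrimeSpectrum.ext
    rfl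
  rw [h2, ← PrimeSpectrum.height_eq_orderHeight] at h1
  exact h1

theorem height_add_le (A B : Type u) [CommRing A] [CommRing B] [IsNoetherianRing A] [Algebra A B]
    [Algebra.FiniteType A B] (q : Ideal B) [q.IsPrime] (n E : ℕ)
    (hn : Algebra.trdeg (A ⧸ q.under A) (B ⧸ q) = n)
    (hE : ∀ q0 ∈ minimalPrimes B, q0 ≤ q → Algebra.trdeg (A ⧸ q0.under A) (B ⧸ q0) ≤ E) :
    q.height + n ≤ (q.under A).height + E := by
  haveI : IsNoetherianRing B := Algebra.FiniteType.isNoetherianRing A B
  obtain ⟨l, hlast, hlen⟩ := Ideal.exists_ltSeries_length_eq_height q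
  obtain ⟨q0, hq0, hq0le⟩ := Ideal.exists_minimalPrimes_le (I := ⊥) (J := l.head.asIdeal) bot_le
  haveI : q0.IsPrime := hq0.1.1
  have hq0q : q0 ≤ q := by
    have := hq0le.trans (LTSeries.head_le l (Fin.last _))
    rwa [show l (Fin.last _) = l.last from rfl, hlast] at this
  haveI : (q0.under A).IsPrime := Ideal.IsPrime.under A q0
  haveI : (q.under A).IsPrime := Ideal.IsPrime.under A q
  -- the quotient domains
  haveI : Algebra.FiniteType A (B ⧸ q0) :=
    Algebra.FiniteType.of_surjective (Ideal.Quotient.mkₐ A q0) Ideal.Quotient.mk_surjective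
  haveI : Algebra.FiniteType (A ⧸ q0.under A) (B ⧸ q0) :=
    Algebra.FiniteType.of_restrictScalars_finiteType A (A ⧸ q0.under A) (B ⧸ q0)
  set q' : Ideal (B ⧸ q0) := q.map (Ideal.Quotient.mk q0) with hq'
  have hker : RingHom.ker (Ideal.Quotient.mk q0) ≤ q := by rwa [Ideal.mk_ker]
  haveI hq'p : q'.IsPrime := Ideal.map_isPrime_of_surjective Ideal.Quotient.mk_surjective hker
  have hq'c : q'.comap (Ideal.Quotient.mk q0) = q := by
    rw [hq', Ideal.comap_map_of_surjective _ Ideal.Quotient.mk_surjective,
      ← RingHom.ker_eq_comap_bot, Ideal.mk_ker]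
    exact sup_eq_left.mpr hq0q
  set p' : Ideal (A ⧸ q0.under A) := q'.under (A ⧸ q0.under A) with hp'
  haveI : p'.IsPrime := Ideal.IsPrime.under _ q'
  have hp'c : p'.comap (Ideal.Quotient.mk (q0.under A)) = q.under A := by
    ext a
    change Ideal.Quotient.mk q0 (algebraMap A B a) ∈ q' ↔ algebraMap A B a ∈ q
    conv_rhs => rw [← hq'c]
    rfl
  have key := Groth.Agent.Lib.helper26.DimFormula.dimension_inequality
    (A ⧸ q0.under A) (B ⧸ q0) p' q'
  -- (1) heights of q
  have h1 : q.height ≤ q'.height := by
    have := length_le_height_map (Ideal.Quotient.mk q0) Ideal.Quotient.mk_surjective l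
      (by rw [Ideal.mk_ker]; exact hq0le) (by rw [hlast]; exact hq'p)
    rw [hlen] at this
    simpa [hlast] using this
  -- (3) heights of p
  have h3 : p'.height ≤ (q.under A).height := by
    have := Groth.Agent.Lib.helper26.DimFormula.height_add_height_ker_le
      (Ideal.Quotient.mk (q0.under A)) Ideal.Quotient.mk_surjective p'
    rw [hp'c] at this
    exact le_trans le_self_add this
  -- (4)
  have h4 := hE q0 hq0 hq0q
  -- (2) transcendence degrees
  have h2 : Algebra.trdeg ((A ⧸ q0.under A) ⧸ p') ((B ⧸ q0) ⧸ q') = n := by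
    rw [← hn, ← td_algebraMap, ← td_algebraMap]
    symm
    refine td_eq_of_square (algebraMap (A ⧸ q.under A) (B ⧸ q))
      (Ideal.quotientMap q' (Ideal.Quotient.mk q0) (le_of_eq hq'c.symm))
      (Ideal.quotientMap p' (Ideal.Quotient.mk (q0.under A)) (le_of_eq hp'c.symm))
      (algebraMap ((A ⧸ q0.under A) ⧸ p') ((B ⧸ q0) ⧸ q')) ?_ ?_ ?_ ?_ ?_ ?_ ?_
    · apply Ideal.Quotient.ringHom_ext
      ext a
      rfl
    · exact FaithfulSMul.algebraMap_injective _ _
    · exact Ideal.quotientMap_injective' (le_of_eq hq'c)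
    · exact Ideal.quotientMap_injective' (le_of_eq hp'c)
    · exact FaithfulSMul.algebraMap_injective _ _
    · exact isAlgebraic_of_surjective _
        (Ideal.quotientMap_surjective Ideal.Quotient.mk_surjective)
    · exact isAlgebraic_of_surjective _
        (Ideal.quotientMap_surjective Ideal.Quotient.mk_surjective)
  rw [h2] at key
  have hfin : (q'.height : Cardinal.{u}) + n ≤ ((q.under A).height : Cardinal.{u}) + E := by
    refine key.trans ?_
    gcongr
  have hfin' : ((q'.height + n : ℕ∞) : Cardinal.{u}) ≤ (((q.under A).height + E : ℕ∞) : Cardinal.{u}) := by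
    rw [Cardinal.ofENat_add, Cardinal.ofENat_add, Cardinal.ofENat_nat, Cardinal.ofENat_nat]
    exact hfin
  rw [Cardinal.ofENat_le_ofENat] at hfin'
  exact le_trans (by gcongr) hfin'

end Groth.Agent.Lib.helper3.DimIneq
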