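import Mathlib
import Groth.Agent.Lib.Helper3.DimIneq
/-!
# Helper library (helper3): scheme translation for the dimension inequality.

For an affine open `U` of `X` and `x ∈ U` with prime `q = hU.primeIdealOf x` of `B = Γ(X,U)`:
`ker_evaluation`, `ringKrullDim_stalk_eq_height`, `evLift` (`B/q → κ(x)`, injective, algebraic),
`td_quotientMap_eq` (`trdeg (A/p) (B/q) = trdeg κ(f x) κ(x)`), `specializes_iff_primeIdealOf_le`,
`exists_point_of_prime`, `closure_mem_irreducibleComponents` (minimal primes give generic points of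
irreducible components of `X`), `height_add_le'` (ring-hom form of `height_add_le`).
-/

set_option autoImplicit false
universe u
open CategoryTheory AlgebraicGeometry Function

namespace Groth.Agent.Lib.helper3.DimIneq

variable {X : Scheme.{u}}

theorem ker_evaluation {U : X.Opens} (hU : IsAffineOpen U) (x : X) (hx : x ∈ U) :
    RingHom.ker (X.evaluation U x hx).hom = (hU.primeIdealOf ⟨x, hx⟩).asIdeal := by
  ext g
  rw [RingHom.mem_ker]
  change (X.evaluation U x hx) g = 0 ↔ _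
  rw [Scheme.evaluation_eq_zero_iff_notMem_basicOpen]
  have h1 : x ∈ X.basicOpen g ↔ hU.primeIdealOf ⟨x, hx⟩ ∈ hU.fromSpec ⁻¹ᵁ X.basicOpen g := by
    change _ ↔ hU.fromSpec (hU.primeIdealOf ⟨x, hx⟩) ∈ X.basicOpen g
    rw [hU.fromSpec_primeIdealOf]
  rw [h1, hU.fromSpec_preimage_basicOpen]
  change ¬ (g ∉ (hU.primeIdealOf ⟨x, hx⟩).asIdeal) ↔ _
  rw [not_not]

theorem ringKrullDim_stalk_eq_height {U : X.Opens} (hU : IsAffineOpen U) (x : X) (hx : x ∈ U) :
    ringKrullDim (X.presheaf.stalk x) = ((hU.primeIdealOf ⟨x, hx⟩).asIdeal.height : WithBot ℕ∞) := by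
  letI : Algebra Γ(X, U) (X.presheaf.stalk x) :=
    TopCat.Presheaf.algebra_section_stalk X.presheaf ⟨x, hx⟩
  haveI := hU.isLocalization_stalk ⟨x, hx⟩
  exact IsLocalization.AtPrime.ringKrullDim_eq_height (hU.primeIdealOf ⟨x, hx⟩).asIdeal
    (X.presheaf.stalk x)


/-- the map `Γ(X,U)/I → κ(x)` induced by evaluation, for `I` the prime ideal of `x`. -/
noncomputable def evLift {U : X.Opens} (hU : IsAffineOpen U) (x : X) (hx : x ∈ U) (I : Ideal Γ(X, U))
    (hI : I = (hU.primeIdealOf ⟨x, hx⟩).asIdeal) : Γ(X, U) ⧸ I →+* X.residueField x :=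
  Ideal.Quotient.lift I (X.evaluation U x hx).hom (fun a ha => by
    rw [← RingHom.mem_ker, ker_evaluation hU x hx, ← hI]; exact ha)

theorem evLift_injective {U : X.Opens} (hU : IsAffineOpen U) (x : X) (hx : x ∈ U) (I : Ideal Γ(X, U))
    (hI : I = (hU.primeIdealOf ⟨x, hx⟩).asIdeal) : Injective (evLift hU x hx I hI) := by
  apply RingHom.lift_injective_of_ker_le_ideal
  intro a ha
  rw [ker_evaluation hU x hx, ← hI] at ha
  exact ha

theorem evLift_isAlgebraic {U : X.Opens} (hU : IsAffineOpen U) (x : X) (hx : x ∈ U) (I : Ideal Γ(X, U))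
    (hI : I = (hU.primeIdealOf ⟨x, hx⟩).asIdeal) :
    @Algebra.IsAlgebraic _ _ _ _ (evLift hU x hx I hI).toAlgebra := by
  subst hI
  letI := (evLift hU x hx _ rfl).toAlgebra
  haveI : IsDomain (Γ(X, U) ⧸ (hU.primeIdealOf ⟨x, hx⟩).asIdeal) := Ideal.Quotient.isDomain _
  letI : Algebra Γ(X, U) (X.presheaf.stalk x) :=
    TopCat.Presheaf.algebra_section_stalk X.presheaf ⟨x, hx⟩
  haveI := hU.isLocalization_stalk ⟨x, hx⟩
  constructor
  intro y
  obtain ⟨z, rfl⟩ := X.residue_surjective x y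
  obtain ⟨⟨b, s⟩, hbs⟩ := IsLocalization.surj (hU.primeIdealOf ⟨x, hx⟩).asIdeal.primeCompl z
  have hev : ∀ g : Γ(X, U), (X.residue x).hom (algebraMap Γ(X, U) (X.presheaf.stalk x) g) =
      algebraMap (Γ(X, U) ⧸ (hU.primeIdealOf ⟨x, hx⟩).asIdeal) (X.residueField x)
        (Ideal.Quotient.mk _ g) := fun g => rfl
  have h1 := congrArg (X.residue x).hom hbs
  simp only [map_mul, hev] at h1
  have hs0 : algebraMap (Γ(X, U) ⧸ (hU.primeIdealOf ⟨x, hx⟩).asIdeal) (X.residueField x)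
      (Ideal.Quotient.mk _ (s : Γ(X, U))) ≠ 0 := by
    intro h0
    have := evLift_injective hU x hx _ rfl (h0.trans (map_zero _).symm)
    rw [Ideal.Quotient.eq_zero_iff_mem] at this
    exact s.2 this
  have h2 : (X.residue x).hom z = algebraMap (Γ(X, U) ⧸ (hU.primeIdealOf ⟨x, hx⟩).asIdeal)
      (X.residueField x) (Ideal.Quotient.mk _ b) * (algebraMap (Γ(X, U) ⧸ (hU.primeIdealOf ⟨x, hx⟩).asIdeal)
      (X.residueField x) (Ideal.Quotient.mk _ (s : Γ(X, U))))⁻¹ := by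
    rw [← h1, mul_assoc, mul_inv_cancel₀ hs0, mul_one]
  change IsAlgebraic _ ((X.residue x).hom z)
  rw [h2]
  exact (isAlgebraic_algebraMap _).mul (isAlgebraic_algebraMap _).inv


theorem evaluation_appLE {S : Scheme.{u}} (f : X ⟶ S) (V : S.Opens) (U : X.Opens) (e : U ≤ f ⁻¹ᵁ V)
    (x : X) (hx : x ∈ U) (a : Γ(S, V)) :
    (X.evaluation U x hx).hom ((f.appLE V U e).hom a) =
      (f.residueFieldMap x).hom ((S.evaluation V (f x) (e hx)).hom a) := by
  have h1 := Scheme.evaluation_naturality_apply f x (e hx) a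
  change (f.residueFieldMap x).hom ((S.evaluation V (f x) (e hx)).hom a) = _ at h1
  rw [h1]
  rw [Scheme.Hom.appLE]
  simp only [CommRingCat.hom_comp, RingHom.comp_apply]
  change (X.residue x) (X.presheaf.germ U x hx (X.presheaf.map (homOfLE e).op (f.app V a))) =
    (X.residue x) (X.presheaf.germ (f ⁻¹ᵁ V) x (e hx) (f.app V a))
  rw [TopCat.Presheaf.germ_res_apply]

theorem td_quotientMap_eq {S : Scheme.{u}} (f : X ⟶ S) {V : S.Opens} (hV : IsAffineOpen V)
    {U : X.Opens} (hU : IsAffineOpen U) (e : U ≤ f ⁻¹ᵁ V) (x : X) (hx : x ∈ U) :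
    td (Ideal.quotientMap (hU.primeIdealOf ⟨x, hx⟩).asIdeal (f.appLE V U e).hom le_rfl) =
      td (f.residueFieldMap x).hom := by
  have hI : (hU.primeIdealOf ⟨x, hx⟩).asIdeal.comap (f.appLE V U e).hom =
      (hV.primeIdealOf ⟨f x, e hx⟩).asIdeal := by
    have := IsAffineOpen.comap_primeIdealOf_appLE (f := f) (x := x) V hV U hU e hx
    exact congrArg PrimeSpectrum.asIdeal this
  refine td_eq_of_square _ (evLift hU x hx _ rfl) (evLift hV (f x) (e hx) _ hI) _ ?_
    Ideal.quotientMap_injective (evLift_injective hU x hx _ rfl)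
    (evLift_injective hV (f x) (e hx) _ hI) (f.residueFieldMap x).hom.injective
    (evLift_isAlgebraic hU x hx _ rfl) (evLift_isAlgebraic hV (f x) (e hx) _ hI)
  apply Ideal.Quotient.ringHom_ext
  ext a
  exact evaluation_appLE f V U e x hx a


theorem specializes_iff_primeIdealOf_le {U : X.Opens} (hU : IsAffineOpen U) (x y : X)
    (hx : x ∈ U) (hy : y ∈ U) :
    x ⤳ y ↔ (hU.primeIdealOf ⟨x, hx⟩).asIdeal ≤ (hU.primeIdealOf ⟨y, hy⟩).asIdeal := by
  have h1 : hU.fromSpec (hU.primeIdealOf ⟨x, hx⟩) = x := hU.fromSpec_primeIdealOf ⟨x, hx⟩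
  have h2 : hU.fromSpec (hU.primeIdealOf ⟨y, hy⟩) = y := hU.fromSpec_primeIdealOf ⟨y, hy⟩
  have key : hU.fromSpec (hU.primeIdealOf ⟨x, hx⟩) ⤳ hU.fromSpec (hU.primeIdealOf ⟨y, hy⟩) ↔
      (hU.primeIdealOf ⟨x, hx⟩ : Spec Γ(X, U)) ⤳ (hU.primeIdealOf ⟨y, hy⟩ : Spec Γ(X, U)) :=
    hU.fromSpec.isOpenEmbedding.isInducing.specializes_iff
  rw [h1, h2] at key
  rw [key]
  exact (PrimeSpectrum.le_iff_specializes _ _).symm

theorem exists_point_of_prime {U : X.Opens} (hU : IsAffineOpen U) (q0 : Ideal Γ(X, U))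
    [q0.IsPrime] : ∃ (ξ : X) (hξ : ξ ∈ U), (hU.primeIdealOf ⟨ξ, hξ⟩).asIdeal = q0 := by
  have hmem : hU.fromSpec ⟨q0, inferInstance⟩ ∈ U := by
    have : hU.fromSpec ⟨q0, inferInstance⟩ ∈ Set.range hU.fromSpec := ⟨_, rfl⟩
    rw [hU.range_fromSpec] at this
    exact this
  refine ⟨hU.fromSpec ⟨q0, inferInstance⟩, hmem, ?_⟩
  have h := hU.fromSpec_primeIdealOf ⟨hU.fromSpec ⟨q0, inferInstance⟩, hmem⟩
  have := hU.fromSpec.isOpenEmbedding.injective h
  exact congrArg PrimeSpectrum.asIdeal this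

theorem closure_mem_irreducibleComponents {U : X.Opens} (hU : IsAffineOpen U) (ξ : X) (hξ : ξ ∈ U)
    (hmin : (hU.primeIdealOf ⟨ξ, hξ⟩).asIdeal ∈ minimalPrimes Γ(X, U)) :
    closure {ξ} ∈ irreducibleComponents X := by
  refine ⟨isIrreducible_singleton.closure, fun Z hZ hle => ?_⟩
  have hZc : IsIrreducible (closure Z) := hZ.closure
  obtain ⟨ζ, hζ⟩ := QuasiSober.sober hZc isClosed_closure
  have hξZ : ξ ∈ closure Z := subset_closure (hle (subset_closure rfl))
  have hspec : ζ ⤳ ξ := hζ.specializes hξZ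
  have hζU : ζ ∈ U := hspec.mem_open U.isOpen hξ
  have hle' := (specializes_iff_primeIdealOf_le hU ζ ξ hζU hξ).mp hspec
  have hge := hmin.2 ⟨(hU.primeIdealOf ⟨ζ, hζU⟩).isPrime, bot_le⟩ hle'
  have hspec' : ξ ⤳ ζ := (specializes_iff_primeIdealOf_le hU ξ ζ hξ hζU).mpr hge
  intro z hz
  have hz' : z ∈ closure {ζ} := by rw [hζ.def]; exact subset_closure hz
  exact hspec'.closure_subset hz'

theorem height_add_le' {A B : Type u} [CommRing A] [CommRing B] [IsNoetherianRing A] (φ : A →+* B)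
    (hφ : φ.FiniteType) (q : Ideal B) [q.IsPrime] (n E : ℕ)
    (hn : td (Ideal.quotientMap q φ le_rfl) = n)
    (hE : ∀ q0 ∈ minimalPrimes B, q0 ≤ q → td (Ideal.quotientMap q0 φ le_rfl) ≤ E) :
    q.height + n ≤ (q.comap φ).height + E := by
  algebraize [φ]
  exact height_add_le A B q n E hn hE

end Groth.Agent.Lib.helper3.DimIneq
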