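import Mathlib
import Groth.Agent.Lib.Helper3.DimIneqSch
import Groth.Agent.Lib.Helper11.SpecDim

/-!
# Helper library (helper3): dimension of a scheme as supremum of the dimensions of its local rings,
finiteness of the transcendence degree of residue field extensions of morphisms locally of finite
type.
-/

set_option autoImplicit false
universe u
open CategoryTheory AlgebraicGeometry Function

namespace Groth.Agent.Lib.helper3.DimIneq

variable {X : Scheme.{u}}

theorem dim_eq_iSup_stalk (X : Scheme.{u}) :
    topologicalKrullDim X = ⨆ x : X, ringKrullDim (X.presheaf.stalk x) := by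
  rw [Groth.Agent.Lib.helper11.SpecDim.topologicalKrullDim_eq_krullDim,
    Order.krullDim_eq_iSup_coheight]
  congr 1
  funext x
  exact (ringKrullDim_stalk_eq_coheight x).symm

theorem stalk_le_dim (x : X) : ringKrullDim (X.presheaf.stalk x) ≤ topologicalKrullDim X := by
  rw [dim_eq_iSup_stalk]
  exact le_iSup (fun x : X => ringKrullDim (X.presheaf.stalk x)) x

theorem exists_nat_td_residueFieldMap {S : Scheme.{u}} (f : X ⟶ S) [LocallyOfFiniteType f] (x : X) :
    ∃ n : ℕ, td (f.residueFieldMap x).hom = n := by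
  obtain ⟨V, hV, hsV, -⟩ := exists_isAffineOpen_mem_and_subset (x := f.base x) (U := ⊤) trivial
  obtain ⟨U, hU, hxU, hUV⟩ := exists_isAffineOpen_mem_and_subset (x := x) (U := f ⁻¹ᵁ V) hsV
  have hft : (f.appLE V U hUV).hom.FiniteType := LocallyOfFiniteType.finiteType_appLE f hV hU hUV
  rw [← td_quotientMap_eq f hV hU hUV x hxU]
  set q := (hU.primeIdealOf ⟨x, hxU⟩).asIdeal
  have h1 : ((Ideal.quotientMap q (f.appLE V U hUV).hom le_rfl).comp
      (Ideal.Quotient.mk (q.comap (f.appLE V U hUV).hom))).FiniteType := by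
    have : (Ideal.quotientMap q (f.appLE V U hUV).hom le_rfl).comp
        (Ideal.Quotient.mk (q.comap (f.appLE V U hUV).hom)) =
        (Ideal.Quotient.mk q).comp (f.appLE V U hUV).hom := by
      ext a; rfl
    rw [this]
    exact (RingHom.FiniteType.of_surjective _ Ideal.Quotient.mk_surjective).comp hft
  have h2 : (Ideal.quotientMap q (f.appLE V U hUV).hom le_rfl).FiniteType :=
    RingHom.FiniteType.of_comp_finiteType h1
  letI := (Ideal.quotientMap q (f.appLE V U hUV).hom le_rfl).toAlgebra
  haveI : Algebra.FiniteType (Γ(S, V) ⧸ q.comap (f.appLE V U hUV).hom) (Γ(X, U) ⧸ q) := h2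
  haveI : IsDomain (Γ(S, V) ⧸ q.comap (f.appLE V U hUV).hom) := Ideal.Quotient.isDomain _
  exact Cardinal.lt_aleph0.mp (_root_.trdeg_lt_aleph0_of_finiteType)

end Groth.Agent.Lib.helper3.DimIneq
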