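import Mathlib
import Groth.Agent.Lib.Helper3.DimIneq
import Groth.Agent.Lib.Helper26.DimFormula7
/-!
# Helper library (helper3): dimension theory of finite type algebras over a field (ring level).

`B` a finite type algebra over a field `k`, `q0 ≤ q` primes:
* `height_map_add_trdeg` : `ht(q/q0) + trdeg_k(B/q) = trdeg_k(B/q0)`;
* `trdeg_quotient_eq_zero_of_isMaximal`;
* `exists_minimalPrimes_height_map_eq` : some minimal `q0 ≤ q` has `ht(q/q0) = ht q` (Noetherian);
* `height_map_le` : `ht(q/q0) ≤ ht q`.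
-/

set_option autoImplicit false
universe u
open Function

namespace Groth.Agent.Lib.helper3.FTField

open Groth.Agent.Lib.helper3.DimIneq

section ring

variable {B : Type u} [CommRing B]

/-- `ht(q/q0) ≤ ht q`. -/
theorem height_map_le (q0 q : Ideal B) [q0.IsPrime] [q.IsPrime] (h : q0 ≤ q) :
    (q.map (Ideal.Quotient.mk q0)).height ≤ q.height := by
  have hsurj : Surjective (Ideal.Quotient.mk q0) := Ideal.Quotient.mk_surjective
  have hc : (q.map (Ideal.Quotient.mk q0)).comap (Ideal.Quotient.mk q0) = q := by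
    rw [Ideal.comap_map_of_surjective _ hsurj, ← RingHom.ker_eq_comap_bot, Ideal.mk_ker]
    exact sup_eq_left.mpr h
  haveI : (q.map (Ideal.Quotient.mk q0)).IsPrime := by
    apply Ideal.map_isPrime_of_surjective hsurj
    rw [Ideal.mk_ker]; exact h
  let e := Groth.Agent.Lib.helper26.AffDomChain.specEmb (Ideal.Quotient.mk q0) hsurj
  have := Order.height_le_height_apply_of_strictMono e e.strictMono
    ⟨q.map (Ideal.Quotient.mk q0), inferInstance⟩
  rw [← PrimeSpectrum.height_eq_orderHeight, ← PrimeSpectrum.height_eq_orderHeight] at this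
  convert this using 2
  exact hc.symm

/-- in a Noetherian ring some minimal prime `q0 ≤ q` has `ht(q/q0) = ht q`. -/
theorem exists_minimalPrimes_height_map_eq [IsNoetherianRing B] (q : Ideal B) [q.IsPrime] :
    ∃ q0 ∈ minimalPrimes B, q0 ≤ q ∧ ∀ [q0.IsPrime],
      (q.map (Ideal.Quotient.mk q0)).height = q.height := by
  obtain ⟨l, hlast, hlen⟩ := Ideal.exists_ltSeries_length_eq_height q
  obtain ⟨q0, hq0, hq0le⟩ := Ideal.exists_minimalPrimes_le (I := ⊥) (J := l.head.asIdeal) bot_le
  have hq0q : q0 ≤ q := by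
    have h1 : l.head ≤ l.last := LTSeries.head_le_last l
    rw [hlast] at h1
    exact hq0le.trans h1
  refine ⟨q0, hq0, hq0q, ?_⟩
  intro hq0p
  refine le_antisymm (height_map_le q0 q hq0q) ?_
  have hsurj : Surjective (Ideal.Quotient.mk q0) := Ideal.Quotient.mk_surjective
  have hq'p : (q.map (Ideal.Quotient.mk q0)).IsPrime := by
    apply Ideal.map_isPrime_of_surjective hsurj
    rw [Ideal.mk_ker]; exact hq0q
  have := length_le_height_map (Ideal.Quotient.mk q0) hsurj l
    (by rw [Ideal.mk_ker]; exact hq0le) (by rw [hlast]; exact hq'p)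
  rw [hlen] at this
  simpa [hlast] using this

theorem map_mk_isPrime (q0 q : Ideal B) [q.IsPrime] (h : q0 ≤ q) :
    (q.map (Ideal.Quotient.mk q0)).IsPrime := by
  apply Ideal.map_isPrime_of_surjective Ideal.Quotient.mk_surjective
  rw [Ideal.mk_ker]; exact h

theorem comap_map_mk (q0 q : Ideal B) (h : q0 ≤ q) :
    (q.map (Ideal.Quotient.mk q0)).comap (Ideal.Quotient.mk q0) = q := by
  rw [Ideal.comap_map_of_surjective _ Ideal.Quotient.mk_surjective, ← RingHom.ker_eq_comap_bot,
    Ideal.mk_ker]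
  exact sup_eq_left.mpr h

/-- `1 ≤ ht(q/q0)` for primes `q0 < q`. -/
theorem one_le_height_map (q0 q : Ideal B) [q0.IsPrime] [q.IsPrime] (h : q0 < q) :
    1 ≤ (q.map (Ideal.Quotient.mk q0)).height := by
  haveI := map_mk_isPrime q0 q h.le
  haveI : IsDomain (B ⧸ q0) := Ideal.Quotient.isDomain q0
  rw [Order.one_le_iff_ne_zero, Ne, Ideal.height_eq_zero_iff_eq_bot]
  intro h0
  have h1 := comap_map_mk q0 q h.le
  rw [h0, ← RingHom.ker_eq_comap_bot, Ideal.mk_ker] at h1
  exact h.ne h1

/-- `ht(q/q0) = 1` when there is no prime strictly between `q0 < q`. -/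
theorem height_map_eq_one (q0 q : Ideal B) [q0.IsPrime] [q.IsPrime] (h : q0 < q)
    (himm : ∀ p : Ideal B, p.IsPrime → q0 ≤ p → p ≤ q → p = q0 ∨ p = q) :
    (q.map (Ideal.Quotient.mk q0)).height = 1 := by
  haveI := map_mk_isPrime q0 q h.le
  haveI : IsDomain (B ⧸ q0) := Ideal.Quotient.isDomain q0
  refine le_antisymm ?_ (one_le_height_map q0 q h)
  have : (q.map (Ideal.Quotient.mk q0)).height ≤ ((1 : ℕ) : ℕ∞) := by
    rw [Ideal.height_le_iff]
    intro P' hP' hlt
    have hP : (P'.comap (Ideal.Quotient.mk q0)).IsPrime := Ideal.comap_isPrime _ _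
    have hq0P : q0 ≤ P'.comap (Ideal.Quotient.mk q0) := by
      intro a ha
      rw [Ideal.mem_comap, Ideal.Quotient.eq_zero_iff_mem.mpr ha]
      exact zero_mem _
    have hPq : P'.comap (Ideal.Quotient.mk q0) ≤ q := by
      rw [← comap_map_mk q0 q h.le]
      exact Ideal.comap_mono hlt.le
    have hmap : (P'.comap (Ideal.Quotient.mk q0)).map (Ideal.Quotient.mk q0) = P' :=
      Ideal.map_comap_of_surjective _ Ideal.Quotient.mk_surjective _
    rcases himm _ hP hq0P hPq with h1 | h1
    · have : P' = ⊥ := by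
        rw [← hmap, h1, Ideal.map_quotient_self]
      rw [this, Ideal.height_bot]
      exact zero_lt_one
    · exfalso
      rw [h1] at hmap
      exact hlt.ne hmap.symm
  simpa using this

end ring

section field

variable (k : Type u) [Field k] {B : Type u} [CommRing B] [Algebra k B] [Algebra.FiniteType k B]

/-- `ht(q/q0) + trdeg_k(B/q) = trdeg_k(B/q0)` for primes `q0 ≤ q` of a finite type `k`-algebra. -/
theorem height_map_add_trdeg (q0 q : Ideal B) [q0.IsPrime] [q.IsPrime] (h : q0 ≤ q) :
    ((q.map (Ideal.Quotient.mk q0)).height : Cardinal.{u}) + Algebra.trdeg k (B ⧸ q) =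
      Algebra.trdeg k (B ⧸ q0) := by
  have hsurj : Surjective (Ideal.Quotient.mk q0) := Ideal.Quotient.mk_surjective
  haveI : (q.map (Ideal.Quotient.mk q0)).IsPrime := by
    apply Ideal.map_isPrime_of_surjective hsurj
    rw [Ideal.mk_ker]; exact h
  have key := Groth.Agent.Lib.helper26.DimFormula.height_add_trdeg_quotient k (B ⧸ q0)
    (q.map (Ideal.Quotient.mk q0))
  rw [← key]
  congr 1
  exact (AlgEquiv.trdeg_eq (DoubleQuot.quotQuotEquivQuotOfLEₐ k h)).symm

theorem trdeg_quotient_eq_zero_of_isMaximal (m : Ideal B) [m.IsMaximal] :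
    Algebra.trdeg k (B ⧸ m) = 0 := by
  let _ : Field (B ⧸ m) := Ideal.Quotient.field m
  have hfin : Module.Finite k (B ⧸ m) := finite_of_finite_type_of_isJacobsonRing k (B ⧸ m)
  have halg : Algebra.IsAlgebraic k (B ⧸ m) := inferInstance
  exact _root_.trdeg_eq_zero

omit [Algebra.FiniteType k B] in
/-- a prime of a `k`-algebra with algebraic residue ring is maximal. -/
theorem isMaximal_of_trdeg_eq_zero (q : Ideal B) [q.IsPrime] (h : Algebra.trdeg k (B ⧸ q) = 0) :
    q.IsMaximal := by
  haveI : Algebra.IsAlgebraic k (B ⧸ q) := by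
    rw [← _root_.trdeg_eq_zero_iff]
    exact h
  haveI : Algebra.IsIntegral k (B ⧸ q) := Algebra.IsAlgebraic.isIntegral
  have : IsField (B ⧸ q) := isField_of_isIntegral_of_isField' (R := k) (S := B ⧸ q) (Field.toIsField k)
  exact Ideal.Quotient.maximal_of_isField q this

theorem exists_nat_trdeg_quotient (q : Ideal B) [q.IsPrime] :
    ∃ n : ℕ, Algebra.trdeg k (B ⧸ q) = n :=
  Groth.Agent.Lib.helper26.DimFormula.exists_nat_trdeg k (B ⧸ q)

end field

end Groth.Agent.Lib.helper3.FTField
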