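import Mathlib
import Groth.Prelude.Def_Coh
import Groth.Prelude.Def_Curv2
import Groth.Agent.Lib.Helper3.FTFieldRing
import Groth.Agent.Lib.Helper3.DimIneqSch2
/-!
# Helper library (helper3): schemes locally of finite type over a field `k` (with the prelude's
`Curv2.resAlgebra` structure on residue fields).

* `sec k X U : k →+* Γ(X, U)`, of finite type for affine `U` (`sec_finiteType`);
* `trdeg_residueField_eq` : `trdeg_k κ(x) = trdeg_k (Γ(X,U)/q_x)`;
* `height_map_add_trdeg_residueField` : for `ξ ⤳ x`: `ht(q_x/q_ξ) + trdeg κ(x) = trdeg κ(ξ)`.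
-/

set_option autoImplicit false
universe u
open CategoryTheory AlgebraicGeometry Function

namespace Groth.Agent.Lib.helper3.FTField

open Groth.Agent.Lib.helper3.DimIneq

variable (k : Type u) [Field k] (X : Scheme.{u}) [X.Over (Spec (CommRingCat.of k))]

/-- the structure map `k → Γ(X, U)`. -/
noncomputable def sec (U : X.Opens) : k →+* Γ(X, U) :=
  (X.presheaf.map (homOfLE (le_top : U ≤ ⊤)).op).hom.comp
    (Coh.toGlobal (X ↘ Spec (CommRingCat.of k)))

theorem sec_eq_appLE (U : X.Opens) : sec k X U =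
    ((X ↘ Spec (CommRingCat.of k)).appLE ⊤ U (by simp)).hom.comp
      (Scheme.ΓSpecIso (CommRingCat.of k)).inv.hom := by
  ext a
  simp only [sec, Coh.toGlobal, RingHom.comp_apply, Scheme.Hom.appLE, CommRingCat.hom_comp]
  rfl

theorem sec_finiteType [LocallyOfFiniteType (X ↘ Spec (CommRingCat.of k))] {U : X.Opens}
    (hU : IsAffineOpen U) : (sec k X U).FiniteType := by
  rw [sec_eq_appLE]
  refine RingHom.FiniteType.comp
    (LocallyOfFiniteType.finiteType_appLE _ (isAffineOpen_top _) hU (by simp)) ?_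
  apply RingHom.FiniteType.of_surjective
  exact (ConcreteCategory.bijective_of_isIso (Scheme.ΓSpecIso (CommRingCat.of k)).inv).surjective

theorem resMap_eq (U : X.Opens) (x : X) (hx : x ∈ U) :
    Curv2.resMap k X x = (X.evaluation U x hx).hom.comp (sec k X U) := by
  ext a
  simp only [Curv2.resMap, Curv2.stalkMap, sec, RingHom.comp_apply, Scheme.evaluation,
    CommRingCat.hom_comp]
  congr 1
  exact (TopCat.Presheaf.germ_res_apply X.presheaf (homOfLE (le_top : U ≤ ⊤)) x hx _).symm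

/-- `trdeg_k κ(x) = trdeg_k (Γ(X,U)/q_x)`. -/
theorem trdeg_residueField_eq {U : X.Opens} (hU : IsAffineOpen U) (x : X) (hx : x ∈ U) :
    @Algebra.trdeg k (X.residueField x) _ _ (Curv2.resAlgebra k X x) =
      td ((Ideal.Quotient.mk (hU.primeIdealOf ⟨x, hx⟩).asIdeal).comp (sec k X U)) := by
  change td (Curv2.resMap k X x) = _
  symm
  haveI : IsDomain (Γ(X, U) ⧸ (hU.primeIdealOf ⟨x, hx⟩).asIdeal) := Ideal.Quotient.isDomain _
  refine td_eq_of_square _ (evLift hU x hx _ rfl) (RingHom.id k) (Curv2.resMap k X x) ?_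
    (RingHom.injective _) (evLift_injective hU x hx _ rfl) injective_id (RingHom.injective _)
    (evLift_isAlgebraic hU x hx _ rfl) (isAlgebraic_of_surjective _ surjective_id)
  rw [resMap_eq k X U x hx]
  ext a
  rfl

variable [LocallyOfFiniteType (X ↘ Spec (CommRingCat.of k))]

/-- for `ξ ⤳ x` in an affine open `U`: `ht(q_x/q_ξ) + trdeg κ(x) = trdeg κ(ξ)`. -/
theorem height_map_add_trdeg_residueField {U : X.Opens} (hU : IsAffineOpen U) (ξ x : X)
    (hξ : ξ ∈ U) (hx : x ∈ U)
    (h : (hU.primeIdealOf ⟨ξ, hξ⟩).asIdeal ≤ (hU.primeIdealOf ⟨x, hx⟩).asIdeal) :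
    ((((hU.primeIdealOf ⟨x, hx⟩).asIdeal.map
        (Ideal.Quotient.mk (hU.primeIdealOf ⟨ξ, hξ⟩).asIdeal)).height : ℕ∞) : Cardinal.{u}) +
      @Algebra.trdeg k (X.residueField x) _ _ (Curv2.resAlgebra k X x) =
      @Algebra.trdeg k (X.residueField ξ) _ _ (Curv2.resAlgebra k X ξ) := by
  rw [trdeg_residueField_eq k X hU x hx, trdeg_residueField_eq k X hU ξ hξ]
  letI := (sec k X U).toAlgebra
  haveI : Algebra.FiniteType k Γ(X, U) := sec_finiteType k X hU
  have key := height_map_add_trdeg k (hU.primeIdealOf ⟨ξ, hξ⟩).asIdeal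
    (hU.primeIdealOf ⟨x, hx⟩).asIdeal h
  rw [← td_algebraMap, ← td_algebraMap] at key
  exact key

/-- a point which is closed in an affine open has residue field algebraic over `k`. -/
theorem trdeg_residueField_eq_zero_of_isMaximal {U : X.Opens} (hU : IsAffineOpen U) (x : X)
    (hx : x ∈ U) (hm : (hU.primeIdealOf ⟨x, hx⟩).asIdeal.IsMaximal) :
    @Algebra.trdeg k (X.residueField x) _ _ (Curv2.resAlgebra k X x) = 0 := by
  rw [trdeg_residueField_eq k X hU x hx]
  letI := (sec k X U).toAlgebra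
  haveI : Algebra.FiniteType k Γ(X, U) := sec_finiteType k X hU
  have key := trdeg_quotient_eq_zero_of_isMaximal k (hU.primeIdealOf ⟨x, hx⟩).asIdeal
  rw [← td_algebraMap] at key
  exact key

theorem trdeg_residueField_eq_zero_of_isClosed (x : X) (hx : IsClosed ({x} : Set X)) :
    @Algebra.trdeg k (X.residueField x) _ _ (Curv2.resAlgebra k X x) = 0 := by
  obtain ⟨U, hU, hxU, -⟩ := exists_isAffineOpen_mem_and_subset (x := x) (U := ⊤) trivial
  exact trdeg_residueField_eq_zero_of_isMaximal k X hU x hxU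
    (hU.primeIdealOf_isMaximal_of_isClosed ⟨x, hxU⟩ hx)

omit [LocallyOfFiniteType (X ↘ Spec (CommRingCat.of k))] in
theorem isMaximal_of_trdeg_residueField_eq_zero {U : X.Opens} (hU : IsAffineOpen U) (x : X)
    (hx : x ∈ U) (h0 : @Algebra.trdeg k (X.residueField x) _ _ (Curv2.resAlgebra k X x) = 0) :
    (hU.primeIdealOf ⟨x, hx⟩).asIdeal.IsMaximal := by
  rw [trdeg_residueField_eq k X hU x hx] at h0
  letI := (sec k X U).toAlgebra
  apply isMaximal_of_trdeg_eq_zero k
  rw [← td_algebraMap]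
  exact h0

theorem exists_nat_trdeg_residueField (x : X) :
    ∃ n : ℕ, @Algebra.trdeg k (X.residueField x) _ _ (Curv2.resAlgebra k X x) = n := by
  obtain ⟨U, hU, hxU, -⟩ := exists_isAffineOpen_mem_and_subset (x := x) (U := ⊤) trivial
  rw [trdeg_residueField_eq k X hU x hxU]
  letI := (sec k X U).toAlgebra
  haveI : Algebra.FiniteType k Γ(X, U) := sec_finiteType k X hU
  obtain ⟨n, hn⟩ := exists_nat_trdeg_quotient k (hU.primeIdealOf ⟨x, hxU⟩).asIdeal
  rw [← td_algebraMap] at hn
  exact ⟨n, hn⟩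

omit [X.Over (Spec (CommRingCat.of k))] [LocallyOfFiniteType (X ↘ Spec (CommRingCat.of k))] in
/-- the generic point of an irreducible component gives a minimal prime in any affine chart. -/
theorem mem_minimalPrimes_of_closure_mem_irreducibleComponents {U : X.Opens} (hU : IsAffineOpen U)
    (ξ : X) (hξ : ξ ∈ U) (hc : closure ({ξ} : Set X) ∈ irreducibleComponents X) :
    (hU.primeIdealOf ⟨ξ, hξ⟩).asIdeal ∈ minimalPrimes Γ(X, U) := by
  refine ⟨⟨(hU.primeIdealOf ⟨ξ, hξ⟩).isPrime, bot_le⟩, ?_⟩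
  rintro p ⟨hp, -⟩ hle
  obtain ⟨ζ, hζ, hζp⟩ := exists_point_of_prime hU p
  have hsp : ζ ⤳ ξ := by
    rw [specializes_iff_primeIdealOf_le hU ζ ξ hζ hξ, hζp]
    exact hle
  have h1 : closure ({ξ} : Set X) ≤ closure ({ζ} : Set X) :=
    closure_minimal (Set.singleton_subset_iff.mpr hsp.mem_closure) isClosed_closure
  have h2 : closure ({ζ} : Set X) ≤ closure ({ξ} : Set X) :=
    hc.2 isIrreducible_singleton.closure h1
  have hsp' : ξ ⤳ ζ := specializes_iff_mem_closure.mpr (h2 (subset_closure rfl))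
  rw [specializes_iff_primeIdealOf_le hU ξ ζ hξ hζ, hζp] at hsp'
  exact hsp'

end Groth.Agent.Lib.helper3.FTField
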