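import Mathlib
import Groth.Prelude.Def_Flat
import Groth.Agent.Lib.Helper3.FTField
/-!
# Helper library (helper3): local dimension of a scheme locally of finite type over a field.

* `mem_basicOpen_iff` : `x ∈ X.basicOpen g ↔ g ∉ q_x`;
* `dim_opens_eq_iSup_stalk` : `dim W = sup_{y ∈ W} dim O_{X,y}`;
* `localDim_eq` : `dim_x X = trdeg_k κ(x) + dim O_{X,x}`.
-/

set_option autoImplicit false
universe u
open CategoryTheory AlgebraicGeometry Function

namespace Groth.Agent.Lib.helper3.FTField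

open Groth.Agent.Lib.helper3.DimIneq

theorem mem_basicOpen_iff {X : Scheme.{u}} {U : X.Opens} (hU : IsAffineOpen U) (x : X) (hx : x ∈ U)
    (g : Γ(X, U)) : x ∈ X.basicOpen g ↔ g ∉ (hU.primeIdealOf ⟨x, hx⟩).asIdeal := by
  rw [← ker_evaluation hU x hx, RingHom.mem_ker]
  change _ ↔ ¬ ((X.evaluation U x hx) g = 0)
  rw [Scheme.evaluation_eq_zero_iff_notMem_basicOpen, not_not]

theorem dim_opens_eq_iSup_stalk {X : Scheme.{u}} (W : X.Opens) :
    topologicalKrullDim (W.1 : Set X) = ⨆ y : W, ringKrullDim (X.presheaf.stalk y.1) := by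
  have h1 := dim_eq_iSup_stalk W.toScheme
  change topologicalKrullDim (W.1 : Set X) = _ at h1
  rw [h1]
  congr 1
  funext y
  exact RingEquiv.ringKrullDim (W.stalkIso y).commRingCatIsoToRingEquiv

variable (k : Type u) [Field k] (X : Scheme.{u}) [X.Over (Spec (CommRingCat.of k))]
  [LocallyOfFiniteType (X ↘ Spec (CommRingCat.of k))]

include k in
theorem isNoetherianRing_of_isAffineOpen {U : X.Opens} (hU : IsAffineOpen U) :
    IsNoetherianRing Γ(X, U) := by
  letI := (sec k X U).toAlgebra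
  haveI : Algebra.FiniteType k Γ(X, U) := sec_finiteType k X hU
  exact Algebra.FiniteType.isNoetherianRing k Γ(X, U)

/-- `dim_x X = trdeg_k κ(x) + dim O_{X,x}` for `X` locally of finite type over a field. -/
theorem localDim_eq (x : X) (a b : ℕ)
    (ha : @Algebra.trdeg k (X.residueField x) _ _ (Curv2.resAlgebra k X x) = a)
    (hb : ringKrullDim (X.presheaf.stalk x) = b) :
    FlatMor.localDim X x = ((a + b : ℕ) : WithBot ℕ∞) := by
  unfold FlatMor.localDim
  apply le_antisymm
  · obtain ⟨U, hU, hxU, -⟩ := exists_isAffineOpen_mem_and_subset (x := x) (U := ⊤) trivial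
    haveI := isNoetherianRing_of_isAffineOpen k X hU
    have hbq : (hU.primeIdealOf ⟨x, hxU⟩).asIdeal.height = (b : ℕ∞) := by
      rw [ringKrullDim_stalk_eq_height hU x hxU] at hb
      exact_mod_cast hb
    have hfin : (minimalPrimes Γ(X, U)).Finite := minimalPrimes.finite_of_isNoetherianRing _
    classical
    let s : Finset (Ideal Γ(X, U)) :=
      hfin.toFinset.filter (fun q0 => ¬ q0 ≤ (hU.primeIdealOf ⟨x, hxU⟩).asIdeal)
    have hnot : ¬ (s.inf id ≤ (hU.primeIdealOf ⟨x, hxU⟩).asIdeal) := by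
      rw [Ideal.IsPrime.inf_le' (hU.primeIdealOf ⟨x, hxU⟩).isPrime]
      rintro ⟨q0, hq0s, hq0q⟩
      exact (Finset.mem_filter.mp hq0s).2 hq0q
    obtain ⟨g, hgs, hgq⟩ := SetLike.not_le_iff_exists.mp hnot
    have hxW : x ∈ X.basicOpen g := (mem_basicOpen_iff hU x hxU g).mpr hgq
    refine le_trans (iInf_le _ ⟨X.basicOpen g, hxW⟩) ?_
    change topologicalKrullDim ((X.basicOpen g).1 : Set X) ≤ _
    rw [dim_opens_eq_iSup_stalk]
    refine iSup_le fun y => ?_
    have hyU : y.1 ∈ U := X.basicOpen_le g y.2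
    have hgy := (mem_basicOpen_iff hU y.1 hyU g).mp y.2
    rw [ringKrullDim_stalk_eq_height hU y.1 hyU]
    obtain ⟨q0, hq0min, hq0le, hht⟩ :=
      exists_minimalPrimes_height_map_eq (hU.primeIdealOf ⟨y.1, hyU⟩).asIdeal
    haveI := hq0min.1.1
    have hq0q : q0 ≤ (hU.primeIdealOf ⟨x, hxU⟩).asIdeal := by
      by_contra hcon
      have h1 : q0 ∈ s := Finset.mem_filter.mpr ⟨hfin.mem_toFinset.mpr hq0min, hcon⟩
      have h2 : g ∈ q0 := (Finset.inf_le h1 : s.inf id ≤ id q0) hgs
      exact hgy (hq0le h2)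
    obtain ⟨ξ, hξU, hξq⟩ := exists_point_of_prime hU q0
    subst hξq
    have key1 := height_map_add_trdeg_residueField k X hU ξ y.1 hξU hyU hq0le
    have key2 := height_map_add_trdeg_residueField k X hU ξ x hξU hxU hq0q
    have h3 := height_map_le _ _ hq0q
    rw [hbq] at h3
    rw [hht] at key1
    rw [ha] at key2
    have h4 : (((hU.primeIdealOf ⟨y.1, hyU⟩).asIdeal.height : ℕ∞) : Cardinal.{u}) ≤
        ((a + b : ℕ) : Cardinal.{u}) := by
      calc (((hU.primeIdealOf ⟨y.1, hyU⟩).asIdeal.height : ℕ∞) : Cardinal.{u})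
          ≤ _ := le_self_add
        _ = _ := key1
        _ = _ := key2.symm
        _ ≤ ((b : ℕ∞) : Cardinal.{u}) + (a : Cardinal.{u}) := by
            gcongr
        _ = ((a + b : ℕ) : Cardinal.{u}) := by
            simp [add_comm]
    have h5 : (hU.primeIdealOf ⟨y.1, hyU⟩).asIdeal.height ≤ ((a + b : ℕ) : ℕ∞) := by
      rw [← Cardinal.ofENat_le_ofENat.{u}]
      simpa using h4
    exact_mod_cast h5
  · refine le_iInf fun ⟨W, hxW⟩ => ?_
    obtain ⟨U, hU, hxU, hUW⟩ := exists_isAffineOpen_mem_and_subset (x := x) (U := W) hxW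
    haveI := isNoetherianRing_of_isAffineOpen k X hU
    have hbq : (hU.primeIdealOf ⟨x, hxU⟩).asIdeal.height = (b : ℕ∞) := by
      rw [ringKrullDim_stalk_eq_height hU x hxU] at hb
      exact_mod_cast hb
    obtain ⟨q0, hq0min, hq0le, hht⟩ :=
      exists_minimalPrimes_height_map_eq (hU.primeIdealOf ⟨x, hxU⟩).asIdeal
    haveI := hq0min.1.1
    obtain ⟨m, hm, hqm⟩ := Ideal.exists_le_maximal (hU.primeIdealOf ⟨x, hxU⟩).asIdeal
      (hU.primeIdealOf ⟨x, hxU⟩).isPrime.ne_top
    haveI := hm.isPrime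
    obtain ⟨y, hyU, hym⟩ := exists_point_of_prime hU m
    subst hym
    obtain ⟨ξ, hξU, hξq⟩ := exists_point_of_prime hU q0
    subst hξq
    have hyW : y ∈ W := hUW hyU
    have key1 := height_map_add_trdeg_residueField k X hU ξ y hξU hyU (hq0le.trans hqm)
    have key2 := height_map_add_trdeg_residueField k X hU ξ x hξU hxU hq0le
    rw [trdeg_residueField_eq_zero_of_isMaximal k X hU y hyU hm, add_zero] at key1
    rw [hht, hbq, ha] at key2
    have h3 := height_map_le _ _ (hq0le.trans hqm)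
    have h4 : ((hU.primeIdealOf ⟨y, hyU⟩).asIdeal.map
        (Ideal.Quotient.mk (hU.primeIdealOf ⟨ξ, hξU⟩).asIdeal)).height = ((a + b : ℕ) : ℕ∞) := by
      rw [← Cardinal.ofENat_inj.{u}, key1, ← key2]
      simp [add_comm]
    rw [h4] at h3
    change _ ≤ topologicalKrullDim (W.1 : Set X)
    rw [dim_opens_eq_iSup_stalk]
    refine le_trans ?_ (le_iSup _ ⟨y, hyW⟩)
    rw [ringKrullDim_stalk_eq_height hU y hyU]
    exact_mod_cast h3

end Groth.Agent.Lib.helper3.FTField
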