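import Mathlib
import Groth.Agent.Lib.Helper3.DimIneq
import Groth.Agent.Lib.Helper26.DimFormula7

/-!
# Helper library (helper3): a prime of the generic fibre of height `trdeg`.

`exists_prime_over_bot`: for an injective finite type map `φ : A → B` of domains with
`trdeg_A B = n`, there is a prime `q` of `B` with `q ∩ A = 0` and `n ≤ ht q`
(a closed point of the generic fibre).
-/

set_option autoImplicit false
universe u

namespace Groth.Agent.Lib.helper3.DimIneq

open Function

theorem isAlgebraic_toAlgebra_algebraMap {R S : Type u} [CommRing R] [CommRing S] [Algebra R S]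
    [h : Algebra.IsAlgebraic R S] : @Algebra.IsAlgebraic R S _ _ (algebraMap R S).toAlgebra := by
  have : (algebraMap R S).toAlgebra = ‹Algebra R S› := Algebra.algebra_ext _ _ (fun _ => rfl)
  rw [this]
  exact h

theorem exists_prime_over_bot {A B : Type u} [CommRing A] [CommRing B] [IsDomain A] [IsDomain B]
    (φ : A →+* B) (hinj : Injective φ) (hφ : φ.FiniteType) (n : ℕ) (hn : td φ = n) :
    ∃ q : Ideal B, q.IsPrime ∧ q.comap φ = ⊥ ∧ (n : ℕ∞) ≤ q.height := by
  let M := nonZeroDivisors A
  let K := FractionRing A
  let BK := Localization (M.map φ)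
  have hM : M.map φ ≤ nonZeroDivisors B := by
    rintro _ ⟨a, ha, rfl⟩
    exact mem_nonZeroDivisors_of_ne_zero
      ((map_ne_zero_iff _ hinj).mpr (nonZeroDivisors.ne_zero ha))
  haveI : IsDomain BK := IsLocalization.isDomain_localization hM
  let ψ : K →+* BK := IsLocalization.map BK φ (Submonoid.le_comap_map M)
  have hψft : ψ.FiniteType := RingHom.finiteType_localizationPreserves φ M K BK hφ
  have htd : td φ = td ψ := by
    refine td_eq_of_square φ (algebraMap B BK) (algebraMap A K) ψ ?_ hinj
      (IsLocalization.injective BK hM) (IsFractionRing.injective A K) ψ.injective ?_ ?_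
    · exact (IsLocalization.map_comp _).symm
    · haveI : Algebra.IsAlgebraic B BK := IsLocalization.isAlgebraic BK (M.map φ)
      exact isAlgebraic_toAlgebra_algebraMap
    · haveI : Algebra.IsAlgebraic A K := IsLocalization.isAlgebraic K M
      exact isAlgebraic_toAlgebra_algebraMap
  letI := ψ.toAlgebra
  haveI : Algebra.FiniteType K BK := hψft
  obtain ⟨m, hm⟩ := Ideal.exists_maximal BK
  have hht := Groth.Agent.Lib.helper26.DimFormula.height_eq_trdeg_of_isMaximal K BK m
  have hmn : m.height = n := by
    have h1 : (m.height : Cardinal.{u}) = n := by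
      rw [hht]; exact htd.symm.trans hn
    rw [← Cardinal.ofENat_nat] at h1
    exact Cardinal.ofENat_inj.mp h1
  haveI : m.IsPrime := hm.isPrime
  refine ⟨m.comap (algebraMap B BK), inferInstance, ?_, ?_⟩
  · rw [eq_bot_iff]
    intro a ha
    rw [Ideal.mem_comap, Ideal.mem_comap] at ha
    by_contra ha0
    have haM : a ∈ M := mem_nonZeroDivisors_of_ne_zero ha0
    have hu : IsUnit (algebraMap B BK (φ a)) :=
      IsLocalization.map_units BK (⟨φ a, ⟨a, haM, rfl⟩⟩ : M.map φ)
    exact hm.ne_top (Ideal.eq_top_of_isUnit_mem _ ha hu)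
  · have := IsLocalization.height_under (M.map φ) m
    rw [Ideal.under_def] at this
    rw [this, hmn]

end Groth.Agent.Lib.helper3.DimIneq
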