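import Mathlib
import Groth.Prelude.Def_Found
import Groth.Agent.Lib.Helper3.DimIneqGen
import Groth.Agent.Lib.Helper26.DimFormula7
/-!
# Helper library (helper3): the dimension formula with a LOCAL universally catenary hypothesis.

* `dimension_formula_at` (domains): `φ : A → B` injective of finite type, `Q` prime of `B` over `P`,
  `A_P` universally catenary ⇒ `ht Q + trdeg_{A/P}(B/Q) = ht P + trdeg_A B`.
-/

set_option autoImplicit false
universe u
open Function

namespace Groth.Agent.Lib.helper3.DimIneq

theorem dimension_formula_at {A B : Type u} [CommRing A] [CommRing B] [IsDomain A] [IsDomain B]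
    (φ : A →+* B) (hinj : Injective φ) (hφ : φ.FiniteType) (Q : Ideal B) [Q.IsPrime]
    (P : Ideal A) [P.IsPrime] (hP : Q.comap φ = P)
    (huc : CAlg.IsUniversallyCatenary (Localization.AtPrime P)) :
    (Q.height : Cardinal.{u}) + td (Ideal.quotientMap Q φ (le_of_eq hP.symm)) =
      (P.height : Cardinal.{u}) + td φ := by
  let M := P.primeCompl
  let A1 := Localization.AtPrime P
  let B1 := Localization (M.map φ)
  have hM0 : M ≤ nonZeroDivisors A := P.primeCompl_le_nonZeroDivisors
  have hM : M.map φ ≤ nonZeroDivisors B := by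
    rintro _ ⟨a, ha, rfl⟩
    exact mem_nonZeroDivisors_of_ne_zero
      ((map_ne_zero_iff _ hinj).mpr (nonZeroDivisors.ne_zero (hM0 ha)))
  haveI : IsDomain B1 := IsLocalization.isDomain_localization hM
  haveI : IsDomain A1 := IsLocalization.isDomain_localization hM0
  let ψ : A1 →+* B1 := IsLocalization.map B1 φ (Submonoid.le_comap_map M)
  have hψft : ψ.FiniteType := RingHom.finiteType_localizationPreserves φ M A1 B1 hφ
  have hψinj : Injective ψ := IsLocalization.map_injective_of_injective M A1 B1 hinj
  have hsq : (algebraMap B B1).comp φ = ψ.comp (algebraMap A A1) := (IsLocalization.map_comp _).symm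
  have htd : td φ = td ψ := by
    refine td_eq_of_square φ (algebraMap B B1) (algebraMap A A1) ψ hsq hinj
      (IsLocalization.injective B1 hM) (IsLocalization.injective A1 hM0) hψinj ?_ ?_
    · haveI : Algebra.IsAlgebraic B B1 := IsLocalization.isAlgebraic B1 (M.map φ)
      exact isAlgebraic_toAlgebra_algebraMap
    · haveI : Algebra.IsAlgebraic A A1 := IsLocalization.isAlgebraic A1 M
      exact isAlgebraic_toAlgebra_algebraMap
  -- the primes
  have hdisj : Disjoint ((M.map φ : Submonoid B) : Set B) (Q : Set B) := by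
    rw [Set.disjoint_left]
    rintro _ ⟨a, ha, rfl⟩ haQ
    have : a ∈ Q.comap φ := haQ
    rw [hP] at this
    exact ha this
  set Q1 : Ideal B1 := Q.map (algebraMap B B1) with hQ1
  haveI hQ1p : Q1.IsPrime :=
    IsLocalization.isPrime_of_isPrime_disjoint (M.map φ) B1 Q inferInstance hdisj
  have hcomapQ : Q1.comap (algebraMap B B1) = Q :=
    IsLocalization.under_map_of_isPrime_disjoint (M.map φ) B1 inferInstance hdisj
  have hdisjP : Disjoint ((M : Submonoid A) : Set A) (P : Set A) := by
    rw [Set.disjoint_left]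
    intro a ha haP
    exact ha haP
  set P1 : Ideal A1 := P.map (algebraMap A A1) with hP1
  have hP1max : P1 = IsLocalRing.maximalIdeal A1 := Localization.AtPrime.map_eq_maximalIdeal
  haveI hP1p : P1.IsPrime := by rw [hP1max]; infer_instance
  have hcomapP : P1.comap (algebraMap A A1) = P :=
    IsLocalization.under_map_of_isPrime_disjoint M A1 inferInstance hdisjP
  have hover : Q1.comap ψ = P1 := by
    apply le_antisymm
    · rw [hP1max]
      exact IsLocalRing.le_maximalIdeal (Ideal.IsPrime.ne_top (Ideal.comap_isPrime ψ Q1))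
    · rw [hP1, Ideal.map_le_iff_le_comap]
      intro a ha
      rw [Ideal.mem_comap, Ideal.mem_comap]
      have h1 : ψ (algebraMap A A1 a) = algebraMap B B1 (φ a) := by
        have := congrArg (fun f => f a) hsq
        exact this.symm
      rw [h1]
      apply Ideal.mem_map_of_mem
      have : a ∈ Q.comap φ := by rw [hP]; exact ha
      exact this
  -- heights
  have hhtQ : Q1.height = Q.height := IsLocalization.height_map_of_disjoint (M.map φ) Q hdisj
  have hhtP : P1.height = P.height := IsLocalization.height_map_of_disjoint M P hdisjP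
  -- apply the dimension formula over `A1`
  letI := ψ.toAlgebra
  haveI : Algebra.FiniteType A1 B1 := hψft
  haveI : FaithfulSMul A1 B1 := (faithfulSMul_iff_algebraMap_injective A1 B1).mpr hψinj
  haveI : Q1.LiesOver P1 := ⟨hover.symm⟩
  have key := Groth.Agent.Lib.helper26.DimFormula.dimension_formula A1 huc B1 P1 Q1
  rw [hhtQ, hhtP] at key
  have h1 : Algebra.trdeg A1 B1 = td φ := by
    rw [htd, ← td_algebraMap]
  rw [h1] at key
  rw [← key]
  congr 1
  -- the residue transcendence degrees
  haveI : IsDomain (B1 ⧸ Q1) := Ideal.Quotient.isDomain Q1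
  haveI : IsDomain (A1 ⧸ P1) := Ideal.Quotient.isDomain P1
  rw [← td_algebraMap]
  refine td_eq_of_square (Ideal.quotientMap Q φ (le_of_eq hP.symm))
    (Ideal.quotientMap Q1 (algebraMap B B1) (le_of_eq hcomapQ.symm))
    (Ideal.quotientMap P1 (algebraMap A A1) (le_of_eq hcomapP.symm))
    (algebraMap (A1 ⧸ P1) (B1 ⧸ Q1)) ?_ ?_ ?_ ?_ ?_ ?_ ?_
  · apply Ideal.Quotient.ringHom_ext
    ext a
    have := congrArg (fun f => Ideal.Quotient.mk Q1 (f a)) hsq
    exact this
  · exact Ideal.quotientMap_injective' (le_of_eq hP)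
  · exact Ideal.quotientMap_injective' (le_of_eq hcomapQ)
  · exact Ideal.quotientMap_injective' (le_of_eq hcomapP)
  · exact FaithfulSMul.algebraMap_injective _ _
  · haveI : Algebra.IsAlgebraic (B ⧸ Q) (B1 ⧸ Q1) :=
      IsLocalization.isAlgebraic (B1 ⧸ Q1) (Algebra.algebraMapSubmonoid (B ⧸ Q) (M.map φ))
    exact isAlgebraic_toAlgebra_algebraMap
  · haveI : Algebra.IsAlgebraic (A ⧸ P) (A1 ⧸ P1) :=
      IsLocalization.isAlgebraic (A1 ⧸ P1) (Algebra.algebraMapSubmonoid (A ⧸ P) M)
    exact isAlgebraic_toAlgebra_algebraMap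

end Groth.Agent.Lib.helper3.DimIneq

namespace Groth.Agent.Lib.helper3.DimIneq

theorem uc_congr {A : Type u} [CommRing A] {I J : Ideal A} [I.IsPrime] [J.IsPrime] (h : I = J)
    (hI : CAlg.IsUniversallyCatenary (Localization.AtPrime I)) :
    CAlg.IsUniversallyCatenary (Localization.AtPrime J) := by
  subst h; exact hI

/-- universally catenary local rings pass to quotients. -/
theorem uc_localization_of_surjective {A A' : Type u} [CommRing A] [CommRing A'] (f : A →+* A')
    (hf : Surjective f) (P' : Ideal A') [P'.IsPrime]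
    (h : CAlg.IsUniversallyCatenary (Localization.AtPrime (P'.comap f))) :
    CAlg.IsUniversallyCatenary (Localization.AtPrime P') := by
  let g := Localization.localRingHom (P'.comap f) P' f rfl
  have hg : Surjective g := RingHom.surjective_localRingHom_of_surjective f hf P'
  letI := g.toAlgebra
  haveI : Algebra.FiniteType (Localization.AtPrime (P'.comap f)) (Localization.AtPrime P') :=
    RingHom.FiniteType.of_surjective g hg
  exact Groth.Agent.Lib.helper26.DimFormula.isUniversallyCatenary_of_finiteType h

/-- **dimension formula between two primes** `q ≤ q'` of `B` over `p ≤ p'` of `A`, for `A → B` of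
finite type with `A_{p'}` universally catenary:
`ht(q'/q) + trdeg κ(q')/κ(p') = ht(p'/p) + trdeg κ(q)/κ(p)`. -/
theorem dimension_formula_between {A B : Type u} [CommRing A] [CommRing B] (φ : A →+* B)
    (hφ : φ.FiniteType) (q q' : Ideal B) [q.IsPrime] [q'.IsPrime] (hle : q ≤ q')
    (huc : CAlg.IsUniversallyCatenary (Localization.AtPrime (q'.comap φ))) :
    ((q'.map (Ideal.Quotient.mk q)).height : Cardinal.{u}) + td (Ideal.quotientMap q' φ le_rfl) =
      (((q'.comap φ).map (Ideal.Quotient.mk (q.comap φ))).height : Cardinal.{u}) +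
        td (Ideal.quotientMap q φ le_rfl) := by
  haveI : IsDomain (B ⧸ q) := Ideal.Quotient.isDomain q
  haveI : IsDomain (A ⧸ q.comap φ) := Ideal.Quotient.isDomain _
  have hsurj : Surjective (Ideal.Quotient.mk q) := Ideal.Quotient.mk_surjective
  have hsurjA : Surjective (Ideal.Quotient.mk (q.comap φ)) := Ideal.Quotient.mk_surjective
  set φ0 := Ideal.quotientMap q φ le_rfl with hφ0
  have hφ0inj : Injective φ0 := Ideal.quotientMap_injective
  have hφ0ft : φ0.FiniteType := by
    have h1 : (φ0.comp (Ideal.Quotient.mk (q.comap φ))).FiniteType := by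
      have : φ0.comp (Ideal.Quotient.mk (q.comap φ)) = (Ideal.Quotient.mk q).comp φ := by
        ext a; rfl
      rw [this]
      exact (RingHom.FiniteType.of_surjective _ Ideal.Quotient.mk_surjective).comp hφ
    exact RingHom.FiniteType.of_comp_finiteType h1
  set Q' : Ideal (B ⧸ q) := q'.map (Ideal.Quotient.mk q) with hQ'def
  haveI hQ'p : Q'.IsPrime := by
    apply Ideal.map_isPrime_of_surjective hsurj
    rw [Ideal.mk_ker]; exact hle
  have hQ'c : Q'.comap (Ideal.Quotient.mk q) = q' := by
    rw [hQ'def, Ideal.comap_map_of_surjective _ hsurj, ← RingHom.ker_eq_comap_bot, Ideal.mk_ker]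
    exact sup_eq_left.mpr hle
  set P' : Ideal (A ⧸ q.comap φ) := Q'.comap φ0 with hP'def
  haveI hP'p : P'.IsPrime := Ideal.comap_isPrime φ0 Q'
  have hP'c : P'.comap (Ideal.Quotient.mk (q.comap φ)) = q'.comap φ := by
    rw [hP'def, Ideal.comap_comap]
    have : φ0.comp (Ideal.Quotient.mk (q.comap φ)) = (Ideal.Quotient.mk q).comp φ := by
      ext a; rfl
    rw [this, ← Ideal.comap_comap, hQ'c]
  have hP'map : (q'.comap φ).map (Ideal.Quotient.mk (q.comap φ)) = P' := by
    rw [← hP'c, Ideal.map_comap_of_surjective _ hsurjA]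
  have huc0 : CAlg.IsUniversallyCatenary (Localization.AtPrime P') := by
    apply uc_localization_of_surjective (Ideal.Quotient.mk (q.comap φ)) hsurjA P'
    haveI : (P'.comap (Ideal.Quotient.mk (q.comap φ))).IsPrime := Ideal.comap_isPrime _ _
    exact uc_congr hP'c.symm huc
  have key := dimension_formula_at φ0 hφ0inj hφ0ft Q' P' rfl huc0
  rw [hP'map, ← key]
  congr 1
  -- compare the transcendence degrees
  haveI : IsDomain ((B ⧸ q) ⧸ Q') := Ideal.Quotient.isDomain Q'
  refine td_eq_of_square (Ideal.quotientMap q' φ le_rfl)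
    (Ideal.quotientMap Q' (Ideal.Quotient.mk q) (le_of_eq hQ'c.symm))
    (Ideal.quotientMap P' (Ideal.Quotient.mk (q.comap φ)) (le_of_eq hP'c.symm))
    (Ideal.quotientMap Q' φ0 le_rfl) ?_ Ideal.quotientMap_injective ?_ ?_
    Ideal.quotientMap_injective ?_ ?_
  · ext a; rfl
  · exact Ideal.quotientMap_injective' (le_of_eq hQ'c)
  · exact Ideal.quotientMap_injective' (le_of_eq hP'c)
  · apply isAlgebraic_of_surjective
    exact Ideal.quotientMap_surjective hsurj
  · haveI : Nontrivial (A ⧸ q'.comap φ) :=
      Ideal.Quotient.nontrivial_iff.mpr (Ideal.IsPrime.ne_top (Ideal.comap_isPrime φ q'))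
    apply isAlgebraic_of_surjective
    exact Ideal.quotientMap_surjective hsurjA

end Groth.Agent.Lib.helper3.DimIneq
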