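import Mathlib
import Groth.Agent.Lib.Helper3.DimFormulaAt
import Groth.Agent.Lib.Helper3.DimIneqSch2
/-!
# Helper library (helper3): scheme-level dimension formula (equality) between two points `x ⤳ x'`
of `X` for `f : X ⟶ S` locally of finite type, when the local ring of `S` at `f x'` is universally
catenary.
-/

set_option autoImplicit false
universe u
open CategoryTheory AlgebraicGeometry Function

namespace Groth.Agent.Lib.helper3.DimIneq

theorem uc_of_ringEquiv {R R' : Type u} [CommRing R] [CommRing R'] (e : R ≃+* R')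
    (h : CAlg.IsUniversallyCatenary R) : CAlg.IsUniversallyCatenary R' := by
  letI := e.toRingHom.toAlgebra
  haveI : Algebra.FiniteType R R' := RingHom.FiniteType.of_surjective e.toRingHom e.surjective
  exact Groth.Agent.Lib.helper26.DimFormula.isUniversallyCatenary_of_finiteType h

theorem uc_localization_of_stalk {S : Scheme.{u}} {V : S.Opens} (hV : IsAffineOpen V) (s : S)
    (hs : s ∈ V) (h : CAlg.IsUniversallyCatenary (S.presheaf.stalk s)) :
    CAlg.IsUniversallyCatenary (Localization.AtPrime (hV.primeIdealOf ⟨s, hs⟩).asIdeal) := by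
  letI : Algebra Γ(S, V) (S.presheaf.stalk s) :=
    TopCat.Presheaf.algebra_section_stalk S.presheaf ⟨s, hs⟩
  haveI := hV.isLocalization_stalk ⟨s, hs⟩
  exact uc_of_ringEquiv (IsLocalization.algEquiv (hV.primeIdealOf ⟨s, hs⟩).asIdeal.primeCompl
    (S.presheaf.stalk s) (Localization.AtPrime (hV.primeIdealOf ⟨s, hs⟩).asIdeal)).toRingEquiv h

theorem height_map_congr {A : Type u} [CommRing A] {I I' J J' : Ideal A} (h1 : I = I')
    (h2 : J = J') : (J.map (Ideal.Quotient.mk I)).height = (J'.map (Ideal.Quotient.mk I')).height := by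
  subst h1; subst h2; rfl

theorem dimension_formula_specializes {X S : Scheme.{u}} (f : X ⟶ S) [LocallyOfFiniteType f]
    {V : S.Opens} (hV : IsAffineOpen V) {U : X.Opens} (hU : IsAffineOpen U) (e : U ≤ f ⁻¹ᵁ V)
    (x x' : X) (hx : x ∈ U) (hx' : x' ∈ U)
    (hle : (hU.primeIdealOf ⟨x, hx⟩).asIdeal ≤ (hU.primeIdealOf ⟨x', hx'⟩).asIdeal)
    (huc : CAlg.IsUniversallyCatenary (S.presheaf.stalk (f x'))) :
    ((((hU.primeIdealOf ⟨x', hx'⟩).asIdeal.map
        (Ideal.Quotient.mk (hU.primeIdealOf ⟨x, hx⟩).asIdeal)).height : ℕ∞) : Cardinal.{u}) +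
        td (f.residueFieldMap x').hom =
      ((((hV.primeIdealOf ⟨f x', e hx'⟩).asIdeal.map
        (Ideal.Quotient.mk (hV.primeIdealOf ⟨f x, e hx⟩).asIdeal)).height : ℕ∞) : Cardinal.{u}) +
        td (f.residueFieldMap x).hom := by
  have hft : (f.appLE V U e).hom.FiniteType := LocallyOfFiniteType.finiteType_appLE f hV hU e
  have hI : ∀ (y : X) (hy : y ∈ U), (hU.primeIdealOf ⟨y, hy⟩).asIdeal.comap (f.appLE V U e).hom =
      (hV.primeIdealOf ⟨f y, e hy⟩).asIdeal := by
    intro y hy
    have := IsAffineOpen.comap_primeIdealOf_appLE (f := f) (x := y) V hV U hU e hy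
    exact congrArg PrimeSpectrum.asIdeal this
  haveI : ((hU.primeIdealOf ⟨x', hx'⟩).asIdeal.comap (f.appLE V U e).hom).IsPrime :=
    Ideal.comap_isPrime _ _
  have huc' : CAlg.IsUniversallyCatenary (Localization.AtPrime
      ((hU.primeIdealOf ⟨x', hx'⟩).asIdeal.comap (f.appLE V U e).hom)) :=
    uc_congr (hI x' hx').symm (uc_localization_of_stalk hV (f x') (e hx') huc)
  have key := dimension_formula_between (f.appLE V U e).hom hft _ _ hle huc'
  rw [td_quotientMap_eq f hV hU e x hx, td_quotientMap_eq f hV hU e x' hx',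
    height_map_congr (hI x hx) (hI x' hx')] at key
  exact key

end Groth.Agent.Lib.helper3.DimIneq
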