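import Mathlib
import Groth.Agent.Lib.Helper3.FTFieldLocalDim
/-!
# Helper library (helper3): more dimension theory for schemes locally of finite type over a field.

* `trdeg_residueField_le_dim` : `trdeg_k κ(y) ≤ dim Y`;
* `resMap_comp` : for a `k`-morphism `f : Y ⟶ X`, `k → κ(y)` factors through `κ(f y)`;
* `trdeg_residueField_le_of_hom` : `trdeg_k κ(f y) ≤ trdeg_k κ(y)`.
-/

set_option autoImplicit false
universe u
open CategoryTheory AlgebraicGeometry Function

namespace Groth.Agent.Lib.helper3.FTField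

open Groth.Agent.Lib.helper3.DimIneq

section dim

variable (k : Type u) [Field k] (Y : Scheme.{u}) [Y.Over (Spec (CommRingCat.of k))]
  [LocallyOfFiniteType (Y ↘ Spec (CommRingCat.of k))]

/-- `trdeg_k κ(y) ≤ dim Y`. -/
theorem trdeg_residueField_le_dim (y : Y) (a : ℕ)
    (ha : @Algebra.trdeg k (Y.residueField y) _ _ (Curv2.resAlgebra k Y y) = a) :
    (a : WithBot ℕ∞) ≤ topologicalKrullDim Y := by
  obtain ⟨U, hU, hyU, -⟩ := exists_isAffineOpen_mem_and_subset (x := y) (U := ⊤) trivial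
  haveI := isNoetherianRing_of_isAffineOpen k Y hU
  obtain ⟨q0, hq0min, hq0le, -⟩ :=
    exists_minimalPrimes_height_map_eq (hU.primeIdealOf ⟨y, hyU⟩).asIdeal
  haveI := hq0min.1.1
  obtain ⟨m, hm, hqm⟩ := Ideal.exists_le_maximal (hU.primeIdealOf ⟨y, hyU⟩).asIdeal
    (hU.primeIdealOf ⟨y, hyU⟩).isPrime.ne_top
  haveI := hm.isPrime
  obtain ⟨z, hzU, hzm⟩ := exists_point_of_prime hU m
  subst hzm
  obtain ⟨ξ, hξU, hξq⟩ := exists_point_of_prime hU q0
  subst hξq
  have key1 := height_map_add_trdeg_residueField k Y hU ξ z hξU hzU (hq0le.trans hqm)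
  have key2 := height_map_add_trdeg_residueField k Y hU ξ y hξU hyU hq0le
  rw [trdeg_residueField_eq_zero_of_isMaximal k Y hU z hzU hm, add_zero] at key1
  rw [ha, ← key1] at key2
  have h3 := height_map_le _ _ (hq0le.trans hqm)
  have h4 : ((a : ℕ∞) : Cardinal.{u}) ≤ (((hU.primeIdealOf ⟨z, hzU⟩).asIdeal.map
        (Ideal.Quotient.mk (hU.primeIdealOf ⟨ξ, hξU⟩).asIdeal)).height : ℕ∞) := by
    rw [← key2]
    simp
  rw [Cardinal.ofENat_le_ofENat.{u}] at h4
  refine le_trans ?_ (stalk_le_dim z)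
  rw [ringKrullDim_stalk_eq_height hU z hzU]
  exact_mod_cast h4.trans h3

end dim

section hom

variable (k : Type u) [Field k] {X Y : Scheme.{u}} (p : X ⟶ Spec (CommRingCat.of k))
  (q : Y ⟶ Spec (CommRingCat.of k)) (f : Y ⟶ X) (hf : f ≫ p = q)

include hf in
theorem resMap_comp (y : Y) :
    @Curv2.resMap k _ Y ⟨q⟩ y = (f.residueFieldMap y).hom.comp (@Curv2.resMap k _ X ⟨p⟩ (f y)) := by
  subst hf
  ext c
  simp only [Curv2.resMap, Curv2.stalkMap, Coh.toGlobal, RingHom.comp_apply]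
  change (Y.residue y).hom ((Y.presheaf.germ ⊤ y trivial).hom ((f ≫ p).appTop.hom _)) =
    (f.residueFieldMap y).hom ((X.residue (f y)).hom ((X.presheaf.germ ⊤ (f y) trivial).hom
      (p.appTop.hom _)))
  have h1 := Scheme.evaluation_naturality_apply f y (V := ⊤) trivial
    (p.appTop.hom ((Scheme.ΓSpecIso (CommRingCat.of k)).inv.hom c))
  change (f.residueFieldMap y).hom ((X.residue (f y)).hom ((X.presheaf.germ ⊤ (f y) trivial).hom
      (p.appTop.hom ((Scheme.ΓSpecIso (CommRingCat.of k)).inv.hom c)))) = _ at h1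
  rw [h1]
  simp only [Scheme.evaluation, CommRingCat.hom_comp, RingHom.comp_apply, Scheme.Hom.comp_appTop]
  rfl

include hf in
theorem trdeg_residueField_le_of_hom (y : Y) :
    @Algebra.trdeg k (X.residueField (f y)) _ _ (@Curv2.resAlgebra k _ X ⟨p⟩ (f y)) ≤
      @Algebra.trdeg k (Y.residueField y) _ _ (@Curv2.resAlgebra k _ Y ⟨q⟩ y) := by
  letI i1 := @Curv2.resAlgebra k _ X ⟨p⟩ (f y)
  letI i2 := @Curv2.resAlgebra k _ Y ⟨q⟩ y
  let g : X.residueField (f y) →ₐ[k] Y.residueField y :=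
    { (f.residueFieldMap y).hom with
      commutes' := fun c => by
        have := congrArg (fun φ => φ c) (resMap_comp k p q f hf y)
        exact this.symm }
  exact _root_.trdeg_le_of_injective g (f.residueFieldMap y).hom.injective

end hom

end Groth.Agent.Lib.helper3.FTField
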