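import Mathlib
import Groth.Agent.Lib.Helper3.FTFieldDim
/-!
# Helper library (helper3): the scheme-theoretic fibre as a scheme over the residue field.

For `f : X ⟶ S` and `s : S` the fibre `F = f.fiber s` is a scheme over `Spec κ(s)` (structure
`fiberOver f s`, locally of finite type when `f` is), and for a point `x` of `F` with image `ι x` in
`X`: `td_resMap_fiber` : `trdeg_{κ(s)} κ_F(x) = trdeg_{κ(f (ι x))} κ_X(ι x)`.
-/

set_option autoImplicit false
universe u
open CategoryTheory AlgebraicGeometry Function

namespace Groth.Agent.Lib.helper3.FibreField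

open Groth.Agent.Lib.helper3.DimIneq Groth.Agent.Lib.helper3.FTField

section td

theorem td_comp_left {R' R S : Type u} [Field R'] [Field R] [Field S] (φ : R →+* S) (e : R' →+* R)
    (he : Surjective e) : td (φ.comp e) = td φ :=
  td_eq_of_square (φ.comp e) (RingHom.id S) e φ (by ext; rfl) (RingHom.injective _) injective_id
    e.injective φ.injective (isAlgebraic_of_surjective _ surjective_id)
    (isAlgebraic_of_surjective e he)

theorem td_comp_right {R S S' : Type u} [Field R] [Field S] [Field S'] (φ : R →+* S) (g : S →+* S')
    (hg : Surjective g) : td (g.comp φ) = td φ :=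
  (td_eq_of_square φ g (RingHom.id R) (g.comp φ) (by ext; rfl) φ.injective g.injective injective_id
    (RingHom.injective _) (isAlgebraic_of_surjective g hg)
    (isAlgebraic_of_surjective _ surjective_id)).symm

end td

theorem residueFieldMap_surjective {X Y : Scheme.{u}} (g : X ⟶ Y) [SurjectiveOnStalks g] (x : X) :
    Surjective (g.residueFieldMap x).hom := by
  intro z
  obtain ⟨w, rfl⟩ := IsLocalRing.residue_surjective (R := X.presheaf.stalk x) z
  obtain ⟨v, rfl⟩ := g.stalkMap_surjective x w
  refine ⟨(Y.residue (g x)).hom v, ?_⟩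
  have := congrArg (fun φ => φ.hom v) (Scheme.residue_residueFieldMap g x)
  exact this

theorem td_residueFieldMap_congr {X S : Scheme.{u}} (f : X ⟶ S) {x₁ x₂ : X} (e : x₁ = x₂) :
    td (f.residueFieldMap x₁).hom = td (f.residueFieldMap x₂).hom := by
  subst e; rfl

/-- the structure map `K → κ(z)` of `Spec K` is surjective. -/
theorem resMap_Spec_surjective (K : Type u) [Field K] (z : Spec (CommRingCat.of K)) :
    Surjective (@Curv2.resMap K _ (Spec (CommRingCat.of K)) ⟨𝟙 _⟩ z) := by
  have h1 : @Curv2.resMap K _ (Spec (CommRingCat.of K)) ⟨𝟙 _⟩ z =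
      (Scheme.Spec.residueFieldIso (CommRingCat.of K) z).inv.hom.comp
        (algebraMap K z.asIdeal.ResidueField) := by
    have h2 := Scheme.Spec.algebraMap_residueFieldIso_inv (CommRingCat.of K) z
    ext c
    have h3 := congrArg (fun f => f.hom c) h2
    simp only [CommRingCat.hom_comp, RingHom.comp_apply, CommRingCat.hom_ofHom] at h3
    rw [RingHom.comp_apply, h3]
    simp only [Curv2.resMap, Curv2.stalkMap, Coh.toGlobal, RingHom.comp_apply]
    change ((Spec (CommRingCat.of K)).residue z).hom
      (((Spec (CommRingCat.of K)).presheaf.germ ⊤ z trivial).hom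
      ((𝟙 (Spec (CommRingCat.of K)) : _ ⟶ _).appTop.hom _)) = _
    simp
  rw [h1]
  refine (ConcreteCategory.bijective_of_isIso
    (Scheme.Spec.residueFieldIso (CommRingCat.of K) z).inv).surjective.comp ?_
  haveI : z.asIdeal.IsMaximal := by
    have : z.asIdeal = ⊥ := by
      rcases Ideal.eq_bot_or_top z.asIdeal with h | h
      · exact h
      · exact absurd h z.isPrime.ne_top
    rw [this]
    exact Ideal.bot_isMaximal
  have h4 := (Ideal.bijective_algebraMap_quotient_residueField z.asIdeal).surjective
  have h5 : (algebraMap K z.asIdeal.ResidueField : K → _) =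
      (algebraMap (K ⧸ z.asIdeal) z.asIdeal.ResidueField) ∘ (Ideal.Quotient.mk z.asIdeal) := by
    ext c
    exact IsScalarTower.algebraMap_apply K (K ⧸ z.asIdeal) z.asIdeal.ResidueField c
  rw [h5]
  exact h4.comp Ideal.Quotient.mk_surjective

variable {X S : Scheme.{u}} (f : X ⟶ S) (s : S)

/-- the fibre as a scheme over the residue field. -/
@[reducible] noncomputable def fiberOver :
    (f.fiber s).Over (Spec (CommRingCat.of (S.residueField s))) :=
  ⟨f.fiberToSpecResidueField s⟩

theorem locallyOfFiniteType_fiber [LocallyOfFiniteType f] :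
    LocallyOfFiniteType (f.fiberToSpecResidueField s) :=
  MorphismProperty.pullback_snd _ _ inferInstance

/-- `trdeg_{κ(s)} κ_F(x) = trdeg_{κ(f (ι x))} κ_X(ι x)`. -/
theorem td_resMap_fiber (x : f.fiber s) :
    td (@Curv2.resMap (S.residueField s) _ (f.fiber s) (fiberOver f s) x) =
      td (f.residueFieldMap (f.fiberι s x)).hom := by
  -- step 1
  have h1 := resMap_comp (S.residueField s) (𝟙 (Spec (CommRingCat.of (S.residueField s))))
    (f.fiberToSpecResidueField s) (f.fiberToSpecResidueField s) (Category.comp_id _) x
  have e1 : td (@Curv2.resMap (S.residueField s) _ (f.fiber s) (fiberOver f s) x) =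
      td ((f.fiberToSpecResidueField s).residueFieldMap x).hom := by
    rw [show @Curv2.resMap (S.residueField s) _ (f.fiber s) (fiberOver f s) x = _ from h1]
    exact td_comp_left _ _ (resMap_Spec_surjective _ _)
  -- step 2
  have e2 : td ((f.fiberToSpecResidueField s ≫ S.fromSpecResidueField s).residueFieldMap x).hom =
      td ((f.fiberToSpecResidueField s).residueFieldMap x).hom := by
    rw [Scheme.residueFieldMap_comp]
    change td (((f.fiberToSpecResidueField s).residueFieldMap x).hom.comp
      ((S.fromSpecResidueField s).residueFieldMap (f.fiberToSpecResidueField s x)).hom) = _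
    exact td_comp_left _ _ (residueFieldMap_surjective _ _)
  -- step 3
  have e3 : td ((f.fiberι s ≫ f).residueFieldMap x).hom =
      td ((f.fiberToSpecResidueField s ≫ S.fromSpecResidueField s).residueFieldMap x).hom := by
    rw [Scheme.Hom.residueFieldMap_congr (f.fiber_fac s) x, CommRingCat.hom_comp]
    exact td_comp_left _ _ (ConcreteCategory.bijective_of_isIso _).surjective
  -- step 4
  have e4 : td ((f.fiberι s ≫ f).residueFieldMap x).hom =
      td (f.residueFieldMap (f.fiberι s x)).hom := by
    rw [Scheme.residueFieldMap_comp]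
    change td (((f.fiberι s).residueFieldMap x).hom.comp
      (f.residueFieldMap (f.fiberι s x)).hom) = _
    exact td_comp_right _ _ (residueFieldMap_surjective _ _)
  rw [e1, ← e2, ← e3, e4]

end Groth.Agent.Lib.helper3.FibreField
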