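import Mathlib
import Groth.Agent.Lib.Helper3.FibreField
import Groth.Agent.Lib.Helper3.DimFormulaSch
import Groth.Agent.S1619
/-!
# Helper library (helper3): dimension of the generic fibre, points of a fibre algebraic over the
base point, and the dimension formula at points of an irreducible scheme.

* `irreducibleSpace_of_forall_specializes`, `genericPoint_eq_of_forall_specializes`;
* `dim_fiber_generic` : for `ξ ⤳` every point of `X`, `dim f⁻¹(f ξ) = trdeg κ(ξ)/κ(f ξ)`;
* `exists_td_eq_zero` : a nonempty fibre has a point with residue field algebraic over the base;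
* `height_map_eq_of_forall_specializes`;
* `dim_stalk_add_td_eq` : `dim O_{X,x} + trdeg κ(x)/κ(f x) = dim O_{Y,f x} + trdeg κ(ξ)/κ(f ξ)`
  when `O_{Y,f x}` is universally catenary and `ξ`, `f ξ` are generic.
-/

set_option autoImplicit false
universe u
open CategoryTheory AlgebraicGeometry Function

namespace Groth.Agent.Lib.helper3.DimFibre

open Groth.Agent.Lib.helper3.DimIneq Groth.Agent.Lib.helper3.FTField
  Groth.Agent.Lib.helper3.FibreField

theorem irreducibleSpace_of_forall_specializes {T : Type u} [TopologicalSpace T] (ξ : T)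
    (h : ∀ z : T, ξ ⤳ z) : IrreducibleSpace T := by
  have hcl : closure ({ξ} : Set T) = Set.univ := by
    ext z; simp only [Set.mem_univ, iff_true]; exact (h z).mem_closure
  have hirr : IsIrreducible (Set.univ : Set T) := by
    rw [← hcl]; exact isIrreducible_singleton.closure
  exact { isPreirreducible_univ := hirr.isPreirreducible, toNonempty := ⟨ξ⟩ }

theorem genericPoint_eq_of_forall_specializes {T : Type u} [TopologicalSpace T] [T0Space T]
    [QuasiSober T] [IrreducibleSpace T] (ξ : T) (h : ∀ z : T, ξ ⤳ z) : genericPoint T = ξ := by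
  have h1 : IsGenericPoint ξ (Set.univ : Set T) := by
    rw [isGenericPoint_def]
    ext z; simp only [Set.mem_univ, iff_true]; exact (h z).mem_closure
  exact (genericPoint_spec T).eq h1

variable {X Y : Scheme.{u}} (f : X ⟶ Y)

/-- the dimension of the fibre through a generic point. -/
theorem dim_fiber_generic [LocallyOfFiniteType f] (ξ : X) (hξ : ∀ z : X, ξ ⤳ z) (t : ℕ)
    (ht : td (f.residueFieldMap ξ).hom = t) :
    topologicalKrullDim (f.fiber (f ξ)) = t := by
  letI := fiberOver f (f ξ)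
  haveI : LocallyOfFiniteType ((f.fiber (f ξ)) ↘ Spec (CommRingCat.of (Y.residueField (f ξ)))) :=
    locallyOfFiniteType_fiber f (f ξ)
  have hsp : ∀ z : f.fiber (f ξ), f.asFiber ξ ⤳ z := by
    intro z
    rw [← (f.fiberι (f ξ)).isEmbedding.isInducing.specializes_iff, f.fiberι_asFiber]
    exact hξ _
  haveI := irreducibleSpace_of_forall_specializes (f.asFiber ξ) hsp
  have hgen := genericPoint_eq_of_forall_specializes (f.asFiber ξ) hsp
  apply Groth.Agent.S1619.result (Y.residueField (f ξ)) (f.fiber (f ξ)) t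
  rw [hgen]
  change td (Curv2.resMap (Y.residueField (f ξ)) (f.fiber (f ξ)) (f.asFiber ξ)) = t
  rw [td_resMap_fiber, td_residueFieldMap_congr f (f.fiberι_asFiber ξ), ht]

/-- a nonempty fibre has a point whose residue field is algebraic over the base residue field. -/
theorem exists_td_eq_zero [LocallyOfFiniteType f] (y : Y) (hne : Nonempty (f.fiber y)) :
    ∃ x : X, f x = y ∧ td (f.residueFieldMap x).hom = 0 := by
  letI := fiberOver f y
  haveI : LocallyOfFiniteType ((f.fiber y) ↘ Spec (CommRingCat.of (Y.residueField y))) :=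
    locallyOfFiniteType_fiber f y
  obtain ⟨z⟩ := hne
  obtain ⟨U, hU, hzU, -⟩ := exists_isAffineOpen_mem_and_subset (x := z) (U := ⊤) trivial
  haveI : Nontrivial Γ(f.fiber y, U) := by
    haveI : Nonempty U := ⟨⟨z, hzU⟩⟩
    infer_instance
  obtain ⟨m, hm⟩ := Ideal.exists_maximal Γ(f.fiber y, U)
  haveI := hm.isPrime
  obtain ⟨z', hz'U, hz'm⟩ := exists_point_of_prime hU m
  have h0 := trdeg_residueField_eq_zero_of_isMaximal (Y.residueField y) (f.fiber y) hU z' hz'U
    (hz'm ▸ hm)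
  refine ⟨f.fiberι y z', ?_, ?_⟩
  · have : f.fiberι y z' ∈ Set.range (f.fiberι y) := ⟨z', rfl⟩
    rw [f.range_fiberι y] at this
    exact this
  · rw [← td_resMap_fiber]
    exact h0

/-- if `ξ` specializes to every point of the affine open `U`, then `ht(q_x/q_ξ) = ht q_x`. -/
theorem height_map_eq_of_forall_specializes {U : X.Opens} (hU : IsAffineOpen U)
    [IsNoetherianRing Γ(X, U)] (ξ x : X) (hξ : ξ ∈ U) (hx : x ∈ U) (h : ∀ z ∈ U, ξ ⤳ z)
    (hle : (hU.primeIdealOf ⟨ξ, hξ⟩).asIdeal ≤ (hU.primeIdealOf ⟨x, hx⟩).asIdeal) :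
    ((hU.primeIdealOf ⟨x, hx⟩).asIdeal.map
      (Ideal.Quotient.mk (hU.primeIdealOf ⟨ξ, hξ⟩).asIdeal)).height =
      (hU.primeIdealOf ⟨x, hx⟩).asIdeal.height := by
  obtain ⟨q0, hq0min, hq0le, hht⟩ :=
    exists_minimalPrimes_height_map_eq (hU.primeIdealOf ⟨x, hx⟩).asIdeal
  haveI hq0p : q0.IsPrime := hq0min.1.1
  obtain ⟨ζ, hζU, hζq⟩ := exists_point_of_prime hU q0
  subst hζq
  have h1 : (hU.primeIdealOf ⟨ξ, hξ⟩).asIdeal ≤ (hU.primeIdealOf ⟨ζ, hζU⟩).asIdeal :=
    (specializes_iff_primeIdealOf_le hU _ _ hξ hζU).mp (h ζ hζU)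
  have h2 : (hU.primeIdealOf ⟨ζ, hζU⟩).asIdeal ≤ (hU.primeIdealOf ⟨ξ, hξ⟩).asIdeal :=
    hq0min.2 ⟨(hU.primeIdealOf ⟨ξ, hξ⟩).isPrime, bot_le⟩ h1
  have hζ : ζ = ξ := (by
    have a1 : ζ ⤳ ξ := (specializes_iff_primeIdealOf_le hU _ _ hζU hξ).mpr h2
    exact (a1.antisymm (h ζ hζU)).eq)
  subst hζ
  exact hht

/-- the dimension formula at a point of an irreducible scheme over an irreducible base. -/
theorem dim_stalk_add_td_eq [LocallyOfFiniteType f] [IsLocallyNoetherian Y] (ξ : X)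
    (hξ : ∀ z : X, ξ ⤳ z) (hη : ∀ y : Y, f ξ ⤳ y) (x : X)
    (huc : CAlg.IsUniversallyCatenary (Y.presheaf.stalk (f x))) (t : ℕ)
    (ht : td (f.residueFieldMap ξ).hom = t) :
    ∃ c : ℕ, td (f.residueFieldMap x).hom = c ∧
      ringKrullDim (X.presheaf.stalk x) + (c : WithBot ℕ∞) =
        ringKrullDim (Y.presheaf.stalk (f x)) + (t : WithBot ℕ∞) := by
  haveI : IsLocallyNoetherian X := LocallyOfFiniteType.isLocallyNoetherian f
  obtain ⟨V, hV, hsV, -⟩ := exists_isAffineOpen_mem_and_subset (x := f x) (U := ⊤) trivial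
  obtain ⟨U, hU, hxU, hUV⟩ := exists_isAffineOpen_mem_and_subset (x := x) (U := f ⁻¹ᵁ V) hsV
  have hξU : ξ ∈ U := (hξ x).mem_open U.isOpen hxU
  haveI : IsNoetherianRing Γ(X, U) := IsLocallyNoetherian.component_noetherian ⟨U, hU⟩
  haveI : IsNoetherianRing Γ(Y, V) := IsLocallyNoetherian.component_noetherian ⟨V, hV⟩
  have hle := (specializes_iff_primeIdealOf_le hU ξ x hξU hxU).mp (hξ x)
  have hleY : (hV.primeIdealOf ⟨f ξ, hUV hξU⟩).asIdeal ≤ (hV.primeIdealOf ⟨f x, hUV hxU⟩).asIdeal :=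
    (specializes_iff_primeIdealOf_le hV _ _ (hUV hξU) (hUV hxU)).mp (hη (f x))
  have key := dimension_formula_specializes f hV hU hUV ξ x hξU hxU hle huc
  rw [height_map_eq_of_forall_specializes hU ξ x hξU hxU (fun z _ => hξ z) hle,
    height_map_eq_of_forall_specializes hV (f ξ) (f x) (hUV hξU) (hUV hxU) (fun z _ => hη z) hleY,
    ht] at key
  obtain ⟨c, hc⟩ := exists_nat_td_residueFieldMap f x
  obtain ⟨a, ha⟩ := ENat.ne_top_iff_exists.mp (Ideal.height_ne_top_of_isPrime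
    (I := (hU.primeIdealOf ⟨x, hxU⟩).asIdeal))
  obtain ⟨b, hb⟩ := ENat.ne_top_iff_exists.mp (Ideal.height_ne_top_of_isPrime
    (I := (hV.primeIdealOf ⟨f x, hUV hxU⟩).asIdeal))
  refine ⟨c, hc, ?_⟩
  rw [hc, ← ha, ← hb] at key
  have key' : a + c = b + t := by
    have : ((a + c : ℕ) : Cardinal.{u}) = ((b + t : ℕ) : Cardinal.{u}) := by
      push_cast
      simpa using key
    exact_mod_cast this
  rw [ringKrullDim_stalk_eq_height hU x hxU, ringKrullDim_stalk_eq_height hV (f x) (hUV hxU),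
    ← ha, ← hb]
  exact_mod_cast congrArg (fun n : ℕ => ((n : ℕ∞) : WithBot ℕ∞)) key'

/-- the dimension of the local ring at a point, as an element of `ℕ∞`. -/
noncomputable def sd (X : Scheme.{u}) (x : X) : ℕ∞ := (ringKrullDim (X.presheaf.stalk x)).unbotD 0

theorem coe_sd (X : Scheme.{u}) (x : X) :
    ((sd X x : ℕ∞) : WithBot ℕ∞) = ringKrullDim (X.presheaf.stalk x) := by
  unfold sd
  have h : ringKrullDim (X.presheaf.stalk x) ≠ ⊥ := by
    intro h0
    have := ringKrullDim_nonneg_of_nontrivial (R := X.presheaf.stalk x)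
    rw [h0] at this
    exact absurd this (by simp)
  obtain ⟨a, ha⟩ := WithBot.ne_bot_iff_exists.mp h
  rw [← ha]
  rfl

theorem dim_eq_coe_iSup_sd (X : Scheme.{u}) [Nonempty X] :
    topologicalKrullDim X = ((⨆ x : X, sd X x : ℕ∞) : WithBot ℕ∞) := by
  rw [dim_eq_iSup_stalk, WithBot.coe_iSup (OrderTop.bddAbove _)]
  congr 1
  funext x
  exact (coe_sd X x).symm

theorem sd_le_dim (X : Scheme.{u}) (x : X) : ((sd X x : ℕ∞) : WithBot ℕ∞) ≤ topologicalKrullDim X := by
  rw [coe_sd]; exact stalk_le_dim x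

/-- `ℕ∞` form of `dim_stalk_add_td_eq`. -/
theorem sd_add_td_eq [LocallyOfFiniteType f] [IsLocallyNoetherian Y] (ξ : X)
    (hξ : ∀ z : X, ξ ⤳ z) (hη : ∀ y : Y, f ξ ⤳ y) (x : X)
    (huc : CAlg.IsUniversallyCatenary (Y.presheaf.stalk (f x))) (t : ℕ)
    (ht : td (f.residueFieldMap ξ).hom = t) :
    ∃ c : ℕ, td (f.residueFieldMap x).hom = c ∧ sd X x + (c : ℕ∞) = sd Y (f x) + (t : ℕ∞) := by
  obtain ⟨c, hc, h⟩ := dim_stalk_add_td_eq f ξ hξ hη x huc t ht
  refine ⟨c, hc, ?_⟩
  rw [← coe_sd, ← coe_sd] at h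
  exact_mod_cast h

end Groth.Agent.Lib.helper3.DimFibre
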