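import Mathlib
import Groth.Agent.Lib.Helper3.DimFibre
/-!
# Helper library (helper3): uniform bounds for residue transcendence degrees and fibre dimensions.

* `exists_td_quotientMap_le` : `φ : A → B` of finite type ⇒ `∃ n, ∀ q, trdeg_{A/p}(B/q) ≤ n`;
* `exists_td_residueFieldMap_le` : `X` quasi-compact, `f` locally of finite type ⇒
  `∃ n, ∀ x, trdeg κ(x)/κ(f x) ≤ n`;
* `dim_fiber_le` : `∀ x, trdeg κ(x)/κ(f x) ≤ n` ⇒ every fibre has dimension `≤ n`.
-/

set_option autoImplicit false
universe u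
open CategoryTheory AlgebraicGeometry Function

namespace Groth.Agent.Lib.helper3.DimFibre

open Groth.Agent.Lib.helper3.DimIneq Groth.Agent.Lib.helper3.FTField
  Groth.Agent.Lib.helper3.FibreField

theorem exists_td_quotientMap_le {A B : Type u} [CommRing A] [CommRing B] (φ : A →+* B)
    (hφ : φ.FiniteType) :
    ∃ n : ℕ, ∀ (q : Ideal B) [q.IsPrime], td (Ideal.quotientMap q φ le_rfl) ≤ (n : Cardinal.{u}) := by
  algebraize [φ]
  obtain ⟨n, g, hg⟩ := Algebra.FiniteType.iff_quotient_mvPolynomial''.mp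
    (inferInstance : Algebra.FiniteType A B)
  refine ⟨n, fun q _ => ?_⟩
  haveI : IsDomain (A ⧸ q.comap (algebraMap A B)) := Ideal.Quotient.isDomain _
  haveI : IsDomain (B ⧸ q) := Ideal.Quotient.isDomain q
  letI := (Ideal.quotientMap q (algebraMap A B) le_rfl).toAlgebra
  let g' : MvPolynomial (Fin n) (A ⧸ q.comap (algebraMap A B)) →ₐ[A ⧸ q.comap (algebraMap A B)] B ⧸ q :=
    MvPolynomial.aeval (fun i => Ideal.Quotient.mk q (g (MvPolynomial.X i)))
  have hg' : Surjective g' := by
    intro z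
    obtain ⟨b, rfl⟩ := Ideal.Quotient.mk_surjective z
    obtain ⟨P, rfl⟩ := hg b
    refine ⟨MvPolynomial.map (Ideal.Quotient.mk (q.comap (algebraMap A B))) P, ?_⟩
    change MvPolynomial.aeval _ (MvPolynomial.map _ P) = _
    rw [MvPolynomial.aeval_def, MvPolynomial.eval₂_map]
    have h1 : (algebraMap (A ⧸ q.comap (algebraMap A B)) (B ⧸ q)).comp
        (Ideal.Quotient.mk (q.comap (algebraMap A B))) =
        (Ideal.Quotient.mk q).comp (algebraMap A B) := by
      ext a; rfl
    rw [h1]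
    have h2 : g P = MvPolynomial.eval₂ (algebraMap A B) (fun i => g (MvPolynomial.X i)) P := by
      conv_lhs => rw [MvPolynomial.aeval_unique g]
      rw [MvPolynomial.aeval_def]
      rfl
    rw [h2, MvPolynomial.eval₂_comp_left]
    rfl
  have h3 := _root_.lift_trdeg_le_of_surjective g' hg'
  rw [MvPolynomial.trdeg_of_isDomain] at h3
  simp only [Cardinal.lift_id, Cardinal.mk_fintype, Fintype.card_fin, Cardinal.lift_natCast] at h3
  rw [← td_algebraMap] at h3
  exact h3

variable {X Y : Scheme.{u}} (f : X ⟶ Y)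

theorem exists_td_residueFieldMap_le [LocallyOfFiniteType f] [CompactSpace X] :
    ∃ n : ℕ, ∀ x : X, td (f.residueFieldMap x).hom ≤ (n : Cardinal.{u}) := by
  have hloc : ∀ x : X, ∃ (U : X.Opens) (n : ℕ), x ∈ U ∧
      ∀ z ∈ U, td (f.residueFieldMap z).hom ≤ (n : Cardinal.{u}) := by
    intro x
    obtain ⟨V, hV, hsV, -⟩ := exists_isAffineOpen_mem_and_subset (x := f x) (U := ⊤) trivial
    obtain ⟨U, hU, hxU, hUV⟩ := exists_isAffineOpen_mem_and_subset (x := x) (U := f ⁻¹ᵁ V) hsV
    have hft : (f.appLE V U hUV).hom.FiniteType := LocallyOfFiniteType.finiteType_appLE f hV hU hUV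
    obtain ⟨n, hn⟩ := exists_td_quotientMap_le _ hft
    refine ⟨U, n, hxU, fun z hz => ?_⟩
    rw [← td_quotientMap_eq f hV hU hUV z hz]
    haveI := (hU.primeIdealOf ⟨z, hz⟩).isPrime
    exact hn _
  choose U n hxU hn using hloc
  obtain ⟨t, ht⟩ := CompactSpace.elim_nhds_subcover (fun x => (U x : Set X))
    (fun x => (U x).isOpen.mem_nhds (hxU x))
  refine ⟨t.sup n, fun z => ?_⟩
  have hz : z ∈ ⋃ x ∈ t, (U x : Set X) := by rw [ht]; trivial
  simp only [Set.mem_iUnion] at hz
  obtain ⟨x, hxt, hzx⟩ := hz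
  refine (hn x z hzx).trans ?_
  exact_mod_cast Finset.le_sup hxt

/-- a bound for the residue transcendence degrees bounds the dimension of every fibre. -/
theorem dim_fiber_le [LocallyOfFiniteType f] (n : ℕ)
    (hn : ∀ x : X, td (f.residueFieldMap x).hom ≤ (n : Cardinal.{u})) (y : Y) :
    topologicalKrullDim (f.fiber y) ≤ (n : WithBot ℕ∞) := by
  letI := fiberOver f y
  haveI : LocallyOfFiniteType ((f.fiber y) ↘ Spec (CommRingCat.of (Y.residueField y))) :=
    locallyOfFiniteType_fiber f y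
  rw [dim_eq_iSup_stalk]
  refine iSup_le fun z => ?_
  obtain ⟨U, hU, hzU, -⟩ := exists_isAffineOpen_mem_and_subset (x := z) (U := ⊤) trivial
  haveI := isNoetherianRing_of_isAffineOpen (Y.residueField y) (f.fiber y) hU
  rw [ringKrullDim_stalk_eq_height hU z hzU]
  obtain ⟨q0, hq0min, hq0le, hht⟩ :=
    exists_minimalPrimes_height_map_eq (hU.primeIdealOf ⟨z, hzU⟩).asIdeal
  haveI := hq0min.1.1
  obtain ⟨ξ, hξU, hξq⟩ := exists_point_of_prime hU q0
  subst hξq
  have key := height_map_add_trdeg_residueField (Y.residueField y) (f.fiber y) hU ξ z hξU hzU hq0le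
  rw [hht] at key
  have h1 : @Algebra.trdeg (Y.residueField y) ((f.fiber y).residueField ξ) _ _
      (Curv2.resAlgebra (Y.residueField y) (f.fiber y) ξ) ≤ (n : Cardinal.{u}) := by
    change td (Curv2.resMap (Y.residueField y) (f.fiber y) ξ) ≤ _
    rw [td_resMap_fiber]
    exact hn _
  have h2 : (((hU.primeIdealOf ⟨z, hzU⟩).asIdeal.height : ℕ∞) : Cardinal.{u}) ≤ (n : Cardinal.{u}) := by
    refine le_trans ?_ h1
    rw [← key]
    exact le_self_add
  have h3 : (hU.primeIdealOf ⟨z, hzU⟩).asIdeal.height ≤ (n : ℕ∞) := by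
    rw [← Cardinal.ofENat_le_ofENat.{u}]
    simpa using h2
  exact_mod_cast h3

end Groth.Agent.Lib.helper3.DimFibre
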