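import Mathlib
import Groth.Agent.Lib.Helper3.DimIneqSch

/-!
# Quasi-finiteness at a point versus specializations inside the fibre

For `f : X ⟶ Y` locally of finite type:
* `eq_of_specializes_of_quasiFiniteAt`: if `f` is quasi-finite at `x` then `x` has no proper
  generization or specialization inside its fibre.
* `quasiFiniteAt_of_forall_specializes`: conversely.
-/

set_option autoImplicit false
universe u

open AlgebraicGeometry CategoryTheory

namespace Groth.Agent.Lib.helper3.QFinTop

open Groth.Agent.Lib.helper3.DimIneq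

variable {X Y : Scheme.{u}} (f : X ⟶ Y)

theorem fiberι_mem (y : Y) (z : f.fiber y) : f (f.fiberι y z) = y := by
  have : f.fiberι y z ∈ Set.range (f.fiberι y) := ⟨z, rfl⟩
  rw [f.range_fiberι y] at this
  exact this

theorem fiberι_injective (y : Y) : Function.Injective (f.fiberι y) :=
  (f.fiberι y).isEmbedding.injective

theorem fiberι_specializes_iff (y : Y) (z z' : f.fiber y) :
    f.fiberι y z ⤳ f.fiberι y z' ↔ z ⤳ z' :=
  (f.fiberι y).isEmbedding.isInducing.specializes_iff

/-- if `f` is quasi-finite at `x`, then `x` is isolated in its fibre w.r.t. specialization. -/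
theorem eq_of_specializes_of_quasiFiniteAt [LocallyOfFiniteType f] {x : X}
    (hx : f.QuasiFiniteAt x) (x' : X) (h : f x' = f x) (hs : x' ⤳ x ∨ x ⤳ x') : x' = x := by
  have hclopen := hx.isClopen_singleton_asFiber
  set z := f.asFiber x with hz
  set z' : f.fiber (f x) := (f.fiberHomeo (f x)).symm ⟨x', h⟩ with hz'
  have h1 : f.fiberι (f x) z = x := f.fiberι_asFiber x
  have h2 : f.fiberι (f x) z' = x' := f.fiberι_fiberHomeo_symm (f x) ⟨x', h⟩
  have hzz : z' = z := by
    rcases hs with hs | hs
    · have : z' ⤳ z := by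
        rw [← fiberι_specializes_iff, h1, h2]; exact hs
      exact this.mem_open hclopen.isOpen rfl
    · have : z ⤳ z' := by
        rw [← fiberι_specializes_iff, h1, h2]; exact hs
      exact this.mem_closed hclopen.isClosed rfl
  rw [← h1, ← h2, hzz]

/-- if `x` has no proper generization or specialization inside its fibre, then `f` is
quasi-finite at `x`. -/
theorem quasiFiniteAt_of_forall_specializes [LocallyOfFiniteType f] (x : X)
    (hgen : ∀ x' : X, f x' = f x → x' ⤳ x → x' = x)
    (hspec : ∀ x' : X, f x' = f x → x ⤳ x' → x' = x) : f.QuasiFiniteAt x := by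
  rw [Scheme.Hom.quasiFiniteAt_iff_isOpen_singleton_asFiber]
  set z := f.asFiber x with hz
  have h1 : f.fiberι (f x) z = x := f.fiberι_asFiber x
  -- reformulate in the fibre
  have hgen' : ∀ z' : f.fiber (f x), z' ⤳ z → z' = z := by
    intro z' hs
    apply fiberι_injective f (f x)
    rw [h1]
    refine hgen _ (fiberι_mem f (f x) z') ?_
    have := (fiberι_specializes_iff f (f x) z' z).mpr hs
    rwa [h1] at this
  have hspec' : ∀ z' : f.fiber (f x), z ⤳ z' → z' = z := by
    intro z' hs
    apply fiberι_injective f (f x)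
    rw [h1]
    refine hspec _ (fiberι_mem f (f x) z') ?_
    have := (fiberι_specializes_iff f (f x) z z').mpr hs
    rwa [h1] at this
  obtain ⟨W, hW, hzW, -⟩ := exists_isAffineOpen_mem_and_subset (x := z) (U := ⊤) trivial
  -- the coordinate ring is of finite type over a field
  haveI : LocallyOfFiniteType (f.fiberToSpecResidueField (f x)) :=
    MorphismProperty.pullback_snd _ _ inferInstance
  have hft : ((f.fiberToSpecResidueField (f x)).appLE ⊤ W (by simp)).hom.FiniteType :=
    LocallyOfFiniteType.finiteType_appLE _ (isAffineOpen_top _) hW (by simp)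
  let e := (Scheme.ΓSpecIso (Y.residueField (f x))).commRingCatIsoToRingEquiv
  haveI : IsNoetherianRing Γ(Spec (Y.residueField (f x)), ⊤) :=
    isNoetherianRing_of_ringEquiv _ e.symm
  haveI : IsJacobsonRing Γ(Spec (Y.residueField (f x)), ⊤) :=
    isJacobsonRing_of_surjective ⟨e.symm.toRingHom, e.symm.surjective⟩
  letI := ((f.fiberToSpecResidueField (f x)).appLE ⊤ W (by simp)).hom.toAlgebra
  haveI : Algebra.FiniteType Γ(Spec (Y.residueField (f x)), ⊤) Γ(f.fiber (f x), W) := hft
  haveI : IsNoetherianRing Γ(f.fiber (f x), W) :=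
    Algebra.FiniteType.isNoetherianRing Γ(Spec (Y.residueField (f x)), ⊤) _
  haveI : IsJacobsonRing Γ(f.fiber (f x), W) :=
    isJacobsonRing_of_finiteType (A := Γ(Spec (Y.residueField (f x)), ⊤))
  set Q := hW.primeIdealOf ⟨z, hzW⟩ with hQ
  have hQz : hW.fromSpec Q = z := hW.fromSpec_primeIdealOf ⟨z, hzW⟩
  have hopen : IsOpen ({Q} : Set (PrimeSpectrum Γ(f.fiber (f x), W))) := by
    rw [(PrimeSpectrum.isOpen_singleton_tfae_of_isNoetherian_of_isJacobsonRing Q).out 0 2 rfl rfl]
    constructor
    · rw [PrimeSpectrum.isClosed_singleton_iff_isMaximal]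
      obtain ⟨M, hM, hQM⟩ := Ideal.exists_le_maximal Q.asIdeal Q.isPrime.ne_top
      have hs : Q ⤳ (⟨M, hM.isPrime⟩ : PrimeSpectrum _) := by
        rw [← PrimeSpectrum.le_iff_specializes]; exact hQM
      have hs' : hW.fromSpec Q ⤳ hW.fromSpec ⟨M, hM.isPrime⟩ := hs.map hW.fromSpec.continuous
      rw [hQz] at hs'
      have := hspec' _ hs'
      rw [← hQz] at this
      have h3 := hW.fromSpec.isOpenEmbedding.injective this
      have h4 : M = Q.asIdeal := congrArg PrimeSpectrum.asIdeal h3
      rw [← h4]; exact hM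
    · intro a b hs ha
      rw [Set.mem_singleton_iff] at ha ⊢
      rw [ha] at hs
      have hs' : hW.fromSpec b ⤳ hW.fromSpec Q := hs.map hW.fromSpec.continuous
      rw [hQz] at hs'
      have := hgen' _ hs'
      rw [← hQz] at this
      exact hW.fromSpec.isOpenEmbedding.injective this
  have hopen2 : IsOpen ({Q} : Set ↥(Spec Γ(f.fiber (f x), W))) := hopen
  have himg : (hW.fromSpec '' ({Q} : Set ↥(Spec Γ(f.fiber (f x), W)))) = {z} := by
    ext w
    constructor
    · rintro ⟨q, hq, rfl⟩
      have hq' : q = Q := hq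
      rw [hq']; exact hQz
    · intro hw
      have hw' : w = z := hw
      rw [hw']; exact ⟨Q, rfl, hQz⟩
  have := hW.fromSpec.isOpenEmbedding.isOpenMap _ hopen2
  rwa [himg] at this

end Groth.Agent.Lib.helper3.QFinTop
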