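import Mathlib
import Groth.Agent.Lib.Helper3.FibreDimBound
import Groth.Agent.Lib.Helper3.FTFieldLocalDim
import Groth.Agent.Lib.Helper3.QFinTop
/-!
# Helper library (helper3): characterization of the local fibre dimension by transcendence degrees

`fibreDimAt_le_iff`: for `f` locally of finite type,
`fibreDimAt f x ≤ n ↔ ∀ x' ⤳ x` in the same fibre, `trdeg κ(x')/κ(f x) ≤ n`.
-/

set_option autoImplicit false
universe u
open CategoryTheory AlgebraicGeometry Function

namespace Groth.Agent.Lib.helper3.DimFibre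

open Groth.Agent.Lib.helper3.DimIneq Groth.Agent.Lib.helper3.FTField
  Groth.Agent.Lib.helper3.FibreField Groth.Agent.Lib.helper3.QFinTop

variable {X Y : Scheme.{u}} (f : X ⟶ Y)

theorem fibreDimAt_le_iff [LocallyOfFiniteType f] (x : X) (n : ℕ) :
    FlatMor.fibreDimAt f x ≤ (n : WithBot ℕ∞) ↔
      ∀ x' : X, x' ⤳ x → f x' = f x → td (f.residueFieldMap x').hom ≤ (n : Cardinal.{u}) := by
  letI := fiberOver f (f x)
  haveI : LocallyOfFiniteType ((f.fiber (f x)) ↘ Spec (CommRingCat.of (Y.residueField (f x)))) :=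
    locallyOfFiniteType_fiber f (f x)
  set z := f.asFiber x with hz
  have hιz : f.fiberι (f x) z = x := f.fiberι_asFiber x
  obtain ⟨W, hW, hzW, -⟩ := exists_isAffineOpen_mem_and_subset (x := z) (U := ⊤) trivial
  haveI := isNoetherianRing_of_isAffineOpen (Y.residueField (f x)) (f.fiber (f x)) hW
  obtain ⟨a, ha⟩ := exists_nat_trdeg_residueField (Y.residueField (f x)) (f.fiber (f x)) z
  have hbne : (hW.primeIdealOf ⟨z, hzW⟩).asIdeal.height ≠ ⊤ := Ideal.height_ne_top_of_isPrime
  obtain ⟨b, hb⟩ := ENat.ne_top_iff_exists.mp hbne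
  have hb' : ringKrullDim ((f.fiber (f x)).presheaf.stalk z) = (b : WithBot ℕ∞) := by
    rw [ringKrullDim_stalk_eq_height hW z hzW, ← hb]; rfl
  have hloc := localDim_eq (Y.residueField (f x)) (f.fiber (f x)) z a b ha hb'
  have hdef : FlatMor.fibreDimAt f x = FlatMor.localDim (f.fiber (f x)) z := rfl
  rw [hdef, hloc]
  -- transcendence degree of a point of the fibre
  have htd : ∀ z' : f.fiber (f x),
      @Algebra.trdeg (Y.residueField (f x)) ((f.fiber (f x)).residueField z') _ _
        (Curv2.resAlgebra (Y.residueField (f x)) (f.fiber (f x)) z') =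
      td (f.residueFieldMap (f.fiberι (f x) z')).hom := fun z' => td_resMap_fiber f (f x) z'
  constructor
  · intro hab x' hs hx'
    set z' : f.fiber (f x) := (f.fiberHomeo (f x)).symm ⟨x', hx'⟩ with hz'
    have hιz' : f.fiberι (f x) z' = x' := f.fiberι_fiberHomeo_symm (f x) ⟨x', hx'⟩
    have hzz : z' ⤳ z := by
      rw [← fiberι_specializes_iff, hιz, hιz']; exact hs
    have hz'W : z' ∈ W := hzz.mem_open W.isOpen hzW
    have hle := (specializes_iff_primeIdealOf_le hW z' z hz'W hzW).mp hzz
    have key := height_map_add_trdeg_residueField (Y.residueField (f x)) (f.fiber (f x)) hW z' z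
      hz'W hzW hle
    rw [ha, htd z', td_residueFieldMap_congr f hιz'] at key
    rw [← key]
    have h1 := height_map_le _ _ hle
    rw [← hb] at h1
    have h2 : ((((hW.primeIdealOf ⟨z, hzW⟩).asIdeal.map
        (Ideal.Quotient.mk (hW.primeIdealOf ⟨z', hz'W⟩).asIdeal)).height : ℕ∞) : Cardinal.{u}) ≤
        ((b : ℕ∞) : Cardinal.{u}) := by
      rw [Cardinal.ofENat_le_ofENat.{u}]; exact h1
    have h3 : (a + b : ℕ) ≤ n := by exact_mod_cast hab
    calc _ ≤ ((b : ℕ∞) : Cardinal.{u}) + (a : Cardinal.{u}) := add_le_add_left h2 _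
      _ = ((b + a : ℕ) : Cardinal.{u}) := by push_cast; rfl
      _ ≤ (n : Cardinal.{u}) := by
        have : b + a ≤ n := by omega
        exact_mod_cast this
  · intro h
    obtain ⟨q0, hq0min, hq0le, hht⟩ :=
      exists_minimalPrimes_height_map_eq (hW.primeIdealOf ⟨z, hzW⟩).asIdeal
    haveI := hq0min.1.1
    obtain ⟨ζ, hζW, hζq⟩ := exists_point_of_prime hW q0
    subst hζq
    have hζz : ζ ⤳ z := (specializes_iff_primeIdealOf_le hW ζ z hζW hzW).mpr hq0le
    have key := height_map_add_trdeg_residueField (Y.residueField (f x)) (f.fiber (f x)) hW ζ z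
      hζW hzW hq0le
    rw [hht, ha, htd ζ, ← hb] at key
    have hsp : f.fiberι (f x) ζ ⤳ x := by
      have := (fiberι_specializes_iff f (f x) ζ z).mpr hζz
      rwa [hιz] at this
    have h1 := h (f.fiberι (f x) ζ) hsp (fiberι_mem f (f x) ζ)
    rw [← key] at h1
    have h2 : ((b + a : ℕ) : Cardinal.{u}) ≤ (n : Cardinal.{u}) := by
      refine le_trans (le_of_eq ?_) h1
      push_cast; rfl
    have h3 : b + a ≤ n := by exact_mod_cast h2
    have : a + b ≤ n := by omega
    exact_mod_cast this

end Groth.Agent.Lib.helper3.DimFibre
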