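import Mathlib
import Groth.Agent.Lib.Helper3.FibreDimChar
/-!
# Helper library (helper3): the local fibre dimension is a natural number

`fibreDimAt_eq_add`: `fibreDimAt f x = trdeg κ(x)/κ(f x) + dim O_{X_{f x}, x}` with both summands
natural numbers (for `f` locally of finite type).
-/

set_option autoImplicit false
universe u
open CategoryTheory AlgebraicGeometry Function

namespace Groth.Agent.Lib.helper3.DimFibre

open Groth.Agent.Lib.helper3.DimIneq Groth.Agent.Lib.helper3.FTField
  Groth.Agent.Lib.helper3.FibreField Groth.Agent.Lib.helper3.QFinTop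

variable {X Y : Scheme.{u}} (f : X ⟶ Y)

theorem fibreDimAt_eq_add [LocallyOfFiniteType f] (x : X) :
    ∃ a b : ℕ, td (f.residueFieldMap x).hom = (a : Cardinal.{u}) ∧
      ringKrullDim ((f.fiber (f x)).presheaf.stalk (f.asFiber x)) = (b : WithBot ℕ∞) ∧
      FlatMor.fibreDimAt f x = ((a + b : ℕ) : WithBot ℕ∞) := by
  letI := fiberOver f (f x)
  haveI : LocallyOfFiniteType ((f.fiber (f x)) ↘ Spec (CommRingCat.of (Y.residueField (f x)))) :=
    locallyOfFiniteType_fiber f (f x)
  set z := f.asFiber x with hz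
  have hιz : f.fiberι (f x) z = x := f.fiberι_asFiber x
  obtain ⟨W, hW, hzW, -⟩ := exists_isAffineOpen_mem_and_subset (x := z) (U := ⊤) trivial
  haveI := isNoetherianRing_of_isAffineOpen (Y.residueField (f x)) (f.fiber (f x)) hW
  obtain ⟨a, ha⟩ := exists_nat_trdeg_residueField (Y.residueField (f x)) (f.fiber (f x)) z
  have hbne : (hW.primeIdealOf ⟨z, hzW⟩).asIdeal.height ≠ ⊤ := Ideal.height_ne_top_of_isPrime
  obtain ⟨b, hb⟩ := ENat.ne_top_iff_exists.mp hbne
  have hb' : ringKrullDim ((f.fiber (f x)).presheaf.stalk z) = (b : WithBot ℕ∞) := by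
    rw [ringKrullDim_stalk_eq_height hW z hzW, ← hb]; rfl
  have hloc := localDim_eq (Y.residueField (f x)) (f.fiber (f x)) z a b ha hb'
  refine ⟨a, b, ?_, hb', hloc⟩
  have htd : @Algebra.trdeg (Y.residueField (f x)) ((f.fiber (f x)).residueField z) _ _
        (Curv2.resAlgebra (Y.residueField (f x)) (f.fiber (f x)) z) =
      td (f.residueFieldMap (f.fiberι (f x) z)).hom := td_resMap_fiber f (f x) z
  rw [← ha, htd, td_residueFieldMap_congr f hιz]

theorem exists_nat_fibreDimAt [LocallyOfFiniteType f] (x : X) :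
    ∃ d : ℕ, FlatMor.fibreDimAt f x = (d : WithBot ℕ∞) := by
  obtain ⟨a, b, -, -, h⟩ := fibreDimAt_eq_add f x
  exact ⟨a + b, h⟩

/-- the local fibre dimension does not increase under generization. -/
theorem fibreDimAt_le_of_specializes_aux [LocallyOfFiniteType f] (x x' : X) (n : ℕ)
    (hopen : IsOpen {x : X | FlatMor.fibreDimAt f x ≤ (n : WithBot ℕ∞)})
    (hs : x' ⤳ x) (hx : FlatMor.fibreDimAt f x ≤ (n : WithBot ℕ∞)) :
    FlatMor.fibreDimAt f x' ≤ (n : WithBot ℕ∞) :=
  hs.mem_open hopen hx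

end Groth.Agent.Lib.helper3.DimFibre
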