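import Mathlib
import Groth.Prelude.Def_Cyc
import Groth.Agent.Lib.Helper3.DimIneqSch
import Groth.Agent.Lib.Helper3.FTFieldRing
import Groth.Agent.Lib.Helper26.DimFormula4
/-!
# Helper library (helper3): dimension functions and heights.

* `isImmediate_of_covBy` : a covering of primes in an affine chart is an immediate specialization;
* `delta_eq_add_height` : for a dimension function `δ` and `s ⤳ s'` in an affine chart,
  `δ s = δ s' + ht(p_{s'}/p_s)`.
-/

set_option autoImplicit false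
universe u
open CategoryTheory AlgebraicGeometry Function

namespace Groth.Agent.Lib.helper3.DimIneq

variable {S : Scheme.{u}}

theorem eq_of_primeIdealOf_eq {V : S.Opens} (hV : IsAffineOpen V) (s t : S) (hs : s ∈ V) (ht : t ∈ V)
    (h : (hV.primeIdealOf ⟨s, hs⟩).asIdeal = (hV.primeIdealOf ⟨t, ht⟩).asIdeal) : s = t := by
  have h1 : s ⤳ t := (specializes_iff_primeIdealOf_le hV s t hs ht).mpr (le_of_eq h)
  have h2 : t ⤳ s := (specializes_iff_primeIdealOf_le hV t s ht hs).mpr (le_of_eq h.symm)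
  exact (h1.antisymm h2).eq

theorem isImmediate_of_covBy {V : S.Opens} (hV : IsAffineOpen V) (t s' : S) (ht : t ∈ V)
    (hs' : s' ∈ V)
    (hcov : (⟨(hV.primeIdealOf ⟨t, ht⟩).asIdeal, (hV.primeIdealOf ⟨t, ht⟩).isPrime⟩ :
      PrimeSpectrum Γ(S, V)) ⋖ ⟨(hV.primeIdealOf ⟨s', hs'⟩).asIdeal,
        (hV.primeIdealOf ⟨s', hs'⟩).isPrime⟩) :
    t ⤳ s' ∧ t ≠ s' ∧ ∀ z : S, t ⤳ z → z ⤳ s' → z = t ∨ z = s' := by
  have hlt : (hV.primeIdealOf ⟨t, ht⟩).asIdeal < (hV.primeIdealOf ⟨s', hs'⟩).asIdeal := hcov.lt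
  refine ⟨(specializes_iff_primeIdealOf_le hV t s' ht hs').mpr hlt.le, ?_, ?_⟩
  · rintro rfl
    exact lt_irrefl _ hlt
  · intro z h1 h2
    have hz : z ∈ V := h2.mem_open V.isOpen hs'
    have l1 := (specializes_iff_primeIdealOf_le hV t z ht hz).mp h1
    have l2 := (specializes_iff_primeIdealOf_le hV z s' hz hs').mp h2
    by_cases e1 : (hV.primeIdealOf ⟨t, ht⟩).asIdeal = (hV.primeIdealOf ⟨z, hz⟩).asIdeal
    · left
      exact (eq_of_primeIdealOf_eq hV t z ht hz e1).symm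
    · right
      by_contra hne
      have e2 : (hV.primeIdealOf ⟨z, hz⟩).asIdeal ≠ (hV.primeIdealOf ⟨s', hs'⟩).asIdeal :=
        fun h => hne (eq_of_primeIdealOf_eq hV z s' hz hs' h)
      exact hcov.2 (c := ⟨(hV.primeIdealOf ⟨z, hz⟩).asIdeal, (hV.primeIdealOf ⟨z, hz⟩).isPrime⟩)
        (lt_of_le_of_ne l1 (fun h => e1 (congrArg PrimeSpectrum.asIdeal h)))
        (lt_of_le_of_ne l2 (fun h => e2 (congrArg PrimeSpectrum.asIdeal h)))

/-- along a saturated chain of primes of an affine chart a dimension function drops by the length. -/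
theorem delta_chain (δ : S → ℤ) (hδ : Cyc.IsDimFun S δ) {V : S.Opens} (hV : IsAffineOpen V) :
    ∀ (n : ℕ) (c : Fin (n + 1) → PrimeSpectrum Γ(S, V)),
      (∀ i : Fin n, c i.castSucc ⋖ c i.succ) → ∀ (s s' : S) (hs : s ∈ V) (hs' : s' ∈ V),
      (hV.primeIdealOf ⟨s, hs⟩).asIdeal = (c 0).asIdeal →
      (hV.primeIdealOf ⟨s', hs'⟩).asIdeal = (c (Fin.last n)).asIdeal → δ s = δ s' + n := by
  intro n
  induction n with
  | zero =>
    intro c _ s s' hs hs' h0 hl
    have : s = s' := eq_of_primeIdealOf_eq hV s s' hs hs' (h0.trans hl.symm)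
    subst this
    simp
  | succ n ih =>
    intro c hc s s' hs hs' h0 hl
    haveI := (c (Fin.last n).castSucc).isPrime
    obtain ⟨t, ht, htq⟩ := exists_point_of_prime hV (c (Fin.last n).castSucc).asIdeal
    have h1 := ih (fun i => c i.castSucc) (fun i => hc i.castSucc) s t hs ht h0 htq
    have hcov := hc (Fin.last n)
    have himm := isImmediate_of_covBy hV t s' ht hs' (by
      convert hcov using 1
      · exact PrimeSpectrum.ext htq
      · exact PrimeSpectrum.ext hl)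
    have h2 := (hδ t s' himm.1 himm.2.1).2 himm.2.2
    rw [h1, h2]
    push_cast
    ring

/-- `δ s = δ s' + ht(p_{s'}/p_s)` for a dimension function and `s ⤳ s'` in an affine chart. -/
theorem delta_eq_add_height (δ : S → ℤ) (hδ : Cyc.IsDimFun S δ) {V : S.Opens} (hV : IsAffineOpen V)
    (s s' : S) (hs : s ∈ V) (hs' : s' ∈ V)
    (hle : (hV.primeIdealOf ⟨s, hs⟩).asIdeal ≤ (hV.primeIdealOf ⟨s', hs'⟩).asIdeal) (r : ℕ)
    (hr : ((hV.primeIdealOf ⟨s', hs'⟩).asIdeal.map
      (Ideal.Quotient.mk (hV.primeIdealOf ⟨s, hs⟩).asIdeal)).height = r) :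
    δ s = δ s' + r := by
  set p := (hV.primeIdealOf ⟨s, hs⟩).asIdeal with hp
  set p' := (hV.primeIdealOf ⟨s', hs'⟩).asIdeal with hp'
  haveI : p.IsPrime := (hV.primeIdealOf ⟨s, hs⟩).isPrime
  haveI : p'.IsPrime := (hV.primeIdealOf ⟨s', hs'⟩).isPrime
  have hsurj : Surjective (Ideal.Quotient.mk p) := Ideal.Quotient.mk_surjective
  haveI hP'p := Groth.Agent.Lib.helper3.FTField.map_mk_isPrime p p' hle
  haveI : IsDomain (Γ(S, V) ⧸ p) := Ideal.Quotient.isDomain p
  let x : PrimeSpectrum (Γ(S, V) ⧸ p) := ⟨p'.map (Ideal.Quotient.mk p), hP'p⟩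
  have hx : Order.height x = r := by
    rw [← PrimeSpectrum.height_eq_orderHeight]; exact hr
  obtain ⟨g, hg0, hgl, hgs⟩ :=
    Groth.Agent.Lib.helper26.DimFormula.exists_sat_chain_of_height r x hx
  let e := Groth.Agent.Lib.helper26.AffDomChain.specEmb (Ideal.Quotient.mk p) hsurj
  have hOC := Groth.Agent.Lib.helper26.AffDomChain.ordConnected_range_specEmb
    (Ideal.Quotient.mk p) hsurj
  have hc : ∀ i : Fin r, e (g i.castSucc) ⋖ e (g i.succ) := fun i => (hgs i).image e hOC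
  have hg0' : (g 0).asIdeal = ⊥ := by
    have h1 : (⟨⊥, Ideal.isPrime_bot⟩ : PrimeSpectrum (Γ(S, V) ⧸ p)) ≤ g 0 := by
      change (⊥ : Ideal _) ≤ (g 0).asIdeal
      exact bot_le
    have h2 := hg0 h1
    exact le_antisymm h2 bot_le
  refine delta_chain δ hδ hV r (fun i => e (g i)) hc s s' hs hs' ?_ ?_
  · change p = (g 0).asIdeal.comap (Ideal.Quotient.mk p)
    rw [hg0', ← RingHom.ker_eq_comap_bot, Ideal.mk_ker]
  · change p' = (g (Fin.last r)).asIdeal.comap (Ideal.Quotient.mk p)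
    rw [hgl]
    exact (Groth.Agent.Lib.helper3.FTField.comap_map_mk p p' hle).symm

end Groth.Agent.Lib.helper3.DimIneq
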