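import Mathlib
import Groth.Agent.Lib.Helper3.DimIneq

/-!
# Dimension inequality over a base that is only locally Noetherian at the relevant prime

`height_add_le_loc`: for a finite type algebra `R → R'`, a prime `q` of `R'` with contraction `p`
such that `R_p` is Noetherian: `ht q + trdeg (κ(q)/κ(p)) ≤ ht p + E`, where `E` bounds the
transcendence degrees at the minimal primes below `q`.
-/

set_option autoImplicit false
universe u

namespace Groth.Agent.Lib.helper3.DimIneq

open Function

/-- the quotient of a localization by a prime is algebraic over the quotient of the base by the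
contracted prime. -/
theorem isAlgebraic_quotientMap_of_isLocalization {S T : Type u} [CommRing S] [CommRing T]
    [Algebra S T] (M : Submonoid S) [IsLocalization M T] (Q : Ideal T) [Q.IsPrime]
    (q : Ideal S) (hq : q ≤ Q.comap (algebraMap S T)) :
    @Algebra.IsAlgebraic (S ⧸ q) (T ⧸ Q) _ _
      (Ideal.quotientMap Q (algebraMap S T) hq).toAlgebra := by
  letI := (Ideal.quotientMap Q (algebraMap S T) hq).toAlgebra
  refine ⟨fun y => ?_⟩
  obtain ⟨b, rfl⟩ := Ideal.Quotient.mk_surjective y
  obtain ⟨⟨a, s⟩, h⟩ := IsLocalization.surj M b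
  have hs : algebraMap S T (s : S) ∉ Q := fun hmem =>
    (Ideal.IsPrime.ne_top ‹_›) (Ideal.eq_top_of_isUnit_mem _ hmem (IsLocalization.map_units T s))
  refine ⟨Polynomial.C (Ideal.Quotient.mk q (s : S)) * Polynomial.X -
    Polynomial.C (Ideal.Quotient.mk q a), ?_, ?_⟩
  · intro eq
    have h1 := congrArg (fun p => Polynomial.coeff p 1) eq
    simp only [Polynomial.coeff_sub, Polynomial.coeff_C_mul, Polynomial.coeff_X_one, mul_one,
      Polynomial.coeff_C_succ, sub_zero, Polynomial.coeff_zero] at h1
    have h2 : (Ideal.quotientMap Q (algebraMap S T) hq) (Ideal.Quotient.mk q (s : S)) = 0 := by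
      rw [h1, map_zero]
    rw [Ideal.quotientMap_mk, Ideal.Quotient.eq_zero_iff_mem] at h2
    exact hs h2
  · simp only [map_sub, map_mul, Polynomial.aeval_C, Polynomial.aeval_X,
      RingHom.algebraMap_toAlgebra, Ideal.quotientMap_mk]
    rw [← map_mul, ← map_sub, Ideal.Quotient.eq_zero_iff_mem]
    have : algebraMap S T (s : S) * b - algebraMap S T a = 0 := by
      rw [mul_comm, h]; simp
    rw [this]; exact Q.zero_mem

/-- transcendence degrees of residue extensions are unchanged by localizing the base. -/
theorem trdeg_quotient_localization (R R' : Type u) [CommRing R] [CommRing R'] [Algebra R R']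
    (P : Submonoid R) (A B : Type u) [CommRing A] [CommRing B] [Algebra R A] [Algebra R' B]
    [Algebra A B] [Algebra R B] [IsScalarTower R A B] [IsScalarTower R R' B]
    [IsLocalization P A] [IsLocalization (Algebra.algebraMapSubmonoid R' P) B]
    (Q0 : Ideal B) [Q0.IsPrime] (q0 : Ideal R') [q0.IsPrime] (h : Q0.under R' = q0) :
    Algebra.trdeg (A ⧸ Q0.under A) (B ⧸ Q0) = Algebra.trdeg (R ⧸ q0.under R) (R' ⧸ q0) := by
  subst h
  have hle : (Q0.under R').under R ≤ (Q0.under A).comap (algebraMap R A) := by
    intro a ha
    change algebraMap A B (algebraMap R A a) ∈ Q0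
    have : algebraMap R' B (algebraMap R R' a) ∈ Q0 := ha
    rwa [← IsScalarTower.algebraMap_apply, IsScalarTower.algebraMap_apply R A B] at this
  have hge : (Q0.under A).comap (algebraMap R A) ≤ (Q0.under R').under R := by
    intro a ha
    change algebraMap R' B (algebraMap R R' a) ∈ Q0
    have : algebraMap A B (algebraMap R A a) ∈ Q0 := ha
    rwa [← IsScalarTower.algebraMap_apply, IsScalarTower.algebraMap_apply R R' B] at this
  haveI : (Q0.under A).IsPrime := Ideal.IsPrime.under A Q0
  rw [← td_algebraMap, ← td_algebraMap]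
  symm
  refine td_eq_of_square (algebraMap (R ⧸ (Q0.under R').under R) (R' ⧸ Q0.under R'))
    (Ideal.quotientMap Q0 (algebraMap R' B) le_rfl)
    (Ideal.quotientMap (Q0.under A) (algebraMap R A) hle)
    (algebraMap (A ⧸ Q0.under A) (B ⧸ Q0)) ?_ ?_ ?_ ?_ ?_ ?_ ?_
  · apply Ideal.Quotient.ringHom_ext
    ext a
    change Ideal.Quotient.mk Q0 (algebraMap R' B (algebraMap R R' a)) =
      Ideal.Quotient.mk Q0 (algebraMap A B (algebraMap R A a))
    rw [← IsScalarTower.algebraMap_apply, ← IsScalarTower.algebraMap_apply]
  · exact FaithfulSMul.algebraMap_injective _ _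
  · exact Ideal.quotientMap_injective' le_rfl
  · exact Ideal.quotientMap_injective' hge
  · exact FaithfulSMul.algebraMap_injective _ _
  · exact isAlgebraic_quotientMap_of_isLocalization (Algebra.algebraMapSubmonoid R' P) Q0 _ le_rfl
  · exact isAlgebraic_quotientMap_of_isLocalization P (Q0.under A) _ hle

/-- **Dimension inequality**, only assuming that the base is Noetherian after localizing at the
contracted prime. -/
theorem height_add_le_loc (R R' : Type u) [CommRing R] [CommRing R'] [Algebra R R']
    [Algebra.FiniteType R R'] (q : Ideal R') [q.IsPrime]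
    [IsNoetherianRing (Localization.AtPrime (q.under R))] (n E : ℕ)
    (hn : Algebra.trdeg (R ⧸ q.under R) (R' ⧸ q) = n)
    (hE : ∀ q0 ∈ minimalPrimes R', ∀ [q0.IsPrime], q0 ≤ q →
      Algebra.trdeg (R ⧸ q0.under R) (R' ⧸ q0) ≤ E) :
    q.height + n ≤ (q.under R).height + E := by
  set p := q.under R with hp
  let M := Algebra.algebraMapSubmonoid R' p.primeCompl
  have hdisj : Disjoint (M : Set R') (q : Set R') := by
    rw [Set.disjoint_left]
    rintro _ ⟨r, hr, rfl⟩ hmem
    exact hr hmem
  set Q : Ideal (Localization M) := q.map (algebraMap R' (Localization M)) with hQ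
  haveI hQp : Q.IsPrime := IsLocalization.isPrime_of_isPrime_disjoint M _ q ‹_› hdisj
  have hQc : Q.under R' = q := IsLocalization.under_map_of_isPrime_disjoint M _ ‹_› hdisj
  haveI : Algebra.FiniteType (Localization.AtPrime p) (Localization M) := by
    haveI : IsLocalization (Submonoid.map (algebraMap R R') p.primeCompl) (Localization M) :=
      (Localization.isLocalization : IsLocalization M (Localization M))
    have h := RingHom.finiteType_localizationPreserves (algebraMap R R') p.primeCompl
      (Localization.AtPrime p) (Localization M)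
      (RingHom.finiteType_algebraMap.mpr inferInstance)
    exact RingHom.finiteType_algebraMap.mp h
  have key := height_add_le (Localization.AtPrime p) (Localization M) Q n E ?_ ?_
  · have h1 : Q.height = q.height := IsLocalization.height_map_of_disjoint M q hdisj
    have h2 : (Q.under (Localization.AtPrime p)).height = p.height := by
      rw [← IsLocalization.height_under p.primeCompl (Q.under (Localization.AtPrime p)),
        Ideal.under_under, ← Ideal.under_under (B := R'), hQc]
    rw [h1, h2] at key
    exact key
  · rw [trdeg_quotient_localization R R' p.primeCompl (Localization.AtPrime p) (Localization M)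
      Q q hQc]
    exact hn
  · intro Q0 hQ0 hQ0le
    haveI : Q0.IsPrime := hQ0.1.1
    have hmin : Q0.under R' ∈ minimalPrimes R' := by
      have := IsLocalization.minimalPrimes_map M (Localization M) (⊥ : Ideal R')
      rw [Ideal.map_bot] at this
      have h3 : Q0 ∈ (⊥ : Ideal (Localization M)).minimalPrimes := hQ0
      rw [this] at h3
      exact h3
    haveI : (Q0.under R').IsPrime := Ideal.IsPrime.under R' Q0
    have hle : Q0.under R' ≤ q := by
      rw [← hQc]
      exact Ideal.comap_mono hQ0le
    rw [trdeg_quotient_localization R R' p.primeCompl (Localization.AtPrime p) (Localization M)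
      Q0 (Q0.under R') rfl]
    exact hE _ hmin hle

/-- ring hom version of `height_add_le_loc`. -/
theorem height_add_le_loc' {R R' : Type u} [CommRing R] [CommRing R'] (φ : R →+* R')
    (hφ : φ.FiniteType) (q : Ideal R') [q.IsPrime]
    [IsNoetherianRing (Localization.AtPrime (q.comap φ))] (n E : ℕ)
    (hn : td (Ideal.quotientMap q φ le_rfl) = n)
    (hE : ∀ q0 ∈ minimalPrimes R', q0 ≤ q → td (Ideal.quotientMap q0 φ le_rfl) ≤ E) :
    q.height + n ≤ (q.comap φ).height + E := by
  algebraize [φ]
  exact height_add_le_loc R R' q n E hn (fun q0 h0 _ hle => hE q0 h0 hle)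

/-- quasi-finite at a prime implies algebraic residue extension. -/
theorem trdeg_quotient_eq_zero_of_quasiFiniteAt {R S : Type u} [CommRing R] [CommRing S]
    [Algebra R S] (P : Ideal S) [P.IsPrime] [Algebra.QuasiFiniteAt R P] :
    Algebra.trdeg (R ⧸ P.under R) (S ⧸ P) = 0 := by
  set p := P.under R with hp
  letI := Localization.AtPrime.algebraOfLiesOver p P
  haveI : Module.Finite p.ResidueField P.ResidueField := inferInstance
  haveI : Algebra.IsAlgebraic p.ResidueField P.ResidueField := Algebra.IsAlgebraic.of_finite _ _
  let := ((algebraMap (S ⧸ P) P.ResidueField).comp (algebraMap (R ⧸ p) (S ⧸ P))).toAlgebra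
  have : IsScalarTower (R ⧸ p) (S ⧸ P) P.ResidueField := .of_algebraMap_eq' rfl
  have : IsScalarTower (R ⧸ p) p.ResidueField P.ResidueField := by
    refine .of_algebraMap_eq fun x ↦ ?_
    obtain ⟨x, rfl⟩ := Ideal.Quotient.mk_surjective x
    simp [RingHom.algebraMap_toAlgebra, ← IsScalarTower.algebraMap_apply]
  have : Algebra.IsAlgebraic (R ⧸ p) P.ResidueField := .trans _ p.ResidueField _
  have hinj : Function.Injective (algebraMap (S ⧸ P) P.ResidueField) :=
    Ideal.injective_algebraMap_quotient_residueField P
  haveI : Algebra.IsAlgebraic (R ⧸ p) (S ⧸ P) := by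
    refine ⟨fun x => ?_⟩
    rw [← isAlgebraic_algebraMap_iff hinj]
    exact Algebra.IsAlgebraic.isAlgebraic _
  exact _root_.trdeg_eq_zero

theorem td_quotientMap_eq_zero_of_quasiFiniteAt {R S : Type u} [CommRing R] [CommRing S]
    (φ : R →+* S) (P : Ideal S) [P.IsPrime] (h : φ.QuasiFiniteAt P) :
    td (Ideal.quotientMap P φ le_rfl) = 0 := by
  letI := φ.toAlgebra
  haveI : Algebra.QuasiFiniteAt R P := h
  exact trdeg_quotient_eq_zero_of_quasiFiniteAt P

end Groth.Agent.Lib.helper3.DimIneq
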