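import Mathlib
import Groth.Agent.Lib.Helper3.DimIneqGen
/-!
# Helper library (helper3): transcendence degree drops strictly at a nonzero prime of the generic
fibre.

`td_quotient_lt` : `φ : A → B` injective of finite type between domains, `Q ≠ ⊥` a prime of `B` with
`Q ∩ A = 0`; then `trdeg_A (B/Q) < trdeg_A B`.
-/

set_option autoImplicit false
universe u
open Function

namespace Groth.Agent.Lib.helper3.DimIneq

theorem td_quotient_lt {A B : Type u} [CommRing A] [CommRing B] [IsDomain A] [IsDomain B]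
    (φ : A →+* B) (hinj : Injective φ) (hφ : φ.FiniteType) (Q : Ideal B) [Q.IsPrime] (hQ : Q ≠ ⊥)
    (hQA : Q.comap φ = ⊥) :
    td ((Ideal.Quotient.mk Q).comp φ) < td φ := by
  let M := nonZeroDivisors A
  let K := FractionRing A
  let BK := Localization (M.map φ)
  have hM : M.map φ ≤ nonZeroDivisors B := by
    rintro _ ⟨a, ha, rfl⟩
    exact mem_nonZeroDivisors_of_ne_zero
      ((map_ne_zero_iff _ hinj).mpr (nonZeroDivisors.ne_zero ha))
  haveI : IsDomain BK := IsLocalization.isDomain_localization hM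
  let ψ : K →+* BK := IsLocalization.map BK φ (Submonoid.le_comap_map M)
  have hψft : ψ.FiniteType := RingHom.finiteType_localizationPreserves φ M K BK hφ
  have hsq : (algebraMap B BK).comp φ = ψ.comp (algebraMap A K) := (IsLocalization.map_comp _).symm
  have htd : td φ = td ψ := by
    refine td_eq_of_square φ (algebraMap B BK) (algebraMap A K) ψ hsq hinj
      (IsLocalization.injective BK hM) (IsFractionRing.injective A K) ψ.injective ?_ ?_
    · haveI : Algebra.IsAlgebraic B BK := IsLocalization.isAlgebraic BK (M.map φ)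
      exact isAlgebraic_toAlgebra_algebraMap
    · haveI : Algebra.IsAlgebraic A K := IsLocalization.isAlgebraic K M
      exact isAlgebraic_toAlgebra_algebraMap
  -- the prime `Q` extends to `BK`
  have hdisj : Disjoint ((M.map φ : Submonoid B) : Set B) (Q : Set B) := by
    rw [Set.disjoint_left]
    rintro _ ⟨a, ha, rfl⟩ haQ
    have : a ∈ Q.comap φ := haQ
    rw [hQA, Ideal.mem_bot] at this
    exact nonZeroDivisors.ne_zero ha this
  set QK : Ideal BK := Q.map (algebraMap B BK) with hQK
  haveI hQKp : QK.IsPrime := IsLocalization.isPrime_of_isPrime_disjoint (M.map φ) BK Q inferInstance hdisj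
  have hcomap : QK.comap (algebraMap B BK) = Q :=
    IsLocalization.under_map_of_isPrime_disjoint (M.map φ) BK inferInstance hdisj
  have hQKne : QK ≠ ⊥ := by
    intro h0
    rw [h0, ← RingHom.ker_eq_comap_bot,
      (RingHom.injective_iff_ker_eq_bot _).mp (IsLocalization.injective BK hM)] at hcomap
    exact hQ hcomap.symm
  haveI : IsDomain (BK ⧸ QK) := Ideal.Quotient.isDomain QK
  haveI : IsDomain (B ⧸ Q) := Ideal.Quotient.isDomain Q
  have hβ : ∀ b : B, algebraMap (B ⧸ Q) (BK ⧸ QK) (Ideal.Quotient.mk Q b) =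
      Ideal.Quotient.mk QK (algebraMap B BK b) := fun b => rfl
  -- transcendence degree of the quotient
  have htd2 : td ((Ideal.Quotient.mk Q).comp φ) = td ((Ideal.Quotient.mk QK).comp ψ) := by
    refine td_eq_of_square ((Ideal.Quotient.mk Q).comp φ) (algebraMap (B ⧸ Q) (BK ⧸ QK))
      (algebraMap A K) ((Ideal.Quotient.mk QK).comp ψ) ?_ ?_ ?_ (IsFractionRing.injective A K)
      (RingHom.injective _) ?_ ?_
    · ext a
      have := congrArg (fun f => Ideal.Quotient.mk QK (f a)) hsq
      simp only [RingHom.comp_apply] at this ⊢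
      rw [hβ]
      exact this
    · rw [RingHom.injective_iff_ker_eq_bot, ← RingHom.comap_ker, Ideal.mk_ker]
      exact hQA
    · rw [RingHom.injective_iff_ker_eq_bot, eq_bot_iff]
      intro z hz
      obtain ⟨b, rfl⟩ := Ideal.Quotient.mk_surjective z
      rw [RingHom.mem_ker] at hz
      have h1 : Ideal.Quotient.mk QK (algebraMap B BK b) = 0 := by
        rw [← hβ]; exact hz
      rw [Ideal.Quotient.eq_zero_iff_mem] at h1
      have h2 : b ∈ QK.comap (algebraMap B BK) := h1
      rw [hcomap] at h2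
      rw [Ideal.mem_bot, Ideal.Quotient.eq_zero_iff_mem]
      exact h2
    · haveI : Algebra.IsAlgebraic (B ⧸ Q) (BK ⧸ QK) :=
        IsLocalization.isAlgebraic (BK ⧸ QK) (Algebra.algebraMapSubmonoid (B ⧸ Q) (M.map φ))
      exact isAlgebraic_toAlgebra_algebraMap
    · haveI : Algebra.IsAlgebraic A K := IsLocalization.isAlgebraic K M
      exact isAlgebraic_toAlgebra_algebraMap
  rw [htd, htd2]
  letI := ψ.toAlgebra
  haveI : Algebra.FiniteType K BK := hψft
  have key := Groth.Agent.Lib.helper26.DimFormula.height_add_trdeg_quotient K BK QK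
  obtain ⟨n, hn⟩ := Groth.Agent.Lib.helper26.DimFormula.exists_nat_trdeg K BK
  obtain ⟨n', hn'⟩ := Groth.Agent.Lib.helper26.DimFormula.exists_nat_trdeg K (BK ⧸ QK)
  have h1 : td ψ = n := by rw [← hn, ← td_algebraMap]
  have h2 : td ((Ideal.Quotient.mk QK).comp ψ) = n' := by rw [← hn', ← td_algebraMap]
  rw [h1, h2]
  rw [hn, hn'] at key
  have hpos : 1 ≤ QK.height := by
    rw [Order.one_le_iff_ne_zero, Ne, Ideal.height_eq_zero_iff_eq_bot]
    exact hQKne
  have hfin : QK.height ≠ ⊤ := by
    haveI : IsNoetherianRing BK := Algebra.FiniteType.isNoetherianRing K BK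
    exact Ideal.height_ne_top_of_isPrime
  obtain ⟨h, hh⟩ := ENat.ne_top_iff_exists.mp hfin
  rw [← hh] at key hpos
  have hpos' : 1 ≤ h := by exact_mod_cast hpos
  have key' : h + n' = n := by
    have : ((h + n' : ℕ) : Cardinal.{u}) = (n : Cardinal.{u}) := by
      rw [← key]; simp
    exact_mod_cast this
  have : n' < n := by omega
  exact_mod_cast this

end Groth.Agent.Lib.helper3.DimIneq

namespace Groth.Agent.Lib.helper3.DimIneq

/-- `φ : A → B` of finite type, `q < q'` primes of `B` over the same prime of `A`: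
`trdeg (B/q') < trdeg (B/q)` (over the residue ring of `A`). -/
theorem td_quotientMap_lt {A B : Type u} [CommRing A] [CommRing B] (φ : A →+* B)
    (hφ : φ.FiniteType) (q q' : Ideal B) [q.IsPrime] [q'.IsPrime] (hlt : q < q')
    (hp : q.comap φ = q'.comap φ) :
    td (Ideal.quotientMap q' φ le_rfl) < td (Ideal.quotientMap q φ le_rfl) := by
  haveI : IsDomain (B ⧸ q) := Ideal.Quotient.isDomain q
  haveI : IsDomain (A ⧸ q.comap φ) := Ideal.Quotient.isDomain _
  have hsurj : Surjective (Ideal.Quotient.mk q) := Ideal.Quotient.mk_surjective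
  set φ1 := Ideal.quotientMap q φ le_rfl with hφ1
  have hφ1inj : Injective φ1 := Ideal.quotientMap_injective
  have hφ1ft : φ1.FiniteType := by
    have h1 : (φ1.comp (Ideal.Quotient.mk (q.comap φ))).FiniteType := by
      have : φ1.comp (Ideal.Quotient.mk (q.comap φ)) = (Ideal.Quotient.mk q).comp φ := by
        ext a; rfl
      rw [this]
      exact (RingHom.FiniteType.of_surjective _ Ideal.Quotient.mk_surjective).comp hφ
    exact RingHom.FiniteType.of_comp_finiteType h1
  set Q : Ideal (B ⧸ q) := q'.map (Ideal.Quotient.mk q) with hQdef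
  haveI hQp : Q.IsPrime := by
    apply Ideal.map_isPrime_of_surjective hsurj
    rw [Ideal.mk_ker]; exact hlt.le
  have hQc : Q.comap (Ideal.Quotient.mk q) = q' := by
    rw [hQdef, Ideal.comap_map_of_surjective _ hsurj, ← RingHom.ker_eq_comap_bot, Ideal.mk_ker]
    exact sup_eq_left.mpr hlt.le
  have hQne : Q ≠ ⊥ := by
    intro h0
    rw [h0, ← RingHom.ker_eq_comap_bot, Ideal.mk_ker] at hQc
    exact hlt.ne hQc
  have hQA : Q.comap φ1 = ⊥ := by
    rw [eq_bot_iff]
    intro z hz
    obtain ⟨a, rfl⟩ := Ideal.Quotient.mk_surjective z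
    have h1 : Ideal.Quotient.mk q (φ a) ∈ Q := hz
    have h2 : φ a ∈ Q.comap (Ideal.Quotient.mk q) := h1
    rw [hQc] at h2
    have h3 : a ∈ q'.comap φ := h2
    rw [← hp] at h3
    rw [Ideal.mem_bot, Ideal.Quotient.eq_zero_iff_mem]
    exact h3
  have key := td_quotient_lt φ1 hφ1inj hφ1ft Q hQne hQA
  refine lt_of_eq_of_lt ?_ key
  haveI : IsDomain ((B ⧸ q) ⧸ Q) := Ideal.Quotient.isDomain Q
  haveI : Nontrivial (A ⧸ q'.comap φ) := Ideal.Quotient.nontrivial_iff.mpr (Ideal.IsPrime.ne_top inferInstance)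
  haveI : Nontrivial (B ⧸ q') := Ideal.Quotient.nontrivial_iff.mpr (Ideal.IsPrime.ne_top inferInstance)
  refine td_eq_of_square (Ideal.quotientMap q' φ le_rfl)
    (Ideal.quotientMap Q (Ideal.Quotient.mk q) (le_of_eq hQc.symm))
    (Ideal.quotientMap (q.comap φ) (RingHom.id A) (le_of_eq hp.symm))
    ((Ideal.Quotient.mk Q).comp φ1) ?_ Ideal.quotientMap_injective ?_ ?_ ?_ ?_ ?_
  · ext a; rfl
  · exact Ideal.quotientMap_injective' (le_of_eq hQc)
  · exact Ideal.quotientMap_injective' (le_of_eq hp)
  · rw [RingHom.injective_iff_ker_eq_bot, ← RingHom.comap_ker, Ideal.mk_ker]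
    exact hQA
  · apply isAlgebraic_of_surjective
    exact Ideal.quotientMap_surjective hsurj
  · apply isAlgebraic_of_surjective
    exact Ideal.quotientMap_surjective surjective_id

end Groth.Agent.Lib.helper3.DimIneq
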