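import Mathlib
import Groth.Agent.Lib.Helper3.DimIneqLoc
import Groth.Agent.Lib.Helper3.DimIneqGen
import Groth.Agent.Lib.Helper3.DimIneqStrict
import Groth.Agent.Lib.Helper3.FTFieldRing
/-!
# Helper library (helper3): the fibre ring `κ(p) ⊗ S` and parameters cutting out a point of a fibre
-/

set_option autoImplicit false
universe u
open Function TensorProduct

namespace Groth.Agent.Lib.helper3.FibreParam

open Groth.Agent.Lib.helper3.DimIneq Groth.Agent.Lib.helper3.FTField

variable {R S : Type u} [CommRing R] [CommRing S]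

/-- `td` of a quotient map does not depend on the presentation of the contracted prime. -/
theorem td_quotientMap_congr_ideal (φ : R →+* S) (q' : Ideal S) (p : Ideal R) (hp : q'.comap φ = p) :
    td (Ideal.quotientMap q' φ (le_of_eq hp.symm)) = td (Ideal.quotientMap q' φ le_rfl) := by
  subst hp; rfl

theorem td_quotientMap_congr_hom (φ φ' : R →+* S) (h : φ = φ') (q' : Ideal S) :
    td (Ideal.quotientMap q' φ le_rfl) = td (Ideal.quotientMap q' φ' le_rfl) := by
  subst h; rfl

theorem isAlgebraic_of_forall_exists_mul_eq {A B : Type u} [CommRing A] [CommRing B]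
    (β : A →+* B) (h : ∀ y : B, ∃ a c : A, a ≠ 0 ∧ β a * y = β c) :
    @Algebra.IsAlgebraic A B _ _ β.toAlgebra := by
  letI := β.toAlgebra
  refine ⟨fun y => ?_⟩
  obtain ⟨a, c, ha, hac⟩ := h y
  refine ⟨Polynomial.C a * Polynomial.X - Polynomial.C c, ?_, ?_⟩
  · intro eq
    have h1 := congrArg (fun P => Polynomial.coeff P 1) eq
    simp only [Polynomial.coeff_sub, Polynomial.coeff_C_mul, Polynomial.coeff_X_one, mul_one,
      Polynomial.coeff_C_succ, sub_zero, Polynomial.coeff_zero] at h1
    exact ha h1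
  · simp only [map_sub, map_mul, Polynomial.aeval_C, Polynomial.aeval_X,
      RingHom.algebraMap_toAlgebra]
    rw [hac, sub_self]

variable [Algebra R S] (p : Ideal R) [p.IsPrime]

/-- the contraction to `S` of a prime of the fibre ring. -/
noncomputable abbrev contr (Q : Ideal (p.Fiber S)) : Ideal S :=
  Q.comap (Algebra.TensorProduct.includeRight (R := R) (A := p.ResidueField) (B := S)).toRingHom

theorem contr_comap (Q : Ideal (p.Fiber S)) [Q.IsPrime] :
    (contr p Q).comap (algebraMap R S) = p := by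
  have h1 : Q.comap (algebraMap R (p.Fiber S)) = p := (Ideal.over_def Q p).symm
  refine Eq.trans ?_ h1
  ext a
  simp only [Ideal.mem_comap, contr]
  have : (Algebra.TensorProduct.includeRight (R := R) (A := p.ResidueField) (B := S)).toRingHom
      (algebraMap R S a) = algebraMap R (p.Fiber S) a := by
    simp
  rw [this]

/-- transcendence degree over `κ(p)` of a point of the fibre ring. -/
theorem trdeg_fiber_quotient (Q : Ideal (p.Fiber S)) [Q.IsPrime] :
    Algebra.trdeg p.ResidueField (p.Fiber S ⧸ Q) =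
      td (Ideal.quotientMap (contr p Q) (algebraMap R S) le_rfl) := by
  rw [← td_quotientMap_congr_ideal (algebraMap R S) (contr p Q) p (contr_comap p Q),
    ← td_algebraMap]
  symm
  haveI : IsDomain (p.Fiber S ⧸ Q) := Ideal.Quotient.isDomain Q
  let ι : S →+* p.Fiber S :=
    (Algebra.TensorProduct.includeRight (R := R) (A := p.ResidueField) (B := S)).toRingHom
  have hι : ∀ a : R, ι (algebraMap R S a) = algebraMap R (p.Fiber S) a := fun a => by simp [ι]
  let β : (S ⧸ contr p Q) →+* (p.Fiber S ⧸ Q) := Ideal.quotientMap Q ι le_rfl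
  refine td_eq_of_square
    (Ideal.quotientMap (contr p Q) (algebraMap R S) (le_of_eq (contr_comap p Q).symm))
    β (algebraMap (R ⧸ p) p.ResidueField)
    (algebraMap p.ResidueField (p.Fiber S ⧸ Q)) ?_ ?_ ?_ ?_ ?_ ?_ ?_
  · apply Ideal.Quotient.ringHom_ext
    ext a
    change Ideal.Quotient.mk Q (ι (algebraMap R S a)) =
      Ideal.Quotient.mk Q (algebraMap p.ResidueField (p.Fiber S) (algebraMap R p.ResidueField a))
    rw [hι, ← IsScalarTower.algebraMap_apply]
  · exact Ideal.quotientMap_injective' (le_of_eq (contr_comap p Q))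
  · exact Ideal.quotientMap_injective' le_rfl
  · exact Ideal.injective_algebraMap_quotient_residueField p
  · exact (algebraMap p.ResidueField (p.Fiber S ⧸ Q)).injective
  · -- algebraicity of the fibre ring over `S / q'`
    apply isAlgebraic_of_forall_exists_mul_eq
    intro y
    obtain ⟨x, rfl⟩ := Ideal.Quotient.mk_surjective y
    obtain ⟨r, hr, s, e⟩ := Ideal.Fiber.exists_smul_eq_one_tmul p x
    have hr' : algebraMap R S r ∉ contr p Q := by
      intro hmem
      have : r ∈ (contr p Q).comap (algebraMap R S) := hmem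
      rw [contr_comap] at this
      exact hr this
    refine ⟨Ideal.Quotient.mk (contr p Q) (algebraMap R S r), Ideal.Quotient.mk (contr p Q) s,
      fun h0 => hr' (Ideal.Quotient.eq_zero_iff_mem.mp h0), ?_⟩
    change Ideal.Quotient.mk Q (ι (algebraMap R S r)) * Ideal.Quotient.mk Q x =
      Ideal.Quotient.mk Q (ι s)
    rw [← map_mul, hι, ← Algebra.smul_def, e]
    simp [ι]
  · exact isAlgebraic_toAlgebra_algebraMap

omit [Algebra R S] in
theorem td_quotientMap_congr_prime (φ : R →+* S) (q₁ q₂ : Ideal S) (h : q₁ = q₂) :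
    td (Ideal.quotientMap q₁ φ le_rfl) = td (Ideal.quotientMap q₂ φ le_rfl) := by
  subst h; rfl

/-- **Parameters**: elements of `q` cutting out `q` among its generizations in the fibre, in
number at most `n - trdeg`. -/
theorem exists_parameters [Algebra.FiniteType R S] (q : Ideal S) [q.IsPrime]
    (hq : q.comap (algebraMap R S) = p) (n r : ℕ)
    (hr : td (Ideal.quotientMap q (algebraMap R S) le_rfl) = r)
    (H : ∀ q' : Ideal S, q'.IsPrime → q' ≤ q → q'.comap (algebraMap R S) = p →
      td (Ideal.quotientMap q' (algebraMap R S) le_rfl) ≤ (n : Cardinal.{u})) :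
    ∃ (m : ℕ) (b : Fin m → S), m + r ≤ n ∧ (∀ i, b i ∈ q) ∧
      ∀ q' : Ideal S, q'.IsPrime → q' ≤ q → q'.comap (algebraMap R S) = p →
        (∀ i, b i ∈ q') → q' = q := by
  haveI : Algebra.FiniteType p.ResidueField (p.Fiber S) := inferInstance
  haveI : IsNoetherianRing (p.Fiber S) := Algebra.FiniteType.isNoetherianRing p.ResidueField _
  let P₀ : PrimeSpectrum R := ⟨p, inferInstance⟩
  let e := PrimeSpectrum.preimageOrderIsoFiber R S P₀
  -- points of the fibre
  let pt : ∀ (q' : Ideal S) (_ : q'.IsPrime) (_ : q'.comap (algebraMap R S) = p),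
      ↥(PrimeSpectrum.comap (algebraMap R S) ⁻¹' {P₀}) :=
    fun q' hq'p hq' => ⟨⟨q', hq'p⟩, PrimeSpectrum.ext hq'⟩
  have hcontr : ∀ (q' : Ideal S) (hq'p : q'.IsPrime) (hq' : q'.comap (algebraMap R S) = p),
      contr p (e (pt q' hq'p hq')).asIdeal = q' := by
    intro q' hq'p hq'
    have := congrArg (fun z => z.1.asIdeal) (e.symm_apply_apply (pt q' hq'p hq'))
    exact this
  set Q := (e (pt q inferInstance hq)).asIdeal with hQ
  have hQq : contr p Q = q := hcontr q inferInstance hq
  obtain ⟨T, hTmin, hTcard⟩ := Ideal.exists_finset_card_eq_height_of_isNoetherianRing Q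
  let t : Fin T.card → p.Fiber S := fun i => (T.equivFin.symm i).1
  have htT : ∀ x ∈ T, ∃ i, t i = x := fun x hx => ⟨T.equivFin ⟨x, hx⟩, by simp [t]⟩
  have htmem : ∀ i, t i ∈ Ideal.span (T : Set (p.Fiber S)) := fun i =>
    Ideal.subset_span (T.equivFin.symm i).2
  choose ρ hρ b hb using fun i => Ideal.Fiber.exists_smul_eq_one_tmul p (t i)
  have hunit : ∀ (Q' : Ideal (p.Fiber S)) [Q'.IsPrime] (i : Fin T.card),
      algebraMap R (p.Fiber S) (ρ i) ∉ Q' := by
    intro Q' _ i hmem
    have : ρ i ∈ Q'.comap (algebraMap R (p.Fiber S)) := hmem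
    have h2 : Q'.comap (algebraMap R (p.Fiber S)) = p := (Ideal.over_def Q' p).symm
    rw [h2] at this
    exact hρ i this
  have hincl : ∀ (Q' : Ideal (p.Fiber S)) (i : Fin T.card), b i ∈ contr p Q' ↔
      (1 : p.ResidueField) ⊗ₜ[R] (b i) ∈ Q' := fun Q' i => Iff.rfl
  refine ⟨T.card, b, ?_, ?_, ?_⟩
  · -- the count
    obtain ⟨Q₀, hQ₀min, hQ₀le, hQ₀ht⟩ := exists_minimalPrimes_height_map_eq Q
    haveI : Q₀.IsPrime := hQ₀min.1.1
    have key := height_map_add_trdeg p.ResidueField Q₀ Q hQ₀le
    rw [hQ₀ht, ← hTcard, trdeg_fiber_quotient p Q, trdeg_fiber_quotient p Q₀,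
      td_quotientMap_congr_prime _ _ _ hQq, hr] at key
    have h1 := H (contr p Q₀) (Ideal.IsPrime.comap _)
      (by rw [← hQq]; exact Ideal.comap_mono hQ₀le) (contr_comap p Q₀)
    rw [← key] at h1
    have h2 : ((T.card + r : ℕ) : Cardinal.{u}) ≤ (n : Cardinal.{u}) := by
      refine le_trans (le_of_eq ?_) h1
      push_cast; rfl
    exact_mod_cast h2
  · intro i
    rw [← hQq, hincl, ← hb i, Algebra.smul_def]
    exact Q.mul_mem_left _ (hTmin.1.2 (htmem i))
  · intro q' hq'p hq'le hq' hbq'
    set Q' := (e (pt q' hq'p hq')).asIdeal with hQ'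
    have hQ'q : contr p Q' = q' := hcontr q' hq'p hq'
    have hle : Q' ≤ Q := by
      have : e (pt q' hq'p hq') ≤ e (pt q inferInstance hq) := by
        rw [e.le_iff_le]
        exact hq'le
      exact this
    have hspan : Ideal.span (T : Set (p.Fiber S)) ≤ Q' := by
      rw [Ideal.span_le]
      intro x hx
      obtain ⟨i, rfl⟩ := htT x hx
      have h1 : (1 : p.ResidueField) ⊗ₜ[R] (b i) ∈ Q' := by
        rw [← hincl, hQ'q]; exact hbq' i
      rw [← hb i, Algebra.smul_def] at h1
      exact ((e (pt q' hq'p hq')).isPrime.mem_or_mem h1).resolve_left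
        (hunit Q' i)
    have hge : Q ≤ Q' := hTmin.2 ⟨(e (pt q' hq'p hq')).isPrime, hspan⟩ hle
    have heq : e (pt q' hq'p hq') = e (pt q inferInstance hq) :=
      PrimeSpectrum.ext (le_antisymm hle hge)
    have := e.injective heq
    exact congrArg (fun z => z.1.asIdeal) this

end Groth.Agent.Lib.helper3.FibreParam
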