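import Mathlib
import Groth.Agent.Lib.Helper3.FibreParam
/-!
# Helper library (helper3): making a point isolated in its fibre over an affine space

`exists_isolating_map`: for `R → S` of finite type and a prime `q` all of whose generizations in
the fibre have residue transcendence degree `≤ n`, there are at most `n` elements `s_i` of `S`
such that `q` is isolated in its fibre for `R[T_i] → S`.
-/

set_option autoImplicit false
universe u
open Function

namespace Groth.Agent.Lib.helper3.FibreParam

open Groth.Agent.Lib.helper3.DimIneq Groth.Agent.Lib.helper3.FTField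

/-- additivity of transcendence degree in towers of domains. -/
theorem td_add_of_comp {D B C : Type u} [CommRing D] [CommRing B] [CommRing C] [IsDomain C]
    (α : D →+* B) (β : B →+* C) (hα : Injective α) (hβ : Injective β) :
    td (β.comp α) = td α + td β := by
  letI := α.toAlgebra; letI := β.toAlgebra
  letI : Algebra D C := (β.comp α).toAlgebra
  haveI : IsScalarTower D B C := IsScalarTower.of_algebraMap_eq (fun x => rfl)
  haveI : FaithfulSMul D B := (faithfulSMul_iff_algebraMap_injective D B).mpr hα
  haveI : FaithfulSMul B C := (faithfulSMul_iff_algebraMap_injective B C).mpr hβ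
  haveI : Nontrivial D := ⟨⟨0, 1, fun h => zero_ne_one (α := C) (by
    have := congrArg (β.comp α) h; simpa using this)⟩⟩
  exact (trdeg_add_eq D B (A := C)).symm


variable {R S : Type u} [CommRing R] [CommRing S] [Algebra R S]

/-- **Isolating map**: `R → S` of finite type, `q` a prime of `S` all of whose generizations in its
fibre have residue transcendence degree `≤ n`. Then there are `≤ n` elements `s i` of `S` such that
for `ψ : R[T_i] → S`, `T_i ↦ s_i`, the residue field extension at `q` is algebraic and `q` has no
proper generization in its `ψ`-fibre. -/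
theorem exists_isolating_map [Algebra.FiniteType R S] (q : Ideal S) [q.IsPrime] (n : ℕ)
    (H : ∀ q' : Ideal S, q'.IsPrime → q' ≤ q →
      q'.comap (algebraMap R S) = q.comap (algebraMap R S) →
      td (Ideal.quotientMap q' (algebraMap R S) le_rfl) ≤ (n : Cardinal.{u})) :
    ∃ (σ : Type) (_ : Fintype σ) (s : σ → S), Fintype.card σ ≤ n ∧
      td (Ideal.quotientMap q (MvPolynomial.aeval (R := R) s).toRingHom le_rfl) = 0 ∧
      ∀ q' : Ideal S, q'.IsPrime → q' ≤ q →
        q'.comap (MvPolynomial.aeval (R := R) s).toRingHom =
          q.comap (MvPolynomial.aeval (R := R) s).toRingHom → q' = q := by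
  set p := q.comap (algebraMap R S) with hp
  haveI : p.IsPrime := Ideal.comap_isPrime _ _
  haveI : IsDomain (S ⧸ q) := Ideal.Quotient.isDomain q
  haveI : IsDomain (R ⧸ p) := Ideal.Quotient.isDomain p
  set γ := Ideal.quotientMap q (algebraMap R S) le_rfl with hγ
  have hγinj : Injective γ := Ideal.quotientMap_injective
  have hfin : td γ ≤ n := H q inferInstance le_rfl rfl
  obtain ⟨r, hr⟩ : ∃ r : ℕ, td γ = r :=
    Cardinal.lt_aleph0.mp (lt_of_le_of_lt hfin Cardinal.natCast_lt_aleph0)
  -- an algebraically independent family of size `r` in `S ⧸ q`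
  obtain ⟨a, ha⟩ : ∃ a : Fin r → S, @AlgebraicIndependent _ (R ⧸ p) (S ⧸ q)
      (fun i => Ideal.Quotient.mk q (a i)) _ _ γ.toAlgebra := by
    letI := γ.toAlgebra
    haveI : FaithfulSMul (R ⧸ p) (S ⧸ q) := (faithfulSMul_iff_algebraMap_injective _ _).mpr hγinj
    obtain ⟨ι, x, hx⟩ := exists_isTranscendenceBasis' (R ⧸ p) (S ⧸ q)
    have hcard : Cardinal.mk ι = r := by rw [hx.cardinalMk_eq_trdeg]; exact hr
    obtain ⟨e⟩ := Cardinal.mk_eq_nat_iff.mp hcard
    choose y hy using fun i => Ideal.Quotient.mk_surjective (I := q) (x i)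
    refine ⟨fun i => y (e.symm i), ?_⟩
    have : (fun i => Ideal.Quotient.mk q (y (e.symm i))) = x ∘ e.symm := by
      funext i; simp [hy]
    rw [this]
    exact hx.1.comp _ e.symm.injective
  -- parameters
  obtain ⟨m, b, hmr, hbq, hb⟩ := exists_parameters p q rfl n r hr
    (fun q' hq' hle hc => H q' hq' hle hc)
  refine ⟨Fin r ⊕ Fin m, inferInstance, Sum.elim a b, ?_, ?_, ?_⟩
  · simp only [Fintype.card_sum, Fintype.card_fin]; omega
  · -- algebraicity
    set ψ : MvPolynomial (Fin r ⊕ Fin m) R →+* S :=
      (MvPolynomial.aeval (R := R) (Sum.elim a b)).toRingHom with hψ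
    have hψC : ψ.comp MvPolynomial.C = algebraMap R S := by
      ext x; simp [hψ]
    set P' := q.comap ψ with hP'
    haveI : P'.IsPrime := Ideal.comap_isPrime _ _
    have hle : p ≤ P'.comap MvPolynomial.C := by
      rw [hP', Ideal.comap_comap, hψC]
    set αC := Ideal.quotientMap P' MvPolynomial.C hle with hαC
    set βψ := Ideal.quotientMap q ψ le_rfl with hβψ
    have hcomp : βψ.comp αC = γ := by
      apply Ideal.Quotient.ringHom_ext
      ext x
      have h1 : ψ (MvPolynomial.C x) = algebraMap R S x := RingHom.congr_fun hψC x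
      change Ideal.Quotient.mk q (ψ (MvPolynomial.C x)) = Ideal.Quotient.mk q (algebraMap R S x)
      rw [h1]
    have hαinj : Injective αC := by
      apply Ideal.quotientMap_injective'
      rw [hP', Ideal.comap_comap, hψC]
    have hβinj : Injective βψ := Ideal.quotientMap_injective
    have hadd := td_add_of_comp αC βψ hαinj hβinj
    rw [hcomp, hr] at hadd
    -- `r ≤ td αC`
    have hge : (r : Cardinal.{u}) ≤ td αC := by
      letI := αC.toAlgebra
      letI := γ.toAlgebra
      let βA : (MvPolynomial (Fin r ⊕ Fin m) R ⧸ P') →ₐ[R ⧸ p] (S ⧸ q) :=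
        { βψ with commutes' := fun x => RingHom.congr_fun hcomp x }
      have hind : AlgebraicIndependent (R ⧸ p)
          (fun i : Fin r => Ideal.Quotient.mk P' (MvPolynomial.X (Sum.inl i))) := by
        apply AlgebraicIndependent.of_comp βA
        have : (βA ∘ fun i : Fin r => Ideal.Quotient.mk P' (MvPolynomial.X (Sum.inl i))) =
            fun i => Ideal.Quotient.mk q (a i) := by
          funext i
          change Ideal.Quotient.mk q (ψ (MvPolynomial.X (Sum.inl i))) = _
          simp [hψ]
        rw [this]
        exact ha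
      haveI : Nontrivial (R ⧸ p) := inferInstance
      have := hind.lift_cardinalMk_le_trdeg
      simpa using this
    -- conclude
    have h1 : td βψ + td αC ≤ 0 + td αC := by
      rw [add_comm, ← hadd, zero_add]; exact hge
    have hαlt : td αC < Cardinal.aleph0 := by
      refine lt_of_le_of_lt (b := (r : Cardinal.{u})) ?_ Cardinal.natCast_lt_aleph0
      rw [hadd]; exact le_self_add
    have := (Cardinal.add_le_add_iff_of_lt_aleph0 hαlt).mp h1
    exact le_antisymm this zero_le
  · intro q' hq' hle hc
    set ψ : MvPolynomial (Fin r ⊕ Fin m) R →+* S :=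
      (MvPolynomial.aeval (R := R) (Sum.elim a b)).toRingHom with hψ
    have hψC : ψ.comp MvPolynomial.C = algebraMap R S := by
      ext x; simp [hψ]
    refine hb q' hq' hle ?_ ?_
    · rw [hp, ← hψC, ← Ideal.comap_comap, ← Ideal.comap_comap, hc]
    · intro i
      have h1 : (MvPolynomial.X (Sum.inr i) : MvPolynomial (Fin r ⊕ Fin m) R) ∈ q.comap ψ := by
        rw [Ideal.mem_comap]
        simpa [hψ] using hbq i
      rw [← hc, Ideal.mem_comap] at h1
      simpa [hψ] using h1

end Groth.Agent.Lib.helper3.FibreParam
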