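import Mathlib
import Groth.Agent.Lib.Helper3.FibreIsol
/-!
# Helper library (helper3): Chevalley's semicontinuity of fibre dimension, ring level

* `quasiFiniteAt_of_isolated`: a prime of a finite type algebra without proper generizations or
  specializations in its fibre is a quasi-finite point;
* `exists_notMem_forall_quasiFiniteAt`: the quasi-finite locus is open (from Zariski's main theorem
  in Mathlib);
* `exists_notMem_forall_td_le`: `R → S` of finite type, `q` a prime all of whose generizations in
  the fibre have residue transcendence degree `≤ n`; then there is `r ∉ q` such that all primes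
  of `D(r)` have residue transcendence degree `≤ n`.
-/

set_option autoImplicit false
universe u
open Function

namespace Groth.Agent.Lib.helper3.FibreParam

open Groth.Agent.Lib.helper3.DimIneq Groth.Agent.Lib.helper3.FTField

section QF

variable {A B : Type u} [CommRing A] [CommRing B] [Algebra A B]

theorem isClosed_singleton_of_forall_specializes {T : Type*} [TopologicalSpace T] (x : T)
    (h : ∀ y : T, x ⤳ y → y = x) : IsClosed ({x} : Set T) := by
  apply isClosed_of_closure_subset
  intro y hy
  rw [← specializes_iff_mem_closure] at hy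
  exact h y hy

/-- a prime isolated in its fibre (w.r.t. specialization) is a quasi-finite point. -/
theorem quasiFiniteAt_of_isolated [Algebra.FiniteType A B] (q : Ideal B) [q.IsPrime]
    (hgen : ∀ q' : Ideal B, q'.IsPrime → q' ≤ q →
      q'.comap (algebraMap A B) = q.comap (algebraMap A B) → q' = q)
    (hspec : ∀ q' : Ideal B, q'.IsPrime → q ≤ q' →
      q'.comap (algebraMap A B) = q.comap (algebraMap A B) → q' = q) :
    Algebra.QuasiFiniteAt A q := by
  let Q : PrimeSpectrum B := ⟨q, inferInstance⟩
  refine Algebra.QuasiFiniteAt.of_isOpen_singleton_fiber (R := A) Q ?_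
  let p := Q.comap (algebraMap A B)
  let e := PrimeSpectrum.preimageHomeomorphFiber A B p
  haveI : Algebra.FiniteType p.asIdeal.ResidueField (p.asIdeal.Fiber B) := inferInstance
  haveI : IsNoetherianRing (p.asIdeal.Fiber B) :=
    Algebra.FiniteType.isNoetherianRing p.asIdeal.ResidueField _
  haveI : IsJacobsonRing (p.asIdeal.Fiber B) :=
    isJacobsonRing_of_finiteType (A := p.asIdeal.ResidueField)
  set x : ↥(PrimeSpectrum.comap (algebraMap A B) ⁻¹' {p}) := ⟨Q, rfl⟩ with hx
  -- specialization in the fibre
  have hsp : ∀ y z : ↥(PrimeSpectrum.comap (algebraMap A B) ⁻¹' {p}),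
      e y ⤳ e z ↔ y.1.asIdeal ≤ z.1.asIdeal := by
    intro y z
    rw [e.isInducing.specializes_iff, ← Topology.IsInducing.subtypeVal.specializes_iff,
      ← PrimeSpectrum.le_iff_specializes]
    rfl
  have hfib : ∀ y : ↥(PrimeSpectrum.comap (algebraMap A B) ⁻¹' {p}),
      y.1.asIdeal.comap (algebraMap A B) = q.comap (algebraMap A B) := by
    intro y
    have := y.2
    exact congrArg PrimeSpectrum.asIdeal this
  have heq : ∀ y : ↥(PrimeSpectrum.comap (algebraMap A B) ⁻¹' {p}), y.1.asIdeal = q → y = x := by
    intro y hy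
    apply Subtype.ext
    apply PrimeSpectrum.ext
    exact hy
  rw [← e.isOpen_image, Set.image_singleton]
  have h02 := (PrimeSpectrum.isOpen_singleton_tfae_of_isNoetherian_of_isJacobsonRing (e x)).out 0 2
  rw [h02]
  refine ⟨?_, ?_⟩
  · apply isClosed_singleton_of_forall_specializes
    intro y hy
    obtain ⟨y, rfl⟩ := e.surjective y
    rw [hsp] at hy
    rw [heq y (hspec _ y.1.isPrime hy (hfib y))]
  · intro a b hba ha
    rw [Set.mem_singleton_iff] at ha ⊢
    subst ha
    obtain ⟨b, rfl⟩ := e.surjective b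
    rw [hsp] at hba
    rw [heq b (hgen _ b.1.isPrime hba (hfib b))]

/-- the quasi-finite locus of a finite type algebra is open. -/
theorem exists_notMem_forall_quasiFiniteAt [Algebra.FiniteType A B] (q : Ideal B) [q.IsPrime]
    [Algebra.QuasiFiniteAt A q] :
    ∃ r : B, r ∉ q ∧ ∀ (q' : Ideal B) [q'.IsPrime], r ∉ q' → Algebra.QuasiFiniteAt A q' := by
  obtain ⟨r, hr, H⟩ := Algebra.ZariskisMainProperty.of_finiteType (R := A) q
  exact ⟨r.1, hr, fun q' _ hr' => Algebra.ZariskisMainProperty.quasiFiniteAt q' ⟨r, hr', H⟩⟩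

end QF

/-- ring hom version: isolated with algebraic residue field extension ⇒ algebraic residue field
extensions on a neighbourhood. -/
theorem exists_notMem_forall_td_eq_zero {A B : Type u} [CommRing A] [CommRing B] (ψ : A →+* B)
    (hψ : ψ.FiniteType) (q : Ideal B) [q.IsPrime]
    (htd : td (Ideal.quotientMap q ψ le_rfl) = 0)
    (hgen : ∀ q' : Ideal B, q'.IsPrime → q' ≤ q → q'.comap ψ = q.comap ψ → q' = q) :
    ∃ r : B, r ∉ q ∧ ∀ (q' : Ideal B) [q'.IsPrime], r ∉ q' →
      td (Ideal.quotientMap q' ψ le_rfl) = 0 := by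
  have hspec : ∀ q' : Ideal B, q'.IsPrime → q ≤ q' → q'.comap ψ = q.comap ψ → q' = q := by
    intro q' hq' hle hc
    by_contra hne
    have hlt : q < q' := lt_of_le_of_ne hle (Ne.symm hne)
    have := td_quotientMap_lt ψ hψ q q' hlt hc.symm
    rw [htd] at this
    exact not_lt_zero this
  algebraize [ψ]
  haveI : Algebra.QuasiFiniteAt A q := quasiFiniteAt_of_isolated q hgen hspec
  obtain ⟨r, hr, H⟩ := exists_notMem_forall_quasiFiniteAt (A := A) q
  refine ⟨r, hr, fun q' _ hr' => ?_⟩
  exact td_quotientMap_eq_zero_of_quasiFiniteAt ψ q' (H q' hr')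

/-- additivity of `td` for a composition of ring homs at a prime. -/
theorem td_quotientMap_comp {A P B : Type u} [CommRing A] [CommRing P] [CommRing B]
    (C : A →+* P) (ψ : P →+* B) (q : Ideal B) [q.IsPrime] :
    td (Ideal.quotientMap q (ψ.comp C) le_rfl) =
      td (Ideal.quotientMap (q.comap ψ) C le_rfl) + td (Ideal.quotientMap q ψ le_rfl) := by
  haveI : IsDomain (B ⧸ q) := Ideal.Quotient.isDomain q
  have h := td_add_of_comp (Ideal.quotientMap (q.comap ψ) C le_rfl) (Ideal.quotientMap q ψ le_rfl)
    Ideal.quotientMap_injective Ideal.quotientMap_injective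
  rw [← h]
  congr 1
  apply Ideal.Quotient.ringHom_ext
  ext a
  rfl

/-- bound for the residue transcendence degree from a presentation. -/
theorem td_quotientMap_le_card {A B : Type u} [CommRing A] [CommRing B] [Algebra A B]
    {σ : Type} [Fintype σ] (g : MvPolynomial σ A →ₐ[A] B) (hg : Surjective g)
    (q : Ideal B) [q.IsPrime] :
    td (Ideal.quotientMap q (algebraMap A B) le_rfl) ≤ (Fintype.card σ : Cardinal.{u}) := by
  haveI : IsDomain (A ⧸ q.comap (algebraMap A B)) := Ideal.Quotient.isDomain _
  haveI : IsDomain (B ⧸ q) := Ideal.Quotient.isDomain q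
  letI := (Ideal.quotientMap q (algebraMap A B) le_rfl).toAlgebra
  let g' : MvPolynomial σ (A ⧸ q.comap (algebraMap A B)) →ₐ[A ⧸ q.comap (algebraMap A B)] B ⧸ q :=
    MvPolynomial.aeval (fun i => Ideal.Quotient.mk q (g (MvPolynomial.X i)))
  have hg' : Surjective g' := by
    intro z
    obtain ⟨b, rfl⟩ := Ideal.Quotient.mk_surjective z
    obtain ⟨P, rfl⟩ := hg b
    refine ⟨MvPolynomial.map (Ideal.Quotient.mk (q.comap (algebraMap A B))) P, ?_⟩
    change MvPolynomial.aeval _ (MvPolynomial.map _ P) = _
    rw [MvPolynomial.aeval_def, MvPolynomial.eval₂_map]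
    have h1 : (algebraMap (A ⧸ q.comap (algebraMap A B)) (B ⧸ q)).comp
        (Ideal.Quotient.mk (q.comap (algebraMap A B))) =
        (Ideal.Quotient.mk q).comp (algebraMap A B) := by
      ext a; rfl
    rw [h1]
    have h2 : g P = MvPolynomial.eval₂ (algebraMap A B) (fun i => g (MvPolynomial.X i)) P := by
      conv_lhs => rw [MvPolynomial.aeval_unique g]
      rw [MvPolynomial.aeval_def]
      rfl
    rw [h2, MvPolynomial.eval₂_comp_left]
    rfl
  have h3 := _root_.lift_trdeg_le_of_surjective g' hg'
  rw [MvPolynomial.trdeg_of_isDomain] at h3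
  simp only [Cardinal.lift_id, Cardinal.mk_fintype, Cardinal.lift_natCast] at h3
  rw [← td_algebraMap] at h3
  exact h3

variable {R S : Type u} [CommRing R] [CommRing S] [Algebra R S]

/-- **Chevalley's semicontinuity, ring level.** -/
theorem exists_notMem_forall_td_le [Algebra.FiniteType R S] (q : Ideal S) [q.IsPrime] (n : ℕ)
    (H : ∀ q' : Ideal S, q'.IsPrime → q' ≤ q →
      q'.comap (algebraMap R S) = q.comap (algebraMap R S) →
      td (Ideal.quotientMap q' (algebraMap R S) le_rfl) ≤ (n : Cardinal.{u})) :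
    ∃ r : S, r ∉ q ∧ ∀ (q' : Ideal S) [q'.IsPrime], r ∉ q' →
      td (Ideal.quotientMap q' (algebraMap R S) le_rfl) ≤ (n : Cardinal.{u}) := by
  obtain ⟨σ, _, s, hcard, htd, hgen⟩ := exists_isolating_map q n H
  set ψ : MvPolynomial σ R →+* S := (MvPolynomial.aeval (R := R) s).toRingHom with hψ
  have hψC : ψ.comp MvPolynomial.C = algebraMap R S := by
    ext x; simp [hψ]
  have hft : ψ.FiniteType := by
    have h1 : (ψ.comp MvPolynomial.C).FiniteType := by
      rw [hψC]
      exact RingHom.finiteType_algebraMap.mpr inferInstance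
    exact RingHom.FiniteType.of_comp_finiteType h1
  obtain ⟨r, hr, Hr⟩ := exists_notMem_forall_td_eq_zero ψ hft q htd hgen
  refine ⟨r, hr, fun q' _ hr' => ?_⟩
  rw [td_quotientMap_congr_hom (algebraMap R S) (ψ.comp MvPolynomial.C) hψC.symm q',
    td_quotientMap_comp, Hr q' hr', add_zero]
  have h := td_quotientMap_le_card (A := R) (B := MvPolynomial σ R) (σ := σ)
    (AlgHom.id R _) (fun x => ⟨x, rfl⟩) (q'.comap ψ)
  rw [td_quotientMap_congr_hom (algebraMap R (MvPolynomial σ R)) MvPolynomial.C
    (MvPolynomial.algebraMap_eq R σ)] at h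
  refine h.trans ?_
  exact_mod_cast hcard

end Groth.Agent.Lib.helper3.FibreParam
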