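import Mathlib

/-!
# Chains of points and the dimension of a subspace; constructible sets near a generic point
-/

set_option autoImplicit false
universe u

namespace Groth.Agent.Lib.helper3.ChainDim

open Topology

/-- a chain of points (index up = more special) inside any subset bounds the dimension of the
subspace from below. -/
theorem length_le_dim_of_mem {T : Type u} [TopologicalSpace T]
    (E : Set T) (n : ℕ) (c : Fin (n + 1) → T)
    (hc : ∀ i : Fin n, c i.castSucc ⤳ c i.succ ∧ ¬ (c i.succ ⤳ c i.castSucc))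
    (hp : ∀ i, c i ∈ E) :
    (n : WithBot ℕ∞) ≤ topologicalKrullDim ↥E := by
  unfold topologicalKrullDim
  rw [← Order.krullDim_orderDual]
  let g : Fin (n + 1) → TopologicalSpace.IrreducibleCloseds ↥E := fun i =>
    { carrier := closure {(⟨c i, hp i⟩ : ↥E)}
      isIrreducible' := isIrreducible_singleton.closure
      isClosed' := isClosed_closure }
  let p' : LTSeries (TopologicalSpace.IrreducibleCloseds ↥E)ᵒᵈ :=
    { length := n
      toFun := fun i => OrderDual.toDual (g i)
      step := fun i => by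
        change g i.succ < g i.castSucc
        have h1 : (⟨c i.castSucc, hp _⟩ : ↥E) ⤳ ⟨c i.succ, hp _⟩ :=
          IsInducing.subtypeVal.specializes_iff.1 (hc i).1
        have h2 : ¬ ((⟨c i.succ, hp _⟩ : ↥E) ⤳ ⟨c i.castSucc, hp _⟩) := fun hcon =>
          (hc i).2 (IsInducing.subtypeVal.specializes_iff.2 hcon)
        refine lt_of_le_not_ge ?_ ?_
        · change closure {(⟨c i.succ, hp _⟩ : ↥E)} ⊆ closure {(⟨c i.castSucc, hp _⟩ : ↥E)}
          exact h1.closure_subset
        · intro hle
          apply h2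
          have : closure {(⟨c i.castSucc, hp _⟩ : ↥E)} ⊆ closure {(⟨c i.succ, hp _⟩ : ↥E)} := hle
          rw [specializes_iff_mem_closure]
          exact this (subset_closure rfl) }
  exact Order.LTSeries.length_le_krullDim p'

/-- a constructible set contains, or is disjoint from, a relative neighbourhood of `ξ` in
`closure {ξ}`. -/
theorem exists_open_of_isConstructible {T : Type u} [TopologicalSpace T] (ξ : T) {E : Set T}
    (hE : IsConstructible E) :
    (ξ ∈ E → ∃ W : Set T, IsOpen W ∧ ξ ∈ W ∧ W ∩ closure {ξ} ⊆ E) ∧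
      (ξ ∉ E → ∃ W : Set T, IsOpen W ∧ ξ ∈ W ∧ W ∩ closure {ξ} ⊆ Eᶜ) := by
  induction hE using IsConstructible.empty_union_induction with
  | open_retrocompact U hUo _ =>
    refine ⟨fun h => ⟨U, hUo, h, Set.inter_subset_left⟩, fun h => ⟨Set.univ, isOpen_univ, trivial, ?_⟩⟩
    rintro z ⟨-, hz⟩
    exact closure_minimal (Set.singleton_subset_iff.mpr h) hUo.isClosed_compl hz
  | union s _ t _ ihs iht =>
    constructor
    · rintro (h | h)
      · obtain ⟨W, hW, hξ, hsub⟩ := ihs.1 h
        exact ⟨W, hW, hξ, hsub.trans Set.subset_union_left⟩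
      · obtain ⟨W, hW, hξ, hsub⟩ := iht.1 h
        exact ⟨W, hW, hξ, hsub.trans Set.subset_union_right⟩
    · intro h
      have hs : ξ ∉ s := fun h' => h (Or.inl h')
      have ht : ξ ∉ t := fun h' => h (Or.inr h')
      obtain ⟨W, hW, hξ, hsub⟩ := ihs.2 hs
      obtain ⟨W', hW', hξ', hsub'⟩ := iht.2 ht
      refine ⟨W ∩ W', hW.inter hW', ⟨hξ, hξ'⟩, ?_⟩
      rintro z ⟨⟨hz, hz'⟩, hzc⟩
      rw [Set.compl_union]
      exact ⟨hsub ⟨hz, hzc⟩, hsub' ⟨hz', hzc⟩⟩
  | compl s _ ih =>
    constructor
    · intro h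
      exact ih.2 h
    · intro h
      have hs : ξ ∈ s := by
        by_contra h'
        exact h h'
      obtain ⟨W, hW, hξ, hsub⟩ := ih.1 hs
      exact ⟨W, hW, hξ, by rwa [compl_compl]⟩

end Groth.Agent.Lib.helper3.ChainDim
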