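import Mathlib
import Groth.Agent.Lib.Helper3.FTFieldLocalDim
/-!
# Helper library (helper3): chains of points near a point of a scheme l.f.t. over a field

`exists_chain_in_open`: for `x'` in an open `W` of `X` (l.f.t. over `k`) with
`trdeg_k κ(x') = n` there is a chain of `n+1` points in `W ∩ closure {x'}`.
-/

set_option autoImplicit false
universe u
open CategoryTheory AlgebraicGeometry Function

namespace Groth.Agent.Lib.helper3.FTField

open Groth.Agent.Lib.helper3.DimIneq

variable (k : Type u) [Field k] (X : Scheme.{u}) [X.Over (Spec (CommRingCat.of k))]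
  [LocallyOfFiniteType (X ↘ Spec (CommRingCat.of k))]

theorem exists_chain_in_open (x' : X) (W : Set X) (hW : IsOpen W) (hx' : x' ∈ W) (n : ℕ)
    (hn : @Algebra.trdeg k (X.residueField x') _ _ (Curv2.resAlgebra k X x') = n) :
    ∃ c : Fin (n + 1) → X,
      (∀ i : Fin n, c i.castSucc ⤳ c i.succ ∧ ¬ (c i.succ ⤳ c i.castSucc)) ∧
      ∀ i, c i ∈ W ∩ closure {x'} := by
  obtain ⟨U, hU, hxU, hUW⟩ := exists_isAffineOpen_mem_and_subset (x := x') (U := ⟨W, hW⟩) hx'
  haveI : IsNoetherianRing Γ(X, U) := isNoetherianRing_of_isAffineOpen k X hU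
  set q' := (hU.primeIdealOf ⟨x', hxU⟩).asIdeal with hq'
  obtain ⟨m, hm, hq'm⟩ := Ideal.exists_le_maximal q' (hU.primeIdealOf ⟨x', hxU⟩).isPrime.ne_top
  haveI : m.IsPrime := hm.isPrime
  obtain ⟨u, hu, hum⟩ := exists_point_of_prime hU m
  have hle : q' ≤ (hU.primeIdealOf ⟨u, hu⟩).asIdeal := by rw [hum]; exact hq'm
  have h1 := height_map_add_trdeg_residueField k X hU x' u hxU hu hle
  have h2 := trdeg_residueField_eq_zero_of_isMaximal k X hU u hu (by rw [hum]; exact hm)
  rw [h2, add_zero, hn, hum] at h1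
  have hht : (m.map (Ideal.Quotient.mk q')).height = (n : ℕ∞) := by
    exact_mod_cast h1
  haveI hPp : (m.map (Ideal.Quotient.mk q')).IsPrime := map_mk_isPrime q' m hq'm
  obtain ⟨l, hlast, hlen⟩ := Ideal.exists_ltSeries_length_eq_height (m.map (Ideal.Quotient.mk q'))
  have hl : l.length = n := by
    rw [hht] at hlen
    exact_mod_cast hlen
  -- the primes of `Γ(X, U)`
  let Q : Fin (n + 1) → Ideal Γ(X, U) := fun i =>
    (l (Fin.cast (by rw [hl]) i)).asIdeal.comap (Ideal.Quotient.mk q')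
  haveI hQp : ∀ i, (Q i).IsPrime := fun i => Ideal.IsPrime.comap _
  have hQlt : ∀ i : Fin n, Q i.castSucc < Q i.succ := by
    intro i
    have hlt : l (Fin.cast (by rw [hl]) i.castSucc) < l (Fin.cast (by rw [hl]) i.succ) := by
      apply l.strictMono
      rw [Fin.lt_def]
      simp
    refine lt_of_le_of_ne (Ideal.comap_mono hlt.le) ?_
    intro heq
    have := Ideal.comap_injective_of_surjective _ Ideal.Quotient.mk_surjective heq
    exact hlt.ne (PrimeSpectrum.ext this)
  have hQge : ∀ i, q' ≤ Q i := by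
    intro i a ha
    change Ideal.Quotient.mk q' a ∈ (l (Fin.cast (by rw [hl]) i)).asIdeal
    rw [Ideal.Quotient.eq_zero_iff_mem.mpr ha]
    exact Ideal.zero_mem _
  choose c hcU hcQ using fun i => exists_point_of_prime hU (Q i)
  refine ⟨c, fun i => ⟨?_, ?_⟩, fun i => ⟨hUW (hcU i), ?_⟩⟩
  · rw [specializes_iff_primeIdealOf_le hU _ _ (hcU _) (hcU _), hcQ, hcQ]
    exact (hQlt i).le
  · rw [specializes_iff_primeIdealOf_le hU _ _ (hcU _) (hcU _), hcQ, hcQ]
    exact not_le_of_gt (hQlt i)
  · rw [← specializes_iff_mem_closure, specializes_iff_primeIdealOf_le hU _ _ hxU (hcU _), hcQ]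
    exact hQge i

end Groth.Agent.Lib.helper3.FTField
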