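import Mathlib
import Groth.Agent.Lib.Helper3.FTFieldChain
import Groth.Agent.Lib.Helper3.ChainDim
import Groth.Agent.Lib.Helper11.SpecDim
/-!
# Helper library (helper3): dimension of the closure of a point (l.f.t. over a field), Krull PIT
step, and zero loci of sections at generic points.

* `length_le_dim` : chain of points in a space bounds its dimension;
* `dim_closure_eq_trdeg` : `dim closure {ξ} = trdeg_k κ(ξ)`;
* `exists_prime_height_map_eq_one` : Krull's principal ideal theorem, relative to a prime `q0`;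
* `interior_zeroLocus_nonempty_of_minimal` : a section vanishing at a generic point vanishes on a
  nonempty open.
-/

set_option autoImplicit false
universe u
open CategoryTheory AlgebraicGeometry Function

namespace Groth.Agent.Lib.helper3.FTField

open Groth.Agent.Lib.helper3.DimIneq Groth.Agent.Lib.helper3.ChainDim

theorem length_le_dim {T : Type u} [TopologicalSpace T] (n : ℕ) (c : Fin (n + 1) → T)
    (hc : ∀ i : Fin n, c i.castSucc ⤳ c i.succ ∧ ¬ (c i.succ ⤳ c i.castSucc)) :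
    (n : WithBot ℕ∞) ≤ topologicalKrullDim T := by
  have h1 := length_le_dim_of_mem (Set.univ : Set T) n c hc (fun _ => trivial)
  exact h1.trans (topologicalKrullDim_subspace_le T Set.univ)

/-- Krull's principal ideal theorem relative to a prime `q0`. -/
theorem exists_prime_height_map_eq_one {R : Type u} [CommRing R] [IsNoetherianRing R]
    (q0 q : Ideal R) [q0.IsPrime] [q.IsPrime] (h : q0 ≤ q) (a : R) (haq : a ∈ q) (ha0 : a ∉ q0) :
    ∃ q1 : Ideal R, q1.IsPrime ∧ q0 ≤ q1 ∧ q1 ≤ q ∧ a ∈ q1 ∧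
      (q1.map (Ideal.Quotient.mk q0)).height = 1 := by
  haveI : IsDomain (R ⧸ q0) := Ideal.Quotient.isDomain q0
  set a' := Ideal.Quotient.mk q0 a with ha'
  have hle : Ideal.span {a'} ≤ q.map (Ideal.Quotient.mk q0) := by
    rw [Ideal.span_singleton_le_iff_mem]
    exact Ideal.mem_map_of_mem _ haq
  haveI : (q.map (Ideal.Quotient.mk q0)).IsPrime := map_mk_isPrime q0 q h
  obtain ⟨P, hP, hPle⟩ := Ideal.exists_minimalPrimes_le hle
  haveI : P.IsPrime := hP.1.1
  have haP : a' ∈ P := hP.1.2 (Ideal.mem_span_singleton_self a')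
  have h1 : P.height ≤ 1 :=
    Ideal.height_le_one_of_isPrincipal_of_mem_minimalPrimes (Ideal.span {a'}) P hP
  have h2 : P.height ≠ 0 := by
    rw [Ne, Ideal.height_eq_zero_iff_eq_bot]
    intro hbot
    rw [hbot, Ideal.mem_bot, ha', Ideal.Quotient.eq_zero_iff_mem] at haP
    exact ha0 haP
  refine ⟨P.comap (Ideal.Quotient.mk q0), Ideal.IsPrime.comap _, ?_, ?_, ?_, ?_⟩
  · intro x hx
    change Ideal.Quotient.mk q0 x ∈ P
    rw [Ideal.Quotient.eq_zero_iff_mem.mpr hx]
    exact P.zero_mem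
  · have := Ideal.comap_mono (f := Ideal.Quotient.mk q0) hPle
    rwa [comap_map_mk q0 q h] at this
  · exact haP
  · rw [Ideal.map_comap_of_surjective _ Ideal.Quotient.mk_surjective]
    exact le_antisymm h1 (Order.one_le_iff_ne_zero.mpr h2)

/-- membership in the zero locus of a global section, in an affine chart. -/
theorem mem_zeroLocus_iff_mem_primeIdealOf {X : Scheme.{u}} (f : Γ(X, ⊤)) {U : X.Opens}
    (hU : IsAffineOpen U) (z : X) (hz : z ∈ U) :
    z ∈ X.zeroLocus (U := ⊤) {f} ↔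
      X.presheaf.map (homOfLE (le_top : U ≤ ⊤)).op f ∈ (hU.primeIdealOf ⟨z, hz⟩).asIdeal := by
  have hres : X.basicOpen (X.presheaf.map (homOfLE (le_top : U ≤ ⊤)).op f) = U ⊓ X.basicOpen f :=
    Scheme.basicOpen_res X f _
  rw [Scheme.zeroLocus_singleton, Set.mem_compl_iff, ← not_iff_not, not_not,
    ← mem_basicOpen_iff hU z hz _, hres]
  exact ⟨fun h => ⟨hz, h⟩, fun h => h.2⟩

/-- a chain of points realizing `m ≤ dim Y` for a closed subset `Y`. -/
theorem exists_chain_of_le_dim {T : Type u} [TopologicalSpace T] [QuasiSober T] [T0Space T]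
    (Y : Set T) (hY : IsClosed Y) (m : ℕ) (h : (m : WithBot ℕ∞) ≤ topologicalKrullDim ↥Y) :
    ∃ c : Fin (m + 1) → T,
      (∀ i : Fin m, c i.castSucc ⤳ c i.succ ∧ ¬ (c i.succ ⤳ c i.castSucc)) ∧ ∀ i, c i ∈ Y := by
  haveI : QuasiSober ↥Y := hY.isClosedEmbedding_subtypeVal.quasiSober
  rw [Groth.Agent.Lib.helper11.SpecDim.topologicalKrullDim_eq_krullDim] at h
  letI := specializationPreorder ↥Y
  obtain ⟨p, rfl⟩ := Order.le_krullDim_iff.mp h
  refine ⟨fun i => (p (Fin.rev i)).1, fun i => ?_, fun i => (p (Fin.rev i)).2⟩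
  have hstep := p.step (Fin.rev i)
  change (p (Fin.rev i.castSucc)).1 ⤳ (p (Fin.rev i.succ)).1 ∧
    ¬ ((p (Fin.rev i.succ)).1 ⤳ (p (Fin.rev i.castSucc)).1)
  rw [Fin.rev_castSucc, Fin.rev_succ]
  obtain ⟨h1, h2⟩ : (p (Fin.rev i).succ ⤳ p (Fin.rev i).castSucc) ∧
    ¬ (p (Fin.rev i).castSucc ⤳ p (Fin.rev i).succ) := hstep
  exact ⟨Topology.IsInducing.subtypeVal.specializes_iff.2 h1,
    fun hcon => h2 (Topology.IsInducing.subtypeVal.specializes_iff.1 hcon)⟩

theorem add_one_le_of_forall (a D : WithBot ℕ∞)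
    (h : ∀ m : ℕ, (m : WithBot ℕ∞) ≤ a → ((m + 1 : ℕ) : WithBot ℕ∞) ≤ D) : a + 1 ≤ D := by
  induction a using WithBot.recBotCoe with
  | bot => simp
  | coe a =>
    induction a using ENat.recTopCoe with
    | top =>
      have hD : ∀ m : ℕ, ((m + 1 : ℕ) : WithBot ℕ∞) ≤ D := fun m =>
        h m (WithBot.coe_le_coe.mpr le_top)
      have hne : D ≠ ⊥ := by
        intro hbot
        have := hD 0
        rw [hbot] at this
        simp at this
      obtain ⟨D', rfl⟩ := WithBot.ne_bot_iff_exists.mp hne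
      have : D' = ⊤ := by
        rw [ENat.eq_top_iff_forall_ge]
        intro m
        have := hD m
        have h2 : ((m + 1 : ℕ) : ℕ∞) ≤ D' := by exact_mod_cast this
        exact le_trans (by exact_mod_cast Nat.le_succ m) h2
      rw [this]
      exact le_top
    | coe n =>
      have := h n le_rfl
      exact_mod_cast this

/-- if a global section vanishes at a point which is generic in an affine chart, its zero locus
has nonempty interior. -/
theorem interior_zeroLocus_nonempty_of_minimal {X : Scheme.{u}} (f : Γ(X, ⊤)) {U : X.Opens}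
    (hU : IsAffineOpen U) (y : X) (hy : y ∈ U) (hyf : y ∈ X.zeroLocus (U := ⊤) {f})
    (hmin : (hU.primeIdealOf ⟨y, hy⟩).asIdeal ∈ minimalPrimes Γ(X, U)) :
    (interior (X.zeroLocus (U := ⊤) {f})).Nonempty := by
  set a : Γ(X, U) := X.presheaf.map (homOfLE (le_top : U ≤ ⊤)).op f with ha
  have hres : X.basicOpen a = U ⊓ X.basicOpen f := Scheme.basicOpen_res X f _
  have hmem : ∀ z (hz : z ∈ U), z ∈ X.zeroLocus (U := ⊤) {f} ↔
      a ∈ (hU.primeIdealOf ⟨z, hz⟩).asIdeal := by
    intro z hz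
    rw [Scheme.zeroLocus_singleton, Set.mem_compl_iff, ← not_iff_not, not_not,
      ← mem_basicOpen_iff hU z hz a, hres]
    exact ⟨fun h => ⟨hz, h⟩, fun h => h.2⟩
  have hay : a ∈ (hU.primeIdealOf ⟨y, hy⟩).asIdeal := (hmem y hy).mp hyf
  have h1 : a ∈ ⋃ p ∈ (⊥ : Ideal Γ(X, U)).minimalPrimes, (p : Set Γ(X, U)) :=
    Set.mem_biUnion hmin hay
  rw [Ideal.iUnion_minimalPrimes] at h1
  obtain ⟨g, hg, hag⟩ := h1
  -- a prime not containing `g`
  have hg' : g ∉ sInf {J : Ideal Γ(X, U) | (⊥ : Ideal Γ(X, U)) ≤ J ∧ J.IsPrime} := by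
    rwa [← Ideal.radical_eq_sInf]
  rw [Ideal.mem_sInf] at hg'
  push Not at hg'
  obtain ⟨P, ⟨-, hPp⟩, hgP⟩ := hg'
  haveI := hPp
  obtain ⟨z, hz, hzP⟩ := exists_point_of_prime hU P
  have hsub : (X.basicOpen g : Set X) ⊆ X.zeroLocus (U := ⊤) {f} := by
    intro w hw
    have hwU : w ∈ U := X.basicOpen_le g hw
    rw [hmem w hwU]
    have hgw : g ∉ (hU.primeIdealOf ⟨w, hwU⟩).asIdeal := (mem_basicOpen_iff hU w hwU g).mp hw
    have : a * g ∈ (hU.primeIdealOf ⟨w, hwU⟩).asIdeal := by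
      have hrad : (⊥ : Ideal Γ(X, U)).radical ≤ (hU.primeIdealOf ⟨w, hwU⟩).asIdeal :=
        (hU.primeIdealOf ⟨w, hwU⟩).isPrime.radical_le_iff.mpr bot_le
      exact hrad hag
    exact ((hU.primeIdealOf ⟨w, hwU⟩).isPrime.mem_or_mem this).resolve_right hgw
  refine ⟨z, ?_⟩
  rw [mem_interior]
  refine ⟨X.basicOpen g, hsub, (X.basicOpen g).isOpen, ?_⟩
  rw [SetLike.mem_coe, mem_basicOpen_iff hU z hz g, hzP]
  exact hgP

section closure

variable (k : Type u) [Field k] (X : Scheme.{u}) [X.Over (Spec (CommRingCat.of k))]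
  [LocallyOfFiniteType (X ↘ Spec (CommRingCat.of k))]

/-- a chain of points in `closure {ξ}` has length at most `trdeg_k κ(ξ)`. -/
theorem length_le_trdeg_of_mem_closure (ξ : X) (n : ℕ)
    (hn : @Algebra.trdeg k (X.residueField ξ) _ _ (Curv2.resAlgebra k X ξ) = n)
    (m : ℕ) (c : Fin (m + 1) → X)
    (hc : ∀ i : Fin m, c i.castSucc ⤳ c i.succ ∧ ¬ (c i.succ ⤳ c i.castSucc))
    (hξ : ξ ⤳ c 0) : m ≤ n := by
  obtain ⟨U, hU, hlastU, -⟩ :=
    exists_isAffineOpen_mem_and_subset (x := c (Fin.last m)) (U := ⊤) trivial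
  haveI : IsNoetherianRing Γ(X, U) := isNoetherianRing_of_isAffineOpen k X hU
  have hmono : ∀ i j : Fin (m + 1), i ≤ j → c i ⤳ c j := by
    intro i j hij
    induction j using Fin.induction with
    | zero =>
      have : i = 0 := Fin.le_zero_iff.mp hij
      rw [this]
    | succ j ih =>
      rcases eq_or_lt_of_le hij with h | h
      · rw [h]
      · have hij' : i ≤ j.castSucc := Fin.le_castSucc_iff.mpr h
        exact (ih hij').trans (hc j).1
  have hcU : ∀ i, c i ∈ U := fun i =>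
    (hmono i (Fin.last m) (Fin.le_last i)).mem_open U.isOpen hlastU
  have hξU : ξ ∈ U := hξ.mem_open U.isOpen (hcU 0)
  let l : LTSeries (PrimeSpectrum Γ(X, U)) :=
    { length := m
      toFun := fun i => hU.primeIdealOf ⟨c i, hcU i⟩
      step := fun i => by
        change hU.primeIdealOf ⟨c i.castSucc, hcU _⟩ < hU.primeIdealOf ⟨c i.succ, hcU _⟩
        have h1 := (specializes_iff_primeIdealOf_le hU _ _ (hcU i.castSucc) (hcU i.succ)).mp (hc i).1
        have h2 : ¬ ((hU.primeIdealOf ⟨c i.succ, hcU _⟩).asIdeal ≤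
            (hU.primeIdealOf ⟨c i.castSucc, hcU _⟩).asIdeal) := fun hle =>
          (hc i).2 ((specializes_iff_primeIdealOf_le hU _ _ (hcU i.succ) (hcU i.castSucc)).mpr hle)
        exact lt_of_le_not_ge h1 h2 }
  set q0 := (hU.primeIdealOf ⟨ξ, hξU⟩).asIdeal with hq0
  have hq0le : q0 ≤ (hU.primeIdealOf ⟨c 0, hcU 0⟩).asIdeal :=
    (specializes_iff_primeIdealOf_le hU _ _ hξU (hcU 0)).mp hξ
  have hq0last : q0 ≤ (hU.primeIdealOf ⟨c (Fin.last m), hcU _⟩).asIdeal :=
    (specializes_iff_primeIdealOf_le hU _ _ hξU (hcU _)).mp (hξ.trans (hmono 0 _ (Fin.zero_le _)))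
  have h1 := length_le_height_map (Ideal.Quotient.mk q0) Ideal.Quotient.mk_surjective l
    (by rw [Ideal.mk_ker]; exact hq0le)
    (map_mk_isPrime q0 _ hq0last)
  have h2 := height_map_add_trdeg_residueField k X hU ξ (c (Fin.last m)) hξU (hcU _) hq0last
  rw [hn] at h2
  have h3 : ((((hU.primeIdealOf ⟨c (Fin.last m), hcU _⟩).asIdeal.map
      (Ideal.Quotient.mk q0)).height : ℕ∞) : Cardinal.{u}) ≤ (n : Cardinal.{u}) := by
    rw [← h2]; exact le_self_add
  have h4 : ((hU.primeIdealOf ⟨c (Fin.last m), hcU _⟩).asIdeal.map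
      (Ideal.Quotient.mk q0)).height ≤ (n : ℕ∞) := by exact_mod_cast h3
  have h5 : (m : ℕ∞) ≤ (n : ℕ∞) := h1.trans h4
  exact_mod_cast h5

/-- `dim closure {ξ} = trdeg_k κ(ξ)`. -/
theorem dim_closure_eq_trdeg (ξ : X) (n : ℕ)
    (hn : @Algebra.trdeg k (X.residueField ξ) _ _ (Curv2.resAlgebra k X ξ) = n) :
    topologicalKrullDim ↥(closure ({ξ} : Set X)) = (n : WithBot ℕ∞) := by
  apply le_antisymm
  · haveI : QuasiSober ↥(closure ({ξ} : Set X)) :=
      isClosed_closure.isClosedEmbedding_subtypeVal.quasiSober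
    rw [Groth.Agent.Lib.helper11.SpecDim.topologicalKrullDim_eq_krullDim]
    letI := specializationPreorder ↥(closure ({ξ} : Set X))
    unfold Order.krullDim
    refine iSup_le fun p => ?_
    have key := length_le_trdeg_of_mem_closure k X ξ n hn p.length
      (fun i => (p (Fin.rev i)).1) ?_ ?_
    · exact_mod_cast key
    · intro i
      have hstep := p.step (Fin.rev i)
      rw [Fin.rev_castSucc, Fin.rev_succ]
      obtain ⟨h1, h2⟩ : (p (Fin.rev i).succ ⤳ p (Fin.rev i).castSucc) ∧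
        ¬ (p (Fin.rev i).castSucc ⤳ p (Fin.rev i).succ) := hstep
      exact ⟨Topology.IsInducing.subtypeVal.specializes_iff.2 h1,
        fun hcon => h2 (Topology.IsInducing.subtypeVal.specializes_iff.1 hcon)⟩
    · rw [specializes_iff_mem_closure]
      exact (p (Fin.rev 0)).2
  · obtain ⟨c, hc, hcm⟩ := exists_chain_in_open k X ξ Set.univ isOpen_univ trivial n hn
    exact length_le_dim_of_mem (closure {ξ}) n c hc (fun i => (hcm i).2)

end closure

end Groth.Agent.Lib.helper3.FTField
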