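import Mathlib
import Groth.Agent.Lib.Helper3.FibreDimNat
import Groth.Agent.Lib.Helper3.FTFieldClosureDim
import Groth.Agent.Lib.Helper3.FTFieldLocalDim
import Groth.Prelude.Def_Cyc
/-!
# Helper library (helper3): relative dimension `d` means all local fibre dimensions are `d`

* `localDim_eq_of_forall_irreducibleComponents` / `dim_eq_of_forall_localDim` : for `F` locally of
  finite type over a field, all irreducible components have dimension `d` iff all local dimensions
  are `d`;
* `hasRelDim_iff` : `Cyc.HasRelDim f d ↔ ∀ x, fibreDimAt f x = d` for `f` locally of finite type.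
-/

set_option autoImplicit false
universe u
open CategoryTheory AlgebraicGeometry Function

namespace Groth.Agent.Lib.helper3.RelDim

open Groth.Agent.Lib.helper3.DimIneq Groth.Agent.Lib.helper3.FTField
  Groth.Agent.Lib.helper3.FibreField Groth.Agent.Lib.helper3.QFinTop
  Groth.Agent.Lib.helper3.DimFibre

section field

theorem localDim_eq_of_forall_irreducibleComponents (k : Type u) [Field k] (F : Scheme.{u})
    [F.Over (Spec (CommRingCat.of k))] [LocallyOfFiniteType (F ↘ Spec (CommRingCat.of k))] (d : ℕ)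
    (h : ∀ T ∈ irreducibleComponents (F : Type u), topologicalKrullDim ↥T = (d : WithBot ℕ∞))
    (z : F) : FlatMor.localDim F z = (d : WithBot ℕ∞) := by
  obtain ⟨W, hW, hzW, -⟩ := exists_isAffineOpen_mem_and_subset (x := z) (U := ⊤) trivial
  haveI := isNoetherianRing_of_isAffineOpen k F hW
  obtain ⟨a, ha⟩ := exists_nat_trdeg_residueField k F z
  have hbne : (hW.primeIdealOf ⟨z, hzW⟩).asIdeal.height ≠ ⊤ := Ideal.height_ne_top_of_isPrime
  obtain ⟨b, hb⟩ := ENat.ne_top_iff_exists.mp hbne
  have hb' : ringKrullDim (F.presheaf.stalk z) = (b : WithBot ℕ∞) := by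
    rw [ringKrullDim_stalk_eq_height hW z hzW, ← hb]; rfl
  rw [localDim_eq k F z a b ha hb']
  obtain ⟨q0, hq0min, hq0le, hht⟩ :=
    exists_minimalPrimes_height_map_eq (hW.primeIdealOf ⟨z, hzW⟩).asIdeal
  haveI := hq0min.1.1
  obtain ⟨ζ, hζW, hζq⟩ := exists_point_of_prime hW q0
  subst hζq
  have key := height_map_add_trdeg_residueField k F hW ζ z hζW hzW hq0le
  rw [hht, ← hb, ha] at key
  obtain ⟨n, hn⟩ := exists_nat_trdeg_residueField k F ζ
  have hdim := dim_closure_eq_trdeg k F ζ n hn
  rw [h _ (closure_mem_irreducibleComponents hW ζ hζW hq0min)] at hdim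
  have hnd : d = n := by exact_mod_cast hdim
  rw [hn, ← hnd] at key
  have h2 : ((b + a : ℕ) : Cardinal.{u}) = (d : Cardinal.{u}) := by
    rw [← key]; push_cast; rfl
  have h3 : b + a = d := by exact_mod_cast h2
  have h4 : a + b = d := by omega
  rw [h4]

theorem dim_eq_of_forall_localDim (k : Type u) [Field k] (F : Scheme.{u})
    [F.Over (Spec (CommRingCat.of k))] [LocallyOfFiniteType (F ↘ Spec (CommRingCat.of k))] (d : ℕ)
    (h : ∀ z : F, FlatMor.localDim F z = (d : WithBot ℕ∞))
    (T : Set F) (hT : T ∈ irreducibleComponents (F : Type u)) :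
    topologicalKrullDim ↥T = (d : WithBot ℕ∞) := by
  obtain ⟨ζ, hζ⟩ := QuasiSober.sober hT.1 (isClosed_of_mem_irreducibleComponents T hT)
  have hT' : T = closure {ζ} := hζ.def.symm
  subst hT'
  obtain ⟨n, hn⟩ := exists_nat_trdeg_residueField k F ζ
  rw [dim_closure_eq_trdeg k F ζ n hn]
  obtain ⟨W, hW, hζW, -⟩ := exists_isAffineOpen_mem_and_subset (x := ζ) (U := ⊤) trivial
  have hmin := mem_minimalPrimes_of_closure_mem_irreducibleComponents F hW ζ hζW hT
  have hb' : ringKrullDim (F.presheaf.stalk ζ) = ((0 : ℕ) : WithBot ℕ∞) := by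
    rw [ringKrullDim_stalk_eq_height hW ζ hζW, Ideal.height_eq_zero_iff.mpr hmin]; rfl
  have h1 := localDim_eq k F ζ n 0 hn hb'
  rw [h ζ] at h1
  have : d = n := by exact_mod_cast h1
  rw [this]

end field

variable {X Y : Scheme.{u}} (f : X ⟶ Y)

theorem localDim_fiber_eq (s : Y) (x : X) (hx : f x = s)
    (z : f.fiber s) (hz : f.fiberι s z = x) :
    FlatMor.localDim (f.fiber s) z = FlatMor.fibreDimAt f x := by
  subst hx
  have : z = f.asFiber x := fiberι_injective f (f x) (hz.trans (f.fiberι_asFiber x).symm)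
  subst this
  rfl

theorem fibreDimAt_eq_of_hasRelDim [LocallyOfFiniteType f] (d : ℕ) (hd : Cyc.HasRelDim f d)
    (x : X) : FlatMor.fibreDimAt f x = (d : WithBot ℕ∞) := by
  letI := fiberOver f (f x)
  haveI : LocallyOfFiniteType ((f.fiber (f x)) ↘ Spec (CommRingCat.of (Y.residueField (f x)))) :=
    locallyOfFiniteType_fiber f (f x)
  exact localDim_eq_of_forall_irreducibleComponents (Y.residueField (f x)) (f.fiber (f x)) d
    (hd (f x)) (f.asFiber x)

theorem hasRelDim_of_forall_fibreDimAt [LocallyOfFiniteType f] (d : ℕ)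
    (h : ∀ x : X, FlatMor.fibreDimAt f x = (d : WithBot ℕ∞)) : Cyc.HasRelDim f d := by
  intro y T hT
  letI := fiberOver f y
  haveI : LocallyOfFiniteType ((f.fiber y) ↘ Spec (CommRingCat.of (Y.residueField y))) :=
    locallyOfFiniteType_fiber f y
  refine dim_eq_of_forall_localDim (Y.residueField y) (f.fiber y) d (fun z => ?_) T hT
  rw [localDim_fiber_eq f y (f.fiberι y z) (fiberι_mem f y z) z rfl]
  exact h _

theorem hasRelDim_iff [LocallyOfFiniteType f] (d : ℕ) :
    Cyc.HasRelDim f d ↔ ∀ x : X, FlatMor.fibreDimAt f x = (d : WithBot ℕ∞) :=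
  ⟨fibreDimAt_eq_of_hasRelDim f d, hasRelDim_of_forall_fibreDimAt f d⟩

end Groth.Agent.Lib.helper3.RelDim
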