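import Mathlib
import Groth.Prelude.Def_Found
import Groth.Agent.Lib.Helper3.RelDim
import Groth.Agent.Lib.Helper3.FTFieldClosureDim
import Groth.Agent.Lib.Helper3.FTFieldLocalDim
import Groth.Agent.Lib.Helper3.FTFieldDim
import Groth.Agent.Lib.Helper3.FibreIsol
import Groth.Agent.Lib.Helper3.DimIneqSch
/-!
# Helper library (helper3): dimension of schemes locally of finite type over a field, pointwise.

* `exists_nat_stalk_dim` : local rings of a locally Noetherian scheme have finite dimension;
* `dim_univ_eq` : `dim ↥(univ : Set T) = dim T`;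
* `exists_dim_eq_localDim_of_irreducible` : for `X` irreducible l.f.t. over `k`:
  `dim X = d` natural and `dim_x X = d` at every point;
* `localDim_eq_trdeg_add_stalk` : `dim_x X = a + b`, `a = trdeg_k κ(x)`, `b = dim O_{X,x}`, both naturals;
* `trdeg_residueField_add` : `trdeg_k κ(x) = trdeg_k κ(f x) + trdeg κ(x)/κ(f x)`.
-/

set_option autoImplicit false
universe u
open CategoryTheory AlgebraicGeometry Function

namespace Groth.Agent.Lib.helper3.IrredDim

open Groth.Agent.Lib.helper3.DimIneq Groth.Agent.Lib.helper3.FTField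
  Groth.Agent.Lib.helper3.RelDim Groth.Agent.Lib.helper3.FibreParam

theorem exists_nat_stalk_dim {X : Scheme.{u}} [IsLocallyNoetherian X] (x : X) :
    ∃ b : ℕ, ringKrullDim (X.presheaf.stalk x) = (b : WithBot ℕ∞) := by
  obtain ⟨V, hV, hxV, -⟩ := exists_isAffineOpen_mem_and_subset (x := x) (U := ⊤) trivial
  haveI : IsNoetherianRing Γ(X, V) := IsLocallyNoetherian.component_noetherian ⟨V, hV⟩
  obtain ⟨b, hb⟩ := ENat.ne_top_iff_exists.mp
    (Ideal.height_ne_top_of_isPrime (I := (hV.primeIdealOf ⟨x, hxV⟩).asIdeal))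
  exact ⟨b, by rw [ringKrullDim_stalk_eq_height hV x hxV, ← hb]; rfl⟩

theorem dim_univ_eq (T : Type*) [TopologicalSpace T] :
    topologicalKrullDim ↥(Set.univ : Set T) = topologicalKrullDim T :=
  IsHomeomorph.topologicalKrullDim_eq _ (Homeomorph.Set.univ T).isHomeomorph

theorem exists_dim_eq_localDim_of_irreducible (k : Type u) [Field k] (X : Scheme.{u})
    [X.Over (Spec (CommRingCat.of k))] [LocallyOfFiniteType (X ↘ Spec (CommRingCat.of k))]
    [IrreducibleSpace X] :
    ∃ d : ℕ, topologicalKrullDim X = (d : WithBot ℕ∞) ∧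
      ∀ x : X, FlatMor.localDim X x = (d : WithBot ℕ∞) := by
  obtain ⟨d, hd⟩ := exists_nat_trdeg_residueField k X (genericPoint X)
  have h1 := dim_closure_eq_trdeg k X (genericPoint X) d hd
  have h2 : closure ({genericPoint X} : Set X) = Set.univ := (genericPoint_spec X).def
  rw [h2, dim_univ_eq] at h1
  refine ⟨d, h1, fun x => ?_⟩
  apply localDim_eq_of_forall_irreducibleComponents k X d
  intro T hT
  rw [irreducibleComponents_eq_singleton] at hT
  rw [Set.mem_singleton_iff.mp hT, dim_univ_eq]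
  exact h1

theorem isLocallyNoetherian_of_lft (k : Type u) [Field k] (X : Scheme.{u})
    [X.Over (Spec (CommRingCat.of k))] [LocallyOfFiniteType (X ↘ Spec (CommRingCat.of k))] :
    IsLocallyNoetherian X :=
  LocallyOfFiniteType.isLocallyNoetherian (X ↘ Spec (CommRingCat.of k))

theorem localDim_eq_trdeg_add_stalk (k : Type u) [Field k] (X : Scheme.{u})
    [X.Over (Spec (CommRingCat.of k))] [LocallyOfFiniteType (X ↘ Spec (CommRingCat.of k))] (x : X) :
    ∃ a b : ℕ, @Algebra.trdeg k (X.residueField x) _ _ (Curv2.resAlgebra k X x) = a ∧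
      ringKrullDim (X.presheaf.stalk x) = (b : WithBot ℕ∞) ∧
      FlatMor.localDim X x = ((a + b : ℕ) : WithBot ℕ∞) := by
  haveI := isLocallyNoetherian_of_lft k X
  obtain ⟨a, ha⟩ := exists_nat_trdeg_residueField k X x
  obtain ⟨b, hb⟩ := exists_nat_stalk_dim x
  exact ⟨a, b, ha, hb, localDim_eq k X x a b ha hb⟩

/-- additivity of residue transcendence degrees along a `k`-morphism. -/
theorem trdeg_residueField_add (k : Type u) [Field k] {X Y : Scheme.{u}} (qX : X ⟶ Spec (CommRingCat.of k))
    (qY : Y ⟶ Spec (CommRingCat.of k)) (f : X ⟶ Y) (hf : f ≫ qY = qX) (x : X) :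
    td (@Curv2.resMap k _ X ⟨qX⟩ x) =
      td (@Curv2.resMap k _ Y ⟨qY⟩ (f x)) + td (f.residueFieldMap x).hom := by
  rw [resMap_comp k qY qX f hf x]
  exact td_add_of_comp _ _ (RingHom.injective _) (RingHom.injective _)

end Groth.Agent.Lib.helper3.IrredDim
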