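import Groth.Prelude.Def_Flat
import Mathlib.Topology.KrullDimension
import Mathlib.Topology.NoetherianSpace
import Mathlib.Topology.LocallyFinite

/-!
# Helper library (helper3): combinatorial dimension of topological spaces

Basic comparison lemmas for `topologicalKrullDim` and `FlatMor.localDim`:
open covers, (locally) finite closed covers, Noetherian `T0` spaces of dimension zero.
-/

set_option autoImplicit false

namespace Groth.Agent.Lib.helper3.TopDim

open TopologicalSpace Order Set Topology

universe u v w

variable {X : Type u} [TopologicalSpace X]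

/-- Monotonicity of dimension for inducing maps into a common space. -/
theorem dim_le_of_range_subset {A : Type v} {B : Type w} [TopologicalSpace A] [TopologicalSpace B]
    {f : A → X} {g : B → X} (hf : IsInducing f) (hg : IsInducing g) (h : range f ⊆ range g) :
    topologicalKrullDim A ≤ topologicalKrullDim B := by
  choose k hk using fun a : A => h (mem_range_self a)
  have hgk : g ∘ k = f := funext hk
  have hkc : Continuous k := by
    rw [hg.continuous_iff, hgk]; exact hf.continuous
  have : IsInducing k := IsInducing.of_comp hkc hg.continuous (by rw [hgk]; exact hf)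
  exact this.topologicalKrullDim_le

/-- Dimension of subspaces is monotone. -/
theorem dim_mono {S T : Set X} (h : S ⊆ T) : topologicalKrullDim S ≤ topologicalKrullDim T :=
  dim_le_of_range_subset IsInducing.subtypeVal IsInducing.subtypeVal (by simpa using h)

/-- Key lemma (open case): the coheight of an irreducible closed set is bounded by the dimension of
any open set meeting it. -/
theorem coheight_le_dim_open (Z : IrreducibleCloseds X) {U : Set X} (hU : IsOpen U) {x : X}
    (hxZ : x ∈ Z) (hxU : x ∈ U) : (coheight Z : WithBot ℕ∞) ≤ topologicalKrullDim U := by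
  have hf : IsOpenEmbedding (Subtype.val : U → X) := hU.isOpenEmbedding_subtypeVal
  let e := IrreducibleCloseds.orderIsoOfIsOpenEmbedding (Subtype.val : U → X) hf
  let Z' := e.symm ⟨Z, ⟨⟨x, hxU⟩, hxZ⟩⟩
  have h1 : IrreducibleCloseds.map Subtype.val hf.continuous Z' = Z := by
    have := e.apply_symm_apply ⟨Z, ⟨⟨x, hxU⟩, hxZ⟩⟩
    exact congrArg Subtype.val this
  rw [← h1, hf.coheight_map]
  exact coheight_le_krullDim Z'

theorem _root_.Topology.IsInducing.isPreirreducible_of_image' {Y : Type v} [TopologicalSpace Y]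
    {f : Y → X} (hf : IsInducing f) {S : Set Y} (h : IsPreirreducible (f '' S)) :
    IsPreirreducible S := by
  rintro u v hu hv ⟨a, haS, hau⟩ ⟨b, hbS, hbv⟩
  obtain ⟨u', hu', rfl⟩ := hf.isOpen_iff.mp hu
  obtain ⟨v', hv', rfl⟩ := hf.isOpen_iff.mp hv
  obtain ⟨_, ⟨c, hcS, rfl⟩, hcu, hcv⟩ :=
    h u' v' hu' hv' ⟨f a, ⟨a, haS, rfl⟩, hau⟩ ⟨f b, ⟨b, hbS, rfl⟩, hbv⟩
  exact ⟨c, hcS, hcu, hcv⟩

/-- The irreducible closed subset of a subspace `Y` cut out by an irreducible closed `Z ⊆ Y`. -/
def restrict (Z : IrreducibleCloseds X) (Y : Set X) (h : (Z : Set X) ⊆ Y) :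
    IrreducibleCloseds Y where
  carrier := Subtype.val ⁻¹' (Z : Set X)
  isIrreducible' := by
    refine ⟨?_, IsInducing.subtypeVal.isPreirreducible_of_image' ?_⟩
    · obtain ⟨z, hz⟩ := Z.isIrreducible.nonempty
      exact ⟨⟨z, h hz⟩, hz⟩
    · rw [Subtype.image_preimage_coe, inter_eq_right.mpr h]
      exact Z.isIrreducible.isPreirreducible
  isClosed' := Z.isClosed.preimage continuous_subtype_val

theorem map_restrict (Z : IrreducibleCloseds X) (Y : Set X) (h : (Z : Set X) ⊆ Y) :
    IrreducibleCloseds.map Subtype.val continuous_subtype_val (restrict Z Y h) = Z := by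
  apply IrreducibleCloseds.ext
  change closure (Subtype.val '' (Subtype.val ⁻¹' (Z : Set X))) = Z
  rw [Subtype.image_preimage_coe, inter_eq_right.mpr h, Z.isClosed.closure_eq]

theorem le_of_map_le {Y : Type v} [TopologicalSpace Y] {f : Y → X} (hf : IsInducing f)
    {a a' : IrreducibleCloseds Y}
    (h : IrreducibleCloseds.map f hf.continuous a' ≤ IrreducibleCloseds.map f hf.continuous a) :
    a' ≤ a := by
  intro y hy
  have : y ∈ closure (a : Set Y) := by
    rw [hf.closure_eq_preimage_closure_image]
    exact h (subset_closure (mem_image_of_mem f hy))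
  rwa [a.isClosed.closure_eq] at this

/-- Key lemma (closed case): the height of an irreducible closed set is bounded by the dimension of
any closed set containing it. -/
theorem height_le_dim_closed (Z : IrreducibleCloseds X) {Y : Set X} (hY : IsClosed Y)
    (h : (Z : Set X) ⊆ Y) : (height Z : WithBot ℕ∞) ≤ topologicalKrullDim Y := by
  have hsm : StrictMono (IrreducibleCloseds.map (Subtype.val : Y → X) continuous_subtype_val) :=
    IrreducibleCloseds.map_strictMono_of_isInducing IsInducing.subtypeVal
  have key : ∀ a : IrreducibleCloseds Y, ∀ b : IrreducibleCloseds X,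
      b < IrreducibleCloseds.map (Subtype.val : Y → X) continuous_subtype_val a →
      ∃ a' : IrreducibleCloseds Y, a' < a ∧
        IrreducibleCloseds.map (Subtype.val : Y → X) continuous_subtype_val a' = b := by
    intro a b hb
    have hbY : (b : Set X) ⊆ Y := by
      intro z hz
      have h1 : z ∈ closure (Subtype.val '' (a : Set Y)) := hb.le hz
      have h2 : closure (Subtype.val '' (a : Set Y)) ⊆ Y :=
        closure_minimal (by rintro _ ⟨y, -, rfl⟩; exact y.2) hY
      exact h2 h1
    refine ⟨restrict b Y hbY, ?_, map_restrict b Y hbY⟩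
    refine lt_of_le_of_ne (le_of_map_le IsInducing.subtypeVal ?_) ?_
    · rw [map_restrict]; exact hb.le
    · intro heq
      apply hb.ne
      rw [← heq, map_restrict]
  rw [← map_restrict Z Y h, ← height_eq_of_strictMono _ hsm key]
  exact height_le_krullDim _

/-- An irreducible set covered by a locally finite family of closed sets lies in one of them. -/
theorem exists_subset_of_locallyFinite {ι : Type v} {Y : ι → Set X} (hY : ∀ i, IsClosed (Y i))
    (hlf : LocallyFinite Y) {Z : Set X} (hZ : IsIrreducible Z)
    (hcov : Z ⊆ ⋃ i, Y i) : ∃ i, Z ⊆ Y i := by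
  classical
  obtain ⟨x, hx⟩ := hZ.nonempty
  obtain ⟨U, hUx, hfin⟩ := hlf x
  obtain ⟨V, hVU, hV, hxV⟩ := mem_nhds_iff.mp hUx
  have hfin' : {i | (Y i ∩ V).Nonempty}.Finite :=
    hfin.subset fun i hi => hi.mono (inter_subset_inter_right _ hVU)
  obtain ⟨z, hz, hZz⟩ := isIrreducible_iff_sUnion_isClosed.mp hZ
    (insert Vᶜ (hfin'.toFinset.image Y)) (by
      intro z hz
      rcases Finset.mem_insert.mp hz with rfl | hz
      · exact hV.isClosed_compl
      · obtain ⟨i, -, rfl⟩ := Finset.mem_image.mp hz
        exact hY i) (by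
      intro y hy
      by_cases hyV : y ∈ V
      · obtain ⟨i, hi⟩ := mem_iUnion.mp (hcov hy)
        refine mem_sUnion.mpr ⟨Y i, ?_, hi⟩
        rw [Finset.coe_insert]
        refine Or.inr (Finset.mem_coe.mpr (Finset.mem_image.mpr ⟨i, ?_, rfl⟩))
        rw [Set.Finite.mem_toFinset]
        exact ⟨y, hi, hyV⟩
      · refine mem_sUnion.mpr ⟨Vᶜ, ?_, hyV⟩
        rw [Finset.coe_insert]
        exact Or.inl rfl)
  rcases Finset.mem_insert.mp hz with rfl | hz
  · exact absurd hxV (hZz hx)
  · obtain ⟨i, -, rfl⟩ := Finset.mem_image.mp hz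
    exact ⟨i, hZz⟩

/-- Dimension of an open cover. -/
theorem dim_eq_iSup_of_open_cover {ι : Type v} (U : ι → Set X) (hU : ∀ i, IsOpen (U i))
    (hcov : ⋃ i, U i = univ) : topologicalKrullDim X = ⨆ i, topologicalKrullDim (U i) := by
  apply le_antisymm
  · unfold topologicalKrullDim
    rw [krullDim_eq_iSup_coheight]
    apply iSup_le
    intro Z
    obtain ⟨x, hx⟩ := Z.isIrreducible.nonempty
    obtain ⟨i, hi⟩ := mem_iUnion.mp (hcov ▸ mem_univ x : x ∈ ⋃ i, U i)
    exact le_trans (coheight_le_dim_open Z (hU i) hx hi) (le_iSup (fun i => topologicalKrullDim (U i)) i)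
  · exact iSup_le fun i => topologicalKrullDim_subspace_le X _

/-- Dimension of a locally finite closed cover. -/
theorem dim_eq_iSup_of_locallyFinite_closed_cover {ι : Type v} (Y : ι → Set X)
    (hY : ∀ i, IsClosed (Y i)) (hlf : LocallyFinite Y)
    (hcov : ⋃ i, Y i = univ) : topologicalKrullDim X = ⨆ i, topologicalKrullDim (Y i) := by
  apply le_antisymm
  · unfold topologicalKrullDim
    rw [krullDim_eq_iSup_height]
    apply iSup_le
    intro Z
    obtain ⟨i, hi⟩ := exists_subset_of_locallyFinite hY hlf Z.isIrreducible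
      (hcov ▸ subset_univ _)
    exact le_trans (height_le_dim_closed Z (hY i) hi) (le_iSup (fun i => topologicalKrullDim (Y i)) i)
  · exact iSup_le fun i => topologicalKrullDim_subspace_le X _

/-- The local dimension is bounded by the dimension. -/
theorem localDim_le_dim (x : X) : FlatMor.localDim X x ≤ topologicalKrullDim X := by
  unfold FlatMor.localDim
  exact le_trans (iInf_le _ ⟨⊤, trivial⟩) (topologicalKrullDim_subspace_le X _)

/-- The local dimension bounds the coheight of irreducible closed sets through the point. -/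
theorem coheight_le_localDim (Z : IrreducibleCloseds X) {x : X} (hx : x ∈ Z) :
    (coheight Z : WithBot ℕ∞) ≤ FlatMor.localDim X x := by
  unfold FlatMor.localDim
  apply le_iInf
  rintro ⟨U, hxU⟩
  exact coheight_le_dim_open Z U.isOpen hx hxU

/-- A nonempty space has nonnegative dimension. -/
theorem dim_nonneg [Nonempty X] : 0 ≤ topologicalKrullDim X := by
  obtain ⟨x⟩ := ‹Nonempty X›
  haveI : Nonempty (IrreducibleCloseds X) :=
    ⟨⟨closure {x}, isIrreducible_singleton.closure, isClosed_closure⟩⟩
  exact krullDim_nonneg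

/-- A Noetherian `T0` space of dimension `≤ 0` is finite and discrete. -/
theorem finite_discrete_of_dim_le_zero [NoetherianSpace X] [T0Space X]
    (h : topologicalKrullDim X ≤ 0) : Finite X ∧ DiscreteTopology X := by
  have hmin := krullDim_nonpos_iff_forall_isMin.mp h
  have hT1 : T1Space X := by
    refine ⟨fun x => ?_⟩
    rw [← closure_eq_iff_isClosed]
    apply Subset.antisymm _ subset_closure
    intro y hy
    let Zx : IrreducibleCloseds X :=
      ⟨closure {x}, isIrreducible_singleton.closure, isClosed_closure⟩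
    let Zy : IrreducibleCloseds X :=
      ⟨closure {y}, isIrreducible_singleton.closure, isClosed_closure⟩
    have hle : Zy ≤ Zx := fun z hz =>
      (closure_minimal (singleton_subset_iff.mpr hy) isClosed_closure : closure {y} ⊆ closure {x}) hz
    have hge : Zx ≤ Zy := hmin Zx hle
    have h1 : x ⤳ y := specializes_iff_mem_closure.mpr hy
    have h2 : y ⤳ x := specializes_iff_mem_closure.mpr (hge (subset_closure rfl : x ∈ closure {x}))
    exact (h1.antisymm h2).eq.symm
  have hfin : Finite X := by
    rw [← Set.finite_univ_iff, ← sUnion_irreducibleComponents]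
    refine Set.Finite.sUnion NoetherianSpace.finite_irreducibleComponents ?_
    intro Z hZ
    have hZirr : IsIrreducible Z := hZ.1
    have hZcl : IsClosed Z := isClosed_of_mem_irreducibleComponents Z hZ
    obtain ⟨z, hz⟩ := hZirr.nonempty
    let Z' : IrreducibleCloseds X := ⟨Z, hZirr, hZcl⟩
    let P : IrreducibleCloseds X := ⟨{z}, isIrreducible_singleton, isClosed_singleton⟩
    have hPZ : P ≤ Z' := fun w hw => by
      have : w = z := hw
      rw [this]; exact hz
    have hZP : Z' ≤ P := hmin Z' hPZ
    exact (Set.finite_singleton z).subset hZP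
  exact ⟨hfin, inferInstance⟩

/-- Local dimension is monotone along inducing maps. -/
theorem localDim_le_of_isInducing {Y : Type v} [TopologicalSpace Y] {f : Y → X}
    (hf : IsInducing f) (y : Y) : FlatMor.localDim Y y ≤ FlatMor.localDim X (f y) := by
  unfold FlatMor.localDim
  apply le_iInf
  rintro ⟨U, hU⟩
  refine le_trans (iInf_le _ ⟨⟨f ⁻¹' U, U.isOpen.preimage hf.continuous⟩, hU⟩) ?_
  refine dim_le_of_range_subset (f := f ∘ Subtype.val) (g := Subtype.val)
    (hf.comp IsInducing.subtypeVal) IsInducing.subtypeVal ?_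
  rintro _ ⟨⟨a, ha⟩, rfl⟩
  exact ⟨⟨f a, ha⟩, rfl⟩

/-- The infimum defining the local dimension is attained. -/
theorem exists_open_dim_eq_localDim (x : X) :
    ∃ U : Opens X, x ∈ U ∧ topologicalKrullDim (U.1 : Set X) = FlatMor.localDim X x := by
  haveI : Nonempty {U : Opens X // x ∈ U} := ⟨⟨⊤, trivial⟩⟩
  obtain ⟨⟨U, hxU⟩, hU⟩ :=
    ciInf_mem (fun U : {U : Opens X // x ∈ U} => topologicalKrullDim (U.1.1 : Set X))
  exact ⟨U, hxU, hU⟩

/-- Local dimension for a finite closed cover through the point. -/
theorem localDim_eq_iSup_of_finite_closed_cover (x : X) {ι : Type v} [Finite ι] (Y : ι → Set X)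
    (hY : ∀ i, IsClosed (Y i)) (hx : ∀ i, x ∈ Y i) (hcov : ⋃ i, Y i = univ) :
    FlatMor.localDim X x = ⨆ i, FlatMor.localDim (Y i) ⟨x, hx i⟩ := by
  apply le_antisymm
  · have h1 := fun i => exists_open_dim_eq_localDim (X := Y i) ⟨x, hx i⟩
    choose V hxV hV using h1
    have h2 := fun i => isOpen_induced_iff.mp (V i).isOpen
    choose U hUo hUV using h2
    have hWo : IsOpen (⋂ i, U i) := isOpen_iInter_of_finite hUo
    have hxW : x ∈ ⋂ i, U i := by
      refine mem_iInter.mpr fun i => ?_
      have : (⟨x, hx i⟩ : Y i) ∈ Subtype.val ⁻¹' U i := by rw [hUV i]; exact hxV i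
      exact this
    have h3 : FlatMor.localDim X x ≤ topologicalKrullDim (⋂ i, U i : Set X) := by
      unfold FlatMor.localDim
      exact iInf_le (fun U : {U : Opens X // x ∈ U} => topologicalKrullDim (U.1.1 : Set X))
        ⟨⟨⋂ i, U i, hWo⟩, hxW⟩
    refine le_trans h3 ?_
    rw [dim_eq_iSup_of_locallyFinite_closed_cover
      (fun i => (Subtype.val ⁻¹' (Y i) : Set (⋂ i, U i : Set X)))
      (fun i => (hY i).preimage continuous_subtype_val) (locallyFinite_of_finite _)
      (by rw [← preimage_iUnion, hcov, preimage_univ])]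
    apply iSup_le
    intro i
    refine le_trans ?_ (le_iSup (fun i => FlatMor.localDim (Y i) ⟨x, hx i⟩) i)
    rw [← hV i]
    refine dim_le_of_range_subset (f := Subtype.val ∘ Subtype.val) (g := Subtype.val ∘ Subtype.val)
      (IsInducing.subtypeVal.comp IsInducing.subtypeVal)
      (IsInducing.subtypeVal.comp IsInducing.subtypeVal) ?_
    rintro _ ⟨⟨⟨a, haW⟩, haY⟩, rfl⟩
    have haU : a ∈ U i := mem_iInter.mp haW i
    have haV : (⟨a, haY⟩ : Y i) ∈ V i := by
      have : (⟨a, haY⟩ : Y i) ∈ Subtype.val ⁻¹' U i := haU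
      rw [hUV i] at this
      exact this
    exact ⟨⟨⟨a, haY⟩, haV⟩, rfl⟩
  · apply iSup_le
    intro i
    exact localDim_le_of_isInducing (f := (Subtype.val : Y i → X)) IsInducing.subtypeVal ⟨x, hx i⟩

end Groth.Agent.Lib.helper3.TopDim
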