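import Groth.Agent.Lib.Helper3.FibreDimBC
import Groth.Agent.Lib.Helper5.SmoothFibreDim

/-!
# Fibre dimension of affine space `𝔸(ULift (Fin e); Y) ⟶ Y` (helper3)
-/

set_option autoImplicit false
universe u
open CategoryTheory CategoryTheory.Limits AlgebraicGeometry

namespace Groth.Agent.Lib.helper3.AffSpaceDim

open Groth.Agent.Lib.helper5.FibreDimLocal Groth.Agent.Lib.helper5.SmoothFibreDim
  Groth.Agent.Lib.helper3.FibreDimBC

theorem fibreDimAt_spec_C_ulift (e : ℕ)
    (z : Spec (CommRingCat.of (MvPolynomial (ULift.{u} (Fin e)) (ULift.{u} ℤ)))) :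
    FlatMor.fibreDimAt (Spec.map (CommRingCat.ofHom
      (MvPolynomial.C : ULift.{u} ℤ →+* MvPolynomial (ULift.{u} (Fin e)) (ULift.{u} ℤ)))) z =
      (e : WithBot ℕ∞) := by
  let ρ : MvPolynomial (Fin e) (ULift.{u} ℤ) ≃+* MvPolynomial (ULift.{u} (Fin e)) (ULift.{u} ℤ) :=
    (MvPolynomial.renameEquiv (ULift.{u} ℤ) Equiv.ulift.symm).toRingEquiv
  have hC : (MvPolynomial.C : ULift.{u} ℤ →+* MvPolynomial (ULift.{u} (Fin e)) (ULift.{u} ℤ)) =
      ρ.toRingHom.comp MvPolynomial.C := by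
    ext r
    simp [ρ]
  have h1 : Spec.map (CommRingCat.ofHom
      (MvPolynomial.C : ULift.{u} ℤ →+* MvPolynomial (ULift.{u} (Fin e)) (ULift.{u} ℤ))) =
      Spec.map (CommRingCat.ofHom ρ.toRingHom) ≫
        Spec.map (CommRingCat.ofHom
          (MvPolynomial.C : ULift.{u} ℤ →+* MvPolynomial (Fin e) (ULift.{u} ℤ))) := by
    rw [← Spec.map_comp, ← CommRingCat.ofHom_comp, ← hC]
  haveI : IsIso (CommRingCat.ofHom ρ.toRingHom) := (ρ.toCommRingCatIso).isIso_hom
  haveI : IsIso (Spec.map (CommRingCat.ofHom ρ.toRingHom)) := inferInstance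
  rw [h1, fibreDimAt_comp_etale_left]
  exact fibreDimAt_affineSpace (CommRingCat.of (ULift.{u} ℤ)) e _

theorem terminal_from_eq (e : ℕ) :
    terminal.from (Spec (CommRingCat.of (MvPolynomial (ULift.{u} (Fin e)) (ULift.{u} ℤ)))) =
      Spec.map (CommRingCat.ofHom
        (MvPolynomial.C : ULift.{u} ℤ →+* MvPolynomial (ULift.{u} (Fin e)) (ULift.{u} ℤ))) ≫
        terminal.from (Spec (CommRingCat.of (ULift.{u} ℤ))) :=
  (terminal.comp_from _).symm

instance (e : ℕ) : LocallyOfFiniteType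
    (terminal.from (Spec (CommRingCat.of (MvPolynomial (ULift.{u} (Fin e)) (ULift.{u} ℤ))))) := by
  haveI := isIso_of_isTerminal specULiftZIsTerminal.{u} terminalIsTerminal (terminal.from _)
  rw [terminal_from_eq]
  haveI : LocallyOfFiniteType (Spec.map (CommRingCat.ofHom
        (MvPolynomial.C : ULift.{u} ℤ →+* MvPolynomial (ULift.{u} (Fin e)) (ULift.{u} ℤ)))) := by
    rw [HasRingHomProperty.Spec_iff (P := @LocallyOfFiniteType)]
    change RingHom.FiniteType (algebraMap (ULift.{u} ℤ) (MvPolynomial (ULift.{u} (Fin e)) (ULift.{u} ℤ)))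
    rw [RingHom.finiteType_algebraMap]
    infer_instance
  infer_instance

/-- the fibres of `𝔸^e_Y ⟶ Y` have local dimension `e` everywhere. -/
theorem fibreDimAt_affineSpace_over (Y : Scheme.{u}) (e : ℕ) (ω : 𝔸(ULift.{u} (Fin e); Y)) :
    FlatMor.fibreDimAt (𝔸(ULift.{u} (Fin e); Y) ↘ Y) ω = (e : WithBot ℕ∞) := by
  have hsq : IsPullback (AffineSpace.toSpecMvPoly (ULift.{u} (Fin e)) Y) (𝔸(ULift.{u} (Fin e); Y) ↘ Y)
      (terminal.from (Spec (CommRingCat.of (MvPolynomial (ULift.{u} (Fin e)) (ULift.{u} ℤ)))))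
      (terminal.from Y) :=
    (IsPullback.of_hasPullback (terminal.from Y) (terminal.from _)).flip
  rw [fibreDimAt_eq_of_isPullback _ _ _ _ hsq ω]
  haveI := isIso_of_isTerminal specULiftZIsTerminal.{u} terminalIsTerminal (terminal.from _)
  have h2 := fibreDimAt_comp_etale_right (Spec.map (CommRingCat.ofHom
        (MvPolynomial.C : ULift.{u} ℤ →+* MvPolynomial (ULift.{u} (Fin e)) (ULift.{u} ℤ))))
        (terminal.from (Spec (CommRingCat.of (ULift.{u} ℤ))))
        (AffineSpace.toSpecMvPoly (ULift.{u} (Fin e)) Y ω)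
  rw [← terminal_from_eq] at h2
  rw [h2]
  exact fibreDimAt_spec_C_ulift e _

end Groth.Agent.Lib.helper3.AffSpaceDim
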