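import Mathlib
import Groth.Prelude.Def_Found
import Groth.Agent.Lib.Helper3.DimFormulaAt
import Groth.Agent.Lib.Helper3.DimIneqLoc
/-!
# Helper library (helper3): the dimension INEQUALITY between two primes, and heights in quotients.

* `height_add_length_le` : order lemma, `height a + length l ≤ height (last l)` for a chain above `a`;
* `height_add_height_map_le` : `ht p0 + ht(p/p0) ≤ ht p`;
* `height_map_eq_of_unique_minimal` : `ht(p/p0) = ht p` when `p0` is the only minimal prime below `p`;
* `dimension_inequality_between` : `A → B` of finite type, `A` Noetherian, `q ≤ q'` primes of `B`: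
  `ht(q'/q) + trdeg κ(q')/κ(p') ≤ ht(p'/p) + trdeg κ(q)/κ(p)`.
-/

set_option autoImplicit false
universe u
open Function

namespace Groth.Agent.Lib.helper3.DimIneq

theorem height_add_length_le {α : Type*} [Preorder α] (a : α) (l : LTSeries α) (h : a ≤ l.head) :
    Order.height a + l.length ≤ Order.height l.last := by
  have key : ∀ i : Fin (l.length + 1), Order.height a + ((i : ℕ) : ℕ∞) ≤ Order.height (l i) := by
    intro i
    induction i using Fin.induction with
    | zero =>
      simp only [Fin.val_zero, Nat.cast_zero, add_zero]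
      exact Order.height_mono h
    | succ i ih =>
      have h1 : Order.height (l i.castSucc) + 1 ≤ Order.height (l i.succ) :=
        Order.height_add_one_le (l.step i)
      have h2 : ((i.succ : Fin (l.length + 1)) : ℕ) = (i.castSucc : ℕ) + 1 := by simp
      rw [h2, Nat.cast_add, Nat.cast_one, ← add_assoc]
      exact (add_le_add_left ih 1).trans h1
  have := key (Fin.last _)
  simp only [Fin.val_last] at this
  exact this

theorem height_add_height_map_le {A : Type u} [CommRing A] (p0 p : Ideal A) [p0.IsPrime]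
    [p.IsPrime] (h : p0 ≤ p) (k : ℕ) (hk : (p.map (Ideal.Quotient.mk p0)).height = k) :
    p0.height + k ≤ p.height := by
  have hsurj : Surjective (Ideal.Quotient.mk p0) := Ideal.Quotient.mk_surjective
  haveI hPp : (p.map (Ideal.Quotient.mk p0)).IsPrime := by
    apply Ideal.map_isPrime_of_surjective hsurj
    rw [Ideal.mk_ker]; exact h
  haveI : (p.map (Ideal.Quotient.mk p0)).FiniteHeight :=
    ⟨Or.inr (by rw [hk]; exact ENat.natCast_ne_top k)⟩
  obtain ⟨l, hlast, hlen⟩ := Ideal.exists_ltSeries_length_eq_height (p.map (Ideal.Quotient.mk p0))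
  let g : PrimeSpectrum (A ⧸ p0) → PrimeSpectrum A := PrimeSpectrum.comap (Ideal.Quotient.mk p0)
  have hg : StrictMono g := by
    intro x y hxy
    refine lt_of_le_of_ne ?_ ?_
    · exact Ideal.comap_mono (le_of_lt hxy)
    · intro heq
      have h1 : x.asIdeal.comap (Ideal.Quotient.mk p0) = y.asIdeal.comap (Ideal.Quotient.mk p0) :=
        congrArg PrimeSpectrum.asIdeal heq
      have h2 := Ideal.comap_injective_of_surjective _ hsurj h1
      exact (ne_of_lt hxy) (PrimeSpectrum.ext h2)
  let l' : LTSeries (PrimeSpectrum A) := l.map g hg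
  have hhead : (⟨p0, inferInstance⟩ : PrimeSpectrum A) ≤ l'.head := by
    change p0 ≤ (l.head.asIdeal).comap (Ideal.Quotient.mk p0)
    intro a ha
    rw [Ideal.mem_comap, Ideal.Quotient.eq_zero_iff_mem.mpr ha]
    exact Ideal.zero_mem _
  have hlast' : l'.last = ⟨p, inferInstance⟩ := by
    change g l.last = _
    rw [hlast]
    apply PrimeSpectrum.ext
    change (p.map (Ideal.Quotient.mk p0)).comap (Ideal.Quotient.mk p0) = p
    rw [Ideal.comap_map_of_surjective _ hsurj, ← RingHom.ker_eq_comap_bot, Ideal.mk_ker]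
    exact sup_eq_left.mpr h
  have key := height_add_length_le (⟨p0, inferInstance⟩ : PrimeSpectrum A) l' hhead
  rw [hlast', ← PrimeSpectrum.height_eq_orderHeight, ← PrimeSpectrum.height_eq_orderHeight] at key
  have hlen' : (l'.length : ℕ∞) = k := by
    change (l.length : ℕ∞) = k
    rw [hlen, hk]
  rw [hlen'] at key
  exact key

/-- `ht(p/p0) ≤ ht p`. -/
theorem height_map_le {A : Type u} [CommRing A] (p0 p : Ideal A) [p0.IsPrime]
    [p.IsPrime] (h : p0 ≤ p) [p.FiniteHeight] :
    (p.map (Ideal.Quotient.mk p0)).height ≤ p.height := by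
  have hfin : p.height ≠ ⊤ := Ideal.height_ne_top_of_isPrime
  by_contra hcon
  push Not at hcon
  obtain ⟨m, hm⟩ := ENat.ne_top_iff_exists.mp hfin
  -- a chain of length m+1 in the quotient
  have hsurj : Surjective (Ideal.Quotient.mk p0) := Ideal.Quotient.mk_surjective
  haveI hPp : (p.map (Ideal.Quotient.mk p0)).IsPrime := by
    apply Ideal.map_isPrime_of_surjective hsurj
    rw [Ideal.mk_ker]; exact h
  have h1 : ((m + 1 : ℕ) : ℕ∞) ≤ (p.map (Ideal.Quotient.mk p0)).height := by
    rw [← hm] at hcon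
    exact_mod_cast Order.add_one_le_of_lt hcon
  rw [PrimeSpectrum.height_eq_orderHeight ⟨_, hPp⟩] at h1
  obtain ⟨l, hlast, hlen⟩ := Order.exists_series_of_le_height _ h1
  let g : PrimeSpectrum (A ⧸ p0) → PrimeSpectrum A := PrimeSpectrum.comap (Ideal.Quotient.mk p0)
  have hg : StrictMono g := by
    intro x y hxy
    refine lt_of_le_of_ne ?_ ?_
    · exact Ideal.comap_mono (le_of_lt hxy)
    · intro heq
      have h1 : x.asIdeal.comap (Ideal.Quotient.mk p0) = y.asIdeal.comap (Ideal.Quotient.mk p0) :=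
        congrArg PrimeSpectrum.asIdeal heq
      have h2 := Ideal.comap_injective_of_surjective _ hsurj h1
      exact (ne_of_lt hxy) (PrimeSpectrum.ext h2)
  let l' : LTSeries (PrimeSpectrum A) := l.map g hg
  have hlast' : l'.last = ⟨p, inferInstance⟩ := by
    change g l.last = _
    rw [hlast]
    apply PrimeSpectrum.ext
    change (p.map (Ideal.Quotient.mk p0)).comap (Ideal.Quotient.mk p0) = p
    rw [Ideal.comap_map_of_surjective _ hsurj, ← RingHom.ker_eq_comap_bot, Ideal.mk_ker]
    exact sup_eq_left.mpr h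
  have h2 : (l'.length : ℕ∞) ≤ Order.height (⟨p, inferInstance⟩ : PrimeSpectrum A) :=
    Order.length_le_height (le_of_eq hlast')
  rw [← PrimeSpectrum.height_eq_orderHeight] at h2
  change ((l.length : ℕ) : ℕ∞) ≤ p.height at h2
  rw [hlen, ← hm] at h2
  have : m + 1 ≤ m := by exact_mod_cast h2
  omega

/-- if `p0` is the only minimal prime of `A` then `ht(p/p0) = ht p`. -/
theorem height_map_eq_of_unique_minimal {A : Type u} [CommRing A] (p0 p : Ideal A) [p0.IsPrime]
    [p.IsPrime] (h : p0 ≤ p) [p.FiniteHeight]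
    (huniq : ∀ p1 ∈ minimalPrimes A, p1 ≤ p → p1 = p0) :
    (p.map (Ideal.Quotient.mk p0)).height = p.height := by
  apply le_antisymm (height_map_le p0 p h)
  obtain ⟨l, hlast, hlen⟩ := Ideal.exists_ltSeries_length_eq_height p
  obtain ⟨p1, hp1, hp1le⟩ := Ideal.exists_minimalPrimes_le (I := ⊥) (J := l.head.asIdeal) bot_le
  have hp1p : p1 ≤ p := by
    have := hp1le.trans (LTSeries.head_le l (Fin.last _))
    have h2 : (l (Fin.last _)).asIdeal = p := congrArg PrimeSpectrum.asIdeal hlast
    rwa [h2] at this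
  have hp10 : p1 = p0 := huniq p1 hp1 hp1p
  subst hp10
  have hp' : (l.last.asIdeal.map (Ideal.Quotient.mk p1)).IsPrime := by
    apply Ideal.map_isPrime_of_surjective Ideal.Quotient.mk_surjective
    rw [Ideal.mk_ker]
    exact hp1le.trans (LTSeries.head_le l (Fin.last _))
  have := length_le_height_map (Ideal.Quotient.mk p1) Ideal.Quotient.mk_surjective l
    (by rw [Ideal.mk_ker]; exact hp1le) hp'
  rw [hlen] at this
  have h2 : l.last.asIdeal = p := congrArg PrimeSpectrum.asIdeal hlast
  rwa [h2] at this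

/-- **dimension inequality between two primes** `q ≤ q'` of `B` over `p ≤ p'` of `A`, for `A → B` of
finite type with `A` Noetherian:
`ht(q'/q) + trdeg κ(q')/κ(p') ≤ ht(p'/p) + trdeg κ(q)/κ(p)`. -/
theorem dimension_inequality_between {A B : Type u} [CommRing A] [CommRing B] [IsNoetherianRing A]
    (φ : A →+* B) (hφ : φ.FiniteType) (q q' : Ideal B) [q.IsPrime] [q'.IsPrime] (hle : q ≤ q')
    (n E : ℕ) (hn : td (Ideal.quotientMap q' φ le_rfl) = n)
    (hE : td (Ideal.quotientMap q φ le_rfl) = E) :
    (q'.map (Ideal.Quotient.mk q)).height + n ≤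
      ((q'.comap φ).map (Ideal.Quotient.mk (q.comap φ))).height + E := by
  haveI : IsDomain (B ⧸ q) := Ideal.Quotient.isDomain q
  haveI : IsDomain (A ⧸ q.comap φ) := Ideal.Quotient.isDomain _
  have hsurj : Surjective (Ideal.Quotient.mk q) := Ideal.Quotient.mk_surjective
  have hsurjA : Surjective (Ideal.Quotient.mk (q.comap φ)) := Ideal.Quotient.mk_surjective
  set φ0 := Ideal.quotientMap q φ le_rfl with hφ0
  have hφ0inj : Injective φ0 := Ideal.quotientMap_injective
  have hφ0ft : φ0.FiniteType := by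
    have h1 : (φ0.comp (Ideal.Quotient.mk (q.comap φ))).FiniteType := by
      have : φ0.comp (Ideal.Quotient.mk (q.comap φ)) = (Ideal.Quotient.mk q).comp φ := by
        ext a; rfl
      rw [this]
      exact (RingHom.FiniteType.of_surjective _ Ideal.Quotient.mk_surjective).comp hφ
    exact RingHom.FiniteType.of_comp_finiteType h1
  set Q' : Ideal (B ⧸ q) := q'.map (Ideal.Quotient.mk q) with hQ'def
  haveI hQ'p : Q'.IsPrime := by
    apply Ideal.map_isPrime_of_surjective hsurj
    rw [Ideal.mk_ker]; exact hle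
  have hQ'c : Q'.comap (Ideal.Quotient.mk q) = q' := by
    rw [hQ'def, Ideal.comap_map_of_surjective _ hsurj, ← RingHom.ker_eq_comap_bot, Ideal.mk_ker]
    exact sup_eq_left.mpr hle
  set P' : Ideal (A ⧸ q.comap φ) := Q'.comap φ0 with hP'def
  haveI hP'p : P'.IsPrime := Ideal.comap_isPrime φ0 Q'
  have hP'c : P'.comap (Ideal.Quotient.mk (q.comap φ)) = q'.comap φ := by
    rw [hP'def, Ideal.comap_comap]
    have : φ0.comp (Ideal.Quotient.mk (q.comap φ)) = (Ideal.Quotient.mk q).comp φ := by
      ext a; rfl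
    rw [this, ← Ideal.comap_comap, hQ'c]
  have hP'map : (q'.comap φ).map (Ideal.Quotient.mk (q.comap φ)) = P' := by
    rw [← hP'c, Ideal.map_comap_of_surjective _ hsurjA]
  -- the residue transcendence degree at `Q'`
  have hn' : td (Ideal.quotientMap Q' φ0 le_rfl) = n := by
    rw [← hn]
    symm
    haveI : IsDomain ((B ⧸ q) ⧸ Q') := Ideal.Quotient.isDomain Q'
    refine td_eq_of_square (Ideal.quotientMap q' φ le_rfl)
      (Ideal.quotientMap Q' (Ideal.Quotient.mk q) (le_of_eq hQ'c.symm))
      (Ideal.quotientMap P' (Ideal.Quotient.mk (q.comap φ)) (le_of_eq hP'c.symm))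
      (Ideal.quotientMap Q' φ0 le_rfl) ?_ Ideal.quotientMap_injective ?_ ?_
      Ideal.quotientMap_injective ?_ ?_
    · ext a; rfl
    · exact Ideal.quotientMap_injective' (le_of_eq hQ'c)
    · exact Ideal.quotientMap_injective' (le_of_eq hP'c)
    · apply isAlgebraic_of_surjective
      exact Ideal.quotientMap_surjective hsurj
    · haveI : Nontrivial (A ⧸ q'.comap φ) :=
        Ideal.Quotient.nontrivial_iff.mpr (Ideal.IsPrime.ne_top (Ideal.comap_isPrime φ q'))
      apply isAlgebraic_of_surjective
      exact Ideal.quotientMap_surjective hsurjA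
  -- the generic transcendence degree
  have hE' : ∀ q0 ∈ minimalPrimes (B ⧸ q), q0 ≤ Q' → td (Ideal.quotientMap q0 φ0 le_rfl) ≤ E := by
    intro q0 hq0 _
    have hq0bot : q0 = ⊥ := by
      have := IsDomain.minimalPrimes_eq_singleton_bot (B ⧸ q)
      rw [this] at hq0
      exact hq0
    subst hq0bot
    rw [← hE]
    apply le_of_eq
    symm
    haveI : IsDomain ((B ⧸ q) ⧸ (⊥ : Ideal (B ⧸ q))) := Ideal.Quotient.isDomain _
    haveI : (⊥ : Ideal (B ⧸ q)).IsPrime := Ideal.isPrime_bot
    refine td_eq_of_square φ0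
      (Ideal.Quotient.mk (⊥ : Ideal (B ⧸ q)))
      (Ideal.Quotient.mk ((⊥ : Ideal (B ⧸ q)).comap φ0))
      (Ideal.quotientMap (⊥ : Ideal (B ⧸ q)) φ0 le_rfl) ?_ hφ0inj ?_ ?_
      Ideal.quotientMap_injective ?_ ?_
    · ext a; rfl
    · exact (RingHom.injective_iff_ker_eq_bot _).mpr (by rw [Ideal.mk_ker])
    · refine (RingHom.injective_iff_ker_eq_bot _).mpr ?_
      rw [Ideal.mk_ker, ← RingHom.ker_eq_comap_bot]
      exact (RingHom.injective_iff_ker_eq_bot _).mp hφ0inj
    · exact isAlgebraic_of_surjective _ Ideal.Quotient.mk_surjective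
    · exact isAlgebraic_of_surjective _ Ideal.Quotient.mk_surjective
  have key := height_add_le_loc' φ0 hφ0ft Q' n E hn' hE'
  rw [hP'map]
  exact key

end Groth.Agent.Lib.helper3.DimIneq
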