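import Mathlib
import Groth.Prelude.Def_Found
import Groth.Agent.Lib.Helper3.DimBetween
import Groth.Agent.Lib.Helper3.DimFormulaSch
import Groth.Agent.Lib.Helper3.FibreField
import Groth.Agent.Lib.Helper3.FTFieldClosureDim
/-!
# Helper library (helper3): scheme-level dimension inequality between two points, the dimension of
the closure of a point inside its fibre, and generic points in affine charts of irreducible schemes.

* `dimension_inequality_specializes` : `x ⤳ x'` in an affine chart over a Noetherian affine chart: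
  `ht(q_{x'}/q_x) + trdeg κ(x')/κ(f x') ≤ ht(p_{f x'}/p_{f x}) + trdeg κ(x)/κ(f x)`;
* `exists_minimalPrimes_height_map_ge` : a minimal prime `q0 ≤ q` with `ht q ≤ ht(q/q0)`;
* `dim_closure_inter_fibre` : `dim (closure {ξ} ∩ f⁻¹(f ξ)) = trdeg κ(ξ)/κ(f ξ)`;
* `eq_genericPoint_of_mem_minimalPrimes` : in an irreducible scheme, a point whose prime in an affine
  chart is minimal is the generic point.
-/

set_option autoImplicit false
universe u
open CategoryTheory AlgebraicGeometry Function

namespace Groth.Agent.Lib.helper3.DimIneq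

open Groth.Agent.Lib.helper3.FTField Groth.Agent.Lib.helper3.FibreField

theorem dimension_inequality_specializes {X S : Scheme.{u}} (f : X ⟶ S) [LocallyOfFiniteType f]
    {V : S.Opens} (hV : IsAffineOpen V) {U : X.Opens} (hU : IsAffineOpen U) (e : U ≤ f ⁻¹ᵁ V)
    [IsNoetherianRing Γ(S, V)]
    (x x' : X) (hx : x ∈ U) (hx' : x' ∈ U)
    (hle : (hU.primeIdealOf ⟨x, hx⟩).asIdeal ≤ (hU.primeIdealOf ⟨x', hx'⟩).asIdeal)
    (n E : ℕ) (hn : td (f.residueFieldMap x').hom = n) (hE : td (f.residueFieldMap x).hom = E) :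
    ((hU.primeIdealOf ⟨x', hx'⟩).asIdeal.map
        (Ideal.Quotient.mk (hU.primeIdealOf ⟨x, hx⟩).asIdeal)).height + n ≤
      ((hV.primeIdealOf ⟨f x', e hx'⟩).asIdeal.map
        (Ideal.Quotient.mk (hV.primeIdealOf ⟨f x, e hx⟩).asIdeal)).height + E := by
  have hft : (f.appLE V U e).hom.FiniteType := LocallyOfFiniteType.finiteType_appLE f hV hU e
  have hI : ∀ (y : X) (hy : y ∈ U), (hU.primeIdealOf ⟨y, hy⟩).asIdeal.comap (f.appLE V U e).hom =
      (hV.primeIdealOf ⟨f y, e hy⟩).asIdeal := by
    intro y hy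
    have := IsAffineOpen.comap_primeIdealOf_appLE (f := f) (x := y) V hV U hU e hy
    exact congrArg PrimeSpectrum.asIdeal this
  rw [← td_quotientMap_eq f hV hU e x hx] at hE
  rw [← td_quotientMap_eq f hV hU e x' hx'] at hn
  have key := dimension_inequality_between (f.appLE V U e).hom hft _ _ hle n E hn hE
  rw [height_map_congr (hI x hx) (hI x' hx')] at key
  exact key

theorem exists_minimalPrimes_height_map_ge {B : Type u} [CommRing B] (q : Ideal B) [q.IsPrime]
    [q.FiniteHeight] :
    ∃ q0 ∈ minimalPrimes B, q0 ≤ q ∧ q.height ≤ (q.map (Ideal.Quotient.mk q0)).height := by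
  obtain ⟨l, hlast, hlen⟩ := Ideal.exists_ltSeries_length_eq_height q
  obtain ⟨q0, hq0, hq0le⟩ := Ideal.exists_minimalPrimes_le (I := ⊥) (J := l.head.asIdeal) bot_le
  have h2 : l.last.asIdeal = q := congrArg PrimeSpectrum.asIdeal hlast
  have hq0q : q0 ≤ q := by
    have := hq0le.trans (LTSeries.head_le l (Fin.last _))
    have h3 : (l (Fin.last _)).asIdeal = q := h2
    rwa [h3] at this
  refine ⟨q0, hq0, hq0q, ?_⟩
  haveI : q0.IsPrime := hq0.1.1
  have hp' : (l.last.asIdeal.map (Ideal.Quotient.mk q0)).IsPrime := by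
    apply Ideal.map_isPrime_of_surjective Ideal.Quotient.mk_surjective
    rw [Ideal.mk_ker]
    exact hq0le.trans (LTSeries.head_le l (Fin.last _))
  have := length_le_height_map (Ideal.Quotient.mk q0) Ideal.Quotient.mk_surjective l
    (by rw [Ideal.mk_ker]; exact hq0le) hp'
  rw [hlen, h2] at this
  exact this

/-- the dimension of the closure of a point inside its own fibre. -/
theorem dim_closure_inter_fibre {X Y : Scheme.{u}} (f : X ⟶ Y) [LocallyOfFiniteType f] (ξ : X)
    (E : ℕ) (hE : td (f.residueFieldMap ξ).hom = E) :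
    topologicalKrullDim ↥(closure ({ξ} : Set X) ∩ f.base ⁻¹' {f.base ξ}) = (E : WithBot ℕ∞) := by
  letI := fiberOver f (f.base ξ)
  haveI : LocallyOfFiniteType ((f.fiber (f.base ξ)) ↘
      Spec (CommRingCat.of (Y.residueField (f.base ξ)))) := locallyOfFiniteType_fiber f (f.base ξ)
  have hι : f.fiberι (f.base ξ) (f.asFiber ξ) = ξ := f.fiberι_asFiber ξ
  have hn : @Algebra.trdeg (Y.residueField (f.base ξ))
      ((f.fiber (f.base ξ)).residueField (f.asFiber ξ)) _ _
      (Curv2.resAlgebra (Y.residueField (f.base ξ)) (f.fiber (f.base ξ)) (f.asFiber ξ)) = E := by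
    change td (Curv2.resMap (Y.residueField (f.base ξ)) (f.fiber (f.base ξ)) (f.asFiber ξ)) = E
    rw [td_resMap_fiber f (f.base ξ) (f.asFiber ξ), td_residueFieldMap_congr f hι]
    exact hE
  rw [← dim_closure_eq_trdeg (Y.residueField (f.base ξ)) (f.fiber (f.base ξ)) (f.asFiber ξ) E hn]
  symm
  have hemb := (f.fiberι (f.base ξ)).isEmbedding
  have hcl : closure ({f.asFiber ξ} : Set (f.fiber (f.base ξ))) =
      (f.fiberι (f.base ξ)) ⁻¹' closure ({ξ} : Set X) := by
    rw [hemb.isInducing.closure_eq_preimage_closure_image, Set.image_singleton, hι]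
  have hmem : ∀ a : ↥(closure ({f.asFiber ξ} : Set (f.fiber (f.base ξ)))),
      f.fiberι (f.base ξ) a.1 ∈ closure ({ξ} : Set X) ∩ f.base ⁻¹' {f.base ξ} := by
    intro a
    refine ⟨?_, ?_⟩
    · have h1 : a.1 ∈ closure ({f.asFiber ξ} : Set (f.fiber (f.base ξ))) := a.2
      have h2 : a.1 ∈ (f.fiberι (f.base ξ)) ⁻¹' closure ({ξ} : Set X) := hcl ▸ h1
      exact h2
    · have : f.fiberι (f.base ξ) a.1 ∈ Set.range (f.fiberι (f.base ξ)) := ⟨_, rfl⟩
      rw [f.range_fiberι] at this
      exact this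
  let g : ↥(closure ({f.asFiber ξ} : Set (f.fiber (f.base ξ)))) →
      ↥(closure ({ξ} : Set X) ∩ f.base ⁻¹' {f.base ξ}) := fun a => ⟨f.fiberι (f.base ξ) a.1, hmem a⟩
  have hgc : Continuous g :=
    ((f.fiberι (f.base ξ)).continuous.comp continuous_subtype_val).subtype_mk _
  have hge : Topology.IsEmbedding g := by
    refine Topology.IsEmbedding.of_comp hgc continuous_subtype_val ?_
    exact hemb.comp Topology.IsEmbedding.subtypeVal
  have hgs : Surjective g := by
    rintro ⟨b, hb1, hb2⟩
    have hb3 : b ∈ Set.range (f.fiberι (f.base ξ)) := by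
      rw [f.range_fiberι]; exact hb2
    obtain ⟨a, rfl⟩ := hb3
    have ha : a ∈ closure ({f.asFiber ξ} : Set (f.fiber (f.base ξ))) := by
      have h2 : a ∈ (f.fiberι (f.base ξ)) ⁻¹' closure ({ξ} : Set X) := hb1
      exact hcl.symm ▸ h2
    exact ⟨⟨a, ha⟩, rfl⟩
  exact IsHomeomorph.topologicalKrullDim_eq g
    ((isHomeomorph_iff_isEmbedding_surjective).mpr ⟨hge, hgs⟩)

/-- in an irreducible scheme, a point whose prime in an affine chart is minimal is the generic
point. -/
theorem eq_genericPoint_of_mem_minimalPrimes {Y : Scheme.{u}} [IrreducibleSpace Y] {U : Y.Opens}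
    (hU : IsAffineOpen U) (ζ : Y) (hζ : ζ ∈ U)
    (hmin : (hU.primeIdealOf ⟨ζ, hζ⟩).asIdeal ∈ minimalPrimes Γ(Y, U)) :
    ζ = genericPoint Y := by
  have h1 := closure_mem_irreducibleComponents hU ζ hζ hmin
  rw [irreducibleComponents_eq_singleton] at h1
  have h2 : IsGenericPoint ζ (Set.univ : Set Y) := h1
  exact ((genericPoint_spec Y).eq h2).symm

theorem topologicalKrullDim_eq_bot_of_isEmpty (T : Type*) [TopologicalSpace T] [IsEmpty T] :
    topologicalKrullDim T = ⊥ := by
  unfold topologicalKrullDim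
  haveI : IsEmpty (TopologicalSpace.IrreducibleCloseds T) :=
    ⟨fun Z => by
      obtain ⟨x, -⟩ := Z.isIrreducible'.nonempty
      exact isEmptyElim x⟩
  exact Order.krullDim_eq_bot

end Groth.Agent.Lib.helper3.DimIneq
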