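import Mathlib
import Groth.Prelude.Def_Found
import Groth.Agent.Lib.Helper3.DimBetweenSch
/-!
# Helper library (helper3): minimal primes of a local ring `O_{X,x}` versus maximal points of an
affine chart, and `dim (O_{X,x} / 𝔭)` as a relative height.

* `ringKrullDim_quotient_map_eq_height` : `dim (A_q / q0 A_q) = ht(q/q0)`;
* `under_mem_minimalPrimes_of_localization`, `map_mem_minimalPrimes_of_localization`;
* `exists_point_of_minimalPrimes_stalk` : a minimal prime `𝔭` of `O_{X,x}` comes from a point `ξ` of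
  the chart with minimal prime, `ξ ⤳ x`, and `dim (O_{X,x}/𝔭) = ht(q_x/q_ξ)`;
* `comap_stalkMap_eq_map` : the contraction of such `𝔭` to `O_{Y,f x}` is `p_{f ξ} O_{Y,f x}`, and
  `dim (O_{Y,f x} / 𝔭 ∩ O_{Y,f x}) = ht(p_{f x}/p_{f ξ})`.
-/

set_option autoImplicit false
universe u
open CategoryTheory AlgebraicGeometry Function

namespace Groth.Agent.Lib.helper3.DimIneq

open Groth.Agent.Lib.helper3.FTField

theorem ringKrullDim_quotient_congr {R : Type u} [CommRing R] {I J : Ideal R} (h : I = J) :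
    ringKrullDim (R ⧸ I) = ringKrullDim (R ⧸ J) := by
  subst h; rfl

section ring

variable {A S : Type u} [CommRing A] [CommRing S] [Algebra A S] (q : Ideal A) [q.IsPrime]
  [IsLocalization.AtPrime S q]

theorem algebraMapSubmonoid_quotient_eq (q0 : Ideal A) (h : q0 ≤ q) :
    Algebra.algebraMapSubmonoid (A ⧸ q0) q.primeCompl =
      (q.map (Ideal.Quotient.mk q0)).primeCompl (hp := map_mk_isPrime q0 q h) := by
  haveI := map_mk_isPrime q0 q h
  ext b
  obtain ⟨a, rfl⟩ := Ideal.Quotient.mk_surjective b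
  have hcm := comap_map_mk q0 q h
  constructor
  · rintro ⟨a', ha', hEq⟩
    intro hmem
    apply ha'
    have h1 : Ideal.Quotient.mk q0 a' ∈ q.map (Ideal.Quotient.mk q0) := by
      have : algebraMap A (A ⧸ q0) a' = Ideal.Quotient.mk q0 a' := rfl
      rw [← this, hEq]; exact hmem
    have h2 : a' ∈ (q.map (Ideal.Quotient.mk q0)).comap (Ideal.Quotient.mk q0) := h1
    rw [hcm] at h2
    exact h2
  · intro hb
    refine ⟨a, ?_, rfl⟩
    intro ha
    exact hb (Ideal.mem_map_of_mem _ ha)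

/-- `dim (A_q / q0 A_q) = ht(q/q0)`. -/
theorem ringKrullDim_quotient_map_eq_height (q0 : Ideal A) (h : q0 ≤ q) :
    ringKrullDim (S ⧸ q0.map (algebraMap A S)) =
      ((q.map (Ideal.Quotient.mk q0)).height : WithBot ℕ∞) := by
  haveI := map_mk_isPrime q0 q h
  haveI h1 : IsLocalization (Algebra.algebraMapSubmonoid (A ⧸ q0) q.primeCompl)
      (S ⧸ q0.map (algebraMap A S)) := inferInstance
  rw [algebraMapSubmonoid_quotient_eq q q0 h] at h1
  haveI : IsLocalization.AtPrime (S ⧸ q0.map (algebraMap A S)) (q.map (Ideal.Quotient.mk q0)) := h1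
  exact IsLocalization.AtPrime.ringKrullDim_eq_height (q.map (Ideal.Quotient.mk q0))
    (S ⧸ q0.map (algebraMap A S))

theorem under_le_of_isPrime_localization (P : Ideal S) [P.IsPrime] : P.under A ≤ q := by
  have hd := ((IsLocalization.isPrime_iff_isPrime_disjoint q.primeCompl S P).mp inferInstance).2
  intro a ha
  by_contra hq
  exact Set.disjoint_left.mp hd hq ha

theorem under_mem_minimalPrimes_of_localization (P : Ideal S) (hP : P ∈ minimalPrimes S) :
    P.under A ∈ minimalPrimes A ∧ P.under A ≤ q ∧ (P.under A).map (algebraMap A S) = P := by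
  haveI : P.IsPrime := hP.1.1
  refine ⟨?_, under_le_of_isPrime_localization q P, IsLocalization.map_under q.primeCompl S P⟩
  have h := IsLocalization.minimalPrimes_map q.primeCompl S (⊥ : Ideal A)
  rw [Ideal.map_bot] at h
  have h2 : P ∈ (⊥ : Ideal S).minimalPrimes := hP
  rw [h] at h2
  exact h2

theorem map_mem_minimalPrimes_of_localization (q0 : Ideal A) (hq0 : q0 ∈ minimalPrimes A)
    (h : q0 ≤ q) : q0.map (algebraMap A S) ∈ minimalPrimes S := by
  haveI : q0.IsPrime := hq0.1.1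
  have hd : Disjoint (q.primeCompl : Set A) (q0 : Set A) := by
    rw [Set.disjoint_left]
    intro a ha ha0
    exact ha (h ha0)
  have h1 := IsLocalization.minimalPrimes_map q.primeCompl S (⊥ : Ideal A)
  rw [Ideal.map_bot] at h1
  change q0.map (algebraMap A S) ∈ (⊥ : Ideal S).minimalPrimes
  rw [h1]
  change (q0.map (algebraMap A S)).under A ∈ (⊥ : Ideal A).minimalPrimes
  rw [IsLocalization.under_map_of_isPrime_disjoint q.primeCompl S inferInstance hd]
  exact hq0

end ring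

section scheme

variable {X : Scheme.{u}}

/-- a minimal prime of `O_{X,x}` comes from a point of the chart with minimal prime. -/
theorem exists_point_of_minimalPrimes_stalk {V : X.Opens} (hV : IsAffineOpen V) (x : X)
    (hx : x ∈ V) (P : Ideal (X.presheaf.stalk x)) (hP : P ∈ minimalPrimes (X.presheaf.stalk x)) :
    ∃ (ξ : X) (hξ : ξ ∈ V), (hV.primeIdealOf ⟨ξ, hξ⟩).asIdeal ∈ minimalPrimes Γ(X, V) ∧
      (hV.primeIdealOf ⟨ξ, hξ⟩).asIdeal ≤ (hV.primeIdealOf ⟨x, hx⟩).asIdeal ∧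
      P = (hV.primeIdealOf ⟨ξ, hξ⟩).asIdeal.map (X.presheaf.germ V x hx).hom ∧
      (hV.primeIdealOf ⟨ξ, hξ⟩).asIdeal = P.comap (X.presheaf.germ V x hx).hom ∧
      ringKrullDim (X.presheaf.stalk x ⧸ P) =
        (((hV.primeIdealOf ⟨x, hx⟩).asIdeal.map
          (Ideal.Quotient.mk (hV.primeIdealOf ⟨ξ, hξ⟩).asIdeal)).height : WithBot ℕ∞) := by
  letI : Algebra Γ(X, V) (X.presheaf.stalk x) :=
    TopCat.Presheaf.algebra_section_stalk X.presheaf ⟨x, hx⟩
  haveI := hV.isLocalization_stalk ⟨x, hx⟩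
  obtain ⟨h1, h2, h3⟩ := under_mem_minimalPrimes_of_localization
    (hV.primeIdealOf ⟨x, hx⟩).asIdeal P hP
  haveI : (P.under Γ(X, V)).IsPrime := h1.1.1
  obtain ⟨ξ, hξ, hξq⟩ := exists_point_of_prime hV (P.under Γ(X, V))
  refine ⟨ξ, hξ, hξq ▸ h1, hξq ▸ h2, ?_, ?_, ?_⟩
  · rw [hξq]; exact h3.symm
  · rw [hξq]; rfl
  · rw [hξq, ← ringKrullDim_quotient_map_eq_height (S := X.presheaf.stalk x)
      (hV.primeIdealOf ⟨x, hx⟩).asIdeal (P.under Γ(X, V)) h2]
    exact ringKrullDim_quotient_congr h3.symm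

/-- conversely, a point of the chart with minimal prime specializing to `x` gives a minimal prime
of `O_{X,x}`. -/
theorem map_mem_minimalPrimes_stalk {V : X.Opens} (hV : IsAffineOpen V) (x : X)
    (hx : x ∈ V) (ξ : X) (hξ : ξ ∈ V)
    (hmin : (hV.primeIdealOf ⟨ξ, hξ⟩).asIdeal ∈ minimalPrimes Γ(X, V))
    (hle : (hV.primeIdealOf ⟨ξ, hξ⟩).asIdeal ≤ (hV.primeIdealOf ⟨x, hx⟩).asIdeal) :
    (hV.primeIdealOf ⟨ξ, hξ⟩).asIdeal.map (X.presheaf.germ V x hx).hom ∈
        minimalPrimes (X.presheaf.stalk x) ∧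
      ringKrullDim (X.presheaf.stalk x ⧸
          (hV.primeIdealOf ⟨ξ, hξ⟩).asIdeal.map (X.presheaf.germ V x hx).hom) =
        (((hV.primeIdealOf ⟨x, hx⟩).asIdeal.map
          (Ideal.Quotient.mk (hV.primeIdealOf ⟨ξ, hξ⟩).asIdeal)).height : WithBot ℕ∞) := by
  letI : Algebra Γ(X, V) (X.presheaf.stalk x) :=
    TopCat.Presheaf.algebra_section_stalk X.presheaf ⟨x, hx⟩
  haveI := hV.isLocalization_stalk ⟨x, hx⟩
  exact ⟨map_mem_minimalPrimes_of_localization (hV.primeIdealOf ⟨x, hx⟩).asIdeal _ hmin hle,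
    ringKrullDim_quotient_map_eq_height (S := X.presheaf.stalk x)
      (hV.primeIdealOf ⟨x, hx⟩).asIdeal _ hle⟩

/-- the contraction to `O_{Y,f x}` of a prime of `O_{X,x}`, in charts. -/
theorem comap_stalkMap_eq_map {Y : Scheme.{u}} (f : X ⟶ Y) {U : Y.Opens}
    (hU : IsAffineOpen U) {V : X.Opens} (hV : IsAffineOpen V) (e : V ≤ f ⁻¹ᵁ U) (x : X)
    (hx : x ∈ V) (ξ : X) (hξ : ξ ∈ V) (P : Ideal (X.presheaf.stalk x)) [P.IsPrime]
    (hPξ : (hV.primeIdealOf ⟨ξ, hξ⟩).asIdeal = P.comap (X.presheaf.germ V x hx).hom) :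
    P.comap (f.stalkMap x).hom =
      (hU.primeIdealOf ⟨f.base ξ, e hξ⟩).asIdeal.map
        (Y.presheaf.germ U (f.base x) (e hx)).hom := by
  letI : Algebra Γ(Y, U) (Y.presheaf.stalk (f.base x)) :=
    TopCat.Presheaf.algebra_section_stalk Y.presheaf ⟨f.base x, e hx⟩
  haveI := hU.isLocalization_stalk ⟨f.base x, e hx⟩
  set P' := P.comap (f.stalkMap x).hom with hP'
  haveI : P'.IsPrime := Ideal.comap_isPrime _ _
  have hcomm : (f.stalkMap x).hom.comp (Y.presheaf.germ U (f.base x) (e hx)).hom =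
      (X.presheaf.germ V x hx).hom.comp (f.appLE U V e).hom := by
    rw [← CommRingCat.hom_comp, ← CommRingCat.hom_comp, f.germ_stalkMap,
      ← X.presheaf.germ_res (homOfLE e) x hx, Scheme.Hom.appLE, Category.assoc]
  have hunder : P'.under Γ(Y, U) = (hU.primeIdealOf ⟨f.base ξ, e hξ⟩).asIdeal := by
    have h1 : (hV.primeIdealOf ⟨ξ, hξ⟩).asIdeal.comap (f.appLE U V e).hom =
        (hU.primeIdealOf ⟨f.base ξ, e hξ⟩).asIdeal := by
      have := IsAffineOpen.comap_primeIdealOf_appLE (f := f) (x := ξ) U hU V hV e hξ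
      exact congrArg PrimeSpectrum.asIdeal this
    rw [← h1, hPξ, Ideal.comap_comap, ← hcomm, ← Ideal.comap_comap]
    rfl
  have hmap : (P'.under Γ(Y, U)).map (algebraMap Γ(Y, U) (Y.presheaf.stalk (f.base x))) = P' :=
    IsLocalization.map_under (hU.primeIdealOf ⟨f.base x, e hx⟩).asIdeal.primeCompl _ P'
  rw [← hmap, hunder]
  rfl

theorem dim_quotient_comap_stalkMap {Y : Scheme.{u}} (f : X ⟶ Y) {U : Y.Opens}
    (hU : IsAffineOpen U) {V : X.Opens} (hV : IsAffineOpen V) (e : V ≤ f ⁻¹ᵁ U) (x : X)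
    (hx : x ∈ V) (ξ : X) (hξ : ξ ∈ V) (P : Ideal (X.presheaf.stalk x)) [P.IsPrime]
    (hPξ : (hV.primeIdealOf ⟨ξ, hξ⟩).asIdeal = P.comap (X.presheaf.germ V x hx).hom)
    (hle : (hU.primeIdealOf ⟨f.base ξ, e hξ⟩).asIdeal ≤
      (hU.primeIdealOf ⟨f.base x, e hx⟩).asIdeal) :
    ringKrullDim (Y.presheaf.stalk (f.base x) ⧸ P.comap (f.stalkMap x).hom) =
      (((hU.primeIdealOf ⟨f.base x, e hx⟩).asIdeal.map
        (Ideal.Quotient.mk (hU.primeIdealOf ⟨f.base ξ, e hξ⟩).asIdeal)).height : WithBot ℕ∞) := by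
  letI : Algebra Γ(Y, U) (Y.presheaf.stalk (f.base x)) :=
    TopCat.Presheaf.algebra_section_stalk Y.presheaf ⟨f.base x, e hx⟩
  haveI := hU.isLocalization_stalk ⟨f.base x, e hx⟩
  rw [ringKrullDim_quotient_congr (comap_stalkMap_eq_map f hU hV e x hx ξ hξ P hPξ)]
  exact ringKrullDim_quotient_map_eq_height (S := Y.presheaf.stalk (f.base x))
    (hU.primeIdealOf ⟨f.base x, e hx⟩).asIdeal _ hle

end scheme

end Groth.Agent.Lib.helper3.DimIneq
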