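import Mathlib
import Groth.Prelude.Def_Found
import Groth.Prelude.Def_EGA43
import Groth.Agent.Lib.Helper3.EquidimStalk
import Groth.Agent.Lib.Helper3.FibreDimChar
import Groth.Agent.Lib.Helper3.FibreDimNat
import Groth.Agent.Lib.Helper3.RelDim
/-!
# Helper library (helper3): consequences of `EGA43.IsEquidimAt f x`.

* `td_comp_opens_ι` : residue transcendence degrees of `U.ι ≫ f` and `f` agree;
* `fibreDimAt_comp_opens_ι` : `fibreDimAt (U.ι ≫ f) u = fibreDimAt f u`;
* `closure_mem_irreducibleComponents_of_forall_specializes`;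
* `IsEquidimAt` data (`e`, `U`): `td_eq_of_isEquidimAt` (maximal points of `U` have residue
  transcendence degree `e`), `closure_image_mem_of_isEquidimAt` (their images are maximal points of
  `Y`), `fibreDimAt_eq_of_isEquidimAt`.
-/

set_option autoImplicit false
universe u
open CategoryTheory AlgebraicGeometry Function

namespace Groth.Agent.Lib.helper3.EquidimAt

open Groth.Agent.Lib.helper3.DimIneq Groth.Agent.Lib.helper3.FTField
  Groth.Agent.Lib.helper3.FibreField Groth.Agent.Lib.helper3.DimFibre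
  Groth.Agent.Lib.helper3.RelDim

theorem closure_mem_irreducibleComponents_of_forall_specializes {T : Type*} [TopologicalSpace T]
    [QuasiSober T] (ζ : T) (h : ∀ ζ' : T, ζ' ⤳ ζ → ζ' = ζ) :
    closure ({ζ} : Set T) ∈ irreducibleComponents T := by
  refine ⟨isIrreducible_singleton.closure, fun Z hZ hle => ?_⟩
  have hZc : IsIrreducible (closure Z) := hZ.closure
  obtain ⟨ζ', hζ'⟩ := QuasiSober.sober hZc isClosed_closure
  have hζZ : ζ ∈ closure Z := subset_closure (hle (subset_closure rfl))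
  have hspec : ζ' ⤳ ζ := hζ'.specializes hζZ
  have := h ζ' hspec
  subst this
  rw [hζ'.def]
  exact subset_closure

theorem eq_of_specializes_of_closure_mem_irreducibleComponents {T : Type*} [TopologicalSpace T]
    [T0Space T] (ξ : T) (hξ : closure ({ξ} : Set T) ∈ irreducibleComponents T) (ω : T)
    (h : ω ⤳ ξ) : ω = ξ := by
  have h1 : closure ({ξ} : Set T) ≤ closure ({ω} : Set T) :=
    closure_minimal (Set.singleton_subset_iff.mpr h.mem_closure) isClosed_closure
  have h2 : closure ({ω} : Set T) ≤ closure ({ξ} : Set T) :=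
    hξ.2 isIrreducible_singleton.closure h1
  have h3 : ξ ⤳ ω := by
    rw [specializes_iff_mem_closure]
    exact h2 (subset_closure rfl)
  exact (h.antisymm h3).eq

variable {X Y : Scheme.{u}} (f : X ⟶ Y) (U : X.Opens)

theorem td_comp_opens_ι (u : ↥U) :
    td ((U.ι ≫ f).residueFieldMap u).hom = td (f.residueFieldMap (U.ι u)).hom := by
  rw [Scheme.residueFieldMap_comp]
  change td ((U.ι.residueFieldMap u).hom.comp (f.residueFieldMap (U.ι u)).hom) = _
  exact td_comp_right _ _ (residueFieldMap_surjective _ _)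

theorem fibreDimAt_comp_opens_ι [LocallyOfFiniteType f] (u : ↥U) :
    FlatMor.fibreDimAt (U.ι ≫ f) u = FlatMor.fibreDimAt f (U.ι u) := by
  obtain ⟨d1, hd1⟩ := exists_nat_fibreDimAt (U.ι ≫ f) u
  obtain ⟨d2, hd2⟩ := exists_nat_fibreDimAt f (U.ι u)
  have key : ∀ n : ℕ, FlatMor.fibreDimAt (U.ι ≫ f) u ≤ (n : WithBot ℕ∞) ↔
      FlatMor.fibreDimAt f (U.ι u) ≤ (n : WithBot ℕ∞) := by
    intro n
    rw [fibreDimAt_le_iff, fibreDimAt_le_iff]
    constructor
    · intro h x' hsp hfx
      have hx'U : x' ∈ U := hsp.mem_open U.isOpen u.2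
      have hsp' : (⟨x', hx'U⟩ : ↥U) ⤳ u :=
        U.ι.isOpenEmbedding.isInducing.specializes_iff.mp
          (show U.ι ⟨x', hx'U⟩ ⤳ U.ι u from hsp)
      have := h ⟨x', hx'U⟩ hsp' (by
        change f (U.ι ⟨x', hx'U⟩) = f (U.ι u)
        exact hfx)
      rw [td_comp_opens_ι] at this
      exact this
    · intro h u' hsp hfu
      have hsp' : U.ι u' ⤳ U.ι u := hsp.map U.ι.continuous
      have := h (U.ι u') hsp' (by
        have : (U.ι ≫ f) u' = (U.ι ≫ f) u := hfu
        exact this)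
      rw [td_comp_opens_ι]
      exact this
  rw [hd1, hd2] at key ⊢
  have h1 := (key d2).mpr le_rfl
  have h2 := (key d1).mp le_rfl
  have h1' : d1 ≤ d2 := by exact_mod_cast h1
  have h2' : d2 ≤ d1 := by exact_mod_cast h2
  have : d1 = d2 := le_antisymm h1' h2'
  rw [this]

section equidim

variable [LocallyOfFiniteType f] (e : ℕ)
  (hB : ∀ x' : (↥U : Type u), ∀ Z ∈ irreducibleComponents
    (↥((U.ι ≫ f).fiber ((U.ι ≫ f).base x')) : Type u), topologicalKrullDim (↥Z : Type u) = e)

include hB in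
theorem fibreDimAt_eq_of_isEquidimAt (x' : X) (hx' : x' ∈ U) :
    FlatMor.fibreDimAt f x' = (e : WithBot ℕ∞) := by
  have h1 := fibreDimAt_comp_opens_ι f U ⟨x', hx'⟩
  change _ = FlatMor.fibreDimAt f x' at h1
  rw [← h1]
  letI := fiberOver (U.ι ≫ f) ((U.ι ≫ f) ⟨x', hx'⟩)
  haveI : LocallyOfFiniteType (((U.ι ≫ f).fiber ((U.ι ≫ f) ⟨x', hx'⟩)) ↘
      Spec (CommRingCat.of (Y.residueField ((U.ι ≫ f) ⟨x', hx'⟩)))) :=
    locallyOfFiniteType_fiber (U.ι ≫ f) _
  exact localDim_eq_of_forall_irreducibleComponents (Y.residueField ((U.ι ≫ f) ⟨x', hx'⟩))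
    ((U.ι ≫ f).fiber ((U.ι ≫ f) ⟨x', hx'⟩)) e (hB ⟨x', hx'⟩) ((U.ι ≫ f).asFiber ⟨x', hx'⟩)

include hB in
theorem td_eq_of_isEquidimAt (ξ : X) (hξ : ξ ∈ U)
    (hmax : ∀ ω : X, ω ⤳ ξ → ω = ξ) :
    td (f.residueFieldMap ξ).hom = (e : Cardinal.{u}) := by
  set g := U.ι ≫ f with hg
  set u : ↥U := ⟨ξ, hξ⟩ with hu
  letI := fiberOver g (g u)
  haveI : LocallyOfFiniteType ((g.fiber (g u)) ↘
      Spec (CommRingCat.of (Y.residueField (g u)))) := locallyOfFiniteType_fiber g _
  set ζ := g.asFiber u with hζ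
  have hιζ : g.fiberι (g u) ζ = u := g.fiberι_asFiber u
  have hcomp : closure ({ζ} : Set (g.fiber (g u))) ∈ irreducibleComponents (g.fiber (g u)) := by
    apply closure_mem_irreducibleComponents_of_forall_specializes
    intro ζ' hsp
    have h1 : g.fiberι (g u) ζ' ⤳ g.fiberι (g u) ζ := hsp.map (g.fiberι (g u)).continuous
    rw [hιζ] at h1
    have h2 : U.ι (g.fiberι (g u) ζ') ⤳ U.ι u := h1.map U.ι.continuous
    have h3 := hmax _ h2
    have h4 : g.fiberι (g u) ζ' = u := U.ι.isOpenEmbedding.injective h3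
    exact (g.fiberι (g u)).isEmbedding.injective (h4.trans hιζ.symm)
  have hdim := hB u _ hcomp
  obtain ⟨E, hE⟩ := exists_nat_trdeg_residueField (Y.residueField (g u)) (g.fiber (g u)) ζ
  rw [dim_closure_eq_trdeg (Y.residueField (g u)) (g.fiber (g u)) ζ E hE] at hdim
  have hEe : E = e := by exact_mod_cast hdim
  have h5 : td (Curv2.resMap (Y.residueField (g u)) (g.fiber (g u)) ζ) = E := hE
  rw [td_resMap_fiber g (g u) ζ, td_residueFieldMap_congr g hιζ, td_comp_opens_ι, hEe] at h5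
  exact h5

omit [LocallyOfFiniteType f] in
theorem closure_image_mem_of_isEquidimAt
    (hA : ∀ Z ∈ irreducibleComponents (↥U : Type u),
      ∃ W ∈ irreducibleComponents (Y : Type u), closure ((U.ι ≫ f).base '' Z) = W)
    (ξ : X) (hξ : ξ ∈ U) (hmax : ∀ ω : X, ω ⤳ ξ → ω = ξ) :
    closure ({f.base ξ} : Set Y) ∈ irreducibleComponents (Y : Type u) := by
  set u : U.toScheme := ⟨ξ, hξ⟩ with hu
  have hcomp : closure ({u} : Set U.toScheme) ∈ irreducibleComponents U.toScheme := by
    apply closure_mem_irreducibleComponents_of_forall_specializes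
    intro u' hsp
    have h2 : U.ι u' ⤳ U.ι u := hsp.map U.ι.continuous
    exact U.ι.isOpenEmbedding.injective (hmax _ h2)
  obtain ⟨W, hW, hcl⟩ := hA _ hcomp
  have hcl' : closure ((U.ι ≫ f).base '' (closure ({u} : Set U.toScheme))) = W := hcl
  rw [closure_image_closure (U.ι ≫ f).continuous, Set.image_singleton] at hcl'
  have : (U.ι ≫ f).base u = f.base ξ := rfl
  rw [this] at hcl'
  rw [hcl']
  exact hW

end equidim

end Groth.Agent.Lib.helper3.EquidimAt
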