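import Mathlib
import Groth.Agent.Lib.Helper3.FibreDimNat
import Groth.Agent.Lib.Helper3.FibreIsol
import Groth.Agent.Lib.Helper17.FibreDim
import Groth.Agent.Lib.Helper24.FlatQuot
/-!
# Helper library (helper3): local fibre dimension of a composition

* `dim_quot_le_add` / `dim_quot_eq_add` : for a local homomorphism `R → S` of local rings and a
  proper ideal `I` of `R` with `R/I`, `S/IS` Noetherian: `dim S/IS ≤ dim R/I + dim S/m_R S`, with
  equality for `S` flat over `R`;
* `fibreDimAt_comp_le` / `fibreDimAt_comp_eq` : `dim_x X_s ≤ dim_x X_y + dim_y Y_s`, equality if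
  `O_{Y,y} → O_{X,x}` is flat.
-/

set_option autoImplicit false
set_option linter.style.haveILetI false
universe u
open CategoryTheory AlgebraicGeometry Function IsLocalRing

namespace Groth.Agent.Lib.helper3.FibreComp

open Groth.Agent.Lib.helper3.DimIneq Groth.Agent.Lib.helper3.DimFibre
  Groth.Agent.Lib.helper3.FibreField Groth.Agent.Lib.helper17.FibreStalk
  Groth.Agent.Lib.helper17.FibreDim Groth.Agent.Lib.Helper24.FlatQuot

section ring

variable (R S : Type u) [CommRing R] [CommRing S] [Algebra R S] (I : Ideal R)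

theorem dim_quot_le_add [IsLocalRing R] [IsLocalRing S] [IsLocalHom (algebraMap R S)]
    (hI : I ≠ ⊤) [IsNoetherianRing (R ⧸ I)] [IsNoetherianRing (S ⧸ I.map (algebraMap R S))] :
    ringKrullDim (S ⧸ I.map (algebraMap R S)) ≤
      ringKrullDim (R ⧸ I) + ringKrullDim (S ⧸ (maximalIdeal R).map (algebraMap R S)) := by
  letI : Nontrivial (R ⧸ I) := Ideal.Quotient.nontrivial_iff.mpr hI
  letI : IsLocalRing (R ⧸ I) := .of_surjective' _ Ideal.Quotient.mk_surjective
  letI : Nontrivial (S ⧸ I.map (algebraMap R S)) :=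
    Ideal.Quotient.nontrivial_iff.mpr (map_ne_top R S I hI)
  letI : IsLocalRing (S ⧸ I.map (algebraMap R S)) := .of_surjective' _ Ideal.Quotient.mk_surjective
  haveI := isLocalHom_quotient R S I hI
  have h := ringKrullDim_le_add (R ⧸ I) (S ⧸ I.map (algebraMap R S))
  rwa [ringKrullDim_closedFibre_quotient R S I hI] at h

theorem dim_quot_eq_add [IsLocalRing R] [IsLocalRing S] [IsLocalHom (algebraMap R S)]
    [Module.Flat R S]
    (hI : I ≠ ⊤) [IsNoetherianRing (R ⧸ I)] [IsNoetherianRing (S ⧸ I.map (algebraMap R S))] :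
    ringKrullDim (S ⧸ I.map (algebraMap R S)) =
      ringKrullDim (R ⧸ I) + ringKrullDim (S ⧸ (maximalIdeal R).map (algebraMap R S)) := by
  letI : Nontrivial (R ⧸ I) := Ideal.Quotient.nontrivial_iff.mpr hI
  letI : IsLocalRing (R ⧸ I) := .of_surjective' _ Ideal.Quotient.mk_surjective
  letI : Nontrivial (S ⧸ I.map (algebraMap R S)) :=
    Ideal.Quotient.nontrivial_iff.mpr (map_ne_top R S I hI)
  letI : IsLocalRing (S ⧸ I.map (algebraMap R S)) := .of_surjective' _ Ideal.Quotient.mk_surjective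
  haveI := flat_quotient R S I
  haveI := isLocalHom_quotient R S I hI
  rw [Groth.Agent.Lib.Helper24.FlatDimFormula.ringKrullDim_eq_add_of_flat (R ⧸ I)
    (S ⧸ I.map (algebraMap R S)), ringKrullDim_closedFibre_quotient R S I hI]

end ring

variable {X Y S : Scheme.{u}} (f : X ⟶ Y) (g : Y ⟶ S)

/-- the local rings of the fibres of a morphism locally of finite type are Noetherian. -/
theorem isNoetherianRing_fibRing [LocallyOfFiniteType f] (x : X) :
    IsNoetherianRing (FibRing f x) := by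
  obtain ⟨e⟩ := nonempty_asFiber_stalk_equiv f x
  letI := fiberOver f (f x)
  haveI : LocallyOfFiniteType ((f.fiber (f x)) ↘ Spec (CommRingCat.of (Y.residueField (f x)))) :=
    locallyOfFiniteType_fiber f (f x)
  haveI : IsLocallyNoetherian (f.fiber (f x)) :=
    LocallyOfFiniteType.isLocallyNoetherian
      ((f.fiber (f x)) ↘ Spec (CommRingCat.of (Y.residueField (f x))))
  exact isNoetherianRing_of_ringEquiv _ e.symm

theorem fibRing_comp_dim [LocallyOfFiniteType f] [LocallyOfFiniteType g] (x : X) :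
    ringKrullDim (FibRing (f ≫ g) x) ≤
        ringKrullDim (FibRing g (f x)) + ringKrullDim (FibRing f x) ∧
      ((f.stalkMap x).hom.Flat → ringKrullDim (FibRing (f ≫ g) x) =
        ringKrullDim (FibRing g (f x)) + ringKrullDim (FibRing f x)) := by
  algebraize [(f.stalkMap x).hom]
  haveI : IsLocalHom (algebraMap (Y.presheaf.stalk (f x)) (X.presheaf.stalk x)) :=
    inferInstanceAs (IsLocalHom (f.stalkMap x).hom)
  set I : Ideal (Y.presheaf.stalk (f x)) :=
    (maximalIdeal (S.presheaf.stalk (g (f x)))).map (g.stalkMap (f x)).hom with hI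
  have hIne : I ≠ ⊤ := by
    have hle : I ≤ maximalIdeal (Y.presheaf.stalk (f x)) :=
      ((IsLocalRing.local_hom_TFAE (g.stalkMap (f x)).hom).out 0 2 rfl rfl).mp inferInstance
    exact ne_top_of_le_ne_top (maximalIdeal.isMaximal _).ne_top hle
  have hmap : I.map (algebraMap (Y.presheaf.stalk (f x)) (X.presheaf.stalk x)) =
      (maximalIdeal (S.presheaf.stalk ((f ≫ g) x))).map ((f ≫ g).stalkMap x).hom := by
    rw [hI, Ideal.map_map, Scheme.Hom.stalkMap_comp]
    rfl
  let e : (X.presheaf.stalk x ⧸ I.map (algebraMap (Y.presheaf.stalk (f x)) (X.presheaf.stalk x)))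
      ≃+* FibRing (f ≫ g) x := Ideal.quotEquivOfEq hmap
  haveI : IsNoetherianRing (Y.presheaf.stalk (f x) ⧸ I) := isNoetherianRing_fibRing g (f x)
  haveI : IsNoetherianRing (X.presheaf.stalk x ⧸
      I.map (algebraMap (Y.presheaf.stalk (f x)) (X.presheaf.stalk x))) := by
    haveI := isNoetherianRing_fibRing (f ≫ g) x
    exact isNoetherianRing_of_ringEquiv _ e.symm
  rw [← ringKrullDim_eq_of_ringEquiv e]
  refine ⟨dim_quot_le_add _ _ I hIne, fun hfl => ?_⟩
  haveI : Module.Flat (Y.presheaf.stalk (f x)) (X.presheaf.stalk x) := hfl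
  exact dim_quot_eq_add _ _ I hIne

theorem td_residueFieldMap_comp (x : X) :
    td ((f ≫ g).residueFieldMap x).hom =
      td (g.residueFieldMap (f x)).hom + td (f.residueFieldMap x).hom := by
  rw [Scheme.residueFieldMap_comp]
  exact Groth.Agent.Lib.helper3.FibreParam.td_add_of_comp (g.residueFieldMap (f x)).hom
    (f.residueFieldMap x).hom (RingHom.injective _) (RingHom.injective _)

theorem fibreDimAt_comp [LocallyOfFiniteType f] [LocallyOfFiniteType g] (x : X) :
    FlatMor.fibreDimAt (f ≫ g) x ≤ FlatMor.fibreDimAt f x + FlatMor.fibreDimAt g (f x) ∧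
      ((f.stalkMap x).hom.Flat →
        FlatMor.fibreDimAt (f ≫ g) x = FlatMor.fibreDimAt f x + FlatMor.fibreDimAt g (f x)) := by
  obtain ⟨a₁, b₁, ha₁, hb₁, h₁⟩ := fibreDimAt_eq_add (f ≫ g) x
  obtain ⟨a₂, b₂, ha₂, hb₂, h₂⟩ := fibreDimAt_eq_add f x
  obtain ⟨a₃, b₃, ha₃, hb₃, h₃⟩ := fibreDimAt_eq_add g (f x)
  have htd := td_residueFieldMap_comp f g x
  rw [ha₁, ha₂, ha₃] at htd
  have e1 : a₁ = a₃ + a₂ := by exact_mod_cast htd
  have hdim := fibRing_comp_dim f g x
  rw [dim_fibRing, dim_fibRing, dim_fibRing] at hdim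
  have hb₁' : ringKrullDim (((f ≫ g).fiber ((f ≫ g) x)).presheaf.stalk ((f ≫ g).asFiber x)) =
      (b₁ : WithBot ℕ∞) := hb₁
  have hb₂' : ringKrullDim ((f.fiber (f x)).presheaf.stalk (f.asFiber x)) = (b₂ : WithBot ℕ∞) := hb₂
  have hb₃' : ringKrullDim ((g.fiber (g (f x))).presheaf.stalk (g.asFiber (f x))) =
      (b₃ : WithBot ℕ∞) := hb₃
  rw [hb₁', hb₂', hb₃'] at hdim
  rw [h₁, h₂, h₃]
  refine ⟨?_, fun hfl => ?_⟩
  · have e2 : b₁ ≤ b₃ + b₂ := by exact_mod_cast hdim.1
    have : a₁ + b₁ ≤ (a₂ + b₂) + (a₃ + b₃) := by omega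
    exact_mod_cast this
  · have e2 : b₁ = b₃ + b₂ := by exact_mod_cast hdim.2 hfl
    have : a₁ + b₁ = (a₂ + b₂) + (a₃ + b₃) := by omega
    exact_mod_cast this

end Groth.Agent.Lib.helper3.FibreComp
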