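import Mathlib
/-!
# Helper library (helper3): a (locally) constructible set containing all generizations of a point is
a neighbourhood of that point.

* `PrimeSpectrum.mem_nhds_of_isConstructible` : the ring version;
* `mem_nhds_of_isLocallyConstructible` : the scheme version;
* `isLocallyConstructible_of_isClosed` : closed subsets of locally Noetherian schemes are locally
  constructible.
-/

set_option autoImplicit false
universe u
open CategoryTheory AlgebraicGeometry Function TopologicalSpace Topology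

namespace Groth.Agent.Lib.helper3.ConsNhds

theorem mem_nhds_of_isConstructible {R : Type u} [CommRing R] {s : Set (PrimeSpectrum R)}
    (hs : IsConstructible s) (p : PrimeSpectrum R) (h : ∀ q : PrimeSpectrum R, q ⤳ p → q ∈ s) :
    s ∈ nhds p := by
  obtain ⟨S, _, g, hg⟩ := PrimeSpectrum.exists_range_eq_of_isConstructible hs.compl
  have h0 : ∃ a : R, a ∉ p.asIdeal ∧ g a = 0 := by
    by_contra hcon
    push Not at hcon
    have hdisj : Disjoint ((⊥ : Ideal S) : Set S) (p.asIdeal.primeCompl.map g : Submonoid S) := by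
      rw [Set.disjoint_left]
      rintro x hx ⟨a, ha, rfl⟩
      exact hcon a ha (by simpa using hx)
    obtain ⟨Q, hQ, -, hQd⟩ := Ideal.exists_le_prime_disjoint (I := (⊥ : Ideal S)) _ hdisj
    have hle : (PrimeSpectrum.comap g ⟨Q, hQ⟩).asIdeal ≤ p.asIdeal := by
      intro a ha
      by_contra hap
      exact Set.disjoint_left.mp hQd ha ⟨a, hap, rfl⟩
    have hsp : PrimeSpectrum.comap g ⟨Q, hQ⟩ ⤳ p := (PrimeSpectrum.le_iff_specializes _ _).mp hle
    have h1 := h _ hsp
    have h2 : PrimeSpectrum.comap g ⟨Q, hQ⟩ ∈ sᶜ := by rw [← hg]; exact ⟨_, rfl⟩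
    exact h2 h1
  obtain ⟨a, hap, hga⟩ := h0
  have hsub : (PrimeSpectrum.basicOpen a : Set (PrimeSpectrum R)) ⊆ s := by
    intro q hq
    by_contra hqs
    have : q ∈ Set.range (PrimeSpectrum.comap g) := by rw [hg]; exact hqs
    obtain ⟨Q', rfl⟩ := this
    apply hq
    change g a ∈ Q'.asIdeal
    rw [hga]; exact Ideal.zero_mem _
  exact Filter.mem_of_superset ((PrimeSpectrum.basicOpen a).isOpen.mem_nhds hap) hsub

theorem mem_nhds_of_isLocallyConstructible {Y : Scheme.{u}} {s : Set Y}
    (hs : IsLocallyConstructible s) (y : Y) (h : ∀ y' : Y, y' ⤳ y → y' ∈ s) : s ∈ nhds y := by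
  obtain ⟨V, hV, hyV, -⟩ := exists_isAffineOpen_mem_and_subset (x := y) (U := ⊤) trivial
  have h1 : IsLocallyConstructible (hV.fromSpec ⁻¹' s) :=
    hs.preimage_of_isOpenEmbedding hV.fromSpec.isOpenEmbedding
  have h2 : IsConstructible (hV.fromSpec ⁻¹' s) := h1.isConstructible
  have h3 : hV.fromSpec ⁻¹' s ∈ nhds (hV.primeIdealOf ⟨y, hyV⟩) := by
    apply mem_nhds_of_isConstructible h2
    intro q hq
    apply h
    have := hq.map hV.fromSpec.continuous
    rwa [hV.fromSpec_primeIdealOf ⟨y, hyV⟩] at this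
  have h4 := hV.fromSpec.isOpenEmbedding.isOpenMap.image_mem_nhds h3
  rw [hV.fromSpec_primeIdealOf ⟨y, hyV⟩] at h4
  exact Filter.mem_of_superset h4 (Set.image_preimage_subset _ _)

theorem isLocallyConstructible_of_isClosed {X : Scheme.{u}} [IsLocallyNoetherian X] {s : Set X}
    (hs : IsClosed s) : IsLocallyConstructible s := by
  intro x
  obtain ⟨U, hU, hxU, -⟩ := exists_isAffineOpen_mem_and_subset (x := x) (U := ⊤) trivial
  haveI : IsNoetherianRing Γ(X, U) := IsLocallyNoetherian.component_noetherian ⟨U, hU⟩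
  haveI hN : NoetherianSpace U.toScheme := noetherianSpace_of_isAffineOpen U hU
  refine ⟨U, U.isOpen.mem_nhds hxU, U.isOpen, ?_⟩
  haveI : NoetherianSpace ↥(U : Set X) := hN
  have hopen : IsOpen ((Subtype.val ⁻¹' s : Set ↥(U : Set X))ᶜ) :=
    (hs.preimage continuous_subtype_val).isOpen_compl
  have := ((NoetherianSpace.isCompact ((Subtype.val ⁻¹' s : Set ↥(U : Set X))ᶜ)).isConstructible
    hopen).compl
  rwa [compl_compl] at this

end Groth.Agent.Lib.helper3.ConsNhds
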