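import Mathlib
import Groth.Agent.Lib.Helper3.RelDim
/-!
# Helper library (helper3): generic points of fibre components

* `fibre_stalk_dim_eq_zero` : a point without proper generizations in its fibre has fibre local
  ring of dimension `0`;
* `fibreDimAt_eq_td_of_forall` : at such a point the local fibre dimension is the residue
  transcendence degree;
* `genericPoint_map_eq` : a dominant morphism of irreducible schemes maps the generic point to the
  generic point.
-/

set_option autoImplicit false
universe u
open CategoryTheory AlgebraicGeometry Function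

namespace Groth.Agent.Lib.helper3.RelDim

open Groth.Agent.Lib.helper3.DimIneq Groth.Agent.Lib.helper3.FTField
  Groth.Agent.Lib.helper3.FibreField Groth.Agent.Lib.helper3.QFinTop
  Groth.Agent.Lib.helper3.DimFibre

variable {X Y : Scheme.{u}} (f : X ⟶ Y)

theorem fibre_stalk_dim_eq_zero (x : X) (h : ∀ x' : X, x' ⤳ x → f x' = f x → x' = x) :
    ringKrullDim ((f.fiber (f x)).presheaf.stalk (f.asFiber x)) = 0 := by
  have hmaxz : IsMax (f.asFiber x) := by
    intro z' hz'
    have h1 : z' ⤳ f.asFiber x := Scheme.le_iff_specializes.mp hz'
    have h2 : f.fiberι (f x) z' ⤳ x := by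
      have := (fiberι_specializes_iff f (f x) z' (f.asFiber x)).mpr h1
      rwa [f.fiberι_asFiber] at this
    have h4 : f.fiberι (f x) z' = x := h _ h2 (fiberι_mem f (f x) z')
    have h5 : z' = f.asFiber x :=
      fiberι_injective f (f x) (h4.trans (f.fiberι_asFiber x).symm)
    rw [h5]
  have h0 : Order.coheight (f.asFiber x) = 0 := Order.coheight_eq_zero.mpr hmaxz
  rw [ringKrullDim_stalk_eq_coheight (f.asFiber x), h0]
  rfl

theorem fibreDimAt_eq_td_of_forall [LocallyOfFiniteType f] (x : X)
    (h : ∀ x' : X, x' ⤳ x → f x' = f x → x' = x) (t : ℕ)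
    (ht : td (f.residueFieldMap x).hom = (t : Cardinal.{u})) :
    FlatMor.fibreDimAt f x = (t : WithBot ℕ∞) := by
  obtain ⟨a, b, ha, hb, hab⟩ := fibreDimAt_eq_add f x
  have hb' : ringKrullDim ((f.fiber (f x)).presheaf.stalk (f.asFiber x)) = (b : WithBot ℕ∞) := hb
  rw [fibre_stalk_dim_eq_zero f x h] at hb'
  have hb0 : b = 0 := by exact_mod_cast hb'.symm
  have hat : a = t := by
    rw [ha] at ht
    exact_mod_cast ht
  rw [hab, hb0, hat, add_zero]

theorem genericPoint_map_eq [IrreducibleSpace X] [IrreducibleSpace Y] (hf : DenseRange f) :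
    f (genericPoint X) = genericPoint Y := by
  symm
  apply genericPoint_eq_of_forall_specializes
  intro y
  have hsub : Set.range f ⊆ closure ({f (genericPoint X)} : Set Y) := by
    rintro _ ⟨x, rfl⟩
    exact ((genericPoint_specializes x).map f.continuous).mem_closed isClosed_closure
      (subset_closure rfl)
  have : closure (Set.range f) ⊆ closure ({f (genericPoint X)} : Set Y) :=
    closure_minimal hsub isClosed_closure
  rw [hf.closure_range] at this
  rw [specializes_iff_mem_closure]
  exact this trivial

end Groth.Agent.Lib.helper3.RelDim
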