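import Mathlib
import Groth.Prelude.Def_EGA43
import Groth.Agent.S0402
import Groth.Agent.Lib.Helper3.EquidimAt
import Groth.Agent.Lib.Helper3.FibreGeneric
import Groth.Agent.Lib.Helper3.FibreDimChar
import Groth.Agent.Lib.Helper3.FibreDimNat
import Groth.Agent.Lib.Helper3.FTFieldClosureDim
/-!
# Helper library (helper3): equidimensionality at a point for irreducible sources.

* `td_comp_of_surjectiveOnStalks` : `trdeg κ(w)/κ(f ι w)` is the same for `ι ≫ f` and `f` (`ι` an immersion);
* `dim_component_fibre_eq` : if `trdeg κ(t)/κ(f t) = e` for all points `t` of the open `U` maximal in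
  their fibres, all irreducible components of all fibres of `U → Y` have dimension `e`;
* `isEquidimAt_of_irreducible`, `of_isEquidimAt_irreducible` : for `W` irreducible with generic point
  `ξ`, `g : W → S` l.f.t. is equidimensional at `x` iff `closure{g ξ}` is an irreducible component
  of `S` and `dim_x g⁻¹(g x) ≤ trdeg κ(ξ)/κ(g ξ)`.
-/

set_option autoImplicit false
universe u
open CategoryTheory AlgebraicGeometry Function

namespace Groth.Agent.Lib.helper3.EquidimIrr

open Groth.Agent.Lib.helper3.DimIneq Groth.Agent.Lib.helper3.FTField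
  Groth.Agent.Lib.helper3.FibreField Groth.Agent.Lib.helper3.DimFibre
  Groth.Agent.Lib.helper3.RelDim Groth.Agent.Lib.helper3.EquidimAt
  Groth.Agent.Lib.helper3.QFinTop

theorem td_comp_of_surjectiveOnStalks {W X Y : Scheme.{u}} (ι : W ⟶ X) [SurjectiveOnStalks ι]
    (f : X ⟶ Y) (w : W) :
    td ((ι ≫ f).residueFieldMap w).hom = td (f.residueFieldMap (ι w)).hom := by
  rw [Scheme.residueFieldMap_comp]
  change td ((ι.residueFieldMap w).hom.comp (f.residueFieldMap (ι w)).hom) = _
  exact td_comp_right _ _ (residueFieldMap_surjective _ _)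

theorem dim_component_fibre_eq {X Y : Scheme.{u}} (f : X ⟶ Y) [LocallyOfFiniteType f]
    (U : X.Opens) (e : ℕ)
    (h : ∀ t : X, t ∈ U → (∀ t' : X, t' ⤳ t → f t' = f t → t' = t) →
      td (f.residueFieldMap t).hom = (e : Cardinal.{u}))
    (s : Y) (Z : Set ↥((U.ι ≫ f).fiber s))
    (hZ : Z ∈ irreducibleComponents ↥((U.ι ≫ f).fiber s)) :
    topologicalKrullDim ↥Z = (e : WithBot ℕ∞) := by
  letI := fiberOver (U.ι ≫ f) s
  haveI : LocallyOfFiniteType (((U.ι ≫ f).fiber s) ↘ Spec (CommRingCat.of (Y.residueField s))) :=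
    locallyOfFiniteType_fiber (U.ι ≫ f) s
  obtain ⟨ζ, hζ⟩ := QuasiSober.sober hZ.1 (isClosed_of_mem_irreducibleComponents Z hZ)
  have hZζ : closure ({ζ} : Set ((U.ι ≫ f).fiber s)) = Z := hζ.def
  obtain ⟨E, hE⟩ := exists_nat_trdeg_residueField (Y.residueField s) ((U.ι ≫ f).fiber s) ζ
  rw [← hZζ, dim_closure_eq_trdeg (Y.residueField s) ((U.ι ≫ f).fiber s) ζ E hE]
  have h5 : td (Curv2.resMap (Y.residueField s) ((U.ι ≫ f).fiber s) ζ) = E := hE
  rw [td_resMap_fiber (U.ι ≫ f) s ζ, td_comp_opens_ι] at h5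
  have hgu : (U.ι ≫ f) ((U.ι ≫ f).fiberι s ζ) = s := fiberι_mem (U.ι ≫ f) s ζ
  have hmax : ∀ t' : X, t' ⤳ U.ι ((U.ι ≫ f).fiberι s ζ) →
      f t' = f (U.ι ((U.ι ≫ f).fiberι s ζ)) → t' = U.ι ((U.ι ≫ f).fiberι s ζ) := by
    intro t' hsp hft
    have ht'U : t' ∈ U := hsp.mem_open U.isOpen ((U.ι ≫ f).fiberι s ζ).2
    have hg' : (U.ι ≫ f) ⟨t', ht'U⟩ = s := by
      rw [← hgu]
      exact hft
    have hmem : (⟨t', ht'U⟩ : ↥U) ∈ Set.range ((U.ι ≫ f).fiberι s) := by
      rw [(U.ι ≫ f).range_fiberι s]; exact hg'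
    obtain ⟨ζ', hζ'⟩ := hmem
    have hspU : (⟨t', ht'U⟩ : ↥U) ⤳ (U.ι ≫ f).fiberι s ζ :=
      U.ι.isOpenEmbedding.isInducing.specializes_iff.mp
        (show U.ι ⟨t', ht'U⟩ ⤳ U.ι ((U.ι ≫ f).fiberι s ζ) from hsp)
    have hsp' : ζ' ⤳ ζ := by
      rw [← fiberι_specializes_iff (U.ι ≫ f) s ζ' ζ, hζ']
      exact hspU
    have hζζ' := eq_of_specializes_of_closure_mem_irreducibleComponents ζ (hZζ ▸ hZ) ζ' hsp'
    rw [hζζ'] at hζ'
    have : U.ι ((U.ι ≫ f).fiberι s ζ) = U.ι ⟨t', ht'U⟩ := congrArg _ hζ'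
    exact this.symm
  have h6 := h (U.ι ((U.ι ≫ f).fiberι s ζ)) ((U.ι ≫ f).fiberι s ζ).2 hmax
  rw [h6] at h5
  have : e = E := by exact_mod_cast h5
  rw [this]

theorem of_isEquidimAt_irreducible {W S : Scheme.{u}} [IrreducibleSpace W] (g : W ⟶ S)
    [LocallyOfFiniteType g] (x : W) (h : EGA43.IsEquidimAt g x) :
    ∃ e : ℕ, td (g.residueFieldMap (genericPoint W)).hom = (e : Cardinal.{u}) ∧
      closure ({g (genericPoint W)} : Set S) ∈ irreducibleComponents S ∧
      FlatMor.fibreDimAt g x = (e : WithBot ℕ∞) := by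
  obtain ⟨e, U, hxU, hA, hB⟩ := h
  have hξU : genericPoint W ∈ U := (genericPoint_specializes x).mem_open U.isOpen hxU
  have hξmax : ∀ ω : W, ω ⤳ genericPoint W → ω = genericPoint W :=
    fun ω h => (h.antisymm (genericPoint_specializes ω)).eq
  refine ⟨e, td_eq_of_isEquidimAt g U e hB _ hξU hξmax,
    closure_image_mem_of_isEquidimAt g U (fun Z hZ => ?_) _ hξU hξmax,
    fibreDimAt_eq_of_isEquidimAt g U e hB x hxU⟩
  obtain ⟨W', hW', -, h⟩ := hA Z hZ
  exact ⟨W', hW', h⟩

theorem isEquidimAt_of_irreducible {W S : Scheme.{u}} [IrreducibleSpace W] (g : W ⟶ S)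
    [LocallyOfFiniteType g] (x : W) (e : ℕ)
    (he : td (g.residueFieldMap (genericPoint W)).hom = (e : Cardinal.{u}))
    (hcomp : closure ({g (genericPoint W)} : Set S) ∈ irreducibleComponents S)
    (hx : FlatMor.fibreDimAt g x ≤ (e : WithBot ℕ∞)) : EGA43.IsEquidimAt g x := by
  have hξmax : ∀ ω : W, ω ⤳ genericPoint W → ω = genericPoint W :=
    fun ω h => (h.antisymm (genericPoint_specializes ω)).eq
  have hfdξ : FlatMor.fibreDimAt g (genericPoint W) = (e : WithBot ℕ∞) :=
    fibreDimAt_eq_td_of_forall g _ (fun x' h _ => hξmax x' h) e he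
  obtain ⟨V, hVdef⟩ : ∃ V : W.Opens, ∀ v : W, v ∈ V ↔ FlatMor.fibreDimAt g v ≤ (e : WithBot ℕ∞) :=
    ⟨⟨{v | FlatMor.fibreDimAt g v ≤ (e : WithBot ℕ∞)}, Groth.Agent.S0402.result g e⟩,
      fun v => Iff.rfl⟩
  have hxV : x ∈ V := (hVdef x).mpr hx
  have hξV : genericPoint W ∈ V := (genericPoint_specializes x).mem_open V.isOpen hxV
  have hmaxtd : ∀ t : W, t ∈ V → (∀ t' : W, t' ⤳ t → g t' = g t → t' = t) →
      td (g.residueFieldMap t).hom = (e : Cardinal.{u}) := by
    intro t htV hmax
    obtain ⟨a, b, ha, hb, hab⟩ := fibreDimAt_eq_add g t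
    have hfd := fibreDimAt_eq_td_of_forall g t hmax a ha
    have h1 : a ≤ e := by
      have : FlatMor.fibreDimAt g t ≤ (e : WithBot ℕ∞) := (hVdef t).mp htV
      rw [hfd] at this
      exact_mod_cast this
    have h2 : e ≤ a := by
      have hopen := Groth.Agent.S0402.result g a
      have ht' : t ∈ {v : W | FlatMor.fibreDimAt g v ≤ (a : WithBot ℕ∞)} := by
        rw [Set.mem_ofPred_eq, hfd]
      have := (genericPoint_specializes t).mem_open hopen ht'
      rw [Set.mem_ofPred_eq, hfdξ] at this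
      exact_mod_cast this
    rw [ha, le_antisymm h1 h2]
  refine ⟨e, V, hxV, ?_, ?_⟩
  · intro Z hZ
    refine ⟨closure {g (genericPoint W)}, hcomp, ?_, ?_⟩
    · exact ((genericPoint_specializes x).map g.continuous).mem_closure
    · have hqs : QuasiSober V.toScheme := inferInstance
      obtain ⟨ζ, hζ⟩ := @QuasiSober.sober V.toScheme _ hqs Z hZ.1
        (isClosed_of_mem_irreducibleComponents Z hZ)
      have hZζ : closure ({ζ} : Set V.toScheme) = Z := hζ.def
      have hζξ : V.ι ζ = genericPoint W := by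
        symm
        have hsp : (⟨genericPoint W, hξV⟩ : V.toScheme) ⤳ ζ :=
          V.ι.isOpenEmbedding.isInducing.specializes_iff.mp
            (show V.ι ⟨genericPoint W, hξV⟩ ⤳ V.ι ζ from genericPoint_specializes _)
        have := eq_of_specializes_of_closure_mem_irreducibleComponents (T := V.toScheme) ζ
          (hZζ ▸ hZ) _ hsp
        rw [← this]
        rfl
      have hcl' : closure ((V.ι ≫ g).base '' (closure ({ζ} : Set V.toScheme))) =
          closure {g (genericPoint W)} := by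
        rw [closure_image_closure (V.ι ≫ g).continuous, Set.image_singleton]
        have : (V.ι ≫ g).base ζ = g (V.ι ζ) := rfl
        rw [this, hζξ]
      rw [← hZζ]
      exact hcl'
  · intro x' Z hZ
    exact dim_component_fibre_eq g V e hmaxtd _ Z hZ

/-- a generization `z` of `x` in its fibre, maximal in the fibre, of maximal `trdeg`. -/
theorem exists_maximal_fibre_point {X S : Scheme.{u}} (f : X ⟶ S) [LocallyOfFiniteType f] (x : X) :
    ∃ (z : X) (N : ℕ), z ⤳ x ∧ f z = f x ∧ (∀ t' : X, t' ⤳ z → f t' = f z → t' = z) ∧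
      td (f.residueFieldMap z).hom = (N : Cardinal.{u}) ∧
      FlatMor.fibreDimAt f x = (N : WithBot ℕ∞) := by
  letI := fiberOver f (f x)
  haveI : LocallyOfFiniteType ((f.fiber (f x)) ↘ Spec (CommRingCat.of (S.residueField (f x)))) :=
    locallyOfFiniteType_fiber f (f x)
  have hιz : f.fiberι (f x) (f.asFiber x) = x := f.fiberι_asFiber x
  obtain ⟨W0, hW0, hzW, -⟩ :=
    exists_isAffineOpen_mem_and_subset (x := f.asFiber x) (U := ⊤) trivial
  haveI := isNoetherianRing_of_isAffineOpen (S.residueField (f x)) (f.fiber (f x)) hW0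
  obtain ⟨a, ha⟩ := exists_nat_trdeg_residueField (S.residueField (f x)) (f.fiber (f x))
    (f.asFiber x)
  have hbne : (hW0.primeIdealOf ⟨f.asFiber x, hzW⟩).asIdeal.height ≠ ⊤ :=
    Ideal.height_ne_top_of_isPrime
  obtain ⟨b, hb⟩ := ENat.ne_top_iff_exists.mp hbne
  have hb' : ringKrullDim ((f.fiber (f x)).presheaf.stalk (f.asFiber x)) = (b : WithBot ℕ∞) := by
    rw [ringKrullDim_stalk_eq_height hW0 _ hzW, ← hb]; rfl
  have hloc := localDim_eq (S.residueField (f x)) (f.fiber (f x)) (f.asFiber x) a b ha hb'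
  obtain ⟨q0, hq0min, hq0le, hht⟩ :=
    exists_minimalPrimes_height_map_eq (hW0.primeIdealOf ⟨f.asFiber x, hzW⟩).asIdeal
  haveI := hq0min.1.1
  obtain ⟨ζ, hζW, hζq⟩ := exists_point_of_prime hW0 q0
  subst hζq
  have key := height_map_add_trdeg_residueField (S.residueField (f x)) (f.fiber (f x)) hW0 ζ
    (f.asFiber x) hζW hzW hq0le
  rw [hht, ← hb, ha] at key
  have hcomp := closure_mem_irreducibleComponents hW0 ζ hζW hq0min
  have hspζ : ζ ⤳ f.asFiber x :=
    (specializes_iff_primeIdealOf_le hW0 ζ _ hζW hzW).mpr hq0le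
  have htdζ : td (Curv2.resMap (S.residueField (f x)) (f.fiber (f x)) ζ) =
      ((a + b : ℕ) : Cardinal.{u}) := by
    change @Algebra.trdeg (S.residueField (f x)) ((f.fiber (f x)).residueField ζ) _ _
      (Curv2.resAlgebra (S.residueField (f x)) (f.fiber (f x)) ζ) = _
    rw [← key]; push_cast; rw [add_comm]
  rw [td_resMap_fiber f (f x) ζ] at htdζ
  have hfz : f (f.fiberι (f x) ζ) = f x := fiberι_mem f (f x) ζ
  refine ⟨f.fiberι (f x) ζ, a + b, ?_, hfz, ?_, htdζ, hloc⟩
  · have := hspζ.map (f.fiberι (f x)).continuous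
    rwa [hιz] at this
  · intro t' hsp hft
    have hmem : t' ∈ Set.range (f.fiberι (f x)) := by
      rw [f.range_fiberι (f x)]; exact hft.trans hfz
    obtain ⟨ζ', rfl⟩ := hmem
    have hsp' : ζ' ⤳ ζ := (fiberι_specializes_iff f (f x) ζ' ζ).mp hsp
    rw [eq_of_specializes_of_closure_mem_irreducibleComponents ζ hcomp ζ' hsp']

theorem isEquidimAt_of_closedImmersion {W X S : Scheme.{u}} (ι : W ⟶ X) [IsClosedImmersion ι]
    (f : X ⟶ S) [LocallyOfFiniteType f] (x ξ : X)
    (hrange : Set.range ι = closure ({ξ} : Set X)) (hξx : ξ ⤳ x) (e : ℕ)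
    (he : td (f.residueFieldMap ξ).hom = (e : Cardinal.{u}))
    (hcomp : closure ({f ξ} : Set S) ∈ irreducibleComponents S)
    (hx : FlatMor.fibreDimAt f x ≤ (e : WithBot ℕ∞)) :
    ∃ w : W, ι w = x ∧ EGA43.IsEquidimAt (ι ≫ f) w := by
  have hemb : Topology.IsEmbedding ι := ι.isClosedEmbedding.isEmbedding
  have hirr : IsIrreducible (Set.range ι) := by
    rw [hrange]; exact isIrreducible_singleton.closure
  haveI : IrreducibleSpace ↥(Set.range ι) := Subtype.irreducibleSpace hirr
  haveI : IrreducibleSpace W := (hemb.toHomeomorph).irreducibleSpace_iff.mpr inferInstance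
  obtain ⟨wξ, hwξ⟩ : ξ ∈ Set.range ι := by rw [hrange]; exact subset_closure rfl
  obtain ⟨wx, hwx⟩ : x ∈ Set.range ι := by rw [hrange]; exact hξx.mem_closure
  have hgp : genericPoint W = wξ := by
    apply genericPoint_eq_of_forall_specializes
    intro z
    apply hemb.isInducing.specializes_iff.mp
    rw [hwξ, specializes_iff_mem_closure, ← hrange]
    exact ⟨z, rfl⟩
  refine ⟨wx, hwx, ?_⟩
  apply isEquidimAt_of_irreducible (ι ≫ f) wx e
  · rw [hgp, td_comp_of_surjectiveOnStalks, td_residueFieldMap_congr f hwξ]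
    exact he
  · rw [hgp]
    have : (ι ≫ f) wξ = f ξ := by
      change f (ι wξ) = f ξ
      rw [hwξ]
    rw [this]
    exact hcomp
  · rw [fibreDimAt_le_iff]
    intro w' hsp hfw
    rw [td_comp_of_surjectiveOnStalks]
    apply (fibreDimAt_le_iff f x e).mp hx (ι w')
    · rw [← hwx]; exact hsp.map ι.continuous
    · rw [← hwx]; exact hfw

/-- the reduced closed subscheme on the closure of a maximal point `ξ` is equidimensional over `S`
at (the point over) `x` as soon as `closure{f ξ}` is a component of `S` and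
`dim_x f⁻¹(f x) ≤ trdeg κ(ξ)/κ(f ξ)`. -/
theorem exists_equidim_component {X S : Scheme.{u}} (f : X ⟶ S) [LocallyOfFiniteType f] (x ξ : X)
    (hξ : closure ({ξ} : Set X) ∈ irreducibleComponents X) (hξx : ξ ⤳ x) (e : ℕ)
    (he : td (f.residueFieldMap ξ).hom = (e : Cardinal.{u}))
    (hcomp : closure ({f ξ} : Set S) ∈ irreducibleComponents S)
    (hx : FlatMor.fibreDimAt f x ≤ (e : WithBot ℕ∞)) :
    ∃ W : TopologicalSpace.Closeds X, (W : Set X) ∈ irreducibleComponents (X : Type u) ∧
      ∃ w : ↥((Scheme.IdealSheafData.vanishingIdeal W).subscheme),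
        (Scheme.IdealSheafData.vanishingIdeal W).subschemeι.base w = x ∧
        EGA43.IsEquidimAt ((Scheme.IdealSheafData.vanishingIdeal W).subschemeι ≫ f) w := by
  refine ⟨⟨closure {ξ}, isClosed_closure⟩, hξ, ?_⟩
  have hrange : Set.range
      (Scheme.IdealSheafData.vanishingIdeal (⟨closure {ξ}, isClosed_closure⟩ :
        TopologicalSpace.Closeds X)).subschemeι = closure ({ξ} : Set X) := by
    rw [Scheme.IdealSheafData.range_subschemeι, Scheme.IdealSheafData.coe_support_vanishingIdeal]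
    rfl
  exact isEquidimAt_of_closedImmersion _ f x ξ hrange hξx e he hcomp hx

theorem of_isEquidimAt_closedImmersion {W X S : Scheme.{u}} (ι : W ⟶ X) [IsClosedImmersion ι]
    (f : X ⟶ S) [LocallyOfFiniteType f] (hW : IsIrreducible (Set.range ι)) (w : W)
    (h : EGA43.IsEquidimAt (ι ≫ f) w) :
    ∃ (ξ : X) (e : ℕ), closure ({ξ} : Set X) = Set.range ι ∧ ξ ⤳ ι w ∧
      td (f.residueFieldMap ξ).hom = (e : Cardinal.{u}) ∧
      closure ({f ξ} : Set S) ∈ irreducibleComponents S ∧
      td (f.residueFieldMap (ι w)).hom ≤ (e : Cardinal.{u}) := by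
  have hemb : Topology.IsEmbedding ι := ι.isClosedEmbedding.isEmbedding
  haveI : IrreducibleSpace ↥(Set.range ι) := Subtype.irreducibleSpace hW
  haveI : IrreducibleSpace W := (hemb.toHomeomorph).irreducibleSpace_iff.mpr inferInstance
  obtain ⟨e, he, hcomp, hfde⟩ := of_isEquidimAt_irreducible (ι ≫ f) w h
  refine ⟨ι (genericPoint W), e, ?_, (genericPoint_specializes w).map ι.continuous, ?_, hcomp, ?_⟩
  · have := ι.isClosedEmbedding.closure_image_eq ({genericPoint W} : Set W)
    rw [Set.image_singleton] at this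
    rw [this, (genericPoint_spec W).def, Set.image_univ]
  · rw [← td_comp_of_surjectiveOnStalks]; exact he
  · rw [← td_comp_of_surjectiveOnStalks]
    exact (fibreDimAt_le_iff (ι ≫ f) w e).mp hfde.le w specializes_rfl rfl

/-- if `f` is equidimensional at every point, every point lies on an irreducible component which
(reduced) is equidimensional over `S` at the point. -/
theorem main_of_forall_isEquidimAt {X S : Scheme.{u}} (f : X ⟶ S) [LocallyOfFiniteType f]
    (h : ∀ x : X, EGA43.IsEquidimAt f x) (x : X) :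
    ∃ W : TopologicalSpace.Closeds X, (W : Set X) ∈ irreducibleComponents (X : Type u) ∧
      ∃ w : ↥((Scheme.IdealSheafData.vanishingIdeal W).subscheme),
        (Scheme.IdealSheafData.vanishingIdeal W).subschemeι.base w = x ∧
        EGA43.IsEquidimAt ((Scheme.IdealSheafData.vanishingIdeal W).subschemeι ≫ f) w := by
  obtain ⟨e, U, hxU, hA, hB⟩ := h x
  obtain ⟨ξ, hξ⟩ := QuasiSober.sober (isIrreducible_irreducibleComponent (x := x))
    isClosed_irreducibleComponent
  have hξdef : closure ({ξ} : Set X) = irreducibleComponent x := hξ.def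
  have hξc : closure ({ξ} : Set X) ∈ irreducibleComponents X :=
    hξdef ▸ irreducibleComponent_mem_irreducibleComponents x
  have hξx : ξ ⤳ x := by
    rw [specializes_iff_mem_closure, hξdef]; exact mem_irreducibleComponent
  have hξU : ξ ∈ U := hξx.mem_open U.isOpen hxU
  have hmax : ∀ ω : X, ω ⤳ ξ → ω = ξ := fun ω h =>
    eq_of_specializes_of_closure_mem_irreducibleComponents ξ hξc ω h
  refine exists_equidim_component f x ξ hξc hξx e (td_eq_of_isEquidimAt f U e hB ξ hξU hmax)
    (closure_image_mem_of_isEquidimAt f U (fun Z hZ => ?_) ξ hξU hmax)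
    (fibreDimAt_eq_of_isEquidimAt f U e hB x hxU).le
  obtain ⟨W', hW', -, h⟩ := hA Z hZ
  exact ⟨W', hW', h⟩

/-- it suffices to find equidimensional components through the maximal points of the fibres. -/
theorem main_of_maximal {X S : Scheme.{u}} (f : X ⟶ S) [LocallyOfFiniteType f]
    (h : ∀ x : X, (∀ x' : X, f.base x' = f.base x → x ∈ closure ({x'} : Set X) → x' = x) →
      ∃ W : TopologicalSpace.Closeds X, (W : Set X) ∈ irreducibleComponents (X : Type u) ∧
      ∃ w : ↥((Scheme.IdealSheafData.vanishingIdeal W).subscheme),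
        (Scheme.IdealSheafData.vanishingIdeal W).subschemeι.base w = x ∧
        EGA43.IsEquidimAt ((Scheme.IdealSheafData.vanishingIdeal W).subschemeι ≫ f) w)
    (x : X) :
    ∃ W : TopologicalSpace.Closeds X, (W : Set X) ∈ irreducibleComponents (X : Type u) ∧
      ∃ w : ↥((Scheme.IdealSheafData.vanishingIdeal W).subscheme),
        (Scheme.IdealSheafData.vanishingIdeal W).subschemeι.base w = x ∧
        EGA43.IsEquidimAt ((Scheme.IdealSheafData.vanishingIdeal W).subschemeι ≫ f) w := by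
  obtain ⟨z, N, hzx, hfz, hzmax, htdz, hfd⟩ := exists_maximal_fibre_point f x
  obtain ⟨W, hW, wz, hwz, heq⟩ := h z (fun x' hfx' hcl =>
    hzmax x' (specializes_iff_mem_closure.mpr hcl) hfx')
  have hrange : Set.range (Scheme.IdealSheafData.vanishingIdeal W).subschemeι = (W : Set X) := by
    rw [Scheme.IdealSheafData.range_subschemeι, Scheme.IdealSheafData.coe_support_vanishingIdeal]
  obtain ⟨ξ, e, hcl, hsp, he, hcomp, hle⟩ := of_isEquidimAt_closedImmersion
    (Scheme.IdealSheafData.vanishingIdeal W).subschemeι f (hrange ▸ hW.1) wz heq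
  have hwz' : (Scheme.IdealSheafData.vanishingIdeal W).subschemeι wz = z := hwz
  rw [hwz'] at hsp hle
  rw [htdz] at hle
  have hNe : N ≤ e := by exact_mod_cast hle
  refine exists_equidim_component f x ξ ?_ (hsp.trans hzx) e he hcomp ?_
  · rw [hcl, hrange]; exact hW
  · rw [hfd]; exact_mod_cast hNe

end Groth.Agent.Lib.helper3.EquidimIrr
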