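import Mathlib
import Groth.Agent.Lib.Helper3.DimBetween
/-!
# Helper library (helper3): `ht P ≤ ht Q` when primes below `P` lift to primes below `Q`.

* `height_map_span_succ_le` : `ht(Q/rB) + 1 ≤ ht Q` if `r ∈ Q` avoids the minimal primes below `Q`;
* `height_le_of_lifting` : `φ : A → B` Noetherian rings, `Q` prime of `B` over `P`, minimal over `P·B`,
  every prime `p ≤ P` is the contraction of a prime `q ≤ Q`. Then `ht P ≤ ht Q`.
-/

set_option autoImplicit false
universe u
open Function

namespace Groth.Agent.Lib.helper3.DimIneq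

theorem height_map_span_succ_le {B : Type u} [CommRing B] [IsNoetherianRing B] (Q : Ideal B)
    [Q.IsPrime] (r : B) (hrQ : r ∈ Q)
    (hr : ∀ q ∈ minimalPrimes B, q ≤ Q → r ∉ q) :
    (Q.map (Ideal.Quotient.mk (Ideal.span {r}))).height + 1 ≤ Q.height := by
  have hI : Ideal.span {r} ≤ Q := (Ideal.span_singleton_le_iff_mem Q).mpr hrQ
  have hsurj : Surjective (Ideal.Quotient.mk (Ideal.span {r})) := Ideal.Quotient.mk_surjective
  haveI hPp : (Q.map (Ideal.Quotient.mk (Ideal.span {r}))).IsPrime := by
    apply Ideal.map_isPrime_of_surjective hsurj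
    rw [Ideal.mk_ker]; exact hI
  obtain ⟨l, hlast, hlen⟩ :=
    Ideal.exists_ltSeries_length_eq_height (Q.map (Ideal.Quotient.mk (Ideal.span {r})))
  let g : PrimeSpectrum (B ⧸ Ideal.span {r}) → PrimeSpectrum B :=
    PrimeSpectrum.comap (Ideal.Quotient.mk (Ideal.span {r}))
  have hg : StrictMono g := by
    intro x y hxy
    refine lt_of_le_of_ne ?_ ?_
    · exact Ideal.comap_mono (le_of_lt hxy)
    · intro heq
      have h1 : x.asIdeal.comap (Ideal.Quotient.mk (Ideal.span {r})) =
          y.asIdeal.comap (Ideal.Quotient.mk (Ideal.span {r})) :=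
        congrArg PrimeSpectrum.asIdeal heq
      have h2 := Ideal.comap_injective_of_surjective _ hsurj h1
      exact (ne_of_lt hxy) (PrimeSpectrum.ext h2)
  let l' : LTSeries (PrimeSpectrum B) := l.map g hg
  have hlast' : l'.last = ⟨Q, inferInstance⟩ := by
    change g l.last = _
    rw [hlast]
    apply PrimeSpectrum.ext
    change (Q.map (Ideal.Quotient.mk (Ideal.span {r}))).comap (Ideal.Quotient.mk (Ideal.span {r}))
      = Q
    rw [Ideal.comap_map_of_surjective _ hsurj, ← RingHom.ker_eq_comap_bot, Ideal.mk_ker]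
    exact sup_eq_left.mpr hI
  have hrhead : r ∈ l'.head.asIdeal := by
    change r ∈ (l.head.asIdeal).comap (Ideal.Quotient.mk (Ideal.span {r}))
    rw [Ideal.mem_comap, Ideal.Quotient.eq_zero_iff_mem.mpr (Ideal.mem_span_singleton_self r)]
    exact Ideal.zero_mem _
  have hheadQ : l'.head ≤ (⟨Q, inferInstance⟩ : PrimeSpectrum B) := by
    rw [← hlast']; exact LTSeries.head_le_last l'
  obtain ⟨q0, hq0, hq0le⟩ := Ideal.exists_minimalPrimes_le (I := ⊥) (J := l'.head.asIdeal) bot_le
  have hq0Q : q0 ≤ Q := hq0le.trans hheadQ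
  have hrq0 : r ∉ q0 := hr q0 hq0 hq0Q
  have hlt : (⟨q0, hq0.1.1⟩ : PrimeSpectrum B) < l'.head := by
    refine lt_of_le_of_ne hq0le ?_
    intro heq
    apply hrq0
    have : q0 = l'.head.asIdeal := congrArg PrimeSpectrum.asIdeal heq
    rw [this]; exact hrhead
  let l'' : LTSeries (PrimeSpectrum B) := l'.cons ⟨q0, hq0.1.1⟩ hlt
  have key := height_add_length_le (l''.head) l'' le_rfl
  have hlast'' : l''.last = ⟨Q, inferInstance⟩ := by
    change (l'.cons _ hlt).last = _
    rw [RelSeries.last_cons]; exact hlast'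
  rw [hlast'', ← PrimeSpectrum.height_eq_orderHeight, ← PrimeSpectrum.height_eq_orderHeight] at key
  have hlen'' : (l''.length : ℕ∞) = (Q.map (Ideal.Quotient.mk (Ideal.span {r}))).height + 1 := by
    have h1 : l''.length = l.length + 1 := by
      simp [l'', l']
    rw [h1, ← hlen]; push_cast; rfl
  rw [hlen''] at key
  exact le_trans le_add_self key

theorem mem_minimalPrimes_of_lifting {A B : Type u} [CommRing A] [CommRing B]
    (φ : A →+* B) (P : Ideal A) [P.IsPrime] (Q : Ideal B) (hQP : Q.comap φ = P)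
    (hQ : Q ∈ minimalPrimes B)
    (hlift : ∀ p : Ideal A, p.IsPrime → p ≤ P → ∃ q : Ideal B, q.IsPrime ∧ q ≤ Q ∧ q.comap φ = p) :
    P ∈ minimalPrimes A := by
  refine ⟨⟨inferInstance, bot_le⟩, ?_⟩
  rintro p ⟨hp, -⟩ hpP
  obtain ⟨q, hq, hqQ, hqp⟩ := hlift p hp hpP
  have : Q ≤ q := hQ.2 ⟨hq, bot_le⟩ hqQ
  have hqQ' : q = Q := le_antisymm hqQ this
  rw [← hqp, hqQ', hQP]

theorem height_le_of_lifting : ∀ (m : ℕ) {A B : Type u} [CommRing A] [CommRing B]
    [IsNoetherianRing A] [IsNoetherianRing B]
    (φ : A →+* B) (P : Ideal A) [P.IsPrime] (Q : Ideal B) [Q.IsPrime] (_ : Q.comap φ = P)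
    (_ : Q ∈ (P.map φ).minimalPrimes)
    (_ : ∀ p : Ideal A, p.IsPrime → p ≤ P → ∃ q : Ideal B, q.IsPrime ∧ q ≤ Q ∧ q.comap φ = p),
    Q.height ≤ m → P.height ≤ m := by
  intro m
  induction m with
  | zero =>
    intro A B _ _ _ _ φ P _ Q _ hQP hmin hlift hQ
    have hQ0 : Q.height = 0 := le_antisymm (by exact_mod_cast hQ) zero_le
    have hQm := Ideal.height_eq_zero_iff.mp hQ0
    have := mem_minimalPrimes_of_lifting φ P Q hQP hQm hlift
    rw [Ideal.height_eq_zero_iff.mpr this]
    exact le_rfl
  | succ m ih =>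
    intro A B _ _ _ _ φ P _ Q _ hQP hmin hlift hQ
    classical
    have hfin : {q ∈ minimalPrimes B | q ≤ Q}.Finite :=
      (minimalPrimes.finite_of_isNoetherianRing B).subset (fun q hq => hq.1)
    by_cases hcase : ∃ q ∈ minimalPrimes B, q ≤ Q ∧ P ≤ q.comap φ
    · obtain ⟨q, hq, hqQ, hPq⟩ := hcase
      have h1 : P.map φ ≤ q := Ideal.map_le_iff_le_comap.mpr hPq
      have h2 : Q ≤ q := hmin.2 ⟨hq.1.1, h1⟩ hqQ
      have hQq : Q = q := le_antisymm h2 hqQ
      have hQm : Q ∈ minimalPrimes B := hQq ▸ hq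
      have := mem_minimalPrimes_of_lifting φ P Q hQP hQm hlift
      rw [Ideal.height_eq_zero_iff.mpr this]
      exact zero_le
    · push Not at hcase
      -- prime avoidance
      have hnot : ¬ ((P : Set A) ⊆ ⋃ q ∈ (↑hfin.toFinset : Set (Ideal B)), (q.comap φ : Ideal A)) := by
        intro hsub
        rw [Ideal.subset_union_prime (R := A) (f := fun q : Ideal B => q.comap φ) ⊥ ⊥] at hsub
        · obtain ⟨q, hq, hPq⟩ := hsub
          have hq' := hfin.mem_toFinset.mp hq
          exact hcase q hq'.1 hq'.2 hPq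
        · intro q hq _ _
          have hq' := hfin.mem_toFinset.mp hq
          haveI := hq'.1.1.1
          exact Ideal.comap_isPrime φ q
      obtain ⟨a, haP, hau⟩ := Set.not_subset.mp hnot
      have haq : ∀ q ∈ minimalPrimes B, q ≤ Q → φ a ∉ q := by
        intro q hq hqQ hmem
        apply hau
        simp only [Set.mem_iUnion]
        exact ⟨q, Finset.mem_coe.mpr (hfin.mem_toFinset.mpr ⟨hq, hqQ⟩), hmem⟩
      have hφaQ : φ a ∈ Q := by
        have : a ∈ Q.comap φ := hQP ▸ haP
        exact this
      have hstep := height_map_span_succ_le Q (φ a) hφaQ haq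
      -- quotients
      have hle : Ideal.span {a} ≤ (Ideal.span {φ a}).comap φ := by
        rw [Ideal.span_singleton_le_iff_mem, Ideal.mem_comap]
        exact Ideal.mem_span_singleton_self _
      set φ' := Ideal.quotientMap (Ideal.span {φ a}) φ hle with hφ'
      have hcomm : φ'.comp (Ideal.Quotient.mk (Ideal.span {a})) =
          (Ideal.Quotient.mk (Ideal.span {φ a})).comp φ := by
        ext x; rfl
      have hsA : Surjective (Ideal.Quotient.mk (Ideal.span {a})) := Ideal.Quotient.mk_surjective
      have hsB : Surjective (Ideal.Quotient.mk (Ideal.span {φ a})) := Ideal.Quotient.mk_surjective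
      have hIA : Ideal.span {a} ≤ P := (Ideal.span_singleton_le_iff_mem P).mpr haP
      have hIB : Ideal.span {φ a} ≤ Q := (Ideal.span_singleton_le_iff_mem Q).mpr hφaQ
      haveI hP'p : (P.map (Ideal.Quotient.mk (Ideal.span {a}))).IsPrime := by
        apply Ideal.map_isPrime_of_surjective hsA
        rw [Ideal.mk_ker]; exact hIA
      haveI hQ'p : (Q.map (Ideal.Quotient.mk (Ideal.span {φ a}))).IsPrime := by
        apply Ideal.map_isPrime_of_surjective hsB
        rw [Ideal.mk_ker]; exact hIB
      have hcmA : ∀ I : Ideal A, Ideal.span {a} ≤ I →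
          (I.map (Ideal.Quotient.mk (Ideal.span {a}))).comap (Ideal.Quotient.mk (Ideal.span {a}))
            = I := by
        intro I hI
        rw [Ideal.comap_map_of_surjective _ hsA, ← RingHom.ker_eq_comap_bot, Ideal.mk_ker]
        exact sup_eq_left.mpr hI
      have hcmB : ∀ I : Ideal B, Ideal.span {φ a} ≤ I →
          (I.map (Ideal.Quotient.mk (Ideal.span {φ a}))).comap
            (Ideal.Quotient.mk (Ideal.span {φ a})) = I := by
        intro I hI
        rw [Ideal.comap_map_of_surjective _ hsB, ← RingHom.ker_eq_comap_bot, Ideal.mk_ker]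
        exact sup_eq_left.mpr hI
      -- a general transfer: comap φ' (J.map mkB) = (comap φ J).map mkA for J ⊇ span{φ a}
      have htrans : ∀ (J : Ideal B) (I : Ideal A), Ideal.span {φ a} ≤ J → Ideal.span {a} ≤ I →
          J.comap φ = I →
          (J.map (Ideal.Quotient.mk (Ideal.span {φ a}))).comap φ' =
            I.map (Ideal.Quotient.mk (Ideal.span {a})) := by
        intro J I hJ hI hJI
        apply Ideal.comap_injective_of_surjective _ hsA
        rw [Ideal.comap_comap, hcomm, ← Ideal.comap_comap, hcmB J hJ, hJI, hcmA I hI]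
      have hQP' : (Q.map (Ideal.Quotient.mk (Ideal.span {φ a}))).comap φ' =
          P.map (Ideal.Quotient.mk (Ideal.span {a})) := htrans Q P hIB hIA hQP
      have hmin' : Q.map (Ideal.Quotient.mk (Ideal.span {φ a})) ∈
          ((P.map (Ideal.Quotient.mk (Ideal.span {a}))).map φ').minimalPrimes := by
        have e1 : (P.map (Ideal.Quotient.mk (Ideal.span {a}))).map φ' =
            (P.map φ).map (Ideal.Quotient.mk (Ideal.span {φ a})) := by
          rw [Ideal.map_map, hcomm, ← Ideal.map_map]
        rw [e1, Ideal.minimalPrimes_map_of_surjective hsB]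
        refine ⟨Q, ?_, rfl⟩
        have e2 : P.map φ ⊔ RingHom.ker (Ideal.Quotient.mk (Ideal.span {φ a})) = P.map φ := by
          rw [Ideal.mk_ker]
          apply sup_eq_left.mpr
          rw [Ideal.span_singleton_le_iff_mem]
          exact Ideal.mem_map_of_mem φ haP
        rw [e2]
        exact hmin
      have hlift' : ∀ p : Ideal (A ⧸ Ideal.span {a}), p.IsPrime →
          p ≤ P.map (Ideal.Quotient.mk (Ideal.span {a})) →
          ∃ q : Ideal (B ⧸ Ideal.span {φ a}), q.IsPrime ∧
            q ≤ Q.map (Ideal.Quotient.mk (Ideal.span {φ a})) ∧ q.comap φ' = p := by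
        intro p' hp' hp'P
        haveI := hp'
        have hp0 : (p'.comap (Ideal.Quotient.mk (Ideal.span {a}))).IsPrime :=
          Ideal.comap_isPrime _ _
        have hp0P : p'.comap (Ideal.Quotient.mk (Ideal.span {a})) ≤ P := by
          rw [← hcmA P hIA]
          exact Ideal.comap_mono hp'P
        have hap0 : Ideal.span {a} ≤ p'.comap (Ideal.Quotient.mk (Ideal.span {a})) := by
          rw [Ideal.span_singleton_le_iff_mem, Ideal.mem_comap,
            Ideal.Quotient.eq_zero_iff_mem.mpr (Ideal.mem_span_singleton_self a)]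
          exact Ideal.zero_mem _
        obtain ⟨q, hq, hqQ, hqp⟩ := hlift _ hp0 hp0P
        haveI := hq
        have hφaq : Ideal.span {φ a} ≤ q := by
          rw [Ideal.span_singleton_le_iff_mem]
          have : a ∈ q.comap φ := by
            rw [hqp]; exact hap0 (Ideal.mem_span_singleton_self a)
          exact this
        refine ⟨q.map (Ideal.Quotient.mk (Ideal.span {φ a})), ?_, Ideal.map_mono hqQ, ?_⟩
        · apply Ideal.map_isPrime_of_surjective hsB
          rw [Ideal.mk_ker]; exact hφaq
        · rw [htrans q _ hφaq hap0 hqp, Ideal.map_comap_of_surjective _ hsA]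
      have hQ'ht : (Q.map (Ideal.Quotient.mk (Ideal.span {φ a}))).height ≤ (m : ℕ∞) := by
        have h1 : (Q.map (Ideal.Quotient.mk (Ideal.span {φ a}))).height + 1 ≤ (m : ℕ∞) + 1 := by
          refine hstep.trans ?_
          exact_mod_cast hQ
        exact (ENat.add_le_add_iff_right ENat.one_ne_top).mp h1
      have hP' := ih φ' (P.map (Ideal.Quotient.mk (Ideal.span {a})))
        (Q.map (Ideal.Quotient.mk (Ideal.span {φ a}))) hQP' hmin' hlift' hQ'ht
      have hfinal := Ideal.height_le_height_add_one_of_mem (p := P) haP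
      calc P.height ≤ (P.map (Ideal.Quotient.mk (Ideal.span {a}))).height + 1 := hfinal
        _ ≤ (m : ℕ∞) + 1 := by gcongr
        _ = ((m + 1 : ℕ) : ℕ∞) := by push_cast; rfl

end Groth.Agent.Lib.helper3.DimIneq
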