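import Mathlib
import Groth.Prelude.Def_EGA43
import Groth.Agent.Lib.Helper3.OpenAtDimRing
import Groth.Agent.Lib.Helper3.DimIneqSch
import Groth.Agent.Lib.Helper3.DimFun
/-!
# Helper library (helper3): morphisms open at a point (EGA IV 14.2.1 core).

* `exists_specializes_of_isOpenAt` (topological, Noetherian quasi-sober source),
  `exists_specializes_of_isOpenAt_scheme` : if `f` is open at `z`, every generization of `f z` lifts
  to a generization of `z`;
* `height_le_of_isOpenAt`, `stalk_dim_le_of_isOpenAt` : if moreover `z` is maximal in its fibre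
  then `dim O_{Y,f z} ≤ dim O_{X,z}`.
-/

set_option autoImplicit false
universe u
open CategoryTheory AlgebraicGeometry Function TopologicalSpace

namespace Groth.Agent.Lib.helper3.OpenAtDim

open Groth.Agent.Lib.helper3.DimIneq

theorem isClosed_sUnion_of_finite {T : Type*} [TopologicalSpace T] {S : Set (Set T)} (hS : S.Finite)
    (h : ∀ s ∈ S, IsClosed s) : IsClosed (⋃₀ S) := by
  rw [Set.sUnion_eq_biUnion]; exact hS.isClosed_biUnion h

theorem exists_specializes_of_isOpenAt {X Y : Type*} [TopologicalSpace X] [TopologicalSpace Y]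
    [NoetherianSpace X] [QuasiSober X] [T0Space Y] (f : X → Y) (hf : Continuous f) (z : X)
    (hopen : EGA43.IsOpenAt f z) (y' : Y) (hy' : y' ⤳ f z) : ∃ z' : X, z' ⤳ z ∧ f z' = y' := by
  obtain ⟨S, hSf, hSc, hSi, hSU⟩ := NoetherianSpace.exists_finite_set_isClosed_irreducible
    (s := f ⁻¹' closure {y'}) (isClosed_closure.preimage hf)
  set R : Set X := ⋃₀ {t ∈ S | z ∉ t} with hR
  have hRcl : IsClosed R := isClosed_sUnion_of_finite (hSf.subset (fun t ht => ht.1))
    (fun t ht => hSc t ht.1)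
  have hzR : z ∉ R := by
    rintro ⟨t, ⟨-, hzt⟩, hz⟩
    exact hzt hz
  have hnhds : Rᶜ ∈ nhds z := hRcl.isOpen_compl.mem_nhds hzR
  have himg := hopen Rᶜ hnhds
  have hy'mem : y' ∈ f '' Rᶜ := mem_of_mem_nhds (hy' himg)
  obtain ⟨u, huR, hfu⟩ := hy'mem
  have huC : u ∈ f ⁻¹' closure {y'} := by
    change f u ∈ closure ({y'} : Set Y)
    rw [hfu]; exact subset_closure rfl
  rw [hSU] at huC
  obtain ⟨t, htS, hut⟩ := huC
  have hzt : z ∈ t := by
    by_contra h
    exact huR ⟨t, ⟨htS, h⟩, hut⟩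
  obtain ⟨z', hz'⟩ := QuasiSober.sober (hSi t htS) (hSc t htS)
  have hz'z : z' ⤳ z := hz'.specializes hzt
  have hz'u : z' ⤳ u := hz'.specializes hut
  have hz't : z' ∈ t := hz'.mem
  have h1 : f z' ∈ closure {y'} := by
    have : z' ∈ f ⁻¹' closure {y'} := by rw [hSU]; exact ⟨t, htS, hz't⟩
    exact this
  have h2 : y' ⤳ f z' := specializes_iff_mem_closure.mpr h1
  have h3 : f z' ⤳ y' := hfu ▸ hz'u.map hf
  exact ⟨z', hz'z, (h3.antisymm h2).eq⟩

theorem exists_specializes_of_isOpenAt_scheme {X Y : Scheme.{u}} [IsLocallyNoetherian X]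
    (f : X ⟶ Y) (z : X) (hopen : EGA43.IsOpenAt f.base z) (y' : Y) (hy' : y' ⤳ f z) :
    ∃ z' : X, z' ⤳ z ∧ f z' = y' := by
  obtain ⟨U, hU, hzU, -⟩ := exists_isAffineOpen_mem_and_subset (x := z) (U := ⊤) trivial
  haveI : IsNoetherianRing Γ(X, U) := IsLocallyNoetherian.component_noetherian ⟨U, hU⟩
  haveI hN : NoetherianSpace U.toScheme := noetherianSpace_of_isAffineOpen U hU
  have hopen' : EGA43.IsOpenAt (U.ι ≫ f).base (⟨z, hzU⟩ : U.toScheme) := by
    intro W hW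
    have h1 : U.ι '' W ∈ nhds z :=
      U.ι.isOpenEmbedding.isOpenMap.image_mem_nhds hW
    have h2 := hopen _ h1
    rw [Set.image_image] at h2
    exact h2
  obtain ⟨z'', hz'', hfz''⟩ := exists_specializes_of_isOpenAt (X := U.toScheme) (U.ι ≫ f).base
    (U.ι ≫ f).continuous ⟨z, hzU⟩ hopen' y' hy'
  exact ⟨U.ι z'', hz''.map U.ι.continuous, hfz''⟩

theorem height_le_of_isOpenAt {X Y : Scheme.{u}} [IsLocallyNoetherian X] [IsLocallyNoetherian Y]
    (f : X ⟶ Y) {V : Y.Opens} (hV : IsAffineOpen V) {U : X.Opens} (hU : IsAffineOpen U)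
    (e : U ≤ f ⁻¹ᵁ V) (z : X) (hz : z ∈ U)
    (hopen : EGA43.IsOpenAt f.base z) (hmax : ∀ z' : X, z' ⤳ z → f z' = f z → z' = z) :
    (hV.primeIdealOf ⟨f z, e hz⟩).asIdeal.height ≤ (hU.primeIdealOf ⟨z, hz⟩).asIdeal.height := by
  haveI : IsNoetherianRing Γ(Y, V) := IsLocallyNoetherian.component_noetherian ⟨V, hV⟩
  haveI : IsNoetherianRing Γ(X, U) := IsLocallyNoetherian.component_noetherian ⟨U, hU⟩
  have hI : ∀ (w : X) (hw : w ∈ U), (hU.primeIdealOf ⟨w, hw⟩).asIdeal.comap (f.appLE V U e).hom =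
      (hV.primeIdealOf ⟨f w, e hw⟩).asIdeal := by
    intro w hw
    have := IsAffineOpen.comap_primeIdealOf_appLE (f := f) (x := w) V hV U hU e hw
    exact congrArg PrimeSpectrum.asIdeal this
  obtain ⟨m, hm⟩ := ENat.ne_top_iff_exists.mp
    (Ideal.height_ne_top_of_isPrime (I := (hU.primeIdealOf ⟨z, hz⟩).asIdeal))
  rw [← hm]
  apply height_le_of_lifting m (f.appLE V U e).hom (hV.primeIdealOf ⟨f z, e hz⟩).asIdeal
    (hU.primeIdealOf ⟨z, hz⟩).asIdeal (hI z hz)
  · refine ⟨⟨inferInstance, Ideal.map_le_iff_le_comap.mpr (hI z hz).ge⟩, ?_⟩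
    rintro q ⟨hq, hPq⟩ hqQ
    haveI := hq
    obtain ⟨z', hz'U, rfl⟩ := exists_point_of_prime hU q
    have hsp : z' ⤳ z := (specializes_iff_primeIdealOf_le hU z' z hz'U hz).mpr hqQ
    have h1 : (hV.primeIdealOf ⟨f z, e hz⟩).asIdeal ≤ (hV.primeIdealOf ⟨f z', e hz'U⟩).asIdeal := by
      rw [← hI z' hz'U]
      exact Ideal.map_le_iff_le_comap.mp hPq
    have h2 : (hV.primeIdealOf ⟨f z', e hz'U⟩).asIdeal ≤ (hV.primeIdealOf ⟨f z, e hz⟩).asIdeal := by
      rw [← hI z' hz'U, ← hI z hz]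
      exact Ideal.comap_mono hqQ
    have hfz : f z' = f z :=
      eq_of_primeIdealOf_eq hV (f z') (f z) (e hz'U) (e hz) (le_antisymm h2 h1)
    have := hmax z' hsp hfz
    subst this
    exact le_rfl
  · intro p hp hpP
    haveI := hp
    obtain ⟨y', hy'V, rfl⟩ := exists_point_of_prime hV p
    have hsp : y' ⤳ f z := (specializes_iff_primeIdealOf_le hV y' (f z) hy'V (e hz)).mpr hpP
    obtain ⟨z', hz'z, hfz'⟩ := exists_specializes_of_isOpenAt_scheme f z hopen y' hsp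
    have hz'U : z' ∈ U := hz'z.mem_open U.isOpen hz
    refine ⟨(hU.primeIdealOf ⟨z', hz'U⟩).asIdeal, inferInstance,
      (specializes_iff_primeIdealOf_le hU z' z hz'U hz).mp hz'z, ?_⟩
    rw [hI z' hz'U]
    subst hfz'
    rfl
  · rw [← hm]

theorem stalk_dim_le_of_isOpenAt {X Y : Scheme.{u}} [IsLocallyNoetherian X] [IsLocallyNoetherian Y]
    (f : X ⟶ Y) (z : X)
    (hopen : EGA43.IsOpenAt f.base z) (hmax : ∀ z' : X, z' ⤳ z → f z' = f z → z' = z) :
    ringKrullDim (Y.presheaf.stalk (f z)) ≤ ringKrullDim (X.presheaf.stalk z) := by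
  obtain ⟨V, hV, hyV, -⟩ := exists_isAffineOpen_mem_and_subset (x := f z) (U := ⊤) trivial
  obtain ⟨U, hU, hzU, e⟩ := exists_isAffineOpen_mem_and_subset (x := z) (U := f ⁻¹ᵁ V) hyV
  rw [ringKrullDim_stalk_eq_height hV (f z) (e hzU), ringKrullDim_stalk_eq_height hU z hzU]
  exact_mod_cast height_le_of_isOpenAt f hV hU e z hzU hopen hmax

end Groth.Agent.Lib.helper3.OpenAtDim
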