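import Mathlib
import Groth.Prelude.Def_EGA43
import Groth.Agent.Lib.Helper3.OpenAtDim
import Groth.Agent.Lib.Helper3.EquidimIrr
import Groth.Agent.Lib.Helper3.DimBetweenSch
/-!
# Helper library (helper3): EGA IV 14.2 — consequences of openness at the maximal points of a fibre.

* `isOpenAt_of_fibre_hyp` : unpacks the hypothesis "open at the generic points of the components of
  the fibre through `x`" stated on the fibre scheme;
* `td_le_of_isOpenAt` : `X` irreducible with generic point `ξ`, `z` maximal in its fibre, `f` open at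
  `z`: `trdeg κ(z)/κ(f z) ≤ trdeg κ(ξ)/κ(f ξ)`;
* `isEquidimAt_of_isOpenAt` (= S4917).
-/

set_option autoImplicit false
universe u
open CategoryTheory AlgebraicGeometry Function TopologicalSpace

namespace Groth.Agent.Lib.helper3.OpenAtDim

open Groth.Agent.Lib.helper3.DimIneq Groth.Agent.Lib.helper3.FTField
  Groth.Agent.Lib.helper3.FibreField Groth.Agent.Lib.helper3.DimFibre
  Groth.Agent.Lib.helper3.RelDim Groth.Agent.Lib.helper3.EquidimAt
  Groth.Agent.Lib.helper3.QFinTop Groth.Agent.Lib.helper3.EquidimIrr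

/-- the hypothesis on the fibre scheme, in terms of points of `X`. -/
theorem isOpenAt_of_fibre_hyp {X Y : Scheme.{u}} (f : X ⟶ Y) (x : X)
    (h : ∀ z : ↥(f.fiber (f.base x)), f.asFiber x ∈ closure {z} →
      (∀ z' : ↥(f.fiber (f.base x)), z ∈ closure {z'} → z' = z) →
      EGA43.IsOpenAt f.base ((f.fiberι (f.base x)).base z))
    (z : X) (hzx : z ⤳ x) (hfz : f z = f x)
    (hmax : ∀ z' : X, z' ⤳ z → f z' = f z → z' = z) : EGA43.IsOpenAt f.base z := by
  have hmem : z ∈ Set.range (f.fiberι (f x)) := by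
    rw [f.range_fiberι (f x)]; exact hfz
  obtain ⟨ζ, rfl⟩ := hmem
  apply h ζ
  · rw [← specializes_iff_mem_closure, ← fiberι_specializes_iff f (f x), f.fiberι_asFiber x]
    exact hzx
  · intro z' hz'
    have hsp : z' ⤳ ζ := specializes_iff_mem_closure.mpr hz'
    have h1 : f.fiberι (f x) z' ⤳ f.fiberι (f x) ζ := (fiberι_specializes_iff f (f x) z' ζ).mpr hsp
    have h2 := hmax _ h1 ((fiberι_mem f (f x) z').trans hfz.symm)
    exact fiberι_injective f (f x) h2

theorem td_le_of_isOpenAt {X Y : Scheme.{u}} [IsLocallyNoetherian Y] [IrreducibleSpace X]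
    (f : X ⟶ Y) [LocallyOfFiniteType f] (z : X)
    (hopen : EGA43.IsOpenAt f.base z) (hmax : ∀ z' : X, z' ⤳ z → f z' = f z → z' = z)
    (N E : ℕ) (hN : td (f.residueFieldMap z).hom = (N : Cardinal.{u}))
    (hE : td (f.residueFieldMap (genericPoint X)).hom = (E : Cardinal.{u})) : N ≤ E := by
  haveI hXN : IsLocallyNoetherian X := LocallyOfFiniteType.isLocallyNoetherian f
  obtain ⟨V, hV, hyV, -⟩ := exists_isAffineOpen_mem_and_subset (x := f z) (U := ⊤) trivial
  obtain ⟨U, hU, hzU, e⟩ := exists_isAffineOpen_mem_and_subset (x := z) (U := f ⁻¹ᵁ V) hyV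
  haveI : IsNoetherianRing Γ(Y, V) := IsLocallyNoetherian.component_noetherian ⟨V, hV⟩
  haveI : IsNoetherianRing Γ(X, U) := IsLocallyNoetherian.component_noetherian ⟨U, hU⟩
  have hsp : genericPoint X ⤳ z := genericPoint_specializes z
  have hξU : genericPoint X ∈ U := hsp.mem_open U.isOpen hzU
  have hle : (hU.primeIdealOf ⟨genericPoint X, hξU⟩).asIdeal ≤ (hU.primeIdealOf ⟨z, hzU⟩).asIdeal :=
    (specializes_iff_primeIdealOf_le hU _ z hξU hzU).mp hsp
  have hp0p : (hV.primeIdealOf ⟨f (genericPoint X), e hξU⟩).asIdeal ≤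
      (hV.primeIdealOf ⟨f z, e hzU⟩).asIdeal :=
    (specializes_iff_primeIdealOf_le hV _ _ (e hξU) (e hzU)).mp (hsp.map f.continuous)
  have key := dimension_inequality_specializes f hV hU e (genericPoint X) z hξU hzU hle N E hN hE
  have hcore := height_le_of_isOpenAt f hV hU e z hzU hopen hmax
  have huniq : ∀ p1 ∈ minimalPrimes Γ(X, U), p1 ≤ (hU.primeIdealOf ⟨z, hzU⟩).asIdeal →
      p1 = (hU.primeIdealOf ⟨genericPoint X, hξU⟩).asIdeal := by
    intro p1 hp1 _
    haveI := hp1.1.1
    obtain ⟨ζ, hζU, rfl⟩ := exists_point_of_prime hU p1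
    have := eq_genericPoint_of_mem_minimalPrimes hU ζ hζU hp1
    subst this
    rfl
  rw [height_map_eq_of_unique_minimal _ _ hle huniq] at key
  have h2 := Groth.Agent.Lib.helper3.DimIneq.height_map_le _ _ hp0p
  obtain ⟨a, ha⟩ := ENat.ne_top_iff_exists.mp
    (Ideal.height_ne_top_of_isPrime (I := (hU.primeIdealOf ⟨z, hzU⟩).asIdeal))
  obtain ⟨b, hb⟩ := ENat.ne_top_iff_exists.mp
    (Ideal.height_ne_top_of_isPrime (I := (hV.primeIdealOf ⟨f z, e hzU⟩).asIdeal))
  haveI := map_mk_isPrime _ _ hp0p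
  obtain ⟨c, hc⟩ := ENat.ne_top_iff_exists.mp
    (Ideal.height_ne_top_of_isPrime (I := (hV.primeIdealOf ⟨f z, e hzU⟩).asIdeal.map
      (Ideal.Quotient.mk (hV.primeIdealOf ⟨f (genericPoint X), e hξU⟩).asIdeal)))
  rw [← ha, ← hc] at key
  rw [← hb, ← ha] at hcore
  rw [← hc, ← hb] at h2
  have key' : a + N ≤ c + E := by exact_mod_cast key
  have hcore' : b ≤ a := by exact_mod_cast hcore
  have h2' : c ≤ b := by exact_mod_cast h2
  omega

/-- EGA IV 14.2.? (= S4917): `X` irreducible, `f` dominant l.f.t., open at the generic points of the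
components of the fibre through `x` ⇒ `f` equidimensional at `x`. -/
theorem isEquidimAt_of_isOpenAt {X Y : Scheme.{u}} [IsLocallyNoetherian Y]
    [IrreducibleSpace X] (f : X ⟶ Y) [LocallyOfFiniteType f] [IsDominant f] (x : X)
    (h : ∀ z : ↥(f.fiber (f.base x)), f.asFiber x ∈ closure {z} →
      (∀ z' : ↥(f.fiber (f.base x)), z ∈ closure {z'} → z' = z) →
      EGA43.IsOpenAt f.base ((f.fiberι (f.base x)).base z)) :
    EGA43.IsEquidimAt f x := by
  obtain ⟨E, b, hE, -, -⟩ := fibreDimAt_eq_add f (genericPoint X)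
  obtain ⟨z, N, hzx, hfz, hzmax, htdz, hfd⟩ := exists_maximal_fibre_point f x
  have hopen := isOpenAt_of_fibre_hyp f x h z hzx hfz hzmax
  have hNE := td_le_of_isOpenAt f z hopen hzmax N E htdz hE
  apply isEquidimAt_of_irreducible f x E hE
  · have hcl : closure ({f (genericPoint X)} : Set Y) = Set.univ := by
      have h1 : closure (f '' closure ({genericPoint X} : Set X)) =
          closure ({f (genericPoint X)} : Set Y) := by
        rw [closure_image_closure f.continuous, Set.image_singleton]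
      rw [← h1, (genericPoint_spec X).def, Set.image_univ]
      exact f.denseRange.closure_range
    rw [hcl]
    refine ⟨⟨⟨f x, trivial⟩, ?_⟩, fun Z _ _ => Set.subset_univ Z⟩
    rw [← hcl]
    exact isIrreducible_singleton.closure.2
  · rw [hfd]
    exact_mod_cast hNE

end Groth.Agent.Lib.helper3.OpenAtDim
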