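import Mathlib
import Groth.Prelude.Def_EGA43
import Groth.Agent.S0402
import Groth.Agent.S0403
import Groth.Agent.Lib.Helper3.OpenAtEquidim
/-!
# Helper library (helper3): EGA IV 14.2.3 core — a dominating component through a point of openness.

`exists_dominating_component` : `Y` irreducible locally Noetherian, `f` l.f.t., `ζ` maximal in its
fibre, `f` open at `ζ`. Then there is a maximal point `ξ'` of `X` with `ξ' ⤳ ζ`, `f ξ' = η` and
`trdeg κ(ξ')/κ(η) = trdeg κ(ζ)/κ(f ζ)`.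
-/

set_option autoImplicit false
universe u
open CategoryTheory AlgebraicGeometry Function TopologicalSpace

namespace Groth.Agent.Lib.helper3.OpenAtDim

open Groth.Agent.Lib.helper3.DimIneq Groth.Agent.Lib.helper3.FTField
  Groth.Agent.Lib.helper3.FibreField Groth.Agent.Lib.helper3.DimFibre
  Groth.Agent.Lib.helper3.RelDim Groth.Agent.Lib.helper3.EquidimAt
  Groth.Agent.Lib.helper3.QFinTop Groth.Agent.Lib.helper3.EquidimIrr

theorem exists_dominating_component {X Y : Scheme.{u}} [IsLocallyNoetherian Y] [IrreducibleSpace Y]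
    (f : X ⟶ Y) [LocallyOfFiniteType f] (ζ : X)
    (hopen : EGA43.IsOpenAt f.base ζ) (hmax : ∀ z' : X, z' ⤳ ζ → f z' = f ζ → z' = ζ) :
    ∃ (ξ' : X) (N : ℕ), closure ({ξ'} : Set X) ∈ irreducibleComponents X ∧ ξ' ⤳ ζ ∧
      f ξ' = genericPoint Y ∧ td (f.residueFieldMap ξ').hom = (N : Cardinal.{u}) ∧
      td (f.residueFieldMap ζ).hom = (N : Cardinal.{u}) := by
  haveI hXN : IsLocallyNoetherian X := LocallyOfFiniteType.isLocallyNoetherian f
  obtain ⟨V, hV, hyV, -⟩ := exists_isAffineOpen_mem_and_subset (x := f ζ) (U := ⊤) trivial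
  obtain ⟨U, hU, hζU, e⟩ := exists_isAffineOpen_mem_and_subset (x := ζ) (U := f ⁻¹ᵁ V) hyV
  haveI : IsNoetherianRing Γ(Y, V) := IsLocallyNoetherian.component_noetherian ⟨V, hV⟩
  haveI : IsNoetherianRing Γ(X, U) := IsLocallyNoetherian.component_noetherian ⟨U, hU⟩
  obtain ⟨q0, hq0min, hq0le, hht⟩ :=
    exists_minimalPrimes_height_map_eq (hU.primeIdealOf ⟨ζ, hζU⟩).asIdeal
  haveI := hq0min.1.1
  obtain ⟨ξ', hξ'U, rfl⟩ := exists_point_of_prime hU q0
  have hξ'c := closure_mem_irreducibleComponents hU ξ' hξ'U hq0min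
  have hsp : ξ' ⤳ ζ := (specializes_iff_primeIdealOf_le hU ξ' ζ hξ'U hζU).mpr hq0le
  have hξ'max : ∀ ω : X, ω ⤳ ξ' → ω = ξ' := fun ω h =>
    eq_of_specializes_of_closure_mem_irreducibleComponents ξ' hξ'c ω h
  obtain ⟨N, b, hN, -, -⟩ := fibreDimAt_eq_add f ζ
  obtain ⟨E, b', hE, -, -⟩ := fibreDimAt_eq_add f ξ'
  have hfdζ := fibreDimAt_eq_td_of_forall f ζ hmax N hN
  have hfdξ := fibreDimAt_eq_td_of_forall f ξ' (fun x' h _ => hξ'max x' h) E hE
  have hEN : E ≤ N := by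
    have hopen' := Groth.Agent.S0402.result f N
    have hζ' : ζ ∈ {x : X | FlatMor.fibreDimAt f x ≤ (N : WithBot ℕ∞)} := by
      rw [Set.mem_ofPred_eq, hfdζ]
    have := hsp.mem_open hopen' hζ'
    rw [Set.mem_ofPred_eq, hfdξ] at this
    exact_mod_cast this
  have hp0p : (hV.primeIdealOf ⟨f ξ', e hξ'U⟩).asIdeal ≤ (hV.primeIdealOf ⟨f ζ, e hζU⟩).asIdeal :=
    (specializes_iff_primeIdealOf_le hV _ _ (e hξ'U) (e hζU)).mp (hsp.map f.continuous)
  have key := dimension_inequality_specializes f hV hU e ξ' ζ hξ'U hζU hq0le N E hN hE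
  rw [hht] at key
  have hcore := height_le_of_isOpenAt f hV hU e ζ hζU hopen hmax
  have h2 := Groth.Agent.Lib.helper3.DimIneq.height_map_le _ _ hp0p
  obtain ⟨a, ha⟩ := ENat.ne_top_iff_exists.mp
    (Ideal.height_ne_top_of_isPrime (I := (hU.primeIdealOf ⟨ζ, hζU⟩).asIdeal))
  obtain ⟨b0, hb0⟩ := ENat.ne_top_iff_exists.mp
    (Ideal.height_ne_top_of_isPrime (I := (hV.primeIdealOf ⟨f ζ, e hζU⟩).asIdeal))
  haveI := map_mk_isPrime _ _ hp0p
  obtain ⟨c, hc⟩ := ENat.ne_top_iff_exists.mp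
    (Ideal.height_ne_top_of_isPrime (I := (hV.primeIdealOf ⟨f ζ, e hζU⟩).asIdeal.map
      (Ideal.Quotient.mk (hV.primeIdealOf ⟨f ξ', e hξ'U⟩).asIdeal)))
  obtain ⟨d0, hd0⟩ := ENat.ne_top_iff_exists.mp
    (Ideal.height_ne_top_of_isPrime (I := (hV.primeIdealOf ⟨f ξ', e hξ'U⟩).asIdeal))
  have hadd := height_add_height_map_le _ _ hp0p c hc.symm
  rw [← ha, ← hc] at key
  rw [← hb0, ← ha] at hcore
  rw [← hc, ← hb0] at h2
  rw [← hd0, ← hb0] at hadd
  have key' : a + N ≤ c + E := by exact_mod_cast key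
  have hcore' : b0 ≤ a := by exact_mod_cast hcore
  have h2' : c ≤ b0 := by exact_mod_cast h2
  have hadd' : d0 + c ≤ b0 := by exact_mod_cast hadd
  have hEN' : E = N := by omega
  have hd00 : d0 = 0 := by omega
  have hmin : (hV.primeIdealOf ⟨f ξ', e hξ'U⟩).asIdeal ∈ minimalPrimes Γ(Y, V) := by
    apply Ideal.height_eq_zero_iff.mp
    rw [← hd0, hd00]; rfl
  refine ⟨ξ', N, hξ'c, hsp, eq_genericPoint_of_mem_minimalPrimes hV (f ξ') (e hξ'U) hmin, ?_, hN⟩
  rw [hE, hEN']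

/-- the dimension of the closure of a point of a fibre scheme. -/
theorem dim_closure_fibre_point {X Y : Scheme.{u}} (f : X ⟶ Y) [LocallyOfFiniteType f] (s : Y)
    (ζ : f.fiber s) (N : ℕ) (hN : td (f.residueFieldMap (f.fiberι s ζ)).hom = (N : Cardinal.{u})) :
    topologicalKrullDim ↥(closure ({ζ} : Set (f.fiber s))) = (N : WithBot ℕ∞) := by
  letI := fiberOver f s
  haveI : LocallyOfFiniteType ((f.fiber s) ↘ Spec (CommRingCat.of (Y.residueField s))) :=
    locallyOfFiniteType_fiber f s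
  obtain ⟨E, hE⟩ := exists_nat_trdeg_residueField (Y.residueField s) (f.fiber s) ζ
  rw [dim_closure_eq_trdeg (Y.residueField s) (f.fiber s) ζ E hE]
  have h5 : td (Curv2.resMap (Y.residueField s) (f.fiber s) ζ) = E := hE
  rw [td_resMap_fiber f s ζ, hN] at h5
  have : N = E := by exact_mod_cast h5
  rw [this]

theorem fibre_maximal_of_closure_mem {X Y : Scheme.{u}} (f : X ⟶ Y) (s : Y) (ζ : f.fiber s)
    (hζ : closure ({ζ} : Set (f.fiber s)) ∈ irreducibleComponents (f.fiber s)) :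
    ∀ t' : X, t' ⤳ f.fiberι s ζ → f t' = f (f.fiberι s ζ) → t' = f.fiberι s ζ := by
  intro t' hsp hft
  have hmem : t' ∈ Set.range (f.fiberι s) := by
    rw [f.range_fiberι s]; exact hft.trans (fiberι_mem f s ζ)
  obtain ⟨ζ', rfl⟩ := hmem
  have hsp' : ζ' ⤳ ζ := (fiberι_specializes_iff f s ζ' ζ).mp hsp
  rw [eq_of_specializes_of_closure_mem_irreducibleComponents ζ hζ ζ' hsp']

theorem closure_mem_of_fibre_maximal {X Y : Scheme.{u}} (f : X ⟶ Y) (s : Y) (ζ : f.fiber s)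
    (hmax : ∀ t' : X, t' ⤳ f.fiberι s ζ → f t' = f (f.fiberι s ζ) → t' = f.fiberι s ζ) :
    closure ({ζ} : Set (f.fiber s)) ∈ irreducibleComponents (f.fiber s) := by
  apply closure_mem_irreducibleComponents_of_forall_specializes
  intro ζ' hsp
  have h1 : f.fiberι s ζ' ⤳ f.fiberι s ζ := (fiberι_specializes_iff f s ζ' ζ).mpr hsp
  have h2 := hmax _ h1 ((fiberι_mem f s ζ').trans (fiberι_mem f s ζ).symm)
  exact fiberι_injective f s h2

/-- EGA IV 14.2.4, first half: `E(y) ⊆ E(η)`. -/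
theorem exists_component_generic_fibre {X Y : Scheme.{u}} [IrreducibleSpace Y]
    [IsLocallyNoetherian Y] (f : X ⟶ Y) [LocallyOfFiniteType f] (y : Y)
    (h : ∀ x : X, f.base x = y → EGA43.IsOpenAt f.base x)
    (Z : Set ↥(f.fiber y)) (hZ : Z ∈ irreducibleComponents ↥(f.fiber y)) :
    ∃ Z' ∈ irreducibleComponents ↥(f.fiber (genericPoint Y)),
      topologicalKrullDim ↥Z' = topologicalKrullDim ↥Z := by
  obtain ⟨ζ, hζ⟩ := QuasiSober.sober hZ.1 (isClosed_of_mem_irreducibleComponents Z hZ)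
  have hZζ : closure ({ζ} : Set (f.fiber y)) = Z := hζ.def
  subst hZζ
  have hfζ : f (f.fiberι y ζ) = y := fiberι_mem f y ζ
  have hmax := fibre_maximal_of_closure_mem f y ζ hZ
  obtain ⟨ξ', N, hξ'c, hsp, hfξ', htdξ', htdζ⟩ :=
    exists_dominating_component f (f.fiberι y ζ) (h _ hfζ) hmax
  have hmem : ξ' ∈ Set.range (f.fiberι (genericPoint Y)) := by
    rw [f.range_fiberι (genericPoint Y)]; exact hfξ'
  obtain ⟨ξt, rfl⟩ := hmem
  refine ⟨closure {ξt}, closure_mem_of_fibre_maximal f _ ξt (fun t' ht' _ =>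
    eq_of_specializes_of_closure_mem_irreducibleComponents _ hξ'c t' ht'), ?_⟩
  rw [dim_closure_fibre_point f _ ξt N htdξ', dim_closure_fibre_point f y ζ N htdζ]

/-- EGA IV 14.2.4, second half: `dim X_y ≤ dim X_η`. -/
theorem dim_fibre_le_generic {X Y : Scheme.{u}} [IrreducibleSpace Y]
    [IsLocallyNoetherian Y] (f : X ⟶ Y) [LocallyOfFiniteType f] (y : Y)
    (h : ∀ x : X, f.base x = y → EGA43.IsOpenAt f.base x) :
    topologicalKrullDim ↥(f.fiber y) ≤ topologicalKrullDim ↥(f.fiber (genericPoint Y)) := by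
  rw [Groth.Agent.S0403.dim_le_iff_localDim]
  intro zt
  have hfz : f (f.fiberι y zt) = y := fiberι_mem f y zt
  rw [Groth.Agent.S0403.localDim_fiber_eq f y (f.fiberι y zt) hfz zt rfl]
  obtain ⟨z, N, hzx, hfz', hzmax, htdz, hfd⟩ := exists_maximal_fibre_point f (f.fiberι y zt)
  rw [hfd]
  have hmem : z ∈ Set.range (f.fiberι y) := by
    rw [f.range_fiberι y]; exact hfz'.trans hfz
  obtain ⟨ζ, rfl⟩ := hmem
  have hcomp := closure_mem_of_fibre_maximal f y ζ hzmax
  obtain ⟨Z', hZ', hdim⟩ := exists_component_generic_fibre f y h _ hcomp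
  rw [dim_closure_fibre_point f y ζ N htdz] at hdim
  rw [← hdim]
  exact topologicalKrullDim_subspace_le _ Z'

end Groth.Agent.Lib.helper3.OpenAtDim
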