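import Mathlib
import Groth.Prelude.Def_EGA43
import Groth.Agent.Lib.Helper3.OpenAtEquidim
import Groth.Agent.Lib.Helper3.EquidimStalk
import Groth.Agent.Lib.Helper17.FibreDim
/-!
# Helper library (helper3): EGA IV 14.2.1, the dimension formula at points where `f` is open at the
maximal points of the fibre.
-/

set_option autoImplicit false
universe u
open CategoryTheory AlgebraicGeometry Function TopologicalSpace

namespace Groth.Agent.Lib.helper3.OpenAtDim

open Groth.Agent.Lib.helper3.DimIneq Groth.Agent.Lib.helper3.FTField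
  Groth.Agent.Lib.helper3.QFinTop

theorem exists_minimalPrimes_height_map_eq_of_le {B : Type u} [CommRing B] [IsNoetherianRing B]
    (I q : Ideal B) [q.IsPrime] (hIq : I ≤ q) :
    ∃ Q' ∈ I.minimalPrimes, Q' ≤ q ∧ ∀ [Q'.IsPrime],
      (q.map (Ideal.Quotient.mk Q')).height = (q.map (Ideal.Quotient.mk I)).height := by
  have hsurj : Surjective (Ideal.Quotient.mk I) := Ideal.Quotient.mk_surjective
  haveI : (q.map (Ideal.Quotient.mk I)).IsPrime := map_mk_isPrime I q hIq
  obtain ⟨Qb, hQbmin, hQble, hht⟩ := exists_minimalPrimes_height_map_eq (q.map (Ideal.Quotient.mk I))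
  haveI : Qb.IsPrime := hQbmin.1.1
  have hQ'min : Qb.comap (Ideal.Quotient.mk I) ∈ I.minimalPrimes := by
    rw [Ideal.minimalPrimes_eq_comap]
    exact ⟨Qb, hQbmin, rfl⟩
  have hIQ' : I ≤ Qb.comap (Ideal.Quotient.mk I) := hQ'min.1.2
  have hQ'q : Qb.comap (Ideal.Quotient.mk I) ≤ q := by
    rw [← comap_map_mk I q hIq]
    exact Ideal.comap_mono hQble
  refine ⟨Qb.comap (Ideal.Quotient.mk I), hQ'min, hQ'q, ?_⟩
  intro _
  have hQb : (Qb.comap (Ideal.Quotient.mk I)).map (Ideal.Quotient.mk I) = Qb :=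
    Ideal.map_comap_of_surjective _ hsurj Qb
  have key : (q.map (Ideal.Quotient.mk (Qb.comap (Ideal.Quotient.mk I)))) =
      ((q.map (Ideal.Quotient.mk I)).map (Ideal.Quotient.mk
        ((Qb.comap (Ideal.Quotient.mk I)).map (Ideal.Quotient.mk I)))).map
        (DoubleQuot.quotQuotEquivQuotOfLE hIQ' : _ →+* _) := by
    rw [Ideal.map_map, Ideal.map_map]
    congr 1
  rw [key]
  have h2 := RingEquiv.height_map (DoubleQuot.quotQuotEquivQuotOfLE hIQ')
    ((q.map (Ideal.Quotient.mk I)).map (Ideal.Quotient.mk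
        ((Qb.comap (Ideal.Quotient.mk I)).map (Ideal.Quotient.mk I))))
  have h3 : ((q.map (Ideal.Quotient.mk I)).map (Ideal.Quotient.mk
        ((Qb.comap (Ideal.Quotient.mk I)).map (Ideal.Quotient.mk I)))).height =
      (q.map (Ideal.Quotient.mk I)).height := by
    rw [← hht]
    exact height_map_congr hQb rfl
  rw [← h3, ← h2]
  rfl

/-- the dimension of the local ring of the fibre, in an affine chart. -/
theorem dim_fibre_stalk_eq_height {X Y : Scheme.{u}} (f : X ⟶ Y) {V : Y.Opens}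
    (hV : IsAffineOpen V) {U : X.Opens} (hU : IsAffineOpen U) (e : U ≤ f ⁻¹ᵁ V) (x : X)
    (hx : x ∈ U) :
    ringKrullDim ((f.fiber (f x)).presheaf.stalk (f.asFiber x)) =
      (((hU.primeIdealOf ⟨x, hx⟩).asIdeal.map (Ideal.Quotient.mk
        ((hV.primeIdealOf ⟨f x, e hx⟩).asIdeal.map (f.appLE V U e).hom))).height : WithBot ℕ∞) := by
  rw [← Groth.Agent.Lib.helper17.FibreDim.dim_fibRing f x]
  letI : Algebra Γ(X, U) (X.presheaf.stalk x) :=
    TopCat.Presheaf.algebra_section_stalk X.presheaf ⟨x, hx⟩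
  haveI := hU.isLocalization_stalk ⟨x, hx⟩
  letI : Algebra Γ(Y, V) (Y.presheaf.stalk (f x)) :=
    TopCat.Presheaf.algebra_section_stalk Y.presheaf ⟨f x, e hx⟩
  haveI := hV.isLocalization_stalk ⟨f x, e hx⟩
  have hI : (hU.primeIdealOf ⟨x, hx⟩).asIdeal.comap (f.appLE V U e).hom =
      (hV.primeIdealOf ⟨f x, e hx⟩).asIdeal := by
    have := IsAffineOpen.comap_primeIdealOf_appLE (f := f) (x := x) V hV U hU e hx
    exact congrArg PrimeSpectrum.asIdeal this
  have hle : (hV.primeIdealOf ⟨f x, e hx⟩).asIdeal.map (f.appLE V U e).hom ≤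
      (hU.primeIdealOf ⟨x, hx⟩).asIdeal := by
    rw [Ideal.map_le_iff_le_comap, hI]
  have hcomm : (f.stalkMap x).hom.comp (Y.presheaf.germ V (f x) (e hx)).hom =
      (X.presheaf.germ U x hx).hom.comp (f.appLE V U e).hom := by
    rw [← CommRingCat.hom_comp, ← CommRingCat.hom_comp, f.germ_stalkMap,
      ← X.presheaf.germ_res (homOfLE e) x hx, Scheme.Hom.appLE, Category.assoc]
  have hideal : (IsLocalRing.maximalIdeal (Y.presheaf.stalk (f x))).map (f.stalkMap x).hom =
      ((hV.primeIdealOf ⟨f x, e hx⟩).asIdeal.map (f.appLE V U e).hom).map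
        (algebraMap Γ(X, U) (X.presheaf.stalk x)) := by
    rw [← IsLocalization.AtPrime.map_eq_maximalIdeal (hV.primeIdealOf ⟨f x, e hx⟩).asIdeal
      (Y.presheaf.stalk (f x)), Ideal.map_map, Ideal.map_map]
    congr 1
  rw [ringKrullDim_quotient_congr hideal]
  exact ringKrullDim_quotient_map_eq_height (S := X.presheaf.stalk x)
    (hU.primeIdealOf ⟨x, hx⟩).asIdeal _ hle

/-- EGA IV 14.2.1 (= S2559). -/
theorem dim_formula_of_isOpenAt {X Y : Scheme.{u}} [IsLocallyNoetherian X] [IsLocallyNoetherian Y]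
    (f : X ⟶ Y) (x : X)
    (h : ∀ z : ↥(f.fiber (f.base x)), f.asFiber x ∈ closure {z} →
      (∀ z' : ↥(f.fiber (f.base x)), z ∈ closure {z'} → z' = z) →
      EGA43.IsOpenAt f.base ((f.fiberι (f.base x)).base z)) :
    ringKrullDim (X.presheaf.stalk x) =
      ringKrullDim (Y.presheaf.stalk (f.base x)) +
        ringKrullDim ((f.fiber (f.base x)).presheaf.stalk (f.asFiber x)) := by
  apply le_antisymm (Groth.Agent.Lib.helper17.FibreDim.dim_stalk_le f x)
  obtain ⟨V, hV, hyV, -⟩ := exists_isAffineOpen_mem_and_subset (x := f x) (U := ⊤) trivial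
  obtain ⟨U, hU, hxU, e⟩ := exists_isAffineOpen_mem_and_subset (x := x) (U := f ⁻¹ᵁ V) hyV
  haveI : IsNoetherianRing Γ(Y, V) := IsLocallyNoetherian.component_noetherian ⟨V, hV⟩
  haveI : IsNoetherianRing Γ(X, U) := IsLocallyNoetherian.component_noetherian ⟨U, hU⟩
  have hI : ∀ (w : X) (hw : w ∈ U), (hU.primeIdealOf ⟨w, hw⟩).asIdeal.comap (f.appLE V U e).hom =
      (hV.primeIdealOf ⟨f w, e hw⟩).asIdeal := by
    intro w hw
    have := IsAffineOpen.comap_primeIdealOf_appLE (f := f) (x := w) V hV U hU e hw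
    exact congrArg PrimeSpectrum.asIdeal this
  have hle : (hV.primeIdealOf ⟨f x, e hxU⟩).asIdeal.map (f.appLE V U e).hom ≤
      (hU.primeIdealOf ⟨x, hxU⟩).asIdeal := by
    rw [Ideal.map_le_iff_le_comap, hI x hxU]
  have e1 := dim_fibre_stalk_eq_height f hV hU e x hxU
  have e2 := ringKrullDim_stalk_eq_height hV (f x) (e hxU)
  have e3 := ringKrullDim_stalk_eq_height hU x hxU
  change ringKrullDim (Y.presheaf.stalk (f x)) +
    ringKrullDim ((f.fiber (f x)).presheaf.stalk (f.asFiber x)) ≤ _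
  rw [e1, e2, e3]
  obtain ⟨Q', hQ'min, hQ'q, hht⟩ := exists_minimalPrimes_height_map_eq_of_le _ _ hle
  haveI := hQ'min.1.1
  obtain ⟨z, hzU, rfl⟩ := exists_point_of_prime hU Q'
  have hzx : z ⤳ x := (specializes_iff_primeIdealOf_le hU z x hzU hxU).mpr hQ'q
  have hzc : (hU.primeIdealOf ⟨z, hzU⟩).asIdeal.comap (f.appLE V U e).hom =
      (hV.primeIdealOf ⟨f x, e hxU⟩).asIdeal := by
    apply le_antisymm
    · rw [← hI x hxU]
      exact Ideal.comap_mono hQ'q
    · rw [← Ideal.map_le_iff_le_comap]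
      exact hQ'min.1.2
  have hpz : (hV.primeIdealOf ⟨f z, e hzU⟩).asIdeal = (hV.primeIdealOf ⟨f x, e hxU⟩).asIdeal := by
    rw [← hI z hzU, hzc]
  have hfz : f z = f x := eq_of_primeIdealOf_eq hV (f z) (f x) (e hzU) (e hxU) hpz
  have hzmax : ∀ z' : X, z' ⤳ z → f z' = f z → z' = z := by
    intro z' hsp hfz'
    have hz'U : z' ∈ U := hsp.mem_open U.isOpen hzU
    have hle' : (hU.primeIdealOf ⟨z', hz'U⟩).asIdeal ≤ (hU.primeIdealOf ⟨z, hzU⟩).asIdeal :=
      (specializes_iff_primeIdealOf_le hU z' z hz'U hzU).mp hsp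
    have hp' : (hV.primeIdealOf ⟨f x, e hxU⟩).asIdeal.map (f.appLE V U e).hom ≤
        (hU.primeIdealOf ⟨z', hz'U⟩).asIdeal := by
      rw [Ideal.map_le_iff_le_comap, hI z' hz'U, ← hpz]
      have : f z' = f z := hfz'
      exact le_of_eq (by subst_vars; congr 1 <;> simp [this])
    have hge := hQ'min.2 ⟨inferInstance, hp'⟩ hle'
    exact eq_of_primeIdealOf_eq hU z' z hz'U hzU (le_antisymm hle' hge)
  have hopen := isOpenAt_of_fibre_hyp f x h z hzx hfz hzmax
  have hcore := height_le_of_isOpenAt f hV hU e z hzU hopen hzmax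
  rw [hpz] at hcore
  haveI := map_mk_isPrime _ _ hQ'q
  obtain ⟨k, hk⟩ := ENat.ne_top_iff_exists.mp
    (Ideal.height_ne_top_of_isPrime (I := (hU.primeIdealOf ⟨x, hxU⟩).asIdeal.map
      (Ideal.Quotient.mk (hU.primeIdealOf ⟨z, hzU⟩).asIdeal)))
  have hadd := height_add_height_map_le _ _ hQ'q k hk.symm
  rw [← hht, ← hk]
  have : (hV.primeIdealOf ⟨f x, e hxU⟩).asIdeal.height + (k : ℕ∞) ≤
      (hU.primeIdealOf ⟨x, hxU⟩).asIdeal.height :=
    (add_le_add_left hcore _).trans hadd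
  exact_mod_cast this

end Groth.Agent.Lib.helper3.OpenAtDim
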