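import Mathlib
import Groth.Agent.Lib.Helper3.OpenAtDimRing
import Groth.Agent.Lib.Helper3.FTFieldRing
/-!
# Helper library (helper3): relative version of `height_le_of_lifting`.

* `height_map_le_of_lifting` : `φ : A → B` Noetherian rings, `I ≤ P` in `A`, `Q` prime of `B` over `P`,
  minimal over `P·B`, every prime `I ≤ p ≤ P` is the contraction of a prime `q ≤ Q`. Then
  `ht(P/I) ≤ ht(Q/IB)`.
* `height_map_map_mk` : `ht((p/I)/(J/I)) = ht(p/J)`.
-/

set_option autoImplicit false
universe u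
open Function

namespace Groth.Agent.Lib.helper3.DimIneq

open Groth.Agent.Lib.helper3.FTField

theorem height_map_map_mk {A : Type u} [CommRing A] (I J p : Ideal A) (hIJ : I ≤ J) :
    ((p.map (Ideal.Quotient.mk I)).map
      (Ideal.Quotient.mk (J.map (Ideal.Quotient.mk I)))).height =
      (p.map (Ideal.Quotient.mk J)).height := by
  have key : p.map (Ideal.Quotient.mk J) =
      ((p.map (Ideal.Quotient.mk I)).map (Ideal.Quotient.mk (J.map (Ideal.Quotient.mk I)))).map
        (DoubleQuot.quotQuotEquivQuotOfLE hIJ : _ →+* _) := by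
    rw [Ideal.map_map, Ideal.map_map]
    congr 1
  rw [key]
  exact (RingEquiv.height_map (DoubleQuot.quotQuotEquivQuotOfLE hIJ) _).symm

theorem height_map_le_of_lifting {A B : Type u} [CommRing A] [CommRing B]
    [IsNoetherianRing A] [IsNoetherianRing B]
    (φ : A →+* B) (I : Ideal A) (P : Ideal A) [P.IsPrime] (Q : Ideal B) [Q.IsPrime] (hIA : I ≤ P)
    (hQP : Q.comap φ = P) (hmin : Q ∈ (P.map φ).minimalPrimes)
    (hlift : ∀ p : Ideal A, p.IsPrime → I ≤ p → p ≤ P →
      ∃ q : Ideal B, q.IsPrime ∧ q ≤ Q ∧ q.comap φ = p) :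
    (P.map (Ideal.Quotient.mk I)).height ≤ (Q.map (Ideal.Quotient.mk (I.map φ))).height := by
  have hle : I ≤ (I.map φ).comap φ := Ideal.le_comap_map
  set φ' := Ideal.quotientMap (I.map φ) φ hle with hφ'
  have hcomm : φ'.comp (Ideal.Quotient.mk I) = (Ideal.Quotient.mk (I.map φ)).comp φ := by
    ext x; rfl
  have hsA : Surjective (Ideal.Quotient.mk I) := Ideal.Quotient.mk_surjective
  have hsB : Surjective (Ideal.Quotient.mk (I.map φ)) := Ideal.Quotient.mk_surjective
  have hIB : I.map φ ≤ Q := by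
    rw [Ideal.map_le_iff_le_comap, hQP]; exact hIA
  haveI hP'p : (P.map (Ideal.Quotient.mk I)).IsPrime := map_mk_isPrime I P hIA
  haveI hQ'p : (Q.map (Ideal.Quotient.mk (I.map φ))).IsPrime := map_mk_isPrime _ Q hIB
  have htrans : ∀ (J : Ideal B) (K : Ideal A), I.map φ ≤ J → I ≤ K → J.comap φ = K →
      (J.map (Ideal.Quotient.mk (I.map φ))).comap φ' = K.map (Ideal.Quotient.mk I) := by
    intro J K hJ hK hJK
    apply Ideal.comap_injective_of_surjective _ hsA
    rw [Ideal.comap_comap, hcomm, ← Ideal.comap_comap, comap_map_mk _ J hJ, hJK,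
      comap_map_mk _ K hK]
  have hQP' : (Q.map (Ideal.Quotient.mk (I.map φ))).comap φ' = P.map (Ideal.Quotient.mk I) :=
    htrans Q P hIB hIA hQP
  have hmin' : Q.map (Ideal.Quotient.mk (I.map φ)) ∈
      ((P.map (Ideal.Quotient.mk I)).map φ').minimalPrimes := by
    have e1 : (P.map (Ideal.Quotient.mk I)).map φ' =
        (P.map φ).map (Ideal.Quotient.mk (I.map φ)) := by
      rw [Ideal.map_map, hcomm, ← Ideal.map_map]
    rw [e1, Ideal.minimalPrimes_map_of_surjective hsB]
    refine ⟨Q, ?_, rfl⟩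
    have e2 : P.map φ ⊔ RingHom.ker (Ideal.Quotient.mk (I.map φ)) = P.map φ := by
      rw [Ideal.mk_ker]
      exact sup_eq_left.mpr (Ideal.map_mono hIA)
    rw [e2]
    exact hmin
  have hlift' : ∀ p : Ideal (A ⧸ I), p.IsPrime → p ≤ P.map (Ideal.Quotient.mk I) →
      ∃ q : Ideal (B ⧸ I.map φ), q.IsPrime ∧
        q ≤ Q.map (Ideal.Quotient.mk (I.map φ)) ∧ q.comap φ' = p := by
    intro p' hp' hp'P
    haveI := hp'
    have hp0 : (p'.comap (Ideal.Quotient.mk I)).IsPrime := Ideal.comap_isPrime _ _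
    have hp0P : p'.comap (Ideal.Quotient.mk I) ≤ P := by
      rw [← comap_map_mk I P hIA]
      exact Ideal.comap_mono hp'P
    have hap0 : I ≤ p'.comap (Ideal.Quotient.mk I) := by
      intro a ha
      rw [Ideal.mem_comap, Ideal.Quotient.eq_zero_iff_mem.mpr ha]
      exact Ideal.zero_mem _
    obtain ⟨q, hq, hqQ, hqp⟩ := hlift _ hp0 hap0 hp0P
    haveI := hq
    have hφaq : I.map φ ≤ q := by
      rw [Ideal.map_le_iff_le_comap, hqp]; exact hap0
    refine ⟨q.map (Ideal.Quotient.mk (I.map φ)), map_mk_isPrime _ q hφaq, Ideal.map_mono hqQ, ?_⟩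
    rw [htrans q _ hφaq hap0 hqp, Ideal.map_comap_of_surjective _ hsA]
  obtain ⟨m, hm⟩ := ENat.ne_top_iff_exists.mp
    (Ideal.height_ne_top_of_isPrime (I := Q.map (Ideal.Quotient.mk (I.map φ))))
  rw [← hm]
  exact height_le_of_lifting m φ' _ _ hQP' hmin' hlift' (by rw [← hm])

end Groth.Agent.Lib.helper3.DimIneq
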