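import Mathlib
import Groth.Prelude.Def_EGA43
import Groth.Agent.S0402
import Groth.Agent.S0403
import Groth.Agent.Lib.Helper3.OpenAtComp
import Groth.Agent.Lib.Helper3.OpenAtFormula
import Groth.Agent.Lib.Helper3.OpenAtGenRing
/-!
# Helper library (helper3): generizations lift along a morphism open at a fibre-maximal point,
with the same transcendence degree (EGA IV 14.2.3–14.2.5 core).

`exists_generization_td_eq` : `Y` locally Noetherian, `f` l.f.t., `ζ` maximal in its fibre, `f` open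
at `ζ`, `y' ⤳ f ζ`. Then there is `ξ' ⤳ ζ`, maximal in its fibre, with `f ξ' = y'` and
`trdeg κ(ξ')/κ(y') = trdeg κ(ζ)/κ(f ζ)`.
-/

set_option autoImplicit false
universe u
open CategoryTheory AlgebraicGeometry Function TopologicalSpace

namespace Groth.Agent.Lib.helper3.OpenAtDim

open Groth.Agent.Lib.helper3.DimIneq Groth.Agent.Lib.helper3.FTField
  Groth.Agent.Lib.helper3.FibreField Groth.Agent.Lib.helper3.DimFibre
  Groth.Agent.Lib.helper3.RelDim Groth.Agent.Lib.helper3.EquidimAt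
  Groth.Agent.Lib.helper3.QFinTop Groth.Agent.Lib.helper3.EquidimIrr

theorem comap_primeIdealOf {X Y : Scheme.{u}} (f : X ⟶ Y) {V : Y.Opens} (hV : IsAffineOpen V)
    {U : X.Opens} (hU : IsAffineOpen U) (e : U ≤ f ⁻¹ᵁ V) (w : X) (hw : w ∈ U) :
    (hU.primeIdealOf ⟨w, hw⟩).asIdeal.comap (f.appLE V U e).hom =
      (hV.primeIdealOf ⟨f w, e hw⟩).asIdeal := by
  have := IsAffineOpen.comap_primeIdealOf_appLE (f := f) (x := w) V hV U hU e hw
  exact congrArg PrimeSpectrum.asIdeal this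

theorem mem_minimalPrimes_of_fibre_maximal {X Y : Scheme.{u}} (f : X ⟶ Y) {V : Y.Opens}
    (hV : IsAffineOpen V) {U : X.Opens} (hU : IsAffineOpen U) (e : U ≤ f ⁻¹ᵁ V) (z : X)
    (hz : z ∈ U) (hmax : ∀ z' : X, z' ⤳ z → f z' = f z → z' = z) :
    (hU.primeIdealOf ⟨z, hz⟩).asIdeal ∈
      ((hV.primeIdealOf ⟨f z, e hz⟩).asIdeal.map (f.appLE V U e).hom).minimalPrimes := by
  have hI := comap_primeIdealOf f hV hU e
  refine ⟨⟨inferInstance, Ideal.map_le_iff_le_comap.mpr (hI z hz).ge⟩, ?_⟩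
  rintro q ⟨hq, hPq⟩ hqQ
  haveI := hq
  obtain ⟨z', hz'U, rfl⟩ := exists_point_of_prime hU q
  have hsp : z' ⤳ z := (specializes_iff_primeIdealOf_le hU z' z hz'U hz).mpr hqQ
  have h1 : (hV.primeIdealOf ⟨f z, e hz⟩).asIdeal ≤ (hV.primeIdealOf ⟨f z', e hz'U⟩).asIdeal := by
    rw [← hI z' hz'U]
    exact Ideal.map_le_iff_le_comap.mp hPq
  have h2 : (hV.primeIdealOf ⟨f z', e hz'U⟩).asIdeal ≤ (hV.primeIdealOf ⟨f z, e hz⟩).asIdeal := by
    rw [← hI z' hz'U, ← hI z hz]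
    exact Ideal.comap_mono hqQ
  have hfz : f z' = f z :=
    eq_of_primeIdealOf_eq hV (f z') (f z) (e hz'U) (e hz) (le_antisymm h2 h1)
  have := hmax z' hsp hfz
  subst this
  exact le_rfl

theorem lifting_of_isOpenAt {X Y : Scheme.{u}} [IsLocallyNoetherian X] (f : X ⟶ Y) {V : Y.Opens}
    (hV : IsAffineOpen V) {U : X.Opens} (hU : IsAffineOpen U) (e : U ≤ f ⁻¹ᵁ V) (z : X)
    (hz : z ∈ U) (hopen : EGA43.IsOpenAt f.base z) :
    ∀ p : Ideal Γ(Y, V), p.IsPrime → p ≤ (hV.primeIdealOf ⟨f z, e hz⟩).asIdeal →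
      ∃ q : Ideal Γ(X, U), q.IsPrime ∧ q ≤ (hU.primeIdealOf ⟨z, hz⟩).asIdeal ∧
        q.comap (f.appLE V U e).hom = p := by
  have hI := comap_primeIdealOf f hV hU e
  intro p hp hpP
  haveI := hp
  obtain ⟨y', hy'V, rfl⟩ := exists_point_of_prime hV p
  have hsp : y' ⤳ f z := (specializes_iff_primeIdealOf_le hV y' (f z) hy'V (e hz)).mpr hpP
  obtain ⟨z', hz'z, hfz'⟩ := exists_specializes_of_isOpenAt_scheme f z hopen y' hsp
  have hz'U : z' ∈ U := hz'z.mem_open U.isOpen hz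
  refine ⟨(hU.primeIdealOf ⟨z', hz'U⟩).asIdeal, inferInstance,
    (specializes_iff_primeIdealOf_le hU z' z hz'U hz).mp hz'z, ?_⟩
  rw [hI z' hz'U]
  subst hfz'
  rfl

theorem exists_generization_td_eq {X Y : Scheme.{u}} [IsLocallyNoetherian Y]
    (f : X ⟶ Y) [LocallyOfFiniteType f] (ζ : X)
    (hopen : EGA43.IsOpenAt f.base ζ) (hmax : ∀ z' : X, z' ⤳ ζ → f z' = f ζ → z' = ζ)
    (y' : Y) (hy' : y' ⤳ f ζ) :
    ∃ (ξ' : X) (N : ℕ), ξ' ⤳ ζ ∧ f ξ' = y' ∧ (∀ t : X, t ⤳ ξ' → f t = f ξ' → t = ξ') ∧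
      td (f.residueFieldMap ξ').hom = (N : Cardinal.{u}) ∧
      td (f.residueFieldMap ζ).hom = (N : Cardinal.{u}) := by
  haveI hXN : IsLocallyNoetherian X := LocallyOfFiniteType.isLocallyNoetherian f
  obtain ⟨V, hV, hyV, -⟩ := exists_isAffineOpen_mem_and_subset (x := f ζ) (U := ⊤) trivial
  obtain ⟨U, hU, hζU, e⟩ := exists_isAffineOpen_mem_and_subset (x := ζ) (U := f ⁻¹ᵁ V) hyV
  haveI : IsNoetherianRing Γ(Y, V) := IsLocallyNoetherian.component_noetherian ⟨V, hV⟩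
  haveI : IsNoetherianRing Γ(X, U) := IsLocallyNoetherian.component_noetherian ⟨U, hU⟩
  have hy'V : y' ∈ V := hy'.mem_open V.isOpen hyV
  have hI := comap_primeIdealOf f hV hU e
  have hp'p : (hV.primeIdealOf ⟨y', hy'V⟩).asIdeal ≤ (hV.primeIdealOf ⟨f ζ, e hζU⟩).asIdeal :=
    (specializes_iff_primeIdealOf_le hV y' (f ζ) hy'V (e hζU)).mp hy'
  have hminP := mem_minimalPrimes_of_fibre_maximal f hV hU e ζ hζU hmax
  have hlift := lifting_of_isOpenAt f hV hU e ζ hζU hopen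
  have hb0a := height_map_le_of_lifting (f.appLE V U e).hom (hV.primeIdealOf ⟨y', hy'V⟩).asIdeal
    (hV.primeIdealOf ⟨f ζ, e hζU⟩).asIdeal (hU.primeIdealOf ⟨ζ, hζU⟩).asIdeal hp'p (hI ζ hζU)
    hminP (fun p1 hp1 _ hp1p => hlift p1 hp1 hp1p)
  have hp'BP : (hV.primeIdealOf ⟨y', hy'V⟩).asIdeal.map (f.appLE V U e).hom ≤
      (hU.primeIdealOf ⟨ζ, hζU⟩).asIdeal := by
    rw [Ideal.map_le_iff_le_comap, hI ζ hζU]; exact hp'p
  obtain ⟨Q0, hQ0min, hQ0le, hht⟩ := exists_minimalPrimes_height_map_eq_of_le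
    ((hV.primeIdealOf ⟨y', hy'V⟩).asIdeal.map (f.appLE V U e).hom)
    (hU.primeIdealOf ⟨ζ, hζU⟩).asIdeal hp'BP
  haveI := hQ0min.1.1
  obtain ⟨ξ', hξ'U, rfl⟩ := exists_point_of_prime hU Q0
  have hsp : ξ' ⤳ ζ := (specializes_iff_primeIdealOf_le hU ξ' ζ hξ'U hζU).mpr hQ0le
  have hp'q0 : (hV.primeIdealOf ⟨y', hy'V⟩).asIdeal ≤ (hV.primeIdealOf ⟨f ξ', e hξ'U⟩).asIdeal := by
    rw [← hI ξ' hξ'U]
    exact Ideal.map_le_iff_le_comap.mp hQ0min.1.2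
  have hq0p : (hV.primeIdealOf ⟨f ξ', e hξ'U⟩).asIdeal ≤ (hV.primeIdealOf ⟨f ζ, e hζU⟩).asIdeal :=
    (specializes_iff_primeIdealOf_le hV _ _ (e hξ'U) (e hζU)).mp (hsp.map f.continuous)
  obtain ⟨N, b, hN, -, -⟩ := fibreDimAt_eq_add f ζ
  obtain ⟨E, b', hE, -, hfdξ⟩ := fibreDimAt_eq_add f ξ'
  have hfdζ := fibreDimAt_eq_td_of_forall f ζ hmax N hN
  have hEN : E + b' ≤ N := by
    have hopen' := Groth.Agent.S0402.result f N
    have hζ' : ζ ∈ {x : X | FlatMor.fibreDimAt f x ≤ (N : WithBot ℕ∞)} := by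
      rw [Set.mem_ofPred_eq, hfdζ]
    have := hsp.mem_open hopen' hζ'
    rw [Set.mem_ofPred_eq, hfdξ] at this
    exact_mod_cast this
  have key := dimension_inequality_specializes f hV hU e ξ' ζ hξ'U hζU hQ0le N E hN hE
  rw [hht] at key
  haveI := map_mk_isPrime _ _ hp'p
  haveI := map_mk_isPrime _ _ hp'q0
  haveI := map_mk_isPrime _ _ hq0p
  haveI := map_mk_isPrime _ _ hp'BP
  obtain ⟨a, ha⟩ := ENat.ne_top_iff_exists.mp
    (Ideal.height_ne_top_of_isPrime (I := (hU.primeIdealOf ⟨ζ, hζU⟩).asIdeal.map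
      (Ideal.Quotient.mk ((hV.primeIdealOf ⟨y', hy'V⟩).asIdeal.map (f.appLE V U e).hom))))
  obtain ⟨b0, hb0⟩ := ENat.ne_top_iff_exists.mp
    (Ideal.height_ne_top_of_isPrime (I := (hV.primeIdealOf ⟨f ζ, e hζU⟩).asIdeal.map
      (Ideal.Quotient.mk (hV.primeIdealOf ⟨y', hy'V⟩).asIdeal)))
  obtain ⟨c, hc⟩ := ENat.ne_top_iff_exists.mp
    (Ideal.height_ne_top_of_isPrime (I := (hV.primeIdealOf ⟨f ζ, e hζU⟩).asIdeal.map
      (Ideal.Quotient.mk (hV.primeIdealOf ⟨f ξ', e hξ'U⟩).asIdeal)))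
  obtain ⟨d0, hd0⟩ := ENat.ne_top_iff_exists.mp
    (Ideal.height_ne_top_of_isPrime (I := (hV.primeIdealOf ⟨f ξ', e hξ'U⟩).asIdeal.map
      (Ideal.Quotient.mk (hV.primeIdealOf ⟨y', hy'V⟩).asIdeal)))
  have hk : (((hV.primeIdealOf ⟨f ζ, e hζU⟩).asIdeal.map
      (Ideal.Quotient.mk (hV.primeIdealOf ⟨y', hy'V⟩).asIdeal)).map
      (Ideal.Quotient.mk ((hV.primeIdealOf ⟨f ξ', e hξ'U⟩).asIdeal.map
        (Ideal.Quotient.mk (hV.primeIdealOf ⟨y', hy'V⟩).asIdeal)))).height = c := by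
    rw [height_map_map_mk _ _ _ hp'q0, hc]
  have hadd := height_add_height_map_le
    ((hV.primeIdealOf ⟨f ξ', e hξ'U⟩).asIdeal.map
      (Ideal.Quotient.mk (hV.primeIdealOf ⟨y', hy'V⟩).asIdeal))
    ((hV.primeIdealOf ⟨f ζ, e hζU⟩).asIdeal.map
      (Ideal.Quotient.mk (hV.primeIdealOf ⟨y', hy'V⟩).asIdeal)) (Ideal.map_mono hq0p) c hk
  rw [← ha, ← hc] at key
  rw [← hb0, ← ha] at hb0a
  rw [← hd0, ← hb0] at hadd
  have key' : a + N ≤ c + E := by exact_mod_cast key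
  have hb0a' : b0 ≤ a := by exact_mod_cast hb0a
  have hadd' : d0 + c ≤ b0 := by exact_mod_cast hadd
  have hEN' : E = N := by omega
  have hd00 : d0 = 0 := by omega
  -- `q0 = p'`
  have hq0eq : (hV.primeIdealOf ⟨f ξ', e hξ'U⟩).asIdeal = (hV.primeIdealOf ⟨y', hy'V⟩).asIdeal := by
    have hmin : (hV.primeIdealOf ⟨f ξ', e hξ'U⟩).asIdeal.map
        (Ideal.Quotient.mk (hV.primeIdealOf ⟨y', hy'V⟩).asIdeal) ∈
        minimalPrimes (Γ(Y, V) ⧸ (hV.primeIdealOf ⟨y', hy'V⟩).asIdeal) := by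
      apply Ideal.height_eq_zero_iff.mp
      rw [← hd0, hd00]; rfl
    haveI : IsDomain (Γ(Y, V) ⧸ (hV.primeIdealOf ⟨y', hy'V⟩).asIdeal) :=
      Ideal.Quotient.isDomain _
    have hbot : (hV.primeIdealOf ⟨f ξ', e hξ'U⟩).asIdeal.map
        (Ideal.Quotient.mk (hV.primeIdealOf ⟨y', hy'V⟩).asIdeal) = ⊥ := by
      have h1 := hmin.2 (⟨Ideal.isPrime_bot, le_rfl⟩ :
        (⊥ : Ideal (Γ(Y, V) ⧸ (hV.primeIdealOf ⟨y', hy'V⟩).asIdeal)).IsPrime ∧ ⊥ ≤ ⊥) bot_le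
      exact le_antisymm h1 bot_le
    have h2 := comap_map_mk _ _ hp'q0
    rw [hbot, ← RingHom.ker_eq_comap_bot, Ideal.mk_ker] at h2
    exact h2.symm
  have hfξ' : f ξ' = y' := eq_of_primeIdealOf_eq hV (f ξ') y' (e hξ'U) hy'V hq0eq
  refine ⟨ξ', N, hsp, hfξ', ?_, ?_, hN⟩
  · intro t ht hft
    have htU : t ∈ U := ht.mem_open U.isOpen hξ'U
    have hle : (hU.primeIdealOf ⟨t, htU⟩).asIdeal ≤ (hU.primeIdealOf ⟨ξ', hξ'U⟩).asIdeal :=
      (specializes_iff_primeIdealOf_le hU t ξ' htU hξ'U).mp ht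
    have h1 : (hV.primeIdealOf ⟨y', hy'V⟩).asIdeal.map (f.appLE V U e).hom ≤
        (hU.primeIdealOf ⟨t, htU⟩).asIdeal := by
      rw [Ideal.map_le_iff_le_comap, hI t htU]
      have : f t = y' := hft.trans hfξ'
      subst this
      exact le_rfl
    have h2 := hQ0min.2 ⟨inferInstance, h1⟩ hle
    have h3 : t ⤳ ξ' := ht
    have h4 : ξ' ⤳ t := (specializes_iff_primeIdealOf_le hU ξ' t hξ'U htU).mpr h2
    exact (h3.antisymm h4).eq
  · rw [hE, hEN']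

end Groth.Agent.Lib.helper3.OpenAtDim
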