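import Mathlib
import Groth.Prelude.Def_EGA43
import Groth.Agent.S0402
import Groth.Agent.S0403
import Groth.Agent.Lib.Helper3.OpenAtGen
import Groth.Agent.Lib.Helper3.ConsNhds
/-!
# Helper library (helper3): EGA IV 14.2.5 / 14.2.6 — local constancy of the fibre dimension.
-/

set_option autoImplicit false
universe u
open CategoryTheory AlgebraicGeometry Function TopologicalSpace Topology

namespace Groth.Agent.Lib.helper3.OpenAtDim

open Groth.Agent.Lib.helper3.DimIneq Groth.Agent.Lib.helper3.FTField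
  Groth.Agent.Lib.helper3.FibreField Groth.Agent.Lib.helper3.DimFibre
  Groth.Agent.Lib.helper3.RelDim Groth.Agent.Lib.helper3.EquidimAt
  Groth.Agent.Lib.helper3.QFinTop Groth.Agent.Lib.helper3.EquidimIrr
  Groth.Agent.Lib.helper3.ConsNhds

/-- if `f` is open at the points of the fibre over `y` and `y' ⤳ y` then `dim X_y ≤ dim X_{y'}`. -/
theorem dim_fibre_le_of_generization {X Y : Scheme.{u}} [IsLocallyNoetherian Y] (f : X ⟶ Y)
    [LocallyOfFiniteType f] (y : Y)
    (h : ∀ x : X, f.base x = y → EGA43.IsOpenAt f.base x) (y' : Y) (hy' : y' ⤳ y) :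
    topologicalKrullDim ↥(f.fiber y) ≤ topologicalKrullDim ↥(f.fiber y') := by
  rw [Groth.Agent.S0403.dim_le_iff_localDim]
  intro zt
  have hfz : f (f.fiberι y zt) = y := fiberι_mem f y zt
  rw [Groth.Agent.S0403.localDim_fiber_eq f y (f.fiberι y zt) hfz zt rfl]
  obtain ⟨z, N, hzx, hfz', hzmax, htdz, hfd⟩ := exists_maximal_fibre_point f (f.fiberι y zt)
  rw [hfd]
  have hfzy : f z = y := hfz'.trans hfz
  obtain ⟨ξ', N', hsp, hfξ', hξmax, htdξ, htdz'⟩ :=
    exists_generization_td_eq f z (h z hfzy) hzmax y' (hfzy ▸ hy')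
  have hNN : N' = N := by
    have := htdz'.symm.trans htdz
    exact_mod_cast this
  subst hNN
  have hmem : ξ' ∈ Set.range (f.fiberι y') := by
    rw [f.range_fiberι y']; exact hfξ'
  obtain ⟨ξt, rfl⟩ := hmem
  rw [← dim_closure_fibre_point f y' ξt N' htdξ]
  exact topologicalKrullDim_subspace_le _ _

/-- the dimension of a nonempty fibre of a quasi-compact l.f.t. morphism is attained. -/
theorem exists_fibreDimAt_eq_dim {X Y : Scheme.{u}} (f : X ⟶ Y) [LocallyOfFiniteType f]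
    [QuasiCompact f] (y : Y) (hne : ∃ x : X, f x = y) :
    ∃ (x : X) (N : ℕ), f x = y ∧ FlatMor.fibreDimAt f x = (N : WithBot ℕ∞) ∧
      topologicalKrullDim ↥(f.fiber y) = (N : WithBot ℕ∞) := by
  have hnat : ∀ x : X, ∃ n : ℕ, FlatMor.fibreDimAt f x = (n : WithBot ℕ∞) := by
    intro x
    obtain ⟨a, b, -, -, h⟩ := fibreDimAt_eq_add f x
    exact ⟨a + b, h⟩
  have hopen : ∀ n : ℕ, IsOpen {z : f.fiber y |
      FlatMor.fibreDimAt f (f.fiberι y z) ≤ (n : WithBot ℕ∞)} := fun n =>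
    (Groth.Agent.S0402.result f n).preimage (f.fiberι y).continuous
  have hcover : (Set.univ : Set (f.fiber y)) ⊆ ⋃ n : ℕ, {z : f.fiber y |
      FlatMor.fibreDimAt f (f.fiberι y z) ≤ (n : WithBot ℕ∞)} := by
    intro z _
    obtain ⟨n, hn⟩ := hnat (f.fiberι y z)
    exact Set.mem_iUnion.mpr ⟨n, by rw [Set.mem_ofPred_eq, hn]⟩
  obtain ⟨t, ht⟩ := isCompact_univ.elim_finite_subcover _ hopen hcover
  have hM : ∀ z : f.fiber y, FlatMor.fibreDimAt f (f.fiberι y z) ≤ ((t.sup id : ℕ) : WithBot ℕ∞) := by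
    intro z
    obtain ⟨n, hn⟩ := Set.mem_iUnion.mp (ht (Set.mem_univ z))
    obtain ⟨hnt, hn⟩ := Set.mem_iUnion.mp hn
    have h1 : n ≤ t.sup id := Finset.le_sup (f := id) hnt
    have h2 : FlatMor.fibreDimAt f (f.fiberι y z) ≤ (n : WithBot ℕ∞) := hn
    exact h2.trans (by exact_mod_cast h1)
  classical
  have hP : ∃ m : ℕ, ∀ z : f.fiber y,
      FlatMor.fibreDimAt f (f.fiberι y z) ≤ (m : WithBot ℕ∞) := ⟨_, hM⟩
  have hm := Nat.find_spec hP
  have hmin := fun k => Nat.find_min hP (m := k)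
  obtain ⟨x0, hx0⟩ := hne
  have hz : ∃ z : f.fiber y, FlatMor.fibreDimAt f (f.fiberι y z) = ((Nat.find hP : ℕ) : WithBot ℕ∞) := by
    rcases Nat.eq_zero_or_pos (Nat.find hP) with h0 | hpos
    · refine ⟨(f.fiberHomeo y).symm ⟨x0, hx0⟩, ?_⟩
      have h1 := hm ((f.fiberHomeo y).symm ⟨x0, hx0⟩)
      obtain ⟨n, hn⟩ := hnat (f.fiberι y ((f.fiberHomeo y).symm ⟨x0, hx0⟩))
      rw [hn] at h1 ⊢
      rw [h0] at h1 ⊢
      have : n ≤ 0 := by exact_mod_cast h1
      have : n = 0 := by omega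
      rw [this]
    · have hk := hmin (Nat.find hP - 1) (by omega)
      push Not at hk
      obtain ⟨z, hz⟩ := hk
      refine ⟨z, ?_⟩
      have h1 := hm z
      obtain ⟨n, hn⟩ := hnat (f.fiberι y z)
      rw [hn] at h1 hz ⊢
      have h2 : n ≤ Nat.find hP := by exact_mod_cast h1
      have h3 : Nat.find hP - 1 < n := by exact_mod_cast hz
      have : n = Nat.find hP := by omega
      rw [this]
  obtain ⟨z, hz⟩ := hz
  refine ⟨f.fiberι y z, Nat.find hP, fiberι_mem f y z, hz, ?_⟩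
  apply le_antisymm
  · rw [Groth.Agent.S0403.dim_le_iff_localDim]
    intro z'
    rw [Groth.Agent.S0403.localDim_fiber_eq f y (f.fiberι y z') (fiberι_mem f y z') z' rfl]
    exact hm z'
  · rw [← hz, ← Groth.Agent.S0403.localDim_fiber_eq f y (f.fiberι y z) (fiberι_mem f y z) z rfl]
    exact Groth.Agent.Lib.helper3.TopDim.localDim_le_dim z

/-- `{z | dim X_y ≤ dim X_z}` is a neighbourhood of `y` if `f` is open at the points over `y`. -/
theorem dim_fibre_ge_mem_nhds {X Y : Scheme.{u}} [IsLocallyNoetherian Y] (f : X ⟶ Y)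
    [LocallyOfFiniteType f] [QuasiCompact f] (y : Y)
    (h : ∀ x : X, f.base x = y → EGA43.IsOpenAt f.base x) :
    {z : Y | topologicalKrullDim ↥(f.fiber y) ≤ topologicalKrullDim ↥(f.fiber z)} ∈ nhds y := by
  haveI hXN : IsLocallyNoetherian X := LocallyOfFiniteType.isLocallyNoetherian f
  by_cases hne : ∃ x : X, f x = y
  · obtain ⟨x0, N, hx0, hfd, hdim⟩ := exists_fibreDimAt_eq_dim f y hne
    have hcl : IsClosed {x : X | (N : WithBot ℕ∞) ≤ FlatMor.fibreDimAt f x} := by
      rcases Nat.eq_zero_or_pos N with h0 | hpos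
      · convert isClosed_univ
        ext x
        simp only [Set.mem_ofPred_eq, Set.mem_univ, iff_true]
        obtain ⟨a, b, -, -, h⟩ := fibreDimAt_eq_add f x
        rw [h, h0]
        exact_mod_cast Nat.zero_le _
      · have := (Groth.Agent.S0402.result f (N - 1)).isClosed_compl
        convert this using 1
        ext x
        simp only [Set.mem_ofPred_eq, Set.mem_compl_iff]
        obtain ⟨a, b, -, -, h⟩ := fibreDimAt_eq_add f x
        rw [h]
        constructor
        · intro h1 h2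
          have h1' : N ≤ a + b := by exact_mod_cast h1
          have h2' : a + b ≤ N - 1 := by exact_mod_cast h2
          omega
        · intro h1
          by_contra h2
          apply h1
          have h3 : ¬ N ≤ a + b := by
            intro h3
            exact h2 (by exact_mod_cast h3)
          have h4 : a + b ≤ N - 1 := by omega
          exact_mod_cast h4
    have hlc : IsLocallyConstructible
        (f '' {x : X | (N : WithBot ℕ∞) ≤ FlatMor.fibreDimAt f x}) :=
      f.isLocallyConstructible_image (isLocallyConstructible_of_isClosed hcl)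
    have hgen : ∀ y' : Y, y' ⤳ y →
        y' ∈ f '' {x : X | (N : WithBot ℕ∞) ≤ FlatMor.fibreDimAt f x} := by
      intro y' hy'
      obtain ⟨z, N1, hzx, hfz', hzmax, htdz, hfd1⟩ := exists_maximal_fibre_point f x0
      have hN1 : N1 = N := by
        rw [hfd] at hfd1
        exact_mod_cast hfd1.symm
      subst hN1
      have hfzy : f z = y := hfz'.trans hx0
      obtain ⟨ξ', N', hsp, hfξ', hξmax, htdξ, htdz'⟩ :=
        exists_generization_td_eq f z (h z hfzy) hzmax y' (hfzy ▸ hy')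
      have hNN : N' = N1 := by
        have := htdz'.symm.trans htdz
        exact_mod_cast this
      subst hNN
      refine ⟨ξ', ?_, hfξ'⟩
      rw [Set.mem_ofPred_eq, fibreDimAt_eq_td_of_forall f ξ' hξmax N' htdξ]
    have hnh := mem_nhds_of_isLocallyConstructible hlc y hgen
    refine Filter.mem_of_superset hnh ?_
    rintro _ ⟨x, hx, rfl⟩
    rw [Set.mem_ofPred_eq, hdim]
    refine le_trans hx ?_
    rw [← Groth.Agent.S0403.localDim_fiber_eq f (f x) x rfl (f.asFiber x) (f.fiberι_asFiber x)]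
    exact Groth.Agent.Lib.helper3.TopDim.localDim_le_dim _
  · haveI : IsEmpty ↥(f.fiber y) := ⟨fun z => hne ⟨f.fiberι y z, fiberι_mem f y z⟩⟩
    have hbot : topologicalKrullDim ↥(f.fiber y) ≤ ⊥ :=
      (Groth.Agent.S0403.dim_le_iff_localDim ⊥).mpr (fun z => isEmptyElim z)
    refine Filter.mem_of_superset Filter.univ_mem ?_
    intro z _
    exact hbot.trans bot_le

/-- EGA IV 14.2.5. -/
theorem fibre_dim_locally_constant_of_proper {X Y : Scheme.{u}} [IsLocallyNoetherian Y] (f : X ⟶ Y)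
    [IsProper f] (y : Y) (h : ∀ x : X, f.base x = y → EGA43.IsOpenAt f.base x) :
    ∃ V ∈ nhds y, ∀ z ∈ V, topologicalKrullDim ↥(f.fiber z) = topologicalKrullDim ↥(f.fiber y) := by
  have h1 := dim_fibre_ge_mem_nhds f y h
  have h2 : {z : Y | topologicalKrullDim ↥(f.fiber z) ≤ topologicalKrullDim ↥(f.fiber y)} ∈ nhds y :=
    (Groth.Agent.S0403.result f (topologicalKrullDim ↥(f.fiber y))).mem_nhds
      (by rw [Set.mem_ofPred_eq])
  exact ⟨_, Filter.inter_mem h1 h2, fun z hz => le_antisymm hz.2 hz.1⟩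

/-- a neighbourhood of `y` all of whose points lie on an irreducible component through `y`. -/
theorem exists_nhds_components_through {Y : Scheme.{u}} [IsLocallyNoetherian Y] (y : Y) :
    ∃ V ∈ nhds y, ∀ z ∈ V, ∃ η : Y, closure {η} ∈ irreducibleComponents (Y : Type u) ∧ η ⤳ z ∧
      η ⤳ y := by
  obtain ⟨W, hW, hyW, -⟩ := exists_isAffineOpen_mem_and_subset (x := y) (U := ⊤) trivial
  haveI : IsNoetherianRing Γ(Y, W) := IsLocallyNoetherian.component_noetherian ⟨W, hW⟩
  haveI : Finite {q // q ∈ minimalPrimes Γ(Y, W)} :=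
    (minimalPrimes.finite_of_isNoetherianRing Γ(Y, W)).to_subtype
  obtain ⟨pt, hpt⟩ : ∃ pt : {q // q ∈ minimalPrimes Γ(Y, W)} → Y,
      ∀ q, ∃ h : pt q ∈ W, (hW.primeIdealOf ⟨pt q, h⟩).asIdeal = q.1 := by
    have : ∀ q : {q // q ∈ minimalPrimes Γ(Y, W)}, ∃ (η : Y) (h : η ∈ W),
        (hW.primeIdealOf ⟨η, h⟩).asIdeal = q.1 := by
      intro q
      haveI := q.2.1.1
      exact exists_point_of_prime hW q.1
    choose pt h1 h2 using this
    exact ⟨pt, fun q => ⟨h1 q, h2 q⟩⟩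
  have hfin : {η ∈ Set.range pt | ¬ η ⤳ y}.Finite :=
    (Set.finite_range pt).subset (fun η h => h.1)
  obtain ⟨C, hCdef⟩ : ∃ C : Set Y, C = ⋃ η ∈ {η ∈ Set.range pt | ¬ η ⤳ y}, closure {η} := ⟨_, rfl⟩
  have hC : IsClosed C := by
    rw [hCdef]; exact hfin.isClosed_biUnion (fun _ _ => isClosed_closure)
  have hyC : y ∉ C := by
    intro hy
    rw [hCdef] at hy
    obtain ⟨η, hη, hyη⟩ := Set.mem_iUnion₂.mp hy
    exact hη.2 (specializes_iff_mem_closure.mpr hyη)
  refine ⟨(W : Set Y) ∩ Cᶜ, Filter.inter_mem (W.isOpen.mem_nhds hyW) (hC.isOpen_compl.mem_nhds hyC),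
    ?_⟩
  rintro z ⟨hzW, hzC⟩
  obtain ⟨q, hq, hqz⟩ := Ideal.exists_minimalPrimes_le (I := ⊥)
    (J := (hW.primeIdealOf ⟨z, hzW⟩).asIdeal) bot_le
  obtain ⟨hηW, hηq⟩ := hpt ⟨q, hq⟩
  have hηz : pt ⟨q, hq⟩ ⤳ z := by
    rw [specializes_iff_primeIdealOf_le hW _ z hηW hzW, hηq]
    exact hqz
  have hηy : pt ⟨q, hq⟩ ⤳ y := by
    by_contra hcon
    apply hzC
    rw [hCdef]
    exact Set.mem_iUnion₂.mpr ⟨pt ⟨q, hq⟩, ⟨⟨_, rfl⟩, hcon⟩, specializes_iff_mem_closure.mp hηz⟩
  refine ⟨pt ⟨q, hq⟩, closure_mem_irreducibleComponents hW _ hηW ?_, hηz, hηy⟩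
  rw [hηq]; exact hq

/-- EGA IV 14.2.6. -/
theorem fibre_dim_locally_constant_of_open {X Y : Scheme.{u}} [IsLocallyNoetherian Y]
    (f : X ⟶ Y) [LocallyOfFiniteType f] [QuasiCompact f] (hf : IsOpenMap f.base) (y : Y)
    (h : ∀ η : Y, y ∈ closure {η} → closure {η} ∈ irreducibleComponents (Y : Type u) →
      topologicalKrullDim ↥(f.fiber y) = topologicalKrullDim ↥(f.fiber η)) :
    ∃ V ∈ nhds y, ∀ z ∈ V, topologicalKrullDim ↥(f.fiber z) = topologicalKrullDim ↥(f.fiber y) := by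
  have hopenAt : ∀ x : X, EGA43.IsOpenAt f.base x := fun x W hW => hf.image_mem_nhds hW
  have h1 := dim_fibre_ge_mem_nhds f y (fun x _ => hopenAt x)
  obtain ⟨V0, hV0, hV0p⟩ := exists_nhds_components_through y
  refine ⟨_, Filter.inter_mem h1 hV0, fun z hz => le_antisymm ?_ hz.1⟩
  obtain ⟨η, hηc, hηz, hηy⟩ := hV0p z hz.2
  rw [h η (specializes_iff_mem_closure.mp hηy) hηc]
  exact dim_fibre_le_of_generization f z (fun x _ => hopenAt x) η hηz

end Groth.Agent.Lib.helper3.OpenAtDim
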