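import Mathlib
import Groth.Prelude.Def_EGA43
import Groth.Prelude.Def_EGA4b
import Groth.Agent.Lib.Helper3.OpenAtNhds
/-!
# Helper library (helper3): EGA IV 14.2.2 — equidimensionality at a point from equidimensional local
rings and openness at the maximal points of the fibre.

* `isEquidimAt_of_forall_maximal` : criterion for `IsEquidimAt f x` on a locally Noetherian source in
  terms of the maximal points of `X` specializing to `x`;
* `isEquidimAt_of_isEquidim_stalk` (= S4918).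
-/

set_option autoImplicit false
universe u
open CategoryTheory AlgebraicGeometry Function TopologicalSpace Topology

namespace Groth.Agent.Lib.helper3.OpenAtDim

open Groth.Agent.Lib.helper3.DimIneq Groth.Agent.Lib.helper3.FTField
  Groth.Agent.Lib.helper3.FibreField Groth.Agent.Lib.helper3.DimFibre
  Groth.Agent.Lib.helper3.RelDim Groth.Agent.Lib.helper3.EquidimAt
  Groth.Agent.Lib.helper3.QFinTop Groth.Agent.Lib.helper3.EquidimIrr

theorem isEquidimAt_of_forall_maximal {X S : Scheme.{u}} [IsLocallyNoetherian X] (f : X ⟶ S)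
    [LocallyOfFiniteType f] (x : X) (e : ℕ)
    (ha : ∀ ξ : X, closure ({ξ} : Set X) ∈ irreducibleComponents X → ξ ⤳ x →
      td (f.residueFieldMap ξ).hom = (e : Cardinal.{u}) ∧
        closure ({f ξ} : Set S) ∈ irreducibleComponents S)
    (hx : FlatMor.fibreDimAt f x ≤ (e : WithBot ℕ∞)) : EGA43.IsEquidimAt f x := by
  obtain ⟨V0, hV0, hV0p⟩ := exists_nhds_components_through x
  obtain ⟨V1, hV1sub, hV1o, hxV1⟩ := mem_nhds_iff.mp hV0
  obtain ⟨V, hVdef⟩ : ∃ V : X.Opens, ∀ v : X, v ∈ V ↔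
      (v ∈ V1 ∧ FlatMor.fibreDimAt f v ≤ (e : WithBot ℕ∞)) :=
    ⟨⟨V1 ∩ {v | FlatMor.fibreDimAt f v ≤ (e : WithBot ℕ∞)},
      hV1o.inter (Groth.Agent.S0402.result f e)⟩, fun v => Iff.rfl⟩
  have hxV : x ∈ V := (hVdef x).mpr ⟨hxV1, hx⟩
  -- every point of `V` has a maximal generization specializing to `x`, of trdeg `e`
  have hgen : ∀ t : X, t ∈ V → ∃ η : X, closure ({η} : Set X) ∈ irreducibleComponents X ∧ η ⤳ t ∧
      η ⤳ x ∧ FlatMor.fibreDimAt f η = (e : WithBot ℕ∞) := by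
    intro t ht
    obtain ⟨η, hηc, hηt, hηx⟩ := hV0p t (hV1sub ((hVdef t).mp ht).1)
    refine ⟨η, hηc, hηt, hηx, ?_⟩
    exact fibreDimAt_eq_td_of_forall f η
      (fun x' h _ => eq_of_specializes_of_closure_mem_irreducibleComponents η hηc x' h) e
      (ha η hηc hηx).1
  have hmaxtd : ∀ t : X, t ∈ V → (∀ t' : X, t' ⤳ t → f t' = f t → t' = t) →
      td (f.residueFieldMap t).hom = (e : Cardinal.{u}) := by
    intro t htV hmax
    obtain ⟨a, b, ha', hb, hab⟩ := fibreDimAt_eq_add f t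
    have hfd := fibreDimAt_eq_td_of_forall f t hmax a ha'
    have h1 : a ≤ e := by
      have : FlatMor.fibreDimAt f t ≤ (e : WithBot ℕ∞) := ((hVdef t).mp htV).2
      rw [hfd] at this
      exact_mod_cast this
    have h2 : e ≤ a := by
      obtain ⟨η, -, hηt, -, hfdη⟩ := hgen t htV
      have hopen := Groth.Agent.S0402.result f a
      have ht' : t ∈ {v : X | FlatMor.fibreDimAt f v ≤ (a : WithBot ℕ∞)} := by
        rw [Set.mem_ofPred_eq, hfd]
      have := hηt.mem_open hopen ht'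
      rw [Set.mem_ofPred_eq, hfdη] at this
      exact_mod_cast this
    rw [ha', le_antisymm h1 h2]
  refine ⟨e, V, hxV, ?_, ?_⟩
  · intro Z hZ
    have hqs : QuasiSober V.toScheme := inferInstance
    obtain ⟨ζ, hζ⟩ := @QuasiSober.sober V.toScheme _ hqs Z hZ.1
      (isClosed_of_mem_irreducibleComponents Z hZ)
    have hZζ : closure ({ζ} : Set V.toScheme) = Z := hζ.def
    obtain ⟨η, hηc, hηt, hηx, -⟩ := hgen (V.ι ζ) ζ.2
    have hηV : η ∈ V := hηt.mem_open V.isOpen ζ.2
    have hζη : V.ι ζ = η := by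
      symm
      have hsp : (⟨η, hηV⟩ : V.toScheme) ⤳ ζ :=
        V.ι.isOpenEmbedding.isInducing.specializes_iff.mp
          (show V.ι ⟨η, hηV⟩ ⤳ V.ι ζ from hηt)
      have := eq_of_specializes_of_closure_mem_irreducibleComponents (T := V.toScheme) ζ
        (hZζ ▸ hZ) _ hsp
      rw [← this]
      rfl
    refine ⟨closure {f η}, (ha η hηc hηx).2, ?_, ?_⟩
    · exact (hηx.map f.continuous).mem_closure
    · have hcl' : closure ((V.ι ≫ f).base '' (closure ({ζ} : Set V.toScheme))) =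
          closure {f η} := by
        rw [closure_image_closure (V.ι ≫ f).continuous, Set.image_singleton]
        have : (V.ι ≫ f).base ζ = f (V.ι ζ) := rfl
        rw [this, hζη]
      rw [← hZζ]
      exact hcl'
  · intro x' Z hZ
    exact dim_component_fibre_eq f V e hmaxtd _ Z hZ

theorem mem_minimalPrimes_of_closure_mem_irreducibleComponents {X : Scheme.{u}} {U : X.Opens}
    (hU : IsAffineOpen U) (ξ : X) (hξ : ξ ∈ U)
    (hc : closure ({ξ} : Set X) ∈ irreducibleComponents X) :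
    (hU.primeIdealOf ⟨ξ, hξ⟩).asIdeal ∈ minimalPrimes Γ(X, U) := by
  refine ⟨⟨inferInstance, bot_le⟩, ?_⟩
  rintro q ⟨hq, -⟩ hle
  haveI := hq
  obtain ⟨ω, hωU, rfl⟩ := exists_point_of_prime hU q
  have hsp : ω ⤳ ξ := (specializes_iff_primeIdealOf_le hU ω ξ hωU hξ).mpr hle
  have := eq_of_specializes_of_closure_mem_irreducibleComponents ξ hc ω hsp
  subst this
  exact le_rfl

/-- EGA IV 14.2.2 (= S4918). -/
theorem isEquidimAt_of_isEquidim_stalk {X Y : Scheme.{u}} [IsLocallyNoetherian Y] (f : X ⟶ Y)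
    [LocallyOfFiniteType f] (x : X) (hX : EGA4.IsEquidim (X.presheaf.stalk x))
    (h : ∀ z : ↥(f.fiber (f.base x)), f.asFiber x ∈ closure {z} →
      (∀ z' : ↥(f.fiber (f.base x)), z ∈ closure {z'} → z' = z) →
      EGA43.IsOpenAt f.base ((f.fiberι (f.base x)).base z)) :
    EGA43.IsEquidimAt f x := by
  haveI hXN : IsLocallyNoetherian X := LocallyOfFiniteType.isLocallyNoetherian f
  obtain ⟨V, hV, hyV, -⟩ := exists_isAffineOpen_mem_and_subset (x := f x) (U := ⊤) trivial
  obtain ⟨U, hU, hxU, e⟩ := exists_isAffineOpen_mem_and_subset (x := x) (U := f ⁻¹ᵁ V) hyV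
  haveI : IsNoetherianRing Γ(Y, V) := IsLocallyNoetherian.component_noetherian ⟨V, hV⟩
  haveI : IsNoetherianRing Γ(X, U) := IsLocallyNoetherian.component_noetherian ⟨U, hU⟩
  obtain ⟨N, b, hN, hb, hfd⟩ := fibreDimAt_eq_add f x
  have hformula := dim_formula_of_isOpenAt f x h
  rw [ringKrullDim_stalk_eq_height hU x hxU, ringKrullDim_stalk_eq_height hV (f x) (e hxU)] at hformula
  have hb' : ringKrullDim ((f.fiber (f.base x)).presheaf.stalk (f.asFiber x)) = (b : WithBot ℕ∞) := hb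
  rw [hb'] at hformula
  obtain ⟨a, ha⟩ := ENat.ne_top_iff_exists.mp
    (Ideal.height_ne_top_of_isPrime (I := (hU.primeIdealOf ⟨x, hxU⟩).asIdeal))
  obtain ⟨c0, hc0⟩ := ENat.ne_top_iff_exists.mp
    (Ideal.height_ne_top_of_isPrime (I := (hV.primeIdealOf ⟨f x, e hxU⟩).asIdeal))
  rw [← ha, ← hc0] at hformula
  have hformula' : a = c0 + b := by exact_mod_cast hformula
  apply isEquidimAt_of_forall_maximal f x (N + b) ?_ (le_of_eq hfd)
  intro ξ hξc hξx
  have hξU : ξ ∈ U := hξx.mem_open U.isOpen hxU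
  have hmin := mem_minimalPrimes_of_closure_mem_irreducibleComponents hU ξ hξU hξc
  have hle : (hU.primeIdealOf ⟨ξ, hξU⟩).asIdeal ≤ (hU.primeIdealOf ⟨x, hxU⟩).asIdeal :=
    (specializes_iff_primeIdealOf_le hU ξ x hξU hxU).mp hξx
  obtain ⟨hPmin, hdimP⟩ := map_mem_minimalPrimes_stalk hU x hxU ξ hξU hmin hle
  have heq := hX _ hPmin
  rw [hdimP, ringKrullDim_stalk_eq_height hU x hxU, ← ha] at heq
  have hle' : (hV.primeIdealOf ⟨f ξ, e hξU⟩).asIdeal ≤ (hV.primeIdealOf ⟨f x, e hxU⟩).asIdeal :=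
    (specializes_iff_primeIdealOf_le hV _ _ (e hξU) (e hxU)).mp (hξx.map f.continuous)
  obtain ⟨E, b', hE, -, -⟩ := fibreDimAt_eq_add f ξ
  have hfdξ := fibreDimAt_eq_td_of_forall f ξ
    (fun x' h _ => eq_of_specializes_of_closure_mem_irreducibleComponents ξ hξc x' h) E hE
  have hEN : E ≤ N + b := by
    have hopen' := Groth.Agent.S0402.result f (N + b)
    have hx' : x ∈ {v : X | FlatMor.fibreDimAt f v ≤ ((N + b : ℕ) : WithBot ℕ∞)} := by
      rw [Set.mem_ofPred_eq, hfd]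
    have := hξx.mem_open hopen' hx'
    rw [Set.mem_ofPred_eq, hfdξ] at this
    exact_mod_cast this
  have key := dimension_inequality_specializes f hV hU e ξ x hξU hxU hle N E hN hE
  haveI := map_mk_isPrime _ _ hle'
  obtain ⟨c, hc⟩ := ENat.ne_top_iff_exists.mp
    (Ideal.height_ne_top_of_isPrime (I := (hV.primeIdealOf ⟨f x, e hxU⟩).asIdeal.map
      (Ideal.Quotient.mk (hV.primeIdealOf ⟨f ξ, e hξU⟩).asIdeal)))
  obtain ⟨d0, hd0⟩ := ENat.ne_top_iff_exists.mp
    (Ideal.height_ne_top_of_isPrime (I := (hV.primeIdealOf ⟨f ξ, e hξU⟩).asIdeal))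
  have hadd := height_add_height_map_le _ _ hle' c hc.symm
  have heq' : ((hU.primeIdealOf ⟨x, hxU⟩).asIdeal.map
      (Ideal.Quotient.mk (hU.primeIdealOf ⟨ξ, hξU⟩).asIdeal)).height = (a : ℕ∞) := by
    exact_mod_cast heq
  rw [heq', ← hc] at key
  rw [← hd0, ← hc0] at hadd
  have key' : a + N ≤ c + E := by exact_mod_cast key
  have hadd' : d0 + c ≤ c0 := by exact_mod_cast hadd
  have hEeq : E = N + b := by omega
  have hd00 : d0 = 0 := by omega
  have hminY : (hV.primeIdealOf ⟨f ξ, e hξU⟩).asIdeal ∈ minimalPrimes Γ(Y, V) := by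
    apply Ideal.height_eq_zero_iff.mp
    rw [← hd0, hd00]; rfl
  refine ⟨?_, closure_mem_irreducibleComponents hV (f ξ) (e hξU) hminY⟩
  rw [hE, hEeq]

end Groth.Agent.Lib.helper3.OpenAtDim
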