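import Groth.Agent.Lib.Helper3.QFinAffineSpace2
import Groth.Agent.Lib.Helper3.AffSpaceDim
import Groth.Agent.Lib.Helper3.OpenAtEquidim2
import Groth.Agent.Lib.Helper3.FibreComp
import Groth.Agent.S10310
/-!
# Helper library (helper3): EGA IV 13.3.1 a) ⟺ b): equidimensional at `x` iff locally quasi-finite over an
affine space with generic points going to generic points (= S3386).
-/

set_option autoImplicit false
universe u
open CategoryTheory CategoryTheory.Limits AlgebraicGeometry Function TopologicalSpace Topology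

namespace Groth.Agent.Lib.helper3.QFinAffineSpace

open Groth.Agent.Lib.helper3.DimIneq Groth.Agent.Lib.helper3.FTField
  Groth.Agent.Lib.helper3.FibreField Groth.Agent.Lib.helper3.DimFibre
  Groth.Agent.Lib.helper3.RelDim Groth.Agent.Lib.helper3.EquidimAt
  Groth.Agent.Lib.helper3.QFinTop Groth.Agent.Lib.helper3.EquidimIrr
  Groth.Agent.Lib.helper3.QuasiSection Groth.Agent.Lib.helper3.AffSpaceDim
  Groth.Agent.Lib.helper3.OpenAtDim

instance flat_affineSpace_over (Y : Scheme.{u}) (e : ℕ) : Flat (𝔸(ULift.{u} (Fin e); Y) ↘ Y) := by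
  refine MorphismProperty.pullback_fst (P := @Flat) _ _ ?_
  haveI := isIso_of_isTerminal specULiftZIsTerminal.{u} terminalIsTerminal (terminal.from _)
  rw [terminal_from_eq]
  haveI : Flat (Spec.map (CommRingCat.ofHom
        (MvPolynomial.C : ULift.{u} ℤ →+* MvPolynomial (ULift.{u} (Fin e)) (ULift.{u} ℤ)))) := by
    rw [Flat.SpecMap_iff]
    change RingHom.Flat (algebraMap (ULift.{u} ℤ) (MvPolynomial (ULift.{u} (Fin e)) (ULift.{u} ℤ)))
    rw [RingHom.flat_algebraMap_iff]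
    infer_instance
  infer_instance

/-- a maximal point of `𝔸^e_Y` lies over a maximal point of `Y` and has transcendence degree `e`. -/
theorem maximal_affineSpace (Y : Scheme.{u}) (e : ℕ) (ω : 𝔸(ULift.{u} (Fin e); Y))
    (hmax : ∀ ω' : 𝔸(ULift.{u} (Fin e); Y), ω' ⤳ ω → ω' = ω) :
    (∀ η' : Y, η' ⤳ (𝔸(ULift.{u} (Fin e); Y) ↘ Y) ω → η' = (𝔸(ULift.{u} (Fin e); Y) ↘ Y) ω) ∧
      td ((𝔸(ULift.{u} (Fin e); Y) ↘ Y).residueFieldMap ω).hom = (e : Cardinal.{u}) := by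
  constructor
  · intro η' hη'
    obtain ⟨ω', hω'sp, hω'⟩ := Flat.generalizingMap (𝔸(ULift.{u} (Fin e); Y) ↘ Y) hη'
    rw [← hω', hmax ω' hω'sp]
  · obtain ⟨n, hn⟩ := exists_nat_td_residueFieldMap (𝔸(ULift.{u} (Fin e); Y) ↘ Y) ω
    have h2 := fibreDimAt_eq_td_of_forall (𝔸(ULift.{u} (Fin e); Y) ↘ Y) ω
      (fun ω' hω' _ => hmax ω' hω') n hn
    rw [fibreDimAt_affineSpace_over] at h2
    have : e = n := by exact_mod_cast h2
    rw [hn, this]

/-- a point of `𝔸^e_Y` over a maximal point of `Y` with transcendence degree `e` is maximal. -/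
theorem affineSpace_maximal_of (Y : Scheme.{u}) (e : ℕ) (ω : 𝔸(ULift.{u} (Fin e); Y))
    (hη : ∀ η' : Y, η' ⤳ (𝔸(ULift.{u} (Fin e); Y) ↘ Y) ω → η' = (𝔸(ULift.{u} (Fin e); Y) ↘ Y) ω)
    (htd : td ((𝔸(ULift.{u} (Fin e); Y) ↘ Y).residueFieldMap ω).hom = (e : Cardinal.{u})) :
    ∀ ω' : 𝔸(ULift.{u} (Fin e); Y), ω' ⤳ ω → ω' = ω := by
  intro ω' hsp
  have hf : (𝔸(ULift.{u} (Fin e); Y) ↘ Y) ω' = (𝔸(ULift.{u} (Fin e); Y) ↘ Y) ω :=
    hη _ (hsp.map (𝔸(ULift.{u} (Fin e); Y) ↘ Y).continuous)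
  by_contra hne
  have hlt := Groth.Agent.S9381.result (𝔸(ULift.{u} (Fin e); Y) ↘ Y) ω' ω hsp hne hf
  change td ((𝔸(ULift.{u} (Fin e); Y) ↘ Y).residueFieldMap ω).hom <
    td ((𝔸(ULift.{u} (Fin e); Y) ↘ Y).residueFieldMap ω').hom at hlt
  obtain ⟨a, b, ha, -, hab⟩ := fibreDimAt_eq_add (𝔸(ULift.{u} (Fin e); Y) ↘ Y) ω'
  rw [fibreDimAt_affineSpace_over] at hab
  have hab' : e = a + b := by exact_mod_cast hab
  rw [htd, ha] at hlt
  have : e < a := by exact_mod_cast hlt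
  omega

theorem exists_qfin_affineSpace' {X S : Scheme.{u}} (f : X ⟶ S) [LocallyOfFiniteType f] (x : ↥X)
    (V : S.Opens) (hV : IsAffineOpen V) (hxV : f x ∈ V) (d : ℕ)
    (hd : FlatMor.fibreDimAt f x ≤ (d : WithBot ℕ∞)) (U₁ : X.Opens) (hxU₁ : x ∈ U₁) :
    ∃ (U : X.Opens), IsAffineOpen U ∧ x ∈ U ∧ U ≤ U₁ ∧
      ∃ (g : (U : Scheme.{u}) ⟶ (V : Scheme.{u}))
        (π : (U : Scheme.{u}) ⟶ 𝔸(ULift.{u} (Fin d); (V : Scheme.{u}))),
        g ≫ V.ι = U.ι ≫ f ∧ π ≫ (𝔸(ULift.{u} (Fin d); (V : Scheme.{u})) ↘ (V : Scheme.{u})) = g ∧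
          LocallyQuasiFinite π ∧ LocallyOfFiniteType π := by
  set W : X.Opens := ⟨{z | FlatMor.fibreDimAt f z ≤ (d : WithBot ℕ∞)}, Groth.Agent.S0402.result f d⟩ ⊓
    (f ⁻¹ᵁ V ⊓ U₁) with hW
  have hxW : x ∈ W := ⟨hd, hxV, hxU₁⟩
  set h := W.ι ≫ f with hh
  obtain ⟨w₀, hsp, hfw, hcl⟩ := exists_closed_in_fibre h ⟨x, hxW⟩
  set x₀ : X := W.ι w₀ with hx₀
  have hx₀W : x₀ ∈ W := w₀.2
  obtain ⟨U₀, hU₀, hx₀U₀, hU₀W⟩ := exists_isAffineOpen_mem_and_subset (x := x₀) (U := W) hx₀W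
  have hxx₀ : x ⤳ x₀ := hsp.map W.ι.continuous
  have hxU₀ : x ∈ U₀ := hxx₀.mem_open U₀.2 hx₀U₀
  have hrange : Set.range (U₀.ι ≫ f) ⊆ Set.range V.ι := by
    rintro _ ⟨u, rfl⟩
    rw [Scheme.Opens.range_ι]
    exact (hU₀W u.2).2.1
  set f₀ : (U₀ : Scheme.{u}) ⟶ (V : Scheme.{u}) := IsOpenImmersion.lift V.ι (U₀.ι ≫ f) hrange with hf₀def
  have hf₀ : f₀ ≫ V.ι = U₀.ι ≫ f := IsOpenImmersion.lift_fac _ _ _
  haveI : IsAffine (U₀ : Scheme.{u}) := hU₀
  haveI : IsAffine (V : Scheme.{u}) := hV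
  haveI : LocallyOfFiniteType (f₀ ≫ V.ι) := by rw [hf₀]; infer_instance
  haveI : LocallyOfFiniteType f₀ := locallyOfFiniteType_of_comp f₀ V.ι
  haveI : QuasiCompact f₀ := inferInstance
  set x₀' : (U₀ : Scheme.{u}) := ⟨x₀, hx₀U₀⟩ with hx₀'
  have hfapp : ∀ u : (U₀ : Scheme.{u}), V.ι (f₀ u) = f (U₀.ι u) := by
    intro u
    rw [← Scheme.Hom.comp_apply, hf₀, Scheme.Hom.comp_apply]
  have hcl₀ : ∀ x' : (U₀ : Scheme.{u}), f₀ x' = f₀ x₀' → x₀' ⤳ x' → x' = x₀' := by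
    intro x' hfx' hspx'
    set w' : (W : Scheme.{u}) := ⟨U₀.ι x', hU₀W x'.2⟩ with hw'
    have h1 : h w' = h ⟨x, hxW⟩ := by
      rw [← hfw]
      change f (U₀.ι x') = f x₀
      rw [← hfapp x', hfx', hfapp x₀']
      rfl
    have h2 : w₀ ⤳ w' := by
      rw [← W.ι.isEmbedding.isInducing.specializes_iff]
      exact hspx'.map U₀.ι.continuous
    have h3 := hcl w' h1 h2
    apply Subtype.ext
    have := congrArg (fun w : (W : Scheme.{u}) => W.ι w) h3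
    exact this
  have hfd₀ : FlatMor.fibreDimAt f₀ x₀' ≤ (d : WithBot ℕ∞) := by
    rw [Groth.Agent.Lib.helper5.FibreDimLocal.fibreDimAt_eq_of_comm U₀.ι V.ι f₀ f hf₀.symm
      U₀.ι.isOpenEmbedding V.ι.isOpenEmbedding.injective x₀']
    exact hx₀W.1
  have hm : Meas f₀ x₀' Set.univ d := fun x' _ hfx' hspx' =>
    (fibreDimAt_le_iff f₀ x₀' d).mp hfd₀ x' hspx' hfx'
  obtain ⟨G, hGx, hm0⟩ := cut_all f₀ x₀' hcl₀ d Set.univ isClosed_univ hm
  set v : ULift.{u} (Fin d) → Γ((U₀ : Scheme.{u}), ⊤) := fun i => G i.down with hv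
  set π₀ := AffineSpace.homOfVector f₀ v with hπ₀
  have hover : π₀ ≫ (𝔸(ULift.{u} (Fin d); (V : Scheme.{u})) ↘ (V : Scheme.{u})) = f₀ :=
    AffineSpace.homOfVector_over f₀ v
  haveI : LocallyOfFiniteType (π₀ ≫ (𝔸(ULift.{u} (Fin d); (V : Scheme.{u})) ↘ (V : Scheme.{u}))) := by
    rw [hover]; infer_instance
  haveI : LocallyOfFiniteType π₀ := locallyOfFiniteType_of_comp π₀ (𝔸(ULift.{u} (Fin d); (V : Scheme.{u})) ↘ (V : Scheme.{u}))
  have hq : π₀.QuasiFiniteAt x₀' := by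
    apply quasiFiniteAt_homOfVector f₀ x₀' hcl₀ v (fun i => hGx i.down)
    intro x' hx' hfx' hspx'
    exact hm0 x' ⟨trivial, fun i => hx' ⟨i⟩⟩ hfx' hspx'
  set L := π₀.quasiFiniteLocus with hL
  have hx₀L : x₀' ∈ L := hq
  have hxL : (⟨x, hxU₀⟩ : (U₀ : Scheme.{u})) ∈ L := by
    have hsp' : (⟨x, hxU₀⟩ : (U₀ : Scheme.{u})) ⤳ x₀' := by
      apply (U₀.ι.isEmbedding.isInducing.specializes_iff).mp
      exact hxx₀
    exact hsp'.mem_open L.2 hx₀L
  have hxim : x ∈ U₀.ι ''ᵁ L := ⟨⟨x, hxU₀⟩, hxL, rfl⟩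
  obtain ⟨U, hU, hxU, hUL⟩ := exists_isAffineOpen_mem_and_subset (x := x) (U := U₀.ι ''ᵁ L) hxim
  have hUU₀ : U ≤ U₀ := by
    intro u hu
    obtain ⟨u₀, -, rfl⟩ := hUL hu
    exact u₀.2
  set j := X.homOfLE hUU₀ with hj
  have hjι : j ≫ U₀.ι = U.ι := X.homOfLE_ι hUU₀
  refine ⟨U, hU, hxU, fun u hu => (hU₀W (hUU₀ hu)).2.2, j ≫ f₀, j ≫ π₀, ?_, ?_, ?_, inferInstance⟩
  · rw [Category.assoc, hf₀, ← Category.assoc, hjι]
  · rw [Category.assoc, hover]
  · rw [← Scheme.Hom.quasiFiniteLocus_eq_top_iff, Scheme.Hom.quasiFiniteLocus_comp]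
    apply top_le_iff.mp
    intro u _
    change j u ∈ L
    obtain ⟨u₀, hu₀L, hu₀⟩ := hUL u.2
    have : j u = u₀ := by
      apply U₀.ι.isEmbedding.injective
      have h1 : U₀.ι (j u) = U.ι u := by rw [← Scheme.Hom.comp_apply, hjι]
      rw [h1]
      exact hu₀.symm
    rw [this]; exact hu₀L


/-- a locally quasi-finite morphism has fibre dimension `0` and algebraic residue field extensions. -/
theorem fibreDimAt_eq_zero_of_lqf {T W : Scheme.{u}} (g : T ⟶ W) [LocallyOfFiniteType g]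
    [LocallyQuasiFinite g] (t : T) :
    FlatMor.fibreDimAt g t = 0 ∧ td (g.residueFieldMap t).hom = 0 := by
  have h0 : FlatMor.fibreDimAt g t = 0 := by
    rw [Groth.Agent.S10310.fibreDimAt_eq_zero_iff, ← Groth.Agent.S10310.isOpen_asFiber_iff,
      ← Scheme.Hom.quasiFiniteAt_iff_isOpen_singleton_asFiber]
    exact g.quasiFiniteAt t
  refine ⟨h0, ?_⟩
  obtain ⟨a, b, ha, -, hab⟩ := fibreDimAt_eq_add g t
  rw [h0] at hab
  have : a + b = 0 := by exact_mod_cast hab.symm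
  have ha0 : a = 0 := by omega
  rw [ha, ha0]; simp

theorem equidim_iff_qfin {X Y : Scheme.{u}}
    (f : X ⟶ Y) [LocallyOfFiniteType f] (x : X) :
    (EGA43.IsEquidimAt f x → (∃ (e : ℕ) (U : X.Opens) (g : (U : Scheme.{u}) ⟶ 𝔸(ULift.{u} (Fin e); Y)),
        x ∈ U ∧ g ≫ (𝔸(ULift.{u} (Fin e); Y) ↘ Y) = U.ι ≫ f ∧ LocallyQuasiFinite g ∧
        ∀ Z ∈ irreducibleComponents (↥U : Type u),
          closure (g.base '' Z) ∈ irreducibleComponents (↥𝔸(ULift.{u} (Fin e); Y) : Type u))) ∧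
    (IsLocallyNoetherian Y → (∃ (e : ℕ) (U : X.Opens) (g : (U : Scheme.{u}) ⟶ 𝔸(ULift.{u} (Fin e); Y)),
        x ∈ U ∧ g ≫ (𝔸(ULift.{u} (Fin e); Y) ↘ Y) = U.ι ≫ f ∧ LocallyQuasiFinite g ∧
        ∀ Z ∈ irreducibleComponents (↥U : Type u),
          closure (g.base '' Z) ∈ irreducibleComponents (↥𝔸(ULift.{u} (Fin e); Y) : Type u)) → EGA43.IsEquidimAt f x) := by
  constructor
  · rintro ⟨e, U₁, hxU₁, hA, hB⟩
    have hA' : ∀ Z ∈ irreducibleComponents (↥U₁ : Type u),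
        ∃ W ∈ irreducibleComponents (Y : Type u), closure ((U₁.ι ≫ f).base '' Z) = W := by
      intro Z hZ
      obtain ⟨W, hW, -, hcl⟩ := hA Z hZ
      exact ⟨W, hW, hcl⟩
    have hfd := fibreDimAt_eq_of_isEquidimAt f U₁ e hB x hxU₁
    obtain ⟨V, hV, hxV, -⟩ := exists_isAffineOpen_mem_and_subset (x := f x) (U := ⊤) trivial
    obtain ⟨U, hU, hxU, hUU₁, g₀, π₀, hg₀, hπ₀, hlqf, hlft⟩ :=
      exists_qfin_affineSpace' f x V hV hxV e hfd.le U₁ hxU₁
    have hpb := AffineSpace.isPullback_map (n := ULift.{u} (Fin e)) V.ι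
    haveI : IsOpenImmersion (AffineSpace.map (ULift.{u} (Fin e)) V.ι) :=
      MorphismProperty.of_isPullback (P := @IsOpenImmersion) hpb.flip inferInstance
    set g := π₀ ≫ AffineSpace.map (ULift.{u} (Fin e)) V.ι with hg
    have hgover : g ≫ (𝔸(ULift.{u} (Fin e); Y) ↘ Y) = U.ι ≫ f := by
      rw [hg, Category.assoc, AffineSpace.map_over, ← Category.assoc, hπ₀, hg₀]
    refine ⟨e, U, g, hxU, hgover, inferInstance, ?_⟩
    intro Z hZ
    have hZ' : Z ∈ irreducibleComponents U.toScheme := hZ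
    obtain ⟨ξ₀, hξ₀⟩ := QuasiSober.sober (α := U.toScheme) hZ'.1
      (isClosed_of_mem_irreducibleComponents Z hZ')
    have hZeq : closure ({ξ₀} : Set U.toScheme) = Z := hξ₀.def
    have hξ₀max : ∀ u' : U.toScheme, u' ⤳ ξ₀ → u' = ξ₀ := by
      rw [← hZeq] at hZ'
      exact eq_of_specializes_of_closure_mem_irreducibleComponents ξ₀ hZ'
    rw [← hZeq]
    change closure (g '' closure ({ξ₀} : Set U.toScheme)) ∈ _
    rw [closure_image_closure g.continuous, Set.image_singleton]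
    apply closure_mem_irreducibleComponents_of_forall_specializes
    set ξ : X := U.ι ξ₀ with hξ
    have hξU₁ : ξ ∈ U₁ := hUU₁ ξ₀.2
    have hξmax : ∀ ω : X, ω ⤳ ξ → ω = ξ := by
      intro ω hω
      have hωU : ω ∈ U := hω.mem_open U.2 ξ₀.2
      have h1 : (⟨ω, hωU⟩ : U.toScheme) ⤳ ξ₀ := by
        apply (U.ι.isEmbedding.isInducing.specializes_iff).mp
        exact hω
      have := hξ₀max _ h1
      exact congrArg (fun u : U.toScheme => U.ι u) this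
    have htd := td_eq_of_isEquidimAt f U₁ e hB ξ hξU₁ hξmax
    have hcl := closure_image_mem_of_isEquidimAt f U₁ hA' ξ hξU₁ hξmax
    have hηmax : ∀ η' : Y, η' ⤳ f ξ → η' = f ξ :=
      eq_of_specializes_of_closure_mem_irreducibleComponents _ hcl
    haveI : LocallyOfFiniteType (g ≫ (𝔸(ULift.{u} (Fin e); Y) ↘ Y)) := by
      rw [hgover]; infer_instance
    haveI : LocallyOfFiniteType g :=
      locallyOfFiniteType_of_comp g (𝔸(ULift.{u} (Fin e); Y) ↘ Y)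
    have hpg : (𝔸(ULift.{u} (Fin e); Y) ↘ Y) (g ξ₀) = f ξ := by
      rw [← Scheme.Hom.comp_apply, hgover, Scheme.Hom.comp_apply]
    apply affineSpace_maximal_of Y e (g ξ₀)
    · rw [hpg]; exact hηmax
    · have h1 := Groth.Agent.Lib.helper3.FibreComp.td_residueFieldMap_comp g
        (𝔸(ULift.{u} (Fin e); Y) ↘ Y) ξ₀
      have h2 : td ((g ≫ (𝔸(ULift.{u} (Fin e); Y) ↘ Y)).residueFieldMap ξ₀).hom =
          td ((U.ι ≫ f).residueFieldMap ξ₀).hom := by rw [hgover]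
      rw [h2, td_comp_opens_ι f U ξ₀, htd, (fibreDimAt_eq_zero_of_lqf g ξ₀).2, add_zero] at h1
      exact h1.symm
  · intro hN
    rintro ⟨e, U, g, hxU, hgover, hlqf, hcomp⟩
    haveI : IsLocallyNoetherian X := LocallyOfFiniteType.isLocallyNoetherian f
    haveI : LocallyOfFiniteType (g ≫ (𝔸(ULift.{u} (Fin e); Y) ↘ Y)) := by
      rw [hgover]; infer_instance
    haveI : LocallyOfFiniteType g :=
      locallyOfFiniteType_of_comp g (𝔸(ULift.{u} (Fin e); Y) ↘ Y)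
    apply isEquidimAt_of_forall_maximal f x e
    · intro ξ hξc hξx
      have hξmax : ∀ ω : X, ω ⤳ ξ → ω = ξ :=
        eq_of_specializes_of_closure_mem_irreducibleComponents ξ hξc
      have hξU : ξ ∈ U := hξx.mem_open U.2 hxU
      set ξ₀ : U.toScheme := ⟨ξ, hξU⟩ with hξ₀
      have hξ₀max : ∀ u' : U.toScheme, u' ⤳ ξ₀ → u' = ξ₀ := by
        intro u' hu'
        apply U.ι.isEmbedding.injective
        exact hξmax _ (hu'.map U.ι.continuous)
      have hZ : closure ({ξ₀} : Set U.toScheme) ∈ irreducibleComponents U.toScheme :=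
        closure_mem_irreducibleComponents_of_forall_specializes ξ₀ hξ₀max
      have h1 : closure (g '' closure ({ξ₀} : Set U.toScheme)) ∈ _ := hcomp _ hZ
      rw [closure_image_closure g.continuous, Set.image_singleton] at h1
      have hωmax := eq_of_specializes_of_closure_mem_irreducibleComponents (g ξ₀) h1
      obtain ⟨hηmax, htdω⟩ := maximal_affineSpace Y e (g ξ₀) hωmax
      have hpg : (𝔸(ULift.{u} (Fin e); Y) ↘ Y) (g ξ₀) = f ξ := by
        rw [← Scheme.Hom.comp_apply, hgover, Scheme.Hom.comp_apply]; rfl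
      constructor
      · have h2 := Groth.Agent.Lib.helper3.FibreComp.td_residueFieldMap_comp g
          (𝔸(ULift.{u} (Fin e); Y) ↘ Y) ξ₀
        have h3 : td ((g ≫ (𝔸(ULift.{u} (Fin e); Y) ↘ Y)).residueFieldMap ξ₀).hom =
            td ((U.ι ≫ f).residueFieldMap ξ₀).hom := by rw [hgover]
        rw [h3, td_comp_opens_ι f U ξ₀, htdω, (fibreDimAt_eq_zero_of_lqf g ξ₀).2, add_zero] at h2
        exact h2
      · apply closure_mem_irreducibleComponents_of_forall_specializes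
        rw [← hpg]; exact hηmax
    · have h1 := fibreDimAt_comp_opens_ι f U ⟨x, hxU⟩
      change _ = FlatMor.fibreDimAt f x at h1
      rw [← h1, ← hgover]
      have h2 := (Groth.Agent.Lib.helper3.FibreComp.fibreDimAt_comp g
        (𝔸(ULift.{u} (Fin e); Y) ↘ Y) ⟨x, hxU⟩).1
      rw [(fibreDimAt_eq_zero_of_lqf g ⟨x, hxU⟩).1, fibreDimAt_affineSpace_over, zero_add] at h2
      exact h2

end Groth.Agent.Lib.helper3.QFinAffineSpace
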