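import Mathlib

/-! Stacks 092C: if `B ⊗[A] B → B` is flat and `M` is a `B`-module flat over `A`,
then `M` is flat over `B`. -/

set_option autoImplicit false
universe u

namespace Groth.Agent.Lib.helper3.WEtale2

open TensorProduct

variable {A B : Type*} [CommRing A] [CommRing B] [Algebra A B]

/-- The kernel of the multiplication map is pure if the multiplication map is flat. -/
theorem pure_ker (h : (Algebra.TensorProduct.lmul' A (S := B)).Flat) :
    (RingHom.ker (Algebra.TensorProduct.lmul' A (S := B))).Pure := by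
  let F := (Algebra.TensorProduct.lmul' A (S := B)).toRingHom
  have hF : Function.Surjective F := fun x ↦ ⟨x ⊗ₜ 1, by simp [F]⟩
  have hflat' : F.Flat := h
  let _ : Algebra (B ⊗[A] B) B := F.toAlgebra
  have hmod : Module.Flat (B ⊗[A] B) B := hflat'
  let f : B ⊗[A] B →ₐ[B ⊗[A] B] B := Algebra.ofId _ _
  have hf : Function.Surjective f := hF
  let e := Ideal.quotientKerAlgEquivOfSurjective hf
  have hpure : Module.Flat (B ⊗[A] B) (B ⊗[A] B ⧸ RingHom.ker f) :=
    Module.Flat.of_linearEquiv e.toLinearEquiv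
  exact hpure

theorem exists_diag_elt (h : (Algebra.TensorProduct.lmul' A (S := B)).Flat) {ι : Type*}
    (s : Finset ι) (f : ι → B) :
    ∃ e : B ⊗[A] B, Algebra.TensorProduct.lmul' A e = 1 ∧
      ∀ i ∈ s, (f i ⊗ₜ[A] (1 : B) - (1 : B) ⊗ₜ[A] f i) * e = 0 := by
  classical
  have hp := pure_ker h
  induction s using Finset.induction_on with
  | empty => exact ⟨1, by simp, by simp⟩
  | insert i s his ih =>
    obtain ⟨e, he1, he2⟩ := ih
    have hx : (f i ⊗ₜ[A] (1 : B) - (1 : B) ⊗ₜ[A] f i) * e ∈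
        RingHom.ker (Algebra.TensorProduct.lmul' A (S := B)) := by
      rw [RingHom.mem_ker]
      simp
    obtain ⟨y, hy, hxy⟩ := Ideal.exists_eq_mul_of_pure hx
    rw [RingHom.mem_ker] at hy
    refine ⟨e * (1 - y), by simp [he1, hy], ?_⟩
    intro j hj
    rw [Finset.mem_insert] at hj
    rcases hj with rfl | hj
    · rw [← mul_assoc, mul_sub, mul_one, ← hxy, sub_self]
    · rw [← mul_assoc, he2 j hj, zero_mul]

variable (A B) in
/-- The map `(B ⊗ B) ⊗ M → B ⊗ M`, `(b ⊗ b') ⊗ m ↦ b ⊗ b' m`. -/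
noncomputable def Φ (M : Type*) [AddCommGroup M] [Module A M] [Module B M] [IsScalarTower A B M] :
    (B ⊗[A] B) ⊗[A] M →ₗ[A] B ⊗[A] M :=
  (LinearMap.lTensor B (TensorProduct.lift
    (Algebra.lsmul A A M : B →ₐ[A] Module.End A M).toLinearMap)) ∘ₗ
    (TensorProduct.assoc A B B M).toLinearMap

@[simp]
theorem Φ_tmul (M : Type*) [AddCommGroup M] [Module A M] [Module B M] [IsScalarTower A B M]
    (b b' : B) (m : M) : Φ A B M ((b ⊗ₜ[A] b') ⊗ₜ[A] m) = b ⊗ₜ[A] (b' • m) := by
  simp [Φ]

theorem Φ_left (M : Type*) [AddCommGroup M] [Module A M] [Module B M] [IsScalarTower A B M]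
    (c : B) (e : B ⊗[A] B) (m : M) :
    Φ A B M (((c ⊗ₜ[A] (1 : B)) * e) ⊗ₜ[A] m) = c • Φ A B M (e ⊗ₜ[A] m) := by
  induction e using TensorProduct.induction_on with
  | zero => simp
  | tmul b b' => simp [TensorProduct.smul_tmul']
  | add x y hx hy => simp only [mul_add, TensorProduct.add_tmul, map_add, hx, hy, smul_add]

theorem Φ_right (M : Type*) [AddCommGroup M] [Module A M] [Module B M] [IsScalarTower A B M]
    (c : B) (e : B ⊗[A] B) (m : M) :
    Φ A B M ((((1 : B) ⊗ₜ[A] c) * e) ⊗ₜ[A] m) = Φ A B M (e ⊗ₜ[A] (c • m)) := by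
  induction e using TensorProduct.induction_on with
  | zero => simp
  | tmul b b' => simp [mul_smul, smul_comm c b' m]
  | add x y hx hy => simp only [mul_add, TensorProduct.add_tmul, map_add, hx, hy]

theorem π_Φ (M : Type*) [AddCommGroup M] [Module A M] [Module B M] [IsScalarTower A B M]
    (e : B ⊗[A] B) (m : M) :
    LinearMap.liftBaseChange B (LinearMap.id : M →ₗ[A] M) (Φ A B M (e ⊗ₜ[A] m)) =
      Algebra.TensorProduct.lmul' A e • m := by
  induction e using TensorProduct.induction_on with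
  | zero => simp
  | tmul b b' => simp [mul_smul]
  | add x y hx hy => simp only [TensorProduct.add_tmul, map_add, hx, hy, add_smul]

/-- Stacks 092C. -/
theorem flat_of_flat_lmul' (h : (Algebra.TensorProduct.lmul' A (S := B)).Flat)
    (M : Type*) [AddCommGroup M] [Module A M] [Module B M] [IsScalarTower A B M]
    [Module.Flat A M] : Module.Flat B M := by
  apply Module.Flat.of_forall_isTrivialRelation
  intro l f x hfx
  obtain ⟨e, he1, he2⟩ := exists_diag_elt h (Finset.univ : Finset (Fin l)) f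
  have hrel : ∑ i, f i • Φ A B M (e ⊗ₜ[A] x i) = 0 := by
    have : ∀ i, f i • Φ A B M (e ⊗ₜ[A] x i) = Φ A B M (e ⊗ₜ[A] (f i • x i)) := by
      intro i
      rw [← Φ_left, ← Φ_right]
      have := he2 i (Finset.mem_univ i)
      rw [sub_mul, sub_eq_zero] at this
      rw [this]
    simp_rw [this]
    rw [← map_sum, ← TensorProduct.tmul_sum, hfx, TensorProduct.tmul_zero, map_zero]
  obtain ⟨k, a, Y, hY1, hY2⟩ := Module.Flat.isTrivialRelation_of_sum_smul_eq_zero hrel
  refine ⟨k, a, fun j => LinearMap.liftBaseChange B (LinearMap.id : M →ₗ[A] M) (Y j), ?_, hY2⟩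
  intro i
  have h1 := π_Φ M e (x i)
  have h2 : Φ A B M (e ⊗ₜ[A] x i) = ∑ j, a i j • Y j := hY1 i
  rw [he1, one_smul, h2, map_sum] at h1
  rw [← h1]
  simp

end Groth.Agent.Lib.helper3.WEtale2
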