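import Mathlib

/-! Weakly étale algebras: ring-level formally unramified; field extensions. -/

set_option autoImplicit false
universe u

namespace Groth.Agent.Lib.helper3.WEtale

open TensorProduct

/-- A weakly étale algebra is formally unramified. -/
theorem formallyUnramified (R S : Type*) [CommRing R] [CommRing S] [Algebra R S]
    [Algebra.WeaklyEtale R S] : Algebra.FormallyUnramified R S := by
  let F := (Algebra.TensorProduct.lmul' R (S := S)).toRingHom
  have hF : Function.Surjective F := fun x ↦ ⟨x ⊗ₜ 1, by simp [F]⟩
  have hflat' : F.Flat := Algebra.WeaklyEtale.flat_lmul' R S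
  let _ : Algebra (S ⊗[R] S) S := F.toAlgebra
  have hmod : Module.Flat (S ⊗[R] S) S := hflat'
  let f : S ⊗[R] S →ₐ[S ⊗[R] S] S := Algebra.ofId _ _
  have hf : Function.Surjective f := hF
  let e := Ideal.quotientKerAlgEquivOfSurjective hf
  have hpure : Module.Flat (S ⊗[R] S) (S ⊗[R] S ⧸ RingHom.ker f) :=
    Module.Flat.of_linearEquiv e.toLinearEquiv
  have hidem : IsIdempotentElem (RingHom.ker f) := Ideal.isIdempotentElem_of_pure _
  have hker : RingHom.ker f = KaehlerDifferential.ideal R S := rfl
  rw [hker] at hidem
  exact ⟨(Ideal.cotangent_subsingleton_iff _).mpr hidem⟩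

end Groth.Agent.Lib.helper3.WEtale
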