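import Mathlib
import Groth.Agent.Lib.Helper3.WEtale2
import Groth.Agent.S7130
import Groth.Agent.S0426
import Groth.Agent.S1996

/-! Weakly étale algebras over fields (and over absolutely flat rings). -/

set_option autoImplicit false
universe u

namespace Groth.Agent.Lib.helper3.WEtale3

open TensorProduct Groth.Agent.Lib.helper3

section general

variable {R S : Type*} [CommRing R] [CommRing S] [Algebra R S]

theorem weaklyEtale_of_bijective [Module.Flat R S]
    (h : Function.Bijective (Algebra.TensorProduct.lmul' R (S := S))) :
    Algebra.WeaklyEtale R S :=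
  ⟨inferInstance, RingHom.Flat.of_bijective h⟩

theorem weaklyEtale_of_isLocalization (M : Submonoid R) [IsLocalization M S] :
    Algebra.WeaklyEtale R S := by
  have : Module.Flat R S := IsLocalization.flat S M
  exact weaklyEtale_of_bijective (IsLocalization.bijective_linearMap_mul' M S)

theorem weaklyEtale_of_surjective_of_flat [Module.Flat R S]
    (h : Function.Surjective (algebraMap R S)) : Algebra.WeaklyEtale R S :=
  weaklyEtale_of_bijective (LinearMap.mul'_bijective_of_surjective _ _ h)

/-- Stacks 092I: weakly étale over absolutely flat is absolutely flat. -/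
theorem absFlat {A B : Type u} [CommRing A] [CommRing B] [Algebra A B]
    (hA : ∀ (M : Type u) [AddCommGroup M] [Module A M], Module.Flat A M)
    (h : (Algebra.TensorProduct.lmul' A (S := B)).Flat)
    (N : Type u) [AddCommGroup N] [Module B N] : Module.Flat B N := by
  letI : Module A N := Module.compHom N (algebraMap A B)
  haveI : IsScalarTower A B N := IsScalarTower.of_compHom A B N
  haveI := hA N
  exact WEtale2.flat_of_flat_lmul' h N

end general

section field

variable {k : Type*} [Field k] {B : Type*} [CommRing B] [Algebra k B]

theorem flat_of_field (h : (Algebra.TensorProduct.lmul' k (S := B)).Flat)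
    (N : Type*) [AddCommGroup N] [Module B N] : Module.Flat B N := by
  letI : Module k N := Module.compHom N (algebraMap k B)
  haveI : IsScalarTower k B N := IsScalarTower.of_compHom k B N
  exact WEtale2.flat_of_flat_lmul' h N

theorem weaklyEtale_of_surjective [Algebra.WeaklyEtale k B] {C : Type*} [CommRing C]
    [Algebra k C] (f : B →ₐ[k] C) (hf : Function.Surjective f) : Algebra.WeaklyEtale k C := by
  letI : Algebra B C := f.toRingHom.toAlgebra
  haveI : IsScalarTower k B C := IsScalarTower.of_algebraMap_eq fun x => (f.commutes x).symm
  haveI : Module.Flat B C := flat_of_field (Algebra.WeaklyEtale.flat_lmul' k B) C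
  haveI : Algebra.WeaklyEtale B C := weaklyEtale_of_surjective_of_flat hf
  exact Algebra.WeaklyEtale.trans k B C

theorem weaklyEtale_quotient [Algebra.WeaklyEtale k B] (I : Ideal B) :
    Algebra.WeaklyEtale k (B ⧸ I) :=
  weaklyEtale_of_surjective (Ideal.Quotient.mkₐ k I) Ideal.Quotient.mk_surjective

theorem weaklyEtale_of_algEquiv [Algebra.WeaklyEtale k B] {C : Type*} [CommRing C]
    [Algebra k C] (e : B ≃ₐ[k] C) : Algebra.WeaklyEtale k C :=
  weaklyEtale_of_surjective e.toAlgHom e.surjective

theorem weaklyEtale_localization [Algebra.WeaklyEtale k B] (M : Submonoid B) (C : Type*)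
    [CommRing C] [Algebra k C] [Algebra B C] [IsScalarTower k B C] [IsLocalization M C] :
    Algebra.WeaklyEtale k C := by
  haveI : Algebra.WeaklyEtale B C := weaklyEtale_of_isLocalization M
  exact Algebra.WeaklyEtale.trans k B C

end field

section fieldu

variable {k : Type u} [Field k] {B : Type u} [CommRing B] [Algebra k B]

theorem allFlat [Algebra.WeaklyEtale k B] :
    ∀ (N : Type u) [AddCommGroup N] [Module B N], Module.Flat B N :=
  fun N _ _ => flat_of_field (Algebra.WeaklyEtale.flat_lmul' k B) N

theorem isReduced [Algebra.WeaklyEtale k B] : IsReduced B := by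
  have h := (Groth.Agent.S7130.result B).out 0 1
  exact (h.mp (allFlat (k := k))).1

theorem isMaximal_of_isPrime [Algebra.WeaklyEtale k B] (q : Ideal B) [hq : q.IsPrime] :
    q.IsMaximal := by
  have h := (Groth.Agent.S7130.result B).out 0 1
  exact (h.mp (allFlat (k := k))).2 q hq

theorem isField_localization [Algebra.WeaklyEtale k B] (q : Ideal B) [q.IsPrime] :
    IsField (Localization.AtPrime q) := by
  have h := (Groth.Agent.S7130.result B).out 0 2
  exact h.mp (allFlat (k := k)) q

/-- The local rings of a weakly étale algebra over a field are separable algebraic field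
extensions: every element is integral. -/
theorem isIntegral_localization [Algebra.WeaklyEtale k B] (q : Ideal B) [q.IsPrime]
    (x : Localization.AtPrime q) : IsIntegral k x ∧ (minpoly k x).Separable := by
  letI : Field (Localization.AtPrime q) := (isField_localization (k := k) q).toField
  haveI : Algebra.WeaklyEtale k (Localization.AtPrime q) :=
    weaklyEtale_localization q.primeCompl _
  have h := Groth.Agent.S0426.result (K := k) (L := Localization.AtPrime q)
  exact ⟨(h.isSeparable' x).isIntegral, h.isSeparable' x⟩

theorem isIntegral [Algebra.WeaklyEtale k B] : Algebra.IsIntegral k B := by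
  refine ⟨fun b => ?_⟩
  by_contra hb
  have htr : Transcendental k b := by
    rwa [Transcendental, isAlgebraic_iff_isIntegral]
  have hinj : Function.Injective (Polynomial.aeval (R := k) b) :=
    transcendental_iff_injective.mp htr
  obtain ⟨q, hq, hqc⟩ := Ideal.exists_comap_eq_of_mem_minimalPrimes_of_injective
    (f := (Polynomial.aeval (R := k) b).toRingHom) hinj ⊥
    (by rw [IsDomain.minimalPrimes_eq_singleton_bot]; rfl)
  obtain ⟨g, hg, hg0⟩ := (isIntegral_localization (k := k) q
    (algebraMap B (Localization.AtPrime q) b)).1
  have h1 : algebraMap B (Localization.AtPrime q) (Polynomial.aeval b g) = 0 := by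
    rw [← Polynomial.aeval_algebraMap_apply]
    rwa [← Polynomial.aeval_def] at hg0
  obtain ⟨s, hs⟩ := (IsLocalization.map_eq_zero_iff q.primeCompl _ _).mp h1
  have h2 : Polynomial.aeval b g ∈ q := by
    have : (s : B) * Polynomial.aeval b g ∈ q := by rw [hs]; exact q.zero_mem
    exact (hq.mem_or_mem this).resolve_left s.2
  have h3 : g ∈ (⊥ : Ideal (Polynomial k)) := by
    rw [← hqc]; exact h2
  rw [Ideal.mem_bot] at h3
  exact hg.ne_zero h3

/-- Stacks 092R-ish: subalgebras of a weakly étale algebra over a field are weakly étale. -/
theorem weaklyEtale_subalgebra [Algebra.WeaklyEtale k B] (S : Subalgebra k B) :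
    Algebra.WeaklyEtale k S := by
  haveI := isIntegral (k := k) (B := B)
  haveI := isReduced (k := k) (B := B)
  haveI : Algebra.IsIntegral k S :=
    Algebra.IsIntegral.of_injective S.val Subtype.val_injective
  haveI : IsReduced S := isReduced_of_injective S.val Subtype.val_injective
  have hmax : ∀ p : Ideal S, p.IsPrime → p.IsMaximal := by
    intro p hp
    have h1 : (p.comap (algebraMap k S)).IsPrime := Ideal.comap_isPrime _ _
    have h2 : (p.comap (algebraMap k S)).IsMaximal := by
      rw [Ideal.eq_bot_of_prime (p.comap (algebraMap k S))]
      exact Ideal.bot_isMaximal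
    exact Ideal.isMaximal_of_isIntegral_of_isMaximal_comap (R := k) p h2
  have hflat : ∀ (M : Type u) [AddCommGroup M] [Module S M], Module.Flat S M := by
    have h := (Groth.Agent.S7130.result S).out 0 1
    exact h.mpr ⟨inferInstance, hmax⟩
  haveI : Module.Flat S B := hflat B
  haveI : Algebra.IsIntegral S B := Algebra.IsIntegral.tower_top (R := k)
  haveI : Module.FaithfullyFlat S B := by
    apply Module.FaithfullyFlat.of_comap_surjective
    haveI : FaithfulSMul S B := (faithfulSMul_iff_algebraMap_injective S B).mpr
      Subtype.val_injective
    exact Algebra.IsIntegral.comap_surjective S B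
  exact Groth.Agent.S1996.result k S B

end fieldu

end Groth.Agent.Lib.helper3.WEtale3
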