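import Mathlib
import Groth.Agent.Lib.Helper3.WEtale3

/-! The sup of weakly étale subalgebras of an algebra over a field is weakly étale. -/

set_option autoImplicit false
universe u

namespace Groth.Agent.Lib.helper3.WEtale4

open TensorProduct Groth.Agent.Lib.helper3

/-- elementwise criterion for flatness of the multiplication map -/
theorem flat_lmul'_of_forall {R S : Type*} [CommRing R] [CommRing S] [Algebra R S]
    (h : ∀ x ∈ RingHom.ker (Algebra.TensorProduct.lmul' R (S := S)),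
      ∃ y ∈ RingHom.ker (Algebra.TensorProduct.lmul' R (S := S)), x = x * y) :
    (Algebra.TensorProduct.lmul' R (S := S)).Flat := by
  let F := (Algebra.TensorProduct.lmul' R (S := S)).toRingHom
  have hF : Function.Surjective F := fun x ↦ ⟨x ⊗ₜ 1, by simp [F]⟩
  have hp : (RingHom.ker F).Pure := by
    apply Ideal.Pure.of_inf_eq_mul
    intro J' _
    refine le_antisymm ?_ Ideal.mul_le_inf
    rintro x ⟨hx1, hx2⟩
    obtain ⟨y, hy, hxy⟩ := h x hx1
    rw [hxy]
    exact Ideal.mul_mem_mul_rev hy hx2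
  show F.Flat
  letI : Algebra (S ⊗[R] S) S := F.toAlgebra
  let f : S ⊗[R] S →ₐ[S ⊗[R] S] S := Algebra.ofId _ _
  have hf : Function.Surjective f := hF
  let e := Ideal.quotientKerAlgEquivOfSurjective hf
  have : Module.Flat (S ⊗[R] S) (S ⊗[R] S ⧸ RingHom.ker f) := hp
  exact Module.Flat.of_linearEquiv e.symm.toLinearEquiv

variable {K : Type u} [Field K] {A : Type u} [CommRing A] [Algebra K A]

theorem weaklyEtale_sup (S₁ S₂ : Subalgebra K A) [Algebra.WeaklyEtale K S₁]
    [Algebra.WeaklyEtale K S₂] : Algebra.WeaklyEtale K ↥(S₁ ⊔ S₂) := by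
  have h1 : Algebra.WeaklyEtale K (S₁ ⊗[K] S₂) := by
    haveI : Algebra.WeaklyEtale S₁ (S₁ ⊗[K] S₂) := inferInstance
    exact Algebra.WeaklyEtale.trans K S₁ _
  let g := Algebra.TensorProduct.productMap S₁.val S₂.val
  have hr : g.range = S₁ ⊔ S₂ := by
    rw [Algebra.TensorProduct.productMap_range, Subalgebra.range_val, Subalgebra.range_val]
  have h2 : Algebra.WeaklyEtale K g.range :=
    WEtale3.weaklyEtale_of_surjective g.rangeRestrict g.rangeRestrict_surjective
  rw [hr] at h2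
  exact h2

theorem weaklyEtale_bot : Algebra.WeaklyEtale K (⊥ : Subalgebra K A) := by
  have h2 : Algebra.WeaklyEtale K (Algebra.ofId K A).range :=
    WEtale3.weaklyEtale_of_surjective (Algebra.ofId K A).rangeRestrict
      (Algebra.ofId K A).rangeRestrict_surjective
  rwa [Algebra.range_ofId] at h2

/-- every element of the sup of the weakly étale subalgebras lies in a weakly étale subalgebra -/
theorem exists_mem_of_mem_sSup {x : A}
    (hx : x ∈ sSup {S : Subalgebra K A | Algebra.WeaklyEtale K S}) :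
    ∃ S : Subalgebra K A, Algebra.WeaklyEtale K S ∧ x ∈ S := by
  rw [sSup_eq_iSup'] at hx
  haveI : Nonempty {S : Subalgebra K A | Algebra.WeaklyEtale K S} := ⟨⟨⊥, weaklyEtale_bot⟩⟩
  have hdir : Directed (· ≤ ·)
      (fun S : {S : Subalgebra K A | Algebra.WeaklyEtale K S} => (S : Subalgebra K A)) := by
    intro S₁ S₂
    haveI := S₁.2
    haveI := S₂.2
    haveI : Algebra.WeaklyEtale K ↥(S₁.1) := S₁.2
    haveI : Algebra.WeaklyEtale K ↥(S₂.1) := S₂.2
    exact ⟨⟨S₁.1 ⊔ S₂.1, weaklyEtale_sup S₁.1 S₂.1⟩, le_sup_left, le_sup_right⟩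
  have := Subalgebra.coe_iSup_of_directed hdir
  rw [← SetLike.mem_coe, this, Set.mem_iUnion] at hx
  obtain ⟨S, hS⟩ := hx
  exact ⟨S.1, S.2, hS⟩

theorem le_sSup_of_weaklyEtale (S : Subalgebra K A) [h : Algebra.WeaklyEtale K S] :
    S ≤ sSup {S : Subalgebra K A | Algebra.WeaklyEtale K S} :=
  le_sSup h

theorem lmul'_map {S T : Type*} [CommRing S] [CommRing T] [Algebra K S] [Algebra K T]
    (f : S →ₐ[K] T) (x : S ⊗[K] S) :
    Algebra.TensorProduct.lmul' K (Algebra.TensorProduct.map f f x) =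
      f (Algebra.TensorProduct.lmul' K x) := by
  induction x using TensorProduct.induction_on with
  | zero => simp
  | tmul a b => simp
  | add x y hx hy => simp only [map_add, hx, hy]

theorem weaklyEtale_sSup :
    Algebra.WeaklyEtale K ↥(sSup {S : Subalgebra K A | Algebra.WeaklyEtale K S}) := by
  set T := sSup {S : Subalgebra K A | Algebra.WeaklyEtale K S} with hT
  refine ⟨inferInstance, flat_lmul'_of_forall ?_⟩
  have key : ∀ x : T ⊗[K] T, ∃ (S : Subalgebra K A) (_ : Algebra.WeaklyEtale K S) (h : S ≤ T),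
      x ∈ (Algebra.TensorProduct.map (Subalgebra.inclusion h) (Subalgebra.inclusion h)).range := by
    intro x
    induction x using TensorProduct.induction_on with
    | zero => exact ⟨⊥, weaklyEtale_bot, bot_le, Subalgebra.zero_mem _⟩
    | tmul a b =>
      obtain ⟨S₁, h1, ha⟩ := exists_mem_of_mem_sSup a.2
      obtain ⟨S₂, h2, hb⟩ := exists_mem_of_mem_sSup b.2
      refine ⟨S₁ ⊔ S₂, weaklyEtale_sup S₁ S₂,
        sup_le (le_sSup_of_weaklyEtale S₁) (le_sSup_of_weaklyEtale S₂),
        ⟨(⟨a.1, (le_sup_left : S₁ ≤ S₁ ⊔ S₂) ha⟩ : ↥(S₁ ⊔ S₂)) ⊗ₜ[K]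
          (⟨b.1, (le_sup_right : S₂ ≤ S₁ ⊔ S₂) hb⟩ : ↥(S₁ ⊔ S₂)), ?_⟩⟩
      simp only [AlgHom.toRingHom_eq_coe, RingHom.coe_coe, Algebra.TensorProduct.map_tmul]
      rfl
    | add x y hx hy =>
      obtain ⟨S₁, h1, hle1, x1, hx1⟩ := hx
      obtain ⟨S₂, h2, hle2, y1, hy1⟩ := hy
      have hle3 : S₁ ⊔ S₂ ≤ T := sup_le hle1 hle2
      refine ⟨S₁ ⊔ S₂, weaklyEtale_sup S₁ S₂, hle3,
        ⟨Algebra.TensorProduct.map (Subalgebra.inclusion (le_sup_left : S₁ ≤ S₁ ⊔ S₂))
            (Subalgebra.inclusion (le_sup_left : S₁ ≤ S₁ ⊔ S₂)) x1 +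
          Algebra.TensorProduct.map (Subalgebra.inclusion (le_sup_right : S₂ ≤ S₁ ⊔ S₂))
            (Subalgebra.inclusion (le_sup_right : S₂ ≤ S₁ ⊔ S₂)) y1, ?_⟩⟩
      have e1 : (Algebra.TensorProduct.map (Subalgebra.inclusion hle3)
          (Subalgebra.inclusion hle3)).comp
          (Algebra.TensorProduct.map (Subalgebra.inclusion (le_sup_left : S₁ ≤ S₁ ⊔ S₂))
            (Subalgebra.inclusion (le_sup_left : S₁ ≤ S₁ ⊔ S₂))) =
          Algebra.TensorProduct.map (Subalgebra.inclusion hle1) (Subalgebra.inclusion hle1) := by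
        ext <;> rfl
      have e2 : (Algebra.TensorProduct.map (Subalgebra.inclusion hle3)
          (Subalgebra.inclusion hle3)).comp
          (Algebra.TensorProduct.map (Subalgebra.inclusion (le_sup_right : S₂ ≤ S₁ ⊔ S₂))
            (Subalgebra.inclusion (le_sup_right : S₂ ≤ S₁ ⊔ S₂))) =
          Algebra.TensorProduct.map (Subalgebra.inclusion hle2) (Subalgebra.inclusion hle2) := by
        ext <;> rfl
      have e1' := DFunLike.congr_fun e1 x1
      have e2' := DFunLike.congr_fun e2 y1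
      simp only [AlgHom.comp_apply] at e1' e2'
      simp only [AlgHom.toRingHom_eq_coe, RingHom.coe_coe, map_add]
      rw [e1', e2']
      exact congrArg₂ _ hx1 hy1
  intro x hx
  obtain ⟨S, hS, hle, x1, rfl⟩ := key x
  rw [RingHom.mem_ker] at hx
  have h0 : Algebra.TensorProduct.lmul' K x1 = 0 := by
    have := lmul'_map (Subalgebra.inclusion hle) x1
    rw [AlgHom.toRingHom_eq_coe, RingHom.coe_coe] at hx
    rw [hx] at this
    exact (Subalgebra.inclusion_injective hle) (this.symm.trans (map_zero _).symm)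
  have hp := WEtale2.pure_ker (Algebra.WeaklyEtale.flat_lmul' K S)
  obtain ⟨y1, hy1, hxy⟩ := Ideal.exists_eq_mul_of_pure (I := RingHom.ker
    (Algebra.TensorProduct.lmul' K (S := S))) ((RingHom.mem_ker).mpr h0)
  refine ⟨Algebra.TensorProduct.map (Subalgebra.inclusion hle) (Subalgebra.inclusion hle) y1,
    ?_, ?_⟩
  · rw [RingHom.mem_ker, lmul'_map, (RingHom.mem_ker).mp hy1, map_zero]
  · simp only [AlgHom.toRingHom_eq_coe, RingHom.coe_coe]
    rw [← map_mul, ← hxy]

end Groth.Agent.Lib.helper3.WEtale4
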