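import Mathlib
import Groth.Agent.Lib.Helper3.WEtale4

/-! Elements of weakly étale algebras over a field are roots of separable polynomials;
the maximal weakly étale subalgebra. -/

set_option autoImplicit false
universe u

namespace Groth.Agent.Lib.helper3.WEtale5

open TensorProduct Polynomial Groth.Agent.Lib.helper3

section poly

variable {K : Type*} [Field K]

theorem not_dvd_of_eq_mul {g π h : K[X]} (hg : g ≠ 0) (hπ : Irreducible π) (e : g = π * h) :
    ¬ g ∣ h := by
  intro hd
  have hh : h ≠ 0 := by rintro rfl; exact hg (by simpa using e)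
  have h1 := Polynomial.natDegree_le_of_dvd hd hh
  have hπ0 : π ≠ 0 := hπ.ne_zero
  rw [e, Polynomial.natDegree_mul hπ0 hh] at h1
  have := Irreducible.natDegree_pos hπ
  omega

end poly

section main

variable {K : Type u} [Field K] {B : Type u} [CommRing B] [Algebra K B]

theorem separable_minpoly [Algebra.WeaklyEtale K B] (x : B) : (minpoly K x).Separable := by
  haveI := WEtale3.isReduced (k := K) (B := B)
  have hint : IsIntegral K x := (WEtale3.isIntegral (k := K) (B := B)).isIntegral x
  set g := minpoly K x with hg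
  have hg0 : g ≠ 0 := minpoly.ne_zero hint
  rw [Polynomial.separable_def]
  refine isCoprime_of_irreducible_dvd (fun h => hg0 h.1) ?_
  intro π hπ hπg hπg'
  obtain ⟨h, e⟩ := hπg
  -- π does not divide h
  have hπh : ¬ π ∣ h := by
    rintro ⟨m, rfl⟩
    have hsq : (aeval x (π * m)) ^ 2 = 0 := by
      have : (π * m) ^ 2 = g * m := by rw [e]; ring
      rw [← map_pow, this, map_mul, hg, minpoly.aeval, zero_mul]
    have h0 : aeval x (π * m) = 0 := by
      have hn : IsNilpotent (aeval x (π * m)) := ⟨2, hsq⟩
      exact hn.eq_zero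
    exact not_dvd_of_eq_mul hg0 hπ e (minpoly.dvd K x h0)
  -- π(x) is not a unit
  have hnu : ¬ IsUnit (aeval x π) := by
    intro hu
    have h0 : aeval x h = 0 := by
      have : aeval x π * aeval x h = 0 := by
        rw [← map_mul, ← e, hg, minpoly.aeval]
      exact (hu.mul_right_eq_zero).mp this
    exact not_dvd_of_eq_mul hg0 hπ e (minpoly.dvd K x h0)
  obtain ⟨q, hq, hπq⟩ := exists_max_ideal_of_mem_nonunits hnu
  haveI : q.IsPrime := hq.isPrime
  -- work in the field `B_q`
  have hF := WEtale3.isField_localization (k := K) q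
  letI : Field (Localization.AtPrime q) := hF.toField
  obtain ⟨hint', hsep'⟩ := WEtale3.isIntegral_localization (k := K) q
    (algebraMap B (Localization.AtPrime q) x)
  have hz : aeval (algebraMap B (Localization.AtPrime q) x) π = 0 := by
    rw [Polynomial.aeval_algebraMap_apply]
    have hmem : algebraMap B (Localization.AtPrime q) (aeval x π) ∈
        IsLocalRing.maximalIdeal (Localization.AtPrime q) := by
      rw [← Localization.AtPrime.under_maximalIdeal (I := q)] at hπq
      exact hπq
    have hbot : IsLocalRing.maximalIdeal (Localization.AtPrime q) = ⊥ :=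
      IsLocalRing.isField_iff_maximalIdeal_eq.mp hF
    rw [hbot] at hmem
    exact hmem
  have hdvd := minpoly.dvd K _ hz
  have hirr : Irreducible (minpoly K (algebraMap B (Localization.AtPrime q) x)) :=
    minpoly.irreducible hint'
  have hassoc : π ∣ minpoly K (algebraMap B (Localization.AtPrime q) x) := by
    rcases (hπ.dvd_iff).mp hdvd with hu | ha
    · exact absurd hu hirr.not_isUnit
    · exact ha.dvd
  have hπsep : π.Separable := hsep'.of_dvd hassoc
  -- π ∣ π' * h
  have hder : π ∣ derivative π * h := by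
    have : derivative g = derivative π * h + π * derivative h := by
      rw [e, derivative_mul]
    rw [this] at hπg'
    exact (dvd_add_left (dvd_mul_right π _)).mp hπg'
  have hπ' : π ∣ derivative π := (hπ.prime.dvd_or_dvd hder).resolve_right hπh
  exact hπ.not_isUnit (hπsep.isUnit_of_dvd' dvd_rfl hπ')

end main

section max

variable {K : Type u} [Field K] {A : Type u} [CommRing A] [Algebra K A]

theorem weaklyEtale_map {A' : Type u} [CommRing A'] [Algebra K A'] (f : A →ₐ[K] A')
    (S : Subalgebra K A) [Algebra.WeaklyEtale K S] : Algebra.WeaklyEtale K (S.map f) := by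
  let φ : S →ₐ[K] S.map f := (f.comp S.val).codRestrict (S.map f) (fun x => ⟨x, x.2, rfl⟩)
  refine WEtale3.weaklyEtale_of_surjective φ ?_
  rintro ⟨y, x, hx, rfl⟩
  exact ⟨⟨x, hx⟩, rfl⟩

theorem weaklyEtale_of_le {X S : Subalgebra K A} (h : X ≤ S) [Algebra.WeaklyEtale K S] :
    Algebra.WeaklyEtale K X := by
  haveI : Algebra.WeaklyEtale K (Subalgebra.inclusion h).range :=
    WEtale3.weaklyEtale_subalgebra _
  exact WEtale3.weaklyEtale_of_algEquiv
    (AlgEquiv.ofInjective (Subalgebra.inclusion h) (Subalgebra.inclusion_injective h)).symm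

theorem weaklyEtale_comap_val (A' : Subalgebra K A) (X : Subalgebra K A) (hX : X ≤ A')
    [Algebra.WeaklyEtale K X] : Algebra.WeaklyEtale K (X.comap A'.val) := by
  let φ : X →ₐ[K] X.comap A'.val :=
    (Subalgebra.inclusion hX).codRestrict (X.comap A'.val) (fun x => x.2)
  refine WEtale3.weaklyEtale_of_surjective φ ?_
  rintro ⟨y, hy⟩
  exact ⟨⟨y.1, hy⟩, rfl⟩

theorem mem_sSup_of_root (g : K[X]) (hm : g.Monic) (hs : g.Separable) (r : A)
    (hr : aeval r g = 0) : r ∈ sSup {S : Subalgebra K A | Algebra.WeaklyEtale K S} := by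
  obtain ⟨a, b, hab⟩ := hs
  let P : StandardEtalePair K := ⟨g, hm, 1, ⟨b, a, 0, by rw [pow_zero, ← hab]; ring⟩⟩
  have hmap : P.HasMap r := ⟨hr, by simp [P]⟩
  let φ := P.lift r hmap
  haveI : Algebra.WeaklyEtale K φ.range :=
    WEtale3.weaklyEtale_of_surjective φ.rangeRestrict φ.rangeRestrict_surjective
  exact WEtale4.le_sSup_of_weaklyEtale φ.range ⟨P.X, P.lift_X r hmap⟩

/-- Lifting elements of the maximal weakly étale subalgebra along `A → A / nilradical A`. -/
theorem exists_lift (c : A ⧸ nilradical A)
    (hc : c ∈ sSup {S : Subalgebra K (A ⧸ nilradical A) | Algebra.WeaklyEtale K S}) :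
    ∃ r ∈ sSup {S : Subalgebra K A | Algebra.WeaklyEtale K S},
      Ideal.Quotient.mk (nilradical A) r = c := by
  haveI := WEtale4.weaklyEtale_sSup (K := K) (A := A ⧸ nilradical A)
  set B' := sSup {S : Subalgebra K (A ⧸ nilradical A) | Algebra.WeaklyEtale K S} with hB'
  have hsep := separable_minpoly (K := K) (⟨c, hc⟩ : B')
  have hint : IsIntegral K (⟨c, hc⟩ : B') :=
    (WEtale3.isIntegral (k := K) (B := B')).isIntegral _
  set g := minpoly K (⟨c, hc⟩ : B') with hg
  have hgc : aeval c g = 0 := by
    have h1 : aeval (⟨c, hc⟩ : B') g = 0 := minpoly.aeval K _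
    have h2 := congrArg B'.val h1
    rwa [← Polynomial.aeval_algHom_apply, map_zero] at h2
  obtain ⟨c0, rfl⟩ := Ideal.Quotient.mk_surjective c
  have hnil : IsNilpotent (aeval c0 g) := by
    have h1 : Ideal.Quotient.mk (nilradical A) (aeval c0 g) = 0 := by
      have := Polynomial.aeval_algHom_apply (Ideal.Quotient.mkₐ K (nilradical A)) c0 g
      rw [Ideal.Quotient.mkₐ_eq_mk] at this
      rw [← this]; exact hgc
    rw [Ideal.Quotient.eq_zero_iff_mem] at h1
    exact h1
  have hunit : IsUnit (aeval c0 (derivative g)) := by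
    obtain ⟨a, b, hab⟩ := hsep
    have h1 : aeval c0 a * aeval c0 g + aeval c0 b * aeval c0 (derivative g) = 1 := by
      rw [← map_mul, ← map_mul, ← map_add, hab, map_one]
    have h2 : IsUnit (aeval c0 b * aeval c0 (derivative g)) := by
      have : aeval c0 b * aeval c0 (derivative g) = 1 - aeval c0 a * aeval c0 g := by
        rw [← h1]; ring
      rw [this]
      exact IsNilpotent.isUnit_one_sub (Commute.isNilpotent_mul_left (Commute.all _ _) hnil)
    exact isUnit_of_mul_isUnit_right h2
  obtain ⟨r, ⟨hr1, hr2⟩, -⟩ :=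
    Polynomial.existsUnique_nilpotent_sub_and_aeval_eq_zero hnil hunit
  refine ⟨r, mem_sSup_of_root g (minpoly.monic hint) hsep r hr2, ?_⟩
  rw [eq_comm, Ideal.Quotient.mk_eq_mk_iff_sub_mem]
  exact hr1

/-- A weakly étale algebra over a field with only trivial idempotents is a field. -/
theorem isField_of_idempotents {B : Type u} [CommRing B] [Algebra K B] [Algebra.WeaklyEtale K B]
    [Nontrivial B] (h : ∀ e : B, IsIdempotentElem e → e = 0 ∨ e = 1) : IsField B := by
  refine ⟨exists_pair_ne B, mul_comm, ?_⟩
  intro b hb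
  haveI : (Ideal.span {b}).Pure :=
    WEtale3.flat_of_field (Algebra.WeaklyEtale.flat_lmul' K B) _
  obtain ⟨y, hy, hxy⟩ := Ideal.exists_eq_mul_of_pure (Ideal.mem_span_singleton_self b)
  obtain ⟨c, rfl⟩ := Ideal.mem_span_singleton'.mp hy
  have hid : IsIdempotentElem (c * b) := by
    unfold IsIdempotentElem
    calc c * b * (c * b) = c * (b * (c * b)) := by ring
      _ = c * b := by rw [← hxy]
  rcases h _ hid with h0 | h1
  · exact absurd (by rw [hxy, h0, mul_zero]) hb
  · exact ⟨c, by rw [mul_comm]; exact h1⟩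

end max

end Groth.Agent.Lib.helper3.WEtale5
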