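import Mathlib
import Groth.Agent.Lib.Helper3.WEtale3

/-! Weakly étale morphisms of affine schemes vs. weakly étale ring maps. -/

set_option autoImplicit false
universe u

namespace Groth.Agent.Lib.helper3.WEtaleSch

open AlgebraicGeometry CategoryTheory Limits TensorProduct Groth.Agent.Lib.helper3

/-- the ring hom property: weakly étale -/
def Q {R S : Type u} [CommRing R] [CommRing S] (φ : R →+* S) : Prop :=
  letI := φ.toAlgebra
  Algebra.WeaklyEtale R S

theorem Q_stableUnderComposition : RingHom.StableUnderComposition @Q := by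
  intro R S T _ _ _ f g hf hg
  algebraize [f, g, g.comp f]
  have h1 : Algebra.WeaklyEtale R S := hf
  have h2 : Algebra.WeaklyEtale S T := hg
  exact Algebra.WeaklyEtale.trans R S T

theorem Q_equiv {R S : Type u} [CommRing R] [CommRing S] (e : R ≃+* S) : Q e.toRingHom := by
  unfold Q
  letI := e.toRingHom.toAlgebra
  haveI : Module.Flat R S := RingHom.Flat.of_bijective (f := e.toRingHom) e.bijective
  exact WEtale3.weaklyEtale_of_surjective_of_flat e.surjective

theorem Q_respectsIso : RingHom.RespectsIso @Q :=
  Q_stableUnderComposition.respectsIso Q_equiv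

set_option backward.isDefEq.respectTransparency.types false in
theorem weaklyEtale_SpecMap_iff {R S : CommRingCat.{u}} (φ : R ⟶ S) :
    WeaklyEtale (Spec.map φ) ↔ Q φ.hom := by
  unfold Q
  algebraize [φ.hom]
  rw [weaklyEtale_iff, Algebra.weaklyEtale_iff, Flat.SpecMap_iff]
  have h2 : Flat (pullback.diagonal (Spec.map φ)) ↔
      (Algebra.TensorProduct.lmul' R (S := S)).Flat := by
    have e : pullback.diagonal (Spec.map φ) =
        Spec.map (CommRingCat.ofHom
          (Algebra.TensorProduct.lmul' R : S ⊗[R] S →ₐ[R] S).toRingHom) ≫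
          (pullbackSpecIso R S S).inv := AlgebraicGeometry.diagonal_SpecMap R S
    rw [e, MorphismProperty.cancel_right_of_respectsIso (P := @Flat), Flat.SpecMap_iff]
    rfl
  rw [h2]
  rfl

end Groth.Agent.Lib.helper3.WEtaleSch
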