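import Mathlib

/-!
Over an algebraically closed field `k`, the tensor product of two field extensions is a domain
(helper3).
-/

set_option autoImplicit false
universe u v w

namespace Groth.Agent.Lib.helper3.AlgClosedTensor

open TensorProduct

/-- Nullstellensatz: a nonzero element of a finite-type domain over an algebraically closed field
is nonzero at some `k`-point. -/
theorem exists_algHom_ne_zero {k : Type u} [Field k] [IsAlgClosed k] {B : Type v} [CommRing B]
    [IsDomain B] [Algebra k B] [Algebra.FiniteType k B] {s : B} (hs : s ≠ 0) :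
    ∃ φ : B →ₐ[k] k, φ s ≠ 0 := by
  have hJ : IsJacobsonRing B := isJacobsonRing_of_finiteType (A := k)
  have hbot : (⊥ : Ideal B).jacobson = ⊥ :=
    hJ.out (Ideal.IsPrime.isRadical Ideal.isPrime_bot)
  have hs' : s ∉ (⊥ : Ideal B).jacobson := by rw [hbot]; simpa using hs
  rw [Ideal.jacobson, Ideal.mem_sInf] at hs'
  push Not at hs'
  obtain ⟨m, ⟨_, hm⟩, hsm⟩ := hs'
  let _ := Ideal.Quotient.field m
  have hfin : Module.Finite k (B ⧸ m) := finite_of_finite_type_of_isJacobsonRing k (B ⧸ m)
  have hint : Algebra.IsIntegral k (B ⧸ m) := Algebra.IsIntegral.of_finite k (B ⧸ m)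
  have hbij : Function.Bijective (algebraMap k (B ⧸ m)) :=
    IsAlgClosed.algebraMap_bijective_of_isIntegral
  let eqv : k ≃ₐ[k] (B ⧸ m) := AlgEquiv.ofBijective (Algebra.ofId k (B ⧸ m)) hbij
  refine ⟨(eqv.symm : (B ⧸ m) →ₐ[k] k).comp (Ideal.Quotient.mkₐ k m), ?_⟩
  intro h
  apply hsm
  have h2 : (Ideal.Quotient.mkₐ k m) s = 0 := by
    have := congrArg eqv h
    simpa using this
  exact Ideal.Quotient.eq_zero_iff_mem.mp h2

/-- tensor products of fields over an algebraically closed field have no zero divisors -/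
theorem noZeroDivisors_tensor (k : Type u) [Field k] [IsAlgClosed k] (K : Type v) (L : Type w)
    [Field K] [Field L] [Algebra k K] [Algebra k L] : NoZeroDivisors (K ⊗[k] L) := by
  classical
  refine ⟨fun {x y} hxy => ?_⟩
  by_contra hne
  push Not at hne
  obtain ⟨hx, hy⟩ := hne
  let b := Module.Basis.ofVectorSpace k L
  let bK := Algebra.TensorProduct.basis K b
  have hxne : bK.repr x ≠ 0 := by simpa using hx
  have hyne : bK.repr y ≠ 0 := by simpa using hy
  obtain ⟨i0, hi0⟩ := Finsupp.ne_iff.mp hxne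
  obtain ⟨j0, hj0⟩ := Finsupp.ne_iff.mp hyne
  rw [Finsupp.zero_apply] at hi0 hj0
  let T : Finset K := (bK.repr x).support.image (bK.repr x) ∪ (bK.repr y).support.image (bK.repr y)
  let B : Subalgebra k K := Algebra.adjoin k (T : Set K)
  have hBfg : B.FG := Subalgebra.fg_adjoin_finset T
  have hBft : Algebra.FiniteType k B := (Subalgebra.fg_iff_finiteType B).mp hBfg
  have hxB : ∀ i, bK.repr x i ∈ B := fun i => by
    by_cases h : bK.repr x i = 0
    · rw [h]; exact B.zero_mem
    · exact Algebra.subset_adjoin (Finset.mem_coe.mpr (Finset.mem_union_left _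
        (Finset.mem_image_of_mem _ (Finsupp.mem_support_iff.mpr h))))
  have hyB : ∀ i, bK.repr y i ∈ B := fun i => by
    by_cases h : bK.repr y i = 0
    · rw [h]; exact B.zero_mem
    · exact Algebra.subset_adjoin (Finset.mem_coe.mpr (Finset.mem_union_right _
        (Finset.mem_image_of_mem _ (Finsupp.mem_support_iff.mpr h))))
  let x' : B ⊗[k] L := ∑ i ∈ (bK.repr x).support, (⟨bK.repr x i, hxB i⟩ : B) ⊗ₜ[k] b i
  let y' : B ⊗[k] L := ∑ i ∈ (bK.repr y).support, (⟨bK.repr y i, hyB i⟩ : B) ⊗ₜ[k] b i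
  let ψ : B ⊗[k] L →ₐ[k] K ⊗[k] L := Algebra.TensorProduct.map B.val (AlgHom.id k L)
  have hsum : ∀ z : K ⊗[k] L, ∑ i ∈ (bK.repr z).support, (bK.repr z i) ⊗ₜ[k] b i = z := by
    intro z
    conv_rhs => rw [← bK.linearCombination_repr z]
    rw [Finsupp.linearCombination_apply, Finsupp.sum]
    refine Finset.sum_congr rfl fun i _ => ?_
    rw [Algebra.TensorProduct.basis_repr_symm_apply']
  have hψx : ψ x' = x := by
    simp only [x', ψ, map_sum, Algebra.TensorProduct.map_tmul, Subalgebra.coe_val, AlgHom.coe_id,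
      id_eq]
    exact hsum x
  have hψy : ψ y' = y := by
    simp only [y', ψ, map_sum, Algebra.TensorProduct.map_tmul, Subalgebra.coe_val, AlgHom.coe_id,
      id_eq]
    exact hsum y
  have hψinj : Function.Injective ψ := by
    have h := Module.Flat.rTensor_preserves_injective_linearMap (M := L) B.val.toLinearMap
      Subtype.val_injective
    exact h
  have hprod : x' * y' = 0 := hψinj (by rw [map_mul, hψx, hψy, hxy, map_zero])
  -- the nonzero element
  have hs : (⟨bK.repr x i0, hxB i0⟩ : B) * ⟨bK.repr y j0, hyB j0⟩ ≠ 0 := by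
    refine mul_ne_zero ?_ ?_
    · intro h; exact hi0 (congrArg Subtype.val h)
    · intro h; exact hj0 (congrArg Subtype.val h)
  obtain ⟨φ, hφ⟩ := exists_algHom_ne_zero (k := k) hs
  rw [map_mul] at hφ
  let θ : B ⊗[k] L →ₐ[k] L :=
    Algebra.TensorProduct.lift ((Algebra.ofId k L).comp φ) (AlgHom.id k L)
      (fun _ _ => Commute.all _ _)
  have hθ : θ x' * θ y' = 0 := by rw [← map_mul, hprod, map_zero]
  have hθx : ∀ (z : K ⊗[k] L) (hz : ∀ i, bK.repr z i ∈ B),
      θ (∑ i ∈ (bK.repr z).support, (⟨bK.repr z i, hz i⟩ : B) ⊗ₜ[k] b i) =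
      ∑ i ∈ (bK.repr z).support, φ ⟨bK.repr z i, hz i⟩ • b i := by
    intro z hz
    rw [map_sum]
    refine Finset.sum_congr rfl fun i _ => ?_
    simp only [θ, Algebra.TensorProduct.lift_tmul, AlgHom.comp_apply, AlgHom.coe_id, id_eq,
      Algebra.ofId_apply, Algebra.smul_def]
  have hcoord : ∀ (z : K ⊗[k] L) (hz : ∀ i, bK.repr z i ∈ B) (i1 : Module.Basis.ofVectorSpaceIndex k L),
      bK.repr z i1 ≠ 0 →
      b.repr (∑ i ∈ (bK.repr z).support, φ ⟨bK.repr z i, hz i⟩ • b i) i1 =
        φ ⟨bK.repr z i1, hz i1⟩ := by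
    intro z hz i1 hi1
    rw [map_sum, Finset.sum_apply']
    rw [Finset.sum_eq_single i1]
    · simp
    · intro j _ hj
      simp [hj]
    · intro h
      exact absurd (Finsupp.mem_support_iff.mpr hi1) h
  rcases mul_eq_zero.mp hθ with h | h
  · have h1 := hcoord x hxB i0 hi0
    rw [← hθx x hxB] at h1
    change b.repr (θ x') i0 = _ at h1
    rw [h, map_zero, Finsupp.zero_apply] at h1
    exact hφ (by rw [← h1, zero_mul])
  · have h1 := hcoord y hyB j0 hj0
    rw [← hθx y hyB] at h1
    change b.repr (θ y') j0 = _ at h1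
    rw [h, map_zero, Finsupp.zero_apply] at h1
    exact hφ (by rw [← h1, mul_zero])

theorem isDomain_tensor (k : Type u) [Field k] [IsAlgClosed k] (K : Type v) (L : Type w)
    [Field K] [Field L] [Algebra k K] [Algebra k L] : IsDomain (K ⊗[k] L) := by
  have h1 := noZeroDivisors_tensor k K L
  have h2 : Nontrivial (K ⊗[k] L) :=
    (Algebra.TensorProduct.includeLeft_injective (S := k) (R := k) (A := K) (B := L)
      (algebraMap k L).injective).nontrivial
  exact NoZeroDivisors.to_isDomain _

open AlgebraicGeometry CategoryTheory in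
/-- `Spec K ⟶ Spec k` is geometrically irreducible when `k` is algebraically closed -/
theorem geometricallyIrreducible_specMap (k K : Type u) [Field k] [IsAlgClosed k] [Field K]
    [Algebra k K] :
    GeometricallyIrreducible (Spec.map (CommRingCat.ofHom (algebraMap k K))) := by
  refine ⟨(geometrically_iff_of_commRing_of_isClosedUnderIsomorphisms).mpr fun L _ _ => ?_⟩
  have := isDomain_tensor k K L
  rw [(pullbackSpecIso k K L).hom.homeomorph.irreducibleSpace_iff]
  change IrreducibleSpace (PrimeSpectrum (K ⊗[k] L))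
  infer_instance

end Groth.Agent.Lib.helper3.AlgClosedTensor
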