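import Mathlib
import Groth.Agent.Lib.Helper3.AlgClosedTensor
import Groth.Agent.Lib.Helper17.SmoothArtin

/-!
Geometric reducedness of algebras over fields (helper3):
* a reduced algebra over an algebraically closed field stays reduced after any field extension;
* a reduced algebra over a perfect field is geometrically reduced;
* a geometrically reduced algebra stays reduced after ANY field extension (not only algebraic ones).
-/

set_option autoImplicit false
universe u v w

namespace Groth.Agent.Lib.helper3.GeomRed

open TensorProduct

/-- If `C ⊗ L` is reduced for all fields `L`, then `C ⊗ B` is reduced for noetherian reduced `B`. -/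
theorem isReduced_tensor_of_noetherian {k : Type u} [Field k] {C : Type w} [CommRing C]
    [Algebra k C]
    (h : ∀ (L : Type v) [Field L] [Algebra k L] [Algebra.EssFiniteType k L],
      IsReduced (C ⊗[k] L))
    (B : Type v) [CommRing B] [Algebra k B] [Algebra.FiniteType k B] [IsReduced B] :
    IsReduced (C ⊗[k] B) := by
  classical
  have hnoeth : IsNoetherianRing B := Algebra.FiniteType.isNoetherianRing k B
  have hfin : (minimalPrimes B).Finite := minimalPrimes.finite_of_isNoetherianRing B
  have hft : Fintype ↥(minimalPrimes B) := hfin.fintype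
  have hp : ∀ p : ↥(minimalPrimes B), p.1.IsPrime := fun p => p.2.1.1
  let L : ↥(minimalPrimes B) → Type v := fun p => FractionRing (B ⧸ p.1)
  let φ : B →ₐ[k] ∀ p, L p :=
    AlgHom.pi (fun p => (IsScalarTower.toAlgHom k (B ⧸ p.1) (L p)).comp
      (Ideal.Quotient.mkₐ k p.1))
  have hφ : Function.Injective φ := by
    rw [injective_iff_map_eq_zero]
    intro b hb
    have hmem : ∀ p ∈ minimalPrimes B, b ∈ p := by
      intro p hpm
      have h1 := congrFun hb ⟨p, hpm⟩
      have h2 : algebraMap (B ⧸ p) (FractionRing (B ⧸ p)) (Ideal.Quotient.mk p b) = 0 := h1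
      have hpp : p.IsPrime := hpm.1.1
      have h3 := (IsFractionRing.injective (B ⧸ p) (FractionRing (B ⧸ p))) (h2.trans (map_zero _).symm)
      exact Ideal.Quotient.eq_zero_iff_mem.mp h3
    have h4 : b ∈ sInf (minimalPrimes B) := by
      rw [Ideal.mem_sInf]
      exact fun {p} hpm => hmem p hpm
    have h5 : sInf (minimalPrimes B) = nilradical B := by
      unfold minimalPrimes nilradical
      exact Ideal.sInf_minimalPrimes
    rw [h5, nilradical_eq_zero] at h4
    exact h4
  have h1 : Function.Injective (Algebra.TensorProduct.map (AlgHom.id k C) φ) :=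
    Module.Flat.lTensor_preserves_injective_linearMap _ hφ
  have h2 : ∀ p, IsReduced (C ⊗[k] L p) := fun p => h (L p)
  have h3 : IsReduced (∀ p, C ⊗[k] L p) := inferInstance
  let e := Algebra.TensorProduct.piRight k k C L
  have h4 : IsReduced (C ⊗[k] ∀ p, L p) := isReduced_of_injective e e.injective
  exact isReduced_of_injective (Algebra.TensorProduct.map (AlgHom.id k C) φ) h1

/-- If `C ⊗ L` is reduced for all fields `L`, then `C ⊗ A` is reduced for all reduced `A`. -/
theorem isReduced_tensor_of_forall_field {k : Type u} [Field k] {C : Type w} [CommRing C]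
    [Algebra k C]
    (h : ∀ (L : Type v) [Field L] [Algebra k L] [Algebra.EssFiniteType k L],
      IsReduced (C ⊗[k] L))
    (A : Type v) [CommRing A] [Algebra k A] [IsReduced A] : IsReduced (C ⊗[k] A) := by
  apply IsReduced.tensorProduct_of_flat_of_forall_fg
  intro B hB
  have : Algebra.FiniteType k B := (Subalgebra.fg_iff_finiteType B).mp hB
  have : IsReduced B := isReduced_of_injective B.val Subtype.val_injective
  exact isReduced_tensor_of_noetherian h B

/-- Over an algebraically closed field, reduced algebras stay reduced after field extension. -/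
theorem isReduced_tensor_of_isAlgClosed (k : Type u) [Field k] [IsAlgClosed k] (K : Type w)
    [Field K] [Algebra k K] (A : Type v) [CommRing A] [Algebra k A] [IsReduced A] :
    IsReduced (K ⊗[k] A) :=
  isReduced_tensor_of_forall_field
    (fun L _ _ _ => have := AlgClosedTensor.isDomain_tensor k K L; inferInstance) A

/-- A reduced algebra over a perfect field is geometrically reduced. -/
theorem isGeometricallyReduced_of_perfectField (k : Type u) [Field k] [PerfectField k]
    (A : Type v) [CommRing A] [Algebra k A] [IsReduced A] : Algebra.IsGeometricallyReduced k A := by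
  rw [Algebra.isGeometricallyReduced_field_iff]
  refine isReduced_tensor_of_forall_field (fun L _ _ _ => ?_) A
  have h1 : Algebra.IsGeometricallyReduced k L :=
    Groth.Agent.Lib.helper17.SmoothArtin.isGeometricallyReduced_of_formallySmooth
  exact (Algebra.isGeometricallyReduced_field_iff k L).mp h1

/-- A geometrically reduced algebra stays reduced after an arbitrary field extension. -/
theorem isReduced_tensor_of_isGeometricallyReduced (k : Type u) [Field k] (K : Type w) [Field K]
    [Algebra k K] (A : Type v) [CommRing A] [Algebra k A] [Algebra.IsGeometricallyReduced k A] :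
    IsReduced (K ⊗[k] A) := by
  let ι : AlgebraicClosure k →ₐ[k] AlgebraicClosure K := IsAlgClosed.lift
  let _ : Algebra (AlgebraicClosure k) (AlgebraicClosure K) := ι.toRingHom.toAlgebra
  have : IsScalarTower k (AlgebraicClosure k) (AlgebraicClosure K) :=
    IsScalarTower.of_algebraMap_eq (fun x => (ι.commutes x).symm)
  have h0 : IsReduced (AlgebraicClosure k ⊗[k] A) :=
    (Algebra.isGeometricallyReduced_field_iff k A).mp inferInstance
  have h1 := isReduced_tensor_of_isAlgClosed (AlgebraicClosure k) (AlgebraicClosure K)
    (AlgebraicClosure k ⊗[k] A)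
  let e : AlgebraicClosure K ⊗[AlgebraicClosure k] (AlgebraicClosure k ⊗[k] A) ≃ₐ[AlgebraicClosure k]
      AlgebraicClosure K ⊗[k] A :=
    Algebra.TensorProduct.cancelBaseChange k (AlgebraicClosure k) (AlgebraicClosure k)
      (AlgebraicClosure K) A
  have h2 : IsReduced (AlgebraicClosure K ⊗[k] A) :=
    isReduced_of_injective e.symm e.symm.injective
  let φ : K ⊗[k] A →ₐ[k] AlgebraicClosure K ⊗[k] A :=
    Algebra.TensorProduct.map (IsScalarTower.toAlgHom k K (AlgebraicClosure K)) (AlgHom.id k A)
  have hφ : Function.Injective φ :=
    Module.Flat.rTensor_preserves_injective_linearMap (M := A)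
      (IsScalarTower.toAlgHom k K (AlgebraicClosure K)).toLinearMap
      (algebraMap K (AlgebraicClosure K)).injective
  exact isReduced_of_injective φ hφ

end Groth.Agent.Lib.helper3.GeomRed
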