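import Groth.Agent.Lib.Helper3.GeomConn

/-!
Counting connected / irreducible components after base change to field extensions (helper3).
-/

set_option autoImplicit false
universe u

namespace Groth.Agent.Lib.helper3.CompCard

open TensorProduct AlgebraicGeometry CategoryTheory Limits

/-- two field extensions of `k` embed in a common field extension (in the same universe) -/
theorem exists_common_extension (k K Ω : Type u) [Field k] [Field K] [Field Ω] [Algebra k K]
    [Algebra k Ω] :
    ∃ (L : Type u) (_ : Field L) (_ : Algebra k L) (_ : Algebra K L) (_ : Algebra Ω L),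
      IsScalarTower k K L ∧ IsScalarTower k Ω L := by
  have hnt : Nontrivial (K ⊗[k] Ω) := inferInstance
  obtain ⟨m, hm⟩ := Ideal.exists_maximal (K ⊗[k] Ω)
  let _ : Field ((K ⊗[k] Ω) ⧸ m) := Ideal.Quotient.field m
  let φK : K →+* (K ⊗[k] Ω) ⧸ m :=
    (Ideal.Quotient.mk m).comp (Algebra.TensorProduct.includeLeftRingHom)
  let φΩ : Ω →+* (K ⊗[k] Ω) ⧸ m :=
    (Ideal.Quotient.mk m).comp (Algebra.TensorProduct.includeRight (R := k) (A := K) (B := Ω)).toRingHom
  let aK : Algebra K ((K ⊗[k] Ω) ⧸ m) := φK.toAlgebra
  let aΩ : Algebra Ω ((K ⊗[k] Ω) ⧸ m) := φΩ.toAlgebra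
  refine ⟨(K ⊗[k] Ω) ⧸ m, inferInstance, inferInstance, aK, aΩ, ?_, ?_⟩
  · refine IsScalarTower.of_algebraMap_eq fun x => ?_
    rfl
  · refine IsScalarTower.of_algebraMap_eq fun x => ?_
    change Ideal.Quotient.mk m (algebraMap k (K ⊗[k] Ω) x) =
      Ideal.Quotient.mk m ((1 : K) ⊗ₜ[k] algebraMap k Ω x)
    congr 1
    rw [Algebra.TensorProduct.algebraMap_apply, Algebra.algebraMap_eq_smul_one,
      Algebra.algebraMap_eq_smul_one, TensorProduct.smul_tmul]

/-- a continuous surjection onto a quasi-sober space does not increase the number of irreducible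
components -/
theorem card_irreducibleComponents_le_of_surjective {A B : Type u} [TopologicalSpace A]
    [TopologicalSpace B] [QuasiSober B] {q : A → B} (hq : Continuous q)
    (hs : Function.Surjective q) :
    Cardinal.mk (irreducibleComponents B) ≤ Cardinal.mk (irreducibleComponents A) := by
  classical
  have hgen : ∀ Z : irreducibleComponents B, ∃ a : A, IsGenericPoint (q a) (Z : Set B) := by
    intro Z
    obtain ⟨η, hη⟩ := QuasiSober.sober Z.2.1 (isClosed_of_mem_irreducibleComponents _ Z.2)
    obtain ⟨a, rfl⟩ := hs η
    exact ⟨a, hη⟩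
  choose a ha using hgen
  let F : irreducibleComponents B → irreducibleComponents A := fun Z =>
    ⟨irreducibleComponent (a Z), irreducibleComponent_mem_irreducibleComponents _⟩
  have key : ∀ Z : irreducibleComponents B, closure (q '' (F Z : Set A)) = (Z : Set B) := by
    intro Z
    have hirr : IsIrreducible (closure (q '' (F Z : Set A))) :=
      (isIrreducible_irreducibleComponent.image q hq.continuousOn).closure
    have hsub : (Z : Set B) ⊆ closure (q '' (F Z : Set A)) := by
      rw [← (ha Z).def]
      apply closure_mono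
      rw [Set.singleton_subset_iff]
      exact ⟨a Z, mem_irreducibleComponent, rfl⟩
    exact (Z.2.2 hirr hsub |>.antisymm hsub).symm ▸ rfl
  refine Cardinal.mk_le_of_injective (f := F) fun Z Z' h => ?_
  apply Subtype.ext
  rw [← key Z, ← key Z', h]

section main

variable {k K Ω : Type u} [Field k] [Field K] [Algebra k K] [Field Ω] [Algebra k Ω]
  {X : Scheme.{u}} (f : X ⟶ Spec (CommRingCat.of k))

/-- `Spec L ⟶ Spec K` is surjective for a field extension -/
theorem surjective_specMap_field (K L : Type u) [Field K] [Field L] [Algebra K L] :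
    Surjective (Spec.map (CommRingCat.ofHom (algebraMap K L))) := by
  refine ⟨fun x => ?_⟩
  have hu : Subsingleton (PrimeSpectrum K) := inferInstance
  have hn : Nonempty (PrimeSpectrum L) := inferInstance
  obtain ⟨y⟩ := hn
  exact ⟨y, hu.elim _ _⟩

/-- The comparison datum: a scheme `W` with a surjection onto `X_K` and a geometrically
irreducible, geometrically connected, universally open morphism onto `X_Ω`. -/
theorem exists_comparison [IsAlgClosed Ω] :
    ∃ (W : Scheme.{u}) (a : W ⟶ pullback f (Spec.map (CommRingCat.ofHom (algebraMap k K))))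
      (b : W ⟶ pullback f (Spec.map (CommRingCat.ofHom (algebraMap k Ω)))),
      Surjective a ∧ GeometricallyConnected b ∧ GeometricallyIrreducible b ∧ UniversallyOpen b := by
  obtain ⟨L, _, _, _, _, hK, hΩ⟩ := exists_common_extension k K Ω
  have heq : Spec.map (CommRingCat.ofHom (algebraMap K L)) ≫
        Spec.map (CommRingCat.ofHom (algebraMap k K)) =
      Spec.map (CommRingCat.ofHom (algebraMap Ω L)) ≫
        Spec.map (CommRingCat.ofHom (algebraMap k Ω)) := by
    rw [← Spec.map_comp, ← Spec.map_comp, ← CommRingCat.ofHom_comp, ← CommRingCat.ofHom_comp,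
      ← IsScalarTower.algebraMap_eq, ← IsScalarTower.algebraMap_eq]
  let e : pullback (pullback.snd f (Spec.map (CommRingCat.ofHom (algebraMap k Ω))))
        (Spec.map (CommRingCat.ofHom (algebraMap Ω L))) ≅
      pullback (pullback.snd f (Spec.map (CommRingCat.ofHom (algebraMap k K))))
        (Spec.map (CommRingCat.ofHom (algebraMap K L))) :=
    pullbackLeftPullbackSndIso f _ _ ≪≫ pullback.congrHom rfl heq.symm ≪≫
      (pullbackLeftPullbackSndIso f _ _).symm
  have hs := surjective_specMap_field K L
  have hs' : Surjective (pullback.fst (pullback.snd f (Spec.map (CommRingCat.ofHom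
      (algebraMap k K)))) (Spec.map (CommRingCat.ofHom (algebraMap K L)))) :=
    MorphismProperty.pullback_fst (P := @Surjective) _ _ hs
  have hgc := GeomConn.geometricallyConnected_specMap Ω L
  have hgi := AlgClosedTensor.geometricallyIrreducible_specMap Ω L
  have hu : UniversallyOpen (Spec.map (CommRingCat.ofHom (algebraMap Ω L))) := inferInstance
  refine ⟨_, e.hom ≫ pullback.fst _ _, pullback.fst (pullback.snd f (Spec.map (CommRingCat.ofHom
      (algebraMap k Ω)))) (Spec.map (CommRingCat.ofHom (algebraMap Ω L))), ?_,
    MorphismProperty.pullback_fst (P := @GeometricallyConnected) _ _ hgc,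
    MorphismProperty.pullback_fst (P := @GeometricallyIrreducible) _ _ hgi,
    MorphismProperty.pullback_fst (P := @UniversallyOpen) _ _ hu⟩
  infer_instance

theorem card_connectedComponents_le [IsAlgClosed Ω] :
    Cardinal.mk (_root_.ConnectedComponents
        ↥(pullback f (Spec.map (CommRingCat.ofHom (algebraMap k K))))) ≤
      Cardinal.mk (_root_.ConnectedComponents
        ↥(pullback f (Spec.map (CommRingCat.ofHom (algebraMap k Ω))))) := by
  obtain ⟨W, a, b, ha, hb1, hb2, hb3⟩ := exists_comparison (K := K) (Ω := Ω) f
  have h1 : Cardinal.mk (_root_.ConnectedComponents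
        ↥(pullback f (Spec.map (CommRingCat.ofHom (algebraMap k K))))) ≤
      Cardinal.mk (_root_.ConnectedComponents W) :=
    Cardinal.mk_le_of_surjective (a.continuous.connectedComponentsMap_surjective a.surjective)
  have h2 := (Scheme.Hom.connectedComponentsHomeomorph b b.isOpenMap).toEquiv.cardinal_eq
  exact h1.trans h2.le

theorem card_irreducibleComponents_le [IsAlgClosed Ω] :
    Cardinal.mk (irreducibleComponents
        ↥(pullback f (Spec.map (CommRingCat.ofHom (algebraMap k K))))) ≤
      Cardinal.mk (irreducibleComponents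
        ↥(pullback f (Spec.map (CommRingCat.ofHom (algebraMap k Ω))))) := by
  obtain ⟨W, a, b, ha, hb1, hb2, hb3⟩ := exists_comparison (K := K) (Ω := Ω) f
  have h1 := card_irreducibleComponents_le_of_surjective a.continuous a.surjective
  have h2 := (Scheme.Hom.irreducibleComponentsEquiv b b.isOpenMap).cardinal_eq
  exact h1.trans h2.le

end main

end Groth.Agent.Lib.helper3.CompCard
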