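import Mathlib
import Groth.Agent.Lib.Helper3.GeomRed
import Groth.Agent.Lib.Helper3.CompCard

/-!
Geometric reducedness of schemes over fields (helper3): reduction to affine pieces, and
reduced schemes over perfect fields are geometrically reduced.
-/

set_option autoImplicit false
universe u

namespace Groth.Agent.Lib.helper3.GeomRed

open CategoryTheory Limits AlgebraicGeometry TensorProduct

/-- reducedness of a fibre product can be checked on an open cover of the left factor -/
theorem isReduced_pullback_iff_cover {X Y S : Scheme.{u}} (f : X ⟶ S) (g : Y ⟶ S)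
    (𝒰 : X.OpenCover) :
    AlgebraicGeometry.IsReduced (pullback f g) ↔
      ∀ i, AlgebraicGeometry.IsReduced (pullback (𝒰.f i ≫ f) g) := by
  constructor
  · intro h i
    exact isReduced_of_isOpenImmersion
      (pullback.map (𝒰.f i ≫ f) g f g (𝒰.f i) (𝟙 Y) (𝟙 S) (by simp) (by simp))
  · intro h
    have : ∀ i, AlgebraicGeometry.IsReduced ((Scheme.Pullback.openCoverOfLeft 𝒰 f g).X i) := h
    exact IsReduced.of_openCover (𝒰 := Scheme.Pullback.openCoverOfLeft 𝒰 f g)

/-- the affine case -/
theorem isReduced_pullback_specMap_iff (k A K : Type u) [CommRing k] [CommRing A] [CommRing K]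
    [Algebra k A] [Algebra k K] :
    AlgebraicGeometry.IsReduced (pullback (Spec.map (CommRingCat.ofHom (algebraMap k A)))
      (Spec.map (CommRingCat.ofHom (algebraMap k K)))) ↔ _root_.IsReduced (A ⊗[k] K) := by
  have h := affine_isReduced_iff (CommRingCat.of (A ⊗[k] K))
  constructor
  · intro h0
    have h' : AlgebraicGeometry.IsReduced (Spec (CommRingCat.of (A ⊗[k] K))) :=
      isReduced_of_isOpenImmersion (pullbackSpecIso k A K).inv
    exact h.mp h'
  · intro h0
    have h' : AlgebraicGeometry.IsReduced (Spec (CommRingCat.of (A ⊗[k] K))) := h.mpr h0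
    exact isReduced_of_isOpenImmersion (pullbackSpecIso k A K).hom

/-- a morphism `Spec R ⟶ Spec k` is `Spec` of an algebra map, for a suitable algebra structure -/
theorem exists_algebra_of_hom {k : Type u} [CommRing k] (R : CommRingCat.{u})
    (g : Spec R ⟶ Spec (CommRingCat.of k)) :
    ∃ (_ : Algebra k R), g = Spec.map (CommRingCat.ofHom (algebraMap k R)) := by
  refine ⟨(Spec.preimage g).hom.toAlgebra, ?_⟩
  have : CommRingCat.ofHom (@algebraMap k R _ _ (Spec.preimage g).hom.toAlgebra) =
      Spec.preimage g := rfl
  rw [this, Spec.map_preimage]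

/-- `X_K` is reduced as soon as `A ⊗ K` is reduced for the coordinate rings of all affine opens
(given as open immersions `Spec A ⟶ X`). -/
theorem isReduced_pullback_of_forall {k : Type u} [Field k] {X : Scheme.{u}}
    (f : X ⟶ Spec (CommRingCat.of k)) (K : Type u) [CommRing K] [Algebra k K]
    (h : ∀ (A : Type u) [CommRing A] [Algebra k A] (j : Spec (CommRingCat.of A) ⟶ X)
      [IsOpenImmersion j], j ≫ f = Spec.map (CommRingCat.ofHom (algebraMap k A)) →
      _root_.IsReduced (A ⊗[k] K)) :
    AlgebraicGeometry.IsReduced
      (pullback f (Spec.map (CommRingCat.ofHom (algebraMap k K)))) := by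
  rw [isReduced_pullback_iff_cover f _ X.affineOpenCover.openCover]
  intro i
  have key : ∀ (R : CommRingCat.{u}) (j : Spec R ⟶ X) [IsOpenImmersion j],
      AlgebraicGeometry.IsReduced
        (pullback (j ≫ f) (Spec.map (CommRingCat.ofHom (algebraMap k K)))) := by
    intro R j _
    obtain ⟨alg, halg⟩ := exists_algebra_of_hom R (j ≫ f)
    rw [halg]
    exact (isReduced_pullback_specMap_iff k R K).mpr (h R j halg)
  exact key _ (X.affineOpenCover.f i)

/-- conversely, if `X_K` is reduced then so is `A ⊗ K` for every affine open `Spec A ⟶ X` -/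
theorem isReduced_tensor_of_isReduced_pullback {k : Type u} [Field k] {X : Scheme.{u}}
    (f : X ⟶ Spec (CommRingCat.of k)) (K : Type u) [CommRing K] [Algebra k K]
    (h : AlgebraicGeometry.IsReduced
      (pullback f (Spec.map (CommRingCat.ofHom (algebraMap k K)))))
    (A : Type u) [CommRing A] [Algebra k A] (j : Spec (CommRingCat.of A) ⟶ X)
    [IsOpenImmersion j] (hj : j ≫ f = Spec.map (CommRingCat.ofHom (algebraMap k A))) :
    _root_.IsReduced (A ⊗[k] K) := by
  rw [← isReduced_pullback_specMap_iff, ← hj]
  exact isReduced_of_isOpenImmersion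
    (pullback.map (j ≫ f) (Spec.map (CommRingCat.ofHom (algebraMap k K))) f
      (Spec.map (CommRingCat.ofHom (algebraMap k K))) j (𝟙 _) (𝟙 _) (by simp) (by simp))

/-- a scheme over a field is geometrically reduced if all its affine coordinate rings are -/
theorem geometricallyReduced_of_forall {k : Type u} [Field k] {X : Scheme.{u}}
    (f : X ⟶ Spec (CommRingCat.of k))
    (h : ∀ (A : Type u) [CommRing A] [Algebra k A] (j : Spec (CommRingCat.of A) ⟶ X)
      [IsOpenImmersion j], j ≫ f = Spec.map (CommRingCat.ofHom (algebraMap k A)) →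
      Algebra.IsGeometricallyReduced k A) :
    GeometricallyReduced f := by
  refine ⟨(geometrically_iff_of_commRing_of_isClosedUnderIsomorphisms).mpr fun K _ _ => ?_⟩
  apply isReduced_pullback_of_forall
  intro A _ _ j _ hj
  have := h A j hj
  have h2 := isReduced_tensor_of_isGeometricallyReduced k K A
  exact isReduced_of_injective (Algebra.TensorProduct.comm k A K)
    (Algebra.TensorProduct.comm k A K).injective

/-- an affine open of a reduced scheme has reduced coordinate ring -/
theorem isReduced_of_openImmersion_spec {X : Scheme.{u}} [AlgebraicGeometry.IsReduced X]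
    (A : Type u) [CommRing A] (j : Spec (CommRingCat.of A) ⟶ X) [IsOpenImmersion j] :
    _root_.IsReduced A :=
  (affine_isReduced_iff (CommRingCat.of A)).mp (isReduced_of_isOpenImmersion j)

/-- a reduced scheme over a perfect field is geometrically reduced -/
theorem geometricallyReduced_of_perfectField {k : Type u} [Field k] [PerfectField k]
    {X : Scheme.{u}} (f : X ⟶ Spec (CommRingCat.of k)) [AlgebraicGeometry.IsReduced X] :
    GeometricallyReduced f := by
  apply geometricallyReduced_of_forall
  intro A _ _ j _ _
  have := isReduced_of_openImmersion_spec A j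
  exact isGeometricallyReduced_of_perfectField k A

end Groth.Agent.Lib.helper3.GeomRed
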