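import Mathlib
import Groth.Agent.Lib.Helper3.GeomRedSch

/-!
More on geometric reducedness (helper3): descent from a perfect extension, base change along a
geometrically reduced (= separable) field extension.
-/

set_option autoImplicit false
universe u

namespace Groth.Agent.Lib.helper3.GeomRed

open CategoryTheory Limits AlgebraicGeometry TensorProduct

/-- reducedness of `A ⊗ K` does not depend on the order of the factors -/
theorem isReduced_comm {k : Type u} [CommRing k] (A K : Type u) [CommRing A] [CommRing K]
    [Algebra k A] [Algebra k K] (h : _root_.IsReduced (A ⊗[k] K)) : _root_.IsReduced (K ⊗[k] A) :=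
  isReduced_of_injective (Algebra.TensorProduct.comm k K A)
    (Algebra.TensorProduct.comm k K A).injective

/-- if `Ω ⊗ A` is reduced for one perfect extension field `Ω` of `k`, then `A` is geometrically
reduced over `k` -/
theorem isGeometricallyReduced_of_perfect_ext {k : Type u} [Field k] (Ω : Type u) [Field Ω]
    [Algebra k Ω] [PerfectField Ω] (A : Type u) [CommRing A] [Algebra k A]
    (h : _root_.IsReduced (Ω ⊗[k] A)) : Algebra.IsGeometricallyReduced k A := by
  rw [Algebra.isGeometricallyReduced_field_iff]
  have h0 : Algebra.IsGeometricallyReduced Ω (Ω ⊗[k] A) :=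
    isGeometricallyReduced_of_perfectField Ω (Ω ⊗[k] A)
  obtain ⟨L, _, _, _, _, _, _⟩ := CompCard.exists_common_extension k (AlgebraicClosure k) Ω
  have h1 : _root_.IsReduced (L ⊗[Ω] (Ω ⊗[k] A)) :=
    isReduced_tensor_of_isGeometricallyReduced Ω L (Ω ⊗[k] A)
  let e : L ⊗[Ω] (Ω ⊗[k] A) ≃ₐ[Ω] L ⊗[k] A :=
    Algebra.TensorProduct.cancelBaseChange k Ω Ω L A
  have h2 : _root_.IsReduced (L ⊗[k] A) := isReduced_of_injective e.symm e.symm.injective
  let φ : AlgebraicClosure k ⊗[k] A →ₐ[k] L ⊗[k] A :=
    Algebra.TensorProduct.map (IsScalarTower.toAlgHom k (AlgebraicClosure k) L) (AlgHom.id k A)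
  have hφ : Function.Injective φ :=
    Module.Flat.rTensor_preserves_injective_linearMap (M := A)
      (IsScalarTower.toAlgHom k (AlgebraicClosure k) L).toLinearMap
      (algebraMap (AlgebraicClosure k) L).injective
  exact isReduced_of_injective φ hφ

/-- base change of a reduced algebra along a geometrically reduced field extension is reduced -/
theorem isReduced_tensor_of_isGeometricallyReduced_left {k : Type u} [Field k] (k' : Type u)
    [Field k'] [Algebra k k'] [Algebra.IsGeometricallyReduced k k'] (A : Type u) [CommRing A]
    [Algebra k A] [_root_.IsReduced A] : _root_.IsReduced (k' ⊗[k] A) := by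
  refine isReduced_tensor_of_forall_field (fun L _ _ _ => ?_) A
  exact isReduced_comm L k' (isReduced_tensor_of_isGeometricallyReduced k L k')

/-- if `X_Ω` is reduced for a perfect extension `Ω` of `k` then `X` is geometrically reduced -/
theorem geometricallyReduced_of_perfect_ext {k : Type u} [Field k] (Ω : Type u) [Field Ω]
    [Algebra k Ω] [PerfectField Ω] {X : Scheme.{u}} (f : X ⟶ Spec (CommRingCat.of k))
    (h : AlgebraicGeometry.IsReduced
      (pullback f (Spec.map (CommRingCat.ofHom (algebraMap k Ω))))) :
    GeometricallyReduced f := by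
  apply geometricallyReduced_of_forall
  intro A _ _ j _ hj
  have h1 := isReduced_tensor_of_isReduced_pullback f Ω h A j hj
  exact isGeometricallyReduced_of_perfect_ext Ω A (isReduced_comm A Ω h1)

/-- a reduced scheme stays reduced after a geometrically reduced (separable) field extension -/
theorem isReduced_pullback_of_isGeometricallyReduced {k : Type u} [Field k] (k' : Type u)
    [Field k'] [Algebra k k'] [Algebra.IsGeometricallyReduced k k'] {X : Scheme.{u}}
    (f : X ⟶ Spec (CommRingCat.of k)) [AlgebraicGeometry.IsReduced X] :
    AlgebraicGeometry.IsReduced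
      (pullback f (Spec.map (CommRingCat.ofHom (algebraMap k k')))) := by
  apply isReduced_pullback_of_forall
  intro A _ _ j _ _
  have := isReduced_of_openImmersion_spec A j
  exact isReduced_comm k' A (isReduced_tensor_of_isGeometricallyReduced_left k' A)

end Groth.Agent.Lib.helper3.GeomRed
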