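import Mathlib

/-!
# Gröbner-type bases with unit leading coefficients (helper3)

`IsGB m I B`: `B ⊆ I`, all leading coefficients of `B` are units, and the `m`-degree of every
nonzero element of `I` is divisible by the degree of some element of `B`.  Then `I = span B`
and `R[x] ⧸ I` is a free `R`-module with basis the standard monomials.
-/

set_option autoImplicit false
universe u v
open MvPolynomial

namespace Groth.Agent.Lib.helper3.GrobFree

variable {σ : Type v} (m : MonomialOrder σ) {R : Type u} [CommRing R]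

/-- Standard monomials with respect to a set `B` of polynomials. -/
def stdSet (B : Set (MvPolynomial σ R)) : Set (σ →₀ ℕ) := {c | ∀ b ∈ B, ¬ m.degree b ≤ c}

/-- `B` is a Gröbner-type basis of `I` with unit leading coefficients. -/
structure IsGB (I : Ideal (MvPolynomial σ R)) (B : Set (MvPolynomial σ R)) : Prop where
  sub : B ⊆ I
  unit : ∀ b ∈ B, IsUnit (m.leadingCoeff b)
  lead : ∀ h ∈ I, h ≠ 0 → ∃ b ∈ B, m.degree b ≤ m.degree h

variable {m} {I : Ideal (MvPolynomial σ R)} {B : Set (MvPolynomial σ R)}

theorem IsGB.eq_zero_of_support (hB : IsGB m I B) {h : MvPolynomial σ R} (hI : h ∈ I)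
    (hs : ∀ c ∈ h.support, c ∈ stdSet m B) : h = 0 := by
  by_contra hne
  obtain ⟨b, hb, hle⟩ := hB.lead h hI hne
  exact hs _ (m.degree_mem_support hne) b hb hle

theorem IsGB.exists_rem (hB : IsGB m I B) (f : MvPolynomial σ R) :
    ∃ r : MvPolynomial σ R, f - r ∈ Ideal.span B ∧ ∀ c ∈ r.support, c ∈ stdSet m B := by
  obtain ⟨g, r, hf, -, hr⟩ := m.div_set hB.unit f
  refine ⟨r, ?_, fun c hc b hb => hr c hc b hb⟩
  have : f - r = Finsupp.linearCombination _ (fun b : B => (b : MvPolynomial σ R)) g := by
    rw [hf]; ring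
  rw [this, Finsupp.linearCombination_apply]
  refine Ideal.sum_mem _ fun b _ => ?_
  exact Ideal.mul_mem_left _ _ (Ideal.subset_span b.2)

theorem IsGB.span_eq (hB : IsGB m I B) : Ideal.span B = I := by
  refine le_antisymm (Ideal.span_le.mpr hB.sub) fun f hf => ?_
  obtain ⟨r, hr, hs⟩ := hB.exists_rem f
  have hrI : r ∈ I := by
    have h1 : f - r ∈ I := Ideal.span_le.mpr hB.sub hr
    have : r = f - (f - r) := by ring
    rw [this]; exact I.sub_mem hf h1
  have h0 := hB.eq_zero_of_support hrI hs
  subst h0
  simpa using hr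

/-- The linear map from polynomials supported on standard monomials to the quotient. -/
noncomputable def stdMap (m : MonomialOrder σ) (I : Ideal (MvPolynomial σ R))
    (B : Set (MvPolynomial σ R)) :
    restrictSupport R (stdSet m B) →ₗ[R] (MvPolynomial σ R ⧸ I) :=
  (Ideal.Quotient.mkₐ R I).toLinearMap ∘ₗ (restrictSupport R (stdSet m B)).subtype

theorem IsGB.stdMap_bijective (hB : IsGB m I B) : Function.Bijective (stdMap m I B) := by
  constructor
  · rw [← LinearMap.ker_eq_bot, LinearMap.ker_eq_bot']
    rintro ⟨r, hr⟩ h0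
    have hrI : r ∈ I := by
      simpa [stdMap, Ideal.Quotient.eq_zero_iff_mem] using h0
    have := hB.eq_zero_of_support hrI (fun c hc => (mem_restrictSupport_iff R).mp hr (Finset.mem_coe.mpr hc))
    exact Subtype.ext this
  · intro x
    obtain ⟨f, rfl⟩ := Ideal.Quotient.mk_surjective x
    obtain ⟨r, hr, hs⟩ := hB.exists_rem f
    refine ⟨⟨r, (mem_restrictSupport_iff R).mpr fun c hc => hs c (Finset.mem_coe.mp hc)⟩, ?_⟩
    have h1 : f - r ∈ I := Ideal.span_le.mpr hB.sub hr
    simp only [stdMap, LinearMap.coe_comp, Submodule.coe_subtype, Function.comp_apply,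
      AlgHom.toLinearMap_apply, Ideal.Quotient.mkₐ_eq_mk]
    exact ((Ideal.Quotient.eq).mpr h1).symm

/-- The quotient by an ideal with a Gröbner-type basis is free, with basis the standard
monomials. -/
noncomputable def IsGB.basis (hB : IsGB m I B) :
    Module.Basis (stdSet m B) R (MvPolynomial σ R ⧸ I) :=
  (basisRestrictSupport R (stdSet m B)).map (LinearEquiv.ofBijective _ hB.stdMap_bijective)

theorem IsGB.free (hB : IsGB m I B) : Module.Free R (MvPolynomial σ R ⧸ I) :=
  Module.Free.of_basis hB.basis

theorem IsGB.fg (hB : IsGB m I B) (hfin : B.Finite) : I.FG := by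
  rw [← hB.span_eq]
  exact ⟨hfin.toFinset, by simp⟩

end Groth.Agent.Lib.helper3.GrobFree
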