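import Mathlib
import Groth.Agent.Lib.Helper3.GrobFree1

/-!
# Generic Gröbner-type bases over reduced rings (helper3)

For an ideal `I` of `R[x]` (finitely many variables) over a reduced ring `R` and a nonempty open
`W ⊆ Spec R` there is a non-nilpotent `a` with `D(a) ⊆ W` such that the extension of `I` to
`R_a[x]` has a finite Gröbner-type basis with unit leading coefficients (`IsGB`).  The proof
chooses a prime in `W` whose monoid ideal of initial monomials is maximal (Dickson's lemma).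
-/

set_option autoImplicit false
set_option linter.style.haveILetI false
universe u v
open MvPolynomial
open scoped MonomialOrder

namespace Groth.Agent.Lib.helper3.GrobFree

variable {σ : Type v} (m : MonomialOrder σ) {R : Type u} [CommRing R]

section mapLemmas

variable {R' : Type*} [CommRing R'] (f : R →+* R') (h : MvPolynomial σ R)

theorem degree_map_le : m.degree (map f h) ≼[m] m.degree h := by
  rw [m.degree_le_iff]
  intro c hc
  exact m.le_degree (support_map_subset f h hc)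

theorem degree_map_eq (hne : f (m.leadingCoeff h) ≠ 0) : m.degree (map f h) = m.degree h := by
  apply m.toSyn.injective
  refine le_antisymm (degree_map_le m f h) (m.le_degree ?_)
  rw [mem_support_iff, coeff_map]
  exact hne

theorem leadingCoeff_map_eq (hne : f (m.leadingCoeff h) ≠ 0) :
    m.leadingCoeff (map f h) = f (m.leadingCoeff h) := by
  rw [MonomialOrder.leadingCoeff, degree_map_eq m f h hne, coeff_map]
  rfl

end mapLemmas

/-- The monoid ideal of initial monomials of `I` at the ideal `p`: degrees of elements of `I`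
whose leading coefficient is not in `p`. -/
def initSet (I : Ideal (MvPolynomial σ R)) (p : Ideal R) : AddSemigroupIdeal (σ →₀ ℕ) where
  carrier := {μ | ∃ h ∈ I, m.degree h = μ ∧ m.leadingCoeff h ∉ p}
  vadd_mem' ν μ := by
    classical
    rintro ⟨h, hI, rfl, hlc⟩
    have hlc0 : m.leadingCoeff h ≠ 0 := fun h0 => hlc (h0 ▸ p.zero_mem)
    haveI : Nontrivial R := ⟨⟨_, _, hlc0⟩⟩
    have hmul : m.leadingCoeff (monomial ν (1 : R)) * m.leadingCoeff h ≠ 0 := by
      rw [m.leadingCoeff_monomial, one_mul]; exact hlc0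
    refine ⟨monomial ν 1 * h, I.mul_mem_left _ hI, ?_, ?_⟩
    · rw [m.degree_mul_of_mul_leadingCoeff_ne_zero hmul, m.degree_monomial, if_neg one_ne_zero]
      rfl
    · rw [m.leadingCoeff_mul_of_mul_leadingCoeff_ne_zero hmul, m.leadingCoeff_monomial, one_mul]
      exact hlc

theorem mem_initSet {I : Ideal (MvPolynomial σ R)} {p : Ideal R} {μ : σ →₀ ℕ} :
    μ ∈ initSet m I p ↔ ∃ h ∈ I, m.degree h = μ ∧ m.leadingCoeff h ∉ p := Iff.rfl


/-- Gröbner-type data for `I` over `R`, valid after inverting `a`. -/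
structure GBData (I : Ideal (MvPolynomial σ R)) (a : R) (s : Finset (σ →₀ ℕ))
    (H : (σ →₀ ℕ) → MvPolynomial σ R) : Prop where
  mem : ∀ μ ∈ s, H μ ∈ I
  deg : ∀ μ ∈ s, m.degree (H μ) = μ
  dvd : ∀ μ ∈ s, m.leadingCoeff (H μ) ∣ a
  key : ∀ g ∈ I, a * m.leadingCoeff g ≠ 0 → ∃ z ∈ s, z ≤ m.degree g

variable {m} in
theorem GBData.mul {I : Ideal (MvPolynomial σ R)} {a : R} {s : Finset (σ →₀ ℕ)}
    {H : (σ →₀ ℕ) → MvPolynomial σ R} (h : GBData m I a s H) (a' : R) :
    GBData m I (a * a') s H where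
  mem := h.mem
  deg := h.deg
  dvd μ hμ := Dvd.dvd.mul_right (h.dvd μ hμ) a'
  key g hg hne := h.key g hg fun h0 => hne (by rw [mul_right_comm, h0, zero_mul])

attribute [local instance] MvPolynomial.algebraMvPolynomial in
/-- Clearing denominators in the extension of an ideal to `R_a[x]`. -/
theorem exists_pow_mul_eq_map (a : R) (R₁ : Type*) [CommRing R₁] [Algebra R R₁]
    [IsLocalization.Away a R₁] (I : Ideal (MvPolynomial σ R))
    {h' : MvPolynomial σ R₁}
    (hh' : h' ∈ I.map (MvPolynomial.map (algebraMap R R₁))) :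
    ∃ g ∈ I, ∃ N : ℕ, MvPolynomial.map (algebraMap R R₁) g =
      C (algebraMap R R₁ a ^ N) * h' := by
  have h1 : h' ∈ I.map (algebraMap (MvPolynomial σ R) (MvPolynomial σ R₁)) := hh'
  rw [IsLocalization.mem_map_algebraMap_iff ((Submonoid.powers a).map (C (σ := σ)))] at h1
  obtain ⟨⟨⟨g, hg⟩, ⟨s, hs⟩⟩, hgs⟩ := h1
  obtain ⟨_, ⟨N, rfl⟩, rfl⟩ := hs
  refine ⟨g, hg, N, ?_⟩
  have : algebraMap (MvPolynomial σ R) (MvPolynomial σ R₁) g =
      h' * algebraMap (MvPolynomial σ R) (MvPolynomial σ R₁) (C (a ^ N)) :=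
    hgs.symm
  rw [MvPolynomial.algebraMap_def, map_C, map_pow] at this
  rw [this, mul_comm]

variable {m} in
/-- Gröbner-type data give a Gröbner-type basis over any localization away from `a`. -/
theorem GBData.isGB {I : Ideal (MvPolynomial σ R)} {a : R} {s : Finset (σ →₀ ℕ)}
    {H : (σ →₀ ℕ) → MvPolynomial σ R} (hd : GBData m I a s H)
    (R₁ : Type*) [CommRing R₁] [Algebra R R₁] [IsLocalization.Away a R₁] :
    IsGB m (I.map (MvPolynomial.map (algebraMap R R₁)))
      ((fun μ => MvPolynomial.map (algebraMap R R₁) (H μ)) '' (s : Set (σ →₀ ℕ))) := by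
  classical
  set φ := MvPolynomial.map (σ := σ) (algebraMap R R₁) with hφ
  have ha' : IsUnit (algebraMap R R₁ a) := IsLocalization.Away.algebraMap_isUnit a
  have hunit : ∀ μ ∈ s, IsUnit (algebraMap R R₁ (m.leadingCoeff (H μ))) := fun μ hμ =>
    isUnit_of_dvd_unit (map_dvd _ (hd.dvd μ hμ)) ha'
  rcases subsingleton_or_nontrivial R₁ with hsub | hnt
  · -- trivial ring: everything is zero
    refine ⟨?_, ?_, ?_⟩
    · rintro _ ⟨μ, hμ, rfl⟩
      exact Ideal.mem_map_of_mem _ (hd.mem μ hμ)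
    · rintro _ ⟨μ, hμ, rfl⟩
      exact isUnit_of_subsingleton _
    · intro h' _ hne'
      exact absurd (Subsingleton.elim h' 0) hne'
  have hdegφ : ∀ μ ∈ s, m.degree (φ (H μ)) = μ := fun μ hμ => by
    rw [hφ, degree_map_eq m _ _ (hunit μ hμ).ne_zero, hd.deg μ hμ]
  have hlcφ : ∀ μ ∈ s, m.leadingCoeff (φ (H μ)) = algebraMap R R₁ (m.leadingCoeff (H μ)) :=
    fun μ hμ => leadingCoeff_map_eq m _ _ (hunit μ hμ).ne_zero
  refine ⟨?_, ?_, ?_⟩
  · rintro _ ⟨μ, hμ, rfl⟩
    exact Ideal.mem_map_of_mem _ (hd.mem μ hμ)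
  · rintro _ ⟨μ, hμ, rfl⟩
    rw [hlcφ μ hμ]; exact hunit μ hμ
  · intro h' hh' hne'
    obtain ⟨g, hg, N, hgN⟩ := exists_pow_mul_eq_map a R₁ I hh'
    set μ := m.degree h' with hμdef
    have hcoef : ∀ ν, algebraMap R R₁ (coeff ν g) = algebraMap R R₁ a ^ N * coeff ν h' := fun ν => by
      have := congrArg (coeff ν) hgN
      rwa [coeff_map, coeff_C_mul] at this
    have hk : ∀ ν, ∃ k : ℕ, μ ≺[m] ν → a ^ k * coeff ν g = 0 := fun ν => by
      by_cases hν : μ ≺[m] ν
      · have h0 : algebraMap R R₁ (coeff ν g) = 0 := by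
          rw [hcoef, m.coeff_eq_zero_of_lt hν, mul_zero]
        obtain ⟨⟨_, k, rfl⟩, hk⟩ := (IsLocalization.map_eq_zero_iff (Submonoid.powers a) R₁ _).mp h0
        exact ⟨k, fun _ => hk⟩
      · exact ⟨0, fun h => absurd h hν⟩
    choose k hk using hk
    let K := ∑ ν ∈ g.support, k ν
    let g₂ := C (a ^ K) * g
    have hg₂I : g₂ ∈ I := I.mul_mem_left _ hg
    have hg₂coef : ∀ ν, coeff ν g₂ = a ^ K * coeff ν g := fun ν => coeff_C_mul _ _ _
    have hhigh : ∀ ν, μ ≺[m] ν → coeff ν g₂ = 0 := fun ν hν => by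
      rw [hg₂coef]
      by_cases hsup : ν ∈ g.support
      · have : a ^ K = a ^ (K - k ν) * a ^ k ν := by
          rw [← pow_add, Nat.sub_add_cancel
            (Finset.single_le_sum (f := k) (fun _ _ => Nat.zero_le _) hsup)]
        rw [this, mul_assoc, hk ν hν, mul_zero]
      · rw [notMem_support_iff.mp hsup, mul_zero]
    set c := coeff μ g₂ with hcdef
    have hcmap : algebraMap R R₁ c = algebraMap R R₁ a ^ (K + N) * m.leadingCoeff h' := by
      rw [hcdef, hg₂coef, map_mul, map_pow, hcoef, pow_add, mul_assoc]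
      rfl
    have hc'ne : m.leadingCoeff h' ≠ 0 := m.leadingCoeff_ne_zero_iff.mpr hne'
    have hcmap_ne : algebraMap R R₁ c ≠ 0 := by
      rw [hcmap]
      exact fun h0 => hc'ne (((ha'.pow _).mul_right_eq_zero).mp h0)
    have hdeg₂ : m.degree g₂ = μ := by
      apply m.toSyn.injective
      refine le_antisymm ?_ (m.le_degree ?_)
      · rw [m.degree_le_iff]
        intro ν hν
        by_contra hlt
        exact (mem_support_iff.mp hν) (hhigh ν (not_le.mp hlt))
      · rw [mem_support_iff]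
        intro h0
        exact hcmap_ne (by rw [hcdef, h0, map_zero])
    have hlc₂ : m.leadingCoeff g₂ = c := by rw [MonomialOrder.leadingCoeff, hdeg₂]
    have hac : a * m.leadingCoeff g₂ ≠ 0 := fun h0 =>
      hcmap_ne ((IsLocalization.map_eq_zero_iff (Submonoid.powers a) R₁ c).mpr
        ⟨⟨a, 1, pow_one a⟩, by rw [← hlc₂]; exact h0⟩)
    obtain ⟨z, hz, hzle⟩ := hd.key g₂ hg₂I hac
    refine ⟨φ (H z), ⟨z, hz, rfl⟩, ?_⟩
    rw [hdegφ z hz, ← hdeg₂]
    exact hzle

variable [Finite σ]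

/-- **Generic Gröbner-type data over a reduced ring.** -/
theorem exists_gbData [IsReduced R] (I : Ideal (MvPolynomial σ R))
    {W : Set (PrimeSpectrum R)} (hW : IsOpen W) (hne : W.Nonempty) :
    ∃ a : R, ¬ IsNilpotent a ∧ (PrimeSpectrum.basicOpen a : Set (PrimeSpectrum R)) ⊆ W ∧
      ∃ (s : Finset (σ →₀ ℕ)) (H : (σ →₀ ℕ) → MvPolynomial σ R), GBData m I a s H := by
  classical
  -- a prime in `W` with maximal initial set
  let 𝓛 : Set (AddSemigroupIdeal (σ →₀ ℕ)) :=
    (fun p : PrimeSpectrum R => initSet m I p.asIdeal) '' W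
  obtain ⟨Λ, ⟨p, hpW, rfl⟩, hmax⟩ :=
    (wellFounded_gt (α := AddSemigroupIdeal (σ →₀ ℕ))).has_min 𝓛 (hne.image _)
  obtain ⟨s, hs⟩ := AddSemigroupIdeal.fg_iff.mp
    (AddSemigroupIdeal.fg_of_wellQuasiOrderedLE (initSet m I p.asIdeal))
  have hch : ∀ μ ∈ s, ∃ h ∈ I, m.degree h = μ ∧ m.leadingCoeff h ∉ p.asIdeal := fun μ hμ => by
    have : μ ∈ initSet m I p.asIdeal := by
      rw [hs]; exact AddSemigroupIdeal.mem_closure_of_mem (by simpa using hμ)
    exact this
  choose! H hHI hHdeg hHlc using hch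
  obtain ⟨_, ⟨b, rfl⟩, hpb, hbW⟩ :=
    PrimeSpectrum.isTopologicalBasis_basic_opens.exists_subset_of_mem_open hpW hW
  let a : R := b * ∏ μ ∈ s, m.leadingCoeff (H μ)
  have hap : a ∉ p.asIdeal := by
    intro ha
    rcases p.2.mem_or_mem ha with h1 | h1
    · exact hpb h1
    · obtain ⟨μ, hμ, h2⟩ := (p.2.prod_mem_iff).mp h1
      exact hHlc μ hμ h2
  have hdvd : ∀ μ ∈ s, m.leadingCoeff (H μ) ∣ a := fun μ hμ =>
    Dvd.dvd.mul_left (Finset.dvd_prod_of_mem _ hμ) b
  have haW : (PrimeSpectrum.basicOpen a : Set (PrimeSpectrum R)) ⊆ W := by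
    refine subset_trans ?_ hbW
    intro q hq
    simp only [SetLike.mem_coe, PrimeSpectrum.mem_basicOpen] at hq ⊢
    exact fun hb => hq (q.asIdeal.mul_mem_right _ hb)
  have hanil : ¬ IsNilpotent a :=
    fun ⟨n, hn⟩ => hap (p.2.mem_of_pow_mem n (hn ▸ p.asIdeal.zero_mem))
  refine ⟨a, hanil, haW, s, H, hHI, hHdeg, hdvd, ?_⟩
  intro g hg hac0
  set c := m.leadingCoeff g with hcdef
  have hac : ¬ IsNilpotent (a * c) := fun hnil => hac0 hnil.eq_zero
  obtain ⟨p', hp'⟩ : ∃ p' : PrimeSpectrum R, a * c ∉ p'.asIdeal := by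
    by_contra hcon
    push Not at hcon
    apply hac
    rw [← mem_nilradical, nilradical_eq_sInf, Ideal.mem_sInf]
    intro J hJ
    exact hcon ⟨J, hJ⟩
  have hap' : a ∉ p'.asIdeal := fun h => hp' (p'.asIdeal.mul_mem_right _ h)
  have hcp' : c ∉ p'.asIdeal := fun h => hp' (p'.asIdeal.mul_mem_left _ h)
  have hp'W : p' ∈ W := haW (by simpa using hap')
  have hle : initSet m I p.asIdeal ≤ initSet m I p'.asIdeal := by
    rw [hs, AddSemigroupIdeal.closure_le]
    intro μ' hμ'
    have hμ'' : μ' ∈ s := by simpa using hμ'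
    exact ⟨H μ', hHI μ' hμ'', hHdeg μ' hμ'',
      fun hmem => hap' (Ideal.mem_of_dvd _ (hdvd μ' hμ'') hmem)⟩
  have heq : initSet m I p'.asIdeal = initSet m I p.asIdeal := by
    by_contra hne2
    exact hmax _ ⟨p', hp'W, rfl⟩ (lt_of_le_of_ne hle (Ne.symm hne2))
  have hμmem : m.degree g ∈ initSet m I p.asIdeal := by
    rw [← heq]
    exact ⟨g, hg, rfl, hcp'⟩
  rw [hs, AddSemigroupIdeal.mem_closure''] at hμmem
  obtain ⟨y, z, hz, hyz⟩ := hμmem
  have hz' : z ∈ s := by simpa using hz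
  refine ⟨z, hz', ?_⟩
  rw [← hyz]
  exact le_add_self

end Groth.Agent.Lib.helper3.GrobFree
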