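import Mathlib
import Groth.Agent.Lib.Helper3.GrobFree2

/-!
# Generic freeness of finite type algebras over reduced rings (helper3)

`GoodAt a S`: the `R`-algebra `S` has a presentation whose kernel has Gröbner-type data valid
after inverting `a`.  Then for every localization `R₁ = R_a`, `S₁ = S_a`, the algebra `S₁` is a
free `R₁`-module and of finite presentation over `R₁`.  Over a reduced ring, every nonempty open
of `Spec R` contains a nonempty `D(a)` with `a` good for finitely many given finite type algebras.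
-/

set_option autoImplicit false
set_option linter.style.haveILetI false
universe u v
open MvPolynomial

namespace Groth.Agent.Lib.helper3.GrobFree

section model

variable {R : Type*} [CommRing R] {S : Type*} [CommRing S] [Algebra R S] {σ : Type*}
  (a : R) (R₁ : Type*) [CommRing R₁] [Algebra R R₁] [IsLocalization.Away a R₁]
  (S₁ : Type*) [CommRing S₁] [Algebra S S₁] [Algebra R₁ S₁] [Algebra R S₁]
  [IsScalarTower R S S₁] [IsScalarTower R R₁ S₁] [IsLocalization.Away (algebraMap R S a) S₁]
  (π : MvPolynomial σ R →ₐ[R] S)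

/-- The presentation of the localized algebra induced by a presentation `π`. -/
noncomputable def locPres : MvPolynomial σ R₁ →ₐ[R₁] S₁ :=
  MvPolynomial.aeval (fun i => algebraMap S S₁ (π (X i)))

omit [IsLocalization.Away a R₁] [IsLocalization.Away (algebraMap R S a) S₁] in
theorem locPres_map (q : MvPolynomial σ R) :
    locPres R₁ S₁ π (MvPolynomial.map (algebraMap R R₁) q) = algebraMap S S₁ (π q) := by
  induction q using MvPolynomial.induction_on with
  | C r =>
    simp only [locPres, map_C, aeval_C]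
    rw [MvPolynomial.algHom_C, ← IsScalarTower.algebraMap_apply,
      ← IsScalarTower.algebraMap_apply]
  | add p q hp hq => simp only [map_add, hp, hq]
  | mul_X p i hp =>
    rw [map_mul, map_mul, hp, map_X, map_mul, map_mul]
    congr 1
    simp [locPres]

include a in
theorem locPres_surjective (hπ : Function.Surjective π) :
    Function.Surjective (locPres R₁ S₁ π) := by
  intro x
  obtain ⟨⟨t, ⟨_, n, rfl⟩⟩, hx⟩ := IsLocalization.surj (Submonoid.powers (algebraMap R S a)) x
  obtain ⟨q, rfl⟩ := hπ t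
  simp only at hx
  let u : R₁ := IsLocalization.Away.invSelf a
  have hu : algebraMap R R₁ a * u = 1 := IsLocalization.Away.mul_invSelf a
  refine ⟨MvPolynomial.map (algebraMap R R₁) q * C (u ^ n), ?_⟩
  rw [map_mul, locPres_map, ← hx]
  simp only [locPres, aeval_C]
  rw [mul_assoc, ← map_pow, ← IsScalarTower.algebraMap_apply R S S₁,
    IsScalarTower.algebraMap_apply R R₁ S₁, ← map_mul, map_pow, ← mul_pow, hu, one_pow, map_one,
    mul_one]

attribute [local instance] MvPolynomial.algebraMvPolynomial in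
include a in
theorem ker_locPres :
    RingHom.ker (locPres R₁ S₁ π) =
      (RingHom.ker π).map (MvPolynomial.map (algebraMap R R₁)) := by
  apply le_antisymm
  · intro h' hh'
    rw [RingHom.mem_ker] at hh'
    obtain ⟨⟨g, ⟨_, ⟨_, ⟨N, rfl⟩, rfl⟩⟩⟩, hg⟩ :=
      IsLocalization.surj ((Submonoid.powers a).map (C (σ := σ))) h'
    simp only [MvPolynomial.algebraMap_def, map_C, map_pow] at hg
    -- hg : h' * C (a₁ ^ N) = map g
    have h1 : algebraMap S S₁ (π g) = 0 := by
      rw [← locPres_map R₁ S₁ π g, ← hg, map_mul, hh', zero_mul]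
    obtain ⟨⟨_, k, rfl⟩, hk⟩ :=
      (IsLocalization.map_eq_zero_iff (Submonoid.powers (algebraMap R S a)) S₁ _).mp h1
    have h2 : C (a ^ k) * g ∈ RingHom.ker π := by
      rw [RingHom.mem_ker, map_mul, MvPolynomial.algHom_C, map_pow]
      exact hk
    have h3 := Ideal.mem_map_of_mem (MvPolynomial.map (algebraMap R R₁)) h2
    rw [map_mul, map_C, ← hg, map_pow] at h3
    have hunit : IsUnit (C (σ := σ) (algebraMap R R₁ a ^ k) * C (algebraMap R R₁ a ^ N)) := by
      rw [← map_mul]
      exact ((IsLocalization.Away.algebraMap_isUnit a).pow _ |>.mul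
        ((IsLocalization.Away.algebraMap_isUnit a).pow _)).map C
    have h4 : C (σ := σ) (algebraMap R R₁ a ^ k) * C (algebraMap R R₁ a ^ N) * h' ∈
        (RingHom.ker π).map (MvPolynomial.map (algebraMap R R₁)) := by
      convert h3 using 1
      simp only [map_pow]; ring
    exact (Ideal.unit_mul_mem_iff_mem _ hunit).mp h4
  · rw [Ideal.map_le_iff_le_comap]
    intro q hq
    rw [Ideal.mem_comap, RingHom.mem_ker, locPres_map, (RingHom.mem_ker).mp hq, map_zero]

variable {a} in
theorem free_fp_of_gbData [Finite σ] {m : MonomialOrder σ} (hπ : Function.Surjective π)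
    {s : Finset (σ →₀ ℕ)} {H : (σ →₀ ℕ) → MvPolynomial σ R}
    (hd : GBData m (RingHom.ker π) a s H) :
    Module.Free R₁ S₁ ∧ Algebra.FinitePresentation R₁ S₁ := by
  have hGB := hd.isGB R₁
  set I₁ := (RingHom.ker π).map (MvPolynomial.map (algebraMap R R₁)) with hI₁
  have hfg : I₁.FG := hGB.fg ((s.finite_toSet).image _)
  let e : (MvPolynomial σ R₁ ⧸ I₁) ≃ₐ[R₁] S₁ :=
    (Ideal.quotientEquivAlgOfEq R₁ (ker_locPres a R₁ S₁ π).symm).trans
      (Ideal.quotientKerAlgEquivOfSurjective (locPres_surjective a R₁ S₁ π hπ))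
  haveI := hGB.free
  haveI : Algebra.FinitePresentation R₁ (MvPolynomial σ R₁ ⧸ I₁) :=
    Algebra.FinitePresentation.quotient hfg
  exact ⟨Module.Free.of_equiv e.toLinearEquiv, Algebra.FinitePresentation.equiv e⟩

end model


theorem exists_prime_notMem_of_not_isNilpotent {R : Type*} [CommRing R] {a : R}
    (ha : ¬ IsNilpotent a) : ∃ p : PrimeSpectrum R, a ∉ p.asIdeal := by
  by_contra hcon
  push Not at hcon
  apply ha
  rw [← mem_nilradical, nilradical_eq_sInf, Ideal.mem_sInf]
  intro J hJ
  exact hcon ⟨J, hJ⟩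

section good

variable {R : Type u} [CommRing R]

/-- `a` is good for the `R`-algebra `S`: some finite presentation of `S` has Gröbner-type data
valid after inverting `a`. -/
def GoodAt (a : R) (S : Type*) [CommRing S] [Algebra R S] : Prop :=
  ∃ (n : ℕ) (π : MvPolynomial (Fin n) R →ₐ[R] S), Function.Surjective π ∧
    ∃ (s : Finset (Fin n →₀ ℕ)) (H : (Fin n →₀ ℕ) → MvPolynomial (Fin n) R),
      GBData (MonomialOrder.lex) (RingHom.ker π) a s H

theorem GoodAt.mul {a : R} {S : Type*} [CommRing S] [Algebra R S] (h : GoodAt a S) (a' : R) :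
    GoodAt (a * a') S := by
  obtain ⟨n, π, hπ, s, H, hd⟩ := h
  exact ⟨n, π, hπ, s, H, hd.mul a'⟩

theorem GoodAt.mul' {a : R} {S : Type*} [CommRing S] [Algebra R S] (h : GoodAt a S) (a' : R) :
    GoodAt (a' * a) S := by
  rw [mul_comm]; exact h.mul a'

/-- For a good `a`, every localization `S_a` is free and finitely presented over `R_a`. -/
theorem GoodAt.free_fp {a : R} {S : Type*} [CommRing S] [Algebra R S] (h : GoodAt a S)
    (R₁ : Type*) [CommRing R₁] [Algebra R R₁] [IsLocalization.Away a R₁]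
    (S₁ : Type*) [CommRing S₁] [Algebra S S₁] [Algebra R₁ S₁] [Algebra R S₁]
    [IsScalarTower R S S₁] [IsScalarTower R R₁ S₁] [IsLocalization.Away (algebraMap R S a) S₁] :
    Module.Free R₁ S₁ ∧ Algebra.FinitePresentation R₁ S₁ := by
  obtain ⟨n, π, hπ, s, H, hd⟩ := h
  exact free_fp_of_gbData R₁ S₁ π hπ hd

theorem exists_goodAt [IsReduced R] (S : Type*) [CommRing S] [Algebra R S]
    [Algebra.FiniteType R S] {W : Set (PrimeSpectrum R)} (hW : IsOpen W) (hne : W.Nonempty) :
    ∃ a : R, ¬ IsNilpotent a ∧ (PrimeSpectrum.basicOpen a : Set (PrimeSpectrum R)) ⊆ W ∧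
      GoodAt a S := by
  obtain ⟨n, π, hπ⟩ := Algebra.FiniteType.iff_quotient_mvPolynomial''.mp
    (inferInstance : Algebra.FiniteType R S)
  obtain ⟨a, ha, haW, s, H, hd⟩ := exists_gbData (MonomialOrder.lex) (RingHom.ker π) hW hne
  exact ⟨a, ha, haW, n, π, hπ, s, H, hd⟩

/-- Finite families of finite type algebras over a reduced ring have a common good element in any
nonempty open. -/
theorem exists_goodAt_family [IsReduced R] {ι : Type*} (S : ι → Type*)
    [∀ i, CommRing (S i)] [∀ i, Algebra R (S i)] [∀ i, Algebra.FiniteType R (S i)]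
    (t : Finset ι) {W : Set (PrimeSpectrum R)} (hW : IsOpen W) (hne : W.Nonempty) :
    ∃ a : R, ¬ IsNilpotent a ∧ (PrimeSpectrum.basicOpen a : Set (PrimeSpectrum R)) ⊆ W ∧
      ∀ i ∈ t, GoodAt a (S i) := by
  classical
  induction t using Finset.induction_on generalizing W with
  | empty =>
    obtain ⟨p, hp⟩ := hne
    obtain ⟨_, ⟨b, rfl⟩, hpb, hbW⟩ :=
      PrimeSpectrum.isTopologicalBasis_basic_opens.exists_subset_of_mem_open hp hW
    refine ⟨b, fun ⟨n, hn⟩ => hpb (p.2.mem_of_pow_mem n (hn ▸ p.asIdeal.zero_mem)), hbW, ?_⟩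
    simp
  | insert j t hj ih =>
    obtain ⟨a₁, ha₁, ha₁W, hgood₁⟩ := ih hW hne
    obtain ⟨q₁, hq₁⟩ := exists_prime_notMem_of_not_isNilpotent ha₁
    obtain ⟨a₂, ha₂, ha₂W, hgood₂⟩ := exists_goodAt (S j)
      (PrimeSpectrum.basicOpen a₁).isOpen ⟨q₁, hq₁⟩
    obtain ⟨q₂, hq₂⟩ := exists_prime_notMem_of_not_isNilpotent ha₂
    have hq₂' : a₁ ∉ q₂.asIdeal := ha₂W (by simpa using hq₂)
    refine ⟨a₁ * a₂, ?_, ?_, ?_⟩
    · rintro ⟨n, hn⟩
      have : a₁ * a₂ ∈ q₂.asIdeal := q₂.2.mem_of_pow_mem n (hn ▸ q₂.asIdeal.zero_mem)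
      rcases q₂.2.mem_or_mem this with h | h
      · exact hq₂' h
      · exact hq₂ h
    · intro q hq
      apply ha₁W
      simp only [SetLike.mem_coe, PrimeSpectrum.mem_basicOpen] at hq ⊢
      exact fun h => hq (q.asIdeal.mul_mem_right _ h)
    · intro i hi
      rcases Finset.mem_insert.mp hi with rfl | hi
      · exact hgood₂.mul' a₁
      · exact (hgood₁ i hi).mul a₂

end good

end Groth.Agent.Lib.helper3.GrobFree
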