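import Mathlib
import Groth.Agent.Lib.Helper3.GrobFree3

/-!
# Generic freeness for modules over reduced rings (helper3)

`ModGood S a N`: the localization `N_a` is free over `R_a` and finitely presented over `S_a`.
Stability under extensions, the cyclic case, and dévissage along a cyclic filtration.
-/

set_option autoImplicit false
set_option linter.style.haveILetI false
universe u v

namespace Groth.Agent.Lib.helper3.GrobFree

section away

variable {R : Type*} [CommRing R] (A : Type*) [CommRing A] [Algebra R A] (a : R)

/-- The algebra structure `R_a → A_a` induced by `R → A`. -/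
@[reducible] noncomputable def awayAlg :
    Algebra (Localization.Away a) (Localization.Away (algebraMap R A a)) :=
  (Localization.awayMap (algebraMap R A) a).toAlgebra

attribute [local instance] awayAlg

theorem awayAlg_tower :
    IsScalarTower R (Localization.Away a) (Localization.Away (algebraMap R A a)) :=
  IsScalarTower.of_algebraMap_eq' (by
    rw [RingHom.algebraMap_toAlgebra, Localization.awayMap, IsLocalization.Away.map,
      IsLocalization.map_comp]
    exact IsScalarTower.algebraMap_eq R A _)

attribute [local instance] awayAlg_tower

variable {A a} in
theorem GoodAt.free_fp_away (h : GoodAt a A) :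
    Module.Free (Localization.Away a) (Localization.Away (algebraMap R A a)) ∧
      Algebra.FinitePresentation (Localization.Away a) (Localization.Away (algebraMap R A a)) :=
  h.free_fp _ _

/-- `LocalizedModule (powers a) A` is `A_a`, linearly over `R_a`. -/
noncomputable def locModEquivAway :
    LocalizedModule (Submonoid.powers a) A ≃ₗ[Localization.Away a]
      Localization.Away (algebraMap R A a) :=
  haveI : IsLocalizedModule (Submonoid.powers a)
      (IsScalarTower.toAlgHom R A (Localization.Away (algebraMap R A a))).toLinearMap :=
    isLocalizedModule_iff_isLocalization.mpr (by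
      rw [Algebra.algebraMapSubmonoid_powers]; infer_instance)
  (IsLocalizedModule.iso (Submonoid.powers a)
    (IsScalarTower.toAlgHom R A (Localization.Away (algebraMap R A a))).toLinearMap
    ).extendScalarsOfIsLocalization (Submonoid.powers a) (Localization.Away a)

end away


section exact

variable {R₀ : Type*} [CommRing R₀] {N' N N'' : Type*} [AddCommGroup N'] [AddCommGroup N]
  [AddCommGroup N''] [Module R₀ N'] [Module R₀ N] [Module R₀ N'']
  (i : N' →ₗ[R₀] N) (q : N →ₗ[R₀] N'')

include i q in
theorem free_of_exact (hi : Function.Injective i) (hq : Function.Surjective q)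
    (hex : Function.Exact i q) [Module.Free R₀ N'] [Module.Free R₀ N''] : Module.Free R₀ N := by
  obtain ⟨l, hl⟩ := Module.projective_lifting_property q LinearMap.id hq
  obtain ⟨e, -⟩ := hex.splitSurjectiveEquiv hi ⟨l, hl⟩
  exact Module.Free.of_equiv e.symm

include i q in
theorem fp_of_exact (hi : Function.Injective i) (hq : Function.Surjective q)
    (hex : Function.Exact i q) [Module.FinitePresentation R₀ N']
    [Module.FinitePresentation R₀ N''] : Module.FinitePresentation R₀ N := by
  haveI : Module.FinitePresentation R₀ (LinearMap.ker q) :=
    Module.FinitePresentation.of_equiv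
      ((LinearEquiv.ofInjective i hi).trans (LinearEquiv.ofEq _ _ (LinearMap.exact_iff.mp hex).symm))
  exact Module.finitePresentation_of_ker q hq

end exact

section modgood

variable {R : Type*} [CommRing R] (S : Type*) [CommRing S] [Algebra R S]

/-- `N_a` is free over `R_a` and finitely presented over `S_a`. -/
def ModGood (a : R) (N : Type*) [AddCommGroup N] [Module S N] [Module R N]
    [IsScalarTower R S N] : Prop :=
  Module.Free (Localization.Away a) (LocalizedModule (Submonoid.powers a) N) ∧
  Module.FinitePresentation (Localization.Away (algebraMap R S a))
    (LocalizedModule (Submonoid.powers (algebraMap R S a)) N)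

variable {S}
variable {N' N N'' : Type*} [AddCommGroup N'] [AddCommGroup N] [AddCommGroup N'']
  [Module S N'] [Module S N] [Module S N''] [Module R N'] [Module R N] [Module R N'']
  [IsScalarTower R S N'] [IsScalarTower R S N] [IsScalarTower R S N'']

theorem ModGood.of_exact {a : R} (i : N' →ₗ[S] N) (q : N →ₗ[S] N'')
    (hi : Function.Injective i) (hq : Function.Surjective q) (hex : Function.Exact i q)
    (h' : ModGood S a N') (h'' : ModGood S a N'') : ModGood S a N := by
  obtain ⟨hf', hp'⟩ := h'
  obtain ⟨hf'', hp''⟩ := h''
  refine ⟨?_, ?_⟩
  · exact free_of_exact (LocalizedModule.map (Submonoid.powers a) (i.restrictScalars R))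
      (LocalizedModule.map (Submonoid.powers a) (q.restrictScalars R))
      (LocalizedModule.map_injective _ _ hi) (LocalizedModule.map_surjective _ _ hq)
      (LocalizedModule.map_exact _ (i.restrictScalars R) (q.restrictScalars R) hex)
  · exact fp_of_exact (LocalizedModule.map (Submonoid.powers (algebraMap R S a)) i)
      (LocalizedModule.map (Submonoid.powers (algebraMap R S a)) q)
      (LocalizedModule.map_injective _ _ hi) (LocalizedModule.map_surjective _ _ hq)
      (LocalizedModule.map_exact _ i q hex)

theorem ModGood.of_equiv {a : R} (e : N ≃ₗ[S] N') (h : ModGood S a N) : ModGood S a N' := by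
  obtain ⟨hf, hp⟩ := h
  refine ⟨?_, ?_⟩
  · exact Module.Free.of_equiv (IsLocalizedModule.mapEquiv (Submonoid.powers a)
      (LocalizedModule.mkLinearMap (Submonoid.powers a) N)
      (LocalizedModule.mkLinearMap (Submonoid.powers a) N') (Localization.Away a)
      (e.restrictScalars R))
  · exact Module.FinitePresentation.of_equiv (IsLocalizedModule.mapEquiv
      (Submonoid.powers (algebraMap R S a))
      (LocalizedModule.mkLinearMap (Submonoid.powers (algebraMap R S a)) N)
      (LocalizedModule.mkLinearMap (Submonoid.powers (algebraMap R S a)) N')
      (Localization.Away (algebraMap R S a)) e)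

theorem ModGood.of_subsingleton (a : R) [Subsingleton N] : ModGood S a N := by
  have h1 : Subsingleton (LocalizedModule (Submonoid.powers a) N) :=
    ⟨fun x y => by
      induction x using LocalizedModule.induction_on with | _ m s =>
      induction y using LocalizedModule.induction_on with | _ m' s' =>
      rw [Subsingleton.elim m 0, Subsingleton.elim m' 0, LocalizedModule.zero_mk,
        LocalizedModule.zero_mk]⟩
  have h2 : Subsingleton (LocalizedModule (Submonoid.powers (algebraMap R S a)) N) :=
    ⟨fun x y => by
      induction x using LocalizedModule.induction_on with | _ m s =>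
      induction y using LocalizedModule.induction_on with | _ m' s' =>
      rw [Subsingleton.elim m 0, Subsingleton.elim m' 0, LocalizedModule.zero_mk,
        LocalizedModule.zero_mk]⟩
  exact ⟨Module.Free.of_subsingleton _ _, inferInstance⟩

end modgood


section cyclic

variable {R : Type*} [CommRing R] {S : Type*} [CommRing S] [Algebra R S]

attribute [local instance] awayAlg awayAlg_tower

theorem awayMap_surjective {A B : Type*} [CommRing A] [CommRing B] (g : A →+* B)
    (hg : Function.Surjective g) (b : A) : Function.Surjective (Localization.awayMap g b) := by
  intro y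
  obtain ⟨t, ⟨_, n, rfl⟩, rfl⟩ := IsLocalization.exists_mk'_eq (Submonoid.powers (g b)) y
  obtain ⟨s, rfl⟩ := hg t
  refine ⟨IsLocalization.mk' _ s (⟨b ^ n, n, rfl⟩ : Submonoid.powers b), ?_⟩
  rw [Localization.awayMap, IsLocalization.Away.map, IsLocalization.map_mk']
  congr 1
  ext
  simp

theorem ModGood.of_goodAt_quotient {a : R} (J : Ideal S) (hS : GoodAt a S)
    (hT : GoodAt a (S ⧸ J)) : ModGood S a (S ⧸ J) := by
  refine ⟨?_, ?_⟩
  · haveI := hT.free_fp_away.1
    exact Module.Free.of_equiv (locModEquivAway (S ⧸ J) a).symm
  · suffices h : Module.FinitePresentation (Localization.Away (algebraMap R S a))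
        (Localization.Away (algebraMap S (S ⧸ J) (algebraMap R S a))) from
      Module.FinitePresentation.of_equiv
        (locModEquivAway (R := S) (S ⧸ J) (algebraMap R S a)).symm
    letI algRT : Algebra (Localization.Away a)
        (Localization.Away (algebraMap S (S ⧸ J) (algebraMap R S a))) :=
      ((algebraMap (Localization.Away (algebraMap R S a))
        (Localization.Away (algebraMap S (S ⧸ J) (algebraMap R S a)))).comp
        (algebraMap (Localization.Away a) (Localization.Away (algebraMap R S a)))).toAlgebra
    haveI : IsScalarTower (Localization.Away a) (Localization.Away (algebraMap R S a))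
        (Localization.Away (algebraMap S (S ⧸ J) (algebraMap R S a))) :=
      IsScalarTower.of_algebraMap_eq' rfl
    haveI := hS.free_fp_away.2
    haveI : IsScalarTower R (Localization.Away a)
        (Localization.Away (algebraMap S (S ⧸ J) (algebraMap R S a))) :=
      IsScalarTower.of_algebraMap_eq fun r => by
        rw [IsScalarTower.algebraMap_apply R (S ⧸ J)
            (Localization.Away (algebraMap S (S ⧸ J) (algebraMap R S a))),
          IsScalarTower.algebraMap_apply R S (S ⧸ J),
          ← IsScalarTower.algebraMap_apply S (S ⧸ J)
            (Localization.Away (algebraMap S (S ⧸ J) (algebraMap R S a))),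
          IsScalarTower.algebraMap_apply S (Localization.Away (algebraMap R S a))
            (Localization.Away (algebraMap S (S ⧸ J) (algebraMap R S a))),
          ← IsScalarTower.algebraMap_apply R S (Localization.Away (algebraMap R S a)),
          IsScalarTower.algebraMap_apply R (Localization.Away a)
            (Localization.Away (algebraMap R S a))]
        rfl
    haveI : IsLocalization.Away (algebraMap R (S ⧸ J) a)
        (Localization.Away (algebraMap S (S ⧸ J) (algebraMap R S a))) := by
      rw [IsScalarTower.algebraMap_apply R S (S ⧸ J) a]; infer_instance
    haveI : Algebra.FinitePresentation (Localization.Away a)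
        (Localization.Away (algebraMap S (S ⧸ J) (algebraMap R S a))) :=
      (hT.free_fp (Localization.Away a)
        (Localization.Away (algebraMap S (S ⧸ J) (algebraMap R S a)))).2
    have hsurj : Function.Surjective (algebraMap (Localization.Away (algebraMap R S a))
        (Localization.Away (algebraMap S (S ⧸ J) (algebraMap R S a)))) :=
      awayMap_surjective (algebraMap S (S ⧸ J)) Ideal.Quotient.mk_surjective _
    have hFG := Algebra.FinitePresentation.ker_fG_of_surjective
      (IsScalarTower.toAlgHom (Localization.Away a) (Localization.Away (algebraMap R S a))
        (Localization.Away (algebraMap S (S ⧸ J) (algebraMap R S a)))) hsurj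
    refine Module.finitePresentation_of_surjective
      (Algebra.linearMap (Localization.Away (algebraMap R S a))
        (Localization.Away (algebraMap S (S ⧸ J) (algebraMap R S a)))) hsurj ?_
    have hker : LinearMap.ker (Algebra.linearMap (Localization.Away (algebraMap R S a))
        (Localization.Away (algebraMap S (S ⧸ J) (algebraMap R S a)))) =
        RingHom.ker (IsScalarTower.toAlgHom (Localization.Away a)
          (Localization.Away (algebraMap R S a))
          (Localization.Away (algebraMap S (S ⧸ J) (algebraMap R S a)))).toRingHom := by
      ext x
      simp [RingHom.mem_ker]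
    rw [hker]
    exact hFG

end cyclic

end Groth.Agent.Lib.helper3.GrobFree
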