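import Mathlib
import Groth.Agent.Lib.Helper3.GrobFree4

/-!
# Generic freeness over a reduced ring, module form (helper3)
-/

set_option autoImplicit false
set_option linter.style.haveILetI false
universe u

namespace Groth.Agent.Lib.helper3.GrobFree

section devissage

variable {R : Type u} [CommRing R] {S : Type u} [CommRing S] [Algebra R S]

theorem exists_ideals_modGood (r : ℕ) : ∀ (N : Type u) [AddCommGroup N] [Module S N] [Module R N]
    [IsScalarTower R S N] (m : Fin r → N), Submodule.span S (Set.range m) = ⊤ →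
    ∃ L : List (Ideal S), ∀ a : R, GoodAt a S → (∀ J ∈ L, GoodAt a (S ⧸ J)) →
      ModGood S a N := by
  induction r with
  | zero =>
    intro N _ _ _ _ m hm
    haveI : Subsingleton N := by
      have : (⊥ : Submodule S N) = ⊤ := by
        rw [← hm, Set.range_eq_empty, Submodule.span_empty]
      refine ⟨fun x y => ?_⟩
      have hx : x ∈ (⊥ : Submodule S N) := this ▸ Submodule.mem_top
      have hy : y ∈ (⊥ : Submodule S N) := this ▸ Submodule.mem_top
      rw [(Submodule.mem_bot S).mp hx, (Submodule.mem_bot S).mp hy]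
    exact ⟨[], fun a _ _ => ModGood.of_subsingleton a⟩
  | succ r ih =>
    intro N _ _ _ _ m hm
    let f := LinearMap.toSpanSingleton S N (m 0)
    let J : Ideal S := LinearMap.ker f
    let N' : Submodule S N := LinearMap.range f
    have hm0 : m 0 ∈ N' := ⟨1, by simp [f]⟩
    have hspan : Submodule.span S (Set.range fun j : Fin r => N'.mkQ (m j.succ)) = ⊤ := by
      rw [eq_top_iff, ← LinearMap.range_eq_top.mpr N'.mkQ_surjective, ← Submodule.map_top, ← hm,
        Submodule.map_span, Submodule.span_le]
      rintro _ ⟨_, ⟨i, rfl⟩, rfl⟩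
      induction i using Fin.cases with
      | zero =>
        have : N'.mkQ (m 0) = 0 := (Submodule.Quotient.mk_eq_zero _).mpr hm0
        rw [this]; exact Submodule.zero_mem _
      | succ j => exact Submodule.subset_span ⟨j, rfl⟩
    obtain ⟨L, hL⟩ := ih (N ⧸ N') (fun j => N'.mkQ (m j.succ)) hspan
    refine ⟨J :: L, fun a hS hJL => ?_⟩
    have h1 : ModGood S a (S ⧸ J) :=
      ModGood.of_goodAt_quotient J hS (hJL J List.mem_cons_self)
    have h2 : ModGood S a N' := h1.of_equiv (LinearMap.quotKerEquivRange f)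
    have h3 : ModGood S a (N ⧸ N') :=
      hL a hS (fun J' hJ' => hJL J' (List.mem_cons_of_mem _ hJ'))
    exact ModGood.of_exact N'.subtype N'.mkQ N'.injective_subtype N'.mkQ_surjective
      (LinearMap.exact_subtype_mkQ N') h2 h3

end devissage


theorem GoodAt.of_algEquiv {R : Type u} [CommRing R] {A B : Type*} [CommRing A] [CommRing B]
    [Algebra R A] [Algebra R B] {a : R} (h : GoodAt a A) (e : A ≃ₐ[R] B) : GoodAt a B := by
  obtain ⟨n, π, hπ, s, H, hd⟩ := h
  refine ⟨n, e.toAlgHom.comp π, e.surjective.comp hπ, s, H, ?_⟩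
  have : RingHom.ker (e.toAlgHom.comp π) = RingHom.ker π := by
    ext x
    simp [RingHom.mem_ker]
  rw [this]
  exact hd

attribute [local instance] awayAlg awayAlg_tower in
/-- **Generic freeness over a reduced ring** (Stacks 051Z), with no noetherian hypothesis. -/
theorem generic_freeness_reduced (R S : Type u) [CommRing R] [IsReduced R] [CommRing S]
    [Algebra R S] [Algebra.FiniteType R S] (M : Type u) [AddCommGroup M] [Module S M] [Module R M]
    [IsScalarTower R S M] [Module.Finite S M] :
    ∃ U : Set (PrimeSpectrum R), IsOpen U ∧ Dense U ∧ ∀ u ∈ U, ∃ f : R, f ∉ u.asIdeal ∧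
      (PrimeSpectrum.basicOpen f : Set (PrimeSpectrum R)) ⊆ U ∧
      Module.Free (Localization.Away f) (LocalizedModule (Submonoid.powers f) M) ∧
      Module.Free (Localization.Away f) (LocalizedModule (Submonoid.powers f) S) ∧
      (Localization.awayMap (algebraMap R S) f).FinitePresentation ∧
      Module.FinitePresentation (Localization.Away (algebraMap R S f))
        (LocalizedModule (Submonoid.powers (algebraMap R S f)) M) := by
  classical
  obtain ⟨r, m, hm⟩ := Module.Finite.exists_fin (R := S) (M := M)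
  obtain ⟨L, hL⟩ := exists_ideals_modGood (R := R) r M m hm
  let Good : R → Prop := fun f => GoodAt f S ∧ ∀ J ∈ L, GoodAt f (S ⧸ J)
  refine ⟨⋃ f ∈ {f | Good f}, (PrimeSpectrum.basicOpen f : Set (PrimeSpectrum R)), ?_, ?_, ?_⟩
  · exact isOpen_biUnion fun f _ => (PrimeSpectrum.basicOpen f).isOpen
  · rw [dense_iff_inter_open]
    intro W hW hne
    obtain ⟨a, hanil, haW, hgood⟩ := exists_goodAt_family (fun J : Ideal S => S ⧸ J)
      (insert ⊥ L.toFinset) hW hne
    obtain ⟨q, hq⟩ := exists_prime_notMem_of_not_isNilpotent hanil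
    have hGood : Good a := by
      refine ⟨(hgood ⊥ (Finset.mem_insert_self _ _)).of_algEquiv (AlgEquiv.quotientBot R S), ?_⟩
      intro J hJ
      exact hgood J (Finset.mem_insert_of_mem (List.mem_toFinset.mpr hJ))
    refine ⟨q, haW (by simpa using hq), ?_⟩
    simp only [Set.mem_iUnion]
    exact ⟨a, hGood, by simpa using hq⟩
  · intro u hu
    simp only [Set.mem_iUnion] at hu
    obtain ⟨f, hf, huf⟩ := hu
    refine ⟨f, by simpa using huf, ?_, ?_⟩
    · intro x hx
      simp only [Set.mem_iUnion]
      exact ⟨f, hf, hx⟩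
    · obtain ⟨hM1, hM2⟩ := hL f hf.1 hf.2
      obtain ⟨hS1, hS2⟩ := hf.1.free_fp_away
      exact ⟨hM1, Module.Free.of_equiv (locModEquivAway S f).symm, hS2, hM2⟩

end Groth.Agent.Lib.helper3.GrobFree
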