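import Mathlib
import Groth.Agent.Lib.Helper3.FlatDescK
/-!
# The model commutes with base change: `B' ⊗[B] M_B ≃ₗ[B'] M_B'` (helper3)
-/

set_option autoImplicit false
universe u

open TensorProduct

namespace Groth.Agent.Lib.helper3.FlatDesc

section Bridge

variable {B B' : Type*} [CommRing B] [CommRing B'] [Algebra B B']
  {n b c : ℕ} (v : Fin c → (Fin b → MvPolynomial (Fin n) B))

theorem mem_rel_self_iff {R A F : Type*} [CommRing R] [CommRing A] [Algebra R A] [AddCommGroup F]
    [Module R F] [Module A F] [IsScalarTower R A F] (N : Submodule A F) (z : F ⊗[R] R) :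
    z ∈ rel N R ↔ TensorProduct.rid R F z ∈ N := by
  rw [mem_rel_iff_mkQ, ← (TensorProduct.rid R (F ⧸ N)).map_eq_zero_iff, rid_rTensor_mkQ,
    Submodule.mkQ_apply, Submodule.Quotient.mk_eq_zero]

theorem rid_eta_comm (w : B' ⊗[B] (Fin b → MvPolynomial (Fin n) B)) :
    TensorProduct.rid B' _ (eta n b B (B' := B') B' (TensorProduct.comm B B' _ w)) =
      eF n b B B' w := by
  induction w using TensorProduct.induction_on with
  | zero => simp
  | add x y hx hy => simp only [map_add, hx, hy]
  | tmul c x => simp [eF_tmul]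

theorem comm_rTensor {X Y Z : Type*} [AddCommGroup X] [Module B X] [AddCommGroup Y] [Module B Y]
    [AddCommGroup Z] [Module B Z] (φ : X →ₗ[B] Y) (w0 : X ⊗[B] Z) :
    TensorProduct.comm B Y Z ((φ.rTensor Z) w0) = (φ.lTensor Z) (TensorProduct.comm B X Z w0) := by
  induction w0 using TensorProduct.induction_on with
  | zero => simp
  | add x y hx hy => simp only [map_add, hx, hy]
  | tmul x z => simp

/-- (★) -/
theorem exists_lTensor_eq_of_eF_mem (w : B' ⊗[B] (Fin b → MvPolynomial (Fin n) B))
    (hw : eF n b B B' w ∈ NB (vmap B' v)) :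
    ∃ w' : B' ⊗[B] NB v, (((NB v).subtype.restrictScalars B).lTensor B') w' = w := by
  rw [← rid_eta_comm, ← mem_rel_self_iff, eta_mem_rel_iff] at hw
  obtain ⟨w0, hw0⟩ := hw
  have hw0' : (((NB v).subtype.restrictScalars B).rTensor B') w0 = TensorProduct.comm B B' _ w := hw0
  refine ⟨TensorProduct.comm B (NB v) B' w0, ?_⟩
  rw [← comm_rTensor, hw0']
  exact (TensorProduct.comm B B' _).symm_apply_apply w

/-- the `B`-linear map `M_B → M_B'` induced by `mapF`. -/
noncomputable def modelMap :
    ((Fin b → MvPolynomial (Fin n) B) ⧸ NB v) →ₗ[B]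
      ((Fin b → MvPolynomial (Fin n) B') ⧸ NB (vmap B' v)) :=
  (Submodule.Quotient.restrictScalarsEquiv B (NB (vmap B' v))).toLinearMap ∘ₗ
    (Submodule.mapQ ((NB v).restrictScalars B) ((NB (vmap B' v)).restrictScalars B) (mapF n b)
      (fun _ hx => mapF_mem_NB v hx)) ∘ₗ
    (Submodule.Quotient.restrictScalarsEquiv B (NB v)).symm.toLinearMap

theorem modelMap_mk (x : Fin b → MvPolynomial (Fin n) B) :
    modelMap (B' := B') v (Submodule.Quotient.mk x) = Submodule.Quotient.mk (mapF n b x) := by
  simp [modelMap]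

/-- the comparison map `B' ⊗[B] M_B → M_B'`. -/
noncomputable def modelBaseChange :
    B' ⊗[B] ((Fin b → MvPolynomial (Fin n) B) ⧸ NB v) →ₗ[B']
      ((Fin b → MvPolynomial (Fin n) B') ⧸ NB (vmap B' v)) :=
  LinearMap.liftBaseChange B' (modelMap v)

theorem modelBaseChange_lTensor (w : B' ⊗[B] (Fin b → MvPolynomial (Fin n) B)) :
    modelBaseChange v ((((NB v).mkQ.restrictScalars B).lTensor B') w) =
      Submodule.Quotient.mk (eF n b B B' w) := by
  induction w using TensorProduct.induction_on with
  | zero => simp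
  | add x y hx hy => simp only [map_add, hx, hy, Submodule.Quotient.mk_add]
  | tmul c x =>
    simp only [modelBaseChange, LinearMap.lTensor_tmul, LinearMap.coe_restrictScalars,
      Submodule.mkQ_apply, LinearMap.liftBaseChange_tmul, modelMap_mk, eF_tmul,
      Submodule.Quotient.mk_smul]

theorem modelBaseChange_bijective : Function.Bijective (modelBaseChange (B' := B') v) := by
  have hsurjQ : Function.Surjective (((NB v).mkQ.restrictScalars B).lTensor B') :=
    LinearMap.lTensor_surjective B'
      (show Function.Surjective ((NB v).mkQ.restrictScalars B) from Submodule.mkQ_surjective (NB v))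
  constructor
  · rw [injective_iff_map_eq_zero]
    intro z hz
    obtain ⟨w, rfl⟩ := hsurjQ z
    rw [modelBaseChange_lTensor, Submodule.Quotient.mk_eq_zero] at hz
    obtain ⟨w', rfl⟩ := exists_lTensor_eq_of_eF_mem v w hz
    rw [← LinearMap.comp_apply, ← LinearMap.lTensor_comp]
    have : ((NB v).mkQ.restrictScalars B) ∘ₗ ((NB v).subtype.restrictScalars B) = 0 := by
      ext x
      simp
    rw [this, LinearMap.lTensor_zero, LinearMap.zero_apply]
  · intro y
    obtain ⟨y, rfl⟩ := Submodule.Quotient.mk_surjective _ y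
    obtain ⟨w, rfl⟩ := (eF n b B B').surjective y
    exact ⟨_, modelBaseChange_lTensor v w⟩

/-- **The model commutes with base change.** -/
noncomputable def modelBaseChangeEquiv :
    B' ⊗[B] ((Fin b → MvPolynomial (Fin n) B) ⧸ NB v) ≃ₗ[B']
      ((Fin b → MvPolynomial (Fin n) B') ⧸ NB (vmap B' v)) :=
  LinearEquiv.ofBijective (modelBaseChange v) (modelBaseChange_bijective v)

end Bridge

end Groth.Agent.Lib.helper3.FlatDesc
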