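import Mathlib
import Groth.Agent.Lib.Helper3.FlatDescL
import Groth.Agent.Lib.Helper3.FlatDescP
/-!
# Descent of flatness for finitely presented modules over finitely presented algebras (helper3)

Module form of EGA IV 11.2.6.1: `B` a finitely presented `A`-algebra, `M` a finitely presented
`B`-module flat over `A`; then `(A, B, M)` is the base change of `(A₀, B₀, M₀)` with `A₀` a finitely
generated `ℤ`-algebra and `M₀` flat over `A₀`.

* `bijective_liftBaseChange_of_isPushout` : base change in two steps.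
* `Kills w v` : the relations `w` kill the model `(Fin b → C[X]) ⧸ span v`.
* `B0 w0 A'`, `M0 v0 A'`, `exists_isPushout_B0`, `exists_module_M0`, `exists_package` : the descended
  algebra and module over an intermediate ring `A'` and their base change to `A`.
* `exists_presentation`, `exists_model_data` : presentations and their coefficients.
* `exists_fg_model_flat_module` (global) and `exists_fg_model_flat_module_away` (pointwise + openness).
-/

set_option autoImplicit false
set_option linter.style.haveILetI false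
universe u

open TensorProduct

namespace Groth.Agent.Lib.helper3.FlatDesc

section TwoStep

variable (R S A B : Type*) [CommRing R] [CommRing S] [CommRing A] [CommRing B]
  [Algebra R S] [Algebra R A] [Algebra R B] [Algebra A B] [Algebra S B]
  [IsScalarTower R A B] [IsScalarTower R S B] [Algebra.IsPushout R S A B]
  {M₀ M : Type*} [AddCommGroup M₀] [Module R M₀] [Module A M₀] [IsScalarTower R A M₀]
  [AddCommGroup M] [Module B M] [Module A M] [Module S M] [Module R M]
  [IsScalarTower A B M] [IsScalarTower S B M] [IsScalarTower R S M] [IsScalarTower R A M]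

/-- if `B = S ⊗[R] A` and `M = S ⊗[R] M₀` (via `ψ`) then `M = B ⊗[A] M₀` (via `ψ`). -/
theorem bijective_liftBaseChange_of_isPushout (ψ : M₀ →ₗ[A] M)
    (h : Function.Bijective (LinearMap.liftBaseChange S (ψ.restrictScalars R))) :
    Function.Bijective (LinearMap.liftBaseChange B ψ) := by
  set c := Algebra.IsPushout.cancelBaseChange R S A B M₀ with hc
  have key : ∀ y : S ⊗[R] M₀, LinearMap.liftBaseChange B ψ (c.symm y) =
      LinearMap.liftBaseChange S (ψ.restrictScalars R) y := by
    intro y
    induction y using TensorProduct.induction_on with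
    | zero => simp
    | add x y hx hy => rw [map_add, map_add, map_add, hx, hy]
    | tmul s m =>
      rw [hc, Algebra.IsPushout.cancelBaseChange_symm_tmul]
      simp only [LinearMap.liftBaseChange_tmul, LinearMap.coe_restrictScalars]
      rw [algebraMap_smul]
  have : (LinearMap.liftBaseChange B ψ : B ⊗[A] M₀ → M) =
      (LinearMap.liftBaseChange S (ψ.restrictScalars R)) ∘ c := by
    funext x
    rw [Function.comp_apply, ← key, LinearEquiv.symm_apply_apply]
  rw [this]
  exact h.comp c.bijective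

end TwoStep

section Kills

variable {C : Type*} [CommRing C] {n b c d : ℕ}
  (w : Fin d → MvPolynomial (Fin n) C) (v : Fin c → (Fin b → MvPolynomial (Fin n) C))

/-- the relations `w` kill the model `(Fin b → C[X]) ⧸ span v`. -/
def Kills : Prop :=
  ∀ (l : Fin d) (i : Fin b), w l • (Pi.single i 1 : Fin b → MvPolynomial (Fin n) C) ∈ NB v

variable {w v}

theorem Kills.smul_mem (h : Kills w v) {p : MvPolynomial (Fin n) C}
    (hp : p ∈ Ideal.span (Set.range w)) (x : Fin b → MvPolynomial (Fin n) C) : p • x ∈ NB v := by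
  have hx : x = ∑ i, x i • (Pi.single i 1 : Fin b → MvPolynomial (Fin n) C) := by
    funext j
    simp [Finset.sum_apply, Pi.single_apply]
  induction hp using Submodule.span_induction with
  | mem p hp =>
    obtain ⟨l, rfl⟩ := hp
    rw [hx, Finset.smul_sum]
    refine Submodule.sum_mem _ fun i _ => ?_
    rw [smul_comm]
    exact Submodule.smul_mem _ _ (h l i)
  | zero => rw [zero_smul]; exact Submodule.zero_mem _
  | add p q _ _ hp hq => rw [add_smul]; exact Submodule.add_mem _ hp hq
  | smul a p _ hp => rw [smul_eq_mul, mul_smul]; exact Submodule.smul_mem _ _ hp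

theorem Kills.isTorsionBySet (h : Kills w v) :
    Module.IsTorsionBySet (MvPolynomial (Fin n) C) ((Fin b → MvPolynomial (Fin n) C) ⧸ NB v)
      (Ideal.span (Set.range w) : Set (MvPolynomial (Fin n) C)) := by
  intro x a
  obtain ⟨x, rfl⟩ := Submodule.Quotient.mk_surjective _ x
  rw [← Submodule.Quotient.mk_smul, Submodule.Quotient.mk_eq_zero]
  exact h.smul_mem a.2 x

theorem Kills.vmap (h : Kills w v) (C' : Type*) [CommRing C'] [Algebra C C'] :
    Kills (wmap C' w) (vmap C' v) := by
  intro l i
  have := mapF_mem_NB (B' := C') v (h l i)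
  rw [mapF_smul] at this
  convert this using 2
  funext j
  by_cases hij : j = i
  · subst hij; simp
  · simp [hij]

end Kills

section Core

variable {A B M : Type*} [CommRing A] [CommRing B] [Algebra A B] [AddCommGroup M] [Module B M]
  [Module A M] [IsScalarTower A B M]
  {R0 : Type*} [CommRing R0] [Algebra R0 A] {n d b c : ℕ}
  (w0 : Fin d → MvPolynomial (Fin n) R0) (v0 : Fin c → (Fin b → MvPolynomial (Fin n) R0))
  (A' : Type*) [CommRing A'] [Algebra R0 A'] [Algebra A' A] [IsScalarTower R0 A' A]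

/-- the descended algebra. -/
abbrev B0 : Type _ := MvPolynomial (Fin n) A' ⧸ Ideal.span (Set.range (wmap A' w0))

/-- the descended module. -/
abbrev M0 : Type _ := (Fin b → MvPolynomial (Fin n) A') ⧸ NB (vmap A' v0)

variable {w0 v0} (π : MvPolynomial (Fin n) A →ₐ[A] B)
  (hw : RingHom.ker π = Ideal.span (Set.range (wmap A w0)))

theorem wmap_wmap : wmap A (wmap A' w0) = wmap A w0 := by
  funext l
  simp only [wmap, MvPolynomial.map_map]
  congr 2
  exact (IsScalarTower.algebraMap_eq R0 A' A).symm

include hw in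
theorem kappa_aux (p : MvPolynomial (Fin n) A') (hp : p ∈ Ideal.span (Set.range (wmap A' w0))) :
    (π.toRingHom.comp (MvPolynomial.map (algebraMap A' A))) p = 0 := by
  change π (MvPolynomial.map (algebraMap A' A) p) = 0
  rw [← RingHom.mem_ker, hw, ← wmap_wmap (A := A) A', ← map_span_range_eq]
  exact Ideal.mem_map_of_mem _ hp

/-- the comparison map `B₀ → B`. -/
noncomputable def kappa : B0 w0 A' →+* B :=
  Ideal.Quotient.lift _ (π.toRingHom.comp (MvPolynomial.map (algebraMap A' A))) (kappa_aux A' π hw)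

theorem kappa_mk (p : MvPolynomial (Fin n) A') :
    kappa A' π hw (Ideal.Quotient.mk _ p) = π (MvPolynomial.map (algebraMap A' A) p) := rfl

variable (hπ : Function.Surjective π)

/-- `A ⊗[A'] B₀ ≃ₐ[A] B`. -/
noncomputable def presTensorEquiv' : A ⊗[A'] (B0 w0 A') ≃ₐ[A] B :=
  (quotTensorEquiv A (wmap A' w0)).trans
    ((Ideal.quotientEquivAlgOfEq A (show Ideal.span (Set.range (wmap A (wmap A' w0))) =
        RingHom.ker π by rw [hw, wmap_wmap])).trans
      (Ideal.quotientKerAlgEquivOfSurjective hπ))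

theorem presTensorEquiv'_one_tmul (p : MvPolynomial (Fin n) A') :
    presTensorEquiv' A' π hw hπ (1 ⊗ₜ Ideal.Quotient.mk _ p) =
      π (MvPolynomial.map (algebraMap A' A) p) := by
  simp only [presTensorEquiv', AlgEquiv.trans_apply, quotTensorEquiv_one_tmul]
  rfl

attribute [local instance] Algebra.TensorProduct.rightAlgebra in
include hw hπ in
theorem exists_isPushout_B0 [Algebra A' B] [IsScalarTower A' A B] :
    ∃ (_ : Algebra (B0 w0 A') B) (_ : IsScalarTower A' (B0 w0 A') B),
      Algebra.IsPushout A' A (B0 w0 A') B ∧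
      ∀ p : MvPolynomial (Fin n) A', algebraMap (B0 w0 A') B (Ideal.Quotient.mk _ p) =
        π (MvPolynomial.map (algebraMap A' A) p) := by
  letI : Algebra (B0 w0 A') B := (kappa A' π hw).toAlgebra
  have halg : ∀ p : MvPolynomial (Fin n) A', algebraMap (B0 w0 A') B (Ideal.Quotient.mk _ p) =
      π (MvPolynomial.map (algebraMap A' A) p) := fun p => rfl
  haveI : IsScalarTower A' (B0 w0 A') B := IsScalarTower.of_algebraMap_eq (fun a' => by
    have h1 : algebraMap A' (B0 w0 A') a' = Ideal.Quotient.mk _ (MvPolynomial.C a') := rfl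
    have h2 : algebraMap (B0 w0 A') B (algebraMap A' (B0 w0 A') a') =
        algebraMap A B (algebraMap A' A a') := by
      rw [h1, halg, MvPolynomial.map_C]
      exact π.commutes _
    rw [h2, ← IsScalarTower.algebraMap_apply A' A B])
  refine ⟨inferInstance, inferInstance, ?_, halg⟩
  refine Algebra.IsPushout.of_equiv (R := A') (R' := A) (S := B0 w0 A')
    (S' := A ⊗[A'] (B0 w0 A')) (presTensorEquiv' A' π hw hπ) ?_
  refine RingHom.ext fun x => ?_
  obtain ⟨p, rfl⟩ := Ideal.Quotient.mk_surjective x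
  rw [halg]
  exact presTensorEquiv'_one_tmul A' π hw hπ p

theorem vmap_vmap' : vmap A (vmap A' v0) = vmap A v0 := by
  funext l
  exact mapF_mapF _

/-- `A ⊗[A'] M₀ ≃ₗ[A] M`. -/
noncomputable def PhiEquiv
    (e : ((Fin b → MvPolynomial (Fin n) A) ⧸ NB (vmap A v0)) ≃ₗ[A] M) :
    A ⊗[A'] (M0 v0 A') ≃ₗ[A] M :=
  ((modelBaseChangeEquiv (B' := A) (vmap A' v0)).restrictScalars A).trans
    (((Submodule.quotEquivOfEq _ _ (congrArg NB (vmap_vmap' (A := A) A'))).restrictScalars A).trans
      e)

theorem PhiEquiv_tmul (e : ((Fin b → MvPolynomial (Fin n) A) ⧸ NB (vmap A v0)) ≃ₗ[A] M)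
    (a : A) (y : Fin b → MvPolynomial (Fin n) A') :
    PhiEquiv A' e (a ⊗ₜ Submodule.Quotient.mk y) =
      a • e (Submodule.Quotient.mk (mapF n b y)) := by
  simp only [PhiEquiv, LinearEquiv.trans_apply, LinearEquiv.restrictScalars_apply,
    modelBaseChangeEquiv, LinearEquiv.ofBijective_apply, modelBaseChange,
    LinearMap.liftBaseChange_tmul, modelMap_mk, map_smul]
  rfl

/-- the descended module `M₀` is a `B₀`-module with `B ⊗[B₀] M₀ ≃ M`. -/
theorem exists_module_M0 (hk : Kills w0 v0)
    (e : ((Fin b → MvPolynomial (Fin n) A) ⧸ NB (vmap A v0)) ≃ₗ[A] M)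
    (he : ∀ (p : MvPolynomial (Fin n) A) x, e (p • x) = π p • e x)
    [Algebra A' B] [IsScalarTower A' A B] [Module A' M] [IsScalarTower A' A M]
    [Algebra (B0 w0 A') B] [IsScalarTower A' (B0 w0 A') B]
    [Algebra.IsPushout A' A (B0 w0 A') B]
    (halg : ∀ p : MvPolynomial (Fin n) A', algebraMap (B0 w0 A') B (Ideal.Quotient.mk _ p) =
      π (MvPolynomial.map (algebraMap A' A) p)) :
    ∃ (_ : Module (B0 w0 A') (M0 v0 A')) (_ : IsScalarTower A' (B0 w0 A') (M0 v0 A')),
      Module.Finite (B0 w0 A') (M0 v0 A') ∧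
      (∀ (p : MvPolynomial (Fin n) A') (x : M0 v0 A'),
        (Ideal.Quotient.mk (Ideal.span (Set.range (wmap A' w0))) p) • x = p • x) ∧
      Nonempty (B ⊗[B0 w0 A'] (M0 v0 A') ≃ₗ[B] M) := by
  have htors := (hk.vmap A').isTorsionBySet
  letI modB0 : Module (B0 w0 A') (M0 v0 A') := htors.module
  haveI towP : IsScalarTower (MvPolynomial (Fin n) A') (B0 w0 A') (M0 v0 A') :=
    Module.IsTorsionBySet.isScalarTower htors
  haveI towA' : IsScalarTower A' (B0 w0 A') (M0 v0 A') :=
    Module.IsTorsionBySet.isScalarTower htors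
  have hmk : ∀ (p : MvPolynomial (Fin n) A') (x : M0 v0 A'),
      (Ideal.Quotient.mk (Ideal.span (Set.range (wmap A' w0))) p) • x = p • x := fun p x => rfl
  have hfin : Module.Finite (B0 w0 A') (M0 v0 A') :=
    Module.Finite.of_restrictScalars_finite (MvPolynomial (Fin n) A') (B0 w0 A') (M0 v0 A')
  refine ⟨modB0, towA', hfin, hmk, ?_⟩
  letI modB0M : Module (B0 w0 A') M := Module.compHom M (algebraMap (B0 w0 A') B)
  have hsm : ∀ (b₀ : B0 w0 A') (m : M), b₀ • m = algebraMap (B0 w0 A') B b₀ • m := fun _ _ => rfl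
  haveI : IsScalarTower (B0 w0 A') B M := ⟨fun b₀ b m => by
    rw [hsm, Algebra.smul_def, mul_smul]⟩
  haveI : IsScalarTower A' (B0 w0 A') M := ⟨fun a' b₀ m => by
    have h1 : algebraMap (B0 w0 A') B (a' • b₀) =
        algebraMap A B (algebraMap A' A a') * algebraMap (B0 w0 A') B b₀ := by
      rw [Algebra.smul_def a' b₀, map_mul, ← IsScalarTower.algebraMap_apply A' (B0 w0 A') B,
        IsScalarTower.algebraMap_apply A' A B]
    rw [hsm, hsm, h1, mul_smul, algebraMap_smul, algebraMap_smul]⟩
  -- the `B₀`-linear map `M₀ → M`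
  let Φ := PhiEquiv (M := M) A' e
  let ψ : M0 v0 A' →ₗ[B0 w0 A'] M :=
    { toFun := fun x => Φ (1 ⊗ₜ x)
      map_add' := fun x y => by rw [TensorProduct.tmul_add, map_add]
      map_smul' := fun b₀ x => by
        obtain ⟨p, rfl⟩ := Ideal.Quotient.mk_surjective b₀
        obtain ⟨y, rfl⟩ := Submodule.Quotient.mk_surjective _ x
        rw [hmk, ← Submodule.Quotient.mk_smul, RingHom.id_apply, hsm, halg]
        simp only [Φ, PhiEquiv_tmul, one_smul]
        rw [mapF_smul, Submodule.Quotient.mk_smul, he] }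
  have hψ : LinearMap.liftBaseChange A (ψ.restrictScalars A') = Φ.toLinearMap := by
    apply TensorProduct.AlgebraTensorModule.ext
    intro a x
    simp only [LinearMap.liftBaseChange_tmul, LinearMap.coe_restrictScalars,
      LinearEquiv.coe_coe]
    change a • Φ (1 ⊗ₜ x) = Φ (a ⊗ₜ x)
    rw [← map_smul, TensorProduct.smul_tmul', smul_eq_mul, mul_one]
  have hbij : Function.Bijective (LinearMap.liftBaseChange B ψ) := by
    apply bijective_liftBaseChange_of_isPushout A' A (B0 w0 A') B ψ
    rw [hψ]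
    exact Φ.bijective
  exact ⟨LinearEquiv.ofBijective _ hbij⟩

end Core

section Pres

variable {A B M : Type u} [CommRing A] [CommRing B] [Algebra A B] [AddCommGroup M] [Module B M]
  [Module A M] [IsScalarTower A B M]

/-- a presentation of `B` and a compatible presentation of `M`. -/
theorem exists_presentation [Algebra.FinitePresentation A B] [Module.FinitePresentation B M] :
    ∃ (n d b c : ℕ) (π : MvPolynomial (Fin n) A →ₐ[A] B) (w : Fin d → MvPolynomial (Fin n) A)
      (v : Fin c → (Fin b → MvPolynomial (Fin n) A)),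
      Function.Surjective π ∧ RingHom.ker π = Ideal.span (Set.range w) ∧ Kills w v ∧
      ∃ e : ((Fin b → MvPolynomial (Fin n) A) ⧸ NB v) ≃ₗ[A] M,
        ∀ (p : MvPolynomial (Fin n) A) x, e (p • x) = π p • e x := by
  obtain ⟨n, π, hπ, hker⟩ := Algebra.FinitePresentation.out (R := A) (A := B)
  obtain ⟨d, w, hw⟩ := Submodule.fg_iff_exists_fin_generating_family.mp hker
  letI : Algebra (MvPolynomial (Fin n) A) B := π.toRingHom.toAlgebra
  letI : Module (MvPolynomial (Fin n) A) M := Module.compHom M π.toRingHom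
  have hsm : ∀ (p : MvPolynomial (Fin n) A) (m : M), p • m = π p • m := fun _ _ => rfl
  haveI : IsScalarTower (MvPolynomial (Fin n) A) B M :=
    ⟨fun p s m => by change (π p * s) • m = π p • (s • m); rw [mul_smul]⟩
  haveI : IsScalarTower A (MvPolynomial (Fin n) A) M :=
    ⟨fun r p m => by change π (r • p) • m = r • (π p • m); rw [map_smul, smul_assoc]⟩
  haveI : Module.FinitePresentation (MvPolynomial (Fin n) A) B := by
    refine Module.finitePresentation_of_surjective (Algebra.linearMap _ B) hπ ?_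
    have : LinearMap.ker (Algebra.linearMap (MvPolynomial (Fin n) A) B) =
        RingHom.ker π.toRingHom := by
      ext x
      rfl
    rw [this]
    exact hker
  haveI : Module.FinitePresentation (MvPolynomial (Fin n) A) M :=
    Module.FinitePresentation.trans _ M B
  obtain ⟨b, K, e, hK⟩ := Module.FinitePresentation.exists_fin (MvPolynomial (Fin n) A) M
  obtain ⟨c, v, hv⟩ := Submodule.fg_iff_exists_fin_generating_family.mp hK
  subst hv
  refine ⟨n, d, b, c, π, w, v, hπ, hw.symm, ?_, (e.symm.restrictScalars A), ?_⟩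
  · intro l i
    have h0 : π (w l) = 0 := by
      have : w l ∈ RingHom.ker π.toRingHom := by
        rw [← hw]; exact Submodule.subset_span ⟨l, rfl⟩
      exact this
    rw [← Submodule.Quotient.mk_eq_zero, Submodule.Quotient.mk_smul]
    apply e.symm.injective
    rw [map_smul, hsm, h0, zero_smul, map_zero]
  · intro p x
    change e.symm (p • x) = π p • e.symm x
    rw [map_smul, hsm]

end Pres

section Coeffs

variable {A : Type*} [CommRing A] {n d b c : ℕ}

theorem mapF_single (C' : Type*) {C : Type*} [CommRing C] [CommRing C'] [Algebra C C'] (i : Fin b) :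
    mapF n b (B := C) (B' := C') (Pi.single i 1) = Pi.single i 1 := by
  funext j
  by_cases hij : j = i
  · subst hij; simp
  · simp [hij]

/-- all the data of a presentation is defined over a finitely generated `ℤ`-subalgebra. -/
theorem exists_model_data (w : Fin d → MvPolynomial (Fin n) A)
    (v : Fin c → (Fin b → MvPolynomial (Fin n) A)) (hk : Kills w v) (s : Finset A) :
    ∃ R0 : Subalgebra ℤ A, R0.FG ∧ (s : Set A) ⊆ R0 ∧
      ∃ (w0 : Fin d → MvPolynomial (Fin n) R0) (v0 : Fin c → (Fin b → MvPolynomial (Fin n) R0)),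
        wmap A w0 = w ∧ vmap A v0 = v ∧ Kills w0 v0 := by
  classical
  have hc : ∀ l i, ∃ cf : Fin c → MvPolynomial (Fin n) A,
      ∑ k, cf k • v k = w l • (Pi.single i 1 : Fin b → MvPolynomial (Fin n) A) := fun l i =>
    (Submodule.mem_span_range_iff_exists_fun _).mp (hk l i)
  choose cert hcert using hc
  let S : Finset A := s ∪ (Finset.univ.biUnion fun l => (w l).coeffs) ∪
    (Finset.univ.biUnion fun k => Finset.univ.biUnion fun j => (v k j).coeffs) ∪
    (Finset.univ.biUnion fun l => Finset.univ.biUnion fun i => Finset.univ.biUnion fun k =>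
      (cert l i k).coeffs)
  let R0 : Subalgebra ℤ A := Algebra.adjoin ℤ (S : Set A)
  have hS : (S : Set A) ⊆ R0 := Algebra.subset_adjoin
  have hw : ∀ l, ∃ p' : MvPolynomial (Fin n) R0, MvPolynomial.map (algebraMap R0 A) p' = w l := by
    intro l
    apply lift_of_coeffs_subset'
    refine subset_trans ?_ hS
    intro x hx
    simp only [S, Finset.coe_union, Finset.coe_biUnion, Set.mem_union, Set.mem_iUnion]
    exact Or.inl (Or.inl (Or.inr ⟨l, by simp, hx⟩))
  have hv : ∀ k j, ∃ p' : MvPolynomial (Fin n) R0,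
      MvPolynomial.map (algebraMap R0 A) p' = v k j := by
    intro k j
    apply lift_of_coeffs_subset'
    refine subset_trans ?_ hS
    intro x hx
    simp only [S, Finset.coe_union, Finset.coe_biUnion, Set.mem_union, Set.mem_iUnion]
    exact Or.inl (Or.inr ⟨k, by simp, j, by simp, hx⟩)
  have hce : ∀ l i k, ∃ p' : MvPolynomial (Fin n) R0,
      MvPolynomial.map (algebraMap R0 A) p' = cert l i k := by
    intro l i k
    apply lift_of_coeffs_subset'
    refine subset_trans ?_ hS
    intro x hx
    simp only [S, Finset.coe_union, Finset.coe_biUnion, Set.mem_union, Set.mem_iUnion]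
    exact Or.inr ⟨l, by simp, i, by simp, k, by simp, hx⟩
  choose w0 hw0 using hw
  choose v0 hv0 using hv
  choose cert0 hcert0 using hce
  have hvm : vmap A v0 = v := by
    funext k j
    exact hv0 k j
  refine ⟨R0, Subalgebra.fg_adjoin_finset S, ?_, w0, v0, funext hw0, hvm, ?_⟩
  · refine subset_trans ?_ hS
    intro x hx
    simp only [S, Finset.coe_union, Set.mem_union]
    exact Or.inl (Or.inl (Or.inl hx))
  · intro l i
    have hinj : Function.Injective (mapF n b (B := R0) (B' := A)) :=
      mapF_injective Subtype.val_injective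
    have : w0 l • (Pi.single i 1 : Fin b → MvPolynomial (Fin n) R0) = ∑ k, cert0 l i k • v0 k := by
      apply hinj
      rw [mapF_smul, mapF_single, hw0, ← hcert l i, map_sum]
      refine Finset.sum_congr rfl fun k _ => ?_
      rw [mapF_smul, hcert0]
      congr 1
      exact (congrFun hvm k).symm
    rw [this]
    exact Submodule.sum_mem _ fun k _ => Submodule.smul_mem _ _ (Submodule.subset_span ⟨k, rfl⟩)

end Coeffs

section Final

theorem flat_model_of_le {R0 R : Type*} [CommRing R0] [CommRing R] [Algebra R0 R] {n b c : ℕ}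
    (v0 : Fin c → (Fin b → MvPolynomial (Fin n) R0)) {B1 B2 : Subalgebra R0 R} (hle : B1 ≤ B2)
    (h : Module.Flat B1 ((Fin b → MvPolynomial (Fin n) B1) ⧸ NB (vmap B1 v0))) :
    Module.Flat B2 ((Fin b → MvPolynomial (Fin n) B2) ⧸ NB (vmap B2 v0)) := by
  letI : Algebra B1 B2 := (Subalgebra.inclusion hle).toRingHom.toAlgebra
  haveI : IsScalarTower R0 B1 B2 := IsScalarTower.of_algebraMap_eq (fun r => rfl)
  have := flat_model_baseChange (B' := B2) (vmap B1 v0) h
  rwa [vmap_vmap' (A := B2) B1] at this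

variable {A B M : Type u} [CommRing A] [CommRing B] [Algebra A B] [AddCommGroup M] [Module B M]
  [Module A M] [IsScalarTower A B M]

/-- assembling the descended data over an intermediate subalgebra `A'`. -/
theorem exists_package {R0 : Subalgebra ℤ A} (hR0 : R0.FG) {n d b c : ℕ}
    {w0 : Fin d → MvPolynomial (Fin n) R0} {v0 : Fin c → (Fin b → MvPolynomial (Fin n) R0)}
    (hk : Kills w0 v0) (π : MvPolynomial (Fin n) A →ₐ[A] B) (hπ : Function.Surjective π)
    (hw : RingHom.ker π = Ideal.span (Set.range (wmap A w0)))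
    (e : ((Fin b → MvPolynomial (Fin n) A) ⧸ NB (vmap A v0)) ≃ₗ[A] M)
    (he : ∀ (p : MvPolynomial (Fin n) A) x, e (p • x) = π p • e x)
    (A' : Subalgebra R0 A) (hA' : A'.FG) :
    Algebra.FiniteType ℤ A' ∧
    ∃ (_ : Algebra (B0 w0 A') B) (_ : IsScalarTower A' (B0 w0 A') B),
      Algebra.FinitePresentation A' (B0 w0 A') ∧ Algebra.IsPushout A' A (B0 w0 A') B ∧
      (∀ p : MvPolynomial (Fin n) A', algebraMap (B0 w0 A') B (Ideal.Quotient.mk _ p) =
        π (MvPolynomial.map (algebraMap A' A) p)) ∧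
      ∃ (_ : Module (B0 w0 A') (M0 v0 A')) (_ : IsScalarTower A' (B0 w0 A') (M0 v0 A')),
        Module.Finite (B0 w0 A') (M0 v0 A') ∧
        (∀ (p : MvPolynomial (Fin n) A') (x : M0 v0 A'),
          (Ideal.Quotient.mk (Ideal.span (Set.range (wmap A' w0))) p) • x = p • x) ∧
        Nonempty (B ⊗[B0 w0 A'] (M0 v0 A') ≃ₗ[B] M) := by
  haveI : Algebra.FiniteType ℤ R0 := (Subalgebra.fg_iff_finiteType R0).mp hR0
  haveI : Algebra.FiniteType R0 A' := (Subalgebra.fg_iff_finiteType A').mp hA'
  refine ⟨Algebra.FiniteType.trans (S := R0) ‹_› ‹_›, ?_⟩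
  obtain ⟨algB, towB, hpo, halg⟩ := exists_isPushout_B0 (w0 := w0) A' π hw hπ
  obtain ⟨modM, towM, hfin, hmk, hiso⟩ := exists_module_M0 (M := M) A' π hk e he halg
  refine ⟨algB, towB, ?_, hpo, halg, modM, towM, hfin, hmk, hiso⟩
  classical
  exact Algebra.FinitePresentation.quotient ⟨Finset.univ.image (wmap A' w0), by simp⟩

/-- **Global descent of flatness, module form** (EGA IV 11.2.6.1): `B` a finitely presented
`A`-algebra, `M` a finitely presented `B`-module flat over `A`. Then `(A, B, M)` is the base change of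
`(A₀, B₀, M₀)` with `A₀ ⊆ A` a finitely generated `ℤ`-algebra (containing a prescribed finite set),
`B₀` a finitely presented `A₀`-algebra, `M₀` a finite `B₀`-module flat over `A₀`; if `B` is flat over
`A`, so is `B₀` over `A₀`. -/
theorem exists_fg_model_flat_module [Algebra.FinitePresentation A B]
    [Module.FinitePresentation B M] [Module.Flat A M] (s : Finset A) :
    ∃ (A₀ : Type u) (_ : CommRing A₀) (_ : Algebra A₀ A) (_ : Algebra A₀ B)
      (_ : IsScalarTower A₀ A B),
      Algebra.FiniteType ℤ A₀ ∧ Function.Injective (algebraMap A₀ A) ∧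
      (s : Set A) ⊆ Set.range (algebraMap A₀ A) ∧
    ∃ (B₀ : Type u) (_ : CommRing B₀) (_ : Algebra A₀ B₀) (_ : Algebra B₀ B)
      (_ : IsScalarTower A₀ B₀ B),
      Algebra.FinitePresentation A₀ B₀ ∧ Algebra.IsPushout A₀ A B₀ B ∧
      (Module.Flat A B → Module.Flat A₀ B₀) ∧
    ∃ (M₀ : Type u) (_ : AddCommGroup M₀) (_ : Module A₀ M₀) (_ : Module B₀ M₀)
      (_ : IsScalarTower A₀ B₀ M₀),
      Module.Finite B₀ M₀ ∧ Module.Flat A₀ M₀ ∧ Nonempty (B ⊗[B₀] M₀ ≃ₗ[B] M) := by
  obtain ⟨n, d, b, c, π, w, v, hπ, hw, hk, e, he⟩ := exists_presentation (A := A) (B := B) (M := M)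
  obtain ⟨R0, hR0, hs, w0, v0, rfl, rfl, hk0⟩ := exists_model_data w v hk s
  haveI : Algebra.FiniteType ℤ R0 := (Subalgebra.fg_iff_finiteType R0).mp hR0
  haveI : IsNoetherianRing R0 := Algebra.FiniteType.isNoetherianRing ℤ R0
  have hflatM : Module.Flat A ((Fin b → MvPolynomial (Fin n) A) ⧸ NB (vmap A v0)) :=
    Module.Flat.of_linearEquiv e
  obtain ⟨A1, hA1, hfl1⟩ := exists_fg_subalgebra_flat_model v0 hflatM
  have hB : ∃ A2 : Subalgebra R0 A, A2.FG ∧ (Module.Flat A B →
      Module.Flat A2 ((Fin 1 → MvPolynomial (Fin n) A2) ⧸ NB (vmap A2 (vOf w0)))) := by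
    by_cases hBf : Module.Flat A B
    · have hflatB : Module.Flat A
          ((Fin 1 → MvPolynomial (Fin n) A) ⧸ NB (vmap A (vOf w0))) := by
        refine Module.Flat.of_linearEquiv (M := B)
          (((modelEquivQuot (wmap A w0)).restrictScalars A).trans
            ((Ideal.quotientEquivAlgOfEq A hw.symm).trans
              (Ideal.quotientKerAlgEquivOfSurjective hπ)).toLinearEquiv)
      obtain ⟨A2, hA2, hfl2⟩ := exists_fg_subalgebra_flat_model (vOf w0) hflatB
      exact ⟨A2, hA2, fun _ => hfl2⟩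
    · exact ⟨⊥, Subalgebra.fg_bot, fun h => absurd h hBf⟩
  obtain ⟨A2, hA2, hfl2⟩ := hB
  set A' : Subalgebra R0 A := A1 ⊔ A2 with hA'
  have hA'fg : A'.FG := Subalgebra.FG.sup hA1 hA2
  obtain ⟨hft, algB, towB, hfp, hpo, halg, modM, towM, hfin, hmk, hiso⟩ :=
    exists_package (M := M) hR0 hk0 π hπ hw e he A' hA'fg
  refine ⟨A', inferInstance, inferInstance, inferInstance, inferInstance, hft,
    Subtype.val_injective, ?_, B0 w0 A', inferInstance, inferInstance, algB, towB, hfp, hpo, ?_,
    M0 v0 A', inferInstance, inferInstance, modM, towM, hfin, ?_, hiso⟩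
  · intro x hx
    obtain ⟨y, hy⟩ : x ∈ Set.range (algebraMap R0 A) := ⟨⟨x, hs hx⟩, rfl⟩
    exact ⟨algebraMap R0 A' y, by rw [← IsScalarTower.algebraMap_apply, hy]⟩
  · intro hBf
    haveI : Module.Flat A' ((Fin 1 → MvPolynomial (Fin n) A') ⧸ NB (vOf (wmap A' w0))) :=
      flat_model_of_le (vOf w0) le_sup_right (hfl2 hBf)
    exact Module.Flat.of_linearEquiv
      (((modelEquivQuot (wmap A' w0)).restrictScalars A').symm)
  · exact flat_model_of_le v0 le_sup_left hfl1

/-- **Pointwise descent of flatness, module form** (EGA IV 11.2.6 + 11.3.1): `B` a finitely presented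
`A`-algebra, `M` a finitely presented `B`-module, `q` a prime of `B` with `M_q` flat over `A`. Then
`(A, B, M)` is the base change of `(A₀, B₀, M₀)` with `A₀ ⊆ A` a finitely generated `ℤ`-algebra, and
there is `g₀ ∈ B₀` with image outside `q` such that `(M₀)_{g₀}` is flat over `A₀`. -/
theorem exists_fg_model_flat_module_away [Algebra.FinitePresentation A B]
    [Module.FinitePresentation B M] (q : Ideal B) [q.IsPrime]
    (hq : Module.Flat A (LocalizedModule q.primeCompl M)) (s : Finset A) :
    ∃ (A₀ : Type u) (_ : CommRing A₀) (_ : Algebra A₀ A) (_ : Algebra A₀ B)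
      (_ : IsScalarTower A₀ A B),
      Algebra.FiniteType ℤ A₀ ∧ Function.Injective (algebraMap A₀ A) ∧
      (s : Set A) ⊆ Set.range (algebraMap A₀ A) ∧
    ∃ (B₀ : Type u) (_ : CommRing B₀) (_ : Algebra A₀ B₀) (_ : Algebra B₀ B)
      (_ : IsScalarTower A₀ B₀ B),
      Algebra.FinitePresentation A₀ B₀ ∧ Algebra.IsPushout A₀ A B₀ B ∧
    ∃ (M₀ : Type u) (_ : AddCommGroup M₀) (_ : Module A₀ M₀) (_ : Module B₀ M₀)
      (_ : IsScalarTower A₀ B₀ M₀),
      Module.Finite B₀ M₀ ∧ Nonempty (B ⊗[B₀] M₀ ≃ₗ[B] M) ∧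
      ∃ g₀ : B₀, algebraMap B₀ B g₀ ∉ q ∧
        Module.Flat A₀ (LocalizedModule (Submonoid.powers g₀) M₀) := by
  obtain ⟨n, d, b, c, π, w, v, hπ, hw, hk, e, he⟩ := exists_presentation (A := A) (B := B) (M := M)
  obtain ⟨R0, hR0, hs, w0, v0, rfl, rfl, hk0⟩ := exists_model_data w v hk s
  haveI : Algebra.FiniteType ℤ R0 := (Subalgebra.fg_iff_finiteType R0).mp hR0
  haveI : IsNoetherianRing R0 := Algebra.FiniteType.isNoetherianRing ℤ R0
  have hflat : Module.Flat A (LocalizedModule (q.comap π).primeCompl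
      ((Fin b → MvPolynomial (Fin n) A) ⧸ NB (vmap A v0))) := by
    letI : Module (MvPolynomial (Fin n) A) M := Module.compHom M π.toRingHom
    have hM : ∀ (p : MvPolynomial (Fin n) A) (m : M), p • m = π p • m := fun p m => rfl
    haveI : IsScalarTower A (MvPolynomial (Fin n) A) M := ⟨fun a p m => by
      rw [hM, hM, map_smul, smul_assoc]⟩
    let e'' : ((Fin b → MvPolynomial (Fin n) A) ⧸ NB (vmap A v0)) →ₗ[MvPolynomial (Fin n) A] M :=
      { toFun := e
        map_add' := map_add e
        map_smul' := fun p x => by rw [RingHom.id_apply, he, hM] }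
    let e' : ((Fin b → MvPolynomial (Fin n) A) ⧸ NB (vmap A v0)) ≃ₗ[MvPolynomial (Fin n) A] M :=
      LinearEquiv.ofBijective e'' e.bijective
    have h1 := (flat_localizedModule_comap_iff π hπ M hM q).mpr hq
    exact FlatLocus.flat_of_le (q.comap π).primeCompl (q.comap π).primeCompl
      ((LocalizedModule.mkLinearMap (q.comap π).primeCompl M) ∘ₗ e'.toLinearMap)
      (LocalizedModule.mkLinearMap (q.comap π).primeCompl _) le_rfl h1
  obtain ⟨A', hA'fg, gB, hgB, hfl⟩ := exists_fg_subalgebra_forall_flat v0 (q.comap π) hflat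
  obtain ⟨hft, algB, towB, hfp, hpo, halg, modM, towM, hfin, hmk, hiso⟩ :=
    exists_package (M := M) hR0 hk0 π hπ hw e he A' hA'fg
  refine ⟨A', inferInstance, inferInstance, inferInstance, inferInstance, hft,
    Subtype.val_injective, ?_, B0 w0 A', inferInstance, inferInstance, algB, towB, hfp, hpo,
    M0 v0 A', inferInstance, inferInstance, modM, towM, hfin, hiso,
    Ideal.Quotient.mk _ gB, ?_, ?_⟩
  · intro x hx
    obtain ⟨y, hy⟩ : x ∈ Set.range (algebraMap R0 A) := ⟨⟨x, hs hx⟩, rfl⟩
    exact ⟨algebraMap R0 A' y, by rw [← IsScalarTower.algebraMap_apply, hy]⟩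
  · rw [halg]
    exact hgB
  · apply flat_localizedModule_powers_of_forall_prime
    intro q₀ _ hq₀
    rw [← flat_localizedModule_comap_iff
      (Ideal.Quotient.mkₐ A' (Ideal.span (Set.range (wmap A' w0))))
      (Ideal.Quotient.mkₐ_surjective A' _) (M0 v0 A') (fun p m => (hmk p m).symm) q₀]
    exact hfl _ hq₀

end Final

end Groth.Agent.Lib.helper3.FlatDesc
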