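import Mathlib
import Groth.Prelude.Def_FlatCA
/-!
# Finitely generated subalgebras of a directed colimit factor through a stage (helper3)

`R0` Noetherian, `(G i)` a directed system of `R0`-algebras with colimit `A` (in the sense of
`FlatCA.IsDirectedColimitRing`). Every finitely generated `R0`-subalgebra `B ⊆ A` admits a ring
homomorphism `B → G j` over `R0` for some `j`.
-/

set_option autoImplicit false
universe u

namespace Groth.Agent.Lib.helper3.FlatDesc

open MvPolynomial

theorem exists_ringHom_of_fg {R0 : Type*} [CommRing R0] [IsNoetherianRing R0]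
    {ι : Type u} [Preorder ι] (G : ι → Type u) [∀ i, CommRing (G i)] [∀ i, Algebra R0 (G i)]
    (gg : ∀ i j, i ≤ j → G i →+* G j)
    (hgg : ∀ i j (h : i ≤ j) (r : R0), gg i j h (algebraMap R0 (G i) r) = algebraMap R0 (G j) r)
    (A : Type u) [CommRing A] [Algebra R0 A] [∀ i, Algebra (G i) A]
    [∀ i, IsScalarTower R0 (G i) A]
    (hcolim : FlatCA.IsDirectedColimitRing G gg A) (B : Subalgebra R0 A) (hB : B.FG) :
    ∃ j, ∃ β : B →+* G j, ∀ r : R0, β (algebraMap R0 B r) = algebraMap R0 (G j) r := by
  classical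
  obtain ⟨hdir, hne, hid, hcomp, hcompat, hsurj, hzero⟩ := hcolim
  haveI := hdir
  haveI := hne
  obtain ⟨tB, htB⟩ := hB
  -- the presentation
  let π : MvPolynomial tB R0 →ₐ[R0] A := aeval (fun a : tB => (a : A))
  have hrange : π.range = B := by
    rw [← htB, ← Algebra.adjoin_range_eq_range_aeval]
    congr 1
    ext x
    simp
  have hπB : ∀ x, π x ∈ B := fun x => hrange ▸ ⟨x, rfl⟩
  let πB : MvPolynomial tB R0 →+* B := (π.toRingHom).codRestrict B.toSubring hπB
  have hπB_surj : Function.Surjective πB := by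
    rintro ⟨y, hy⟩
    rw [← hrange] at hy
    obtain ⟨x, rfl⟩ := hy
    exact ⟨x, rfl⟩
  -- lift the generators
  choose ia xa hxa using fun a : tB => hsurj (a : A)
  obtain ⟨i, hi⟩ := Finset.exists_le (Finset.univ.image ia)
  have hia : ∀ a : tB, ia a ≤ i := fun a => hi _ (Finset.mem_image_of_mem _ (Finset.mem_univ a))
  let σ : tB → G i := fun a => gg (ia a) i (hia a) (xa a)
  have hσ : ∀ a : tB, algebraMap (G i) A (σ a) = a := by
    intro a
    have := congrArg (fun φ => φ (xa a)) (hcompat (ia a) i (hia a))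
    simp only [RingHom.comp_apply] at this
    rw [this, hxa]
  let πi : MvPolynomial tB R0 →ₐ[R0] G i := aeval σ
  have hπi : ∀ x, algebraMap (G i) A (πi x) = π x := by
    intro x
    have : ((IsScalarTower.toAlgHom R0 (G i) A).comp πi) = π := by
      apply MvPolynomial.algHom_ext
      intro a
      simp [πi, π, hσ]
    exact congrArg (fun φ => φ x) this
  -- the relations
  have hfg : (RingHom.ker π.toRingHom).FG := IsNoetherian.noetherian _
  obtain ⟨tr, htr⟩ := hfg
  have hrel : ∀ r ∈ tr, ∃ j, ∃ h : i ≤ j, gg i j h (πi r) = 0 := by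
    intro r hr
    apply hzero
    rw [hπi]
    have : r ∈ RingHom.ker π.toRingHom := htr ▸ Ideal.subset_span hr
    exact this
  choose! jr hjr hjr0 using hrel
  obtain ⟨j, hj⟩ := Finset.exists_le (insert i (tr.image jr))
  have hij : i ≤ j := hj i (Finset.mem_insert_self _ _)
  have hjrj : ∀ r ∈ tr, jr r ≤ j := fun r hr =>
    hj _ (Finset.mem_insert_of_mem (Finset.mem_image_of_mem _ hr))
  let πj : MvPolynomial tB R0 →+* G j := (gg i j hij).comp πi.toRingHom
  have hker : RingHom.ker πB ≤ RingHom.ker πj := by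
    have h1 : RingHom.ker πB = RingHom.ker π.toRingHom := by
      ext x
      simp only [RingHom.mem_ker]
      constructor
      · intro h
        exact congrArg Subtype.val h
      · intro h
        exact Subtype.ext h
    rw [h1, ← htr, Ideal.span_le]
    intro r hr
    rw [SetLike.mem_coe, RingHom.mem_ker]
    change gg i j hij (πi r) = 0
    have h2 := congrArg (fun φ => φ (πi r)) (hcomp i (jr r) j (hjr r hr) (hjrj r hr))
    simp only [RingHom.comp_apply] at h2
    rw [← h2, hjr0 r hr, map_zero]
  refine ⟨j, RingHom.liftOfSurjective πB hπB_surj ⟨πj, hker⟩, ?_⟩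
  intro r
  have h3 : algebraMap R0 B r = πB (C r) := by
    apply Subtype.ext
    change algebraMap R0 A r = π (C r)
    rw [← MvPolynomial.algebraMap_eq, AlgHom.commutes]
  rw [h3, RingHom.liftOfSurjective_comp_apply]
  change gg i j hij (πi (C r)) = _
  rw [← MvPolynomial.algebraMap_eq, AlgHom.commutes, hgg]

end Groth.Agent.Lib.helper3.FlatDesc
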