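import Mathlib
import Groth.Agent.Lib.Helper3.FlatDescL
import Groth.Agent.Lib.Helper3.FlatDescG
import Groth.Agent.Lib.Helper3.FlatDescM
/-!
# Flatness in directed colimits of rings (EGA IV 11.2.6.1) (helper3)
-/

set_option autoImplicit false
set_option linter.style.haveILetI false
universe u

open TensorProduct

namespace Groth.Agent.Lib.helper3.FlatDesc

/-- a finitely presented module over a finitely presented algebra is, as a module over the base,
isomorphic to a model `(Fin b → MvPolynomial (Fin n) A₀) ⧸ span (range v)`. -/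
theorem exists_model_of_finitePresentation (A₀ B₀ M₀ : Type u) [CommRing A₀] [CommRing B₀]
    [Algebra A₀ B₀] [Algebra.FinitePresentation A₀ B₀] [AddCommGroup M₀] [Module B₀ M₀]
    [Module A₀ M₀] [IsScalarTower A₀ B₀ M₀] [Module.FinitePresentation B₀ M₀] :
    ∃ (n b c : ℕ) (v : Fin c → Fin b → MvPolynomial (Fin n) A₀),
      Nonempty (M₀ ≃ₗ[A₀] ((Fin b → MvPolynomial (Fin n) A₀) ⧸ NB v)) := by
  obtain ⟨n, π, hπ, hker⟩ := Algebra.FinitePresentation.out (R := A₀) (A := B₀)
  letI : Algebra (MvPolynomial (Fin n) A₀) B₀ := π.toRingHom.toAlgebra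
  letI : Module (MvPolynomial (Fin n) A₀) M₀ := Module.compHom M₀ π.toRingHom
  haveI : IsScalarTower (MvPolynomial (Fin n) A₀) B₀ M₀ :=
    ⟨fun p s m => by change (π p * s) • m = π p • (s • m); rw [mul_smul]⟩
  haveI : IsScalarTower A₀ (MvPolynomial (Fin n) A₀) M₀ :=
    ⟨fun r p m => by change π (r • p) • m = r • (π p • m); rw [map_smul, smul_assoc]⟩
  haveI : Module.FinitePresentation (MvPolynomial (Fin n) A₀) B₀ := by
    refine Module.finitePresentation_of_surjective (Algebra.linearMap _ B₀) hπ ?_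
    have : LinearMap.ker (Algebra.linearMap (MvPolynomial (Fin n) A₀) B₀) =
        RingHom.ker π.toRingHom := by
      ext x
      rfl
    rw [this]
    exact hker
  haveI : Module.FinitePresentation (MvPolynomial (Fin n) A₀) M₀ :=
    Module.FinitePresentation.trans _ M₀ B₀
  obtain ⟨b, K, e, hK⟩ := Module.FinitePresentation.exists_fin (MvPolynomial (Fin n) A₀) M₀
  obtain ⟨c, v, hv⟩ := Submodule.fg_iff_exists_fin_generating_family.mp hK
  subst hv
  exact ⟨n, b, c, v, ⟨e.restrictScalars A₀⟩⟩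

theorem flat_baseChange_iff_model {A₀ : Type*} [CommRing A₀] {M₀ : Type*} [AddCommGroup M₀]
    [Module A₀ M₀] {n b c : ℕ} (v : Fin c → Fin b → MvPolynomial (Fin n) A₀)
    (e : M₀ ≃ₗ[A₀] ((Fin b → MvPolynomial (Fin n) A₀) ⧸ NB v))
    (A' : Type*) [CommRing A'] [Algebra A₀ A'] :
    Module.Flat A' (A' ⊗[A₀] M₀) ↔
      Module.Flat A' ((Fin b → MvPolynomial (Fin n) A') ⧸ NB (vmap A' v)) :=
  Module.Flat.equiv_iff
    ((TensorProduct.AlgebraTensorModule.congr (LinearEquiv.refl A' A') e) ≪≫ₗ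
      modelBaseChangeEquiv v)

/-- **EGA IV 11.2.6.1** in ring form. -/
theorem flat_colimit_iff {A₀ : Type u} [CommRing A₀]
    {ι : Type u} [Preorder ι] (G : ι → Type u) [∀ i, CommRing (G i)] [∀ i, Algebra A₀ (G i)]
    (g : ∀ i j, i ≤ j → G i →ₐ[A₀] G j)
    (A : Type u) [CommRing A] [Algebra A₀ A] [∀ i, Algebra (G i) A] [∀ i, IsScalarTower A₀ (G i) A]
    (hcolim : FlatCA.IsDirectedColimitRing G (fun i j h => (g i j h).toRingHom) A)
    {B₀ : Type u} [CommRing B₀] [Algebra A₀ B₀] [Algebra.FinitePresentation A₀ B₀]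
    (M₀ : Type u) [AddCommGroup M₀] [Module B₀ M₀] [Module A₀ M₀] [IsScalarTower A₀ B₀ M₀]
    [Module.FinitePresentation B₀ M₀] :
    Module.Flat A (A ⊗[A₀] M₀) ↔ ∃ i : ι, Module.Flat (G i) (G i ⊗[A₀] M₀) := by
  obtain ⟨n, b, c, v, ⟨e⟩⟩ := exists_model_of_finitePresentation A₀ B₀ M₀
  rw [flat_baseChange_iff_model v e A]
  simp_rw [flat_baseChange_iff_model v e (G _)]
  constructor
  · intro hflat
    obtain ⟨R0, hR0, v0, rfl⟩ := exists_vmap_eq A₀ n v
    haveI : Algebra.FiniteType ℤ R0 := (Subalgebra.fg_iff_finiteType R0).mp hR0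
    haveI : IsNoetherianRing R0 := Algebra.FiniteType.isNoetherianRing ℤ R0
    rw [vmap_vmap v0 A₀] at hflat
    obtain ⟨B, hB, hBflat⟩ := exists_fg_subalgebra_flat_model v0 hflat
    obtain ⟨j, β, hβ⟩ := exists_ringHom_of_fg (R0 := R0) G (fun i j h => (g i j h).toRingHom)
      (fun i j h r => (g i j h).commutes (r : A₀)) A hcolim B hB
    refine ⟨j, ?_⟩
    letI : Algebra B (G j) := β.toAlgebra
    haveI : IsScalarTower R0 B (G j) := IsScalarTower.of_algebraMap_eq (fun r => (hβ r).symm)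
    have key := flat_model_baseChange (B' := G j) (vmap B v0) hBflat
    rw [vmap_vmap v0 B] at key
    rw [vmap_vmap v0 A₀]
    exact key
  · rintro ⟨i, hi⟩
    have key := flat_model_baseChange (B' := A) (vmap (G i) v) hi
    rwa [vmap_vmap v (G i)] at key

end Groth.Agent.Lib.helper3.FlatDesc
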