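import Groth.Agent.S2142
import Groth.Agent.Lib.Helper5.FibreDimLocal
import Groth.Agent.Lib.Helper3.RelDim

/-!
# Base-change invariance of the local fibre dimension (helper3)

* `localDim_spec_tensor`: affine case, a restatement of `S2142`.
* `localDim_eq_of_isPullback_field`: for `Z` locally of finite type over a field `k`, a field extension `K/k`
  and a cartesian square `Z' = Z ×_k K`, `localDim Z' z' = localDim Z (φ z')`.
* `fibreDimAt_eq_of_isPullback`: for a cartesian square with `f` locally of finite type,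
  `fibreDimAt f' x' = fibreDimAt f (g' x')`.
-/

set_option autoImplicit false
universe u
open CategoryTheory CategoryTheory.Limits AlgebraicGeometry TensorProduct

namespace Groth.Agent.Lib.helper3.FibreDimBC

open Groth.Agent.Lib.helper5.FibreDimLocal

theorem localDim_spec_tensor {k K B : Type u} [Field k] [Field K] [CommRing B] [Algebra k K]
    [Algebra k B] [Algebra.FiniteType k B] (w : Spec (CommRingCat.of (K ⊗[k] B))) :
    FlatMor.localDim (Spec (CommRingCat.of (K ⊗[k] B))) w =
      FlatMor.localDim (Spec (CommRingCat.of B))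
        (Spec.map (CommRingCat.ofHom
          (Algebra.TensorProduct.includeRight.toRingHom : B →+* K ⊗[k] B)) w) := by
  haveI : w.asIdeal.IsPrime := w.isPrime
  exact Groth.Agent.S2142.result
    (w.asIdeal.comap (Algebra.TensorProduct.includeRight.toRingHom : B →+* K ⊗[k] B)) w.asIdeal rfl

theorem localDim_homeo {X Y : Type*} [TopologicalSpace X] [TopologicalSpace Y] (e : X ≃ₜ Y) (x : X) :
    FlatMor.localDim X x = FlatMor.localDim Y (e x) :=
  localDim_eq_of_isOpenEmbedding e e.isOpenEmbedding x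

theorem localDim_eq_of_isPullback_field {k K : Type u} [Field k] [Field K] [Algebra k K]
    {Z Z' : Scheme.{u}} (φ : Z' ⟶ Z) (p' : Z' ⟶ Spec (CommRingCat.of K))
    (p : Z ⟶ Spec (CommRingCat.of k))
    (sq : IsPullback φ p' p (Spec.map (CommRingCat.ofHom (algebraMap k K))))
    [hp : LocallyOfFiniteType p] (z' : Z') :
    FlatMor.localDim Z' z' = FlatMor.localDim Z (φ z') := by
  obtain ⟨U, hU, hzU, -⟩ := exists_isAffineOpen_mem_and_subset (x := φ z') (U := ⊤) trivial
  have sqU : IsPullback (φ ∣_ U) ((φ ⁻¹ᵁ U).ι ≫ p') (U.ι ≫ p)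
      (Spec.map (CommRingCat.ofHom (algebraMap k K))) :=
    (isPullback_morphismRestrict φ U).paste_vert sq
  let B : Type u := Γ(Z, U)
  let e₀ : (U : Scheme.{u}) ≅ Spec (CommRingCat.of B) := hU.isoSpec
  let β : CommRingCat.of k ⟶ CommRingCat.of B := Spec.preimage (e₀.inv ≫ U.ι ≫ p)
  have hβ : Spec.map β = e₀.inv ≫ U.ι ≫ p := Spec.map_preimage _
  have sq1 : IsPullback ((φ ∣_ U) ≫ e₀.hom) ((φ ⁻¹ᵁ U).ι ≫ p') (Spec.map β)
      (Spec.map (CommRingCat.ofHom (algebraMap k K))) := by
    refine sqU.of_iso (Iso.refl _) e₀ (Iso.refl _) (Iso.refl _) (by simp) (by simp) ?_ (by simp)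
    rw [hβ, Iso.hom_inv_id_assoc]; simp
  haveI : LocallyOfFiniteType (Spec.map β) := by rw [hβ]; infer_instance
  have hft : β.hom.FiniteType := (HasRingHomProperty.Spec_iff (P := @LocallyOfFiniteType)).mp ‹_›
  letI : Algebra k B := β.hom.toAlgebra
  haveI : Algebra.FiniteType k B := hft
  have hβ' : CommRingCat.ofHom (algebraMap k B) = β := rfl
  have sqT : IsPullback
      (Spec.map (CommRingCat.ofHom
        (Algebra.TensorProduct.includeRight.toRingHom : B →+* K ⊗[k] B)))
      (Spec.map (CommRingCat.ofHom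
        (Algebra.TensorProduct.includeLeftRingHom : K →+* K ⊗[k] B)))
      (Spec.map β) (Spec.map (CommRingCat.ofHom (algebraMap k K))) := by
    rw [← hβ']
    exact (isPullback_SpecMap_of_isPushout _ _ _ _
      (CommRingCat.isPushout_tensorProduct k K B)).flip
  let e : ((φ ⁻¹ᵁ U : Z'.Opens) : Scheme.{u}) ≅ Spec (CommRingCat.of (K ⊗[k] B)) :=
    sq1.isoIsPullback _ _ sqT
  have he : e.hom ≫ Spec.map (CommRingCat.ofHom
        (Algebra.TensorProduct.includeRight.toRingHom : B →+* K ⊗[k] B)) = (φ ∣_ U) ≫ e₀.hom :=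
    IsPullback.isoIsPullback_hom_fst _ _ sq1 sqT
  -- the points
  let u' : ((φ ⁻¹ᵁ U : Z'.Opens) : Scheme.{u}) := ⟨z', hzU⟩
  let u : (U : Scheme.{u}) := ⟨φ z', hzU⟩
  have h1 : FlatMor.localDim Z' z' = FlatMor.localDim ((φ ⁻¹ᵁ U : Z'.Opens) : Scheme.{u}) u' :=
    (localDim_eq_of_isOpenEmbedding (φ ⁻¹ᵁ U).ι (φ ⁻¹ᵁ U).ι.isOpenEmbedding u').symm
  have h2 : FlatMor.localDim Z (φ z') = FlatMor.localDim (U : Scheme.{u}) u :=
    (localDim_eq_of_isOpenEmbedding U.ι U.ι.isOpenEmbedding u).symm
  have h3 : FlatMor.localDim ((φ ⁻¹ᵁ U : Z'.Opens) : Scheme.{u}) u' =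
      FlatMor.localDim (Spec (CommRingCat.of (K ⊗[k] B))) (e.hom u') :=
    localDim_homeo (Scheme.homeoOfIso e) u'
  have h4 : FlatMor.localDim (U : Scheme.{u}) u =
      FlatMor.localDim (Spec (CommRingCat.of B)) (e₀.hom u) :=
    localDim_homeo (Scheme.homeoOfIso e₀) u
  have h5 : (Spec.map (CommRingCat.ofHom
        (Algebra.TensorProduct.includeRight.toRingHom : B →+* K ⊗[k] B))) (e.hom u') = e₀.hom u := by
    rw [← Scheme.Hom.comp_apply, he, Scheme.Hom.comp_apply]
    congr 1
    apply Subtype.ext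
    have := congr(($(morphismRestrict_ι φ U)) u')
    simp only [Scheme.Hom.comp_apply] at this
    exact this
  rw [h1, h2, h3, h4, localDim_spec_tensor, h5]

/-- **Base-change invariance of the local fibre dimension.** -/
theorem fibreDimAt_eq_of_isPullback {X S X' S' : Scheme.{u}} (f : X ⟶ S) [LocallyOfFiniteType f]
    (g : S' ⟶ S) (g' : X' ⟶ X) (f' : X' ⟶ S') (hsq : IsPullback g' f' f g) (x' : X') :
    FlatMor.fibreDimAt f' x' = FlatMor.fibreDimAt f (g' x') := by
  have hpb := isPullback_fiberToSpecResidueField_of_isPullback hsq (f' x')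
  letI : Algebra (S.residueField (g (f' x'))) (S'.residueField (f' x')) :=
    (g.residueFieldMap (f' x')).hom.toAlgebra
  have hlft : LocallyOfFiniteType (f.fiberToSpecResidueField (g (f' x'))) :=
    MorphismProperty.pullback_snd (P := @LocallyOfFiniteType) _ _ inferInstance
  have h1 := localDim_eq_of_isPullback_field (k := S.residueField (g (f' x')))
    (K := S'.residueField (f' x')) _ _ _ hpb (hp := hlft) (f'.asFiber x')
  have hw : f (g' x') = g (f' x') := by
    rw [← Scheme.Hom.comp_apply, hsq.w, Scheme.Hom.comp_apply]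
  have key : f.fiberι (g (f' x')) ((pullback.map f' (S'.fromSpecResidueField (f' x')) f
      (S.fromSpecResidueField (g (f' x'))) g' (Spec.map (g.residueFieldMap (f' x'))) g hsq.w.symm
      (by simp)) (f'.asFiber x')) = g' x' := by
    have h1 : pullback.map f' (S'.fromSpecResidueField (f' x')) f
      (S.fromSpecResidueField (g (f' x'))) g' (Spec.map (g.residueFieldMap (f' x'))) g hsq.w.symm
      (by simp) ≫ f.fiberι (g (f' x')) = f'.fiberι (f' x') ≫ g' := pullback.lift_fst _ _ _
    have h2 := congrArg (fun φ : f'.fiber (f' x') ⟶ X => φ (f'.asFiber x')) h1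
    simp only [Scheme.Hom.comp_apply, Scheme.Hom.fiberι_asFiber] at h2
    exact h2
  have h2 := Groth.Agent.Lib.helper3.RelDim.localDim_fiber_eq f (g (f' x')) (g' x') hw _ key
  have h0 : FlatMor.fibreDimAt f' x' = FlatMor.localDim (f'.fiber (f' x')) (f'.asFiber x') := rfl
  rw [h0, ← h2]
  exact h1

end Groth.Agent.Lib.helper3.FibreDimBC
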