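import Mathlib
/-!
# Cancellation for algebras essentially of finite presentation (helper3)

`R → S → S'` with `S` essentially of finite type over `R` and `S'` essentially of finite
presentation over `R`.  Then `S'` is essentially of finite presentation over `S`; we state this in
"local presentation" form: there is an `S`-algebra map `ψ : S[Y₁..Yₑ] → S'` and a finitely generated
ideal `J ⊆ ker ψ` such that every element of `S'` is a fraction `ψ p / ψ g` with `ψ g` a unit and
every element of `ker ψ` is killed into `J` by some `g` with `ψ g` a unit (`exists_locPres`).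
-/

set_option autoImplicit false
set_option linter.style.haveILetI false
set_option linter.unusedSectionVars false
universe u

namespace Groth.Agent.Lib.helper3.EssFPCancel

open MvPolynomial

variable {R S S' : Type u} [CommRing R] [CommRing S] [CommRing S'] [Algebra R S] [Algebra S S']
  [Algebra R S'] [IsScalarTower R S S']

/-- **Cancellation for essentially finitely presented algebras**, local presentation form. -/
theorem exists_locPres
    (hS : ∃ (S₀ : Type u) (_ : CommRing S₀) (_ : Algebra R S₀) (_ : Algebra S₀ S)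
      (_ : IsScalarTower R S₀ S) (T : Submonoid S₀),
      Algebra.FiniteType R S₀ ∧ IsLocalization T S)
    (hS' : ∃ (S₀ : Type u) (_ : CommRing S₀) (_ : Algebra R S₀) (_ : Algebra S₀ S')
      (_ : IsScalarTower R S₀ S') (T : Submonoid S₀),
      Algebra.FinitePresentation R S₀ ∧ IsLocalization T S') :
    ∃ (e : ℕ) (ψ : MvPolynomial (Fin e) S →ₐ[S] S') (J : Ideal (MvPolynomial (Fin e) S)),
      J.FG ∧ (∀ c ∈ J, ψ c = 0) ∧ (∀ s' : S', ∃ p g, IsUnit (ψ g) ∧ s' * ψ g = ψ p) ∧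
      (∀ c, ψ c = 0 → ∃ g, IsUnit (ψ g) ∧ g * c ∈ J) := by
  classical
  obtain ⟨S₀, _, _, _, _, M₀, hft, hloc⟩ := hS
  obtain ⟨S₁, _, _, _, _, N₀, hfp, hloc'⟩ := hS'
  obtain ⟨m, f₀, hf₀⟩ := Algebra.FiniteType.iff_quotient_mvPolynomial''.mp hft
  obtain ⟨e, f', hf', hker'⟩ := Algebra.FinitePresentation.out (R := R) (A := S₁)
  let y : Fin e → S' := fun i => algebraMap S₁ S' (f' (X i))
  let ψ : MvPolynomial (Fin e) S →ₐ[S] S' := aeval y
  let ι : MvPolynomial (Fin e) R →+* MvPolynomial (Fin e) S := map (algebraMap R S)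
  have hψι : ∀ p, ψ (ι p) = algebraMap S₁ S' (f' p) := by
    intro p
    have : (ψ.toRingHom.comp ι) = (algebraMap S₁ S').comp f'.toRingHom := by
      apply MvPolynomial.ringHom_ext
      · intro r
        show ψ (ι (C r)) = algebraMap S₁ S' (f' (C r))
        rw [show ι (C r) = C (algebraMap R S r) from map_C _ _]
        rw [show ψ (C (algebraMap R S r)) = algebraMap S S' (algebraMap R S r) from aeval_C _ _]
        rw [show f' (C r) = algebraMap R S₁ r from f'.commutes r]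
        rw [← IsScalarTower.algebraMap_apply, ← IsScalarTower.algebraMap_apply]
      · intro i
        show ψ (ι (X i)) = algebraMap S₁ S' (f' (X i))
        rw [show ι (X i) = X i from map_X _ _]
        exact aeval_X _ _
    exact RingHom.congr_fun this p
  let x : Fin m → S := fun j => algebraMap S₀ S (f₀ (X j))
  have hfrac : ∀ j, ∃ (b t : MvPolynomial (Fin e) R), f' t ∈ N₀ ∧
      algebraMap S S' (x j) * algebraMap S₁ S' (f' t) = algebraMap S₁ S' (f' b) := by
    intro j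
    obtain ⟨⟨b, t⟩, h⟩ := IsLocalization.surj N₀ (algebraMap S S' (x j))
    obtain ⟨b', rfl⟩ := hf' b
    obtain ⟨t', ht'⟩ := hf' (t : S₁)
    exact ⟨b', t', ht' ▸ t.2, by rw [ht']; exact h⟩
  choose b t htN hbt using hfrac
  let G₀ : MvPolynomial (Fin e) R := ∏ j, t j
  let rel : Fin m → MvPolynomial (Fin e) S := fun j => ι (t j) * C (x j) - ι (b j)
  let J : Ideal (MvPolynomial (Fin e) S) :=
    (RingHom.ker f'.toRingHom).map ι ⊔ Ideal.span (Set.range rel)
  have hunitN : ∀ n : MvPolynomial (Fin e) R, f' n ∈ N₀ → IsUnit (ψ (ι n)) := by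
    intro n hn
    rw [hψι]
    exact IsLocalization.map_units S' (⟨f' n, hn⟩ : N₀)
  have hunitG : IsUnit (ψ (ι G₀)) := by
    rw [show ι G₀ = ∏ j, ι (t j) from map_prod ι _ _, map_prod]
    exact IsUnit.prod_univ_iff.mpr fun j => hunitN _ (htN j)
  have hJker : ∀ k, f' k = 0 → ι k ∈ J := fun k hk =>
    Ideal.mem_sup_left (Ideal.mem_map_of_mem ι hk)
  have hJrel : ∀ j, rel j ∈ J := fun j => Ideal.mem_sup_right (Ideal.subset_span ⟨j, rfl⟩)
  -- stage 1
  let W1 : MvPolynomial (Fin e) S → Prop := fun h => ∃ (D : ℕ) (p : MvPolynomial (Fin e) R),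
    ι G₀ ^ D * h - ι p ∈ J
  have W1ι : ∀ p, W1 (ι p) := fun p => ⟨0, p, by rw [pow_zero, one_mul, sub_self]; exact J.zero_mem⟩
  have W1add : ∀ h₁ h₂, W1 h₁ → W1 h₂ → W1 (h₁ + h₂) := by
    rintro h₁ h₂ ⟨D₁, p₁, H₁⟩ ⟨D₂, p₂, H₂⟩
    refine ⟨D₁ + D₂, G₀ ^ D₂ * p₁ + G₀ ^ D₁ * p₂, ?_⟩
    have : ι G₀ ^ (D₁ + D₂) * (h₁ + h₂) - ι (G₀ ^ D₂ * p₁ + G₀ ^ D₁ * p₂) =
        ι G₀ ^ D₂ * (ι G₀ ^ D₁ * h₁ - ι p₁) + ι G₀ ^ D₁ * (ι G₀ ^ D₂ * h₂ - ι p₂) := by
      rw [map_add, map_mul, map_mul, map_pow, map_pow]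
      ring
    rw [this]
    exact J.add_mem (J.mul_mem_left _ H₁) (J.mul_mem_left _ H₂)
  have W1mul : ∀ h₁ h₂, W1 h₁ → W1 h₂ → W1 (h₁ * h₂) := by
    rintro h₁ h₂ ⟨D₁, p₁, H₁⟩ ⟨D₂, p₂, H₂⟩
    refine ⟨D₁ + D₂, p₁ * p₂, ?_⟩
    have : ι G₀ ^ (D₁ + D₂) * (h₁ * h₂) - ι (p₁ * p₂) =
        (ι G₀ ^ D₁ * h₁) * (ι G₀ ^ D₂ * h₂ - ι p₂) + ι p₂ * (ι G₀ ^ D₁ * h₁ - ι p₁) := by
      rw [map_mul]
      ring
    rw [this]
    exact J.add_mem (J.mul_mem_left _ H₂) (J.mul_mem_left _ H₁)
  have W1x : ∀ j, W1 (C (x j)) := by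
    intro j
    refine ⟨1, (∏ k ∈ Finset.univ.erase j, t k) * b j, ?_⟩
    have hG : G₀ = t j * ∏ k ∈ Finset.univ.erase j, t k :=
      (Finset.mul_prod_erase Finset.univ t (Finset.mem_univ j)).symm
    have : ι G₀ ^ 1 * C (x j) - ι ((∏ k ∈ Finset.univ.erase j, t k) * b j) =
        ι (∏ k ∈ Finset.univ.erase j, t k) * rel j := by
      rw [pow_one, hG, map_mul, map_mul]
      show _ = _ * (ι (t j) * C (x j) - ι (b j))
      ring
    rw [this]
    exact J.mul_mem_left _ (hJrel j)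
  have W1S₀ : ∀ a : S₀, W1 (C (algebraMap S₀ S a)) := by
    intro a
    obtain ⟨a', rfl⟩ := hf₀ a
    induction a' using MvPolynomial.induction_on with
    | C r =>
      have : C (algebraMap S₀ S (f₀ (C r))) = ι (C r) := by
        rw [show ι (C r) = C (algebraMap R S r) from map_C _ _,
          show f₀ (C r) = algebraMap R S₀ r from f₀.commutes r,
          ← IsScalarTower.algebraMap_apply]
      rw [this]
      exact W1ι _
    | add p q hp hq =>
      rw [map_add, map_add, C_add]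
      exact W1add _ _ hp hq
    | mul_X p j hp =>
      rw [map_mul, map_mul, C_mul]
      exact W1mul _ _ hp (W1x j)
  -- stage 2
  have W2 : ∀ c : MvPolynomial (Fin e) S, ∃ σ ∈ M₀, W1 (C (algebraMap S₀ S σ) * c) := by
    intro c
    induction c using MvPolynomial.induction_on with
    | C s =>
      obtain ⟨⟨a, σ⟩, h⟩ := IsLocalization.surj M₀ s
      refine ⟨σ, σ.2, ?_⟩
      have : (C (algebraMap S₀ S σ) : MvPolynomial (Fin e) S) * C s = C (algebraMap S₀ S a) := by
        rw [← C_mul, mul_comm]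
        exact congrArg C h
      rw [this]
      exact W1S₀ a
    | add p q hp hq =>
      obtain ⟨σ₁, hσ₁, H₁⟩ := hp
      obtain ⟨σ₂, hσ₂, H₂⟩ := hq
      refine ⟨σ₁ * σ₂, M₀.mul_mem hσ₁ hσ₂, ?_⟩
      have : C (algebraMap S₀ S (σ₁ * σ₂)) * (p + q) =
          C (algebraMap S₀ S σ₂) * (C (algebraMap S₀ S σ₁) * p) +
          C (algebraMap S₀ S σ₁) * (C (algebraMap S₀ S σ₂) * q) := by
        rw [map_mul, C_mul]
        ring
      rw [this]
      exact W1add _ _ (W1mul _ _ (W1S₀ σ₂) H₁) (W1mul _ _ (W1S₀ σ₁) H₂)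
    | mul_X p i hp =>
      obtain ⟨σ, hσ, H⟩ := hp
      refine ⟨σ, hσ, ?_⟩
      rw [← mul_assoc]
      have hX : W1 (X i) := by
        rw [show (X i : MvPolynomial (Fin e) S) = ι (X i) from (map_X _ _).symm]
        exact W1ι _
      exact W1mul _ _ H hX
  refine ⟨e, ψ, J, ?_, ?_, ?_, ?_⟩
  · exact Submodule.FG.sup (Ideal.FG.map hker' ι) (Submodule.fg_span (Set.finite_range rel))
  · intro c hc
    have hle : J ≤ RingHom.ker ψ.toRingHom := by
      rw [sup_le_iff]
      constructor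
      · rw [Ideal.map_le_iff_le_comap]
        intro k hk
        show ψ (ι k) = 0
        rw [hψι, show f' k = 0 from hk, map_zero]
      · rw [Ideal.span_le]
        rintro _ ⟨j, rfl⟩
        show ψ (ι (t j) * C (x j) - ι (b j)) = 0
        rw [map_sub, map_mul, hψι, hψι,
          show ψ (C (x j)) = algebraMap S S' (x j) from aeval_C _ _, mul_comm, hbt, sub_self]
    exact hle hc
  · intro s'
    obtain ⟨⟨a, n⟩, h⟩ := IsLocalization.surj N₀ s'
    obtain ⟨a', rfl⟩ := hf' a
    obtain ⟨n', hn'⟩ := hf' (n : S₁)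
    refine ⟨ι a', ι n', hunitN n' (hn' ▸ n.2), ?_⟩
    rw [hψι, hψι, hn']
    exact h
  · intro c hc
    obtain ⟨σ, hσ, D, p, H⟩ := W2 c
    -- `ψ (ι p) = 0`
    have hunitσ : IsUnit (ψ (C (algebraMap S₀ S σ))) := by
      rw [show ψ (C (algebraMap S₀ S σ)) = algebraMap S S' (algebraMap S₀ S σ) from aeval_C _ _]
      exact (IsLocalization.map_units S (⟨σ, hσ⟩ : M₀)).map _
    have hJ0 : ∀ z ∈ J, ψ z = 0 := by
      intro z hz
      have hle : J ≤ RingHom.ker ψ.toRingHom := by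
        rw [sup_le_iff]
        constructor
        · rw [Ideal.map_le_iff_le_comap]
          intro k hk
          show ψ (ι k) = 0
          rw [hψι, show f' k = 0 from hk, map_zero]
        · rw [Ideal.span_le]
          rintro _ ⟨j, rfl⟩
          show ψ (ι (t j) * C (x j) - ι (b j)) = 0
          rw [map_sub, map_mul, hψι, hψι,
            show ψ (C (x j)) = algebraMap S S' (x j) from aeval_C _ _, mul_comm, hbt, sub_self]
      exact hle hz
    have h0 : algebraMap S₁ S' (f' p) = 0 := by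
      have h1 := hJ0 _ H
      rw [map_sub, map_mul, map_mul, hc, mul_zero, mul_zero, zero_sub, neg_eq_zero, hψι] at h1
      exact h1
    obtain ⟨n, hn⟩ := (IsLocalization.map_eq_zero_iff N₀ S' (f' p)).mp h0
    obtain ⟨n', hn'⟩ := hf' (n : S₁)
    have hnp : ι (n' * p) ∈ J := hJker _ (by rw [map_mul, hn']; exact hn)
    refine ⟨ι n' * (ι G₀ ^ D * C (algebraMap S₀ S σ)), ?_, ?_⟩
    · rw [map_mul, map_mul, map_pow]
      exact (hunitN n' (hn' ▸ n.2)).mul ((hunitG.pow D).mul hunitσ)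
    · have : ι n' * (ι G₀ ^ D * C (algebraMap S₀ S σ)) * c =
          ι n' * (ι G₀ ^ D * (C (algebraMap S₀ S σ) * c) - ι p) + ι (n' * p) := by
        rw [map_mul]
        ring
      rw [this]
      exact J.add_mem (J.mul_mem_left _ H) hnp

end Groth.Agent.Lib.helper3.EssFPCancel
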