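import Mathlib
import Groth.Agent.Lib.Helper3.FlatDescL
/-!
# Non-Noetherian local criterion, part 1: elementwise injectivity statements for polynomial models
(helper3)

For matrices `w : Fin d → P^a`, `v : Fin c → P^b`, `U : Fin a → P^b` over `P = B[X₁..Xₙ]` with
`Ut U (w j) ∈ NB v`, the map `ū : P^a/NB w → P^b/NB v` induced by `U` is studied elementwise.

* `Ut U`, `Compat`, `InjAt`, `InjModAt`, `IF`.
* `mapF_Ut`, `Compat.vmap`.
* `mapF_mem_NB_iff`: membership modulo an ideal `I` equals membership over `B ⧸ I`.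
* `exists_of_field_ext`: annihilators commute with field extensions (flat base change), elementwise.
-/

set_option autoImplicit false
universe u

open TensorProduct

namespace Groth.Agent.Lib.helper3.LocCrit

open Groth.Agent.Lib.helper3.FlatDesc

section Defs

variable {B : Type*} [CommRing B] {n a b c d : ℕ}

/-- the linear map `x ↦ Σ x_i U_i`. -/
noncomputable abbrev Ut (U : Fin a → (Fin b → MvPolynomial (Fin n) B)) :
    (Fin a → MvPolynomial (Fin n) B) →ₗ[MvPolynomial (Fin n) B] (Fin b → MvPolynomial (Fin n) B) :=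
  Fintype.linearCombination (MvPolynomial (Fin n) B) U

/-- `U` maps the relations `w` into the relations `v`. -/
def Compat (w : Fin d → (Fin a → MvPolynomial (Fin n) B))
    (v : Fin c → (Fin b → MvPolynomial (Fin n) B))
    (U : Fin a → (Fin b → MvPolynomial (Fin n) B)) : Prop :=
  ∀ j, Ut U (w j) ∈ NB v

/-- the induced map of models is injective after localizing at `q`. -/
def InjAt (w : Fin d → (Fin a → MvPolynomial (Fin n) B))
    (v : Fin c → (Fin b → MvPolynomial (Fin n) B))
    (U : Fin a → (Fin b → MvPolynomial (Fin n) B)) (q : Ideal (MvPolynomial (Fin n) B)) : Prop :=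
  ∀ x : Fin a → MvPolynomial (Fin n) B, (∃ g, g ∉ q ∧ g • Ut U x ∈ NB v) →
    ∃ g, g ∉ q ∧ g • x ∈ NB w

variable (n) in
/-- the submodule `I · P^b`. -/
noncomputable abbrev IF (I : Ideal B) (b : ℕ) :
    Submodule (MvPolynomial (Fin n) B) (Fin b → MvPolynomial (Fin n) B) :=
  (I.map (MvPolynomial.C : B →+* MvPolynomial (Fin n) B)) • ⊤

/-- the induced map of models is injective modulo `I` after localizing at `q`. -/
def InjModAt (w : Fin d → (Fin a → MvPolynomial (Fin n) B))
    (v : Fin c → (Fin b → MvPolynomial (Fin n) B))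
    (U : Fin a → (Fin b → MvPolynomial (Fin n) B)) (q : Ideal (MvPolynomial (Fin n) B))
    (I : Ideal B) : Prop :=
  ∀ x : Fin a → MvPolynomial (Fin n) B, (∃ g, g ∉ q ∧ g • Ut U x ∈ NB v ⊔ IF n I b) →
    ∃ g, g ∉ q ∧ g • x ∈ NB w ⊔ IF n I a

end Defs

section BaseChange

variable {B B' : Type*} [CommRing B] [CommRing B'] [Algebra B B'] {n a b c d : ℕ}

theorem mapF_Ut (U : Fin a → (Fin b → MvPolynomial (Fin n) B))
    (x : Fin a → MvPolynomial (Fin n) B) :
    mapF n b (B' := B') (Ut U x) = Ut (vmap B' U) (mapF n a x) := by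
  simp only [Ut, Fintype.linearCombination_apply, map_sum, mapF_smul]
  rfl

theorem Compat.vmap {w : Fin d → (Fin a → MvPolynomial (Fin n) B)}
    {v : Fin c → (Fin b → MvPolynomial (Fin n) B)}
    {U : Fin a → (Fin b → MvPolynomial (Fin n) B)} (h : Compat w v U) :
    Compat (vmap B' w) (vmap B' v) (vmap B' U) := by
  intro j
  show Ut (FlatDesc.vmap B' U) (mapF n a (w j)) ∈ _
  rw [← mapF_Ut]
  exact mapF_mem_NB v (h j)

end BaseChange

section Quot

variable {A Abar : Type*} [CommRing A] [CommRing Abar] [Algebra A Abar] {n b c : ℕ}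

/-- **Membership modulo `I` is membership over `A ⧸ I`.** -/
theorem mapF_mem_NB_iff (hsurj : Function.Surjective (algebraMap A Abar)) (I : Ideal A)
    (hker : RingHom.ker (algebraMap A Abar) = I)
    (v : Fin c → (Fin b → MvPolynomial (Fin n) A)) (y : Fin b → MvPolynomial (Fin n) A) :
    mapF n b (B' := Abar) y ∈ NB (vmap Abar v) ↔ y ∈ NB v ⊔ IF n I b := by
  classical
  constructor
  · intro hy
    obtain ⟨lam, hlam⟩ := (Submodule.mem_span_range_iff_exists_fun _).mp hy
    have hs := MvPolynomial.map_surjective (σ := Fin n) (algebraMap A Abar) hsurj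
    choose lam' hlam' using fun l => hs (lam l)
    set z := y - ∑ l, lam' l • v l with hz
    have h0 : mapF n b (B' := Abar) z = 0 := by
      rw [hz, map_sub, map_sum, ← hlam, sub_eq_zero]
      refine (Finset.sum_congr rfl fun l _ => ?_).symm
      rw [mapF_smul, hlam']
    have hc : ∀ i, z i ∈ I.map (MvPolynomial.C : A →+* MvPolynomial (Fin n) A) := by
      intro i
      have := congrFun h0 i
      rw [mapF_apply] at this
      rw [← hker, ← MvPolynomial.ker_map]
      exact this
    have hmem : z ∈ IF n I b := by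
      rw [pi_eq_sum_univ z]
      exact Submodule.sum_mem _ fun i _ => Submodule.smul_mem_smul (hc i) trivial
    have : y = ∑ l, lam' l • v l + z := by rw [hz]; abel
    rw [this]
    exact Submodule.add_mem_sup (Submodule.sum_mem _ fun l _ =>
      Submodule.smul_mem _ _ (Submodule.subset_span ⟨l, rfl⟩)) hmem
  · intro hy
    obtain ⟨y1, hy1, y2, hy2, rfl⟩ := Submodule.mem_sup.mp hy
    rw [map_add]
    refine Submodule.add_mem _ (mapF_mem_NB v hy1) ?_
    have : mapF n b (B' := Abar) y2 = 0 := by
      refine Submodule.smul_induction_on hy2 ?_ ?_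
      · intro r hr z _
        rw [mapF_smul]
        have hr0 : MvPolynomial.map (algebraMap A Abar) r = 0 := by
          have : r ∈ RingHom.ker (MvPolynomial.map (σ := Fin n) (algebraMap A Abar)) := by
            rw [MvPolynomial.ker_map, hker]; exact hr
          exact this
        rw [hr0, zero_smul]
      · intro x y hx hy
        rw [map_add, hx, hy, add_zero]
    rw [this]
    exact Submodule.zero_mem _

end Quot

section Field

variable {κ k : Type*} [Field κ] [Field k] [Algebra κ k] {n a d : ℕ}

theorem modelBaseChange_tmul_mk (w : Fin d → (Fin a → MvPolynomial (Fin n) κ)) (e : k)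
    (y : Fin a → MvPolynomial (Fin n) κ) :
    modelBaseChange (B' := k) w (e ⊗ₜ[κ] Submodule.Quotient.mk y) =
      Submodule.Quotient.mk (e • mapF n a (B' := k) y) := by
  simp only [modelBaseChange, LinearMap.liftBaseChange_tmul, modelMap_mk,
    Submodule.Quotient.mk_smul]

/-- **Annihilators commute with field extension**, elementwise form. -/
theorem exists_of_field_ext (w : Fin d → (Fin a → MvPolynomial (Fin n) κ))
    (x : Fin a → MvPolynomial (Fin n) κ) (Q : Ideal (MvPolynomial (Fin n) k))
    (g' : MvPolynomial (Fin n) k) (hg' : g' ∉ Q)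
    (h : g' • mapF n a (B' := k) x ∈ NB (vmap k w)) :
    ∃ g'' : MvPolynomial (Fin n) κ,
      MvPolynomial.map (algebraMap κ k) g'' ∉ Q ∧ g'' • x ∈ NB w := by
  classical
  let ℬ := Module.Basis.ofVectorSpace κ k
  obtain ⟨cc, hcc⟩ := TensorProduct.eq_repr_basis_left ℬ
    ((MvPolynomial.algebraTensorAlgEquiv (σ := Fin n) κ k).symm g')
  have hg'eq : g' = cc.sum fun i p => ℬ i • MvPolynomial.map (algebraMap κ k) p := by
    have := congrArg (MvPolynomial.algebraTensorAlgEquiv (σ := Fin n) κ k) hcc
    rw [AlgEquiv.apply_symm_apply] at this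
    rw [← this, Finsupp.sum, map_sum]
    refine (Finset.sum_congr rfl fun i _ => ?_).symm
    rw [MvPolynomial.algebraTensorAlgEquiv_tmul]
  let nn : _ →₀ ((Fin a → MvPolynomial (Fin n) κ) ⧸ NB w) :=
    cc.mapRange (fun p => Submodule.Quotient.mk (p • x)) (by simp)
  have hzero : (nn.sum fun i m => ℬ i ⊗ₜ[κ] m) = 0 := by
    apply (modelBaseChange_bijective (B' := k) w).1
    rw [map_zero, Finsupp.sum_mapRange_index (by intro i; simp), Finsupp.sum, map_sum]
    have : ∀ i ∈ cc.support, modelBaseChange (B' := k) w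
        (ℬ i ⊗ₜ[κ] (Submodule.Quotient.mk (cc i • x) :
          (Fin a → MvPolynomial (Fin n) κ) ⧸ NB w)) =
        Submodule.Quotient.mk
          ((ℬ i • MvPolynomial.map (algebraMap κ k) (cc i)) • mapF n a (B' := k) x) := by
      intro i _
      rw [modelBaseChange_tmul_mk, mapF_smul, smul_assoc]
    rw [Finset.sum_congr rfl this]
    have hsum := (map_sum (NB (vmap k w)).mkQ (fun i =>
      (ℬ i • MvPolynomial.map (algebraMap κ k) (cc i)) • mapF n a (B' := k) x) cc.support).symm
    simp only [Submodule.mkQ_apply] at hsum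
    rw [hsum, ← Finset.sum_smul]
    rw [hg'eq] at h
    exact (Submodule.Quotient.mk_eq_zero _).mpr h
  have hnn := TensorProduct.sum_tmul_basis_left_eq_zero ℬ nn hzero
  have hall : ∀ i, cc i • x ∈ NB w := by
    intro i
    have := DFunLike.congr_fun hnn i
    simp only [nn, Finsupp.mapRange_apply, Finsupp.coe_zero, Pi.zero_apply] at this
    exact (Submodule.Quotient.mk_eq_zero _).mp this
  by_contra hcon
  push Not at hcon
  apply hg'
  rw [hg'eq]
  refine Ideal.sum_mem _ fun i _ => ?_
  show ℬ i • (MvPolynomial.map (algebraMap κ k)) (cc i) ∈ Q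
  rw [MvPolynomial.smul_eq_C_mul]
  refine Ideal.mul_mem_left _ _ ?_
  by_contra hi
  exact hcon (cc i) hi (hall i)

end Field

end Groth.Agent.Lib.helper3.LocCrit
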