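import Mathlib
import Groth.Agent.Lib.Helper3.LocCrit1
import Groth.Agent.Lib.Helper19.FlatIndep
import Groth.Agent.S0393
/-!
# Non-Noetherian local criterion, part 2: the Noetherian local stage (helper3)

Over a Noetherian local ring `R'`, with `q'` a prime of `P' = R'[X₁..Xₙ]` lying over the maximal
ideal, if the model `P'^b/NB v` is `R'`-flat at `q'` and the map of models induced by `U` is injective
modulo the maximal ideal at `q'`, then it is injective at `q'` and its cokernel `P'^b/NB (v ++ U)` is
`R'`-flat at `q'` (`stage_local`).  This is S0393 applied to the localizations at `q'`.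
-/

set_option autoImplicit false
universe u

open TensorProduct

namespace Groth.Agent.Lib.helper3.LocCrit

open Groth.Agent.Lib.helper3.FlatDesc

section General

theorem smul_top_iff {R S N : Type*} [CommRing R] [CommRing S] [Algebra R S] [AddCommGroup N]
    [Module R N] [Module S N] [IsScalarTower R S N] (I : Ideal R) (x : N) :
    x ∈ I • (⊤ : Submodule R N) ↔ x ∈ (I.map (algebraMap R S)) • (⊤ : Submodule S N) := by
  have := Ideal.smul_restrictScalars (R := R) (S := S) (M := N) I (⊤ : Submodule S N)
  rw [Submodule.restrictScalars_top] at this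
  rw [← this, Submodule.restrictScalars_mem]

theorem mem_smul_top_localized {P : Type*} [CommRing P] (T : Submonoid P) (J : Ideal P)
    {X : Type*} [AddCommGroup X] [Module P X] (x : X) (s : T) :
    LocalizedModule.mk x s ∈ J • (⊤ : Submodule P (LocalizedModule T X)) ↔
      ∃ t ∈ T, t • x ∈ J • (⊤ : Submodule P X) := by
  rw [← Submodule.localized₀_top T (LocalizedModule.mkLinearMap T X),
    ← Submodule.localized₀_smul, Submodule.mem_localized₀]
  constructor
  · rintro ⟨y, hy, s', h⟩
    rw [← IsLocalizedModule.mk_eq_mk', LocalizedModule.mk_eq] at h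
    obtain ⟨u, hu⟩ := h
    refine ⟨(u : P) * (s' : P), (u * s').2, ?_⟩
    have : ((u : P) * (s' : P)) • x = (u : P) • (s : P) • y := by
      rw [mul_smul]
      exact hu.symm
    rw [this]
    exact Submodule.smul_mem _ _ (Submodule.smul_mem _ _ hy)
  · rintro ⟨t, ht, h⟩
    refine ⟨t • x, h, ⟨t, ht⟩ * s, ?_⟩
    rw [← IsLocalizedModule.mk_eq_mk']
    exact LocalizedModule.mk_cancel_common_left ⟨t, ht⟩ s x

theorem quot_mk_mem_smul_top {P F : Type*} [CommRing P] [AddCommGroup F] [Module P F]
    (K : Submodule P F) (J : Ideal P) (y : F) :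
    (Submodule.Quotient.mk y : F ⧸ K) ∈ J • (⊤ : Submodule P (F ⧸ K)) ↔ y ∈ K ⊔ J • ⊤ := by
  have : J • (⊤ : Submodule P (F ⧸ K)) = Submodule.map K.mkQ (J • ⊤) := by
    rw [Submodule.map_smul'', Submodule.map_top, Submodule.range_mkQ]
  rw [this, ← Submodule.mkQ_apply, ← Submodule.mem_comap, Submodule.comap_map_mkQ]

end General

section Append

variable {B : Type*} [CommRing B] {n a b c : ℕ}
  (v : Fin c → (Fin b → MvPolynomial (Fin n) B)) (U : Fin a → (Fin b → MvPolynomial (Fin n) B))

theorem range_append : Set.range (Fin.append v U) = Set.range v ∪ Set.range U := by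
  ext y
  constructor
  · rintro ⟨i, rfl⟩
    refine Fin.addCases (fun i => ?_) (fun i => ?_) i
    · rw [Fin.append_left]; exact Or.inl ⟨i, rfl⟩
    · rw [Fin.append_right]; exact Or.inr ⟨i, rfl⟩
  · rintro (⟨i, rfl⟩ | ⟨i, rfl⟩)
    · exact ⟨Fin.castAdd a i, Fin.append_left v U i⟩
    · exact ⟨Fin.natAdd c i, Fin.append_right v U i⟩

theorem NB_append : NB (Fin.append v U) = NB v ⊔ LinearMap.range (Ut U) := by
  rw [NB, range_append, Submodule.span_union, Fintype.range_linearCombination]

theorem vmap_append (B' : Type*) [CommRing B'] [Algebra B B'] :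
    vmap B' (Fin.append v U) = Fin.append (vmap B' v) (vmap B' U) := by
  funext i
  refine Fin.addCases (fun i => ?_) (fun i => ?_) i
  · simp only [vmap, Fin.append_left]
  · simp only [vmap, Fin.append_right]

end Append

section Stage

variable {R' : Type u} [CommRing R'] [IsLocalRing R'] [IsNoetherianRing R'] {n a b c d : ℕ}
  (w : Fin d → (Fin a → MvPolynomial (Fin n) R'))
  (v : Fin c → (Fin b → MvPolynomial (Fin n) R'))
  (U : Fin a → (Fin b → MvPolynomial (Fin n) R'))
  (q' : Ideal (MvPolynomial (Fin n) R')) [q'.IsPrime]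

omit [IsLocalRing R'] [IsNoetherianRing R'] in
theorem NB_le_comap (hc : Compat w v U) : NB w ≤ (NB v).comap (Ut U) := by
  rw [NB, Submodule.span_le]
  rintro _ ⟨j, rfl⟩
  exact hc j

/-- the induced map of models. -/
noncomputable def ubar (hc : Compat w v U) :
    ((Fin a → MvPolynomial (Fin n) R') ⧸ NB w) →ₗ[MvPolynomial (Fin n) R']
      ((Fin b → MvPolynomial (Fin n) R') ⧸ NB v) :=
  Submodule.mapQ (NB w) (NB v) (Ut U) (NB_le_comap w v U hc)

/-- the projection to the cokernel model. -/
noncomputable def pibar :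
    ((Fin b → MvPolynomial (Fin n) R') ⧸ NB v) →ₗ[MvPolynomial (Fin n) R']
      ((Fin b → MvPolynomial (Fin n) R') ⧸ NB (Fin.append v U)) :=
  Submodule.mapQ (NB v) (NB (Fin.append v U)) LinearMap.id (by
    rw [NB_append, Submodule.comap_id]; exact le_sup_left)

omit [IsLocalRing R'] [IsNoetherianRing R'] in
theorem exact_ubar_pibar (hc : Compat w v U) : Function.Exact (ubar w v U hc) (pibar v U) := by
  intro y
  obtain ⟨y, rfl⟩ := Submodule.Quotient.mk_surjective _ y
  constructor
  · intro h
    rw [pibar, Submodule.mapQ_apply, LinearMap.id_apply, Submodule.Quotient.mk_eq_zero,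
      NB_append] at h
    obtain ⟨y1, hy1, y2, ⟨x, rfl⟩, rfl⟩ := Submodule.mem_sup.mp h
    refine ⟨Submodule.Quotient.mk x, ?_⟩
    rw [ubar, Submodule.mapQ_apply]
    refine ((Submodule.Quotient.eq _).mpr ?_)
    simpa using (NB v).neg_mem hy1
  · rintro ⟨x, hx⟩
    obtain ⟨x, rfl⟩ := Submodule.Quotient.mk_surjective _ x
    rw [ubar, Submodule.mapQ_apply] at hx
    rw [← hx, pibar, Submodule.mapQ_apply, LinearMap.id_apply, Submodule.Quotient.mk_eq_zero,
      NB_append]
    exact Submodule.mem_sup_right ⟨x, rfl⟩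

omit [IsLocalRing R'] [IsNoetherianRing R'] in
theorem pibar_surjective : Function.Surjective (pibar v U) := by
  intro y
  obtain ⟨y, rfl⟩ := Submodule.Quotient.mk_surjective _ y
  exact ⟨Submodule.Quotient.mk y, by rw [pibar, Submodule.mapQ_apply, LinearMap.id_apply]⟩

omit [IsNoetherianRing R'] in
theorem isLocalHom_of_comap (hq' : q'.comap (MvPolynomial.C : R' →+* MvPolynomial (Fin n) R') =
    IsLocalRing.maximalIdeal R') :
    IsLocalHom (algebraMap R' (Localization.AtPrime q')) := by
  constructor
  intro r hr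
  rw [IsScalarTower.algebraMap_apply R' (MvPolynomial (Fin n) R') (Localization.AtPrime q'),
    IsLocalization.AtPrime.isUnit_to_map_iff (Localization.AtPrime q') q',
    MvPolynomial.algebraMap_eq] at hr
  by_contra hnu
  have : r ∈ IsLocalRing.maximalIdeal R' := (IsLocalRing.mem_maximalIdeal r).mpr hnu
  rw [← hq'] at this
  exact hr this

/-- **The Noetherian local stage.** -/
theorem stage_local (hc : Compat w v U)
    (hq' : q'.comap (MvPolynomial.C : R' →+* MvPolynomial (Fin n) R') =
      IsLocalRing.maximalIdeal R')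
    (hflat : Module.Flat R' (LocalizedModule q'.primeCompl
      ((Fin b → MvPolynomial (Fin n) R') ⧸ NB v)))
    (hinj : InjModAt w v U q' (IsLocalRing.maximalIdeal R')) :
    InjAt w v U q' ∧ Module.Flat R' (LocalizedModule q'.primeCompl
      ((Fin b → MvPolynomial (Fin n) R') ⧸ NB (Fin.append v U))) := by
  have := isLocalHom_of_comap q' hq'
  set T := q'.primeCompl with hT
  let uP := IsLocalizedModule.map T
    (LocalizedModule.mkLinearMap T ((Fin a → MvPolynomial (Fin n) R') ⧸ NB w))
    (LocalizedModule.mkLinearMap T ((Fin b → MvPolynomial (Fin n) R') ⧸ NB v)) (ubar w v U hc)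
  let u' : LocalizedModule T ((Fin a → MvPolynomial (Fin n) R') ⧸ NB w) →ₗ[R']
      LocalizedModule T ((Fin b → MvPolynomial (Fin n) R') ⧸ NB v) := uP.restrictScalars R'
  have huP : ∀ x s, uP (LocalizedModule.mk (Submodule.Quotient.mk x) s) =
      LocalizedModule.mk (Submodule.Quotient.mk (Ut U x)) s := by
    intro x s
    show IsLocalizedModule.map T _ _ _ _ = _
    rw [IsLocalizedModule.map_LocalizedModules, ubar, Submodule.mapQ_apply]
  have H' : ∀ z, u' z ∈ IsLocalRing.maximalIdeal R' • (⊤ : Submodule R' _) →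
      z ∈ IsLocalRing.maximalIdeal R' • (⊤ : Submodule R' _) := by
    intro z hz
    induction z using LocalizedModule.induction_on with
    | h x s =>
      obtain ⟨x, rfl⟩ := Submodule.Quotient.mk_surjective _ x
      have hz' : uP (LocalizedModule.mk (Submodule.Quotient.mk x) s) ∈ _ := hz
      rw [huP, smul_top_iff (S := MvPolynomial (Fin n) R'), mem_smul_top_localized] at hz'
      obtain ⟨t, ht, hmem⟩ := hz'
      rw [← Submodule.Quotient.mk_smul, quot_mk_mem_smul_top, MvPolynomial.algebraMap_eq] at hmem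
      obtain ⟨g, hg, hgm⟩ := hinj x ⟨t, ht, hmem⟩
      rw [smul_top_iff (S := MvPolynomial (Fin n) R'), mem_smul_top_localized]
      refine ⟨g, hg, ?_⟩
      rw [← Submodule.Quotient.mk_smul, quot_mk_mem_smul_top, MvPolynomial.algebraMap_eq]
      exact hgm
  obtain ⟨hinj', hflat'⟩ := Groth.Agent.S0393.result (R := R') (S := Localization.AtPrime q') u'
    (Groth.Agent.Lib.Helper19.FlatIndep.inj_of_P u' _ H')
  refine ⟨?_, ?_⟩
  · rintro x ⟨g, hg, hmem⟩
    have h0 : u' (LocalizedModule.mk (Submodule.Quotient.mk x) 1) = 0 := by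
      show uP _ = 0
      rw [huP, ← LocalizedModule.mkLinearMap_apply,
        IsLocalizedModule.eq_zero_iff T (LocalizedModule.mkLinearMap T _)]
      refine ⟨⟨g, hg⟩, ?_⟩
      show g • (Submodule.Quotient.mk ((Ut U) x) : _ ⧸ NB v) = 0
      rw [← Submodule.Quotient.mk_smul, Submodule.Quotient.mk_eq_zero]
      exact hmem
    have h1 := hinj' (h0.trans (map_zero u').symm)
    rw [← LocalizedModule.mkLinearMap_apply,
      IsLocalizedModule.eq_zero_iff T (LocalizedModule.mkLinearMap T _)] at h1
    obtain ⟨⟨g', hg'⟩, hgz⟩ := h1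
    have hgz' : g' • (Submodule.Quotient.mk x : _ ⧸ NB w) = 0 := hgz
    rw [← Submodule.Quotient.mk_smul, Submodule.Quotient.mk_eq_zero] at hgz'
    exact ⟨g', hg', hgz'⟩
  · have hex := IsLocalizedModule.map_exact T
      (LocalizedModule.mkLinearMap T ((Fin a → MvPolynomial (Fin n) R') ⧸ NB w))
      (LocalizedModule.mkLinearMap T ((Fin b → MvPolynomial (Fin n) R') ⧸ NB v))
      (LocalizedModule.mkLinearMap T ((Fin b → MvPolynomial (Fin n) R') ⧸ NB (Fin.append v U)))
      (ubar w v U hc) (pibar v U) (exact_ubar_pibar w v U hc)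
    have hsurj := IsLocalizedModule.map_surjective T
      (LocalizedModule.mkLinearMap T ((Fin b → MvPolynomial (Fin n) R') ⧸ NB v))
      (LocalizedModule.mkLinearMap T ((Fin b → MvPolynomial (Fin n) R') ⧸ NB (Fin.append v U)))
      (pibar v U) (pibar_surjective v U)
    let e1 := (hex.linearEquivOfSurjective hsurj).restrictScalars R'
    have hr : LinearMap.range u' = (LinearMap.range uP).restrictScalars R' :=
      LinearMap.range_restrictScalars uP
    let e2 := Submodule.Quotient.restrictScalarsEquiv R' (LinearMap.range uP)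
    let e3 := Submodule.quotEquivOfEq _ _ hr
    have := hflat'
    exact Module.Flat.of_linearEquiv ((e3.trans e2).trans e1).symm

end Stage

end Groth.Agent.Lib.helper3.LocCrit
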