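import Mathlib
import Groth.Agent.Lib.Helper3.LocCrit2
/-!
# Non-Noetherian local criterion, part 3: transfer of injectivity modulo the maximal ideal along a
local homomorphism, and local Noetherian stages inside a local ring (helper3)

* `mapF_mem_sup_IF`: `mapF` maps `NB v ⊔ I·F` into `NB (vmap v) ⊔ I'·F` when `I B' ⊆ I'`.
* `injModAt_descend`: for a local homomorphism `R' → R` of local rings, injectivity modulo `𝔪_R`
  at `q` of the base-changed models implies injectivity modulo `𝔪_{R'}` at the contraction of `q`
  (faithful flatness of the residue field extension).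
* `exists_local_stage`: for a subalgebra `B` of a local ring `R`, the localization of `B` at the
  contraction of the maximal ideal is a local ring with a local homomorphism to `R`.
-/

set_option autoImplicit false
set_option linter.style.haveILetI false
universe u

open TensorProduct

namespace Groth.Agent.Lib.helper3.LocCrit

open Groth.Agent.Lib.helper3.FlatDesc

section Mon

variable {B B' : Type*} [CommRing B] [CommRing B'] [Algebra B B'] {n b c : ℕ}

theorem map_mem_map_C {I : Ideal B} {I' : Ideal B'} (hI : I.map (algebraMap B B') ≤ I')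
    {r : MvPolynomial (Fin n) B} (hr : r ∈ I.map (MvPolynomial.C : B →+* MvPolynomial (Fin n) B)) :
    MvPolynomial.map (algebraMap B B') r ∈
      I'.map (MvPolynomial.C : B' →+* MvPolynomial (Fin n) B') := by
  have hle : I.map (MvPolynomial.C : B →+* MvPolynomial (Fin n) B) ≤
      (I'.map (MvPolynomial.C : B' →+* MvPolynomial (Fin n) B')).comap
        (MvPolynomial.map (algebraMap B B')) := by
    rw [Ideal.map_le_iff_le_comap]
    intro c hc
    rw [Ideal.mem_comap, Ideal.mem_comap, MvPolynomial.map_C]
    exact Ideal.mem_map_of_mem _ (hI (Ideal.mem_map_of_mem _ hc))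
  exact hle hr

theorem mapF_mem_sup_IF {I : Ideal B} {I' : Ideal B'} (hI : I.map (algebraMap B B') ≤ I')
    (v : Fin c → (Fin b → MvPolynomial (Fin n) B)) {y : Fin b → MvPolynomial (Fin n) B}
    (hy : y ∈ NB v ⊔ IF n I b) : mapF n b (B' := B') y ∈ NB (vmap B' v) ⊔ IF n I' b := by
  obtain ⟨y1, hy1, y2, hy2, rfl⟩ := Submodule.mem_sup.mp hy
  rw [map_add]
  refine Submodule.add_mem_sup (mapF_mem_NB v hy1) ?_
  refine Submodule.smul_induction_on hy2 ?_ ?_
  · intro r hr z _
    rw [mapF_smul]
    exact Submodule.smul_mem_smul (map_mem_map_C hI hr) trivial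
  · intro x y hx hy
    rw [map_add]
    exact Submodule.add_mem _ hx hy

end Mon

section Descend

variable {R' R : Type*} [CommRing R'] [IsLocalRing R'] [CommRing R] [IsLocalRing R] [Algebra R' R]
  [IsLocalHom (algebraMap R' R)] {n a b c d : ℕ}
  (w : Fin d → (Fin a → MvPolynomial (Fin n) R'))
  (v : Fin c → (Fin b → MvPolynomial (Fin n) R'))
  (U : Fin a → (Fin b → MvPolynomial (Fin n) R'))
  (q : Ideal (MvPolynomial (Fin n) R))

open IsLocalRing in
/-- **Injectivity modulo the maximal ideal descends along local homomorphisms.** -/
theorem injModAt_descend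
    (hq : (maximalIdeal R).map (MvPolynomial.C : R →+* MvPolynomial (Fin n) R) ≤ q)
    (hinj : InjModAt (vmap R w) (vmap R v) (vmap R U) q (maximalIdeal R)) :
    InjModAt w v U (q.comap (MvPolynomial.map (algebraMap R' R))) (maximalIdeal R') := by
  rintro x ⟨g, hg, hmem⟩
  -- step 1: push to `R`
  have h1 : MvPolynomial.map (algebraMap R' R) g • Ut (vmap R U) (mapF n a (B' := R) x) ∈
      NB (vmap R v) ⊔ IF n (maximalIdeal R) b := by
    rw [← mapF_Ut, ← mapF_smul]
    exact mapF_mem_sup_IF (map_maximalIdeal_le (algebraMap R' R)) v hmem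
  obtain ⟨g1, hg1, hmem1⟩ := hinj (mapF n a (B' := R) x) ⟨_, hg, h1⟩
  -- step 2: reduce modulo the maximal ideal of `R`
  have hsurjR : Function.Surjective (algebraMap R (ResidueField R)) := by
    rw [ResidueField.algebraMap_eq]; exact residue_surjective
  have hkerR : RingHom.ker (algebraMap R (ResidueField R)) = maximalIdeal R := by
    rw [ResidueField.algebraMap_eq]; exact ker_residue
  have hsurjR' : Function.Surjective (algebraMap R' (ResidueField R')) := by
    rw [ResidueField.algebraMap_eq]; exact residue_surjective
  have hkerR' : RingHom.ker (algebraMap R' (ResidueField R')) = maximalIdeal R' := by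
    rw [ResidueField.algebraMap_eq]; exact ker_residue
  have h2 := (mapF_mem_NB_iff (Abar := ResidueField R) hsurjR _ hkerR (vmap R w) _).mpr hmem1
  rw [mapF_smul, mapF_mapF, show vmap (ResidueField R) (vmap R w) = vmap (ResidueField R) w from
    funext fun l => mapF_mapF _] at h2
  rw [← mapF_mapF (B' := ResidueField R') (B'' := ResidueField R) x,
    show vmap (ResidueField R) w = vmap (ResidueField R) (vmap (ResidueField R') w) from
    funext fun l => (mapF_mapF _).symm] at h2
  -- step 3: field extension
  set Q : Ideal (MvPolynomial (Fin n) (ResidueField R)) :=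
    q.map (MvPolynomial.map (algebraMap R (ResidueField R))) with hQ
  have hcomapQ : ∀ p : MvPolynomial (Fin n) R,
      MvPolynomial.map (algebraMap R (ResidueField R)) p ∈ Q → p ∈ q := by
    intro p hp
    have : p ∈ Q.comap (MvPolynomial.map (algebraMap R (ResidueField R))) := hp
    rw [hQ, Ideal.comap_map_of_surjective _ (MvPolynomial.map_surjective _ hsurjR)] at this
    have hle : Ideal.comap (MvPolynomial.map (σ := Fin n) (algebraMap R (ResidueField R))) ⊥ ≤ q := by
      rw [← RingHom.ker_eq_comap_bot, MvPolynomial.ker_map, hkerR]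
      exact hq
    exact (sup_le le_rfl hle) this
  obtain ⟨g'', hg'', hmem''⟩ := exists_of_field_ext (vmap (ResidueField R') w)
    (mapF n a (B' := ResidueField R') x) Q _ (fun h => hg1 (hcomapQ _ h)) h2
  -- step 4: lift to `R'`
  obtain ⟨gt, rfl⟩ := MvPolynomial.map_surjective (σ := Fin n) _ hsurjR' g''
  refine ⟨gt, ?_, ?_⟩
  · intro hgt
    apply hg''
    have : MvPolynomial.map (algebraMap (ResidueField R') (ResidueField R))
        (MvPolynomial.map (algebraMap R' (ResidueField R')) gt) =
        MvPolynomial.map (algebraMap R (ResidueField R))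
          (MvPolynomial.map (algebraMap R' R) gt) := by
      rw [MvPolynomial.map_map, MvPolynomial.map_map,
        ← IsScalarTower.algebraMap_eq, ← IsScalarTower.algebraMap_eq]
    rw [this]
    exact Ideal.mem_map_of_mem _ hgt
  · rw [← mapF_smul] at hmem''
    exact (mapF_mem_NB_iff (Abar := ResidueField R') hsurjR' _ hkerR' w _).mp hmem''

end Descend

section LocalStage

variable {R0 R : Type u} [CommRing R0] [CommRing R] [IsLocalRing R] [Algebra R0 R]

/-- the localization of a subalgebra of a local ring at the contraction of the maximal ideal. -/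
theorem exists_local_stage (B : Subalgebra R0 R) [IsNoetherianRing B] :
    ∃ (R' : Type u) (_ : CommRing R') (_ : IsLocalRing R') (_ : IsNoetherianRing R')
      (_ : Algebra R0 R') (_ : Algebra B R') (_ : Algebra R' R) (_ : IsScalarTower R0 B R')
      (_ : IsScalarTower B R' R) (_ : IsScalarTower R0 R' R), IsLocalHom (algebraMap R' R) := by
  let p : Ideal B := (IsLocalRing.maximalIdeal R).comap (algebraMap B R)
  haveI : p.IsPrime := Ideal.comap_isPrime _ _
  have hunits : ∀ y : p.primeCompl, IsUnit (algebraMap B R y) := fun y => by
    by_contra h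
    exact y.2 ((IsLocalRing.mem_maximalIdeal _).mpr h)
  letI : Algebra (Localization.AtPrime p) R := (IsLocalization.lift hunits).toAlgebra
  haveI : IsScalarTower B (Localization.AtPrime p) R :=
    IsScalarTower.of_algebraMap_eq (fun x => (IsLocalization.lift_eq hunits x).symm)
  haveI : IsScalarTower R0 (Localization.AtPrime p) R :=
    IsScalarTower.of_algebraMap_eq (fun x => by
      rw [IsScalarTower.algebraMap_apply R0 B R,
        IsScalarTower.algebraMap_apply R0 B (Localization.AtPrime p),
        ← IsScalarTower.algebraMap_apply B (Localization.AtPrime p) R])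
  refine ⟨Localization.AtPrime p, inferInstance, inferInstance, inferInstance, inferInstance,
    inferInstance, inferInstance, inferInstance, inferInstance, inferInstance, ?_⟩
  constructor
  intro z hz
  obtain ⟨⟨x, s⟩, rfl⟩ := IsLocalization.mk'_surjective p.primeCompl z
  rw [IsLocalization.AtPrime.isUnit_mk'_iff (Localization.AtPrime p) p]
  intro hx
  have h1 : algebraMap (Localization.AtPrime p) R (IsLocalization.mk' _ x s) * algebraMap B R s =
      algebraMap B R x := by
    rw [IsScalarTower.algebraMap_apply B (Localization.AtPrime p) R (s : B),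
      IsScalarTower.algebraMap_apply B (Localization.AtPrime p) R x, ← map_mul,
      IsLocalization.mk'_spec]
  have h2 : IsUnit (algebraMap B R x) := by
    rw [← h1]; exact hz.mul (hunits s)
  exact (IsLocalRing.mem_maximalIdeal _).mp hx h2

end LocalStage

end Groth.Agent.Lib.helper3.LocCrit
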