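import Mathlib
import Groth.Agent.Lib.Helper3.LocCrit3
import Groth.Agent.Lib.Helper3.FlatDescK
import Groth.Agent.Lib.Helper3.FlatDescG
/-!
# Non-Noetherian local criterion, part 4: the polynomial model case (helper3)

`top`: `R` a local ring, `q` a prime of `P = R[X₁..Xₙ]` over the maximal ideal, `ū : P^a/NB w →
P^b/NB v` the map of models induced by `U`.  If `(P^b/NB v)_q` is `R`-flat and `ū` is injective
modulo the maximal ideal at `q`, then `ū` is injective at `q` and `(P^b/NB (v ++ U))_q` (the
cokernel) is `R`-flat.  Proof: descent to Noetherian local subrings (`stage_local`).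
-/

set_option autoImplicit false
set_option linter.style.haveILetI false
universe u

open TensorProduct

namespace Groth.Agent.Lib.helper3.LocCrit

open Groth.Agent.Lib.helper3.FlatDesc

section Lifts

variable {R0 R : Type*} [CommRing R0] [CommRing R] [Algebra R0 R] {n : ℕ}

/-- finitely many polynomials are defined over a finitely generated subalgebra containing a given
one. -/
theorem exists_fg_lifts {ι : Type*} [Finite ι] (f : ι → MvPolynomial (Fin n) R)
    (B : Subalgebra R0 R) (hB : B.FG) :
    ∃ B' : Subalgebra R0 R, B ≤ B' ∧ B'.FG ∧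
      ∀ i, ∃ p' : MvPolynomial (Fin n) B', MvPolynomial.map (algebraMap B' R) p' = f i := by
  classical
  cases nonempty_fintype ι
  let S : Finset R := Finset.univ.biUnion fun i => (f i).coeffs
  refine ⟨B ⊔ Algebra.adjoin R0 (S : Set R), le_sup_left,
    hB.sup (Subalgebra.fg_adjoin_finset S), fun i => ?_⟩
  apply lift_of_coeffs_subset'
  intro x hx
  refine (le_sup_right : Algebra.adjoin R0 (S : Set R) ≤ _) (Algebra.subset_adjoin ?_)
  simp only [S, Finset.coe_biUnion, Set.mem_iUnion]
  exact ⟨i, by simp, hx⟩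

end Lifts

section Data

variable {R : Type u} [CommRing R] {n a b c d : ℕ}

/-- all the data is defined over a finitely generated `ℤ`-subalgebra. -/
theorem exists_model_data' (w : Fin d → (Fin a → MvPolynomial (Fin n) R))
    (v : Fin c → (Fin b → MvPolynomial (Fin n) R))
    (U : Fin a → (Fin b → MvPolynomial (Fin n) R)) (hc : Compat w v U) :
    ∃ R0 : Subalgebra ℤ R, R0.FG ∧
      ∃ (w0 : Fin d → (Fin a → MvPolynomial (Fin n) R0))
        (v0 : Fin c → (Fin b → MvPolynomial (Fin n) R0))
        (U0 : Fin a → (Fin b → MvPolynomial (Fin n) R0)),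
        vmap R w0 = w ∧ vmap R v0 = v ∧ vmap R U0 = U ∧ Compat w0 v0 U0 := by
  classical
  have hcert : ∀ j, ∃ cf : Fin c → MvPolynomial (Fin n) R, ∑ l, cf l • v l = Ut U (w j) :=
    fun j => (Submodule.mem_span_range_iff_exists_fun _).mp (hc j)
  choose cert hcert using hcert
  let f : (Fin d × Fin a) ⊕ ((Fin c × Fin b) ⊕ ((Fin a × Fin b) ⊕ (Fin d × Fin c))) →
      MvPolynomial (Fin n) R :=
    Sum.elim (fun p => w p.1 p.2) (Sum.elim (fun p => v p.1 p.2)
      (Sum.elim (fun p => U p.1 p.2) (fun p => cert p.1 p.2)))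
  obtain ⟨R0, -, hR0, hl⟩ := exists_fg_lifts (R0 := ℤ) f ⊥ Subalgebra.fg_bot
  have hw := fun j i => hl (Sum.inl (j, i))
  have hv := fun l i => hl (Sum.inr (Sum.inl (l, i)))
  have hU := fun i k => hl (Sum.inr (Sum.inr (Sum.inl (i, k))))
  have hce := fun j l => hl (Sum.inr (Sum.inr (Sum.inr (j, l))))
  choose w0 hw0 using hw
  choose v0 hv0 using hv
  choose U0 hU0 using hU
  choose cert0 hcert0 using hce
  have hwm : vmap R w0 = w := by funext j i; exact hw0 j i
  have hvm : vmap R v0 = v := by funext l i; exact hv0 l i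
  have hUm : vmap R U0 = U := by funext i k; exact hU0 i k
  refine ⟨R0, hR0, w0, v0, U0, hwm, hvm, hUm, ?_⟩
  intro j
  have hinj : Function.Injective (mapF n b (B := R0) (B' := R)) :=
    mapF_injective Subtype.val_injective
  have : Ut U0 (w0 j) = ∑ l, cert0 j l • v0 l := by
    apply hinj
    rw [mapF_Ut, hUm, show mapF n a (B' := R) (w0 j) = w j from congrFun hwm j, ← hcert j,
      map_sum]
    refine Finset.sum_congr rfl fun l _ => ?_
    rw [mapF_smul, hcert0]
    congr 1
    exact (congrFun hvm l).symm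
  rw [this]
  exact Submodule.sum_mem _ fun l _ => Submodule.smul_mem _ _ (Submodule.subset_span ⟨l, rfl⟩)

end Data

section Top

variable {R : Type u} [CommRing R] [IsLocalRing R] {n a b c d : ℕ}

/-- the Noetherian local stage attached to a finitely generated subalgebra `B' ⊇ B1`. -/
theorem stage_of_fg {R0 : Subalgebra ℤ R} (hR0 : R0.FG)
    (w0 : Fin d → (Fin a → MvPolynomial (Fin n) R0))
    (v0 : Fin c → (Fin b → MvPolynomial (Fin n) R0))
    (U0 : Fin a → (Fin b → MvPolynomial (Fin n) R0)) (hc0 : Compat w0 v0 U0)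
    (q : Ideal (MvPolynomial (Fin n) R)) [q.IsPrime]
    (hq : q.comap (MvPolynomial.C : R →+* MvPolynomial (Fin n) R) = IsLocalRing.maximalIdeal R)
    (hinj : InjModAt (vmap R w0) (vmap R v0) (vmap R U0) q (IsLocalRing.maximalIdeal R))
    (B1 : Subalgebra R0 R) (gB : MvPolynomial (Fin n) B1)
    (hgB : MvPolynomial.map (algebraMap B1 R) gB ∉ q)
    (hfl : ∀ (q' : Ideal (MvPolynomial (Fin n) B1)) [q'.IsPrime], gB ∉ q' →
      Module.Flat B1 (LocalizedModule q'.primeCompl
        ((Fin b → MvPolynomial (Fin n) B1) ⧸ NB (vmap B1 v0))))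
    (B' : Subalgebra R0 R) (hB' : B'.FG) (hle : B1 ≤ B') :
    ∃ (R' : Type u) (_ : CommRing R') (_ : Algebra R0 R') (_ : Algebra B' R') (_ : Algebra R' R)
      (_ : IsScalarTower R0 B' R') (_ : IsScalarTower B' R' R) (_ : IsScalarTower R0 R' R),
      InjAt (vmap R' w0) (vmap R' v0) (vmap R' U0)
        (q.comap (MvPolynomial.map (algebraMap R' R))) ∧
      Module.Flat R' (LocalizedModule (q.comap (MvPolynomial.map (algebraMap R' R))).primeCompl
        ((Fin b → MvPolynomial (Fin n) R') ⧸ NB (Fin.append (vmap R' v0) (vmap R' U0)))) := by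
  haveI : Algebra.FiniteType ℤ R0 := (Subalgebra.fg_iff_finiteType R0).mp hR0
  haveI : IsNoetherianRing R0 := Algebra.FiniteType.isNoetherianRing ℤ R0
  haveI : Algebra.FiniteType R0 B' := (Subalgebra.fg_iff_finiteType B').mp hB'
  haveI : IsNoetherianRing B' := Algebra.FiniteType.isNoetherianRing R0 B'
  obtain ⟨R', _, _, _, _, _, _, _, _, _, hloc⟩ := exists_local_stage B'
  haveI := hloc
  set q' := q.comap (MvPolynomial.map (algebraMap R' R)) with hq'def
  haveI : q'.IsPrime := Ideal.comap_isPrime _ _
  have hq'' : q'.comap (MvPolynomial.C : R' →+* MvPolynomial (Fin n) R') =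
      IsLocalRing.maximalIdeal R' := by
    rw [hq'def, Ideal.comap_comap, MvPolynomial.map_comp_C, ← Ideal.comap_comap, hq,
      IsLocalRing.maximalIdeal_comap]
  have hflatB' : Module.Flat B'
      (LocalizedModule (q'.comap (MvPolynomial.map (algebraMap B' R'))).primeCompl
        ((Fin b → MvPolynomial (Fin n) B') ⧸ NB (vmap B' v0))) := by
    haveI : (q'.comap (MvPolynomial.map (algebraMap B' R'))).IsPrime := Ideal.comap_isPrime _ _
    apply flat_at_of_le v0 hle gB hfl
    intro hmem
    apply hgB
    have : MvPolynomial.map (algebraMap R' R) (MvPolynomial.map (algebraMap B' R')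
        (MvPolynomial.map (Subalgebra.inclusion hle).toRingHom gB)) =
        MvPolynomial.map (algebraMap B1 R) gB := by
      have hcomp : ((algebraMap R' R).comp (algebraMap B' R')).comp
          (Subalgebra.inclusion hle).toRingHom = algebraMap B1 R := by
        ext x
        simp only [RingHom.coe_comp, Function.comp_apply]
        rw [← IsScalarTower.algebraMap_apply B' R' R]
        rfl
      rw [MvPolynomial.map_map, MvPolynomial.map_map, hcomp]
    rw [← this]
    exact hmem
  have hflatR' : Module.Flat R' (LocalizedModule q'.primeCompl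
      ((Fin b → MvPolynomial (Fin n) R') ⧸ NB (vmap R' v0))) := by
    have := flat_of_flat_comap (B := B') (R := R') (vmap B' v0) q' hflatB'
    rwa [vmap_vmap v0 B'] at this
  have hinj' : InjModAt (vmap R' w0) (vmap R' v0) (vmap R' U0) q' (IsLocalRing.maximalIdeal R') := by
    apply injModAt_descend
    · rw [Ideal.map_le_iff_le_comap, hq]
    · rw [vmap_vmap w0 R', vmap_vmap v0 R', vmap_vmap U0 R']
      exact hinj
  obtain ⟨h1, h2⟩ := stage_local (vmap R' w0) (vmap R' v0) (vmap R' U0) q' hc0.vmap hq'' hflatR'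
    hinj'
  exact ⟨R', inferInstance, inferInstance, inferInstance, inferInstance, inferInstance,
    inferInstance, inferInstance, h1, h2⟩

/-- **The non-Noetherian local criterion, polynomial model case.** -/
theorem top (w : Fin d → (Fin a → MvPolynomial (Fin n) R))
    (v : Fin c → (Fin b → MvPolynomial (Fin n) R))
    (U : Fin a → (Fin b → MvPolynomial (Fin n) R)) (hc : Compat w v U)
    (q : Ideal (MvPolynomial (Fin n) R)) [q.IsPrime]
    (hq : q.comap (MvPolynomial.C : R →+* MvPolynomial (Fin n) R) = IsLocalRing.maximalIdeal R)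
    (hflat : Module.Flat R (LocalizedModule q.primeCompl
      ((Fin b → MvPolynomial (Fin n) R) ⧸ NB v)))
    (hinj : InjModAt w v U q (IsLocalRing.maximalIdeal R)) :
    InjAt w v U q ∧ Module.Flat R (LocalizedModule q.primeCompl
      ((Fin b → MvPolynomial (Fin n) R) ⧸ NB (Fin.append v U))) := by
  obtain ⟨R0, hR0, w0, v0, U0, rfl, rfl, rfl, hc0⟩ := exists_model_data' w v U hc
  haveI : Algebra.FiniteType ℤ R0 := (Subalgebra.fg_iff_finiteType R0).mp hR0
  haveI : IsNoetherianRing R0 := Algebra.FiniteType.isNoetherianRing ℤ R0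
  obtain ⟨B1, hB1, gB, hgB, hfl⟩ := exists_fg_subalgebra_forall_flat v0 q hflat
  constructor
  · rintro x ⟨g, hg, hmem⟩
    obtain ⟨lam, hlam⟩ := (Submodule.mem_span_range_iff_exists_fun _).mp hmem
    let f : Fin a ⊕ (Unit ⊕ Fin c) → MvPolynomial (Fin n) R :=
      Sum.elim x (Sum.elim (fun _ => g) lam)
    obtain ⟨B', hle, hB', hl⟩ := exists_fg_lifts f B1 hB1
    have hx : ∀ i, ∃ p' : MvPolynomial (Fin n) B',
        MvPolynomial.map (algebraMap B' R) p' = x i := fun i => hl (Sum.inl i)
    have hg' : ∃ p' : MvPolynomial (Fin n) B',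
        MvPolynomial.map (algebraMap B' R) p' = g := hl (Sum.inr (Sum.inl ()))
    have hlam' : ∀ l, ∃ p' : MvPolynomial (Fin n) B',
        MvPolynomial.map (algebraMap B' R) p' = lam l := fun l => hl (Sum.inr (Sum.inr l))
    choose xB hxB using hx
    obtain ⟨gB', hgB'⟩ := hg'
    choose lamB hlamB using hlam'
    have hxB' : mapF n a (B' := R) xB = x := funext hxB
    have heqB : gB' • Ut (vmap B' U0) xB = ∑ l, lamB l • vmap B' v0 l := by
      apply mapF_injective (n := n) (b := b) (B := B') (B' := R) Subtype.val_injective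
      rw [mapF_smul, mapF_Ut, map_sum, vmap_vmap U0 B', hxB', hgB', ← hlam]
      refine Finset.sum_congr rfl fun l _ => ?_
      rw [mapF_smul, hlamB]
      congr 1
      exact (congrFun (vmap_vmap v0 B') l).symm
    obtain ⟨R', _, _, _, _, _, _, _, hI, -⟩ := stage_of_fg hR0 w0 v0 U0 hc0 q hq hinj B1 gB hgB hfl
      B' hB' hle
    have heqR' : MvPolynomial.map (algebraMap B' R') gB' •
        Ut (vmap R' U0) (mapF n a (B' := R') xB) =
        ∑ l, MvPolynomial.map (algebraMap B' R') (lamB l) • vmap R' v0 l := by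
      have := congrArg (mapF n b (B := B') (B' := R')) heqB
      rw [mapF_smul, mapF_Ut, map_sum, vmap_vmap U0 B'] at this
      rw [this]
      refine Finset.sum_congr rfl fun l _ => ?_
      rw [mapF_smul]
      congr 1
      exact congrFun (vmap_vmap v0 B') l
    obtain ⟨g'', hg'', hmem''⟩ := hI (mapF n a (B' := R') xB)
      ⟨MvPolynomial.map (algebraMap B' R') gB', by
        intro h
        apply hg
        rw [← hgB']
        have : MvPolynomial.map (algebraMap R' R) (MvPolynomial.map (algebraMap B' R') gB') =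
            MvPolynomial.map (algebraMap B' R) gB' := by
          rw [MvPolynomial.map_map, ← IsScalarTower.algebraMap_eq]
        rw [← this]
        exact h, by
        rw [heqR']
        exact Submodule.sum_mem _ fun l _ =>
          Submodule.smul_mem _ _ (Submodule.subset_span ⟨l, rfl⟩)⟩
    refine ⟨MvPolynomial.map (algebraMap R' R) g'', hg'', ?_⟩
    have := mapF_mem_NB (B' := R) (vmap R' w0) hmem''
    rw [mapF_smul, mapF_mapF, vmap_vmap w0 R', hxB'] at this
    exact this
  · obtain ⟨R', _, _, _, _, _, _, _, -, hF⟩ := stage_of_fg hR0 w0 v0 U0 hc0 q hq hinj B1 gB hgB hfl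
      B1 hB1 le_rfl
    have := flat_of_flat_comap (B := R') (R := R) (Fin.append (vmap R' v0) (vmap R' U0)) q hF
    rwa [vmap_append, vmap_vmap v0 R', vmap_vmap U0 R'] at this

end Top

end Groth.Agent.Lib.helper3.LocCrit
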