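import Mathlib
import Groth.Agent.Lib.Helper3.LocCrit4
/-!
# Non-Noetherian local criterion, part 5: polynomial models of finitely presented modules over
local rings essentially of finite presentation (helper3)

`P = R[X₁..Xₙ]`, `S` a `P`-algebra, `q` a prime of `P`, `J ⊆ ker (P → S)` a finitely generated ideal,
such that elements outside `q` become units of `S`, every element of `S` is a fraction `φ p / φ g`
with `g ∉ q`, and the kernel of `P → S` is `J` up to multiplication by elements outside `q`
(`LocPres`).  Then every finitely presented `S`-module `M` is the localization at `q` of a model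
`P^a / NB w` (`exists_model`).
-/

set_option autoImplicit false
set_option linter.style.haveILetI false
universe u

open TensorProduct

namespace Groth.Agent.Lib.helper3.LocCrit

open Groth.Agent.Lib.helper3.FlatDesc

section LocPres

variable {P S : Type*} [CommRing P] [CommRing S] [Algebra P S]

/-- `S` is, locally at `q`, the quotient of `P_q` by the finitely generated ideal `J`. -/
structure LocPres (q J : Ideal P) : Prop where
  units : ∀ g, g ∉ q → IsUnit (algebraMap P S g)
  surj : ∀ s : S, ∃ p g, g ∉ q ∧ s * algebraMap P S g = algebraMap P S p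
  ker : ∀ c, algebraMap P S c = 0 → ∃ g, g ∉ q ∧ g * c ∈ J
  le : J ≤ RingHom.ker (algebraMap P S)
  fg : J.FG

variable {q J : Ideal P} [q.IsPrime]

theorem LocPres.exists_common_den (h : LocPres (S := S) q J) {K : Type*} [Fintype K]
    (s : K → S) : ∃ G, G ∉ q ∧ ∀ k, ∃ p, s k * algebraMap P S G = algebraMap P S p := by
  classical
  choose pp gg hgg heq using fun k => h.surj (s k)
  refine ⟨∏ k, gg k, ?_, fun k => ⟨pp k * ∏ k' ∈ Finset.univ.erase k, gg k', ?_⟩⟩
  · intro hmem
    obtain ⟨k, -, hk⟩ := Ideal.IsPrime.prod_mem_iff.mp hmem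
    exact hgg k hk
  · rw [← Finset.mul_prod_erase Finset.univ gg (Finset.mem_univ k), map_mul, map_mul, ← mul_assoc,
      heq k]

theorem LocPres.exists_common_mul (h : LocPres (S := S) q J) {K : Type*} [Fintype K]
    (c : K → P) (hc : ∀ k, algebraMap P S (c k) = 0) : ∃ H, H ∉ q ∧ ∀ k, H * c k ∈ J := by
  classical
  choose hh hhq hhJ using fun k => h.ker (c k) (hc k)
  refine ⟨∏ k, hh k, ?_, fun k => ?_⟩
  · intro hmem
    obtain ⟨k, -, hk⟩ := Ideal.IsPrime.prod_mem_iff.mp hmem
    exact hhq k hk
  · rw [← Finset.mul_prod_erase Finset.univ hh (Finset.mem_univ k), mul_right_comm]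
    exact Ideal.mul_mem_right _ _ (hhJ k)

theorem LocPres.isUnit_end (h : LocPres (S := S) q J) {X : Type*} [AddCommGroup X] [Module S X]
    [Module P X] [IsScalarTower P S X] (t : q.primeCompl) :
    IsUnit (algebraMap P (Module.End P X) t) := by
  obtain ⟨s', hs'⟩ := (h.units t t.2).exists_right_inv
  rw [Module.End.isUnit_iff]
  constructor
  · intro m1 m2 hm
    simp only [Module.algebraMap_end_apply] at hm
    have := congrArg (fun z => s' • z) hm
    beta_reduce at this
    rwa [← algebraMap_smul S (t : P) m1, ← algebraMap_smul S (t : P) m2, smul_smul, smul_smul,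
      mul_comm, hs', one_smul, one_smul] at this
  · intro m
    refine ⟨s' • m, ?_⟩
    rw [Module.algebraMap_end_apply, ← algebraMap_smul S (t : P), smul_smul, hs', one_smul]

end LocPres

section Model

variable {R : Type u} [CommRing R] {n : ℕ} {S : Type u} [CommRing S]
  [Algebra (MvPolynomial (Fin n) R) S] {q J : Ideal (MvPolynomial (Fin n) R)} [q.IsPrime]

theorem smul_single_mem_span {e : ℕ} (fgen : Fin e → MvPolynomial (Fin n) R) {a : ℕ} (i : Fin a)
    {r : MvPolynomial (Fin n) R} (hr : r ∈ Ideal.span (Set.range fgen)) :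
    (Pi.single i r : Fin a → MvPolynomial (Fin n) R) ∈
      Submodule.span (MvPolynomial (Fin n) R)
        (Set.range fun p : Fin e × Fin a => (Pi.single p.2 (fgen p.1) :
          Fin a → MvPolynomial (Fin n) R)) := by
  have : (Pi.single i r : Fin a → MvPolynomial (Fin n) R) =
      (LinearMap.single (MvPolynomial (Fin n) R) (fun _ : Fin a => MvPolynomial (Fin n) R) i) r :=
    rfl
  rw [this]
  have hmap := Submodule.mem_map_of_mem
    (f := LinearMap.single (MvPolynomial (Fin n) R) (fun _ : Fin a => MvPolynomial (Fin n) R) i) hr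
  rw [Ideal.span, Submodule.map_span] at hmap
  refine Submodule.span_mono ?_ hmap
  rintro _ ⟨_, ⟨l, rfl⟩, rfl⟩
  exact ⟨(l, i), rfl⟩

/-- **Polynomial models of finitely presented modules.** -/
theorem exists_model (h : LocPres (S := S) q J) (M : Type u) [AddCommGroup M] [Module S M]
    [Module (MvPolynomial (Fin n) R) M] [IsScalarTower (MvPolynomial (Fin n) R) S M]
    [Module.FinitePresentation S M] :
    ∃ (a d : ℕ) (w : Fin d → (Fin a → MvPolynomial (Fin n) R))
      (f : ((Fin a → MvPolynomial (Fin n) R) ⧸ NB w) →ₗ[MvPolynomial (Fin n) R] M),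
      IsLocalizedModule q.primeCompl f := by
  classical
  obtain ⟨a, d₀, fM, gM, hfM, hex⟩ := Module.FinitePresentation.exists_fin' S M
  set φ := algebraMap (MvPolynomial (Fin n) R) S with hφ
  let rel : Fin d₀ → (Fin a → S) := fun j => gM fun j' => if j = j' then 1 else 0
  have hgM : ∀ c : Fin d₀ → S, gM c = ∑ j, c j • rel j := fun c =>
    LinearMap.pi_apply_eq_sum_univ gM c
  -- common denominator for the relations
  obtain ⟨G1, hG1, hwt⟩ := h.exists_common_den (fun p : Fin d₀ × Fin a => rel p.1 p.2)
  choose wt' hwt' using hwt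
  let wt : Fin d₀ → (Fin a → MvPolynomial (Fin n) R) := fun j i => wt' (j, i)
  have hwt2 : ∀ j, (fun i => φ (wt j i)) = φ G1 • rel j := by
    intro j
    funext i
    rw [Pi.smul_apply, smul_eq_mul, mul_comm]
    exact (hwt' (j, i)).symm
  obtain ⟨e, fgen, hfgen⟩ := Submodule.fg_iff_exists_fin_generating_family.mp h.fg
  let W : (Fin d₀ ⊕ (Fin e × Fin a)) → (Fin a → MvPolynomial (Fin n) R) :=
    Sum.elim wt (fun p => Pi.single p.2 (fgen p.1))
  let eqv := Fintype.equivFin (Fin d₀ ⊕ (Fin e × Fin a))
  let w : Fin (Fintype.card (Fin d₀ ⊕ (Fin e × Fin a))) → (Fin a → MvPolynomial (Fin n) R) :=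
    W ∘ eqv.symm
  have hrange : Set.range w = Set.range W := eqv.symm.surjective.range_comp W
  have hNB : NB w = Submodule.span _ (Set.range wt) ⊔ Submodule.span _
      (Set.range fun p : Fin e × Fin a => (Pi.single p.2 (fgen p.1) :
        Fin a → MvPolynomial (Fin n) R)) := by
    rw [NB, hrange, Set.Sum.elim_range, Submodule.span_union]
  -- the map
  let F : (Fin a → MvPolynomial (Fin n) R) →ₗ[MvPolynomial (Fin n) R] M :=
    (fM.restrictScalars (MvPolynomial (Fin n) R)) ∘ₗ
      (Algebra.linearMap (MvPolynomial (Fin n) R) S).compLeft (Fin a)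
  have hF : ∀ x, F x = fM fun i => φ (x i) := fun x => rfl
  have hFwt : ∀ j, F (wt j) = 0 := by
    intro j
    rw [hF, hwt2, map_smul]
    have : fM (rel j) = 0 := (hex _).mpr ⟨_, rfl⟩
    rw [this, smul_zero]
  have hFgen : ∀ p : Fin e × Fin a, F (Pi.single p.2 (fgen p.1)) = 0 := by
    intro p
    have : (Pi.single p.2 (fgen p.1) : Fin a → MvPolynomial (Fin n) R) =
        fgen p.1 • Pi.single p.2 1 := by
      rw [← Pi.single_smul, smul_eq_mul, mul_one]
    rw [this, map_smul, ← algebraMap_smul S]
    have : algebraMap (MvPolynomial (Fin n) R) S (fgen p.1) = 0 :=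
      h.le (hfgen ▸ Submodule.subset_span ⟨p.1, rfl⟩)
    rw [this, zero_smul]
  have hle : NB w ≤ LinearMap.ker F := by
    rw [hNB, sup_le_iff, Submodule.span_le, Submodule.span_le]
    constructor
    · rintro _ ⟨j, rfl⟩; exact hFwt j
    · rintro _ ⟨p, rfl⟩; exact hFgen p
  refine ⟨a, _, w, Submodule.liftQ (NB w) F hle, ?_⟩
  -- the kernel statement
  have hkey : ∀ z : Fin a → MvPolynomial (Fin n) R, F z = 0 → ∃ t, t ∉ q ∧ t • z ∈ NB w := by
    intro z hz
    rw [hF] at hz
    obtain ⟨c, hc⟩ := (hex _).mp hz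
    rw [hgM] at hc
    obtain ⟨G3, hG3, hcc⟩ := h.exists_common_den c
    choose cc hcc using hcc
    set y' : Fin a → MvPolynomial (Fin n) R := (G3 * G1) • z - ∑ j, cc j • wt j with hy'
    have hy'0 : ∀ i, φ (y' i) = 0 := by
      intro i
      have h1 : (fun i => φ (y' i)) = 0 := by
        have : (fun i => φ (y' i)) = (φ G3 * φ G1) • (fun i => φ (z i)) -
            ∑ j, φ (cc j) • (fun i => φ (wt j i)) := by
          funext i
          simp only [hy', Pi.sub_apply, Pi.smul_apply, Finset.sum_apply, smul_eq_mul, map_sub,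
            map_mul, map_sum]
        rw [this, ← hc, Finset.smul_sum, sub_eq_zero]
        refine Finset.sum_congr rfl fun j _ => ?_
        rw [hwt2, smul_smul, smul_smul, ← hcc j]
        congr 1
        ring
      exact congrFun h1 i
    obtain ⟨H, hH, hHJ⟩ := h.exists_common_mul y' hy'0
    refine ⟨H * (G3 * G1), ?_, ?_⟩
    · intro hmem
      rcases (inferInstance : q.IsPrime).mem_or_mem hmem with h1 | h1
      · exact hH h1
      · rcases (inferInstance : q.IsPrime).mem_or_mem h1 with h2 | h2
        · exact hG3 h2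
        · exact hG1 h2
    · have h1 : H • y' ∈ NB w := by
        rw [pi_eq_sum_univ (H • y')]
        refine Submodule.sum_mem _ fun i _ => ?_
        have : ((H • y') i • fun j => if i = j then (1 : MvPolynomial (Fin n) R) else 0) =
            Pi.single i (H * y' i) := by
          funext j
          simp only [Pi.smul_apply, smul_eq_mul, Pi.single_apply]
          by_cases hij : i = j
          · subst hij; simp
          · simp [hij, Ne.symm hij]
        rw [this, hNB]
        refine Submodule.mem_sup_right (smul_single_mem_span fgen i ?_)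
        rw [Ideal.span, hfgen]
        exact hHJ i
      have h2 : H • ∑ j, cc j • wt j ∈ NB w := by
        refine Submodule.smul_mem _ _ (Submodule.sum_mem _ fun j _ => Submodule.smul_mem _ _ ?_)
        rw [hNB]
        exact Submodule.mem_sup_left (Submodule.subset_span ⟨j, rfl⟩)
      have : (H * (G3 * G1)) • z = H • y' + H • ∑ j, cc j • wt j := by
        rw [hy', ← smul_add, sub_add_cancel, mul_smul]
      rw [this]
      exact Submodule.add_mem _ h1 h2
  refine ⟨fun t => h.isUnit_end t, ?_, ?_⟩
  · intro m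
    obtain ⟨y, rfl⟩ := hfM m
    obtain ⟨G2, hG2, hxx⟩ := h.exists_common_den y
    choose xx hxx using hxx
    refine ⟨⟨Submodule.Quotient.mk xx, ⟨G2, hG2⟩⟩, ?_⟩
    show G2 • fM y = Submodule.liftQ (NB w) F hle (Submodule.Quotient.mk xx)
    rw [Submodule.liftQ_apply, hF, ← algebraMap_smul S G2, ← map_smul]
    congr 1
    funext i
    rw [Pi.smul_apply, smul_eq_mul, mul_comm]
    exact hxx i
  · intro x1 x2 hx
    obtain ⟨y1, rfl⟩ := Submodule.Quotient.mk_surjective _ x1
    obtain ⟨y2, rfl⟩ := Submodule.Quotient.mk_surjective _ x2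
    rw [Submodule.liftQ_apply, Submodule.liftQ_apply, ← sub_eq_zero, ← map_sub] at hx
    obtain ⟨t, ht, hmem⟩ := hkey _ hx
    refine ⟨⟨t, ht⟩, ?_⟩
    show t • (Submodule.Quotient.mk y1 : _ ⧸ NB w) = t • Submodule.Quotient.mk y2
    rw [← Submodule.Quotient.mk_smul, ← Submodule.Quotient.mk_smul, Submodule.Quotient.eq,
      ← smul_sub]
    exact hmem

end Model

end Groth.Agent.Lib.helper3.LocCrit
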