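import Mathlib
import Groth.Agent.Lib.Helper3.LocCrit5
/-!
# Non-Noetherian local criterion of flatness for maps of finitely presented modules (helper3)

`injective_and_flat_coker` (Stacks 046Y, EGA IV 11.3.7): `R → S` a local homomorphism of local rings
with `S` essentially of finite presentation over `R`, `u : M → N` a map of finitely presented
`S`-modules with `N` flat over `R`.  If `u` is injective modulo `𝔪_R`, then `u` is injective and its
cokernel is flat over `R`.
-/

set_option autoImplicit false
set_option linter.style.haveILetI false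
universe u

open TensorProduct

namespace Groth.Agent.Lib.helper3.LocCrit

open Groth.Agent.Lib.helper3.FlatDesc

section Lift

variable {R : Type u} [CommRing R] {n : ℕ} {S : Type u} [CommRing S]
  [Algebra (MvPolynomial (Fin n) R) S] {q : Ideal (MvPolynomial (Fin n) R)} [q.IsPrime]
  {M N : Type u} [AddCommGroup M] [Module S M] [Module (MvPolynomial (Fin n) R) M]
  [IsScalarTower (MvPolynomial (Fin n) R) S M]
  [AddCommGroup N] [Module S N] [Module (MvPolynomial (Fin n) R) N]
  [IsScalarTower (MvPolynomial (Fin n) R) S N]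
  {a d b c : ℕ} (w : Fin d → (Fin a → MvPolynomial (Fin n) R))
  (v : Fin c → (Fin b → MvPolynomial (Fin n) R))
  (fM : ((Fin a → MvPolynomial (Fin n) R) ⧸ NB w) →ₗ[MvPolynomial (Fin n) R] M)
  (fN : ((Fin b → MvPolynomial (Fin n) R) ⧸ NB v) →ₗ[MvPolynomial (Fin n) R] N)
  [IsLocalizedModule q.primeCompl fN] (u : M →ₗ[S] N)

/-- lifting `u` to a map of models, up to a unit. -/
theorem exists_lift :
    ∃ (U : Fin a → (Fin b → MvPolynomial (Fin n) R)) (s : MvPolynomial (Fin n) R),
      s ∉ q ∧ Compat w v U ∧ ∀ x : Fin a → MvPolynomial (Fin n) R,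
        fN (Submodule.Quotient.mk (Ut U x)) = s • u (fM (Submodule.Quotient.mk x)) := by
  classical
  haveI : Module.FinitePresentation (MvPolynomial (Fin n) R)
      ((Fin a → MvPolynomial (Fin n) R) ⧸ NB w) :=
    Module.finitePresentation_of_surjective (NB w).mkQ (Submodule.mkQ_surjective _) (by
      rw [Submodule.ker_mkQ]; exact Submodule.fg_span (Set.finite_range w))
  obtain ⟨h, s, hs⟩ := Module.FinitePresentation.exists_lift_of_isLocalizedModule q.primeCompl fN
    ((u.restrictScalars (MvPolynomial (Fin n) R)) ∘ₗ fM)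
  choose U hU using fun i => Submodule.Quotient.mk_surjective (NB v)
    (h (Submodule.Quotient.mk (Pi.single i 1)))
  have hhU : ∀ x, h (Submodule.Quotient.mk x) = Submodule.Quotient.mk (Ut U x) := by
    intro x
    have : h ∘ₗ (NB w).mkQ = (NB v).mkQ ∘ₗ Ut U := by
      apply LinearMap.pi_ext'
      intro i
      ext
      simp only [LinearMap.coe_comp, LinearMap.coe_single, Function.comp_apply,
        Submodule.mkQ_apply, Ut, Fintype.linearCombination_apply_single, one_smul]
      exact (hU i).symm
    exact LinearMap.congr_fun this x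
  refine ⟨U, s, s.2, ?_, ?_⟩
  · intro j
    have h0 : (Submodule.Quotient.mk (w j) : _ ⧸ NB w) = 0 :=
      (Submodule.Quotient.mk_eq_zero _).mpr (Submodule.subset_span ⟨j, rfl⟩)
    rw [← Submodule.Quotient.mk_eq_zero, ← hhU, h0, map_zero]
  · intro x
    rw [← hhU]
    exact LinearMap.congr_fun hs (Submodule.Quotient.mk x)

end Lift

section Core

variable {R : Type u} [CommRing R] [IsLocalRing R] {n : ℕ} {S : Type u} [CommRing S] [Algebra R S]
  [Algebra (MvPolynomial (Fin n) R) S] [IsScalarTower R (MvPolynomial (Fin n) R) S]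
  {q J : Ideal (MvPolynomial (Fin n) R)} [q.IsPrime]
  {M N : Type u} [AddCommGroup M] [Module S M] [Module R M] [IsScalarTower R S M]
  [Module (MvPolynomial (Fin n) R) M] [IsScalarTower (MvPolynomial (Fin n) R) S M]
  [AddCommGroup N] [Module S N] [Module R N] [IsScalarTower R S N]
  [Module (MvPolynomial (Fin n) R) N] [IsScalarTower (MvPolynomial (Fin n) R) S N]

omit [IsLocalRing R] [q.IsPrime] in
theorem isScalarTower_of_tower (X : Type*) [AddCommGroup X] [Module S X] [Module R X]
    [IsScalarTower R S X] [Module (MvPolynomial (Fin n) R) X]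
    [IsScalarTower (MvPolynomial (Fin n) R) S X] : IsScalarTower R (MvPolynomial (Fin n) R) X :=
  IsScalarTower.of_algebraMap_smul (fun r m => by
    rw [← algebraMap_smul S (algebraMap R (MvPolynomial (Fin n) R) r) m,
      ← IsScalarTower.algebraMap_apply R (MvPolynomial (Fin n) R) S, algebraMap_smul])

omit [IsLocalRing R] [q.IsPrime] [Module R N] [IsScalarTower R S N] in
/-- elements of `NB v ⊔ I F` map into `I S · N`. -/
theorem map_mem_smul_top {b c : ℕ} (v : Fin c → (Fin b → MvPolynomial (Fin n) R))
    (fN : ((Fin b → MvPolynomial (Fin n) R) ⧸ NB v) →ₗ[MvPolynomial (Fin n) R] N) (I : Ideal R)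
    {y : Fin b → MvPolynomial (Fin n) R} (hy : y ∈ NB v ⊔ IF n I b) :
    fN (Submodule.Quotient.mk y) ∈ (I.map (algebraMap R S)) • (⊤ : Submodule S N) := by
  obtain ⟨y1, hy1, y2, hy2, rfl⟩ := Submodule.mem_sup.mp hy
  rw [Submodule.Quotient.mk_add, (Submodule.Quotient.mk_eq_zero _).mpr hy1, zero_add]
  refine Submodule.smul_induction_on hy2 ?_ ?_
  · intro r hr z _
    rw [Submodule.Quotient.mk_smul, map_smul, ← algebraMap_smul S r]
    refine Submodule.smul_mem_smul ?_ trivial
    have h1 := Ideal.mem_map_of_mem (algebraMap (MvPolynomial (Fin n) R) S) hr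
    rwa [Ideal.map_map, ← MvPolynomial.algebraMap_eq, ← IsScalarTower.algebraMap_eq] at h1
  · intro x y hx hy
    rw [Submodule.Quotient.mk_add, map_add]
    exact Submodule.add_mem _ hx hy

omit [IsLocalRing R] [Module R M] [IsScalarTower R S M] in
/-- membership in `I S · M` is detected on the model, up to elements outside `q`. -/
theorem exists_smul_mem_of_map_mem {a d : ℕ} (w : Fin d → (Fin a → MvPolynomial (Fin n) R))
    (fM : ((Fin a → MvPolynomial (Fin n) R) ⧸ NB w) →ₗ[MvPolynomial (Fin n) R] M)
    [IsLocalizedModule q.primeCompl fM] (I : Ideal R) (x : Fin a → MvPolynomial (Fin n) R)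
    (hx : fM (Submodule.Quotient.mk x) ∈ (I.map (algebraMap R S)) • (⊤ : Submodule S M)) :
    ∃ t, t ∉ q ∧ t • x ∈ NB w ⊔ IF n I a := by
  have hI : I.map (algebraMap R S) =
      (I.map (MvPolynomial.C : R →+* MvPolynomial (Fin n) R)).map
        (algebraMap (MvPolynomial (Fin n) R) S) := by
    rw [Ideal.map_map, ← MvPolynomial.algebraMap_eq, ← IsScalarTower.algebraMap_eq]
  rw [hI, ← smul_top_iff (R := MvPolynomial (Fin n) R) (S := S),
    ← Submodule.localized₀_top q.primeCompl fM, ← Submodule.localized₀_smul,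
    Submodule.mem_localized₀] at hx
  obtain ⟨y, hy, t, hyt⟩ := hx
  rw [IsLocalizedModule.mk'_eq_iff] at hyt
  have hyt' : fM y = fM ((t : MvPolynomial (Fin n) R) • Submodule.Quotient.mk x) := by
    rw [map_smul]; exact hyt
  obtain ⟨c, hc⟩ := IsLocalizedModule.exists_of_eq (S := q.primeCompl) hyt'
  refine ⟨(c : MvPolynomial (Fin n) R) * (t : MvPolynomial (Fin n) R), (c * t).2, ?_⟩
  have h2 : ((c : MvPolynomial (Fin n) R) * (t : MvPolynomial (Fin n) R)) •
      (Submodule.Quotient.mk x : _ ⧸ NB w) ∈
      (I.map (MvPolynomial.C : R →+* MvPolynomial (Fin n) R)) •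
        (⊤ : Submodule (MvPolynomial (Fin n) R) ((Fin a → MvPolynomial (Fin n) R) ⧸ NB w)) := by
    have : ((c : MvPolynomial (Fin n) R) * (t : MvPolynomial (Fin n) R)) •
        (Submodule.Quotient.mk x : _ ⧸ NB w) = (c : MvPolynomial (Fin n) R) • y := by
      rw [mul_smul]
      exact hc.symm
    rw [this]
    exact Submodule.smul_mem _ _ hy
  rwa [← Submodule.Quotient.mk_smul, quot_mk_mem_smul_top] at h2

omit [Module R M] [IsScalarTower R S M] in
/-- **The non-Noetherian local criterion**, with a chosen local presentation. -/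
theorem core (hLP : LocPres (S := S) q J)
    (hq : q.comap (MvPolynomial.C : R →+* MvPolynomial (Fin n) R) = IsLocalRing.maximalIdeal R)
    [Module.FinitePresentation S M] [Module.FinitePresentation S N] [Module.Flat R N]
    (u : M →ₗ[S] N)
    (hu : ∀ x : M, u x ∈ (IsLocalRing.maximalIdeal R).map (algebraMap R S) • (⊤ : Submodule S N) →
      x ∈ (IsLocalRing.maximalIdeal R).map (algebraMap R S) • (⊤ : Submodule S M)) :
    Function.Injective u ∧ Module.Flat R (N ⧸ LinearMap.range u) := by
  haveI := isScalarTower_of_tower (R := R) (n := n) (S := S) N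
  haveI := isScalarTower_of_tower (R := R) (n := n) (S := S) (N ⧸ LinearMap.range u)
  obtain ⟨a, d, w, fM, hfM⟩ := exists_model hLP M
  obtain ⟨b, c, v, fN, hfN⟩ := exists_model hLP N
  obtain ⟨U, s, hs, hcompat, hlift⟩ := exists_lift (q := q) w v fM fN u
  have hinjT : ∀ (X : Type u) [AddCommGroup X] [Module S X] [Module (MvPolynomial (Fin n) R) X]
      [IsScalarTower (MvPolynomial (Fin n) R) S X] (t : MvPolynomial (Fin n) R), t ∉ q →
      ∀ m : X, t • m = 0 → m = 0 := by
    intro X _ _ _ _ t ht m hm
    have := ((Module.End.isUnit_iff _).mp (hLP.isUnit_end (X := X) ⟨t, ht⟩)).1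
    apply this
    simp only [Module.algebraMap_end_apply, smul_zero]
    exact hm
  have hflat : Module.Flat R (LocalizedModule q.primeCompl
      ((Fin b → MvPolynomial (Fin n) R) ⧸ NB v)) :=
    Module.Flat.of_linearEquiv ((IsLocalizedModule.iso q.primeCompl fN).restrictScalars R)
  have hinjmod : InjModAt w v U q (IsLocalRing.maximalIdeal R) := by
    rintro x ⟨g, hg, hmem⟩
    have h1 := map_mem_smul_top (S := S) v fN (IsLocalRing.maximalIdeal R) hmem
    rw [Submodule.Quotient.mk_smul, map_smul, hlift, ← algebraMap_smul S g,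
      ← algebraMap_smul S s, smul_smul] at h1
    have hunit : IsUnit (algebraMap (MvPolynomial (Fin n) R) S g *
        algebraMap (MvPolynomial (Fin n) R) S s) := (hLP.units g hg).mul (hLP.units s hs)
    obtain ⟨s', hs'⟩ := hunit.exists_left_inv
    have h2 := Submodule.smul_mem _ s' h1
    rw [smul_smul, hs', one_smul] at h2
    exact exists_smul_mem_of_map_mem (S := S) w fM _ x (hu _ h2)
  obtain ⟨hInj, hFlat⟩ := top w v U hcompat q hq hflat hinjmod
  constructor
  · rw [injective_iff_map_eq_zero]
    intro m hm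
    obtain ⟨⟨xb, t⟩, hxt⟩ := IsLocalizedModule.surj q.primeCompl fM m
    obtain ⟨x, rfl⟩ := Submodule.Quotient.mk_surjective _ xb
    have hxt' : (t : MvPolynomial (Fin n) R) • m = fM (Submodule.Quotient.mk x) := hxt
    have h1 : fN (Submodule.Quotient.mk (Ut U x)) = 0 := by
      rw [hlift, ← hxt', ← algebraMap_smul S (t : MvPolynomial (Fin n) R), map_smul, hm,
        smul_zero, smul_zero]
    obtain ⟨t', ht'⟩ := (IsLocalizedModule.eq_zero_iff q.primeCompl fN).mp h1
    have ht'' : (t' : MvPolynomial (Fin n) R) • (Submodule.Quotient.mk (Ut U x) : _ ⧸ NB v) = 0 :=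
      ht'
    rw [← Submodule.Quotient.mk_smul, Submodule.Quotient.mk_eq_zero] at ht''
    obtain ⟨g, hg, hgx⟩ := hInj x ⟨t', t'.2, ht''⟩
    have h2 : fM (Submodule.Quotient.mk x) = 0 := by
      apply hinjT M g hg
      rw [← map_smul, ← Submodule.Quotient.mk_smul,
        (Submodule.Quotient.mk_eq_zero _).mpr hgx, map_zero]
    exact hinjT M t t.2 m (hxt'.trans h2)
  · -- the cokernel is the localization of the cokernel model
    let G0 : (Fin b → MvPolynomial (Fin n) R) →ₗ[MvPolynomial (Fin n) R] (N ⧸ LinearMap.range u) :=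
      ((LinearMap.range u).mkQ.restrictScalars (MvPolynomial (Fin n) R)) ∘ₗ fN ∘ₗ (NB v).mkQ
    have hG0 : ∀ y, G0 y = Submodule.Quotient.mk (fN (Submodule.Quotient.mk y)) := fun y => rfl
    have hsmul_range : ∀ (p : MvPolynomial (Fin n) R) (z : N), z ∈ LinearMap.range u →
        p • z ∈ LinearMap.range u := by
      intro p z hz
      rw [← algebraMap_smul S p]
      exact Submodule.smul_mem _ _ hz
    have hle : NB (Fin.append v U) ≤ LinearMap.ker G0 := by
      rw [NB_append, sup_le_iff]
      constructor
      · intro y hy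
        rw [LinearMap.mem_ker, hG0, (Submodule.Quotient.mk_eq_zero _).mpr hy, map_zero,
          Submodule.Quotient.mk_zero]
      · rintro _ ⟨x, rfl⟩
        rw [LinearMap.mem_ker, hG0, hlift, Submodule.Quotient.mk_eq_zero]
        exact hsmul_range s _ ⟨_, rfl⟩
    let G := Submodule.liftQ (NB (Fin.append v U)) G0 hle
    have hG : ∀ y, G (Submodule.Quotient.mk y) =
        Submodule.Quotient.mk (fN (Submodule.Quotient.mk y)) := fun y => rfl
    haveI : IsLocalizedModule q.primeCompl G := by
      refine ⟨fun t => hLP.isUnit_end t, ?_, ?_⟩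
      · intro y
        obtain ⟨z, rfl⟩ := Submodule.Quotient.mk_surjective _ y
        obtain ⟨⟨xb, t⟩, hxt⟩ := IsLocalizedModule.surj q.primeCompl fN z
        obtain ⟨x, rfl⟩ := Submodule.Quotient.mk_surjective _ xb
        refine ⟨⟨Submodule.Quotient.mk x, t⟩, ?_⟩
        have hxt' : (t : MvPolynomial (Fin n) R) • z = fN (Submodule.Quotient.mk x) := hxt
        show (t : MvPolynomial (Fin n) R) • (Submodule.Quotient.mk z : N ⧸ LinearMap.range u) = _
        rw [hG, ← hxt']
        rfl
      · intro x1 x2 hx
        obtain ⟨y1, rfl⟩ := Submodule.Quotient.mk_surjective _ x1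
        obtain ⟨y2, rfl⟩ := Submodule.Quotient.mk_surjective _ x2
        rw [hG, hG, Submodule.Quotient.eq, ← map_sub, ← Submodule.Quotient.mk_sub] at hx
        obtain ⟨m, hm⟩ := hx
        obtain ⟨⟨xb, t⟩, hxt⟩ := IsLocalizedModule.surj q.primeCompl fM m
        obtain ⟨x, rfl⟩ := Submodule.Quotient.mk_surjective _ xb
        have hxt' : (t : MvPolynomial (Fin n) R) • m = fM (Submodule.Quotient.mk x) := hxt
        have h1 : fN (Submodule.Quotient.mk ((s * (t : MvPolynomial (Fin n) R)) • (y1 - y2) -
            Ut U x)) = 0 := by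
          rw [Submodule.Quotient.mk_sub, map_sub, hlift, ← hxt', Submodule.Quotient.mk_smul,
            map_smul, ← hm, mul_smul, sub_eq_zero]
          congr 1
          rw [← algebraMap_smul S (t : MvPolynomial (Fin n) R), ← algebraMap_smul S
            (t : MvPolynomial (Fin n) R), map_smul]
        obtain ⟨t', ht'⟩ := (IsLocalizedModule.eq_zero_iff q.primeCompl fN).mp h1
        have ht'' : (t' : MvPolynomial (Fin n) R) • (Submodule.Quotient.mk
            ((s * (t : MvPolynomial (Fin n) R)) • (y1 - y2) - Ut U x) : _ ⧸ NB v) = 0 := ht'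
        rw [← Submodule.Quotient.mk_smul, Submodule.Quotient.mk_eq_zero] at ht''
        refine ⟨⟨(t' : MvPolynomial (Fin n) R) * (s * t), ?_⟩, ?_⟩
        · intro hmem
          rcases (inferInstance : q.IsPrime).mem_or_mem hmem with h | h
          · exact t'.2 h
          · rcases (inferInstance : q.IsPrime).mem_or_mem h with h | h
            · exact hs h
            · exact t.2 h
        · show ((t' : MvPolynomial (Fin n) R) * (s * t)) •
            (Submodule.Quotient.mk y1 : _ ⧸ NB (Fin.append v U)) =
            ((t' : MvPolynomial (Fin n) R) * (s * t)) • Submodule.Quotient.mk y2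
          rw [← Submodule.Quotient.mk_smul, ← Submodule.Quotient.mk_smul, Submodule.Quotient.eq,
            ← smul_sub, NB_append]
          have : ((t' : MvPolynomial (Fin n) R) * (s * t)) • (y1 - y2) =
              (t' : MvPolynomial (Fin n) R) • ((s * (t : MvPolynomial (Fin n) R)) • (y1 - y2) -
                Ut U x) + Ut U ((t' : MvPolynomial (Fin n) R) • x) := by
            rw [map_smul, ← smul_add, sub_add_cancel, mul_smul]
          rw [this]
          exact Submodule.add_mem_sup ht'' ⟨_, rfl⟩
    have e := (IsLocalizedModule.iso q.primeCompl G).restrictScalars R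
    exact Module.Flat.of_linearEquiv e.symm

end Core

section Main

open IsLocalRing

/-- **The non-Noetherian local criterion of flatness** (Stacks 046Y, EGA IV 11.3.7). -/
theorem injective_and_flat_coker {R S M N : Type u} [CommRing R] [CommRing S] [IsLocalRing R]
    [IsLocalRing S] [Algebra R S] [IsLocalHom (algebraMap R S)]
    (hS : ∃ (S₀ : Type u) (_ : CommRing S₀) (_ : Algebra R S₀) (_ : Algebra S₀ S)
      (_ : IsScalarTower R S₀ S) (T : Submonoid S₀),
      Algebra.FinitePresentation R S₀ ∧ IsLocalization T S)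
    [AddCommGroup M] [Module S M] [Module.FinitePresentation S M]
    [AddCommGroup N] [Module S N] [Module R N] [IsScalarTower R S N]
    [Module.FinitePresentation S N] [Module.Flat R N] (u : M →ₗ[S] N)
    (hu : ∀ x : M, u x ∈ (maximalIdeal R).map (algebraMap R S) • (⊤ : Submodule S N) →
      x ∈ (maximalIdeal R).map (algebraMap R S) • (⊤ : Submodule S M)) :
    Function.Injective u ∧ Module.Flat R (N ⧸ LinearMap.range u) := by
  obtain ⟨S₀, _, _, _, _, T, hfp, hloc⟩ := hS
  obtain ⟨n, f, hf, hker⟩ := Algebra.FinitePresentation.out (R := R) (A := S₀)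
  let φ : MvPolynomial (Fin n) R →+* S := (algebraMap S₀ S).comp f.toRingHom
  have hφ : ∀ p, φ p = algebraMap S₀ S (f p) := fun p => rfl
  letI : Algebra (MvPolynomial (Fin n) R) S := φ.toAlgebra
  haveI : IsScalarTower R (MvPolynomial (Fin n) R) S := IsScalarTower.of_algebraMap_eq (fun r => by
    show algebraMap R S r = algebraMap S₀ S (f (algebraMap R (MvPolynomial (Fin n) R) r))
    rw [f.commutes, ← IsScalarTower.algebraMap_apply])
  letI : Module (MvPolynomial (Fin n) R) M := Module.compHom M φ
  haveI : IsScalarTower (MvPolynomial (Fin n) R) S M :=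
    IsScalarTower.of_algebraMap_smul (fun _ _ => rfl)
  letI : Module (MvPolynomial (Fin n) R) N := Module.compHom N φ
  haveI : IsScalarTower (MvPolynomial (Fin n) R) S N :=
    IsScalarTower.of_algebraMap_smul (fun _ _ => rfl)
  let q : Ideal (MvPolynomial (Fin n) R) := (maximalIdeal S).comap φ
  haveI : q.IsPrime := Ideal.comap_isPrime _ _
  have hunit : ∀ g, g ∉ q → IsUnit (φ g) := fun g hg => by
    by_contra h
    exact hg ((mem_maximalIdeal _).mpr h)
  have hTq : ∀ g, f g ∈ T → g ∉ q := fun g hg hgq => by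
    have h1 : IsUnit (φ g) := IsLocalization.map_units S (⟨f g, hg⟩ : T)
    exact (mem_maximalIdeal _).mp hgq h1
  have hLP : LocPres (S := S) q (RingHom.ker f.toRingHom) := by
    refine ⟨hunit, ?_, ?_, ?_, hker⟩
    · intro s
      obtain ⟨⟨a, t⟩, h⟩ := IsLocalization.surj T s
      obtain ⟨p, hp⟩ := hf a
      obtain ⟨g, hg⟩ := hf (t : S₀)
      refine ⟨p, g, hTq g (hg ▸ t.2), ?_⟩
      show s * algebraMap S₀ S (f g) = algebraMap S₀ S (f p)
      rw [hg, hp]
      exact h
    · intro c hc
      have hc' : algebraMap S₀ S (f c) = 0 := hc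
      obtain ⟨t, ht⟩ := (IsLocalization.map_eq_zero_iff T S (f c)).mp hc'
      obtain ⟨g, hg⟩ := hf (t : S₀)
      refine ⟨g, hTq g (hg ▸ t.2), ?_⟩
      show f.toRingHom (g * c) = 0
      rw [map_mul]
      show f g * f c = 0
      rw [hg]
      exact ht
    · intro x hx
      show algebraMap S₀ S (f x) = 0
      have : f x = 0 := hx
      rw [this, map_zero]
  have hq : q.comap (MvPolynomial.C : R →+* MvPolynomial (Fin n) R) = maximalIdeal R := by
    rw [Ideal.comap_comap]
    have : φ.comp (MvPolynomial.C : R →+* MvPolynomial (Fin n) R) = algebraMap R S := by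
      rw [← MvPolynomial.algebraMap_eq]
      exact (IsScalarTower.algebraMap_eq R (MvPolynomial (Fin n) R) S).symm
    rw [this, maximalIdeal_comap]
  exact core hLP hq u hu

end Main

end Groth.Agent.Lib.helper3.LocCrit
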