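import Mathlib
import Groth.Agent.Lib.Helper3.LocCrit6
/-!
# Non-Noetherian local criterion of flatness with respect to the maximal ideal (helper3)

`A → T` a flat local homomorphism of local rings with `T` essentially of finite presentation over
`A`, `M` a finitely presented `T`-module with `𝔪_A ⊗ M → M` injective (`Tor₁^A(M, A/𝔪_A) = 0`).
Then `M` is flat over `A` (`flat_of_rTensor_maximalIdeal_injective`).

The proof presents `M` as the cokernel of a map `u : M₁ → T^b` of finitely presented modules which is
injective modulo `𝔪_A` (using that `T/𝔪_A T` is Noetherian), and applies the non-Noetherian local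
criterion `LocCrit.injective_and_flat_coker` (Stacks 046Y).
-/

set_option autoImplicit false
set_option linter.style.haveILetI false
set_option linter.unusedSectionVars false
universe u

open TensorProduct

namespace Groth.Agent.Lib.helper3.LocCritMax

/-- If `I ⊗ M → M` is injective and `f : F → M` is surjective, then `ker f ∩ I F = I ker f`. -/
theorem mem_smul_ker {A F M : Type*} [CommRing A] [AddCommGroup F] [Module A F] [AddCommGroup M]
    [Module A M] (I : Ideal A) (f : F →ₗ[A] M) (hf : Function.Surjective f)
    (h : Function.Injective (I.subtype.rTensor M)) {x : F}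
    (hx : x ∈ I • (⊤ : Submodule A F)) (hfx : f x = 0) : x ∈ I • LinearMap.ker f := by
  let μF : I ⊗[A] F →ₗ[A] F := (TensorProduct.lid A F).toLinearMap ∘ₗ I.subtype.rTensor F
  let μM : I ⊗[A] M →ₗ[A] M := (TensorProduct.lid A M).toLinearMap ∘ₗ I.subtype.rTensor M
  have hμM : Function.Injective μM := (TensorProduct.lid A M).injective.comp h
  have hμF : ∀ (i : I) (y : F), μF (i ⊗ₜ y) = (i : A) • y := by
    intro i y
    simp [μF]
  have hμMt : ∀ (i : I) (y : M), μM (i ⊗ₜ y) = (i : A) • y := by
    intro i y
    simp [μM]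
  have hnat : ∀ z, μM (f.lTensor I z) = f (μF z) := by
    intro z
    induction z using TensorProduct.induction_on with
    | zero => simp
    | add a b ha hb => simp only [map_add, ha, hb]
    | tmul i y => rw [LinearMap.lTensor_tmul, hμMt, hμF, map_smul]
  have key : ∀ w, μF ((LinearMap.ker f).subtype.lTensor I w) ∈ I • LinearMap.ker f := by
    intro w
    induction w using TensorProduct.induction_on with
    | zero => simp
    | add a b ha hb => rw [map_add, map_add]; exact Submodule.add_mem _ ha hb
    | tmul i k =>
      rw [LinearMap.lTensor_tmul, hμF]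
      exact Submodule.smul_mem_smul i.2 k.2
  obtain ⟨z, rfl⟩ : ∃ z, μF z = x := by
    refine Submodule.smul_induction_on hx ?_ ?_
    · intro a ha y _
      exact ⟨(⟨a, ha⟩ : I) ⊗ₜ y, hμF _ _⟩
    · rintro _ _ ⟨z₁, rfl⟩ ⟨z₂, rfl⟩
      exact ⟨z₁ + z₂, map_add _ _ _⟩
  have h0 : f.lTensor I z = 0 := hμM (by rw [hnat, hfx, map_zero])
  have hex : Function.Exact ((LinearMap.ker f).subtype.lTensor I) (f.lTensor I) :=
    lTensor_exact I (LinearMap.exact_subtype_ker_map f) hf
  obtain ⟨w, rfl⟩ := (hex z).mp h0
  exact key w

/-- Noetherianity descends along a surjective ring homomorphism. -/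
theorem isNoetherian_of_surjective_algebraMap {R A M : Type*} [CommRing R] [CommRing A]
    [Algebra R A] [AddCommGroup M] [Module A M] [Module R M] [IsScalarTower R A M]
    (h : Function.Surjective (algebraMap R A)) [IsNoetherian A M] : IsNoetherian R M := by
  constructor
  intro W
  let W' : Submodule A M :=
    { carrier := W
      add_mem' := W.add_mem
      zero_mem' := W.zero_mem
      smul_mem' := fun a x hx => by
        obtain ⟨r, rfl⟩ := h a
        rw [algebraMap_smul]
        exact W.smul_mem r hx }
  have hW : W = W'.restrictScalars R := rfl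
  rw [hW]
  exact (IsNoetherian.noetherian W').restrictScalars_of_surjective h

/-- For a map `g : T^a → T^b` over a ring `T` with `T/I` Noetherian, the kernel of `g` is finitely
generated modulo `I`. -/
theorem exists_fg_le_ker {T : Type*} [CommRing T] (I : Ideal T) [IsNoetherianRing (T ⧸ I)]
    {a : ℕ} (N : Submodule T (Fin a → T)) :
    ∃ L : Submodule T (Fin a → T), L.FG ∧ L ≤ N ∧ N ≤ L ⊔ I • ⊤ := by
  classical
  haveI : IsNoetherian T (T ⧸ I) :=
    isNoetherian_of_surjective_algebraMap (R := T) (A := T ⧸ I) Ideal.Quotient.mk_surjective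
  let red : (Fin a → T) →ₗ[T] (Fin a → T ⧸ I) :=
    (Algebra.linearMap T (T ⧸ I)).compLeft (Fin a)
  have hred : LinearMap.ker red ≤ I • (⊤ : Submodule T (Fin a → T)) := by
    intro c hc
    have hc' : ∀ i, c i ∈ I := by
      intro i
      have := congrFun hc i
      exact Ideal.Quotient.eq_zero_iff_mem.mp this
    have : c = ∑ i, c i • (Pi.single i 1 : Fin a → T) := by
      funext j
      simp [Finset.sum_apply, Pi.single_apply]
    rw [this]
    exact Submodule.sum_mem _ fun i _ => Submodule.smul_mem_smul (hc' i) trivial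
  obtain ⟨n, s, hs⟩ := Submodule.fg_iff_exists_fin_generating_family.mp
    (IsNoetherian.noetherian (N.map red))
  have hsmem : ∀ j, s j ∈ N.map red := fun j => hs ▸ Submodule.subset_span ⟨j, rfl⟩
  choose v hvN hv using hsmem
  refine ⟨Submodule.span T (Set.range v), Submodule.fg_span (Set.finite_range v), ?_, ?_⟩
  · rw [Submodule.span_le]
    rintro _ ⟨j, rfl⟩
    exact hvN j
  · have h1 : (Submodule.span T (Set.range v)).map red = N.map red := by
      rw [Submodule.map_span, ← hs, ← Set.range_comp]
      congr 2
      funext j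
      exact hv j
    calc N ≤ (N.map red).comap red := Submodule.le_comap_map _ _
      _ = ((Submodule.span T (Set.range v)).map red).comap red := by rw [h1]
      _ = Submodule.span T (Set.range v) ⊔ LinearMap.ker red := Submodule.comap_map_eq _ _
      _ ≤ Submodule.span T (Set.range v) ⊔ I • ⊤ := sup_le_sup_left hred _

open IsLocalRing

/-- **Non-Noetherian local criterion of flatness for the maximal ideal.** -/
theorem flat_of_rTensor_maximalIdeal_injective {A T M : Type u} [CommRing A] [CommRing T]
    [IsLocalRing A] [IsLocalRing T] [Algebra A T] [IsLocalHom (algebraMap A T)]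
    (hT : ∃ (S₀ : Type u) (_ : CommRing S₀) (_ : Algebra A S₀) (_ : Algebra S₀ T)
      (_ : IsScalarTower A S₀ T) (T₀ : Submonoid S₀),
      Algebra.FinitePresentation A S₀ ∧ IsLocalization T₀ T)
    [Module.Flat A T]
    [AddCommGroup M] [Module T M] [Module A M] [IsScalarTower A T M]
    [Module.FinitePresentation T M]
    (h : Function.Injective ((maximalIdeal A).subtype.rTensor M)) : Module.Flat A M := by
  classical
  -- the closed fibre is Noetherian
  haveI hNoeth : IsNoetherianRing (T ⧸ (maximalIdeal A).map (algebraMap A T)) := by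
    obtain ⟨S₀, _, _, _, _, T₀, hfp, hloc⟩ := hT
    haveI : Algebra.EssFiniteType S₀ T := Algebra.EssFiniteType.of_isLocalization T T₀
    haveI : Algebra.EssFiniteType A T := Algebra.EssFiniteType.comp A S₀ T
    haveI := Algebra.EssFiniteType.quotient_map A T (maximalIdeal A)
    haveI : IsNoetherianRing (A ⧸ maximalIdeal A) :=
      inferInstanceAs (IsNoetherianRing (ResidueField A))
    exact Algebra.EssFiniteType.isNoetherianRing (A ⧸ maximalIdeal A) _
  set IT : Ideal T := (maximalIdeal A).map (algebraMap A T) with hIT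
  -- presentation of `M`
  obtain ⟨b, f, hf⟩ := Module.Finite.exists_fin' T M
  have hK : (LinearMap.ker f).FG := Module.FinitePresentation.fg_ker f hf
  obtain ⟨a, k, hk⟩ := Submodule.fg_iff_exists_fin_generating_family.mp hK
  let g : (Fin a → T) →ₗ[T] (Fin b → T) := Fintype.linearCombination T k
  have hrange : LinearMap.range g = LinearMap.ker f := by
    rw [Fintype.range_linearCombination, hk]
  obtain ⟨L, hLfg, hLle, hLsup⟩ := exists_fg_le_ker IT (LinearMap.ker g)
  -- the key inclusion
  have hV : ∀ c : Fin a → T, g c ∈ IT • (⊤ : Submodule T (Fin b → T)) → c ∈ L ⊔ IT • ⊤ := by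
    intro c hc
    have hc1 : g c ∈ (maximalIdeal A) • (⊤ : Submodule A (Fin b → T)) :=
      (LocCrit.smul_top_iff (R := A) (S := T) (maximalIdeal A) (g c)).mpr hc
    have hfc : (f.restrictScalars A) (g c) = 0 := by
      have : g c ∈ LinearMap.ker f := hrange ▸ LinearMap.mem_range_self g c
      exact this
    have hc2 := mem_smul_ker (maximalIdeal A) (f.restrictScalars A) hf h hc1 hfc
    -- `g c = g c'` with `c' ∈ IT • ⊤`
    have hc3 : ∃ c', c' ∈ IT • (⊤ : Submodule T (Fin a → T)) ∧ g c' = g c := by
      refine Submodule.smul_induction_on hc2 ?_ ?_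
      · intro r hr y hy
        have hy' : y ∈ LinearMap.range g := by rw [hrange]; exact hy
        obtain ⟨c₀, rfl⟩ := hy'
        refine ⟨algebraMap A T r • c₀, Submodule.smul_mem_smul (Ideal.mem_map_of_mem _ hr) trivial,
          ?_⟩
        rw [map_smul, algebraMap_smul]
      · rintro _ _ ⟨c₁, h₁, e₁⟩ ⟨c₂, h₂, e₂⟩
        exact ⟨c₁ + c₂, Submodule.add_mem _ h₁ h₂, by rw [map_add, e₁, e₂]⟩
    obtain ⟨c', hc', hgc'⟩ := hc3
    have hker : c - c' ∈ LinearMap.ker g := by
      rw [LinearMap.mem_ker, map_sub, hgc', sub_self]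
    have h5 : c - c' ∈ L ⊔ IT • ⊤ := hLsup hker
    have : c = (c - c') + c' := by abel
    rw [this]
    exact Submodule.add_mem _ h5 (Submodule.mem_sup_right hc')
  -- the finitely presented module `M₁` and the map `u`
  haveI : Module.FinitePresentation T ((Fin a → T) ⧸ L) :=
    Module.finitePresentation_of_surjective L.mkQ (Submodule.mkQ_surjective _) (by
      rw [Submodule.ker_mkQ]; exact hLfg)
  let u : ((Fin a → T) ⧸ L) →ₗ[T] (Fin b → T) := L.liftQ g hLle
  have hu : ∀ x : (Fin a → T) ⧸ L, u x ∈ IT • (⊤ : Submodule T (Fin b → T)) →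
      x ∈ IT • (⊤ : Submodule T ((Fin a → T) ⧸ L)) := by
    intro x hx
    obtain ⟨c, rfl⟩ := Submodule.Quotient.mk_surjective _ x
    rw [LocCrit.quot_mk_mem_smul_top]
    exact hV c hx
  haveI : Module.Flat A (Fin b → T) := Module.Flat.trans A T (Fin b → T)
  obtain ⟨-, hflat⟩ := LocCrit.injective_and_flat_coker hT u hu
  have hru : LinearMap.range u = LinearMap.ker f := by
    rw [Submodule.range_liftQ, hrange]
  let e : ((Fin b → T) ⧸ LinearMap.range u) ≃ₗ[T] M :=
    (Submodule.quotEquivOfEq _ _ hru).trans (f.quotKerEquivOfSurjective hf)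
  exact Module.Flat.of_linearEquiv (e.restrictScalars A).symm

end Groth.Agent.Lib.helper3.LocCritMax
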