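import Mathlib
import Groth.Agent.Lib.Helper3.EssFPCancel
import Groth.Agent.Lib.Helper3.LocCritMax
import Groth.Agent.Lib.Helper8.LocalFlat
/-!
# Critère de platitude par fibres, essentially finitely presented case (helper3)

`R → S → S'` local homomorphisms of local rings, `S`, `S'` essentially of finite presentation over
`R`, `M` a nonzero finitely presented `S'`-module flat over `R` with `M/𝔪_R M` flat over `S/𝔪_R S`.
Then `S` is flat over `R` and `M` is flat over `S` (Stacks 00R7, EGA IV 11.3.10 for modules).
-/

set_option autoImplicit false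
set_option linter.style.haveILetI false
set_option linter.unusedSectionVars false
universe u

open TensorProduct IsLocalRing

namespace Groth.Agent.Lib.helper3.FibCritFP

open Groth.Agent.Lib.helper8

/-- `𝔪_S ⊗ M → M` is injective under the hypotheses of the fibre criterion. -/
theorem rTensor_maximalIdeal_injective {R S M : Type u} [CommRing R] [CommRing S]
    [IsLocalRing R] [IsLocalRing S] [Algebra R S] [IsLocalHom (algebraMap R S)]
    [AddCommGroup M] [Module S M] [Module R M] [IsScalarTower R S M] [Module.Flat R M]
    (hfib : Module.Flat (S ⧸ (maximalIdeal R).map (algebraMap R S))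
      (M ⧸ (maximalIdeal R).map (algebraMap R S) • (⊤ : Submodule S M))) :
    Function.Injective ((maximalIdeal S).subtype.rTensor M) := by
  set I : Ideal S := (maximalIdeal R).map (algebraMap R S) with hI
  have h1R : Function.Injective ((maximalIdeal R).subtype.rTensor M) :=
    Module.Flat.rTensor_preserves_injective_linearMap _ Subtype.val_injective
  have h1 : Function.Injective (I.subtype.rTensor M) :=
    LocalFlat.map_subtype_rTensor_injective (maximalIdeal R) M h1R
  haveI : Module.Flat (S ⧸ I) ((S ⧸ I) ⊗[S] M) :=
    LocalFlat.flat_of_linearEquiv_of_surjective (R := S) (R₁ := S ⧸ I) (R₂ := S ⧸ I)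
      Ideal.Quotient.mk_surjective Ideal.Quotient.mk_surjective le_rfl
      (TensorProduct.quotTensorEquivQuotSMul M I).symm
  have hle : I ≤ maximalIdeal S := IsLocalRing.map_maximalIdeal_le (algebraMap R S)
  apply Mil.rTensor_injective_of_smul_mem_range I M h1 (maximalIdeal S).subtype
    Subtype.val_injective
  intro j hj x
  rw [Submodule.range_subtype]
  exact Ideal.mul_mem_right _ _ (hle hj)

/-- **Fibre criterion of flatness**, essentially finitely presented case. -/
theorem fibre_criterion {R S S' M : Type u} [CommRing R] [CommRing S] [CommRing S']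
    [IsLocalRing R] [IsLocalRing S] [IsLocalRing S'] [Algebra R S] [Algebra S S'] [Algebra R S']
    [IsScalarTower R S S'] [IsLocalHom (algebraMap R S)] [IsLocalHom (algebraMap S S')]
    (hS : ∃ (S₀ : Type u) (_ : CommRing S₀) (_ : Algebra R S₀) (_ : Algebra S₀ S)
      (_ : IsScalarTower R S₀ S) (T : Submonoid S₀),
      Algebra.FinitePresentation R S₀ ∧ IsLocalization T S)
    (hS' : ∃ (S₀ : Type u) (_ : CommRing S₀) (_ : Algebra R S₀) (_ : Algebra S₀ S')
      (_ : IsScalarTower R S₀ S') (T : Submonoid S₀),
      Algebra.FinitePresentation R S₀ ∧ IsLocalization T S')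
    [AddCommGroup M] [Module S' M] [Module S M] [Module R M] [IsScalarTower S S' M]
    [IsScalarTower R S' M] [IsScalarTower R S M] [Module.FinitePresentation S' M] [Nontrivial M]
    [Module.Flat R M]
    (hfib : Module.Flat (S ⧸ (maximalIdeal R).map (algebraMap R S))
      (M ⧸ (maximalIdeal R).map (algebraMap R S) • (⊤ : Submodule S M))) :
    Module.Flat R S ∧ Module.Flat S M := by
  classical
  have hSft : ∃ (S₀ : Type u) (_ : CommRing S₀) (_ : Algebra R S₀) (_ : Algebra S₀ S)
      (_ : IsScalarTower R S₀ S) (T : Submonoid S₀),
      Algebra.FiniteType R S₀ ∧ IsLocalization T S := by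
    obtain ⟨S₀, i1, i2, i3, i4, M₀, hfp, hloc⟩ := hS
    exact ⟨S₀, i1, i2, i3, i4, M₀, inferInstance, hloc⟩
  obtain ⟨e, ψ, J, hJfg, hJker, hsurj, hker⟩ := EssFPCancel.exists_locPres hSft hS'
  have hM : Function.Injective ((maximalIdeal S).subtype.rTensor M) :=
    rTensor_maximalIdeal_injective (R := R) hfib
  -- the local ring `T = S[Y]_q`
  let q : Ideal (MvPolynomial (Fin e) S) := (maximalIdeal S').comap ψ.toRingHom
  haveI hqp : q.IsPrime := Ideal.comap_isPrime _ _
  have hq_iff : ∀ g, g ∉ q ↔ IsUnit (ψ g) := by
    intro g
    show ¬ (ψ g ∈ maximalIdeal S') ↔ _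
    rw [mem_maximalIdeal, mem_nonunits_iff, not_not]
  have hflat : Module.Flat S M := by
    let T := Localization.AtPrime q
    haveI : IsLocalHom (algebraMap S T) := by
      constructor
      intro s hs
      rw [IsScalarTower.algebraMap_apply S (MvPolynomial (Fin e) S) T,
        IsLocalization.AtPrime.isUnit_to_map_iff T q] at hs
      have h2 : IsUnit (ψ (algebraMap S (MvPolynomial (Fin e) S) s)) := (hq_iff _).mp hs
      rw [AlgHom.commutes] at h2
      exact isUnit_of_map_unit (algebraMap S S') s h2
    have hT : ∃ (S₀ : Type u) (_ : CommRing S₀) (_ : Algebra S S₀) (_ : Algebra S₀ T)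
        (_ : IsScalarTower S S₀ T) (T₀ : Submonoid S₀),
        Algebra.FinitePresentation S S₀ ∧ IsLocalization T₀ T :=
      ⟨MvPolynomial (Fin e) S, inferInstance, inferInstance, inferInstance, inferInstance,
        q.primeCompl, inferInstance, inferInstance⟩
    haveI : Module.Flat (MvPolynomial (Fin e) S) T := IsLocalization.flat T q.primeCompl
    haveI : Module.Flat S T := Module.Flat.trans S (MvPolynomial (Fin e) S) T
    -- the map `T → S'`
    let π : T →+* S' := IsLocalization.lift (M := q.primeCompl) (g := ψ.toRingHom)
      (fun y => (hq_iff _).mp y.2)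
    have hπ : ∀ p, π (algebraMap (MvPolynomial (Fin e) S) T p) = ψ p := fun p =>
      IsLocalization.lift_eq _ _
    have hπS : ∀ s, π (algebraMap S T s) = algebraMap S S' s := by
      intro s
      rw [IsScalarTower.algebraMap_apply S (MvPolynomial (Fin e) S) T, hπ, AlgHom.commutes]
    letI : Algebra T S' := π.toAlgebra
    letI : Module T M := Module.compHom M π
    haveI : IsScalarTower T S' M := IsScalarTower.of_algebraMap_smul fun _ _ => rfl
    haveI : IsScalarTower S T M := by
      refine IsScalarTower.of_algebraMap_smul fun s m => ?_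
      show π (algebraMap S T s) • m = s • m
      rw [hπS, algebraMap_smul]
    -- `S'` is a finitely presented `T`-module
    have hπsurj : Function.Surjective π := by
      intro s'
      obtain ⟨p, g, hg, h⟩ := hsurj s'
      refine ⟨IsLocalization.mk' T p (⟨g, (hq_iff g).mpr hg⟩ : q.primeCompl), ?_⟩
      rw [IsLocalization.lift_mk'_spec]
      show ψ p = ψ g * s'
      rw [mul_comm, h]
    have hkerπ : RingHom.ker π = J.map (algebraMap (MvPolynomial (Fin e) S) T) := by
      apply le_antisymm
      · intro t ht
        obtain ⟨p, g, rfl⟩ := IsLocalization.exists_mk'_eq q.primeCompl t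
        have h1 : π (IsLocalization.mk' T p g) = 0 := ht
        have h2 : ψ p = 0 := by
          have := IsLocalization.mk'_spec T p g
          have h3 := congrArg π this
          rw [map_mul, h1, zero_mul, hπ] at h3
          exact h3.symm
        obtain ⟨g', hg', hg'J⟩ := hker p h2
        rw [IsLocalization.mk'_mem_map_algebraMap_iff]
        exact ⟨g', (hq_iff g').mpr hg', hg'J⟩
      · rw [Ideal.map_le_iff_le_comap]
        intro c hc
        show π (algebraMap _ T c) = 0
        rw [hπ]
        exact hJker c hc
    haveI : Module.FinitePresentation T S' := by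
      refine Module.finitePresentation_of_surjective (Algebra.linearMap T S') hπsurj ?_
      have : LinearMap.ker (Algebra.linearMap T S') = RingHom.ker π := by
        ext t
        rfl
      rw [this, hkerπ]
      exact Ideal.FG.map hJfg _
    haveI : Module.FinitePresentation T M := Module.FinitePresentation.trans T M S'
    exact LocCritMax.flat_of_rTensor_maximalIdeal_injective (A := S) (T := T) hT hM
  refine ⟨?_, hflat⟩
  haveI := hflat
  haveI : Module.FaithfullyFlat S M := LocalFlat.faithfullyFlat_of_isLocalHom (S := S) (S' := S') M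
  exact LocalFlat.flat_of_faithfullyFlat_of_flat (R := R) (S := S) M

end Groth.Agent.Lib.helper3.FibCritFP
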