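import Mathlib
import Groth.Agent.Lib.Helper3.FibCritFP
/-!
# Critère de platitude par fibres: finite type middle ring, hom form (helper3)

* `fibre_criterion_ft`: as `FibCritFP.fibre_criterion`, but `S` is only assumed essentially of finite
  type over `R`.
* `EssFP φ`: the ring homomorphism `φ` is essentially of finite presentation (a finitely presented
  ring map followed by a localization), `EssFP.respectsIso`, `essFP_localRingHom`.
* `fibre_criterion_iff`: the pointwise equivalence (EGA IV 11.3.10) in hom form.
-/

set_option autoImplicit false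
set_option linter.style.haveILetI false
set_option linter.unusedSectionVars false
universe u

open TensorProduct IsLocalRing

namespace Groth.Agent.Lib.helper3.FibCritFP

open Groth.Agent.Lib.helper8

/-- **Fibre criterion of flatness**, `S` essentially of finite type and `S'` essentially of finite
presentation over `R`. -/
theorem fibre_criterion_ft {R S S' M : Type u} [CommRing R] [CommRing S] [CommRing S']
    [IsLocalRing R] [IsLocalRing S] [IsLocalRing S'] [Algebra R S] [Algebra S S'] [Algebra R S']
    [IsScalarTower R S S'] [IsLocalHom (algebraMap R S)] [IsLocalHom (algebraMap S S')]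
    (hSft : ∃ (S₀ : Type u) (_ : CommRing S₀) (_ : Algebra R S₀) (_ : Algebra S₀ S)
      (_ : IsScalarTower R S₀ S) (T : Submonoid S₀),
      Algebra.FiniteType R S₀ ∧ IsLocalization T S)
    (hS' : ∃ (S₀ : Type u) (_ : CommRing S₀) (_ : Algebra R S₀) (_ : Algebra S₀ S')
      (_ : IsScalarTower R S₀ S') (T : Submonoid S₀),
      Algebra.FinitePresentation R S₀ ∧ IsLocalization T S')
    [AddCommGroup M] [Module S' M] [Module S M] [Module R M] [IsScalarTower S S' M]
    [IsScalarTower R S' M] [IsScalarTower R S M] [Module.FinitePresentation S' M] [Nontrivial M]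
    [Module.Flat R M]
    (hfib : Module.Flat (S ⧸ (maximalIdeal R).map (algebraMap R S))
      (M ⧸ (maximalIdeal R).map (algebraMap R S) • (⊤ : Submodule S M))) :
    Module.Flat R S ∧ Module.Flat S M := by
  classical
  obtain ⟨e, ψ, J, hJfg, hJker, hsurj, hker⟩ := EssFPCancel.exists_locPres hSft hS'
  have hM : Function.Injective ((maximalIdeal S).subtype.rTensor M) :=
    rTensor_maximalIdeal_injective (R := R) hfib
  let q : Ideal (MvPolynomial (Fin e) S) := (maximalIdeal S').comap ψ.toRingHom
  haveI hqp : q.IsPrime := Ideal.comap_isPrime _ _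
  have hq_iff : ∀ g, g ∉ q ↔ IsUnit (ψ g) := by
    intro g
    show ¬ (ψ g ∈ maximalIdeal S') ↔ _
    rw [mem_maximalIdeal, mem_nonunits_iff, not_not]
  have hflat : Module.Flat S M := by
    let T := Localization.AtPrime q
    haveI : IsLocalHom (algebraMap S T) := by
      constructor
      intro s hs
      rw [IsScalarTower.algebraMap_apply S (MvPolynomial (Fin e) S) T,
        IsLocalization.AtPrime.isUnit_to_map_iff T q] at hs
      have h2 : IsUnit (ψ (algebraMap S (MvPolynomial (Fin e) S) s)) := (hq_iff _).mp hs
      rw [AlgHom.commutes] at h2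
      exact isUnit_of_map_unit (algebraMap S S') s h2
    have hT : ∃ (S₀ : Type u) (_ : CommRing S₀) (_ : Algebra S S₀) (_ : Algebra S₀ T)
        (_ : IsScalarTower S S₀ T) (T₀ : Submonoid S₀),
        Algebra.FinitePresentation S S₀ ∧ IsLocalization T₀ T :=
      ⟨MvPolynomial (Fin e) S, inferInstance, inferInstance, inferInstance, inferInstance,
        q.primeCompl, inferInstance, inferInstance⟩
    haveI : Module.Flat (MvPolynomial (Fin e) S) T := IsLocalization.flat T q.primeCompl
    haveI : Module.Flat S T := Module.Flat.trans S (MvPolynomial (Fin e) S) T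
    let π : T →+* S' := IsLocalization.lift (M := q.primeCompl) (g := ψ.toRingHom)
      (fun y => (hq_iff _).mp y.2)
    have hπ : ∀ p, π (algebraMap (MvPolynomial (Fin e) S) T p) = ψ p := fun p =>
      IsLocalization.lift_eq _ _
    have hπS : ∀ s, π (algebraMap S T s) = algebraMap S S' s := by
      intro s
      rw [IsScalarTower.algebraMap_apply S (MvPolynomial (Fin e) S) T, hπ, AlgHom.commutes]
    letI : Algebra T S' := π.toAlgebra
    letI : Module T M := Module.compHom M π
    haveI : IsScalarTower T S' M := IsScalarTower.of_algebraMap_smul fun _ _ => rfl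
    haveI : IsScalarTower S T M := by
      refine IsScalarTower.of_algebraMap_smul fun s m => ?_
      show π (algebraMap S T s) • m = s • m
      rw [hπS, algebraMap_smul]
    have hπsurj : Function.Surjective π := by
      intro s'
      obtain ⟨p, g, hg, h⟩ := hsurj s'
      refine ⟨IsLocalization.mk' T p (⟨g, (hq_iff g).mpr hg⟩ : q.primeCompl), ?_⟩
      rw [IsLocalization.lift_mk'_spec]
      show ψ p = ψ g * s'
      rw [mul_comm, h]
    have hkerπ : RingHom.ker π = J.map (algebraMap (MvPolynomial (Fin e) S) T) := by
      apply le_antisymm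
      · intro t ht
        obtain ⟨p, g, rfl⟩ := IsLocalization.exists_mk'_eq q.primeCompl t
        have h1 : π (IsLocalization.mk' T p g) = 0 := ht
        have h2 : ψ p = 0 := by
          have := IsLocalization.mk'_spec T p g
          have h3 := congrArg π this
          rw [map_mul, h1, zero_mul, hπ] at h3
          exact h3.symm
        obtain ⟨g', hg', hg'J⟩ := hker p h2
        rw [IsLocalization.mk'_mem_map_algebraMap_iff]
        exact ⟨g', (hq_iff g').mpr hg', hg'J⟩
      · rw [Ideal.map_le_iff_le_comap]
        intro c hc
        show π (algebraMap _ T c) = 0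
        rw [hπ]
        exact hJker c hc
    haveI : Module.FinitePresentation T S' := by
      refine Module.finitePresentation_of_surjective (Algebra.linearMap T S') hπsurj ?_
      have : LinearMap.ker (Algebra.linearMap T S') = RingHom.ker π := by
        ext t
        rfl
      rw [this, hkerπ]
      exact Ideal.FG.map hJfg _
    haveI : Module.FinitePresentation T M := Module.FinitePresentation.trans T M S'
    exact LocCritMax.flat_of_rTensor_maximalIdeal_injective (A := S) (T := T) hT hM
  refine ⟨?_, hflat⟩
  haveI := hflat
  haveI : Module.FaithfullyFlat S M := LocalFlat.faithfullyFlat_of_isLocalHom (S := S) (S' := S') M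
  exact LocalFlat.flat_of_faithfullyFlat_of_flat (R := R) (S := S) M

/-- A ring homomorphism essentially of finite presentation: a finitely presented ring map followed
by a localization (intermediate ring in the same universe). -/
def EssFP {R S : Type u} [CommRing R] [CommRing S] (φ : R →+* S) : Prop :=
  ∃ (S₀ : Type u) (_ : CommRing S₀) (a : R →+* S₀) (b : S₀ →+* S), b.comp a = φ ∧
    a.FinitePresentation ∧ ∃ T : Submonoid S₀, @IsLocalization S₀ _ T S _ b.toAlgebra

theorem EssFP.respectsIso : RingHom.RespectsIso @EssFP := by
  constructor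
  · intro R S T _ _ _ f e ⟨S₀, _, a, b, hab, ha, M, hM⟩
    refine ⟨S₀, inferInstance, a, e.toRingHom.comp b, ?_, ha, M, ?_⟩
    · rw [RingHom.comp_assoc, hab]
    · letI : Algebra S₀ S := b.toAlgebra
      letI : Algebra S₀ T := (e.toRingHom.comp b).toAlgebra
      haveI : IsLocalization M S := hM
      let e' : S ≃ₐ[S₀] T := AlgEquiv.ofRingEquiv (f := e) (fun x => rfl)
      exact IsLocalization.isLocalization_of_algEquiv M e'
  · intro R S T _ _ _ f e ⟨S₀, _, a, b, hab, ha, M, hM⟩
    refine ⟨S₀, inferInstance, a.comp e.toRingHom, b, ?_,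
      RingHom.finitePresentation_respectsIso.2 a e ha, M, hM⟩
    rw [← RingHom.comp_assoc, hab]

/-- The local homomorphism induced by a finitely presented ring map is essentially of finite
presentation. -/
theorem essFP_localRingHom {R S : Type u} [CommRing R] [CommRing S] (f : R →+* S)
    (hf : f.FinitePresentation) (J : Ideal S) [J.IsPrime] :
    EssFP (Localization.localRingHom (J.comap f) J f rfl) := by
  set I : Ideal R := J.comap f with hI
  let M : Submonoid R := I.primeCompl
  let S₀ := Localization (M.map f)
  let a : Localization.AtPrime I →+* S₀ := IsLocalization.map S₀ f (Submonoid.le_comap_map M)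
  have ha : a.FinitePresentation :=
    RingHom.finitePresentation_localizationPreserves f M (Localization.AtPrime I) S₀ hf
  have hunits : ∀ y : M.map f, IsUnit (algebraMap S (Localization.AtPrime J) y) := by
    rintro ⟨_, m, hm, rfl⟩
    exact IsLocalization.map_units (Localization.AtPrime J) (⟨f m, hm⟩ : J.primeCompl)
  let b : S₀ →+* Localization.AtPrime J := IsLocalization.lift (M := M.map f) hunits
  refine ⟨S₀, inferInstance, a, b, ?_, ha, J.primeCompl.map (algebraMap S S₀), ?_⟩
  · apply IsLocalization.ringHom_ext M
    ext r
    simp only [RingHom.coe_comp, Function.comp_apply]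
    rw [Localization.localRingHom_to_map]
    show b (a (algebraMap R (Localization.AtPrime I) r)) = _
    rw [IsLocalization.map_eq, IsLocalization.lift_eq]
  · letI : Algebra S₀ (Localization.AtPrime J) := b.toAlgebra
    haveI : IsScalarTower S S₀ (Localization.AtPrime J) := IsScalarTower.of_algebraMap_eq (fun s => by
      show _ = b (algebraMap S S₀ s)
      rw [IsLocalization.lift_eq])
    have hle : M.map f ≤ J.primeCompl := by
      rintro _ ⟨m, hm, rfl⟩
      exact hm
    exact IsLocalization.isLocalization_of_submonoid_le S₀ (Localization.AtPrime J) (M.map f)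
      J.primeCompl hle

/-- **Critère de platitude par fibres**, pointwise equivalence, hom form. -/
theorem fibre_criterion_iff {R A B M : Type u} [CommRing R] [CommRing A] [CommRing B]
    [IsLocalRing R] [IsLocalRing A] [IsLocalRing B] (φ₁ : R →+* A) (φ₂ : A →+* B)
    [IsLocalHom φ₁] [IsLocalHom φ₂] (h₁ : φ₁.EssFiniteType) (h₂ : EssFP (φ₂.comp φ₁))
    [AddCommGroup M] [Module B M] [Module.FinitePresentation B M] [Nontrivial M] :
    letI : Module A M := Module.compHom M φ₂
    ((letI : Module R M := Module.compHom M (φ₂.comp φ₁); Module.Flat R M) ∧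
      Module.Flat (A ⧸ (maximalIdeal R).map φ₁)
        (M ⧸ ((maximalIdeal R).map φ₁) • (⊤ : Submodule A M))) ↔
    (φ₁.Flat ∧ Module.Flat A M) := by
  letI : Module A M := Module.compHom M φ₂
  letI : Module R M := Module.compHom M (φ₂.comp φ₁)
  letI : Algebra R A := φ₁.toAlgebra
  letI : Algebra A B := φ₂.toAlgebra
  letI : Algebra R B := (φ₂.comp φ₁).toAlgebra
  haveI : IsScalarTower R A B := IsScalarTower.of_algebraMap_eq fun _ => rfl
  haveI : IsScalarTower A B M := IsScalarTower.of_algebraMap_smul fun _ _ => rfl
  haveI : IsScalarTower R B M := IsScalarTower.of_algebraMap_smul fun _ _ => rfl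
  haveI : IsScalarTower R A M := IsScalarTower.of_algebraMap_smul fun _ _ => rfl
  haveI : IsLocalHom (algebraMap R A) := ‹IsLocalHom φ₁›
  haveI : IsLocalHom (algebraMap A B) := ‹IsLocalHom φ₂›
  set I : Ideal A := (maximalIdeal R).map φ₁ with hI
  show (Module.Flat R M ∧ Module.Flat (A ⧸ I) (M ⧸ I • (⊤ : Submodule A M))) ↔
    (Module.Flat R A ∧ Module.Flat A M)
  constructor
  · rintro ⟨hfl, hfib⟩
    haveI := hfl
    have hSft : ∃ (S₀ : Type u) (_ : CommRing S₀) (_ : Algebra R S₀) (_ : Algebra S₀ A)
        (_ : IsScalarTower R S₀ A) (T : Submonoid S₀),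
        Algebra.FiniteType R S₀ ∧ IsLocalization T A := by
      haveI : Algebra.EssFiniteType R A := h₁
      exact ⟨Algebra.EssFiniteType.subalgebra R A, inferInstance, inferInstance, inferInstance,
        inferInstance, Algebra.EssFiniteType.submonoid R A, inferInstance, inferInstance⟩
    have hS' : ∃ (S₀ : Type u) (_ : CommRing S₀) (_ : Algebra R S₀) (_ : Algebra S₀ B)
        (_ : IsScalarTower R S₀ B) (T : Submonoid S₀),
        Algebra.FinitePresentation R S₀ ∧ IsLocalization T B := by
      obtain ⟨S₀, i, a, b, hab, ha, T, hT⟩ := h₂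
      refine ⟨S₀, i, a.toAlgebra, b.toAlgebra, ?_, T, ha, hT⟩
      letI := a.toAlgebra
      letI := b.toAlgebra
      exact IsScalarTower.of_algebraMap_eq fun r => (RingHom.congr_fun hab r).symm
    exact fibre_criterion_ft (R := R) (S := A) (S' := B) (M := M) hSft hS' hfib
  · rintro ⟨hA, hM⟩
    haveI := hA
    haveI := hM
    refine ⟨Module.Flat.trans R A M, ?_⟩
    haveI : Module.Flat (A ⧸ I) ((A ⧸ I) ⊗[A] M) := inferInstance
    exact LocalFlat.flat_of_linearEquiv_of_surjective (R := A) (R₁ := A ⧸ I) (R₂ := A ⧸ I)
      Ideal.Quotient.mk_surjective Ideal.Quotient.mk_surjective le_rfl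
      (TensorProduct.quotTensorEquivQuotSMul M I)

end Groth.Agent.Lib.helper3.FibCritFP
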