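import Mathlib
import Groth.Prelude.Def_FlatMod2
import Groth.Agent.Lib.Helper3.FibCritFP2
import Groth.Agent.Lib.Helper16.FLF3
/-!
# Critère de platitude par fibres for modules on schemes (helper3)
-/

set_option autoImplicit false
set_option linter.style.haveILetI false
set_option linter.unusedSectionVars false
universe u

open CategoryTheory CategoryTheory.Limits AlgebraicGeometry TopologicalSpace Opposite

namespace Groth.Agent.Lib.helper3.FibCritSch

open Groth.Agent.Lib.helper3.FibCritFP
open Scheme.Modules Groth.Agent.Lib.helper16.QCohPullback Groth.Agent.Lib.helper16.CohFinite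
  Groth.Agent.Lib.helper16.CohFP Groth.Agent.Lib.helper16.CohStalk Groth.Agent.Lib.helper16.FLF

/-- Stalk maps of morphisms locally of finite presentation are essentially of finite
presentation. -/
theorem essFP_stalkMap {X S : Scheme.{u}} (f : X ⟶ S) [LocallyOfFinitePresentation f] (x : X) :
    EssFP (f.stalkMap x).hom :=
  HasRingHomProperty.stalkMap_of_respectsIso (P := @LocallyOfFinitePresentation)
    EssFP.respectsIso (fun f hf J _ => essFP_localRingHom f hf J) inferInstance x

/-- Stalks of a finitely presented module are finitely presented. -/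
theorem finitePresentation_stalk {X : Scheme.{u}} (M : X.Modules) (hfp : CohB1.IsFP M) (x : X) :
    Module.FinitePresentation (X.presheaf.stalk x) (M.presheaf.stalk x) := by
  haveI : M.IsQuasicoherent := inferInstance
  obtain ⟨U, hU, hx, -⟩ := Opens.isBasis_iff_nbhd.mp X.isBasis_affineOpens
    (show x ∈ (⊤ : X.Opens) from trivial)
  haveI := fp_sections_of_isFinitePresentation M hfp hU
  letI := TopCat.Presheaf.algebra_section_stalk X.presheaf (⟨x, hx⟩ : U)
  letI := modStalk M x hx
  haveI := isScalarTower_stalk M x hx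
  haveI : IsLocalization.AtPrime (X.presheaf.stalk x) (hU.primeIdealOf ⟨x, hx⟩).asIdeal :=
    hU.isLocalization_stalk ⟨x, hx⟩
  haveI := isLocalizedModule_stalk M hU x hx
  exact FinitePresentation.of_isBaseChange (germLin M x hx)
    ((isLocalizedModule_iff_isBaseChange (hU.primeIdealOf ⟨x, hx⟩).asIdeal.primeCompl
      (X.presheaf.stalk x) (germLin M x hx)).mp inferInstance)

/-- **Critère de platitude par fibres** for a finitely presented module on a scheme, pointwise
equivalence (EGA IV 11.3.10). -/
theorem critere_module {X Y S : Scheme.{u}} (f : X ⟶ Y) (g : Y ⟶ S)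
    [LocallyOfFinitePresentation (f ≫ g)] [LocallyOfFiniteType g]
    (F : X.Modules) (hfp : CohB1.IsFP F) (x : X) (hx : Nontrivial ↑(F.presheaf.stalk x)) :
    letI := FlatMod.moduleStalkOver f F x
    (FlatMod.IsFlatOverAt (f ≫ g) F x ∧
      Module.Flat (↑(Y.presheaf.stalk (f x)) ⧸ Ideal.map (g.stalkMap (f x)).hom
          (IsLocalRing.maximalIdeal ↑(S.presheaf.stalk (g (f x)))))
        (↑(F.presheaf.stalk x) ⧸ (Ideal.map (g.stalkMap (f x)).hom
          (IsLocalRing.maximalIdeal ↑(S.presheaf.stalk (g (f x)))) •
          (⊤ : Submodule ↑(Y.presheaf.stalk (f x)) ↑(F.presheaf.stalk x))))) ↔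
    ((g.stalkMap (f x)).hom.Flat ∧ FlatMod.IsFlatOverAt f F x) := by
  haveI := finitePresentation_stalk F hfp x
  have h₁ : (g.stalkMap (f x)).hom.EssFiniteType := LocallyOfFiniteType.stalkMap g (f x)
  have e : ((f ≫ g).stalkMap x).hom = (f.stalkMap x).hom.comp (g.stalkMap (f x)).hom := by
    rw [Scheme.Hom.stalkMap_comp]
    rfl
  have h₂ : EssFP ((f.stalkMap x).hom.comp (g.stalkMap (f x)).hom) := by
    have := essFP_stalkMap (f ≫ g) x
    rwa [e] at this
  have key := fibre_criterion_iff (M := F.presheaf.stalk x) (g.stalkMap (f x)).hom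
    (f.stalkMap x).hom h₁ h₂
  have hflat : FlatMod.IsFlatOverAt (f ≫ g) F x ↔
      (letI : Module (S.presheaf.stalk (g (f x))) (F.presheaf.stalk x) :=
        Module.compHom (F.presheaf.stalk x) ((f.stalkMap x).hom.comp (g.stalkMap (f x)).hom);
        Module.Flat (S.presheaf.stalk (g (f x))) (F.presheaf.stalk x)) := by
    unfold FlatMod.IsFlatOverAt FlatMod.moduleStalkOver
    rw [e]
    exact Iff.rfl
  rw [hflat]
  exact key

end Groth.Agent.Lib.helper3.FibCritSch
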