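import Mathlib
import Groth.Agent.Lib.Helper3.FlatDescG
import Groth.Agent.Lib.Helper17.FlatOver1
import Groth.Agent.Lib.Helper16.CohFP
/-!
# Openness of the flat locus of a finitely presented quasi-coherent module (helper3)
EGA IV 11.3.1.
-/

set_option autoImplicit false
set_option linter.style.haveILetI false
universe u

open AlgebraicGeometry CategoryTheory TopologicalSpace

namespace Groth.Agent.Lib.helper3.FlatDesc

open Groth.Agent.Lib.helper3.FlatLocus Groth.Agent.Lib.helper17.FlatOver1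
  Groth.Agent.Lib.helper16.CohStalk Groth.Agent.Lib.helper16.CohFP Scheme.Modules

variable {X S : Scheme.{u}} (f : X ⟶ S) (F : X.Modules)

/-- chart description of relative flatness at a point. -/
theorem isFlatOverAt_iff_flat_localizedModule [F.IsQuasicoherent] {U : X.Opens} {V : S.Opens}
    (hUV : U ≤ f ⁻¹ᵁ V) (hU : IsAffineOpen U) (hV : IsAffineOpen V) (y : X) (hy : y ∈ U) :
    FlatMod.IsFlatOverAt f F y ↔
      (letI := (f.appLE V U hUV).hom.toAlgebra
       letI := modSecBase f F hUV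
       haveI := isScalarTower_sections f F hUV
       Module.Flat Γ(S, V)
        (LocalizedModule (hU.primeIdealOf ⟨y, hy⟩).asIdeal.primeCompl Γ(F, U))) := by
  rw [isFlatOverAt_iff_flat_stalk_sections f F hV y (hUV hy)]
  letI := (f.appLE V U hUV).hom.toAlgebra
  letI := modSecBase f F hUV
  haveI := isScalarTower_sections f F hUV
  letI := modStalk F y hy
  letI := modStalkBase f F y (hUV hy)
  haveI := isScalarTower_stalk_base f F hUV y hy
  haveI hloc := isLocalizedModule_stalk F hU y hy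
  constructor
  · intro h
    exact flat_of_le (hU.primeIdealOf ⟨y, hy⟩).asIdeal.primeCompl
      (hU.primeIdealOf ⟨y, hy⟩).asIdeal.primeCompl (germLin F y hy)
      (LocalizedModule.mkLinearMap _ Γ(F, U)) le_rfl h
  · intro h
    exact flat_of_le (hU.primeIdealOf ⟨y, hy⟩).asIdeal.primeCompl
      (hU.primeIdealOf ⟨y, hy⟩).asIdeal.primeCompl
      (LocalizedModule.mkLinearMap _ Γ(F, U)) (germLin F y hy) le_rfl h

theorem isOpen_flatLocus_modules [LocallyOfFinitePresentation f] [F.IsQuasicoherent]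
    (hF : SheafOfModules.IsFinitePresentation (R := X.ringCatSheaf) F) :
    IsOpen {x : X | FlatMod.IsFlatOverAt f F x} := by
  rw [isOpen_iff_forall_mem_open]
  intro x hx
  obtain ⟨_, ⟨V, hV : IsAffineOpen V, rfl⟩, hfxV, -⟩ :=
    S.isBasis_affineOpens.exists_subset_of_mem_open (Set.mem_univ (f x)) isOpen_univ
  obtain ⟨_, ⟨U, hU : IsAffineOpen U, rfl⟩, hxU, hUV'⟩ :=
    X.isBasis_affineOpens.exists_subset_of_mem_open (show x ∈ (f ⁻¹ᵁ V : Set X) from hfxV)
      (f ⁻¹ᵁ V).isOpen
  have hUV : U ≤ f ⁻¹ᵁ V := hUV'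
  have hfp : (f.appLE V U hUV).hom.FinitePresentation := f.finitePresentation_appLE hV hU hUV
  letI := (f.appLE V U hUV).hom.toAlgebra
  letI := modSecBase f F hUV
  haveI := isScalarTower_sections f F hUV
  haveI : Algebra.FinitePresentation Γ(S, V) Γ(X, U) := hfp
  haveI : Module.FinitePresentation Γ(X, U) Γ(F, U) := fp_sections_of_isFinitePresentation F hF hU
  have hopen := isOpen_flatLocus_of_finitePresentation (R := Γ(S, V)) (S := Γ(X, U))
    (M := Γ(F, U))
  set O : Set (PrimeSpectrum Γ(X, U)) :=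
    {q | Module.Flat Γ(S, V) (LocalizedModule q.asIdeal.primeCompl Γ(F, U))} with hO
  refine ⟨hU.fromSpec '' O, ?_, hU.fromSpec.isOpenEmbedding.isOpenMap _ hopen, ?_⟩
  · rintro _ ⟨q, hq, rfl⟩
    have hyU : hU.fromSpec q ∈ U := by
      rw [← SetLike.mem_coe, ← hU.range_fromSpec]
      exact Set.mem_range_self q
    have hq' : hU.primeIdealOf ⟨hU.fromSpec q, hyU⟩ = q :=
      hU.fromSpec.isOpenEmbedding.injective (hU.fromSpec_primeIdealOf ⟨hU.fromSpec q, hyU⟩)
    change FlatMod.IsFlatOverAt f F (hU.fromSpec q)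
    rw [isFlatOverAt_iff_flat_localizedModule f F hUV hU hV _ hyU, hq']
    exact hq
  · refine ⟨hU.primeIdealOf ⟨x, hxU⟩, ?_, hU.fromSpec_primeIdealOf ⟨x, hxU⟩⟩
    exact (isFlatOverAt_iff_flat_localizedModule f F hUV hU hV x hxU).mp hx

end Groth.Agent.Lib.helper3.FlatDesc
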