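import Mathlib
import Groth.Agent.Lib.Helper3.GeomRed2

/-!
Making the reduction geometrically reduced by a finite purely inseparable extension (helper3).
If `P` is a perfect algebraic extension of `k` and the nilradical of `P ⊗ A` is finitely generated,
there is a finite subextension `k'` of `P/k` such that `(k' ⊗ A)/nilradical` is geometrically
reduced over `k'` (EGA IV 4.6.6).
-/

set_option autoImplicit false
universe u

namespace Groth.Agent.Lib.helper3.PurInsepRed

open TensorProduct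

/-- descent of the nilradical from a perfect extension -/
theorem core {k : Type u} [Field k] (k' : Type u) [Field k'] [Algebra k k'] (P : Type u) [Field P]
    [Algebra k P] [Algebra k' P] [IsScalarTower k k' P] [PerfectField P]
    (A : Type u) [CommRing A] [Algebra k A] (N' : Ideal (k' ⊗[k] A))
    (hN : N'.map (Algebra.TensorProduct.map (IsScalarTower.toAlgHom k k' P) (AlgHom.id k A)) =
      nilradical (P ⊗[k] A)) :
    N' = nilradical (k' ⊗[k] A) ∧ Algebra.IsGeometricallyReduced k' ((k' ⊗[k] A) ⧸ N') := by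
  set ι := Algebra.TensorProduct.map (IsScalarTower.toAlgHom k k' P) (AlgHom.id k A) with hιdef
  have hι : Function.Injective ι :=
    Module.Flat.rTensor_preserves_injective_linearMap (M := A)
      (IsScalarTower.toAlgHom k k' P).toLinearMap (algebraMap k' P).injective
  let e : P ⊗[k'] (k' ⊗[k] A) ≃ₐ[k'] P ⊗[k] A :=
    Algebra.TensorProduct.cancelBaseChange k k' k' P A
  let incl : k' ⊗[k] A →ₐ[k'] P ⊗[k'] (k' ⊗[k] A) := Algebra.TensorProduct.includeRight
  let J : Ideal (P ⊗[k'] (k' ⊗[k] A)) := N'.map incl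
  have hcomp : ∀ x, e (incl x) = ι x := by
    intro x
    induction x using TensorProduct.induction_on with
    | zero => simp
    | tmul c a => simp [e, incl, ι, Algebra.smul_def]
    | add x y hx hy => rw [map_add, map_add, map_add, hx, hy]
  have hJ : nilradical (P ⊗[k] A) = J.map (e.toRingEquiv : _ →+* P ⊗[k] A) := by
    rw [← hN]
    have h1 : Ideal.map (e.toRingEquiv : P ⊗[k'] (k' ⊗[k] A) →+* P ⊗[k] A)
        (Ideal.map (incl : k' ⊗[k] A →+* P ⊗[k'] (k' ⊗[k] A)) N') =
        Ideal.map ((e.toRingEquiv : P ⊗[k'] (k' ⊗[k] A) →+* P ⊗[k] A).comp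
          (incl : k' ⊗[k] A →+* P ⊗[k'] (k' ⊗[k] A))) N' := Ideal.map_map _ _
    have h2 : (e.toRingEquiv : P ⊗[k'] (k' ⊗[k] A) →+* P ⊗[k] A).comp
          (incl : k' ⊗[k] A →+* P ⊗[k'] (k' ⊗[k] A)) = (ι : k' ⊗[k] A →+* P ⊗[k] A) :=
      RingHom.ext hcomp
    rw [h2] at h1
    exact h1.symm
  let r : (P ⊗[k'] (k' ⊗[k] A)) ⧸ J ≃+* (P ⊗[k] A) ⧸ nilradical (P ⊗[k] A) :=
    Ideal.quotientEquiv J _ e.toRingEquiv hJ
  let q : P ⊗[k'] ((k' ⊗[k] A) ⧸ N') ≃ₐ[k'] (P ⊗[k'] (k' ⊗[k] A)) ⧸ J :=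
    Algebra.TensorProduct.tensorQuotientEquiv (R := k') k' (k' ⊗[k] A) P N'
  have hred0 : _root_.IsReduced ((P ⊗[k] A) ⧸ nilradical (P ⊗[k] A)) :=
    (Ideal.isRadical_iff_quotient_reduced _).mp (Ideal.radical_isRadical _)
  let g : P ⊗[k'] ((k' ⊗[k] A) ⧸ N') →+* (P ⊗[k] A) ⧸ nilradical (P ⊗[k] A) :=
    (r : (P ⊗[k'] (k' ⊗[k] A)) ⧸ J →+* (P ⊗[k] A) ⧸ nilradical (P ⊗[k] A)).comp
      (q : P ⊗[k'] ((k' ⊗[k] A) ⧸ N') →+* (P ⊗[k'] (k' ⊗[k] A)) ⧸ J)
  have hg : Function.Injective g := r.injective.comp q.injective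
  have hred : _root_.IsReduced (P ⊗[k'] ((k' ⊗[k] A) ⧸ N')) := isReduced_of_injective g hg
  have hgeom : Algebra.IsGeometricallyReduced k' ((k' ⊗[k] A) ⧸ N') :=
    GeomRed.isGeometricallyReduced_of_perfect_ext P _ hred
  refine ⟨le_antisymm ?_ ?_, hgeom⟩
  · intro x hx
    have h1 : ι x ∈ nilradical (P ⊗[k] A) := by
      rw [← hN]
      exact Ideal.mem_map_of_mem _ hx
    exact mem_nilradical.mpr ((IsNilpotent.map_iff hι).mp (mem_nilradical.mp h1))
  · have : _root_.IsReduced ((k' ⊗[k] A) ⧸ N') := Algebra.isReduced_of_isGeometricallyReduced k'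
    have hrad : N'.IsRadical := (Ideal.isRadical_iff_quotient_reduced _).mpr this
    calc nilradical (k' ⊗[k] A) ≤ N'.radical := Ideal.radical_mono bot_le
      _ = N' := hrad.radical

/-- EGA IV 4.6.6, algebra form: a finite subextension of a perfect algebraic extension makes the
reduction geometrically reduced, as soon as the nilradical over the perfect extension is
finitely generated -/
theorem exists_intermediateField {k : Type u} [Field k] (P : Type u) [Field P] [Algebra k P]
    [Algebra.IsAlgebraic k P] [PerfectField P] (A : Type u) [CommRing A] [Algebra k A]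
    (hfg : (nilradical (P ⊗[k] A)).FG) :
    ∃ (k' : Type u) (_ : Field k') (_ : Algebra k k') (_ : Algebra k' P)
      (_ : IsScalarTower k k' P), FiniteDimensional k k' ∧
      Algebra.IsGeometricallyReduced k' ((k' ⊗[k] A) ⧸ nilradical (k' ⊗[k] A)) := by
  classical
  obtain ⟨s, hs⟩ := hfg
  obtain ⟨M', hM'fin, hsub⟩ :=
    TensorProduct.exists_finite_submodule_left_of_setFinite (s : Set (P ⊗[k] A)) s.finite_toSet
  obtain ⟨t, ht⟩ := Module.Finite.iff_fg.mp hM'fin
  let k' : IntermediateField k P := IntermediateField.adjoin k (t : Set P)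
  have hfin : FiniteDimensional k k' :=
    IntermediateField.finiteDimensional_adjoin fun x _ =>
      (Algebra.IsAlgebraic.isAlgebraic x).isIntegral
  have hle : ∀ m ∈ M', m ∈ k' := by
    intro m hm
    rw [← ht] at hm
    refine Submodule.span_induction (p := fun x _ => x ∈ k') ?_ ?_ ?_ ?_ hm
    · intro x hx
      exact IntermediateField.subset_adjoin k _ hx
    · exact zero_mem _
    · intro x y _ _ hx hy
      exact add_mem hx hy
    · intro c x _ hx
      exact IntermediateField.smul_mem _ hx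
  set ι := Algebra.TensorProduct.map (IsScalarTower.toAlgHom k k' P) (AlgHom.id k A) with hιdef
  have hrange : ∀ y : M' ⊗[k] A, ∃ z : k' ⊗[k] A, ι z = (M'.subtype.rTensor A) y := by
    intro y
    induction y using TensorProduct.induction_on with
    | zero => exact ⟨0, by simp⟩
    | tmul m a => exact ⟨⟨m.1, hle m.1 m.2⟩ ⊗ₜ a, by simp [ι]⟩
    | add y₁ y₂ h₁ h₂ =>
      obtain ⟨z₁, hz₁⟩ := h₁
      obtain ⟨z₂, hz₂⟩ := h₂
      exact ⟨z₁ + z₂, by rw [map_add, map_add, hz₁, hz₂]⟩
  have hsr : (s : Set (P ⊗[k] A)) ⊆ Set.range ι := by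
    intro x hx
    obtain ⟨y, rfl⟩ := hsub hx
    obtain ⟨z, hz⟩ := hrange y
    exact ⟨z, hz⟩
  let N' : Ideal (k' ⊗[k] A) := Ideal.span (ι ⁻¹' (s : Set (P ⊗[k] A)))
  have hN : N'.map ι = nilradical (P ⊗[k] A) := by
    rw [Ideal.map_span, Set.image_preimage_eq_of_subset hsr, hs]
  obtain ⟨h1, h2⟩ := core k' P A N' hN
  rw [h1] at h2
  exact ⟨k', inferInstance, inferInstance, inferInstance, inferInstance, hfin, h2⟩

end Groth.Agent.Lib.helper3.PurInsepRed
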