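import Mathlib
import Groth.Agent.Lib.Helper23.TA10
import Groth.Agent.Lib.Helper23.DRingPC4
import Groth.Agent.Lib.Helper23.DRingPC2
/-!
# helper3: projective dimension = Tor dimension for pseudo-coherent modules

* `hasProjectiveDimensionLT_of_pcMod_of_torVan` : a pseudo-coherent module `M` (i.e. one having a
  resolution by finite free modules) with `Tor_p(M, -) = 0` for `p > d` has projective dimension `≤ d`.
* `hasProjectiveDimensionLT_iff_tor` : for pseudo-coherent `M`,
  `pd M < i ↔ ∀ j ≥ i, Tor_j(M, -) = 0`.
* `projectiveDimension_eq_torDim`.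
-/

set_option autoImplicit false
universe u
open CategoryTheory CategoryTheory.Limits MonoidalCategory

attribute [local instance] HasDerivedCategory.standard

namespace Groth.Agent.Lib.helper3.PdTor

open Groth.Agent.Lib.helper7.TorAPI Groth.Agent.Lib.helper23.TA Groth.Agent.Lib.helper23.PCohCore
  Groth.Agent.Lib.helper23.DRingPC

variable {B : Type u} [CommRing B]

lemma pcMod_free (n : ℕ) : PCMod B (ModuleCat.of B (Fin n → B)) := fun a =>
  NPC.single_of_prop (FF B) ⟨inferInstanceAs (Module.Finite B (Fin n → B)),
    inferInstanceAs (Module.Free B (Fin n → B))⟩ 0 a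

/-- a pseudo-coherent module is the quotient of a finite free module by a pseudo-coherent module. -/
theorem exists_shortExact_of_pcMod (M : ModuleCat.{u} B) (hpc : PCMod B M) :
    ∃ (S : ShortComplex (ModuleCat.{u} B)) (_ : S.ShortExact) (n : ℕ),
      S.X₃ = M ∧ S.X₂ = ModuleCat.of B (Fin n → B) ∧ PCMod B S.X₁ := by
  haveI : Module.Finite B M := (npc_zero_single_iff_finite B M).1 (hpc 0)
  obtain ⟨n, f, hf⟩ := Module.Finite.exists_fin' B M
  let π : ModuleCat.of B (Fin n → B) ⟶ M := ModuleCat.ofHom f
  haveI : Epi π := (ModuleCat.epi_iff_surjective _).2 hf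
  let S : ShortComplex (ModuleCat.{u} B) := ShortComplex.mk (kernel.ι π) π (kernel.condition π)
  have hS : S.ShortExact :=
    { exact := ShortComplex.exact_of_f_is_kernel _ (kernelIsKernel _)
      mono_f := by dsimp [S]; infer_instance
      epi_g := by dsimp [S]; infer_instance }
  refine ⟨S, hS, n, rfl, rfl, fun m => ?_⟩
  have h := (NPC.two_of_three (FF B) (FF_sum _) (FF_hqs _) (FF_hql _) (m - 1)
    hS.singleTriangle hS.singleTriangle_distinguished).2.2
  have h2 : NPC (FF B) (m - 1 + 1)
      ((DerivedCategory.singleFunctor (ModuleCat.{u} B) 0).obj (ModuleCat.of B (Fin n → B))) :=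
    pcMod_free n _
  have := h h2 (hpc (m - 1))
  simpa using this

/-- **Key**: pseudo-coherent + Tor-dimension `≤ d` implies projective dimension `≤ d`. -/
theorem hasProjectiveDimensionLT_of_pcMod_of_torVan : ∀ (d : ℕ) (M : ModuleCat.{u} B),
    PCMod B M → TorVan d M → HasProjectiveDimensionLT M (d + 1) := by
  intro d
  induction d with
  | zero =>
    intro M hpc htv
    haveI : Module.Flat B M := (torVan_zero_iff_flat M).1 htv
    haveI : Module.FinitePresentation B M :=
      (npc_negOne_single_iff_finitePresentation B M).1 (hpc (-1))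
    haveI : Module.Projective B M := Module.Flat.projective_of_finitePresentation
    haveI : Projective M := by
      have := (IsProjective.iff_projective (R := B) (P := M)).1 inferInstance
      exact this
    infer_instance
  | succ d ih =>
    intro M hpc htv
    obtain ⟨S, hS, n, h3, h2, h1⟩ := exists_shortExact_of_pcMod M hpc
    subst h3
    haveI : Module.Flat B S.X₂ := by rw [h2]; exact inferInstanceAs (Module.Flat B (Fin n → B))
    haveI : Projective S.X₂ := by
      rw [h2]
      exact (IsProjective.iff_projective (R := B) (P := (Fin n → B))).1 inferInstance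
    have htv1 : TorVan d S.X₁ := by
      intro N q hq
      obtain ⟨r, rfl⟩ : ∃ r, q = r + 1 := ⟨q - 1, by omega⟩
      exact (Groth.Agent.Lib.helper7.TorAPI.isZero_succ_iff₁ hS N (r + 1)
        (isZero_T_flat _ N (r + 1)) (isZero_T_flat _ N r)).1 (htv N (r + 1 + 1) (by omega))
    have hK := ih S.X₁ h1 htv1
    have hX₂ : HasProjectiveDimensionLT S.X₂ (d + 1 + 1) :=
      hasProjectiveDimensionLT_of_ge S.X₂ 1 (d + 1 + 1) (by omega)
    exact hS.hasProjectiveDimensionLT_X₃ (d + 1) hK hX₂

lemma isZero_of_isZero_T_zero (M : ModuleCat.{u} B)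
    (h : IsZero ((T 0 M).obj (ModuleCat.of B B))) : IsZero M := by
  have h1 : IsZero ((tF M).obj (ModuleCat.of B B)) := h.of_iso ((tor0Iso M).app _).symm
  exact h1.of_iso (ρ_ M).symm

lemma isZero_T_of_isZero (M N : ModuleCat.{u} B) (h : IsZero M) (j : ℕ) :
    IsZero ((T j M).obj N) := by
  haveI : Subsingleton M := ModuleCat.subsingleton_of_isZero h
  haveI : Module.Flat B M := inferInstance
  cases j with
  | zero =>
    refine IsZero.of_iso ?_ ((tor0Iso M).app N)
    change IsZero (M ⊗ N)
    have : Subsingleton (TensorProduct B M N) := inferInstance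
    exact ModuleCat.isZero_of_subsingleton _
  | succ j => exact isZero_T_flat M N j

theorem hasProjectiveDimensionLT_iff_tor (M : ModuleCat.{u} B) (hpc : PCMod B M) (i : ℕ) :
    HasProjectiveDimensionLT M i ↔
      ∀ j : ℕ, i ≤ j → ∀ N : ModuleCat.{u} B, IsZero ((T j M).obj N) := by
  cases i with
  | zero =>
    rw [hasProjectiveDimensionLT_zero_iff_isZero]
    constructor
    · intro h j _ N
      exact isZero_T_of_isZero M N h j
    · intro h
      exact isZero_of_isZero_T_zero M (h 0 le_rfl _)
  | succ d =>
    constructor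
    · intro h j hj N
      have h1 := hasTorAmplitudeIn_of_hasProjectiveDimensionLT d M h
      exact (torVan_iff_hasTorAmplitudeIn d M).2 h1 N j (by omega)
    · intro h
      exact hasProjectiveDimensionLT_of_pcMod_of_torVan d M hpc
        (fun N p hp => h p (by omega) N)

theorem projectiveDimension_eq_torDim (M : ModuleCat.{u} B) (hpc : PCMod B M) :
    projectiveDimension M =
      sInf {n : WithBot ℕ∞ | ∀ i : ℕ, n < i → ∀ N : ModuleCat.{u} B,
        Limits.IsZero (((Tor (ModuleCat.{u} B) i).obj M).obj N)} := by
  unfold projectiveDimension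
  congr 1
  ext n
  simp only [Set.mem_ofPred_eq]
  constructor
  · intro h i hi N
    exact (hasProjectiveDimensionLT_iff_tor M hpc i).1 (h i hi) i le_rfl N
  · intro h i hi
    exact (hasProjectiveDimensionLT_iff_tor M hpc i).2
      (fun j hj N => h j (lt_of_lt_of_le hi (by exact_mod_cast hj)) N)

end Groth.Agent.Lib.helper3.PdTor
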