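import Mathlib
import Groth.Agent.Lib.Helper10.MinRes
/-!
# Base change of finite free resolutions of flat modules (helper3)

* `exact_lTensor_of_flat_range` : a three-term criterion for exactness after tensoring.
* `flat_ker_of_surjective` : the kernel of a surjection of flat modules is flat.
* `exact_lTensor_resolution` : a resolution `… → X₁ → X₀ → M → 0` by flat modules of a flat module
  stays exact after any tensoring.
* `Res.baseChange` : base change of a finite free resolution (helper10's `MinRes.Res`) of a module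
  `M₀` over `B₀` along `B₀ → B = A ⊗[A₀] B₀`, when `B₀` and `M₀` are flat over `A₀`.
-/

set_option autoImplicit false
set_option linter.style.haveILetI false
universe u

open TensorProduct

namespace Groth.Agent.Lib.helper3.ResBaseChange

section Three

variable {R : Type*} [CommRing R] {X₂ X₁ X₀ Y : Type*} [AddCommGroup X₂] [AddCommGroup X₁]
  [AddCommGroup X₀] [AddCommGroup Y] [Module R X₂] [Module R X₁] [Module R X₀] [Module R Y]

/-- kernel of a surjection of flat modules is flat (cf. helper13 `flat_of_exact_of_flat`). -/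
theorem flat_ker_of_surjective [Module.Flat R X₁] [Module.Flat R X₀] (f : X₁ →ₗ[R] X₀)
    (hf : Function.Surjective f) : Module.Flat R (LinearMap.ker f) := by
  rw [Module.Flat.iff_rTensor_injective']
  intro J
  set ι := (LinearMap.ker f).subtype with hι
  have h1 : Function.Injective (ι.lTensor J) :=
    LinearMap.lTensor_injective_of_exact_of_flat f hf ι (Submodule.injective_subtype _)
      (LinearMap.exact_subtype_ker_map f) J
  have h2 : Function.Injective (J.subtype.rTensor X₁) :=
    Module.Flat.rTensor_preserves_injective_linearMap _ (Submodule.injective_subtype J)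
  have h3 : (ι.lTensor R) ∘ₗ (J.subtype.rTensor (LinearMap.ker f)) =
      (J.subtype.rTensor X₁) ∘ₗ (ι.lTensor J) := by
    rw [LinearMap.lTensor_comp_rTensor, LinearMap.rTensor_comp_lTensor]
  have h4 : Function.Injective ((ι.lTensor R) ∘ₗ (J.subtype.rTensor (LinearMap.ker f))) := by
    rw [h3]
    exact h2.comp h1
  exact Function.Injective.of_comp h4

/-- exactness of `N ⊗ X₂ → N ⊗ X₁ → N ⊗ X₀` from exactness of `X₂ → X₁ → X₀ → Y` and flatness of
the image of `X₀ → Y`. -/
theorem exact_lTensor_of_flat_range (N : Type*) [AddCommGroup N] [Module R N]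
    (d₂ : X₂ →ₗ[R] X₁) (d₁ : X₁ →ₗ[R] X₀) (d₀ : X₀ →ₗ[R] Y)
    (h21 : Function.Exact d₂ d₁) (h10 : Function.Exact d₁ d₀)
    [Module.Flat R (LinearMap.range d₀)] :
    Function.Exact (d₂.lTensor N) (d₁.lTensor N) := by
  set p₁ := d₁.rangeRestrict with hp₁
  set ι₁ := (LinearMap.range d₁).subtype with hι₁
  set p₀ := d₀.rangeRestrict with hp₀
  have hd₁ : d₁ = ι₁ ∘ₗ p₁ := by ext x; rfl
  have hinj : Function.Injective (ι₁.lTensor N) := by
    refine LinearMap.lTensor_injective_of_exact_of_flat p₀ d₀.surjective_rangeRestrict ι₁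
      (Submodule.injective_subtype _) ?_ N
    intro x
    constructor
    · intro hx
      have : d₀ x = 0 := congrArg Subtype.val hx
      obtain ⟨y, hy⟩ := (h10 x).mp this
      exact ⟨⟨x, ⟨y, hy⟩⟩, rfl⟩
    · rintro ⟨⟨_, ⟨y, rfl⟩⟩, rfl⟩
      apply Subtype.ext
      exact (h10 _).mpr ⟨y, rfl⟩
  have hex : Function.Exact (d₂.lTensor N) (p₁.lTensor N) := by
    refine lTensor_exact N ?_ d₁.surjective_rangeRestrict
    intro x
    constructor
    · intro hx
      exact (h21 x).mp (congrArg Subtype.val hx)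
    · rintro ⟨y, rfl⟩
      apply Subtype.ext
      exact (h21 _).mpr ⟨y, rfl⟩
  intro x
  have hx : d₁.lTensor N x = ι₁.lTensor N (p₁.lTensor N x) := by
    rw [← LinearMap.comp_apply, ← LinearMap.lTensor_comp, ← hd₁]
  rw [← hex x, hx]
  constructor
  · intro h
    exact hinj (by rw [h, map_zero])
  · intro h
    rw [h, map_zero]

end Three

section Resolution

variable {R : Type*} [CommRing R] {X : ℕ → Type*} [∀ i, AddCommGroup (X i)]
  [∀ i, Module R (X i)] [∀ i, Module.Flat R (X i)]
  {M : Type*} [AddCommGroup M] [Module R M] [Module.Flat R M]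
  (d : ∀ i, X (i + 1) →ₗ[R] X i) (aug : X 0 →ₗ[R] M) (haug : Function.Surjective aug)
  (h0 : Function.Exact (d 0) aug) (hs : ∀ i, Function.Exact (d (i + 1)) (d i))

include haug h0 hs in
/-- all the syzygies of a flat resolution of a flat module are flat. -/
theorem flat_range (i : ℕ) : Module.Flat R (LinearMap.range (d i)) := by
  induction i with
  | zero =>
    haveI := flat_ker_of_surjective aug haug
    exact Module.Flat.of_linearEquiv (LinearEquiv.ofEq _ _ (LinearMap.exact_iff.mp h0).symm)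
  | succ i ih =>
    haveI := ih
    haveI := flat_ker_of_surjective (d i).rangeRestrict (d i).surjective_rangeRestrict
    have h1 : LinearMap.range (d (i + 1)) = LinearMap.ker (d i).rangeRestrict := by
      rw [LinearMap.ker_rangeRestrict]
      exact (LinearMap.exact_iff.mp (hs i)).symm
    exact Module.Flat.of_linearEquiv (LinearEquiv.ofEq _ _ h1)

include haug h0 hs in
/-- a resolution by flat modules of a flat module stays exact after tensoring. -/
theorem exact_lTensor_resolution (N : Type*) [AddCommGroup N] [Module R N] (i : ℕ) :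
    Function.Exact ((d (i + 1)).lTensor N) ((d i).lTensor N) := by
  cases i with
  | zero =>
    haveI : Module.Flat R (LinearMap.range aug) :=
      Module.Flat.of_linearEquiv ((LinearEquiv.ofEq _ _ (LinearMap.range_eq_top.mpr haug)).trans
        Submodule.topEquiv)
    exact exact_lTensor_of_flat_range N (d 1) (d 0) aug (hs 0) h0
  | succ i =>
    haveI := flat_range d aug haug h0 hs i
    exact exact_lTensor_of_flat_range N (d (i + 1 + 1)) (d (i + 1)) (d i) (hs (i + 1)) (hs i)

end Resolution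

section Conj

variable {R : Type*} [CommRing R] {X₁ X₂ X₃ Y₁ Y₂ Y₃ : Type*} [AddCommGroup X₁] [AddCommGroup X₂]
  [AddCommGroup X₃] [AddCommGroup Y₁] [AddCommGroup Y₂] [AddCommGroup Y₃]
  [Module R X₁] [Module R X₂] [Module R X₃] [Module R Y₁] [Module R Y₂] [Module R Y₃]

theorem ker_eq_range_conj (e₁ : X₁ ≃ₗ[R] Y₁) (e₂ : X₂ ≃ₗ[R] Y₂) (e₃ : X₃ ≃ₗ[R] Y₃)
    (f : X₁ →ₗ[R] X₂) (g : X₂ →ₗ[R] X₃) (h : Function.Exact f g) :
    LinearMap.ker (e₃.toLinearMap ∘ₗ g ∘ₗ e₂.symm.toLinearMap) =
      LinearMap.range (e₂.toLinearMap ∘ₗ f ∘ₗ e₁.symm.toLinearMap) := by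
  ext y
  simp only [LinearMap.mem_ker, LinearMap.comp_apply, LinearEquiv.coe_coe,
    EmbeddingLike.map_eq_zero_iff, LinearMap.mem_range]
  rw [h (e₂.symm y)]
  constructor
  · rintro ⟨x, hx⟩
    exact ⟨e₁ x, by rw [LinearEquiv.symm_apply_apply, hx, LinearEquiv.apply_symm_apply]⟩
  · rintro ⟨x, rfl⟩
    exact ⟨e₁.symm x, by rw [LinearEquiv.symm_apply_apply]⟩

theorem flat_pi_fin {A B : Type*} [CommRing A] [AddCommGroup B] [Module A B] [Module.Flat A B]
    (r : ℕ) : Module.Flat A (Fin r → B) :=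
  Module.Flat.of_linearEquiv (DFinsupp.linearEquivFunOnFintype (R := A) (M := fun _ : Fin r => B)).symm

end Conj

section Pushout

variable (A₀ A B₀ B : Type*) [CommRing A₀] [CommRing A] [CommRing B₀] [CommRing B]
  [Algebra A₀ A] [Algebra A₀ B₀] [Algebra A₀ B] [Algebra B₀ B] [Algebra A B]
  [IsScalarTower A₀ B₀ B] [IsScalarTower A₀ A B] [Algebra.IsPushout A₀ A B₀ B]
  {X Y Z : Type*} [AddCommGroup X] [Module A₀ X] [Module B₀ X] [IsScalarTower A₀ B₀ X]
  [AddCommGroup Y] [Module A₀ Y] [Module B₀ Y] [IsScalarTower A₀ B₀ Y]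
  [AddCommGroup Z] [Module A₀ Z] [Module B₀ Z] [IsScalarTower A₀ B₀ Z]

/-- naturality of `B ⊗[B₀] X ≃ A ⊗[A₀] X`. -/
theorem cancelBaseChange_symm_lTensor (f : X →ₗ[B₀] Y) (y : A ⊗[A₀] X) :
    (Algebra.IsPushout.cancelBaseChange A₀ A B₀ B Y).symm
        (((f.restrictScalars A₀).lTensor A) y) =
      (f.lTensor B) ((Algebra.IsPushout.cancelBaseChange A₀ A B₀ B X).symm y) := by
  induction y using TensorProduct.induction_on with
  | zero => simp
  | add x y hx hy => simp only [map_add, hx, hy]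
  | tmul a x => simp

/-- exactness of `B ⊗[B₀] -` from exactness of `A ⊗[A₀] -`. -/
theorem exact_lTensor_of_isPushout (f : X →ₗ[B₀] Y) (g : Y →ₗ[B₀] Z)
    (h : Function.Exact ((f.restrictScalars A₀).lTensor A) ((g.restrictScalars A₀).lTensor A)) :
    Function.Exact (f.lTensor B) (g.lTensor B) := by
  set cX := Algebra.IsPushout.cancelBaseChange A₀ A B₀ B X with hcX
  set cY := Algebra.IsPushout.cancelBaseChange A₀ A B₀ B Y with hcY
  set cZ := Algebra.IsPushout.cancelBaseChange A₀ A B₀ B Z with hcZ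
  intro y
  have h1 : (g.lTensor B) y = cZ.symm (((g.restrictScalars A₀).lTensor A) (cY y)) := by
    rw [hcZ, hcY, cancelBaseChange_symm_lTensor, LinearEquiv.symm_apply_apply]
  rw [h1, LinearEquiv.map_eq_zero_iff, h (cY y)]
  constructor
  · rintro ⟨x, hx⟩
    refine ⟨cX.symm x, ?_⟩
    rw [hcX, ← cancelBaseChange_symm_lTensor, hx, LinearEquiv.symm_apply_apply]
  · rintro ⟨x, rfl⟩
    refine ⟨cX x, ?_⟩
    apply cY.symm.injective
    rw [hcY, hcX, cancelBaseChange_symm_lTensor, LinearEquiv.symm_apply_apply,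
      LinearEquiv.symm_apply_apply]

end Pushout

section ResBC

open Groth.Agent.Lib.helper10.MinRes

variable {A₀ A B₀ B : Type u} [CommRing A₀] [CommRing A] [CommRing B₀] [CommRing B]
  [Algebra A₀ A] [Algebra A₀ B₀] [Algebra A₀ B] [Algebra B₀ B] [Algebra A B]
  [IsScalarTower A₀ B₀ B] [IsScalarTower A₀ A B] [Algebra.IsPushout A₀ A B₀ B]
  {M₀ M : Type u} [AddCommGroup M₀] [Module B₀ M₀] [Module A₀ M₀] [IsScalarTower A₀ B₀ M₀]
  [Module.Flat A₀ B₀] [Module.Flat A₀ M₀] [AddCommGroup M] [Module B M]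

/-- the identification `B ⊗[B₀] B₀^r ≃ B^r`. -/
noncomputable abbrev tau (B₀ B : Type u) [CommRing B₀] [CommRing B] [Algebra B₀ B] (r : ℕ) :
    B ⊗[B₀] (Fin r → B₀) ≃ₗ[B] (Fin r → B) :=
  TensorProduct.piScalarRight B₀ B B (Fin r)

include A₀ A in
/-- exactness of the base change of a resolution. -/
theorem exact_baseChange_res (F₀ : Res B₀ M₀) (i : ℕ) :
    Function.Exact ((F₀.dLin (i + 1)).lTensor B) ((F₀.dLin i).lTensor B) := by
  apply exact_lTensor_of_isPushout A₀ A B₀ B
  haveI : ∀ j, Module.Flat A₀ (Fin (F₀.rk j) → B₀) := fun j => flat_pi_fin _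
  refine exact_lTensor_resolution (R := A₀) (X := fun j => Fin (F₀.rk j) → B₀) (M := M₀)
    (fun j => (F₀.dLin j).restrictScalars A₀) (F₀.augLin.restrictScalars A₀) F₀.aug_surjective
    ?_ ?_ A i
  · have : Function.Exact (F₀.dLin 0) F₀.augLin := LinearMap.exact_iff.mpr F₀.exact_zero
    exact this
  · intro j
    have : Function.Exact (F₀.dLin (j + 1)) (F₀.dLin j) :=
      LinearMap.exact_iff.mpr (F₀.exact_succ j)
    exact this

variable (A₀ A) in
/-- **Base change of a finite free resolution** of an `A₀`-flat module over an `A₀`-flat algebra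
`B₀` along `B₀ → B = A ⊗[A₀] B₀`. -/
noncomputable def resBaseChange (F₀ : Res B₀ M₀) (ε : B ⊗[B₀] M₀ ≃ₗ[B] M) : Res B M where
  rk := F₀.rk
  dLin i := (tau B₀ B (F₀.rk i)).toLinearMap ∘ₗ (LinearMap.baseChange B (F₀.dLin i)) ∘ₗ
    (tau B₀ B (F₀.rk (i + 1))).symm.toLinearMap
  augLin := ε.toLinearMap ∘ₗ (LinearMap.baseChange B F₀.augLin) ∘ₗ
    (tau B₀ B (F₀.rk 0)).symm.toLinearMap
  aug_surjective := by
    have h1 : Function.Surjective (LinearMap.baseChange B F₀.augLin) := by
      rw [LinearMap.baseChange_eq_ltensor]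
      exact LinearMap.lTensor_surjective B F₀.aug_surjective
    exact ε.surjective.comp (h1.comp (tau B₀ B (F₀.rk 0)).symm.surjective)
  exact_zero := by
    refine ker_eq_range_conj (tau B₀ B (F₀.rk 1)) (tau B₀ B (F₀.rk 0)) ε _ _ ?_
    rw [LinearMap.baseChange_eq_ltensor, LinearMap.baseChange_eq_ltensor]
    exact lTensor_exact B (LinearMap.exact_iff.mpr F₀.exact_zero) F₀.aug_surjective
  exact_succ i := by
    refine ker_eq_range_conj (tau B₀ B (F₀.rk (i + 1 + 1))) (tau B₀ B (F₀.rk (i + 1)))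
      (tau B₀ B (F₀.rk i)) _ _ ?_
    rw [LinearMap.baseChange_eq_ltensor, LinearMap.baseChange_eq_ltensor]
    exact exact_baseChange_res (A₀ := A₀) (A := A) F₀ i

end ResBC

end Groth.Agent.Lib.helper3.ResBaseChange
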