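import Mathlib
import Groth.Prelude.Def_DRing2
import Groth.Prelude.Def_MoreMor
import Groth.Agent.Lib.Helper23.DRingPC7
import Groth.Agent.Lib.Helper23.TA10
import Groth.Agent.S5929

/-!
# helper3: pseudo-coherence of flat finitely presented algebras over polynomial rings

* `isPseudoCoherent'_single_of_projectiveResolution`: a module with a projective resolution by finite free
  modules is pseudo-coherent.
* `isPseudoCoherentModule'_of_flat`: `A → B` flat of finite presentation, `φ : A[x_1..x_n] →ₐ[A] B` surjective
  ⇒ `B` is a pseudo-coherent `A[x]`-module.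
-/

set_option autoImplicit false
universe u
open CategoryTheory CategoryTheory.Limits

attribute [local instance] HasDerivedCategory.standard

namespace Groth.Agent.Lib.helper3.PCFlat

theorem isPseudoCoherent'_single_of_projectiveResolution {R : Type u} [CommRing R]
    (M : ModuleCat.{u} R) (P : ProjectiveResolution M)
    (h : ∀ n : ℕ, Module.Finite R (P.complex.X n) ∧ Module.Free R (P.complex.X n)) :
    DRing.IsPseudoCoherent' R ((DerivedCategory.singleFunctor (ModuleCat.{u} R) 0).obj M) := by
  refine ⟨P.cochainComplex, 0, ?_, ?_, ⟨?_⟩⟩
  · intro i hi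
    exact CochainComplex.isZero_of_isStrictlyLE _ 0 _ hi
  · intro i
    by_cases hi : i ≤ 0
    · obtain ⟨k, rfl⟩ := Int.exists_eq_neg_ofNat hi
      have e := (P.cochainComplexXIso (-k) k rfl).toLinearEquiv
      haveI := (h k).1
      haveI := (h k).2
      exact ⟨Module.Finite.equiv e.symm, Module.Free.of_equiv e.symm⟩
    · have hz : IsZero (P.cochainComplex.X i) :=
        CochainComplex.isZero_of_isStrictlyLE _ 0 _ (by omega)
      haveI := ModuleCat.subsingleton_of_isZero hz
      exact ⟨inferInstance, Module.Free.of_subsingleton R _⟩
  · exact asIso (DerivedCategory.Q.map P.π') ≪≫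
      ((DerivedCategory.singleFunctorIsoCompQ (ModuleCat.{u} R) 0).app M).symm

/-- `B` flat of finite presentation over `A`, presented as a quotient of a polynomial ring: `B` is a
pseudo-coherent module over the polynomial ring. -/
theorem isPseudoCoherentModule'_of_flat {A B : Type u} [CommRing A] [CommRing B] [Algebra A B]
    [Module.Flat A B] [Algebra.FinitePresentation A B] {n : ℕ}
    (φ : MvPolynomial (Fin n) A →ₐ[A] B) (hφ : Function.Surjective φ) :
    letI := φ.toRingHom.toAlgebra
    DRing.IsPseudoCoherentModule' (MvPolynomial (Fin n) A) B := by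
  letI := φ.toRingHom.toAlgebra
  haveI : IsScalarTower A (MvPolynomial (Fin n) A) B :=
    IsScalarTower.of_algebraMap_eq' φ.comp_algebraMap.symm
  haveI : Module.FinitePresentation (MvPolynomial (Fin n) A) B := by
    refine Module.finitePresentation_of_surjective
      (Algebra.linearMap (MvPolynomial (Fin n) A) B) hφ ?_
    have hk : (RingHom.ker φ.toRingHom).FG :=
      Algebra.FinitePresentation.ker_fG_of_surjective φ hφ
    have he : LinearMap.ker (Algebra.linearMap (MvPolynomial (Fin n) A) B) =
        RingHom.ker φ.toRingHom := by
      ext x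
      rfl
    rw [he]
    exact hk
  obtain ⟨P, hP⟩ := Groth.Agent.S5929.result A (MvPolynomial (Fin n) A) B
  exact isPseudoCoherent'_single_of_projectiveResolution _ P hP

end Groth.Agent.Lib.helper3.PCFlat
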