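import Mathlib
import Groth.Prelude.Def_DRing2
import Groth.Prelude.Def_MoreMor
import Groth.Agent.Lib.Helper23.DRingPC7
import Groth.Agent.Lib.Helper3.PCFlat

/-!
# helper3: pseudo-coherence of `B ⧸ I` over a polynomial ring vs pseudo-coherence of `I` over `B`
-/

set_option autoImplicit false
universe u
open CategoryTheory CategoryTheory.Limits Pretriangulated

attribute [local instance] HasDerivedCategory.standard

namespace Groth.Agent.Lib.helper3.PCQuot

open Groth.Agent.Lib.helper23.PCohCore Groth.Agent.Lib.helper23.DRingPC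

/-- identity iso between a `P`-module and the restriction of scalars of the same `C`-module. -/
noncomputable def restrictOfIso {P C : Type u} [CommRing P] [CommRing C] (f : P →+* C) (X : Type u)
    [AddCommGroup X] [Module C X] [Module P X] (h : ∀ (p : P) (x : X), p • x = f p • x) :
    ModuleCat.of P X ≅ (ModuleCat.restrictScalars.{u} f).obj (ModuleCat.of C X) :=
  LinearEquiv.toModuleIso
    (X₂ := ((ModuleCat.restrictScalars.{u} f).obj (ModuleCat.of C X)))
    ({ toFun := fun x => x
       invFun := fun x => x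
       map_add' := fun _ _ => rfl
       map_smul' := fun p x => h p x
       left_inv := fun _ => rfl
       right_inv := fun _ => rfl } :
      X ≃ₗ[P] ((ModuleCat.restrictScalars.{u} f).obj (ModuleCat.of C X)))

/-- the short exact sequence `0 → I → B → B ⧸ I → 0` of `B`-modules. -/
noncomputable def sesB {B : Type u} [CommRing B] (I : Ideal B) : ShortComplex (ModuleCat.{u} B) :=
  ShortComplex.mk (ModuleCat.ofHom I.subtype) (ModuleCat.ofHom (Submodule.mkQ I)) (by
    ext x
    exact (Submodule.Quotient.mk_eq_zero I).2 x.2)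

lemma sesB_shortExact {B : Type u} [CommRing B] (I : Ideal B) : (sesB I).ShortExact := by
  refine ShortComplex.ShortExact.mk' ?_ ?_ ?_
  · rw [ShortComplex.ShortExact.moduleCat_exact_iff_function_exact]
    exact LinearMap.exact_subtype_mkQ I
  · exact (ModuleCat.mono_iff_injective _).2 (Submodule.subtype_injective I)
  · exact (ModuleCat.epi_iff_surjective _).2 (Submodule.mkQ_surjective I)

section Main

variable {A B : Type u} [CommRing A] [CommRing B] [Algebra A B] {n : ℕ}
  (φ : MvPolynomial (Fin n) A →ₐ[A] B)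

/-- `NPC` over the polynomial ring of the restriction of the `B`-module `X`. -/
def T (X : Type u) [AddCommGroup X] [Module B X] (m : ℤ) : Prop :=
  NPC (FF (MvPolynomial (Fin n) A)) m
    ((DerivedCategory.singleFunctor (ModuleCat.{u} (MvPolynomial (Fin n) A)) 0).obj
      ((ModuleCat.restrictScalars.{u} (φ : MvPolynomial (Fin n) A →+* B)).obj (ModuleCat.of B X)))

lemma pcMod_of_pc
    (hB : letI := φ.toRingHom.toAlgebra
      DRing.IsPseudoCoherentModule' (MvPolynomial (Fin n) A) B) :
    PCMod (MvPolynomial (Fin n) A)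
      ((ModuleCat.restrictScalars.{u} (φ : MvPolynomial (Fin n) A →+* B)).obj (ModuleCat.of B B)) := by
  letI := φ.toRingHom.toAlgebra
  have h1 : PCMod (MvPolynomial (Fin n) A) (ModuleCat.of (MvPolynomial (Fin n) A) B) :=
    (isPseudoCoherent'_iff_npc _ _).1 hB
  exact h1.of_iso (restrictOfIso (φ : MvPolynomial (Fin n) A →+* B) B (fun p b => rfl))

/-- two-out-of-three along `0 → I → B → B ⧸ I → 0`, restricted to the polynomial ring. -/
lemma two_of_three (I : Ideal B) (m : ℤ) :
    (T φ I (m + 1) → T φ B m → T φ (B ⧸ I) m) ∧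
      (T φ B (m + 1) → T φ (B ⧸ I) m → T φ I (m + 1)) := by
  have hS := (sesB_shortExact I).map_of_exact
    (ModuleCat.restrictScalars.{u} (φ : MvPolynomial (Fin n) A →+* B))
  have hT := hS.singleTriangle_distinguished
  have h := NPC.two_of_three (FF (MvPolynomial (Fin n) A)) (FF_sum _) (FF_hqs _) (FF_hql _) m
    hS.singleTriangle hT
  exact ⟨h.1, h.2.2⟩

lemma T_ideal_iff
    (hB : letI := φ.toRingHom.toAlgebra
      DRing.IsPseudoCoherentModule' (MvPolynomial (Fin n) A) B) (I : Ideal B) :
    DRing.IsPseudoCoherentModule' B ↥I ↔ ∀ m, T φ I m := by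
  unfold DRing.IsPseudoCoherentModule'
  rw [isPseudoCoherent'_iff_npc]
  refine forall_congr' fun m => ?_
  rw [npc_restrict_iff (φ : MvPolynomial (Fin n) A →+* B) (pcMod_of_pc φ hB), npc_restrict_single_iff]
  rfl

lemma T_quot_of_hom (hφ : Function.Surjective φ) (I : Ideal B)
    (h : MoreMor.IsPseudoCoherentHom A (B ⧸ I)) (m : ℤ) : T φ (B ⧸ I) m := by
  obtain ⟨k, χ, hχ, hpc⟩ := h
  let ψ : MvPolynomial (Fin n) A →ₐ[A] B ⧸ I := (Ideal.Quotient.mkₐ A I).comp φ
  have hψ : Function.Surjective ψ := (Ideal.Quotient.mkₐ_surjective A I).comp hφ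
  have h1 : NPC (FF (MvPolynomial (Fin k) A)) m
      ((DerivedCategory.singleFunctor (ModuleCat.{u} (MvPolynomial (Fin k) A)) 0).obj
        ((ModuleCat.restrictScalars.{u} (χ : MvPolynomial (Fin k) A →+* B ⧸ I)).obj
          (ModuleCat.of (B ⧸ I) (B ⧸ I)))) := by
    letI := χ.toRingHom.toAlgebra
    have h0 := (isPseudoCoherent'_iff_npc _ _).1 hpc m
    exact h0.of_iso ((DerivedCategory.singleFunctor _ 0).mapIso
      (restrictOfIso (χ : MvPolynomial (Fin k) A →+* B ⧸ I) (B ⧸ I) (fun p x => rfl)))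
  have h2 := (npc_restrict_indep χ hχ ψ hψ _ m).1
    ((npc_restrict_single_iff (χ : MvPolynomial (Fin k) A →+* B ⧸ I) _ m).2 h1)
  have h3 := (npc_restrict_single_iff (ψ : MvPolynomial (Fin n) A →+* B ⧸ I) _ m).1 h2
  letI : Module (MvPolynomial (Fin n) A) (B ⧸ I) :=
    Module.compHom (B ⧸ I) (ψ : MvPolynomial (Fin n) A →+* B ⧸ I)
  let i1 := restrictOfIso (ψ : MvPolynomial (Fin n) A →+* B ⧸ I) (B ⧸ I) (fun p x => rfl)
  let i2 := restrictOfIso (φ : MvPolynomial (Fin n) A →+* B) (B ⧸ I)
    (fun p x => Quotient.inductionOn' x (fun b => rfl))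
  exact h3.of_iso ((DerivedCategory.singleFunctor _ 0).mapIso (i1.symm ≪≫ i2))

lemma hom_of_T_quot (hφ : Function.Surjective φ) (I : Ideal B)
    (h : ∀ m, T φ (B ⧸ I) m) : MoreMor.IsPseudoCoherentHom A (B ⧸ I) := by
  let ψ : MvPolynomial (Fin n) A →ₐ[A] B ⧸ I := (Ideal.Quotient.mkₐ A I).comp φ
  have hψ : Function.Surjective ψ := (Ideal.Quotient.mkₐ_surjective A I).comp hφ
  refine ⟨n, ψ, hψ, ?_⟩
  letI := ψ.toRingHom.toAlgebra
  unfold DRing.IsPseudoCoherentModule'
  rw [isPseudoCoherent'_iff_npc]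
  intro m
  let i2 := restrictOfIso (φ : MvPolynomial (Fin n) A →+* B) (B ⧸ I)
    (fun p x => Quotient.inductionOn' x (fun b => rfl))
  exact (h m).of_iso ((DerivedCategory.singleFunctor _ 0).mapIso i2.symm)

/-- **Main**: given a presentation `φ` of `B` over which `B` is pseudo-coherent, `A → B ⧸ I` is a
pseudo-coherent ring map iff `I` is a pseudo-coherent `B`-module. -/
theorem isPseudoCoherentHom_quotient_iff (hφ : Function.Surjective φ)
    (hB : letI := φ.toRingHom.toAlgebra
      DRing.IsPseudoCoherentModule' (MvPolynomial (Fin n) A) B) (I : Ideal B) :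
    MoreMor.IsPseudoCoherentHom A (B ⧸ I) ↔ DRing.IsPseudoCoherentModule' B ↥I := by
  have hBT : ∀ m, T φ B m := pcMod_of_pc φ hB
  rw [T_ideal_iff φ hB I]
  constructor
  · intro h m
    have := (two_of_three φ I (m - 1)).2 (by simpa using hBT m) (T_quot_of_hom φ hφ I h (m - 1))
    simpa using this
  · intro h
    exact hom_of_T_quot φ hφ I (fun m => (two_of_three φ I m).1 (h (m + 1)) (hBT m))

end Main

end Groth.Agent.Lib.helper3.PCQuot
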