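import Mathlib
import Groth.Prelude.Def_DRing2
import Groth.Prelude.Def_DerCA
import Groth.Prelude.Def_MoreMor
import Groth.Agent.Lib.Helper23.DRingPC12
import Groth.Agent.Lib.Helper23.BaseChg4
import Groth.Agent.Lib.Helper3.PCQuot

/-!
# helper3: pseudo-coherent ring maps, instance-free form and basic permanence

`PCH f` for a ring hom `f : R →+* S`: there is a surjection `φ : R[x_1..x_n] →+* S` extending `f` through
which `S` is a pseudo-coherent module. Equivalent to `MoreMor.IsPseudoCoherentHom R S` (for the algebra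
structure given by `f`), and to `DerCA.IsRelPseudoCoherentModuleAll R S S`.
Composition, cancellation, localization, Zariski descent on the target ring, isomorphisms.
-/

set_option autoImplicit false
universe u
open CategoryTheory CategoryTheory.Limits TensorProduct

attribute [local instance] HasDerivedCategory.standard

namespace Groth.Agent.Lib.helper3.PCHomLoc

open Groth.Agent.Lib.helper23.PCohCore Groth.Agent.Lib.helper23.DRingPC
open Groth.Agent.Lib.helper23.ExtSc Groth.Agent.Lib.helper23.BaseChg

/-- instance-free form of "pseudo-coherent ring map". -/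
def PCH {R S : Type u} [CommRing R] [CommRing S] (f : R →+* S) : Prop :=
  ∃ (n : ℕ) (φ : MvPolynomial (Fin n) R →+* S), φ.comp MvPolynomial.C = f ∧
    Function.Surjective φ ∧ PCHom φ

section Basic

variable {R S : Type u} [CommRing R] [CommRing S]

/-- the `AlgHom` of a ring hom from a polynomial ring extending the structure map. -/
noncomputable def toAlgHom [Algebra R S] {n : ℕ} (φ : MvPolynomial (Fin n) R →+* S)
    (h : φ.comp MvPolynomial.C = algebraMap R S) : MvPolynomial (Fin n) R →ₐ[R] S :=
  { φ with
    commutes' := fun r => by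
      have := DFunLike.congr_fun h r
      simpa [MvPolynomial.algebraMap_eq] using this }

lemma toAlgHom_coe [Algebra R S] {n : ℕ} (φ : MvPolynomial (Fin n) R →+* S)
    (h : φ.comp MvPolynomial.C = algebraMap R S) :
    ((toAlgHom φ h : MvPolynomial (Fin n) R →ₐ[R] S) : MvPolynomial (Fin n) R →+* S) = φ := rfl

lemma algHom_comp_C [Algebra R S] {n : ℕ} (φ : MvPolynomial (Fin n) R →ₐ[R] S) :
    (φ : MvPolynomial (Fin n) R →+* S).comp MvPolynomial.C = algebraMap R S := by
  ext r
  simp only [RingHom.comp_apply, RingHom.coe_coe]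
  rw [← MvPolynomial.algebraMap_eq]
  exact φ.commutes r

theorem isPseudoCoherentHom_iff_pch [Algebra R S] :
    MoreMor.IsPseudoCoherentHom R S ↔ PCH (algebraMap R S) := by
  constructor
  · rintro ⟨n, φ, hφ, h⟩
    refine ⟨n, (φ : MvPolynomial (Fin n) R →+* S), algHom_comp_C φ, hφ, ?_⟩
    letI := φ.toRingHom.toAlgebra
    intro m
    have h0 := (isPseudoCoherent'_iff_npc _ _).1 h m
    exact h0.of_iso ((DerivedCategory.singleFunctor _ 0).mapIso
      (Groth.Agent.Lib.helper3.PCQuot.restrictOfIso (φ : MvPolynomial (Fin n) R →+* S) S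
        (fun p x => rfl)))
  · rintro ⟨n, φ, hC, hφ, h⟩
    refine ⟨n, toAlgHom φ hC, hφ, ?_⟩
    letI := (toAlgHom φ hC).toRingHom.toAlgebra
    unfold DRing.IsPseudoCoherentModule'
    rw [isPseudoCoherent'_iff_npc]
    intro m
    exact (h m).of_iso ((DerivedCategory.singleFunctor _ 0).mapIso
      (Groth.Agent.Lib.helper3.PCQuot.restrictOfIso (φ : MvPolynomial (Fin n) R →+* S) S
        (fun p x => rfl)).symm)

theorem pch_iff_toAlgebra (f : R →+* S) :
    (letI := f.toAlgebra; MoreMor.IsPseudoCoherentHom R S) ↔ PCH f := by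
  letI := f.toAlgebra
  exact isPseudoCoherentHom_iff_pch

/-- pseudo-coherent ring maps are of finite type. -/
lemma finiteType_of_pch [Algebra R S] (h : PCH (algebraMap R S)) : Algebra.FiniteType R S := by
  obtain ⟨n, φ, hC, hφ, -⟩ := h
  exact Algebra.FiniteType.iff_quotient_mvPolynomial''.2 ⟨n, toAlgHom φ hC, hφ⟩

theorem pch_iff_relAll [Algebra R S] :
    PCH (algebraMap R S) ↔ DerCA.IsRelPseudoCoherentModuleAll R S S := by
  constructor
  · rintro ⟨n, φ, hC, hφ, h⟩ m
    refine ⟨n, toAlgHom φ hC, hφ, ?_⟩
    rw [isRelPseudoCoherentVia_iff_npc, toAlgHom_coe, npc_restrict_single_iff]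
    exact h m
  · intro h
    obtain ⟨n, α, hα, -⟩ := h 0
    refine ⟨n, (α : MvPolynomial (Fin n) R →+* S), algHom_comp_C α, hα, ?_⟩
    intro m
    have := (isRelPseudoCoherent_iff_npc α hα m _).1 (h m)
    rwa [npc_restrict_single_iff] at this

end Basic

section Comp

variable {R S T : Type u} [CommRing R] [CommRing S] [CommRing T]

/-- composition of pseudo-coherent ring maps. -/
theorem pch_comp (f : R →+* S) (g : S →+* T) (hf : PCH f) (hg : PCH g) : PCH (g.comp f) := by
  letI := f.toAlgebra
  letI := g.toAlgebra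
  letI := (g.comp f).toAlgebra
  haveI : IsScalarTower R S T := IsScalarTower.of_algebraMap_eq' rfl
  haveI : Algebra.FiniteType R S := finiteType_of_pch hf
  haveI : Algebra.FiniteType S T := finiteType_of_pch hg
  have h1 : DerCA.IsRelPseudoCoherentModuleAll R S S := pch_iff_relAll.1 hf
  have h2 : DerCA.IsRelPseudoCoherentModuleAll S T T := pch_iff_relAll.1 hg
  refine (pch_iff_relAll (R := R) (S := T)).2 (fun m => ?_)
  exact (isRelPseudoCoherent_iff_of_intermediate h1 _ m).1 (h2 m)

/-- cancellation for pseudo-coherent ring maps. -/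
theorem pch_cancel (f : R →+* S) (g : S →+* T) (hf : PCH f) (hgf : PCH (g.comp f)) : PCH g := by
  letI := f.toAlgebra
  letI := g.toAlgebra
  letI := (g.comp f).toAlgebra
  haveI : IsScalarTower R S T := IsScalarTower.of_algebraMap_eq' rfl
  haveI : Algebra.FiniteType R S := finiteType_of_pch hf
  haveI : Algebra.FiniteType R T := finiteType_of_pch hgf
  haveI : Algebra.FiniteType S T := Algebra.FiniteType.of_restrictScalars_finiteType R S T
  have h1 : DerCA.IsRelPseudoCoherentModuleAll R S S := pch_iff_relAll.1 hf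
  have h2 : DerCA.IsRelPseudoCoherentModuleAll R T T := pch_iff_relAll.1 hgf
  refine (pch_iff_relAll (R := S) (S := T)).2 (fun m => ?_)
  exact (isRelPseudoCoherent_iff_of_intermediate h1 _ m).2 (h2 m)

/-- ring isomorphisms are pseudo-coherent. -/
theorem pch_ringEquiv (e : R ≃+* S) : PCH e.toRingHom := by
  let e' : MvPolynomial (Fin 0) R ≃+* S :=
    (MvPolynomial.isEmptyRingEquiv R (Fin 0)).trans e
  refine ⟨0, e'.toRingHom, ?_, e'.surjective, pcMod_of_ringEquiv e'⟩
  ext r
  simp only [e', RingEquiv.toRingHom_eq_coe, RingHom.coe_comp, RingHom.coe_coe,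
    Function.comp_apply, RingEquiv.trans_apply]
  congr 1
  exact (MvPolynomial.isEmptyAlgEquiv R (Fin 0)).commutes r

theorem pch_comp_ringEquiv (f : R →+* S) (e : S ≃+* T) (hf : PCH f) : PCH (e.toRingHom.comp f) :=
  pch_comp f _ hf (pch_ringEquiv e)

theorem pch_ringEquiv_comp (e : R ≃+* S) (g : S →+* T) (hg : PCH g) : PCH (g.comp e.toRingHom) :=
  pch_comp _ g (pch_ringEquiv e) hg

end Comp

section Away

variable {R S : Type u} [CommRing R] [CommRing S]

/-- localization maps `R → R_r` are pseudo-coherent. -/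
theorem pch_away [Algebra R S] (r : R) [IsLocalization.Away r S] : PCH (algebraMap R S) := by
  have h0 : PCH (algebraMap R (Localization.Away r)) :=
    pch_iff_relAll.2 (isRelPseudoCoherentModuleAll_away r)
  let e : Localization.Away r ≃ₐ[R] S := IsLocalization.algEquiv (Submonoid.powers r) _ _
  have := pch_comp_ringEquiv _ e.toRingEquiv h0
  convert this using 1
  ext x
  simp

end Away

end Groth.Agent.Lib.helper3.PCHomLoc
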