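import Mathlib
import Groth.Agent.Lib.Helper3.PCHom1

/-!
# helper3: pseudo-coherent ring maps are local (`RingHom.PropertyIsLocal`)
-/

set_option autoImplicit false
universe u
open CategoryTheory CategoryTheory.Limits TensorProduct

attribute [local instance] HasDerivedCategory.standard

namespace Groth.Agent.Lib.helper3.PCHomLoc

open Groth.Agent.Lib.helper23.PCohCore Groth.Agent.Lib.helper23.DRingPC
open Groth.Agent.Lib.helper23.ExtSc Groth.Agent.Lib.helper23.BaseChg

section Iso

variable {R A : Type u} [CommRing R] [CommRing A] [Algebra R A]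

lemma isRelPseudoCoherent_of_iso {K L : Dual.D A} (e : K ≅ L) (m : ℤ)
    (h : DerCA.IsRelPseudoCoherent R A m K) : DerCA.IsRelPseudoCoherent R A m L := by
  obtain ⟨n, α, hα, h⟩ := h
  refine ⟨n, α, hα, ?_⟩
  rw [isRelPseudoCoherentVia_iff_npc] at h ⊢
  exact h.of_iso ((ModuleCat.restrictScalars.{u}
    (α : MvPolynomial (Fin n) R →+* A)).mapDerivedCategory.mapIso e)

end Iso

section Single

variable (S S' : Type u) [CommRing S] [CommRing S'] [Algebra S S']

/-- the single complex of `S`. -/
noncomputable abbrev KS : DRing.Cx S :=
  (CochainComplex.singleFunctor (ModuleCat.{u} S) 0).obj (ModuleCat.of S S)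

/-- the extension of scalars of `S` to `S'` is `S'`. -/
noncomputable def extendSelfIso :
    (ModuleCat.extendScalars.{u, u, u} (algebraMap S S')).obj (ModuleCat.of S S) ≅
      ModuleCat.of S' S' :=
  ((extendObjEquiv (B := S') (ModuleCat.of S S)).trans
    (TensorProduct.AlgebraTensorModule.rid S S' S')).toModuleIso

/-- the extended single complex, in the derived category. -/
noncomputable def extendKSIso :
    DRing.toD (((ModuleCat.extendScalars.{u, u, u}
      (algebraMap S S')).mapHomologicalComplex (ComplexShape.up ℤ)).obj (KS S)) ≅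
    Dual.inD S' S' :=
  DerivedCategory.Q.mapIso ((HomologicalComplex.singleMapHomologicalComplex
    (ModuleCat.extendScalars.{u, u, u} (algebraMap S S'))
    (ComplexShape.up ℤ) 0).app (ModuleCat.of S S)) ≪≫
  ((DerivedCategory.singleFunctorIsoCompQ (ModuleCat.{u} S') 0).app _).symm ≪≫
  (DerivedCategory.singleFunctor (ModuleCat.{u} S') 0).mapIso (extendSelfIso S S')

/-- the single complex in the derived category. -/
noncomputable def toDKSIso : DRing.toD (KS S) ≅ Dual.inD S S :=
  ((DerivedCategory.singleFunctorIsoCompQ (ModuleCat.{u} S) 0).app _).symm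

end Single

section SpanTarget

variable {R S : Type u} [CommRing R] [CommRing S]

lemma finiteType_of_pch' (f : R →+* S) (h : PCH f) : f.FiniteType := by
  letI := f.toAlgebra
  exact finiteType_of_pch h

theorem pch_of_finite_span_target (f : R →+* S) (s : Finset S)
    (hs : Ideal.span (s : Set S) = ⊤)
    (h : ∀ r : s, PCH ((algebraMap S (Localization.Away (r : S))).comp f)) : PCH f := by
  have hft : f.FiniteType :=
    RingHom.finiteType_ofLocalizationSpanTarget f (s : Set S) hs
      (fun r => finiteType_of_pch' _ (h ⟨r.1, r.2⟩))
  letI := f.toAlgebra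
  haveI : Algebra.FiniteType R S := hft
  obtain ⟨n, α, hα⟩ := exists_presentation (R := R) (A := S)
  refine pch_iff_relAll.2 (fun m => ?_)
  let g : Fin s.card → S := fun i => (s.equivFin.symm i : S)
  have hg : Ideal.span (Set.range g) = ⊤ := by
    have : Set.range g = (s : Set S) := by
      ext x
      constructor
      · rintro ⟨i, rfl⟩
        exact (s.equivFin.symm i).2
      · intro hx
        exact ⟨s.equivFin ⟨x, hx⟩, by simp [g]⟩
    rw [this, hs]
  have key := isRelPseudoCoherent_of_cover α hα g hg (KS S) m (fun i => ?_)
  · exact isRelPseudoCoherent_of_iso (toDKSIso S) m key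
  · have hi := h (s.equivFin.symm i)
    have he : (algebraMap S (Localization.Away (g i))).comp f =
        algebraMap R (Localization.Away (g i)) :=
      (IsScalarTower.algebraMap_eq R S (Localization.Away (g i))).symm
    have hi' : PCH (algebraMap R (Localization.Away (g i))) := by
      rw [← he]
      exact hi
    exact isRelPseudoCoherent_of_iso (extendKSIso S (Localization.Away (g i))).symm m
      (pch_iff_relAll.1 hi' m)

end SpanTarget

end Groth.Agent.Lib.helper3.PCHomLoc
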