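import Mathlib
import Groth.Agent.Lib.Helper3.PCHom2

/-!
# helper3: `RingHom.PropertyIsLocal` for pseudo-coherent ring maps, and pseudo-coherent morphisms of
schemes as a `HasRingHomProperty`
-/

set_option autoImplicit false
universe u
open CategoryTheory CategoryTheory.Limits AlgebraicGeometry

namespace Groth.Agent.Lib.helper3.PCHomLoc

theorem pch_stableUnderComposition : RingHom.StableUnderComposition @PCH :=
  fun _ _ _ _ _ _ f g hf hg => pch_comp f g hf hg

theorem pch_holdsForLocalizationAway : RingHom.HoldsForLocalizationAway @PCH :=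
  fun _ _ _ _ _ r _ => pch_away r

theorem pch_ofLocalizationSpanTarget : RingHom.OfLocalizationSpanTarget @PCH :=
  (RingHom.ofLocalizationSpanTarget_iff_finite @PCH).2
    (fun _ _ _ _ f s hs h => pch_of_finite_span_target f s hs h)

theorem pch_localizationAwayPreserves : RingHom.LocalizationAwayPreserves @PCH := by
  intro R S _ _ f r R' S' _ _ _ _ _ _ hf
  have h1 : PCH ((algebraMap S S').comp f) :=
    pch_comp f _ hf (pch_away (f r))
  have h2 : (IsLocalization.Away.map R' S' f r).comp (algebraMap R R') =
      (algebraMap S S').comp f := IsLocalization.map_comp _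
  rw [← h2] at h1
  exact pch_cancel (algebraMap R R') _ (pch_away r) h1

theorem pch_stableUnderCompositionWithLocalizationAway :
    RingHom.StableUnderCompositionWithLocalizationAway @PCH :=
  pch_stableUnderComposition.stableUnderCompositionWithLocalizationAway
    pch_holdsForLocalizationAway

theorem pch_isLocal : RingHom.PropertyIsLocal @PCH :=
  ⟨pch_localizationAwayPreserves, pch_ofLocalizationSpanTarget,
    pch_ofLocalizationSpanTarget.ofLocalizationSpan
      pch_stableUnderCompositionWithLocalizationAway.left,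
    pch_stableUnderCompositionWithLocalizationAway.right⟩

/-- pseudo-coherent morphisms as a morphism property. -/
def pcMor : MorphismProperty Scheme.{u} := fun _ _ f => MoreMor.IsPseudoCoherentMor f

theorem pcMor_iff {X Y : Scheme.{u}} (f : X ⟶ Y) :
    pcMor f ↔ MoreMor.IsPseudoCoherentMor f := Iff.rfl

theorem isPseudoCoherentMor_iff_affineLocally {X Y : Scheme.{u}} (f : X ⟶ Y) :
    MoreMor.IsPseudoCoherentMor f ↔ affineLocally @PCH f := by
  rw [affineLocally_iff_affineOpens_le]
  constructor
  · intro h U V e
    exact (pch_iff_toAlgebra _).1 (h V.1 U.1 V.2 U.2 e)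
  · intro h U V hU hV hUV
    exact (pch_iff_toAlgebra _).2 (h ⟨V, hV⟩ ⟨U, hU⟩ hUV)

instance : HasRingHomProperty pcMor.{u} @PCH where
  isLocal_ringHomProperty := pch_isLocal
  eq_affineLocally' := by
    ext X Y f
    exact isPseudoCoherentMor_iff_affineLocally f

section FP

open Groth.Agent.Lib.helper23.DRingPC

variable {R S : Type u} [CommRing R] [CommRing S]

/-- a pseudo-coherent ring map is of finite presentation. -/
theorem finitePresentation_of_pch (f : R →+* S) (h : PCH f) : f.FinitePresentation := by
  obtain ⟨n, φ, hC, hφ, hpc⟩ := h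
  have hfp : Module.FinitePresentation (MvPolynomial (Fin n) R)
      ((ModuleCat.restrictScalars.{u} φ).obj (ModuleCat.of S S)) :=
    (npc_negOne_single_iff_finitePresentation (MvPolynomial (Fin n) R) _).1 (hpc (-1))
  let l : MvPolynomial (Fin n) R →ₗ[MvPolynomial (Fin n) R]
      ((ModuleCat.restrictScalars.{u} φ).obj (ModuleCat.of S S)) :=
    { toFun := fun p => (φ p : S)
      map_add' := fun p q => map_add φ p q
      map_smul' := fun a p => by
        show φ (a * p) = φ a * φ p
        exact map_mul φ a p }
  have hl : Function.Surjective l := hφ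
  have hk : (LinearMap.ker l).FG := Module.FinitePresentation.fg_ker l hl
  have hk' : (RingHom.ker φ).FG := by
    have : LinearMap.ker l = RingHom.ker φ := by
      ext x
      rfl
    rw [← this]
    exact hk
  rw [← hC]
  refine RingHom.FinitePresentation.comp_surjective ?_ hφ hk'
  rw [← MvPolynomial.algebraMap_eq, RingHom.finitePresentation_algebraMap]
  infer_instance

end FP

section Nbhd

lemma exists_affine_nbhd_le {X : Scheme.{u}} (x : X) (W : X.Opens) (hx : x ∈ W) :
    ∃ U : X.Opens, IsAffineOpen U ∧ x ∈ U ∧ U ≤ W := by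
  obtain ⟨_, ⟨V, hV, rfl⟩, hxV, hVU⟩ :=
    X.isBasis_affineOpens.exists_subset_of_mem_open hx W.2
  exact ⟨V, hV, hxV, hVU⟩

/-- the local criterion for pseudo-coherent morphisms. -/
theorem isPseudoCoherentMor_iff_exists {X Y : Scheme.{u}} (f : X ⟶ Y) :
    MoreMor.IsPseudoCoherentMor f ↔
      ∀ x : X, ∃ (U : Y.affineOpens) (V : X.affineOpens) (_ : x ∈ V.1) (e : V.1 ≤ f ⁻¹ᵁ U.1),
        PCH (f.appLE U V e).hom :=
  HasRingHomProperty.iff_exists_appLE (P := pcMor) (f := f)
    pch_stableUnderCompositionWithLocalizationAway.left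

theorem pch_appLE {X Y : Scheme.{u}} (f : X ⟶ Y) (h : MoreMor.IsPseudoCoherentMor f)
    {U : X.Opens} {V : Y.Opens} (hU : IsAffineOpen U) (hV : IsAffineOpen V) (e : U ≤ f ⁻¹ᵁ V) :
    PCH (f.appLE V U e).hom :=
  (pch_iff_toAlgebra _).1 (h U V hU hV e)

end Nbhd

end Groth.Agent.Lib.helper3.PCHomLoc
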