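import Mathlib
import Groth.Agent.Lib.Helper3.PCHom3
import Groth.Agent.Lib.Helper23.TA11
import Groth.Agent.Lib.Helper23.TA12
import Groth.Agent.Lib.Helper13.TorLow7
import Groth.Agent.Lib.Helper13.PCStalk1

/-!
# helper3: ring maps of finite tor dimension, instance-free form and permanence

`FTD f` for `f : R →+* S`: `S`, as an `R`-module through `f`, has tor amplitude in `[-d, 0]` for some `d`.
-/

set_option autoImplicit false
universe u
open CategoryTheory CategoryTheory.Limits TensorProduct

attribute [local instance] HasDerivedCategory.standard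

namespace Groth.Agent.Lib.helper3.PerfHomLoc

open Groth.Agent.Lib.helper23.TA Groth.Agent.Lib.helper23.ExtSc
open Groth.Agent.Lib.helper3.PCQuot

section Defs

variable {R S : Type u} [CommRing R] [CommRing S]

/-- `S` as an `R`-module through `f`. -/
noncomputable abbrev Sf (f : R →+* S) : ModuleCat.{u} R :=
  (ModuleCat.restrictScalars.{u} f).obj (ModuleCat.of S S)

/-- `f` has tor dimension `≤ d`. -/
def FTDLE (f : R →+* S) (d : ℕ) : Prop :=
  DRing.HasTorAmplitudeIn R (-(d : ℤ)) 0
    ((DerivedCategory.singleFunctor (ModuleCat.{u} R) 0).obj (Sf f))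

/-- `f` has finite tor dimension. -/
def FTD (f : R →+* S) : Prop := ∃ d : ℕ, FTDLE f d

lemma FTDLE.mono {f : R →+* S} {d e : ℕ} (h : FTDLE f d) (hde : d ≤ e) : FTDLE f e :=
  hasTorAmplitudeIn_mono h (by omega) le_rfl

theorem hasTorDimLE_iff_ftdle [Algebra R S] (d : ℕ) :
    DRing.HasTorDimLE R d S ↔ FTDLE (algebraMap R S) d := by
  rw [hasTorDimLE_iff_torVan, torVan_iff_hasTorAmplitudeIn]
  have e : ModuleCat.of R S ≅ Sf (algebraMap R S) :=
    restrictOfIso (algebraMap R S) S (fun r x => Algebra.smul_def r x)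
  exact ⟨hasTorAmplitudeIn_of_iso ((DerivedCategory.singleFunctor _ 0).mapIso e),
    hasTorAmplitudeIn_of_iso ((DerivedCategory.singleFunctor _ 0).mapIso e.symm)⟩

theorem hasFiniteTorDim_iff_ftd [Algebra R S] :
    DRing.HasFiniteTorDim R S ↔ FTD (algebraMap R S) :=
  exists_congr fun d => hasTorDimLE_iff_ftdle d

theorem ftd_iff_toAlgebra (f : R →+* S) :
    (letI := f.toAlgebra; DRing.HasFiniteTorDim R S) ↔ FTD f := by
  letI := f.toAlgebra
  exact hasFiniteTorDim_iff_ftd

/-- flat ring maps have tor dimension `≤ 0`. -/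
theorem ftdle_of_flat (f : R →+* S) (hf : f.Flat) : FTDLE f 0 := by
  have hfl : Module.Flat R (Sf f) := by
    letI := f.toAlgebra
    have h0 : Module.Flat R S := hf
    exact Module.Flat.of_linearEquiv
      (restrictOfIso f S (fun r x => rfl)).toLinearEquiv.symm
  simpa [FTDLE] using hasTorAmplitudeIn_single_flat (Sf f) hfl 0

end Defs

section Comp

variable {R S T : Type u} [CommRing R] [CommRing S] [CommRing T]

/-- double restriction of scalars. -/
noncomputable def restrictCompIso (f : R →+* S) (g : S →+* T) (M : ModuleCat.{u} T) :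
    (ModuleCat.restrictScalars.{u} f).obj ((ModuleCat.restrictScalars.{u} g).obj M) ≅
      (ModuleCat.restrictScalars.{u} (g.comp f)).obj M :=
  LinearEquiv.toModuleIso
    ({ toFun := fun x => x
       invFun := fun x => x
       map_add' := fun _ _ => rfl
       map_smul' := fun _ _ => rfl
       left_inv := fun _ => rfl
       right_inv := fun _ => rfl } :
      ((ModuleCat.restrictScalars.{u} f).obj ((ModuleCat.restrictScalars.{u} g).obj M)) ≃ₗ[R]
        ((ModuleCat.restrictScalars.{u} (g.comp f)).obj M))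

/-- composition of ring maps of finite tor dimension. -/
theorem ftdle_comp (f : R →+* S) (g : S →+* T) {d e : ℕ} (hf : FTDLE f d) (hg : FTDLE g e) :
    FTDLE (g.comp f) (e + d) := by
  letI := f.toAlgebra
  have hB : DRing.HasTorAmplitudeIn R (-(d : ℤ)) 0 (Dual.inD R S) :=
    hasTorAmplitudeIn_of_iso ((DerivedCategory.singleFunctor _ 0).mapIso
      (restrictOfIso f S (fun _ _ => rfl)).symm) hf
  have h := hasTorAmplitudeIn_restrict d hB _ (-(e : ℤ)) 0 hg
  have iso : (DRing.restrictD (algebraMap R S)).obj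
      ((DerivedCategory.singleFunctor (ModuleCat.{u} S) 0).obj (Sf g)) ≅
      (DerivedCategory.singleFunctor (ModuleCat.{u} R) 0).obj (Sf (g.comp f)) :=
    ((ModuleCat.restrictScalars.{u} (algebraMap R S)).mapDerivedCategorySingleFunctor 0).app _ ≪≫
      (DerivedCategory.singleFunctor _ 0).mapIso (restrictCompIso f g (ModuleCat.of T T))
  have h' := hasTorAmplitudeIn_of_iso iso h
  unfold FTDLE
  convert h' using 1
  push_cast
  ring

theorem ftd_comp (f : R →+* S) (g : S →+* T) (hf : FTD f) (hg : FTD g) : FTD (g.comp f) := by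
  obtain ⟨d, hd⟩ := hf
  obtain ⟨e, he⟩ := hg
  exact ⟨e + d, ftdle_comp f g hd he⟩

end Comp

end Groth.Agent.Lib.helper3.PerfHomLoc
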