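import Mathlib
import Groth.Agent.Lib.Helper3.PerfHom1

/-!
# helper3: finite tor dimension of ring maps is local on the target ring
-/

set_option autoImplicit false
universe u
open CategoryTheory CategoryTheory.Limits TensorProduct

attribute [local instance] HasDerivedCategory.standard

namespace Groth.Agent.Lib.helper3.PerfHomLoc

open Groth.Agent.Lib.helper23.TA Groth.Agent.Lib.helper23.ExtSc
open Groth.Agent.Lib.helper3.PCQuot Groth.Agent.Lib.helper3.PCHomLoc
open Groth.Agent.Lib.helper13.TorLow Groth.Agent.Lib.helper13.ExtKFlat

section Bridge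

variable {R A B : Type u} [CommRing R] [CommRing A] [CommRing B]

/-- restriction of the single complex. -/
noncomputable def resKSIso (φ : R →+* A) :
    DRing.toD ((resCx φ).obj (KS A)) ≅
      (DerivedCategory.singleFunctor (ModuleCat.{u} R) 0).obj (Sf φ) :=
  DerivedCategory.Q.mapIso ((HomologicalComplex.singleMapHomologicalComplex
    (ModuleCat.restrictScalars.{u} φ) (ComplexShape.up ℤ) 0).app (ModuleCat.of A A)) ≪≫
  ((DerivedCategory.singleFunctorIsoCompQ (ModuleCat.{u} R) 0).app _).symm

/-- extension of the single complex. -/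
noncomputable def extKSIso (l : A →+* B) : (extCx l).obj (KS A) ≅ KS B :=
  letI := l.toAlgebra
  (HomologicalComplex.singleMapHomologicalComplex
    (ModuleCat.extendScalars.{u, u, u} l) (ComplexShape.up ℤ) 0).app (ModuleCat.of A A) ≪≫
  (HomologicalComplex.single _ (ComplexShape.up ℤ) 0).mapIso (extendSelfIso A B)

end Bridge

section SpanTarget

variable {R S : Type u} [CommRing R] [CommRing S]

theorem ftdle_of_span_target (f : R →+* S) {k : ℕ} (g : Fin k → S)
    (hg : Ideal.span (Set.range g) = ⊤) (d : ℕ)
    (h : ∀ i, FTDLE ((algebraMap S (Localization.Away (g i))).comp f) d) : FTDLE f d := by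
  have key := hasTorAmplitudeIn_res_of_forall_res_ext f
    (B := fun i => Localization.Away (g i))
    (fun i => algebraMap S (Localization.Away (g i))) (fun i => ?_) ?_ (KS S) (-(d : ℤ)) 0
    (fun i => ?_)
  · exact hasTorAmplitudeIn_of_iso (resKSIso f) key
  · rw [RingHom.flat_algebraMap_iff]
    exact IsLocalization.flat (Localization.Away (g i)) (Submonoid.powers (g i))
  · intro M hM
    refine subsingleton_of_localization_span M (Set.range g) hg ?_
    rintro ⟨_, i, rfl⟩
    exact (subsingleton_extend_iff M).1 (hM i)
  · have hi := h i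
    refine hasTorAmplitudeIn_of_iso ?_ hi
    exact (resKSIso _).symm ≪≫ DerivedCategory.Q.mapIso
      ((resCx ((algebraMap S (Localization.Away (g i))).comp f)).mapIso
        (extKSIso (algebraMap S (Localization.Away (g i)))).symm)

theorem ftd_of_finite_span_target (f : R →+* S) (s : Finset S)
    (hs : Ideal.span (s : Set S) = ⊤)
    (h : ∀ r : s, FTD ((algebraMap S (Localization.Away (r : S))).comp f)) : FTD f := by
  choose d hd using h
  let g : Fin s.card → S := fun i => (s.equivFin.symm i : S)
  have hg : Ideal.span (Set.range g) = ⊤ := by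
    have : Set.range g = (s : Set S) := by
      ext x
      constructor
      · rintro ⟨i, rfl⟩
        exact (s.equivFin.symm i).2
      · intro hx
        exact ⟨s.equivFin ⟨x, hx⟩, by simp [g]⟩
    rw [this, hs]
  refine ⟨Finset.univ.sup d, ftdle_of_span_target f g hg _ (fun i => ?_)⟩
  exact (hd (s.equivFin.symm i)).mono (Finset.le_sup (Finset.mem_univ _))

end SpanTarget

end Groth.Agent.Lib.helper3.PerfHomLoc
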