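import Mathlib
import Groth.Agent.Lib.Helper3.PerfHom2

/-!
# helper3: finite tor dimension of ring maps: `RingHom.PropertyIsLocal`; perfect ring maps are local
-/

set_option autoImplicit false
universe u
open CategoryTheory CategoryTheory.Limits TensorProduct

attribute [local instance] HasDerivedCategory.standard

namespace Groth.Agent.Lib.helper3.PerfHomLoc

open Groth.Agent.Lib.helper23.TA Groth.Agent.Lib.helper23.ExtSc
open Groth.Agent.Lib.helper3.PCQuot Groth.Agent.Lib.helper3.PCHomLoc
open Groth.Agent.Lib.helper13.TorLow Groth.Agent.Lib.helper13.ExtKFlat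

section Counit

variable {R R' : Type u} [CommRing R] [CommRing R'] [Algebra R R'] (r : R)
  [IsLocalization.Away r R']

include r in
/-- for a localization `R → R'`, `R' ⊗_R M ≅ M` for `R'`-modules `M`. -/
theorem nonempty_extendRestrictIso (M : ModuleCat.{u} R') :
    Nonempty ((ModuleCat.extendScalars.{u, u, u} (algebraMap R R')).obj
      ((ModuleCat.restrictScalars.{u} (algebraMap R R')).obj M) ≅ M) := by
  let X := (ModuleCat.restrictScalars.{u} (algebraMap R R')).obj M
  letI : Module R' X := inferInstanceAs (Module R' M)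
  haveI : IsScalarTower R R' X := ⟨fun a b x => by
    show (a • b) • (x : M) = algebraMap R R' a • (b • (x : M))
    rw [Algebra.smul_def, mul_smul]⟩
  haveI : IsLocalizedModule (Submonoid.powers r) (LinearMap.id : X →ₗ[R] X) :=
    isLocalizedModule_id (Submonoid.powers r) X R'
  let e1 : R' ⊗[R] X ≃ₗ[R'] X :=
    (IsLocalizedModule.isBaseChange (Submonoid.powers r) R' (LinearMap.id : X →ₗ[R] X)).equiv
  let e2 : X ≃ₗ[R'] M :=
    { toFun := fun x => x
      invFun := fun x => x
      map_add' := fun _ _ => rfl
      map_smul' := fun _ _ => rfl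
      left_inv := fun _ => rfl
      right_inv := fun _ => rfl }
  exact ⟨LinearEquiv.toModuleIso (X₂ := M) (((extendObjEquiv (B := R') X).trans e1).trans e2)⟩

end Counit

section Local

theorem ftd_stableUnderComposition : RingHom.StableUnderComposition @FTD.{u} :=
  fun _ _ _ _ _ _ f g hf hg => ftd_comp f g hf hg

theorem ftd_holdsForLocalizationAway : RingHom.HoldsForLocalizationAway @FTD.{u} := by
  intro R S _ _ _ r _
  exact ⟨0, ftdle_of_flat _ ((RingHom.flat_algebraMap_iff).2
    (IsLocalization.flat S (Submonoid.powers r)))⟩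

theorem ftd_ofLocalizationSpanTarget : RingHom.OfLocalizationSpanTarget @FTD.{u} :=
  (RingHom.ofLocalizationSpanTarget_iff_finite @FTD.{u}).2
    (fun _ _ _ _ f s hs h => ftd_of_finite_span_target f s hs h)

theorem ftd_localizationAwayPreserves : RingHom.LocalizationAwayPreserves @FTD.{u} := by
  intro R S _ _ f r R' S' _ _ _ _ _ _ hf
  obtain ⟨d, hd⟩ := hf
  refine ⟨d, ?_⟩
  have hfl : (algebraMap S S').Flat :=
    (RingHom.flat_algebraMap_iff).2 (IsLocalization.flat S' (Submonoid.powers (f r)))
  have h1 : FTDLE ((algebraMap S S').comp f) (0 + d) := ftdle_comp f _ hd (ftdle_of_flat _ hfl)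
  have h2 : (IsLocalization.Away.map R' S' f r).comp (algebraMap R R') =
      (algebraMap S S').comp f := IsLocalization.map_comp _
  rw [← h2, zero_add] at h1
  have hψ : (algebraMap R R').Flat :=
    (RingHom.flat_algebraMap_iff).2 (IsLocalization.flat R' (Submonoid.powers r))
  let K : DRing.Cx R := (HomologicalComplex.single _ (ComplexShape.up ℤ) 0).obj
    (Sf ((IsLocalization.Away.map R' S' f r).comp (algebraMap R R')))
  have h3 : DRing.HasTorAmplitudeIn R (-(d : ℤ)) 0 (DRing.toD K) :=
    hasTorAmplitudeIn_of_iso ((DerivedCategory.singleFunctorIsoCompQ _ 0).app _) h1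
  have h4 := Groth.Agent.Lib.helper13.PCStalk.hasTorAmplitudeIn_extend_of_flat
    (algebraMap R R') hψ K _ _ h3
  obtain ⟨e⟩ := nonempty_extendRestrictIso r (Sf (IsLocalization.Away.map R' S' f r))
  let i1 := (HomologicalComplex.singleMapHomologicalComplex
    (ModuleCat.extendScalars.{u, u, u} (algebraMap R R')) (ComplexShape.up ℤ) 0).app
      (Sf ((IsLocalization.Away.map R' S' f r).comp (algebraMap R R')))
  let i2 : (ModuleCat.extendScalars.{u, u, u} (algebraMap R R')).obj
      (Sf ((IsLocalization.Away.map R' S' f r).comp (algebraMap R R'))) ≅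
      Sf (IsLocalization.Away.map R' S' f r) :=
    (ModuleCat.extendScalars.{u, u, u} (algebraMap R R')).mapIso
      (restrictCompIso (algebraMap R R') (IsLocalization.Away.map R' S' f r)
        (ModuleCat.of S' S')).symm ≪≫ e
  exact hasTorAmplitudeIn_of_iso (DerivedCategory.Q.mapIso (i1 ≪≫
    (HomologicalComplex.single _ (ComplexShape.up ℤ) 0).mapIso i2) ≪≫
      ((DerivedCategory.singleFunctorIsoCompQ _ 0).app _).symm) h4

theorem ftd_stableUnderCompositionWithLocalizationAway :
    RingHom.StableUnderCompositionWithLocalizationAway @FTD.{u} :=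
  ftd_stableUnderComposition.stableUnderCompositionWithLocalizationAway
    ftd_holdsForLocalizationAway

theorem ftd_isLocal : RingHom.PropertyIsLocal @FTD.{u} :=
  ⟨ftd_localizationAwayPreserves, ftd_ofLocalizationSpanTarget,
    ftd_ofLocalizationSpanTarget.ofLocalizationSpan
      ftd_stableUnderCompositionWithLocalizationAway.left,
    ftd_stableUnderCompositionWithLocalizationAway.right⟩

end Local

end Groth.Agent.Lib.helper3.PerfHomLoc
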