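import Mathlib
import Groth.Agent.Lib.Helper3.PerfHom3

/-!
# helper3: perfect ring maps are local; perfect morphisms of schemes as a `HasRingHomProperty`
-/

set_option autoImplicit false
universe u
open CategoryTheory CategoryTheory.Limits AlgebraicGeometry

namespace Groth.Agent.Lib.helper3.PerfHomLoc

open Groth.Agent.Lib.helper3.PCHomLoc

/-- instance-free form of "perfect ring map". -/
def PFH {R S : Type u} [CommRing R] [CommRing S] (f : R →+* S) : Prop := PCH f ∧ FTD f

theorem pfh_iff_toAlgebra {R S : Type u} [CommRing R] [CommRing S] (f : R →+* S) :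
    (letI := f.toAlgebra; MoreMor.IsPerfectHom R S) ↔ PFH f :=
  and_congr (pch_iff_toAlgebra f) (ftd_iff_toAlgebra f)

theorem isPerfectHom_iff_pfh {R S : Type u} [CommRing R] [CommRing S] [Algebra R S] :
    MoreMor.IsPerfectHom R S ↔ PFH (algebraMap R S) :=
  and_congr isPseudoCoherentHom_iff_pch hasFiniteTorDim_iff_ftd

theorem pfh_isLocal : RingHom.PropertyIsLocal @PFH.{u} :=
  pch_isLocal.and ftd_isLocal

theorem pfh_stableUnderComposition : RingHom.StableUnderComposition @PFH.{u} :=
  fun _ _ _ _ _ _ f g hf hg => ⟨pch_comp f g hf.1 hg.1, ftd_comp f g hf.2 hg.2⟩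

theorem pfh_holdsForLocalizationAway : RingHom.HoldsForLocalizationAway @PFH.{u} :=
  fun _ S _ _ _ r _ => ⟨pch_holdsForLocalizationAway S r, ftd_holdsForLocalizationAway S r⟩

theorem pfh_stableUnderCompositionWithLocalizationAway :
    RingHom.StableUnderCompositionWithLocalizationAway @PFH.{u} :=
  pfh_stableUnderComposition.stableUnderCompositionWithLocalizationAway
    pfh_holdsForLocalizationAway

/-- perfect morphisms as a morphism property. -/
def perfMor : MorphismProperty Scheme.{u} := fun _ _ f => MoreMor.IsPerfectMor f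

theorem isPerfectMor_iff_affineLocally {X Y : Scheme.{u}} (f : X ⟶ Y) :
    MoreMor.IsPerfectMor f ↔ affineLocally @PFH f := by
  rw [affineLocally_iff_affineOpens_le]
  constructor
  · intro h U V e
    exact (pfh_iff_toAlgebra _).1 (h V.1 U.1 V.2 U.2 e)
  · intro h U V hU hV hUV
    exact (pfh_iff_toAlgebra _).2 (h ⟨V, hV⟩ ⟨U, hU⟩ hUV)

instance : HasRingHomProperty perfMor.{u} @PFH where
  isLocal_ringHomProperty := pfh_isLocal
  eq_affineLocally' := by
    ext X Y f
    exact isPerfectMor_iff_affineLocally f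

/-- the local criterion for perfect morphisms. -/
theorem isPerfectMor_iff_exists {X Y : Scheme.{u}} (f : X ⟶ Y) :
    MoreMor.IsPerfectMor f ↔
      ∀ x : X, ∃ (U : Y.affineOpens) (V : X.affineOpens) (_ : x ∈ V.1) (e : V.1 ≤ f ⁻¹ᵁ U.1),
        PFH (f.appLE U V e).hom :=
  HasRingHomProperty.iff_exists_appLE (P := perfMor) (f := f)
    pfh_stableUnderCompositionWithLocalizationAway.left

theorem pfh_appLE {X Y : Scheme.{u}} (f : X ⟶ Y) (h : MoreMor.IsPerfectMor f)
    {U : X.Opens} {V : Y.Opens} (hU : IsAffineOpen U) (hV : IsAffineOpen V) (e : U ≤ f ⁻¹ᵁ V) :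
    PFH (f.appLE V U e).hom :=
  (pfh_iff_toAlgebra _).1 (h U V hU hV e)

theorem isPseudoCoherentMor_of_isPerfectMor {X Y : Scheme.{u}} (f : X ⟶ Y)
    (h : MoreMor.IsPerfectMor f) : MoreMor.IsPseudoCoherentMor f :=
  fun U V hU hV e => (h U V hU hV e).1

end Groth.Agent.Lib.helper3.PerfHomLoc
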