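import Mathlib
import Groth.Agent.Lib.Helper3.PCHom3
import Groth.Agent.Lib.Helper23.DRingPC11
import Groth.Agent.S7071

/-!
# helper3: for a finite ring map, pseudo-coherent ring map ⇔ pseudo-coherent module
-/

set_option autoImplicit false
universe u
open CategoryTheory CategoryTheory.Limits AlgebraicGeometry

attribute [local instance] HasDerivedCategory.standard

namespace Groth.Agent.Lib.helper3.PCFin

open Groth.Agent.Lib.helper23.PCohCore Groth.Agent.Lib.helper23.DRingPC
open Groth.Agent.Lib.helper3.PCHomLoc

section Ring

variable {A B : Type u} [CommRing A] [CommRing B] [Algebra A B]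

theorem pch_iff_pcHom_of_finite [Module.Finite A B] :
    PCH (algebraMap A B) ↔ PCHom (algebraMap A B) := by
  have hAA : MoreMor.IsPseudoCoherentHom A A := by
    rw [isPseudoCoherentHom_iff_pch]
    exact pch_ringEquiv (RingEquiv.refl A)
  rw [pch_iff_relAll]
  refine forall_congr' fun m => ?_
  show DerCA.IsRelPseudoCoherent A B m (Dual.inD B B) ↔ _
  rw [isRelPseudoCoherent_restrict_of_finite (R := A) (A := A) (B := B),
    Groth.Agent.S7071.result A A hAA, isPseudoCoherent_iff_npc, npc_restrict_single_iff]

theorem pch_iff_isPseudoCoherentModule'_of_finite [Module.Finite A B] :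
    PCH (algebraMap A B) ↔ DRing.IsPseudoCoherentModule' A B := by
  rw [pch_iff_pcHom_of_finite]
  unfold DRing.IsPseudoCoherentModule'
  rw [isPseudoCoherent'_iff_npc]
  have e : ModuleCat.of A B ≅ (ModuleCat.restrictScalars.{u} (algebraMap A B)).obj
      (ModuleCat.of B B) :=
    Groth.Agent.Lib.helper3.PCQuot.restrictOfIso (algebraMap A B) B
      (fun r x => Algebra.smul_def r x)
  exact forall_congr' fun m =>
    ⟨fun h => h.of_iso ((DerivedCategory.singleFunctor _ 0).mapIso e.symm),
      fun h => h.of_iso ((DerivedCategory.singleFunctor _ 0).mapIso e)⟩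

end Ring

end Groth.Agent.Lib.helper3.PCFin
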