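import Mathlib
import Groth.Prelude.Def_DRing2
import Groth.Prelude.Def_LCI2
import Groth.Agent.Lib.Helper7.KoszulLow
import Groth.Agent.Lib.Helper26.Kos12
import Groth.Agent.Lib.Helper23.DRingPC7
import Groth.Agent.Lib.Helper23.TA12

/-!
# helper3: the Koszul complex of a Koszul-regular sequence resolves the quotient

* `koszul_terms`: terms of `Koszul.koszul R l` are finite free, zero outside `[-length l, 0]`.
* `koszul_iso_single`: for `l` Koszul-regular, `Q (koszul R l) ≅ (R ⧸ span l)[0]` in `D(R)`.
* `isPseudoCoherent'_quot`, `hasTorAmplitudeIn_quot`.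
-/

set_option autoImplicit false
universe u
open CategoryTheory CategoryTheory.Limits

attribute [local instance] HasDerivedCategory.standard

namespace Groth.Agent.Lib.helper3.KosPerf

open Groth.Agent.Lib.helper23.PCohCore Groth.Agent.Lib.helper23.DRingPC
open Groth.Agent.Lib.helper7.KoszulLow

variable {R : Type u} [CommRing R]

theorem koszul_terms : ∀ (l : List R) (n : ℤ), FF R ((Koszul.koszul R l).X n) ∧
    ((n < -(l.length : ℤ) ∨ 0 < n) → IsZero ((Koszul.koszul R l).X n))
  | [], n => by
    by_cases hn : n = 0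
    · subst hn
      refine ⟨?_, fun h => ?_⟩
      · exact (FF R).prop_of_iso
          (HomologicalComplex.singleObjXSelf (ComplexShape.up ℤ) 0 (ModuleCat.of R R)).symm
          ⟨inferInstanceAs (Module.Finite R R), inferInstanceAs (Module.Free R R)⟩
      · simp at h
    · have hz : IsZero ((Koszul.koszul R []).X n) :=
        HomologicalComplex.isZero_single_obj_X (ComplexShape.up ℤ) 0 (ModuleCat.of R R) n hn
      exact ⟨(FF R).prop_of_isZero hz, fun _ => hz⟩
  | f :: l, n => by
    have h1 := koszul_terms l (n + 1)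
    have h2 := koszul_terms l n
    refine ⟨prop_mappingCone_X (FF R) (FF_sum R) (f • 𝟙 (Koszul.koszul R l)) n h1.1 h2.1,
      fun h => ?_⟩
    refine HomologicalComplex.homotopyCofiber.isZero_X (f • 𝟙 (Koszul.koszul R l)) n
      (h2.2 ?_) ?_
    · rcases h with h | h
      · left
        simp only [List.length_cons, Nat.cast_add, Nat.cast_one] at h
        omega
      · right; exact h
    · intro j hj
      simp only [ComplexShape.up_Rel] at hj
      subst hj
      refine h1.2 ?_
      rcases h with h | h
      · left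
        simp only [List.length_cons, Nat.cast_add, Nat.cast_one] at h
        omega
      · right; omega

/-- the image of `d^{-1}` in degree `0` is the ideal generated by `l`. -/
theorem range_d_map_e0 (l : List R) :
    (LinearMap.range ((Koszul.koszul R l).d (-1) 0).hom).map (lowData R l).e0.toLinearMap =
      (Ideal.span {x | x ∈ l} : Submodule R R) := by
  apply le_antisymm
  · rintro _ ⟨_, ⟨x, rfl⟩, rfl⟩
    show (lowData R l).e0 (((Koszul.koszul R l).d (-1) 0).hom x) ∈ _
    rw [(lowData R l).hd1 x]
    refine Submodule.sum_mem _ (fun i _ => ?_)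
    exact Ideal.mul_mem_left _ _ (Ideal.subset_span (List.get_mem l i))
  · rw [Ideal.span, Submodule.span_le]
    intro b hb
    obtain ⟨i, rfl⟩ := List.mem_iff_get.1 hb
    refine ⟨((Koszul.koszul R l).d (-1) 0).hom ((lowData R l).e1.symm (Pi.single i 1)),
      ⟨_, rfl⟩, ?_⟩
    show (lowData R l).e0 (((Koszul.koszul R l).d (-1) 0).hom _) = _
    rw [(lowData R l).hd1, LinearEquiv.apply_symm_apply]
    rw [Finset.sum_eq_single i]
    · simp
    · intro j _ hj
      simp [Pi.single_apply, hj]
    · intro h
      exact absurd (Finset.mem_univ i) h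

/-- `H^0` of the Koszul complex. -/
theorem nonempty_homology_zero_iso (l : List R) :
    Nonempty ((Koszul.koszul R l).homology 0 ≅ ModuleCat.of R (R ⧸ Ideal.span {x | x ∈ l})) := by
  obtain ⟨e⟩ := Groth.Agent.Lib.helper26.Kos.homology_zero_equiv_of_low R (Koszul.koszul R l)
    (Ideal.span {x | x ∈ l} : Submodule R R) (lowData R l).e0
    ((lowData R l).zero_pos 1 one_pos) (range_d_map_e0 l)
  exact ⟨e.toModuleIso⟩

/-- For a Koszul-regular sequence, the Koszul complex is a resolution of the quotient. -/
theorem koszul_iso_single (l : List R) (h : LCI.IsKoszulRegularSeq R l) :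
    Nonempty (DerivedCategory.Q.obj (Koszul.koszul R l) ≅
      (DerivedCategory.singleFunctor (ModuleCat.{u} R) 0).obj
        (ModuleCat.of R (R ⧸ Ideal.span {x | x ∈ l}))) := by
  set K := Koszul.koszul R l with hK
  haveI : (DerivedCategory.Q.obj K).IsGE 0 := by
    rw [DerivedCategory.isGE_iff]
    intro i hi
    exact (h i (ne_of_lt hi)).of_iso ((DerivedCategory.homologyFunctorFactors _ i).app K)
  haveI : (DerivedCategory.Q.obj K).IsLE 0 := by
    rw [DerivedCategory.isLE_iff]
    intro i hi
    exact (h i (ne_of_gt hi)).of_iso ((DerivedCategory.homologyFunctorFactors _ i).app K)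
  obtain ⟨Y, ⟨e⟩⟩ :=
    DerivedCategory.exists_iso_singleFunctor_obj_of_isGE_of_isLE (DerivedCategory.Q.obj K) 0
  obtain ⟨e0⟩ := nonempty_homology_zero_iso l
  have iY : Y ≅ ModuleCat.of R (R ⧸ Ideal.span {x | x ∈ l}) :=
    ((DerivedCategory.singleFunctorCompHomologyFunctorIso (ModuleCat.{u} R) 0).app Y).symm ≪≫
      (DerivedCategory.homologyFunctor (ModuleCat.{u} R) 0).mapIso e.symm ≪≫
      (DerivedCategory.homologyFunctorFactors (ModuleCat.{u} R) 0).app K ≪≫ e0
  exact ⟨e ≪≫ (DerivedCategory.singleFunctor (ModuleCat.{u} R) 0).mapIso iY⟩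

theorem isPseudoCoherent'_quot (l : List R) (h : LCI.IsKoszulRegularSeq R l) :
    DRing.IsPseudoCoherent' R ((DerivedCategory.singleFunctor (ModuleCat.{u} R) 0).obj
      (ModuleCat.of R (R ⧸ Ideal.span {x | x ∈ l}))) := by
  obtain ⟨e⟩ := koszul_iso_single l h
  exact ⟨Koszul.koszul R l, 0, fun i hi => (koszul_terms l i).2 (Or.inr hi),
    fun i => (koszul_terms l i).1, ⟨e⟩⟩

theorem hasTorAmplitudeIn_quot (l : List R) (h : LCI.IsKoszulRegularSeq R l) :
    DRing.HasTorAmplitudeIn R (-(l.length : ℤ)) 0
      ((DerivedCategory.singleFunctor (ModuleCat.{u} R) 0).obj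
        (ModuleCat.of R (R ⧸ Ideal.span {x | x ∈ l}))) := by
  obtain ⟨e⟩ := koszul_iso_single l h
  refine ⟨Koszul.koszul R l, fun i hi => (koszul_terms l i).2 hi, fun i => ?_, ⟨e⟩⟩
  haveI := (koszul_terms l i).1.2
  infer_instance

end Groth.Agent.Lib.helper3.KosPerf
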