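import Mathlib
import Groth.Agent.Lib.Helper3.PerfHom4
import Groth.Agent.Lib.Helper3.KosPerf
import Groth.Agent.S15821

/-!
# helper3: a surjection with Koszul-regular (or regular) kernel is a perfect ring map; Koszul-regular
immersions and regular closed immersions are perfect morphisms
-/

set_option autoImplicit false
universe u
open CategoryTheory CategoryTheory.Limits AlgebraicGeometry

attribute [local instance] HasDerivedCategory.standard

namespace Groth.Agent.Lib.helper3.PerfKos

open Groth.Agent.Lib.helper23.PCohCore Groth.Agent.Lib.helper23.DRingPC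
open Groth.Agent.Lib.helper23.TA
open Groth.Agent.Lib.helper3.PCHomLoc Groth.Agent.Lib.helper3.PerfHomLoc

section Ring

variable {A B : Type u} [CommRing A] [CommRing B]

/-- a surjective ring map through which the target is a pseudo-coherent module is a pseudo-coherent
ring map. -/
theorem pch_of_surjective (φ : A →+* B) (hφ : Function.Surjective φ) (h : PCHom φ) : PCH φ := by
  let e₁ : MvPolynomial (Fin 0) A ≃+* A := MvPolynomial.isEmptyRingEquiv A (Fin 0)
  refine ⟨0, φ.comp e₁.toRingHom, ?_, hφ.comp e₁.surjective, ?_⟩
  · ext a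
    simp only [RingHom.comp_apply, RingEquiv.toRingHom_eq_coe, RingHom.coe_coe]
    congr 1
    exact (MvPolynomial.isEmptyAlgEquiv A (Fin 0)).commutes a
  · exact PCHom.transport e₁ (RingEquiv.refl B) (φ.comp e₁.toRingHom) φ (fun p => rfl) h

/-- the quotient by the kernel, as a module. -/
noncomputable def quotIso (φ : A →+* B) (hφ : Function.Surjective φ) (I : Ideal A)
    (hker : RingHom.ker φ = I) : ModuleCat.of A (A ⧸ I) ≅ Sf φ := by
  let l0 : A →ₗ[A] Sf φ :=
    { toFun := fun p => (φ p : B)
      map_add' := fun p q => map_add φ p q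
      map_smul' := fun a p => by
        show φ (a * p) = φ a * φ p
        exact map_mul φ a p }
  have hl0 : Function.Surjective l0 := hφ
  have hk : LinearMap.ker l0 = I := by
    rw [← hker]
    ext x
    rfl
  exact ((Submodule.quotEquivOfEq _ _ hk.symm).trans
    (l0.quotKerEquivOfSurjective hl0)).toModuleIso

theorem pfh_of_surjective_of_koszul (φ : A →+* B) (hφ : Function.Surjective φ) (l : List A)
    (hl : LCI.IsKoszulRegularSeq A l) (hker : RingHom.ker φ = Ideal.ofList l) : PFH φ := by
  have e := quotIso φ hφ (Ideal.span {x | x ∈ l}) hker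
  constructor
  · refine pch_of_surjective φ hφ (fun m => ?_)
    have h0 := (isPseudoCoherent'_iff_npc _ _).1
      (Groth.Agent.Lib.helper3.KosPerf.isPseudoCoherent'_quot l hl) m
    exact h0.of_iso ((DerivedCategory.singleFunctor _ 0).mapIso e)
  · exact ⟨l.length, hasTorAmplitudeIn_of_iso ((DerivedCategory.singleFunctor _ 0).mapIso e)
      (Groth.Agent.Lib.helper3.KosPerf.hasTorAmplitudeIn_quot l hl)⟩

theorem pfh_of_surjective_of_regular (φ : A →+* B) (hφ : Function.Surjective φ) (l : List A)
    (hl : RingTheory.Sequence.IsWeaklyRegular A l) (hker : RingHom.ker φ = Ideal.ofList l) :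
    PFH φ :=
  pfh_of_surjective_of_koszul φ hφ l (Groth.Agent.S15821.result A l hl).1 hker

end Ring

end Groth.Agent.Lib.helper3.PerfKos
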