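import Mathlib
import Groth.Agent.Lib.Helper3.PerfKos
import Groth.Prelude.Def_RegImm
import Groth.Prelude.Def_Mor2

/-!
# helper3: Koszul-regular immersions and regular closed immersions are perfect morphisms
-/

set_option autoImplicit false
universe u
open CategoryTheory CategoryTheory.Limits AlgebraicGeometry

namespace Groth.Agent.Lib.helper3.PerfKos

open Groth.Agent.Lib.helper3.PCHomLoc Groth.Agent.Lib.helper3.PerfHomLoc

section Scheme

variable {Z X : Scheme.{u}} (i : Z ⟶ X)

lemma app_surjective_of_eq {U U' : X.Opens} (h : U' = U)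
    (hs : Function.Surjective (i.app U').hom) : Function.Surjective (i.app U).hom := by
  subst h
  exact hs

/-- if `i ∣_ V` is a closed immersion for an affine open `V`, then `i⁻¹ V` is affine and
`Γ(X, V) → Γ(Z, i⁻¹ V)` is surjective. -/
theorem affine_and_surjective_of_restrict (V : X.Opens) (hV : IsAffineOpen V)
    (h : IsClosedImmersion (i ∣_ V)) :
    IsAffineOpen (i ⁻¹ᵁ V) ∧ Function.Surjective (i.app V).hom := by
  obtain ⟨h1, h2⟩ := isClosedImmersion_iff_isAffineHom.1 h
  haveI : IsAffine V.toScheme := hV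
  refine ⟨isAffine_of_isAffineHom (i ∣_ V), ?_⟩
  have h3 := h2 ⊤ (isAffineOpen_top _)
  rw [morphismRestrict_app] at h3
  have h4 : Function.Surjective (i.app (V.ι ''ᵁ ⊤)).hom := by
    intro y
    obtain ⟨x, hx⟩ := h3 ((Z.presheaf.map
      (eqToHom (image_morphismRestrict_preimage i V ⊤)).op).hom y)
    refine ⟨x, ?_⟩
    have hinj : Function.Injective (Z.presheaf.map
        (eqToHom (image_morphismRestrict_preimage i V ⊤)).op).hom :=
      ((ConcreteCategory.isIso_iff_bijective _).1 inferInstance).1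
    exact hinj hx
  exact app_surjective_of_eq i V.ι_image_top h4

/-- a morphism which is a Koszul-regular immersion at every point is perfect. -/
theorem isPerfectMor_of_forall_koszul
    (h : ∀ z : Z, RegImm.IsRegularImmersionAt .koszul i z) : MoreMor.IsPerfectMor i := by
  rw [isPerfectMor_iff_exists]
  intro z
  obtain ⟨U, hzU, hcl, rs, hrs, hker⟩ := h z
  obtain ⟨haff, hsurj⟩ := affine_and_surjective_of_restrict i U.1 U.2 hcl
  refine ⟨U, ⟨i ⁻¹ᵁ U.1, haff⟩, hzU, le_rfl, ?_⟩
  have he : i.appLE U.1 (i ⁻¹ᵁ U.1) le_rfl = i.app U.1 := (Scheme.Hom.app_eq_appLE i).symm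
  show PFH (i.appLE U.1 (i ⁻¹ᵁ U.1) le_rfl).hom
  rw [he]
  exact pfh_of_surjective_of_koszul _ hsurj rs hrs hker

/-- a regular closed immersion is perfect. -/
theorem isPerfectMor_of_isRegularClosedImmersion (hi : Mor2.IsRegularClosedImmersion i) :
    MoreMor.IsPerfectMor i := by
  obtain ⟨hcl, h⟩ := hi
  haveI := hcl
  rw [isPerfectMor_iff_exists]
  intro z
  obtain ⟨U, hU, hzU, rs, hrs, hker⟩ := h z
  obtain ⟨haff, hsurj⟩ := affine_and_surjective_of_restrict i U hU inferInstance
  refine ⟨⟨U, hU⟩, ⟨i ⁻¹ᵁ U, haff⟩, hzU, le_rfl, ?_⟩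
  have he : i.appLE U (i ⁻¹ᵁ U) le_rfl = i.app U := (Scheme.Hom.app_eq_appLE i).symm
  show PFH (i.appLE U (i ⁻¹ᵁ U) le_rfl).hom
  rw [he]
  refine pfh_of_surjective_of_regular _ hsurj rs hrs.toIsWeaklyRegular ?_
  rw [← hker, Scheme.Hom.ker_apply]

end Scheme

end Groth.Agent.Lib.helper3.PerfKos
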