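import Mathlib
import Groth.Prelude.Def_DualSh
import Groth.Agent.Lib.Helper23.TA13
import Groth.Agent.Lib.Helper23.TA11
import Groth.Agent.Lib.Helper23.DRingPC9
import Groth.Agent.Lib.Helper3.PCFlat
import Groth.Agent.S5929
/-!
# helper3: `R`-perfect objects of `D(A)` for `R → A` flat of finite presentation

`isRelPerfect_iff_bounded_fp_flat` : `K` is `R`-perfect iff it is represented by a bounded complex
of finitely presented `A`-modules which are flat over `R`.
-/

set_option autoImplicit false
set_option linter.style.haveILetI false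
universe u
open CategoryTheory CategoryTheory.Limits ZeroObject

attribute [local instance] HasDerivedCategory.standard

namespace Groth.Agent.Lib.helper3.RelPerf

open Groth.Agent.Lib.helper23.TA Groth.Agent.Lib.helper23.PCohCore
  Groth.Agent.Lib.helper23.DRingPC Groth.Agent.Lib.helper23.PCohAmp

variable (R A : Type u) [CommRing R] [CommRing A] [Algebra R A]

/-- finitely presented over `A` and flat over `R`. -/
def PrFl : ObjectProperty (ModuleCat.{u} A) := fun X =>
  Module.FinitePresentation A X ∧
    Module.Flat R ((ModuleCat.restrictScalars.{u} (algebraMap R A)).obj X)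

instance : (PrFl R A).IsClosedUnderIsomorphisms :=
  ⟨fun {X Y} e h => by
    obtain ⟨h1, h2⟩ := h
    haveI := h1
    haveI := h2
    exact ⟨Module.FinitePresentation.of_equiv e.toLinearEquiv,
      Module.Flat.of_linearEquiv
        ((ModuleCat.restrictScalars.{u} (algebraMap R A)).mapIso e).toLinearEquiv.symm⟩⟩

instance : (PrFl R A).ContainsZero :=
  ⟨⟨0, Limits.isZero_zero _, by
    haveI : Subsingleton ((0 : ModuleCat.{u} A) : Type u) :=
      ModuleCat.subsingleton_of_isZero (Limits.isZero_zero _)
    haveI : Subsingleton ((ModuleCat.restrictScalars.{u} (algebraMap R A)).obj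
        (0 : ModuleCat.{u} A)) := ‹Subsingleton ((0 : ModuleCat.{u} A) : Type u)›
    exact ⟨inferInstance, inferInstance⟩⟩⟩

variable {R A}

lemma prFl_of_finite_free [Module.Flat R A] (X : ModuleCat.{u} A) [Module.Finite A X]
    [Module.Free A X] : PrFl R A X := by
  haveI : Module.Projective A X := Module.Projective.of_free
  refine ⟨Module.finitePresentation_of_projective A X, ?_⟩
  letI : Module R X := Module.compHom X (algebraMap R A)
  haveI : IsScalarTower R A X := IsScalarTower.of_algebraMap_smul (fun _ _ => rfl)
  exact (Module.Flat.trans R A X : Module.Flat R X)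

/-- the cokernel of a differential, after restriction of scalars. -/
lemma flat_restrict_quotient (F : DRing.Cx A) (a : ℤ)
    (h : Module.Flat R (((((ModuleCat.restrictScalars.{u} (algebraMap R A)).mapHomologicalComplex
      (ComplexShape.up ℤ)).obj F).X a) ⧸ LinearMap.range
        ((((ModuleCat.restrictScalars.{u} (algebraMap R A)).mapHomologicalComplex
          (ComplexShape.up ℤ)).obj F).d (a - 1) a).hom)) :
    Module.Flat R ((ModuleCat.restrictScalars.{u} (algebraMap R A)).obj
      (ModuleCat.of A ((F.X a) ⧸ LinearMap.range (F.d (a - 1) a).hom))) := by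
  set FR := ((ModuleCat.restrictScalars.{u} (algebraMap R A)).mapHomologicalComplex
      (ComplexShape.up ℤ)).obj F with hFR
  let φ : FR.X a →ₗ[R] ((ModuleCat.restrictScalars.{u} (algebraMap R A)).obj
      (ModuleCat.of A ((F.X a) ⧸ LinearMap.range (F.d (a - 1) a).hom))) :=
    ((ModuleCat.restrictScalars.{u} (algebraMap R A)).map
      (ModuleCat.ofHom (LinearMap.range (F.d (a - 1) a).hom).mkQ)).hom
  have hφ : Function.Surjective φ :=
    Submodule.mkQ_surjective (LinearMap.range (F.d (a - 1) a).hom)
  have hker : LinearMap.range (FR.d (a - 1) a).hom = LinearMap.ker φ := by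
    ext x
    rw [LinearMap.mem_ker]
    have h0 : ∀ y : F.X a, y ∈ LinearMap.range (F.d (a - 1) a).hom ↔
        (LinearMap.range (F.d (a - 1) a).hom).mkQ y = 0 := fun y =>
      (Submodule.Quotient.mk_eq_zero (LinearMap.range (F.d (a - 1) a).hom)).symm
    exact h0 x
  exact Module.Flat.of_linearEquiv
    (((Submodule.quotEquivOfEq _ _ hker).trans (φ.quotKerEquivOfSurjective hφ)).symm)

variable [Module.Flat R A] [Algebra.FinitePresentation R A]

/-- a module which is f.p. over `A` and flat over `R` is pseudo-coherent over `A`. -/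
lemma pcMod_of_prFl (X : ModuleCat.{u} A) (h : PrFl R A X) : PCMod A X := by
  obtain ⟨h1, h2⟩ := h
  letI : Module R X := Module.compHom X (algebraMap R A)
  haveI : IsScalarTower R A X := IsScalarTower.of_algebraMap_smul (fun _ _ => rfl)
  haveI : Module.Flat R X := h2
  obtain ⟨P, hP⟩ := Groth.Agent.S5929.result R A X
  have h := Groth.Agent.Lib.helper3.PCFlat.isPseudoCoherent'_single_of_projectiveResolution
    (ModuleCat.of A X) P hP
  exact (isPseudoCoherent'_iff_npc _ _).1 h

theorem isRelPerfect_iff_bounded_fp_flat (K : Dual.D A) :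
    Dual2.IsRelPerfect R A K ↔
      ∃ (E : DRing.Cx A) (a b : ℤ), DRing.VanishesOutside E a b ∧
        (∀ i : ℤ, Module.FinitePresentation A (E.X i) ∧
          Module.Flat R ((ModuleCat.restrictScalars (algebraMap R A)).obj (E.X i))) ∧
        Nonempty (DRing.toD E ≅ K) := by
  constructor
  · rintro ⟨hpc, a, b, hTA⟩
    obtain ⟨F, c, hc, hFF, ⟨e⟩⟩ := hpc
    let FR : DRing.Cx R := ((ModuleCat.restrictScalars.{u} (algebraMap R A)).mapHomologicalComplex
      (ComplexShape.up ℤ)).obj F
    have eR : DerivedCategory.Q.obj FR ≅ (DRing.restrictD (algebraMap R A)).obj K :=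
      (restrictDQIso (A := R) (B := A) F).symm ≪≫ (DRing.restrictD (algebraMap R A)).mapIso e
    have hPr : ∀ i, PrFl R A (F.X i) := fun i => by
      haveI := (hFF i).1
      haveI := (hFF i).2
      exact prFl_of_finite_free (F.X i)
    have hflR : DRing.TermwiseFlat FR := fun i => (hPr i).2
    have hcR : DRing.VanishesAbove FR c := fun i hi =>
      (ModuleCat.restrictScalars.{u} (algebraMap R A)).map_isZero (hc i hi)
    have htv : TVL a FR := tvl_of_rep hTA FR c hcR hflR eR
    have hqfl := flat_quotient_of_tvl FR hflR a htv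
    have hex : ∀ i, i < a → F.ExactAt i := by
      intro i hi
      rw [HomologicalComplex.exactAt_iff_isZero_homology]
      have h1 := isZero_homology_of_hasTorAmplitudeIn hTA i (Or.inl hi)
      have h2 := (restrict_hb (algebraMap R A) K i).1 h1
      exact h2.of_iso (((DerivedCategory.homologyFunctorFactors _ i).app F).symm ≪≫
        (DerivedCategory.homologyFunctor _ i).mapIso e)
    have hq : PrFl R A (ModuleCat.of A ((F.X a) ⧸ LinearMap.range (F.d (a - 1) a).hom)) := by
      haveI := (hFF a).1
      haveI := (hFF a).2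
      haveI := (hFF (a - 1)).1
      haveI : Module.Projective A (F.X a) := Module.Projective.of_free
      haveI : Module.FinitePresentation A (F.X a) := Module.finitePresentation_of_projective A _
      refine ⟨?_, flat_restrict_quotient F a hqfl⟩
      refine Module.finitePresentation_of_surjective
        (LinearMap.range (F.d (a - 1) a).hom).mkQ (Submodule.mkQ_surjective _) ?_
      rw [Submodule.ker_mkQ, LinearMap.range_eq_map]
      exact Module.Finite.fg_top.map _
    obtain ⟨E, hE, hz, ⟨eE⟩⟩ := amp_truncGE (PrFl R A) F c hc a hex (fun i _ => hPr i) hq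
    exact ⟨E, a, c, hz, hE, ⟨eE ≪≫ e⟩⟩
  · rintro ⟨E, a, b, hvan, hterms, ⟨e⟩⟩
    refine ⟨?_, a, b, ?_⟩
    · rw [isPseudoCoherent'_iff_npc]
      intro m
      refine NPC.of_iso ?_ e
      exact NPC.of_terms (FF A) (FF_sum A) (FF_hqs A) (FF_hql A) m E b
        (fun i hi => hvan i (Or.inr hi)) (fun i _ => pcMod_of_prFl (R := R) (E.X i) (hterms i) (m - i))
    · refine hasTorAmplitudeIn_of_iso ((restrictDQIso (A := R) (B := A) E).symm ≪≫
        (DRing.restrictD (algebraMap R A)).mapIso e) ?_
      exact ⟨_, fun i hi => (ModuleCat.restrictScalars.{u} (algebraMap R A)).map_isZero (hvan i hi),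
        fun i => (hterms i).2, ⟨Iso.refl _⟩⟩

end Groth.Agent.Lib.helper3.RelPerf
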