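import Mathlib
import Groth.Agent.Lib.Helper3.PCHom3
import Groth.Agent.Lib.Helper23.BaseChg2
import Groth.Agent.Lib.Helper23.ExtSc3

/-!
# helper3: base change of presentations: for a pushout square `S' = S ⊗_R R'` and a presentation
`α : R[x] → S`, the induced `α' : R'[x] → S'` makes `S' = R'[x] ⊗_{R[x]} S`.
-/

set_option autoImplicit false
universe u
open CategoryTheory CategoryTheory.Limits TensorProduct

attribute [local instance] HasDerivedCategory.standard
attribute [local instance] MvPolynomial.algebraMvPolynomial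

namespace Groth.Agent.Lib.helper3.PCBC

open Groth.Agent.Lib.helper23.PCohCore Groth.Agent.Lib.helper23.DRingPC
open Groth.Agent.Lib.helper23.ExtSc Groth.Agent.Lib.helper23.BaseChg
open Groth.Agent.Lib.helper3.PCHomLoc Groth.Agent.Lib.helper3.PCQuot

section Setup

variable {R S R' S' : Type u} [CommRing R] [CommRing S] [CommRing R'] [CommRing S']
  [Algebra R S] [Algebra R R'] [Algebra S S'] [Algebra R' S'] [Algebra R S']
  [IsScalarTower R S S'] [IsScalarTower R R' S'] {n : ℕ}
  (α : MvPolynomial (Fin n) R →ₐ[R] S)

/-- the base-changed presentation. -/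
noncomputable def bcPres : MvPolynomial (Fin n) R' →ₐ[R'] S' :=
  MvPolynomial.aeval (fun i => algebraMap S S' (α (MvPolynomial.X i)))

lemma bcPres_map (p : MvPolynomial (Fin n) R) :
    bcPres (R' := R') (S' := S') α (MvPolynomial.map (algebraMap R R') p) =
      algebraMap S S' (α p) := by
  induction p using MvPolynomial.induction_on with
  | C a =>
    rw [MvPolynomial.map_C, bcPres, MvPolynomial.aeval_C, ← MvPolynomial.algebraMap_eq,
      α.commutes, ← IsScalarTower.algebraMap_apply, ← IsScalarTower.algebraMap_apply]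
  | add p q hp hq => rw [map_add, map_add, hp, hq, map_add, map_add]
  | mul_X p i hp =>
    rw [map_mul, map_mul, hp, MvPolynomial.map_X, bcPres, MvPolynomial.aeval_X, map_mul, map_mul]

lemma bcPres_surjective [Algebra.IsPushout R S R' S'] (hα : Function.Surjective α) :
    Function.Surjective (bcPres (R' := R') (S' := S') α) := by
  intro x
  obtain ⟨y, rfl⟩ := (Algebra.IsPushout.equiv R S R' S').surjective x
  induction y with
  | zero => exact ⟨0, by simp⟩
  | add a b ha hb =>
    obtain ⟨pa, hpa⟩ := ha
    obtain ⟨pb, hpb⟩ := hb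
    exact ⟨pa + pb, by rw [map_add, map_add, hpa, hpb]⟩
  | tmul s r' =>
    obtain ⟨p, rfl⟩ := hα s
    refine ⟨MvPolynomial.map (algebraMap R R') p * MvPolynomial.C r', ?_⟩
    rw [map_mul, bcPres_map, Algebra.IsPushout.equiv_tmul, bcPres, MvPolynomial.aeval_C]

/-- `S' = R'[x] ⊗_{R[x]} S` as modules over `R'[x]`. -/
theorem nonempty_extend_iso [Algebra.IsPushout R S R' S'] :
    Nonempty ((ModuleCat.extendScalars.{u, u, u}
      (algebraMap (MvPolynomial (Fin n) R) (MvPolynomial (Fin n) R'))).obj
      ((ModuleCat.restrictScalars.{u} (α : MvPolynomial (Fin n) R →+* S)).obj (ModuleCat.of S S)) ≅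
      (ModuleCat.restrictScalars.{u} (bcPres (R' := R') (S' := S') α :
        MvPolynomial (Fin n) R' →+* S')).obj (ModuleCat.of S' S')) := by
  letI aPS : Algebra (MvPolynomial (Fin n) R) S := (α : MvPolynomial (Fin n) R →+* S).toAlgebra
  letI aP'S' : Algebra (MvPolynomial (Fin n) R') S' :=
    (bcPres (R' := R') (S' := S') α : MvPolynomial (Fin n) R' →+* S').toAlgebra
  letI aPS' : Algebra (MvPolynomial (Fin n) R) S' :=
    ((algebraMap S S').comp (α : MvPolynomial (Fin n) R →+* S)).toAlgebra
  haveI t1 : IsScalarTower R (MvPolynomial (Fin n) R) S :=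
    IsScalarTower.of_algebraMap_eq' α.comp_algebraMap.symm
  haveI t2 : IsScalarTower (MvPolynomial (Fin n) R) S S' := IsScalarTower.of_algebraMap_eq' rfl
  haveI t3 : IsScalarTower (MvPolynomial (Fin n) R) (MvPolynomial (Fin n) R') S' := by
    refine IsScalarTower.of_algebraMap_eq' (RingHom.ext fun p => ?_)
    show algebraMap S S' (α p) = bcPres (R' := R') (S' := S') α
      (algebraMap (MvPolynomial (Fin n) R) (MvPolynomial (Fin n) R') p)
    rw [MvPolynomial.algebraMap_def, bcPres_map]
  haveI t4 : IsScalarTower R' (MvPolynomial (Fin n) R') S' :=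
    IsScalarTower.of_algebraMap_eq' (bcPres (R' := R') (S' := S') α).comp_algebraMap.symm
  haveI t5 : IsScalarTower R (MvPolynomial (Fin n) R') S' := by
    refine IsScalarTower.of_algebraMap_eq' (RingHom.ext fun r => ?_)
    show algebraMap R S' r = bcPres (R' := R') (S' := S') α
      (algebraMap R (MvPolynomial (Fin n) R') r)
    rw [IsScalarTower.algebraMap_apply R R' (MvPolynomial (Fin n) R'), AlgHom.commutes,
      ← IsScalarTower.algebraMap_apply]
  have hPO : Algebra.IsPushout (MvPolynomial (Fin n) R) S (MvPolynomial (Fin n) R') S' :=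
    (Algebra.IsPushout.comp_iff R (MvPolynomial (Fin n) R) R' (MvPolynomial (Fin n) R')
      (T := S) (T' := S')).1 inferInstance
  have hbc : IsBaseChange (MvPolynomial (Fin n) R')
      (IsScalarTower.toAlgHom (MvPolynomial (Fin n) R) S S').toLinearMap := hPO.symm.out
  let X : ModuleCat.{u} (MvPolynomial (Fin n) R) := ModuleCat.of (MvPolynomial (Fin n) R) S
  let e := (extendObjEquiv (B := MvPolynomial (Fin n) R') X).trans hbc.equiv
  let i1 : X ≅ (ModuleCat.restrictScalars.{u} (α : MvPolynomial (Fin n) R →+* S)).obj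
      (ModuleCat.of S S) :=
    restrictOfIso (α : MvPolynomial (Fin n) R →+* S) S (fun p x => rfl)
  let i2 : ModuleCat.of (MvPolynomial (Fin n) R') S' ≅
      (ModuleCat.restrictScalars.{u} (bcPres (R' := R') (S' := S') α :
        MvPolynomial (Fin n) R' →+* S')).obj (ModuleCat.of S' S') :=
    restrictOfIso _ S' (fun p x => rfl)
  exact ⟨(ModuleCat.extendScalars.{u, u, u} _).mapIso i1.symm ≪≫ e.toModuleIso ≪≫ i2⟩

/-- the base change of a polynomial ring along a flat map is flat. -/
theorem flat_mvPolynomial [Module.Flat R R'] :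
    Module.Flat (MvPolynomial (Fin n) R) (MvPolynomial (Fin n) R') := by
  have h : Algebra.IsPushout R (MvPolynomial (Fin n) R) R' (MvPolynomial (Fin n) R') :=
    inferInstance
  exact Module.Flat.isBaseChange R (MvPolynomial (Fin n) R) R' (MvPolynomial (Fin n) R') h.out

/-- the base change of a polynomial ring along a faithfully flat map is faithfully flat. -/
theorem faithfullyFlat_mvPolynomial [Module.FaithfullyFlat R R'] :
    Module.FaithfullyFlat (MvPolynomial (Fin n) R) (MvPolynomial (Fin n) R') := by
  have h : Algebra.IsPushout R (MvPolynomial (Fin n) R) R' (MvPolynomial (Fin n) R') :=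
    inferInstance
  exact Module.FaithfullyFlat.of_linearEquiv (R := MvPolynomial (Fin n) R)
    (M := MvPolynomial (Fin n) R ⊗[R] R') h.out.equiv.symm

end Setup

section Bridge

variable {A B : Type u} [CommRing A] [CommRing B] [Algebra A B]

/-- extension of scalars of a single complex, in the derived category. -/
noncomputable def extSingleIso (X : ModuleCat.{u} A) :
    DRing.toD (((ModuleCat.extendScalars.{u, u, u} (algebraMap A B)).mapHomologicalComplex
      (ComplexShape.up ℤ)).obj ((HomologicalComplex.single _ (ComplexShape.up ℤ) 0).obj X)) ≅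
    (DerivedCategory.singleFunctor (ModuleCat.{u} B) 0).obj
      ((ModuleCat.extendScalars.{u, u, u} (algebraMap A B)).obj X) :=
  DerivedCategory.Q.mapIso ((HomologicalComplex.singleMapHomologicalComplex
    (ModuleCat.extendScalars.{u, u, u} (algebraMap A B)) (ComplexShape.up ℤ) 0).app X) ≪≫
  ((DerivedCategory.singleFunctorIsoCompQ (ModuleCat.{u} B) 0).app _).symm

end Bridge

section BC

variable {R S R' S' : Type u} [CommRing R] [CommRing S] [CommRing R'] [CommRing S']
  [Algebra R S] [Algebra R R'] [Algebra S S'] [Algebra R' S'] [Algebra R S']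
  [IsScalarTower R S S'] [IsScalarTower R R' S'] [Algebra.IsPushout R S R' S'] {n : ℕ}
  (α : MvPolynomial (Fin n) R →ₐ[R] S)

/-- flat base change of a pseudo-coherent presentation. -/
theorem pcHom_bcPres [Module.Flat R R']
    (h : PCHom (α : MvPolynomial (Fin n) R →+* S)) :
    PCHom (bcPres (R' := R') (S' := S') α : MvPolynomial (Fin n) R' →+* S') := by
  intro m
  haveI := flat_mvPolynomial (R := R) (R' := R') (n := n)
  obtain ⟨e⟩ := nonempty_extend_iso (R' := R') (S' := S') α
  have h1 := (h m).of_iso ((DerivedCategory.singleFunctorIsoCompQ _ 0).app _)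
  have h2 := npc_extend_complex (B := MvPolynomial (Fin n) R') _ m h1
  exact (h2.of_iso (extSingleIso _)).of_iso ((DerivedCategory.singleFunctor _ 0).mapIso e)

/-- faithfully flat descent of a pseudo-coherent presentation. -/
theorem pcHom_of_bcPres [Module.FaithfullyFlat R R']
    (h : PCHom (bcPres (R' := R') (S' := S') α : MvPolynomial (Fin n) R' →+* S')) :
    PCHom (α : MvPolynomial (Fin n) R →+* S) := by
  intro m
  haveI := faithfullyFlat_mvPolynomial (R := R) (R' := R') (n := n)
  obtain ⟨e⟩ := nonempty_extend_iso (R' := R') (S' := S') α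
  refine NPC.of_iso (npc_of_faithfullyFlat (B := MvPolynomial (Fin n) R')
    ((HomologicalComplex.single _ (ComplexShape.up ℤ) 0).obj _) m ?_)
    ((DerivedCategory.singleFunctorIsoCompQ _ 0).app _).symm
  exact ((h m).of_iso ((DerivedCategory.singleFunctor _ 0).mapIso e.symm)).of_iso
    (extSingleIso _).symm

/-- flat base change of pseudo-coherent ring maps. -/
theorem pch_baseChange [Module.Flat R R'] (h : PCH (algebraMap R S)) :
    PCH (algebraMap R' S') := by
  obtain ⟨n, φ, hC, hφ, hpc⟩ := h
  refine ⟨n, (bcPres (R' := R') (S' := S') (toAlgHom φ hC) : MvPolynomial (Fin n) R' →+* S'),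
    algHom_comp_C _, bcPres_surjective _ hφ, pcHom_bcPres _ hpc⟩

/-- faithfully flat descent of pseudo-coherent ring maps (for finite type `R → S`). -/
theorem pch_of_baseChange [Module.FaithfullyFlat R R'] [Algebra.FiniteType R S]
    (h : PCH (algebraMap R' S')) : PCH (algebraMap R S) := by
  obtain ⟨n, α, hα⟩ := exists_presentation (R := R) (A := S)
  refine ⟨n, (α : MvPolynomial (Fin n) R →+* S), algHom_comp_C α, hα,
    pcHom_of_bcPres (R' := R') (S' := S') α ?_⟩
  -- independence of presentation over `R'`
  have h' := pch_iff_relAll.1 h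
  intro m
  have h1 := (isRelPseudoCoherent_iff_npc (bcPres (R' := R') (S' := S') α)
    (bcPres_surjective α hα) m _).1 (h' m)
  rwa [npc_restrict_single_iff] at h1

end BC

end Groth.Agent.Lib.helper3.PCBC
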