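import Mathlib
import Groth.Agent.Lib.Helper3.PCBC1
import Groth.Agent.Lib.Helper3.PerfHom4

/-!
# helper3: flat base change and faithfully flat descent for finite tor dimension / perfect ring maps;
`CommRingCat` pushout forms
-/

set_option autoImplicit false
universe u
open CategoryTheory CategoryTheory.Limits TensorProduct

attribute [local instance] HasDerivedCategory.standard

namespace Groth.Agent.Lib.helper3.PCBC

open Groth.Agent.Lib.helper23.TA Groth.Agent.Lib.helper23.ExtSc
open Groth.Agent.Lib.helper3.PCHomLoc Groth.Agent.Lib.helper3.PCQuot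
open Groth.Agent.Lib.helper3.PerfHomLoc

section FTD

variable {R S R' S' : Type u} [CommRing R] [CommRing S] [CommRing R'] [CommRing S']
  [Algebra R S] [Algebra R R'] [Algebra S S'] [Algebra R' S'] [Algebra R S']
  [IsScalarTower R S S'] [IsScalarTower R R' S'] [Algebra.IsPushout R S R' S']

/-- `S' = R' ⊗_R S` as `R'`-modules. -/
theorem nonempty_extend_Sf_iso :
    Nonempty ((ModuleCat.extendScalars.{u, u, u} (algebraMap R R')).obj (Sf (algebraMap R S)) ≅
      Sf (algebraMap R' S')) := by
  have hPO : Algebra.IsPushout R R' S S' := Algebra.IsPushout.symm inferInstance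
  have hbc : IsBaseChange R' (IsScalarTower.toAlgHom R S S').toLinearMap := hPO.out
  let X : ModuleCat.{u} R := ModuleCat.of R S
  let e := (extendObjEquiv (B := R') X).trans hbc.equiv
  let i1 : X ≅ Sf (algebraMap R S) :=
    restrictOfIso (algebraMap R S) S (fun r x => Algebra.smul_def r x)
  let i2 : ModuleCat.of R' S' ≅ Sf (algebraMap R' S') :=
    restrictOfIso (algebraMap R' S') S' (fun r x => Algebra.smul_def r x)
  exact ⟨(ModuleCat.extendScalars.{u, u, u} _).mapIso i1.symm ≪≫ e.toModuleIso ≪≫ i2⟩

/-- flat base change of finite tor dimension. -/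
theorem ftdle_baseChange [Module.Flat R R'] {d : ℕ} (h : FTDLE (algebraMap R S) d) :
    FTDLE (algebraMap R' S') d := by
  obtain ⟨e⟩ := nonempty_extend_Sf_iso (R := R) (S := S) (R' := R') (S' := S')
  have hfl : (algebraMap R R').Flat := (RingHom.flat_algebraMap_iff).2 inferInstance
  have h3 : DRing.HasTorAmplitudeIn R (-(d : ℤ)) 0 (DRing.toD
      ((HomologicalComplex.single _ (ComplexShape.up ℤ) 0).obj (Sf (algebraMap R S)))) :=
    hasTorAmplitudeIn_of_iso ((DerivedCategory.singleFunctorIsoCompQ _ 0).app _) h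
  have h4 := Groth.Agent.Lib.helper13.PCStalk.hasTorAmplitudeIn_extend_of_flat
    (algebraMap R R') hfl _ _ _ h3
  exact hasTorAmplitudeIn_of_iso (extSingleIso _ ≪≫
    (DerivedCategory.singleFunctor _ 0).mapIso e) h4

/-- faithfully flat descent of finite tor dimension. -/
theorem ftdle_of_baseChange [Module.FaithfullyFlat R R'] {d : ℕ}
    (h : FTDLE (algebraMap R' S') d) : FTDLE (algebraMap R S) d := by
  obtain ⟨e⟩ := nonempty_extend_Sf_iso (R := R) (S := S) (R' := R') (S' := S')
  refine hasTorAmplitudeIn_of_iso ((DerivedCategory.singleFunctorIsoCompQ _ 0).app _).symm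
    (hasTorAmplitudeIn_of_faithfullyFlat (B := R')
      ((HomologicalComplex.single _ (ComplexShape.up ℤ) 0).obj (Sf (algebraMap R S))) _ _ ?_)
  exact hasTorAmplitudeIn_of_iso ((extSingleIso _ ≪≫
    (DerivedCategory.singleFunctor _ 0).mapIso e)).symm h

theorem pfh_baseChange [Module.Flat R R'] (h : PFH (algebraMap R S)) :
    PFH (algebraMap R' S') := by
  obtain ⟨h1, d, h2⟩ := h
  exact ⟨pch_baseChange h1, d, ftdle_baseChange h2⟩

theorem pfh_of_baseChange [Module.FaithfullyFlat R R'] [Algebra.FiniteType R S]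
    (h : PFH (algebraMap R' S')) : PFH (algebraMap R S) := by
  obtain ⟨h1, d, h2⟩ := h
  exact ⟨pch_of_baseChange (R' := R') (S' := S') h1, d, ftdle_of_baseChange (R' := R') (S' := S') h2⟩

end FTD

section Cat

variable {A B A' B' : CommRingCat.{u}} {f : A ⟶ B} {g : A ⟶ A'} {g' : B ⟶ B'} {f' : A' ⟶ B'}

/-- flat base change of perfect / pseudo-coherent ring maps, pushout square in `CommRingCat`. -/
theorem pch_pfh_of_isPushout (H : IsPushout f g g' f') (hg : g.hom.Flat) :
    (PCH f.hom → PCH f'.hom) ∧ (PFH f.hom → PFH f'.hom) := by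
  letI := f.hom.toAlgebra
  letI := g.hom.toAlgebra
  letI := g'.hom.toAlgebra
  letI := f'.hom.toAlgebra
  letI := (f ≫ g').hom.toAlgebra
  haveI : IsScalarTower A B B' := .of_algebraMap_eq' rfl
  haveI : IsScalarTower A A' B' := .of_algebraMap_eq' (congrArg CommRingCat.Hom.hom H.w)
  haveI : Algebra.IsPushout A B A' B' := CommRingCat.isPushout_iff_isPushout.1 H
  haveI : Module.Flat A A' := hg
  exact ⟨fun hf => pch_baseChange (R := A) (S := B) (R' := A') (S' := B') hf,
    fun hf => pfh_baseChange (R := A) (S := B) (R' := A') (S' := B') hf⟩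

/-- faithfully flat descent of perfect / pseudo-coherent ring maps, pushout square in
`CommRingCat`. -/
theorem pch_pfh_of_isPushout_of_faithfullyFlat (H : IsPushout f g g' f')
    (hg : g.hom.FaithfullyFlat) (hft : f'.hom.FiniteType) :
    (PCH f'.hom → PCH f.hom) ∧ (PFH f'.hom → PFH f.hom) := by
  letI := f.hom.toAlgebra
  letI := g.hom.toAlgebra
  letI := g'.hom.toAlgebra
  letI := f'.hom.toAlgebra
  letI := (f ≫ g').hom.toAlgebra
  haveI : IsScalarTower A B B' := .of_algebraMap_eq' rfl
  haveI : IsScalarTower A A' B' := .of_algebraMap_eq' (congrArg CommRingCat.Hom.hom H.w)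
  haveI : Algebra.IsPushout A B A' B' := CommRingCat.isPushout_iff_isPushout.1 H
  haveI : Module.FaithfullyFlat A A' := hg
  haveI : Algebra.FiniteType A B := by
    have := RingHom.FiniteType.codescendsAlong_faithfullyFlat (R := A) (S := B) (R' := A')
      (S' := B') hg hft
    exact this
  exact ⟨fun hf => pch_of_baseChange (R := A) (S := B) (R' := A') (S' := B') hf,
    fun hf => pfh_of_baseChange (R := A) (S := B) (R' := A') (S' := B') hf⟩

end Cat

end Groth.Agent.Lib.helper3.PCBC
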