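import Groth.Agent.Lib.Helper3.GeomConnPt

/-!
Connectedness after an algebraic base field extension (helper3).
-/

set_option autoImplicit false
universe u

namespace Groth.Agent.Lib.helper3.GeomAlg

open TensorProduct AlgebraicGeometry CategoryTheory Limits

variable {k : Type u} [Field k] {X : Scheme.{u}} (f : X ⟶ Spec (CommRingCat.of k))

theorem isClosedMap_fst_of_isAlgebraic (K : Type u) [Field K] [Algebra k K]
    [Algebra.IsAlgebraic k K] :
    IsClosedMap (pullback.fst f (Spec.map (CommRingCat.ofHom (algebraMap k K)))) := by
  have h1 : IsIntegralHom (Spec.map (CommRingCat.ofHom (algebraMap k K))) := by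
    rw [IsIntegralHom.SpecMap_iff]
    exact algebraMap_isIntegral_iff.mpr inferInstance
  have h2 : IsIntegralHom (pullback.fst f (Spec.map (CommRingCat.ofHom (algebraMap k K)))) :=
    inferInstance
  exact Scheme.Hom.isClosedMap _

/-- Let `K/k` be algebraic, `X` connected and `g : T ⟶ X` a `k`-morphism with `T_K` connected.
Then `X_K` is connected. -/
theorem connectedSpace_bc_of_isAlgebraic {T : Scheme.{u}} (g : T ⟶ X) (K : Type u) [Field K]
    [Algebra k K] [Algebra.IsAlgebraic k K] [ConnectedSpace X]
    (hT : ConnectedSpace ↥(pullback (g ≫ f) (Spec.map (CommRingCat.ofHom (algebraMap k K))))) :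
    ConnectedSpace ↥(pullback f (Spec.map (CommRingCat.ofHom (algebraMap k K)))) := by
  obtain ⟨t'⟩ := hT.toNonempty
  let y : T := (pullback.fst (g ≫ f) (Spec.map (CommRingCat.ofHom (algebraMap k K)))) t'
  have hYb : ConnectedSpace ↥(pullback g
      (pullback.fst f (Spec.map (CommRingCat.ofHom (algebraMap k K))))) :=
    (pullbackRightPullbackFstIso f (Spec.map (CommRingCat.ofHom (algebraMap k K)))
      g).hom.homeomorph.connectedSpace_iff.mpr hT
  have hS : _root_.IsPreconnected (Set.range (pullback.snd g
      (pullback.fst f (Spec.map (CommRingCat.ofHom (algebraMap k K)))))) :=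
    isPreconnected_range (pullback.snd g _).continuous
  have hSeq := Scheme.Pullback.range_snd g
    (pullback.fst f (Spec.map (CommRingCat.ofHom (algebraMap k K))))
  have := GeomConnPt.isConnected_preimage_of_fibre_subset
    (GeomConnPt.isOpenMap_fst_specMap f K) (isClosedMap_fst_of_isAlgebraic f K)
    (GeomConnPt.surjective_fst_specMap f K) (C := Set.univ)
    isConnected_univ hS (Set.subset_univ _) (x := g y) trivial
    (by
      rw [hSeq]
      intro z hz
      exact ⟨y, hz.symm⟩)
  rw [Set.preimage_univ] at this
  exact connectedSpace_iff_univ.mpr this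

end Groth.Agent.Lib.helper3.GeomAlg
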