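import Groth.Agent.Lib.Helper3.CompCard

/-!
Geometric connectedness of a connected scheme containing a geometrically connected "point"
(helper3).
-/

set_option autoImplicit false
universe u

namespace Groth.Agent.Lib.helper3.GeomConnPt

open TensorProduct AlgebraicGeometry CategoryTheory Limits

/-- Let `p` be a continuous, open, closed surjection, `C` a connected subset of the target and `S` a
preconnected subset of `p ⁻¹' C` containing a whole fibre over a point of `C`. Then `p ⁻¹' C` is
connected. -/
theorem isConnected_preimage_of_fibre_subset {α β : Type*} [TopologicalSpace α]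
    [TopologicalSpace β] {p : α → β} (ho : IsOpenMap p) (hcl : IsClosedMap p)
    (hs : Function.Surjective p) {C : Set β} (hC : IsConnected C) {S : Set α}
    (hS : IsPreconnected S) (hSC : S ⊆ p ⁻¹' C) {x : β} (hx : x ∈ C) (hxS : p ⁻¹' {x} ⊆ S) :
    IsConnected (p ⁻¹' C) := by
  have hCs : ConnectedSpace C := isConnected_iff_connectedSpace.mp hC
  have hqo : IsOpenMap (C.restrictPreimage p) := ho.restrictPreimage C
  have hqc : IsClosedMap (C.restrictPreimage p) := hcl.restrictPreimage C
  have hqs : Function.Surjective (C.restrictPreimage p) := hs.restrictPreimage C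
  -- the fibre over `x` inside the subtype
  let x' : C := ⟨x, hx⟩
  let S' : Set (p ⁻¹' C) := Subtype.val ⁻¹' S
  have hS' : IsPreconnected S' := by
    rw [← Topology.IsInducing.subtypeVal.isPreconnected_image, Subtype.image_preimage_coe,
      Set.inter_eq_right.mpr hSC]
    exact hS
  have hF : (C.restrictPreimage p) ⁻¹' {x'} ⊆ S' := by
    intro a ha
    apply hxS
    have := congrArg Subtype.val (show C.restrictPreimage p a = x' from ha)
    exact this
  have key : ∀ A : Set (p ⁻¹' C), IsClopen A → (C.restrictPreimage p) ⁻¹' {x'} ⊆ A →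
      A = Set.univ := by
    intro A hA hFA
    have hcl' : IsClopen ((C.restrictPreimage p) '' Aᶜ) :=
      ⟨hqc _ hA.compl.1, hqo _ hA.compl.2⟩
    rcases isClopen_iff.mp hcl' with h0 | h1
    · rw [Set.image_eq_empty] at h0
      exact Set.compl_empty_iff.mp h0
    · exfalso
      have : x' ∈ (C.restrictPreimage p) '' Aᶜ := by rw [h1]; trivial
      obtain ⟨b, hb, hbx⟩ := this
      exact hb (hFA hbx)
  have hne : Nonempty (p ⁻¹' C) := by
    obtain ⟨a, ha⟩ := hs x
    exact ⟨⟨a, by show p a ∈ C; rw [ha]; exact hx⟩⟩
  have hpre : PreconnectedSpace (p ⁻¹' C) := by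
    rw [preconnectedSpace_iff_clopen]
    intro A hA
    by_cases hSA : (S' ∩ A).Nonempty
    · right
      exact key A hA (hF.trans (hS'.subset_isClopen hA hSA))
    · left
      have hSAc : S' ⊆ Aᶜ := fun a ha haA => hSA ⟨a, ha, haA⟩
      have := key Aᶜ hA.compl (hF.trans hSAc)
      exact Set.compl_univ_iff.mp this
  exact isConnected_iff_connectedSpace.mpr { toPreconnectedSpace := hpre, toNonempty := hne }

theorem congrHom_hom_fst {C : Type*} [Category C] [HasPullbacks C] {X Z W : C} (f : X ⟶ Z)
    (g g' : W ⟶ Z) (h : g = g') :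
    (pullback.congrHom (rfl : f = f) h).hom ≫ pullback.fst f g' = pullback.fst f g := by
  subst h
  simp

section main

variable {k : Type u} [Field k] {X : Scheme.{u}} (f : X ⟶ Spec (CommRingCat.of k))

/-- the comparison datum of `CompCard.exists_comparison`, with the compatibility of projections -/
theorem exists_comparison' (K Ω : Type u) [Field K] [Algebra k K] [Field Ω] [Algebra k Ω]
    [IsAlgClosed Ω] :
    ∃ (W : Scheme.{u}) (a : W ⟶ pullback f (Spec.map (CommRingCat.ofHom (algebraMap k K))))
      (b : W ⟶ pullback f (Spec.map (CommRingCat.ofHom (algebraMap k Ω)))),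
      Surjective a ∧ GeometricallyConnected b ∧ UniversallyOpen b ∧
        a ≫ pullback.fst f _ = b ≫ pullback.fst f _ := by
  obtain ⟨L, _, _, _, _, hK, hΩ⟩ := CompCard.exists_common_extension k K Ω
  have heq : Spec.map (CommRingCat.ofHom (algebraMap K L)) ≫
        Spec.map (CommRingCat.ofHom (algebraMap k K)) =
      Spec.map (CommRingCat.ofHom (algebraMap Ω L)) ≫
        Spec.map (CommRingCat.ofHom (algebraMap k Ω)) := by
    rw [← Spec.map_comp, ← Spec.map_comp, ← CommRingCat.ofHom_comp, ← CommRingCat.ofHom_comp,
      ← IsScalarTower.algebraMap_eq, ← IsScalarTower.algebraMap_eq]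
  let e : pullback (pullback.snd f (Spec.map (CommRingCat.ofHom (algebraMap k Ω))))
        (Spec.map (CommRingCat.ofHom (algebraMap Ω L))) ≅
      pullback (pullback.snd f (Spec.map (CommRingCat.ofHom (algebraMap k K))))
        (Spec.map (CommRingCat.ofHom (algebraMap K L))) :=
    pullbackLeftPullbackSndIso f _ _ ≪≫ pullback.congrHom rfl heq.symm ≪≫
      (pullbackLeftPullbackSndIso f _ _).symm
  have hs := CompCard.surjective_specMap_field K L
  have hs' : Surjective (pullback.fst (pullback.snd f (Spec.map (CommRingCat.ofHom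
      (algebraMap k K)))) (Spec.map (CommRingCat.ofHom (algebraMap K L)))) :=
    MorphismProperty.pullback_fst (P := @Surjective) _ _ hs
  have hgc := GeomConn.geometricallyConnected_specMap Ω L
  have hu : UniversallyOpen (Spec.map (CommRingCat.ofHom (algebraMap Ω L))) := inferInstance
  refine ⟨_, e.hom ≫ pullback.fst _ _, pullback.fst (pullback.snd f (Spec.map (CommRingCat.ofHom
      (algebraMap k Ω)))) (Spec.map (CommRingCat.ofHom (algebraMap Ω L))), ?_,
    MorphismProperty.pullback_fst (P := @GeometricallyConnected) _ _ hgc,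
    MorphismProperty.pullback_fst (P := @UniversallyOpen) _ _ hu, ?_⟩
  · infer_instance
  · simp only [e, Iso.trans_hom, Iso.symm_hom, Category.assoc, pullbackLeftPullbackSndIso_inv_fst]
    rw [congrHom_hom_fst, pullbackLeftPullbackSndIso_hom_fst]

/-- notation-free name for `Spec k̄ ⟶ Spec k` -/
noncomputable abbrev gbar (k : Type u) [Field k] :
    Spec (CommRingCat.of (AlgebraicClosure k)) ⟶ Spec (CommRingCat.of k) :=
  Spec.map (CommRingCat.ofHom (algebraMap k (AlgebraicClosure k)))

theorem isClosedMap_fst_gbar : IsClosedMap (pullback.fst f (gbar k)) := by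
  have h1 : IsIntegralHom (gbar k) := by
    rw [IsIntegralHom.SpecMap_iff]
    exact algebraMap_isIntegral_iff.mpr inferInstance
  have h2 : IsIntegralHom (pullback.fst f (gbar k)) := inferInstance
  exact Scheme.Hom.isClosedMap _

theorem isOpenMap_fst_specMap (K : Type u) [Field K] [Algebra k K] :
    IsOpenMap (pullback.fst f (Spec.map (CommRingCat.ofHom (algebraMap k K)))) := by
  have hu : UniversallyOpen (Spec.map (CommRingCat.ofHom (algebraMap k K))) := inferInstance
  have h2 : UniversallyOpen (pullback.fst f (Spec.map (CommRingCat.ofHom (algebraMap k K)))) :=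
    MorphismProperty.pullback_fst (P := @UniversallyOpen) _ _ hu
  exact Scheme.Hom.isOpenMap _

theorem surjective_fst_specMap (K : Type u) [Field K] [Algebra k K] :
    Function.Surjective (pullback.fst f (Spec.map (CommRingCat.ofHom (algebraMap k K)))) := by
  have hs := CompCard.surjective_specMap_field k K
  have h2 : Surjective (pullback.fst f (Spec.map (CommRingCat.ofHom (algebraMap k K)))) :=
    MorphismProperty.pullback_fst (P := @Surjective) _ _ hs
  exact Scheme.Hom.surjective _

/-- the key step over the algebraic closure -/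
theorem isConnected_preimage_gbar {C : Set X} (hC : _root_.IsConnected C)
    {S : Set ↥(pullback f (gbar k))} (hS : _root_.IsPreconnected S)
    (hSC : S ⊆ (pullback.fst f (gbar k)) ⁻¹' C) {x : X} (hx : x ∈ C)
    (hxS : (pullback.fst f (gbar k)) ⁻¹' {x} ⊆ S) :
    _root_.IsConnected ((pullback.fst f (gbar k)) ⁻¹' C) :=
  isConnected_preimage_of_fibre_subset (isOpenMap_fst_specMap f _) (isClosedMap_fst_gbar f)
    (surjective_fst_specMap f _) hC hS hSC hx hxS

/-- from the algebraic closure to an arbitrary extension -/
theorem isConnected_preimage_of_gbar {C : Set X}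
    (h : _root_.IsConnected ((pullback.fst f (gbar k)) ⁻¹' C)) (K : Type u) [Field K] [Algebra k K] :
    _root_.IsConnected ((pullback.fst f (Spec.map (CommRingCat.ofHom (algebraMap k K)))) ⁻¹' C) := by
  obtain ⟨W, a, b, ha, hb1, hb3, hab⟩ := exists_comparison' f K (AlgebraicClosure k)
  have h1 : _root_.IsConnected (b ⁻¹' ((pullback.fst f (gbar k)) ⁻¹' C)) :=
    GeomConn.isConnected_preimage_of_isOpenMap b.continuous b.isOpenMap
      (fun t => Scheme.Hom.isConnected_preimage_singleton b t) h
  have h2 : b ⁻¹' ((pullback.fst f (gbar k)) ⁻¹' C) =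
      a ⁻¹' ((pullback.fst f (Spec.map (CommRingCat.ofHom (algebraMap k K)))) ⁻¹' C) := by
    ext w
    simp only [Set.mem_preimage]
    have := congrArg (fun φ : W ⟶ X => φ w) hab
    simp only [Scheme.Hom.comp_apply] at this
    rw [this]
  have h3 : (pullback.fst f (Spec.map (CommRingCat.ofHom (algebraMap k K)))) ⁻¹' C =
      a '' (a ⁻¹' ((pullback.fst f (Spec.map (CommRingCat.ofHom (algebraMap k K)))) ⁻¹' C)) :=
    (Set.image_preimage_eq _ a.surjective).symm
  rw [h3, ← h2]
  exact h1.image _ a.continuous.continuousOn

/-- if the whole of `X_k̄` is connected then `f` is geometrically connected -/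
theorem geometricallyConnected_of_gbar (h : ConnectedSpace ↥(pullback f (gbar k))) :
    GeometricallyConnected f := by
  refine ⟨(geometrically_iff_of_commRing_of_isClosedUnderIsomorphisms).mpr fun K _ _ => ?_⟩
  have h0 : _root_.IsConnected ((pullback.fst f (gbar k)) ⁻¹' (Set.univ : Set X)) := by
    rw [Set.preimage_univ]; exact isConnected_univ
  have h1 := isConnected_preimage_of_gbar f h0 K
  rw [Set.preimage_univ] at h1
  exact connectedSpace_iff_univ.mpr h1

end main

end Groth.Agent.Lib.helper3.GeomConnPt
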