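import Groth.Agent.Lib.Helper3.GeomConn

/-!
Geometric connectedness over separably closed fields (helper3).
-/

set_option autoImplicit false
universe u v w

namespace Groth.Agent.Lib.helper3.GeomConn

open TensorProduct AlgebraicGeometry CategoryTheory

/-- connectedness of the spectrum descends along injective ring maps -/
theorem connectedSpace_of_injective {A B : Type*} [CommRing A] [CommRing B] (f : A →+* B)
    (hf : Function.Injective f) [hB : ConnectedSpace (PrimeSpectrum B)] :
    ConnectedSpace (PrimeSpectrum A) := by
  obtain ⟨hnt, hid⟩ := connectedSpace_iff_idempotent.mp hB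
  rw [connectedSpace_iff_idempotent]
  refine ⟨⟨0, 1, fun h => zero_ne_one (α := B) ?_⟩, fun e he => ?_⟩
  · rw [← map_zero f, ← map_one f, h]
  · rcases hid (f e) (he.map f) with h | h
    · left; apply hf; rw [h, map_zero]
    · right; apply hf; rw [h, map_one]

/-- over a separably closed field, `K ⊗[k] S` has connected spectrum when `S` has -/
theorem connectedSpace_tensor_of_isSepClosed (k : Type u) [Field k] [IsSepClosed k] (K : Type v)
    (S : Type w) [Field K] [CommRing S] [Algebra k K] [Algebra k S]
    [hS : ConnectedSpace (PrimeSpectrum S)] : ConnectedSpace (PrimeSpectrum (K ⊗[k] S)) := by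
  have h1 : ConnectedSpace (PrimeSpectrum (S ⊗[k] AlgebraicClosure k)) :=
    (PrimeSpectrum.isHomeomorph_comap_of_isPurelyInseparable k (AlgebraicClosure k)
      S).homeomorph.symm.connectedSpace_iff.mp hS
  have h2 : ConnectedSpace (PrimeSpectrum (AlgebraicClosure k ⊗[k] S)) :=
    (PrimeSpectrum.homeomorphOfRingEquiv
      (Algebra.TensorProduct.comm k S (AlgebraicClosure k)).toRingEquiv).connectedSpace_iff.mp h1
  let φ : AlgebraicClosure k →ₐ[k] AlgebraicClosure K := IsAlgClosed.lift
  let _ : Algebra (AlgebraicClosure k) (AlgebraicClosure K) := φ.toRingHom.toAlgebra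
  have : IsScalarTower k (AlgebraicClosure k) (AlgebraicClosure K) :=
    IsScalarTower.of_algebraMap_eq' φ.comp_algebraMap.symm
  have h3 : ConnectedSpace (PrimeSpectrum
      (AlgebraicClosure K ⊗[AlgebraicClosure k] (AlgebraicClosure k ⊗[k] S))) :=
    connectedSpace_tensor_of_isAlgClosed (AlgebraicClosure k) (AlgebraicClosure K)
      (AlgebraicClosure k ⊗[k] S)
  have h4 : ConnectedSpace (PrimeSpectrum (AlgebraicClosure K ⊗[k] S)) :=
    (PrimeSpectrum.homeomorphOfRingEquiv
      (Algebra.TensorProduct.cancelBaseChange k (AlgebraicClosure k) (AlgebraicClosure k)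
        (AlgebraicClosure K) S).toRingEquiv).connectedSpace_iff.mp h3
  let ψ : K ⊗[k] S →ₐ[k] AlgebraicClosure K ⊗[k] S :=
    Algebra.TensorProduct.map (IsScalarTower.toAlgHom k K (AlgebraicClosure K)) (AlgHom.id k S)
  have hψ : Function.Injective ψ := by
    have h := Module.Flat.rTensor_preserves_injective_linearMap (M := S)
      (IsScalarTower.toAlgHom k K (AlgebraicClosure K)).toLinearMap
      (algebraMap K (AlgebraicClosure K)).injective
    exact h
  exact connectedSpace_of_injective ψ.toRingHom hψ

/-- `Spec S ⟶ Spec k` is geometrically connected when `k` is separably closed and `Spec S` is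
connected -/
theorem geometricallyConnected_specMap_of_isSepClosed (k S : Type u) [Field k] [IsSepClosed k]
    [CommRing S] [Algebra k S] [ConnectedSpace (PrimeSpectrum S)] :
    GeometricallyConnected (Spec.map (CommRingCat.ofHom (algebraMap k S))) := by
  rw [geomConn_specMap_iff]
  intro k' _ _
  exact connectedSpace_tensor_of_isSepClosed k k' S

/-- over a separably closed field, the tensor product of two algebras with connected spectra has
connected spectrum -/
theorem connectedSpace_tensor_tensor_of_isSepClosed (k R S : Type u) [Field k] [IsSepClosed k]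
    [CommRing R] [CommRing S] [Algebra k R] [Algebra k S]
    [ConnectedSpace (PrimeSpectrum R)] [ConnectedSpace (PrimeSpectrum S)] :
    ConnectedSpace (PrimeSpectrum (R ⊗[k] S)) := by
  have hg := geometricallyConnected_specMap_of_isSepClosed k S
  have hR : ConnectedSpace (Spec (CommRingCat.of R)) :=
    inferInstanceAs (ConnectedSpace (PrimeSpectrum R))
  have hc : ConnectedSpace ↥(Limits.pullback (Spec.map (CommRingCat.ofHom (algebraMap k S)))
      (Spec.map (CommRingCat.ofHom (algebraMap k R)))) := inferInstance
  rw [(pullbackSpecIso k S R).hom.homeomorph.connectedSpace_iff] at hc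
  exact (connectedSpace_comm S R).mp hc

end Groth.Agent.Lib.helper3.GeomConn
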