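import Groth.Agent.Lib.Helper3.GeomConnPt
import Groth.Agent.Lib.Helper3.GeomConn2

/-!
Base change from a separably closed field: geometric connectedness / irreducibility (helper3).
-/

set_option autoImplicit false
universe u

namespace Groth.Agent.Lib.helper3.GeomSep

open TensorProduct AlgebraicGeometry CategoryTheory Limits

/-- `Spec K ⟶ Spec k` is geometrically connected when `k` is separably closed -/
theorem geometricallyConnected_specMap_of_isSepClosed (k K : Type u) [Field k] [IsSepClosed k]
    [Field K] [Algebra k K] :
    GeometricallyConnected (Spec.map (CommRingCat.ofHom (algebraMap k K))) :=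
  GeomConn.geometricallyConnected_specMap_of_isSepClosed k K

/-- `Spec K ⟶ Spec k` is geometrically irreducible when `k` is separably closed -/
theorem geometricallyIrreducible_specMap_of_isSepClosed (k K : Type u) [Field k] [IsSepClosed k]
    [Field K] [Algebra k K] :
    GeometricallyIrreducible (Spec.map (CommRingCat.ofHom (algebraMap k K))) := by
  rw [GeomIrr.geomIrr_specMap_iff]
  apply GeomIrr.geomIrr_of_algebraicClosure
  have h := PrimeSpectrum.isHomeomorph_comap_of_isPurelyInseparable k (AlgebraicClosure k) K
  have h1 : IrreducibleSpace (PrimeSpectrum (K ⊗[k] AlgebraicClosure k)) :=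
    h.homeomorph.symm.irreducibleSpace_iff.mp inferInstance
  exact (GeomIrr.irreducibleSpace_comm K (AlgebraicClosure k)).mp h1

variable {k : Type u} [Field k] {X : Scheme.{u}} (f : X ⟶ Spec (CommRingCat.of k))

/-- comparison datum for a separably closed `Ω` -/
theorem exists_comparison_sep (K Ω : Type u) [Field K] [Algebra k K] [Field Ω] [Algebra k Ω]
    [IsSepClosed Ω] :
    ∃ (W : Scheme.{u}) (a : W ⟶ pullback f (Spec.map (CommRingCat.ofHom (algebraMap k K))))
      (b : W ⟶ pullback f (Spec.map (CommRingCat.ofHom (algebraMap k Ω)))),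
      Surjective a ∧ GeometricallyConnected b ∧ GeometricallyIrreducible b ∧ UniversallyOpen b ∧
        a ≫ pullback.fst f _ = b ≫ pullback.fst f _ := by
  obtain ⟨L, _, _, _, _, hK, hΩ⟩ := CompCard.exists_common_extension k K Ω
  have heq : Spec.map (CommRingCat.ofHom (algebraMap K L)) ≫
        Spec.map (CommRingCat.ofHom (algebraMap k K)) =
      Spec.map (CommRingCat.ofHom (algebraMap Ω L)) ≫
        Spec.map (CommRingCat.ofHom (algebraMap k Ω)) := by
    rw [← Spec.map_comp, ← Spec.map_comp, ← CommRingCat.ofHom_comp, ← CommRingCat.ofHom_comp,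
      ← IsScalarTower.algebraMap_eq, ← IsScalarTower.algebraMap_eq]
  let e : pullback (pullback.snd f (Spec.map (CommRingCat.ofHom (algebraMap k Ω))))
        (Spec.map (CommRingCat.ofHom (algebraMap Ω L))) ≅
      pullback (pullback.snd f (Spec.map (CommRingCat.ofHom (algebraMap k K))))
        (Spec.map (CommRingCat.ofHom (algebraMap K L))) :=
    pullbackLeftPullbackSndIso f _ _ ≪≫ pullback.congrHom rfl heq.symm ≪≫
      (pullbackLeftPullbackSndIso f _ _).symm
  have hs := CompCard.surjective_specMap_field K L
  have hs' : Surjective (pullback.fst (pullback.snd f (Spec.map (CommRingCat.ofHom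
      (algebraMap k K)))) (Spec.map (CommRingCat.ofHom (algebraMap K L)))) :=
    MorphismProperty.pullback_fst (P := @Surjective) _ _ hs
  have hgc := geometricallyConnected_specMap_of_isSepClosed Ω L
  have hgi := geometricallyIrreducible_specMap_of_isSepClosed Ω L
  have hu : UniversallyOpen (Spec.map (CommRingCat.ofHom (algebraMap Ω L))) := inferInstance
  refine ⟨_, e.hom ≫ pullback.fst _ _, pullback.fst (pullback.snd f (Spec.map (CommRingCat.ofHom
      (algebraMap k Ω)))) (Spec.map (CommRingCat.ofHom (algebraMap Ω L))), ?_,
    MorphismProperty.pullback_fst (P := @GeometricallyConnected) _ _ hgc,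
    MorphismProperty.pullback_fst (P := @GeometricallyIrreducible) _ _ hgi,
    MorphismProperty.pullback_fst (P := @UniversallyOpen) _ _ hu, ?_⟩
  · infer_instance
  · simp only [e, Iso.trans_hom, Iso.symm_hom, Category.assoc, pullbackLeftPullbackSndIso_inv_fst]
    rw [GeomConnPt.congrHom_hom_fst, pullbackLeftPullbackSndIso_hom_fst]

/-- if `X_Ω` is connected for one separably closed extension `Ω`, then `f` is geometrically
connected -/
theorem geometricallyConnected_of_connectedSpace_sepClosed (Ω : Type u) [Field Ω] [Algebra k Ω]
    [IsSepClosed Ω]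
    (h : ConnectedSpace ↥(pullback f (Spec.map (CommRingCat.ofHom (algebraMap k Ω))))) :
    GeometricallyConnected f := by
  refine ⟨(geometrically_iff_of_commRing_of_isClosedUnderIsomorphisms).mpr fun K _ _ => ?_⟩
  obtain ⟨W, a, b, ha, hb1, hb2, hb3, -⟩ := exists_comparison_sep f K Ω
  have hW : ConnectedSpace W := GeometricallyConnected.connectedSpace b b.isOpenMap
  exact a.surjective.connectedSpace a.continuous

/-- if `X_Ω` is irreducible for one separably closed extension `Ω`, then `f` is geometrically
irreducible -/
theorem geometricallyIrreducible_of_irreducibleSpace_sepClosed (Ω : Type u) [Field Ω] [Algebra k Ω]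
    [IsSepClosed Ω]
    (h : IrreducibleSpace ↥(pullback f (Spec.map (CommRingCat.ofHom (algebraMap k Ω))))) :
    GeometricallyIrreducible f := by
  refine ⟨(geometrically_iff_of_commRing_of_isClosedUnderIsomorphisms).mpr fun K _ _ => ?_⟩
  obtain ⟨W, a, b, ha, hb1, hb2, hb3, -⟩ := exists_comparison_sep f K Ω
  have hW : IrreducibleSpace W := GeometricallyIrreducible.irreducibleSpace b b.isOpenMap
  have hpre := a.surjective.preirreducibleSpace a.continuous
  have hne : Nonempty ↥(pullback f (Spec.map (CommRingCat.ofHom (algebraMap k K)))) :=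
    (inferInstance : Nonempty W).map a
  exact { toPreirreducibleSpace := hpre, toNonempty := hne }

end Groth.Agent.Lib.helper3.GeomSep
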