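import Mathlib
import Groth.Agent.Lib.Helper3.GeomConnPt
import Groth.Agent.Lib.Helper3.GeomSep
import Groth.Agent.Lib.Helper3.GeomAlg

/-!
Connectedness of inverse images under `X_K ⟶ X`: from a separably closed extension to an arbitrary
one (helper3).
-/

set_option autoImplicit false
universe u

namespace Groth.Agent.Lib.helper3.ConnPreimage

open CategoryTheory Limits AlgebraicGeometry

variable {k : Type u} [Field k] {X : Scheme.{u}} (f : X ⟶ Spec (CommRingCat.of k))

/-- from a separably closed extension to an arbitrary extension -/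
theorem isConnected_preimage_of_sepClosed (Ω : Type u) [Field Ω] [Algebra k Ω] [IsSepClosed Ω]
    {C : Set X}
    (h : _root_.IsConnected ((pullback.fst f (Spec.map (CommRingCat.ofHom (algebraMap k Ω)))) ⁻¹' C))
    (K : Type u) [Field K] [Algebra k K] :
    _root_.IsConnected ((pullback.fst f (Spec.map (CommRingCat.ofHom (algebraMap k K)))) ⁻¹' C) := by
  obtain ⟨W, a, b, ha, hb1, -, hb3, hab⟩ := GeomSep.exists_comparison_sep f K Ω
  have h1 : _root_.IsConnected (b ⁻¹' ((pullback.fst f
      (Spec.map (CommRingCat.ofHom (algebraMap k Ω)))) ⁻¹' C)) :=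
    GeomConn.isConnected_preimage_of_isOpenMap b.continuous b.isOpenMap
      (fun t => Scheme.Hom.isConnected_preimage_singleton b t) h
  have h2 : b ⁻¹' ((pullback.fst f (Spec.map (CommRingCat.ofHom (algebraMap k Ω)))) ⁻¹' C) =
      a ⁻¹' ((pullback.fst f (Spec.map (CommRingCat.ofHom (algebraMap k K)))) ⁻¹' C) := by
    ext w
    simp only [Set.mem_preimage]
    have := congrArg (fun φ : W ⟶ X => φ w) hab
    simp only [Scheme.Hom.comp_apply] at this
    rw [this]
  have h3 : (pullback.fst f (Spec.map (CommRingCat.ofHom (algebraMap k K)))) ⁻¹' C =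
      a '' (a ⁻¹' ((pullback.fst f (Spec.map (CommRingCat.ofHom (algebraMap k K)))) ⁻¹' C)) :=
    (Set.image_preimage_eq _ a.surjective).symm
  rw [h3, ← h2]
  exact h1.image _ a.continuous.continuousOn

/-- the key step for an algebraic extension `K/k`: if a connected set `S ⊆ X_K` lies over the
connected set `C` and contains a whole fibre over a point of `C`, then the inverse image of `C` is
connected -/
theorem isConnected_preimage_of_isAlgebraic (K : Type u) [Field K] [Algebra k K]
    [Algebra.IsAlgebraic k K] {C : Set X} (hC : _root_.IsConnected C)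
    {S : Set ↥(pullback f (Spec.map (CommRingCat.ofHom (algebraMap k K))))}
    (hS : _root_.IsPreconnected S)
    (hSC : S ⊆ (pullback.fst f (Spec.map (CommRingCat.ofHom (algebraMap k K)))) ⁻¹' C) {x : X}
    (hx : x ∈ C)
    (hxS : (pullback.fst f (Spec.map (CommRingCat.ofHom (algebraMap k K)))) ⁻¹' {x} ⊆ S) :
    _root_.IsConnected ((pullback.fst f (Spec.map (CommRingCat.ofHom (algebraMap k K)))) ⁻¹' C) :=
  GeomConnPt.isConnected_preimage_of_fibre_subset (GeomConnPt.isOpenMap_fst_specMap f _)
    (GeomAlg.isClosedMap_fst_of_isAlgebraic f K) (GeomConnPt.surjective_fst_specMap f _) hC hS hSC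
    hx hxS

end Groth.Agent.Lib.helper3.ConnPreimage
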