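import Mathlib
import Groth.Agent.Lib.Helper3.CompCard

/-!
For a normal field extension `K/k` and a `k`-scheme `X`, the automorphism group of `K/k` acts
transitively on the fibres of `X_K ⟶ X` (helper3).
-/

set_option autoImplicit false
universe u

namespace Groth.Agent.Lib.helper3.GaloisFibre

open CategoryTheory Limits AlgebraicGeometry

variable {k : Type u} [Field k] {X : Scheme.{u}} (f : X ⟶ Spec (CommRingCat.of k))
  (K : Type u) [Field K] [Algebra k K]

/-- two `k`-embeddings of a normal extension into a field differ by an automorphism -/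
theorem exists_algEquiv_of_normal [Normal k K] {E : Type u} [Field E] (t t' : K →+* E)
    (h : t.comp (algebraMap k K) = t'.comp (algebraMap k K)) :
    ∃ σ : K ≃ₐ[k] K, t' = t.comp (σ : K →+* K) := by
  let _ : Algebra K E := t.toAlgebra
  let _ : Algebra k E := (t.comp (algebraMap k K)).toAlgebra
  have : IsScalarTower k K E := IsScalarTower.of_algebraMap_eq (fun _ => rfl)
  let T' : K →ₐ[k] E := { t' with commutes' := fun r => (RingHom.congr_fun h r).symm }
  refine ⟨Normal.algHomEquivAut k E K T', ?_⟩
  have h1 := (Normal.algHomEquivAut k E K).left_inv T'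
  ext c
  have h2 := DFunLike.congr_fun h1 c
  exact h2.symm

/-- Transitivity on fibres (general form). -/
theorem exists_galois_of_fst_eq' [Normal k K] (g : Spec (CommRingCat.of K) ⟶ Spec (CommRingCat.of k))
    (hg : g = Spec.map (CommRingCat.ofHom (algebraMap k K)))
    (y y' : ↥(pullback f g)) (h : pullback.fst f g y = pullback.fst f g y') :
    ∃ σ : K ≃ₐ[k] K, ∀ τ : pullback f g ⟶ pullback f g,
      τ ≫ pullback.fst f g = pullback.fst f g →
      τ ≫ pullback.snd f g = pullback.snd f g ≫ Spec.map (CommRingCat.ofHom (σ : K →+* K)) →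
      τ y = y' := by
  let π := pullback.fst f g
  let s := pullback.snd f g
  have hπ : π = pullback.fst f g := rfl
  have hs : s = pullback.snd f g := rfl
  replace h : π y = π y' := h
  -- residue fields
  let φ : X.residueField (π y) ⟶ (pullback f g).residueField y := π.residueFieldMap y
  let φ' : X.residueField (π y) ⟶ (pullback f g).residueField y' :=
    (X.residueFieldCongr h).hom ≫ π.residueFieldMap y'
  let _ : Algebra (X.residueField (π y)) ((pullback f g).residueField y) := φ.hom.toAlgebra
  let _ : Algebra (X.residueField (π y)) ((pullback f g).residueField y') := φ'.hom.toAlgebra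
  obtain ⟨E, _, _, _, _, hE1, hE2⟩ := CompCard.exists_common_extension (X.residueField (π y))
    ((pullback f g).residueField y) ((pullback f g).residueField y')
  let ψ : (pullback f g).residueField y ⟶ CommRingCat.of E :=
    CommRingCat.ofHom (algebraMap ((pullback f g).residueField y) E)
  let ψ' : (pullback f g).residueField y' ⟶ CommRingCat.of E :=
    CommRingCat.ofHom (algebraMap ((pullback f g).residueField y') E)
  have hψ : φ ≫ ψ = φ' ≫ ψ' := by
    ext c
    change algebraMap _ E (algebraMap _ _ c) = algebraMap _ E (algebraMap _ _ c)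
    rw [← IsScalarTower.algebraMap_apply, ← IsScalarTower.algebraMap_apply]
  let a : Spec (CommRingCat.of E) ⟶ pullback f g :=
    Spec.map ψ ≫ (pullback f g).fromSpecResidueField y
  let a' : Spec (CommRingCat.of E) ⟶ pullback f g :=
    Spec.map ψ' ≫ (pullback f g).fromSpecResidueField y'
  have ha : a ≫ π = Spec.map (φ ≫ ψ) ≫ X.fromSpecResidueField (π y) := by
    simp only [a, φ, Category.assoc, Spec.map_comp]
    rw [Scheme.Hom.SpecMap_residueFieldMap_fromSpecResidueField]
  have ha' : a' ≫ π = Spec.map (φ' ≫ ψ') ≫ X.fromSpecResidueField (π y) := by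
    simp only [a', φ', Category.assoc, Spec.map_comp]
    rw [Scheme.residueFieldCongr_fromSpecResidueField,
      Scheme.Hom.SpecMap_residueFieldMap_fromSpecResidueField]
  have haa : a ≫ π = a' ≫ π := by rw [ha, ha', hψ]
  -- the two embeddings of `K`
  obtain ⟨t, ht⟩ := Spec.map_surjective (a ≫ s)
  obtain ⟨t', ht'⟩ := Spec.map_surjective (a' ≫ s)
  have hcond : pullback.fst f g ≫ f = pullback.snd f g ≫ g := pullback.condition
  have htt : t.hom.comp (algebraMap k K) = t'.hom.comp (algebraMap k K) := by
    have h1 : Spec.map (CommRingCat.ofHom (algebraMap k K) ≫ t) =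
        Spec.map (CommRingCat.ofHom (algebraMap k K) ≫ t') := by
      have e1 : (a ≫ s) ≫ g = (a ≫ π) ≫ f := by
        rw [Category.assoc, Category.assoc]
        exact congrArg (a ≫ ·) hcond.symm
      have e2 : (a' ≫ s) ≫ g = (a' ≫ π) ≫ f := by
        rw [Category.assoc, Category.assoc]
        exact congrArg (a' ≫ ·) hcond.symm
      rw [Spec.map_comp, Spec.map_comp, ht, ht', ← hg, e1, e2, haa]
    have h2 := Spec.map_injective h1
    exact congrArg CommRingCat.Hom.hom h2
  obtain ⟨σ, hσ⟩ := exists_algEquiv_of_normal K t.hom t'.hom htt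
  refine ⟨σ, fun τ hτ1 hτ2 => ?_⟩
  have key : a ≫ τ = a' := by
    apply pullback.hom_ext
    · rw [Category.assoc, hτ1]
      exact haa
    · rw [Category.assoc, hτ2, ← Category.assoc]
      change (a ≫ s) ≫ _ = a' ≫ s
      rw [← ht, ← ht', ← Spec.map_comp]
      congr 1
      ext c
      exact (RingHom.congr_fun hσ c).symm
  have hy : a (IsLocalRing.closedPoint E) = y := by
    simp only [a, Scheme.Hom.comp_apply, Scheme.fromSpecResidueField_apply]
  have hy' : a' (IsLocalRing.closedPoint E) = y' := by
    simp only [a', Scheme.Hom.comp_apply, Scheme.fromSpecResidueField_apply]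
  rw [← hy, ← hy', ← key]
  rfl

/-- Transitivity on fibres: two points of `X_K` over the same point of `X` are exchanged by the
action of some `σ ∈ Aut(K/k)`; the action morphism is characterised by its two projections. -/
theorem exists_galois_of_fst_eq [Normal k K]
    (y y' : ↥(pullback f (Spec.map (CommRingCat.ofHom (algebraMap k K)))))
    (h : pullback.fst f (Spec.map (CommRingCat.ofHom (algebraMap k K))) y =
      pullback.fst f (Spec.map (CommRingCat.ofHom (algebraMap k K))) y') :
    ∃ σ : K ≃ₐ[k] K, ∀ τ : pullback f (Spec.map (CommRingCat.ofHom (algebraMap k K))) ⟶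
        pullback f (Spec.map (CommRingCat.ofHom (algebraMap k K))),
      τ ≫ pullback.fst f _ = pullback.fst f _ →
      τ ≫ pullback.snd f (Spec.map (CommRingCat.ofHom (algebraMap k K))) =
        pullback.snd f _ ≫ Spec.map (CommRingCat.ofHom (σ : K →+* K)) →
      τ y = y' :=
  exists_galois_of_fst_eq' f K _ rfl y y' h

end Groth.Agent.Lib.helper3.GaloisFibre
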