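import Mathlib
import Groth.Prelude.Def_Curv2
import Groth.Agent.Lib.Helper3.GaloisFibre
import Groth.Agent.Lib.Helper3.GeomAlg

/-!
Basic facts on `Curv2.galAct` (helper3): projections, composition, transitivity on fibres.
-/

set_option autoImplicit false
universe u

namespace Groth.Agent.Lib.helper3.GalAct

open CategoryTheory Limits AlgebraicGeometry

variable (k : Type u) [Field k] (X : Scheme.{u}) [X.Over (Spec (CommRingCat.of k))]
  (K : Type u) [Field K] [Algebra k K]

theorem galAct_fst (σ : K ≃ₐ[k] K) :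
    Curv2.galAct k X K σ ≫ Curv2.bcFst k X K = Curv2.bcFst k X K :=
  (pullback.lift_fst _ _ _).trans (Category.comp_id _)

theorem galAct_snd (σ : K ≃ₐ[k] K) :
    Curv2.galAct k X K σ ≫ Curv2.bcSnd k X K =
      Curv2.bcSnd k X K ≫ Spec.map (CommRingCat.ofHom (σ : K →+* K)) :=
  pullback.lift_snd _ _ _

theorem galAct_fst_apply (σ : K ≃ₐ[k] K) (y : ↥(Curv2.bc k X K)) :
    Curv2.bcFst k X K (Curv2.galAct k X K σ y) = Curv2.bcFst k X K y := by
  have := congrArg (fun m => m.base y) (galAct_fst k X K σ)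
  exact this

/-- composition law (contravariant in `σ`) -/
theorem galAct_comp (σ ρ : K ≃ₐ[k] K) :
    Curv2.galAct k X K σ ≫ Curv2.galAct k X K ρ = Curv2.galAct k X K (ρ.trans σ) := by
  apply pullback.hom_ext
  · rw [Category.assoc]
    erw [galAct_fst k X K ρ, galAct_fst k X K σ, galAct_fst k X K (ρ.trans σ)]
  · rw [Category.assoc]
    erw [galAct_snd k X K ρ, galAct_snd k X K (ρ.trans σ)]
    rw [← Category.assoc]
    erw [galAct_snd k X K σ]
    rw [Category.assoc, ← Spec.map_comp]
    rfl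

theorem galAct_refl : Curv2.galAct k X K AlgEquiv.refl = 𝟙 _ := by
  apply pullback.hom_ext
  · erw [galAct_fst k X K AlgEquiv.refl]
    simp
  · erw [galAct_snd k X K AlgEquiv.refl]
    simp only [Category.id_comp]
    have : CommRingCat.ofHom ((AlgEquiv.refl : K ≃ₐ[k] K) : K →+* K) = 𝟙 (CommRingCat.of K) := rfl
    rw [this, Spec.map_id]
    exact Category.comp_id _

theorem galAct_symm_apply (σ : K ≃ₐ[k] K) (y : ↥(Curv2.bc k X K)) :
    Curv2.galAct k X K σ.symm (Curv2.galAct k X K σ y) = y := by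
  have h := galAct_comp k X K σ σ.symm
  have h2 : σ.symm.trans σ = AlgEquiv.refl := by ext; simp
  rw [h2, galAct_refl] at h
  have := congrArg (fun m => m.base y) h
  exact this

theorem galAct_apply_symm (σ : K ≃ₐ[k] K) (y : ↥(Curv2.bc k X K)) :
    Curv2.galAct k X K σ (Curv2.galAct k X K σ.symm y) = y := by
  have := galAct_symm_apply k X K σ.symm y
  simpa using this

/-- the action of `σ` as a homeomorphism -/
noncomputable def galHomeo (σ : K ≃ₐ[k] K) : ↥(Curv2.bc k X K) ≃ₜ ↥(Curv2.bc k X K) where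
  toFun := Curv2.galAct k X K σ
  invFun := Curv2.galAct k X K σ.symm
  left_inv := galAct_symm_apply k X K σ
  right_inv := galAct_apply_symm k X K σ
  continuous_toFun := (Curv2.galAct k X K σ).continuous
  continuous_invFun := (Curv2.galAct k X K σ.symm).continuous

/-- transitivity of the Galois action on the fibres of `X_K ⟶ X` -/
theorem exists_galAct_eq [Normal k K] (y y' : ↥(Curv2.bc k X K))
    (h : Curv2.bcFst k X K y = Curv2.bcFst k X K y') :
    ∃ σ : K ≃ₐ[k] K, Curv2.galAct k X K σ y = y' := by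
  obtain ⟨σ, hσ⟩ := GaloisFibre.exists_galois_of_fst_eq (X ↘ Spec (CommRingCat.of k)) K y y' h
  exact ⟨σ, hσ (Curv2.galAct k X K σ) (galAct_fst k X K σ) (galAct_snd k X K σ)⟩

/-- a Galois-stable subset is saturated for `X_K ⟶ X` -/
theorem preimage_image_eq_of_invariant [Normal k K] (T' : Set ↥(Curv2.bc k X K))
    (hinv : ∀ σ : K ≃ₐ[k] K, (Curv2.galAct k X K σ).base '' T' = T') :
    (Curv2.bcFst k X K).base ⁻¹' ((Curv2.bcFst k X K).base '' T') = T' := by
  apply Set.Subset.antisymm
  · rintro y ⟨t', ht', hty⟩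
    obtain ⟨σ, hσ⟩ := exists_galAct_eq k X K t' y hty
    rw [← hinv σ]
    exact ⟨t', ht', hσ⟩
  · exact Set.subset_preimage_image _ _

end Groth.Agent.Lib.helper3.GalAct
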