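import Groth.Agent.Lib.Helper3.SepClosedIn

/-!
Generic fibres and irreducibility (helper3).
-/

set_option autoImplicit false
universe u

namespace Groth.Agent.Lib.helper3.GenericFibre

open TensorProduct AlgebraicGeometry CategoryTheory Limits

/-- the fibre of an open map from an irreducible space over a generic point is irreducible -/
theorem isIrreducible_preimage_generic {E B : Type*} [TopologicalSpace E] [TopologicalSpace B]
    {p : E → B} (ho : IsOpenMap p) [hE : IrreducibleSpace E] {ξ : B}
    (hξ : IsGenericPoint ξ Set.univ) : IsIrreducible (p ⁻¹' {ξ}) := by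
  have hmem : ∀ u : Set E, IsOpen u → u.Nonempty → (p ⁻¹' {ξ} ∩ u).Nonempty := by
    intro u hu hne
    have h1 : ξ ∈ p '' u := by
      rw [hξ.mem_open_set_iff (ho u hu), Set.univ_inter]
      exact hne.image p
    obtain ⟨e, heu, he⟩ := h1
    exact ⟨e, he, heu⟩
  refine ⟨?_, ?_⟩
  · obtain ⟨e, he, -⟩ := hmem Set.univ isOpen_univ Set.univ_nonempty
    exact ⟨e, he⟩
  · intro u v hu hv hu' hv'
    have huv : (u ∩ v).Nonempty :=
      nonempty_preirreducible_inter hu hv (hu'.mono Set.inter_subset_right)
        (hv'.mono Set.inter_subset_right)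
    exact hmem (u ∩ v) (hu.inter hv) huv

/-- if the generic fibre of a generalizing map is irreducible, so is the source -/
theorem irreducibleSpace_of_generic_fibre {E B : Type*} [TopologicalSpace E] [TopologicalSpace B]
    {p : E → B} (hg : GeneralizingMap p) {ξ : B} (hξ : IsGenericPoint ξ Set.univ)
    (h : IsIrreducible (p ⁻¹' {ξ})) : IrreducibleSpace E := by
  have hcl : closure (p ⁻¹' {ξ}) = Set.univ := by
    rw [Set.eq_univ_iff_forall]
    intro z
    have h1 : ξ ⤳ p z := hξ.specializes (Set.mem_univ _)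
    obtain ⟨z', hz', hpz'⟩ := hg h1
    exact closure_mono (Set.singleton_subset_iff.mpr (show z' ∈ p ⁻¹' {ξ} from hpz'))
      hz'.mem_closure
  have := h.closure
  rw [hcl] at this
  exact (irreducibleSpace_def E).mpr this

section scheme

variable {k : Type u} [Field k] {X : Scheme.{u}} (f : X ⟶ Spec (CommRingCat.of k))

/-- the fibre of `X_K ⟶ X` over `x` is `Spec (κ(x) ⊗ K)` -/
theorem isIrreducible_preimage_singleton_iff (x : X) (φ : k →+* X.residueField x)
    (hφ : Spec.map (CommRingCat.ofHom φ) = X.fromSpecResidueField x ≫ f)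
    (K : Type u) [Field K] [Algebra k K] :
    IsIrreducible ((pullback.fst f (Spec.map (CommRingCat.ofHom (algebraMap k K)))) ⁻¹' {x}) ↔
      (letI := φ.toAlgebra; IrreducibleSpace (PrimeSpectrum (K ⊗[k] X.residueField x))) := by
  let _ : Algebra k (X.residueField x) := φ.toAlgebra
  rw [isIrreducible_iff_irreducibleSpace,
    ← ((pullback.fst f (Spec.map (CommRingCat.ofHom (algebraMap k K)))).fiberHomeo
      x).irreducibleSpace_iff]
  let e1 : (pullback.fst f (Spec.map (CommRingCat.ofHom (algebraMap k K)))).fiber x ≅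
      pullback (X.fromSpecResidueField x) (pullback.fst f
        (Spec.map (CommRingCat.ofHom (algebraMap k K)))) := pullbackSymmetry _ _
  let e2 := pullbackRightPullbackFstIso f (Spec.map (CommRingCat.ofHom (algebraMap k K)))
    (X.fromSpecResidueField x)
  let e3 : pullback (X.fromSpecResidueField x ≫ f)
      (Spec.map (CommRingCat.ofHom (algebraMap k K))) ≅
      pullback (Spec.map (CommRingCat.ofHom (algebraMap k (X.residueField x))))
        (Spec.map (CommRingCat.ofHom (algebraMap k K))) := pullback.congrHom hφ.symm rfl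
  let e4 := pullbackSpecIso k (X.residueField x) K
  rw [(e1 ≪≫ e2 ≪≫ e3 ≪≫ e4).hom.homeomorph.irreducibleSpace_iff]
  exact GeomIrr.irreducibleSpace_comm (X.residueField x) K

end scheme

open IntermediateField in
/-- if `k' ⊗[k] F` has irreducible spectrum for all finite separable `k'/k`, then `k` is separably
closed in `F` -/
theorem separableClosure_eq_bot_of_irr {k F : Type u} [Field k] [Field F] [Algebra k F]
    (h : ∀ (k' : Type u) [Field k'] [Algebra k k'] [Module.Finite k k'] [Algebra.IsSeparable k k'],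
      IrreducibleSpace (PrimeSpectrum (k' ⊗[k] F))) :
    separableClosure k F = ⊥ := by
  rw [eq_bot_iff]
  intro a ha
  have hsep : IsSeparable k a := mem_separableClosure_iff.mp ha
  have hfin : FiniteDimensional k k⟮a⟯ :=
    IntermediateField.adjoin.finiteDimensional hsep.isIntegral
  have hsepA : Algebra.IsSeparable k k⟮a⟯ :=
    (IntermediateField.isSeparable_adjoin_simple_iff_isSeparable k F).mpr hsep
  have h1 : IrreducibleSpace (PrimeSpectrum (F ⊗[k] k⟮a⟯)) :=
    (GeomIrr.irreducibleSpace_comm (↥k⟮a⟯) F).mp (h k⟮a⟯)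
  have hunr : Algebra.FormallyUnramified k k⟮a⟯ := Algebra.FormallyUnramified.of_isSeparable k _
  have hred : IsReduced (F ⊗[k] k⟮a⟯) :=
    Algebra.FormallyUnramified.isReduced_of_field F (F ⊗[k] k⟮a⟯)
  have hprime : (⊥ : Ideal (F ⊗[k] k⟮a⟯)).IsPrime := by
    have := PrimeSpectrum.irreducibleSpace_iff_isPrime_nilradical.mp h1
    rwa [nilradical_eq_zero] at this
  have hnzd : NoZeroDivisors (F ⊗[k] k⟮a⟯) := ⟨fun {x y} hxy => by
    have := hprime.mem_or_mem (x := x) (y := y) (by rw [hxy]; exact Ideal.zero_mem _)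
    simpa using this⟩
  have hnt : Nontrivial (F ⊗[k] k⟮a⟯) :=
    (PrimeSpectrum.nonempty_iff_nontrivial).mp inferInstance
  have hdom : IsDomain (F ⊗[k] k⟮a⟯) := by
    exact @NoZeroDivisors.to_isDomain (F ⊗[k] ↥k⟮a⟯) _ hnt hnzd
  have hfield : IsField (F ⊗[k] k⟮a⟯) :=
    Algebra.TensorProduct.isField_of_isAlgebraic k F k⟮a⟯ (Or.inr inferInstance)
  have hld := IntermediateField.LinearDisjoint.of_isField' hfield (AlgHom.id k F) k⟮a⟯.val
  have hinf := hld.inf_eq_bot
  rw [AlgHom.fieldRange_eq_top.mpr (show Function.Surjective (AlgHom.id k F) from Function.surjective_id),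
    IntermediateField.fieldRange_val, top_inf_eq] at hinf
  rw [← hinf]
  exact IntermediateField.mem_adjoin_simple_self k a

end Groth.Agent.Lib.helper3.GenericFibre
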