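import Groth.Agent.Lib.Helper3.GeomIrr

/-!
Geometric irreducibility of algebras over a field: reduction to the algebraic closure (helper3).
-/

set_option autoImplicit false
universe u

namespace Groth.Agent.Lib.helper3.GeomIrr

open TensorProduct AlgebraicGeometry CategoryTheory

/-- irreducibility of the spectrum descends along injective ring homomorphisms -/
theorem irreducibleSpace_of_injective {B C : Type*} [CommRing B] [CommRing C] (φ : B →+* C)
    (hφ : Function.Injective φ) (h : IrreducibleSpace (PrimeSpectrum C)) :
    IrreducibleSpace (PrimeSpectrum B) := by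
  rw [PrimeSpectrum.irreducibleSpace_iff_isPrime_nilradical] at h ⊢
  have hnil : nilradical B = (nilradical C).comap φ := by
    ext x
    rw [Ideal.mem_comap, mem_nilradical, mem_nilradical, IsNilpotent.map_iff hφ]
  rw [hnil]
  exact Ideal.IsPrime.comap φ

/-- over an algebraically closed field, irreducible implies geometrically irreducible -/
theorem irreducibleSpace_tensor_of_isAlgClosed {k : Type u} [Field k] [IsAlgClosed k] {A : Type u}
    [CommRing A] [Algebra k A] (hA : IrreducibleSpace (PrimeSpectrum A)) (Ω : Type u) [Field Ω]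
    [Algebra k Ω] : IrreducibleSpace (PrimeSpectrum (Ω ⊗[k] A)) := by
  have h1 : IrreducibleSpace ↥(Spec (CommRingCat.of A)) := hA
  have h2 : GeometricallyIrreducible (Spec.map (CommRingCat.ofHom (algebraMap k A))) := by
    refine ⟨(geometrically_iff_of_commRing_of_isClosedUnderIsomorphisms).mpr fun K _ _ => ?_⟩
    have := AlgClosedTensor.geometricallyIrreducible_specMap k K
    infer_instance
  exact geomIrr_specMap_iff.mp h2 Ω

/-- irreducibility over the algebraic closure implies geometric irreducibility -/
theorem geomIrr_of_algebraicClosure {k R : Type u} [Field k] [CommRing R] [Algebra k R]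
    (h : IrreducibleSpace (PrimeSpectrum (AlgebraicClosure k ⊗[k] R)))
    (k' : Type u) [Field k'] [Algebra k k'] :
    IrreducibleSpace (PrimeSpectrum (k' ⊗[k] R)) := by
  let ι : AlgebraicClosure k →ₐ[k] AlgebraicClosure k' := IsAlgClosed.lift
  let _ : Algebra (AlgebraicClosure k) (AlgebraicClosure k') := ι.toRingHom.toAlgebra
  have : IsScalarTower k (AlgebraicClosure k) (AlgebraicClosure k') :=
    IsScalarTower.of_algebraMap_eq (fun x => (ι.commutes x).symm)
  have h1 := irreducibleSpace_tensor_of_isAlgClosed (k := AlgebraicClosure k)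
    (A := AlgebraicClosure k ⊗[k] R) h (AlgebraicClosure k')
  let e : AlgebraicClosure k' ⊗[AlgebraicClosure k] (AlgebraicClosure k ⊗[k] R) ≃ₐ[AlgebraicClosure k]
      AlgebraicClosure k' ⊗[k] R :=
    Algebra.TensorProduct.cancelBaseChange k (AlgebraicClosure k) (AlgebraicClosure k)
      (AlgebraicClosure k') R
  have h2 : IrreducibleSpace (PrimeSpectrum (AlgebraicClosure k' ⊗[k] R)) :=
    (PrimeSpectrum.homeomorphOfRingEquiv e.toRingEquiv).irreducibleSpace_iff.mp h1
  let φ : k' ⊗[k] R →ₐ[k] AlgebraicClosure k' ⊗[k] R :=
    Algebra.TensorProduct.map (IsScalarTower.toAlgHom k k' (AlgebraicClosure k')) (AlgHom.id k R)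
  have hφ : Function.Injective φ :=
    Module.Flat.rTensor_preserves_injective_linearMap (M := R)
      (IsScalarTower.toAlgHom k k' (AlgebraicClosure k')).toLinearMap
      (algebraMap k' (AlgebraicClosure k')).injective
  exact irreducibleSpace_of_injective φ.toRingHom hφ h2

/-- irreducibility over the separable closure gives irreducibility over the algebraic closure -/
theorem irr_algebraicClosure_of_separableClosure {k R : Type u} [Field k] [CommRing R] [Algebra k R]
    (h : IrreducibleSpace (PrimeSpectrum (SeparableClosure k ⊗[k] R))) :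
    IrreducibleSpace (PrimeSpectrum (AlgebraicClosure k ⊗[k] R)) := by
  have hh := PrimeSpectrum.isHomeomorph_comap_tensorProductMap_of_isPurelyInseparable
    (K := SeparableClosure k) (R := k) (S := R) (AlgebraicClosure k)
  exact hh.homeomorph.irreducibleSpace_iff.mpr h

section Colimit

variable {k R : Type u} [Field k] [CommRing R] [Algebra k R] {E : Type u} [Field E] [Algebra k E]

/-- the map `F ⊗ R → E ⊗ R` for an intermediate field `F` -/
noncomputable def incl (R : Type u) [CommRing R] [Algebra k R] (F : IntermediateField k E) :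
    F ⊗[k] R →+* E ⊗[k] R :=
  (Algebra.TensorProduct.map F.val (AlgHom.id k R)).toRingHom

theorem incl_tmul (F : IntermediateField k E) (c : F) (r : R) :
    incl R F (c ⊗ₜ r) = (c : E) ⊗ₜ r := by
  simp [incl]

theorem incl_injective (F : IntermediateField k E) : Function.Injective (incl R F) :=
  Module.Flat.rTensor_preserves_injective_linearMap (M := R) F.val.toLinearMap
    Subtype.val_injective

theorem range_incl_mono {F F' : IntermediateField k E} (hFF' : F ≤ F') :
    (incl R F).range ≤ (incl R F').range := by
  rintro _ ⟨a, rfl⟩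
  refine ⟨(Algebra.TensorProduct.map (IntermediateField.inclusion hFF')
    (AlgHom.id k R)).toRingHom a, ?_⟩
  have : (Algebra.TensorProduct.map F'.val (AlgHom.id k R)).comp
      (Algebra.TensorProduct.map (IntermediateField.inclusion hFF') (AlgHom.id k R)) =
      Algebra.TensorProduct.map F.val (AlgHom.id k R) := by
    apply Algebra.TensorProduct.ext'
    intro x r
    simp
  exact DFunLike.congr_fun this a

theorem exists_finite_mem_range [Algebra.IsAlgebraic k E] (a : E ⊗[k] R) :
    ∃ F : IntermediateField k E, FiniteDimensional k F ∧ a ∈ (incl R F).range := by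
  induction a using TensorProduct.induction_on with
  | zero => exact ⟨⊥, inferInstance, Subring.zero_mem _⟩
  | tmul c r =>
    refine ⟨IntermediateField.adjoin k {c},
      IntermediateField.adjoin.finiteDimensional (Algebra.IsIntegral.isIntegral c), ?_⟩
    exact ⟨(⟨c, IntermediateField.mem_adjoin_simple_self k c⟩ : IntermediateField.adjoin k {c}) ⊗ₜ r,
      incl_tmul _ _ _⟩
  | add x y hx hy =>
    obtain ⟨F1, hF1, h1⟩ := hx
    obtain ⟨F2, hF2, h2⟩ := hy
    refine ⟨F1 ⊔ F2, IntermediateField.finiteDimensional_sup F1 F2, ?_⟩
    exact Subring.add_mem _ (range_incl_mono le_sup_left h1) (range_incl_mono le_sup_right h2)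

/-- irreducibility over all finite separable extensions gives it over the separable closure -/
theorem irr_separableClosure_of_finite_separable {k R : Type u} [Field k] [CommRing R]
    [Algebra k R]
    (h : ∀ (k' : Type u) [Field k'] [Algebra k k'] [Module.Finite k k'] [Algebra.IsSeparable k k'],
      IrreducibleSpace (PrimeSpectrum (k' ⊗[k] R))) :
    IrreducibleSpace (PrimeSpectrum (SeparableClosure k ⊗[k] R)) := by
  have hF : ∀ F : IntermediateField k (SeparableClosure k), FiniteDimensional k F →
      (nilradical (F ⊗[k] R)).IsPrime := by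
    intro F hFfin
    have : Algebra.IsSeparable k F := Algebra.isSeparable_tower_bot_of_isSeparable k F
      (SeparableClosure k)
    exact PrimeSpectrum.irreducibleSpace_iff_isPrime_nilradical.mp (h F)
  rw [PrimeSpectrum.irreducibleSpace_iff_isPrime_nilradical, Ideal.isPrime_iff]
  constructor
  · intro htop
    have h1 : (1 : SeparableClosure k ⊗[k] R) ∈ nilradical (SeparableClosure k ⊗[k] R) := by
      rw [htop]; trivial
    have hp := hF ⊥ inferInstance
    apply hp.ne_top
    rw [Ideal.eq_top_iff_one, mem_nilradical]
    rw [mem_nilradical] at h1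
    have h2 : (1 : SeparableClosure k ⊗[k] R) =
        incl R (⊥ : IntermediateField k (SeparableClosure k)) 1 := (RingHom.map_one _).symm
    rw [h2] at h1
    exact (IsNilpotent.map_iff (incl_injective _)).mp h1
  · intro a b hab
    obtain ⟨F1, hF1, ha'⟩ := exists_finite_mem_range (R := R) a
    obtain ⟨F2, hF2, hb'⟩ := exists_finite_mem_range (R := R) b
    have hfin : FiniteDimensional k ↥(F1 ⊔ F2) := IntermediateField.finiteDimensional_sup F1 F2
    obtain ⟨a'', ha''⟩ := range_incl_mono (R := R) (le_sup_left : F1 ≤ F1 ⊔ F2) ha'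
    obtain ⟨b'', hb''⟩ := range_incl_mono (R := R) (le_sup_right : F2 ≤ F1 ⊔ F2) hb'
    have hp := hF (F1 ⊔ F2) hfin
    rw [mem_nilradical] at hab
    rw [← ha'', ← hb'', ← RingHom.map_mul] at hab
    have hab' : a'' * b'' ∈ nilradical (↥(F1 ⊔ F2) ⊗[k] R) :=
      mem_nilradical.mpr ((IsNilpotent.map_iff (incl_injective _)).mp hab)
    rcases hp.mem_or_mem hab' with h1 | h1
    · left
      rw [mem_nilradical, ← ha'']
      exact (mem_nilradical.mp h1).map (incl R (F1 ⊔ F2))
    · right
      rw [mem_nilradical, ← hb'']
      exact (mem_nilradical.mp h1).map (incl R (F1 ⊔ F2))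

end Colimit

end Groth.Agent.Lib.helper3.GeomIrr
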