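import Mathlib
import Groth.Agent.Lib.Helper3.GenericFibre
import Groth.Agent.Lib.Helper3.GeomConnPt
import Groth.Agent.Lib.Helper3.ResMap
import Groth.Agent.Lib.Helper3.GeomIrr2

/-!
Irreducibility of the inverse image of an irreducible closed subset under `X_K ⟶ X` (helper3):
it is governed by the generic fibre, hence by the residue field of the generic point.
-/

set_option autoImplicit false
universe u

namespace Groth.Agent.Lib.helper3.IrrPreimage

open CategoryTheory Limits AlgebraicGeometry TensorProduct

section top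

variable {E B : Type*} [TopologicalSpace E] [TopologicalSpace B] {p : E → B}

/-- a set squeezed between an irreducible set and its closure is irreducible -/
theorem isIrreducible_of_subset_closure {S S' : Set E} (hS : IsIrreducible S) (h1 : S ⊆ S')
    (h2 : S' ⊆ closure S) : IsIrreducible S' := by
  refine ⟨hS.1.mono h1, ?_⟩
  intro u v hu hv ⟨a, haS, hau⟩ ⟨b, hbS, hbv⟩
  have h3 : (S ∩ u).Nonempty := by
    obtain ⟨c, hcu, hcS⟩ := mem_closure_iff.mp (h2 haS) u hu hau
    exact ⟨c, hcS, hcu⟩
  have h4 : (S ∩ v).Nonempty := by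
    obtain ⟨c, hcv, hcS⟩ := mem_closure_iff.mp (h2 hbS) v hv hbv
    exact ⟨c, hcS, hcv⟩
  obtain ⟨c, hcS, hcuv⟩ := hS.2 u v hu hv h3 h4
  exact ⟨c, h1 hcS, hcuv⟩

/-- if the inverse image of `T` under an open map is irreducible, so is the fibre over the generic
point of `T` -/
theorem isIrreducible_preimage_singleton (ho : IsOpenMap p) {T : Set B} {η : B}
    (hη : IsGenericPoint η T) (h : IsIrreducible (p ⁻¹' T)) : IsIrreducible (p ⁻¹' {η}) := by
  have key : ∀ u : Set E, IsOpen u → (p ⁻¹' T ∩ u).Nonempty → (p ⁻¹' {η} ∩ u).Nonempty := by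
    intro u hu ⟨z, hzT, hzu⟩
    have h1 : η ⤳ p z := hη.specializes hzT
    have h2 : η ∈ p '' u := h1.mem_open (ho u hu) ⟨z, hzu, rfl⟩
    obtain ⟨z', hz'u, hz'⟩ := h2
    exact ⟨z', hz', hz'u⟩
  have hsub : p ⁻¹' {η} ⊆ p ⁻¹' T := fun z hz => by
    change p z ∈ T
    rw [Set.mem_preimage, Set.mem_singleton_iff] at hz
    rw [hz]
    exact hη.mem
  constructor
  · obtain ⟨z, hz⟩ := h.1
    obtain ⟨z', hz', -⟩ := key Set.univ isOpen_univ ⟨z, hz, trivial⟩
    exact ⟨z', hz'⟩
  · intro u v hu hv hu' hv'
    have h3 := h.2 u v hu hv (hu'.mono (Set.inter_subset_inter_left _ hsub))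
      (hv'.mono (Set.inter_subset_inter_left _ hsub))
    have h4 := key (u ∩ v) (hu.inter hv) h3
    exact h4

/-- if the fibre of a generalizing map over the generic point of `T` is irreducible, so is the
inverse image of `T` -/
theorem isIrreducible_preimage_of_singleton (hg : GeneralizingMap p) {T : Set B} {η : B}
    (hη : IsGenericPoint η T) (h : IsIrreducible (p ⁻¹' {η})) : IsIrreducible (p ⁻¹' T) := by
  refine isIrreducible_of_subset_closure h ?_ ?_
  · intro z hz
    rw [Set.mem_preimage, Set.mem_singleton_iff] at hz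
    change p z ∈ T
    rw [hz]
    exact hη.mem
  · intro z hz
    have h1 : η ⤳ p z := hη.specializes hz
    obtain ⟨z', hz', hpz'⟩ := hg h1
    exact hz'.mem_closed isClosed_closure (subset_closure hpz')

end top

variable {k : Type u} [Field k] {X : Scheme.{u}} (f : X ⟶ Spec (CommRingCat.of k))

/-- `X_K ⟶ X` is generalizing -/
theorem generalizingMap_fst (K : Type u) [Field K] [Algebra k K] :
    GeneralizingMap (pullback.fst f (Spec.map (CommRingCat.ofHom (algebraMap k K)))) := by
  have h0 : Flat (Spec.map (CommRingCat.ofHom (algebraMap k K))) := inferInstance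
  have hflat : Flat (pullback.fst f (Spec.map (CommRingCat.ofHom (algebraMap k K)))) :=
    MorphismProperty.pullback_fst (P := @Flat) _ _ h0
  exact Flat.generalizingMap _

/-- If the inverse image of `T = closure {η}` in `X_{k^sep}` is irreducible, then so is its inverse
image in `X_K` for every extension field `K`. -/
theorem isIrreducible_preimage_of_sepClosure {T : Set X} {η : X} (hη : IsGenericPoint η T)
    (h : IsIrreducible ((pullback.fst f (Spec.map (CommRingCat.ofHom
      (algebraMap k (SeparableClosure k))))) ⁻¹' T))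
    (K : Type u) [Field K] [Algebra k K] :
    IsIrreducible ((pullback.fst f (Spec.map (CommRingCat.ofHom (algebraMap k K)))) ⁻¹' T) := by
  let _ : X.Over (Spec (CommRingCat.of k)) := ⟨f⟩
  have hφ : Spec.map (CommRingCat.ofHom (Curv2.resMap k X η)) = X.fromSpecResidueField η ≫ f :=
    ResMap.specMap_resMap k X η
  have h1 := isIrreducible_preimage_singleton
    (GeomConnPt.isOpenMap_fst_specMap f (SeparableClosure k)) hη h
  have h2 := (GenericFibre.isIrreducible_preimage_singleton_iff f η _ hφ (SeparableClosure k)).mp h1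
  let _ : Algebra k (X.residueField η) := (Curv2.resMap k X η).toAlgebra
  have h3 : IrreducibleSpace (PrimeSpectrum (K ⊗[k] X.residueField η)) :=
    GeomIrr.geomIrr_of_algebraicClosure (GeomIrr.irr_algebraicClosure_of_separableClosure h2) K
  have h4 := (GenericFibre.isIrreducible_preimage_singleton_iff f η _ hφ K).mpr h3
  exact isIrreducible_preimage_of_singleton (generalizingMap_fst f K) hη h4

end Groth.Agent.Lib.helper3.IrrPreimage
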