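import Mathlib
import Groth.Agent.Lib.Helper28.GrpPts2
import Groth.Agent.Lib.Helper3.IrrPreimage
import Groth.Agent.Lib.Helper3.AlgClosedTensor

/-!
Irreducible components of a group scheme over an algebraically closed field (helper3):
irreducible schemes over an algebraically closed field are geometrically irreducible, products of
irreducible closed subsets of a group scheme are irreducible, and there is exactly one irreducible
component through the unit point; it is stable under products.
-/

set_option autoImplicit false
universe u

namespace Groth.Agent.Lib.helper3.GrpIrr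

open CategoryTheory Limits AlgebraicGeometry MonoidalCategory CartesianMonoidalCategory MonObj GrpObj
open Groth.Agent.Lib.helper28.GrpPts

variable {K : Type u} [Field K]

/-- an irreducible scheme over an algebraically closed field is geometrically irreducible -/
theorem geometricallyIrreducible_of_isAlgClosed [IsAlgClosed K] {X : Scheme.{u}}
    (f : X ⟶ Spec (CommRingCat.of K)) [IrreducibleSpace X] : GeometricallyIrreducible f := by
  refine ⟨(geometrically_iff_of_commRing_of_isClosedUnderIsomorphisms).mpr fun L _ _ => ?_⟩
  let ξ := genericPoint X
  have hξ : IsGenericPoint ξ Set.univ := genericPoint_spec X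
  let φ := (Spec.preimage (X.fromSpecResidueField ξ ≫ f)).hom
  have hφ : Spec.map (CommRingCat.ofHom φ) = X.fromSpecResidueField ξ ≫ f := Spec.map_preimage _
  apply GenericFibre.irreducibleSpace_of_generic_fibre (IrrPreimage.generalizingMap_fst f L) hξ
  rw [GenericFibre.isIrreducible_preimage_singleton_iff f ξ φ hφ L]
  let _ : Algebra K (X.residueField ξ) := φ.toAlgebra
  have := AlgClosedTensor.isDomain_tensor K L (X.residueField ξ)
  infer_instance

/-- the product of two irreducible schemes over an algebraically closed field is irreducible -/
theorem irreducibleSpace_tensor [IsAlgClosed K] (T W : Over (Spec (CommRingCat.of K)))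
    [IrreducibleSpace T.left] [IrreducibleSpace W.left] : IrreducibleSpace (T ⊗ W).left := by
  have := geometricallyIrreducible_of_isAlgClosed T.hom
  have hu : UniversallyOpen T.hom := inferInstance
  exact inferInstanceAs (IrreducibleSpace ↥(pullback T.hom W.hom))

variable (G : Over (Spec (CommRingCat.of K)))

/-- the closed subscheme of `G` on a closed subset, as an object over the base -/
noncomputable def sub (Z : TopologicalSpace.Closeds G.left) : Over (Spec (CommRingCat.of K)) :=
  Over.mk ((Scheme.IdealSheafData.vanishingIdeal Z).subschemeι ≫ G.hom)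

/-- its inclusion -/
noncomputable def incl (Z : TopologicalSpace.Closeds G.left) : sub G Z ⟶ G :=
  Over.homMk (Scheme.IdealSheafData.vanishingIdeal Z).subschemeι rfl

theorem range_incl (Z : TopologicalSpace.Closeds G.left) :
    Set.range (incl G Z).left = (Z : Set G.left) := by
  show Set.range (Scheme.IdealSheafData.vanishingIdeal Z).subschemeι = _
  rw [Scheme.IdealSheafData.range_subschemeι]
  simp

theorem irreducibleSpace_sub (Z : TopologicalSpace.Closeds G.left)
    (hZ : IsIrreducible (Z : Set G.left)) : IrreducibleSpace (sub G Z).left := by
  have hemb : Topology.IsEmbedding (incl G Z).left :=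
    (Scheme.Hom.isClosedEmbedding
      (Scheme.IdealSheafData.vanishingIdeal Z).subschemeι).isEmbedding
  have h1 : IrreducibleSpace (Set.range (incl G Z).left) := by
    rw [range_incl]
    exact Subtype.irreducibleSpace hZ
  exact (hemb.toHomeomorph).irreducibleSpace_iff.mpr h1

variable [GrpObj G]

/-- the product of two irreducible closed subsets is irreducible -/
theorem isIrreducible_mulSet [IsAlgClosed K] (T T' : TopologicalSpace.Closeds G.left)
    (hT : IsIrreducible (T : Set G.left)) (hT' : IsIrreducible (T' : Set G.left)) :
    IsIrreducible (mulSet G T T') := by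
  have h := range_tensorHom_mul (G := G) (incl G T) (incl G T')
  rw [range_incl, range_incl] at h
  have : mulSet G T T' = Set.range ⇑((incl G T ⊗ₘ incl G T') ≫ μ[G]).left := by
    rw [h]; rfl
  rw [this]
  have := irreducibleSpace_sub G T hT
  have := irreducibleSpace_sub G T' hT'
  have := irreducibleSpace_tensor (sub G T) (sub G T')
  rw [← Set.image_univ]
  exact (IrreducibleSpace.isIrreducible_univ _).image _ (Scheme.Hom.continuous _).continuousOn

/-- the unit point -/
noncomputable def e : G.left := η[G].left (IsLocalRing.closedPoint K)

theorem unit_apply (x : (𝟙_ (Over (Spec (CommRingCat.of K)))).left) : η[G].left x = e G := by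
  have hsub : Subsingleton (𝟙_ (Over (Spec (CommRingCat.of K)))).left :=
    inferInstanceAs (Subsingleton (PrimeSpectrum K))
  exact congrArg _ (Subsingleton.elim _ _)

theorem mul3_unit_right (r : G.left) : Mul3 G r (e G) r := by
  obtain ⟨e', ⟨x, rfl⟩, h⟩ := Mul3.exists_unit G r
  rwa [unit_apply] at h

theorem mul3_unit_left (r : G.left) : Mul3 G (e G) r r := by
  refine ⟨G, r, 1, 𝟙 G, ?_, rfl, ?_⟩
  · rw [Hom.one_def, Over.comp_left, Scheme.Hom.comp_apply, unit_apply]
  · rw [_root_.one_mul]
    rfl

/-- an irreducible closed subset through the unit point lies in every irreducible component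
through the unit point -/
theorem subset_of_unit_mem [IsAlgClosed K] {T T' : Set G.left}
    (hT : T ∈ irreducibleComponents G.left) (hT' : IsIrreducible T') (hcT' : IsClosed T')
    (he : e G ∈ T) (he' : e G ∈ T') : T' ⊆ T := by
  have hM := isIrreducible_mulSet G ⟨T, isClosed_of_mem_irreducibleComponents T hT⟩ ⟨T', hcT'⟩
    hT.1 hT'
  have h1 : T ⊆ mulSet G T T' := fun t ht => ⟨t, ht, e G, he', mul3_unit_right G t⟩
  have h2 : T' ⊆ mulSet G T T' := fun t ht => ⟨e G, he, t, ht, mul3_unit_left G t⟩
  have h3 : closure (mulSet G T T') ⊆ T :=
    hT.2 hM.closure (h1.trans subset_closure)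
  exact h2.trans (subset_closure.trans h3)

/-- there is at most one irreducible component through the unit point -/
theorem eq_of_unit_mem [IsAlgClosed K] {T T' : Set G.left}
    (hT : T ∈ irreducibleComponents G.left) (hT' : T' ∈ irreducibleComponents G.left)
    (he : e G ∈ T) (he' : e G ∈ T') : T = T' :=
  Set.Subset.antisymm
    (subset_of_unit_mem G hT' hT.1 (isClosed_of_mem_irreducibleComponents T hT) he' he)
    (subset_of_unit_mem G hT hT'.1 (isClosed_of_mem_irreducibleComponents T' hT') he he')

/-- the irreducible component through the unit point is stable under products -/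
theorem mulSet_subset [IsAlgClosed K] {T : Set G.left}
    (hT : T ∈ irreducibleComponents G.left) (he : e G ∈ T) : mulSet G T T ⊆ T := by
  have hM := isIrreducible_mulSet G ⟨T, isClosed_of_mem_irreducibleComponents T hT⟩
    ⟨T, isClosed_of_mem_irreducibleComponents T hT⟩ hT.1 hT.1
  have h1 : T ⊆ mulSet G T T := fun t ht => ⟨t, ht, e G, he, mul3_unit_right G t⟩
  exact subset_closure.trans (hT.2 hM.closure (h1.trans subset_closure))

end Groth.Agent.Lib.helper3.GrpIrr
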