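import Mathlib
import Groth.Agent.Lib.Helper3.GrpIrr
import Groth.Agent.Lib.Helper3.GalAct
import Groth.Agent.Lib.Helper3.GeomConnPt

/-!
Base change of a group scheme over a field to a normal algebraically closed extension (helper3):
the inverse image of an irreducible component through the unit point is the irreducible component
of the base change through its unit point.
-/

set_option autoImplicit false
universe u

namespace Groth.Agent.Lib.helper3.GrpIrrBC

open CategoryTheory Limits AlgebraicGeometry MonoidalCategory CartesianMonoidalCategory MonObj GrpObj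
open Topology

/-- topological core of the descent of the identity component -/
theorem preimage_eq_of_transitive {E B : Type*} [TopologicalSpace E] [TopologicalSpace B]
    [QuasiSober B] {π : E → B} (hc : Continuous π) (hg : GeneralizingMap π)
    (hs : Function.Surjective π) (e' : E)
    (hfib : ∀ y, π y = π e' → y = e')
    (htr : ∀ y y', π y = π y' → ∃ h : E ≃ₜ E, (∀ z, π (h z) = π z) ∧ h y = y')
    (T : Set E) (hT : IsClosed T)
    (hmax : ∀ S : Set E, IsIrreducible S → IsClosed S → e' ∈ S → S ⊆ T)
    (hTirr : IsIrreducible T)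
    (Z : Set B) (hZ : Z ∈ irreducibleComponents B) (he : π e' ∈ Z) : π ⁻¹' Z = T := by
  have hZc : IsClosed Z := isClosed_of_mem_irreducibleComponents Z hZ
  obtain ⟨ξ, hξ⟩ := QuasiSober.sober hZ.1 hZc
  have h1 : ξ ⤳ π e' := hξ.specializes he
  obtain ⟨ξ₀, hξ₀, hπξ₀⟩ := hg h1
  have h4 : ∀ ξ', π ξ' = ξ → ξ' ∈ T := by
    intro ξ' hξ'
    obtain ⟨h, hh, hhξ⟩ := htr ξ₀ ξ' (hπξ₀.trans hξ'.symm)
    have he' : h e' = e' := hfib _ (hh e')
    have hsp : ξ' ⤳ e' := by
      have := hξ₀.map h.continuous
      rwa [hhξ, he'] at this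
    have hcl : closure {ξ'} ⊆ T :=
      hmax _ isIrreducible_singleton.closure isClosed_closure hsp.mem_closure
    exact hcl (subset_closure rfl)
  apply Set.Subset.antisymm
  · intro y hy
    have h2 : ξ ⤳ π y := hξ.specializes hy
    obtain ⟨y', hy', hπy'⟩ := hg h2
    exact hy'.mem_closed hT (h4 y' hπy')
  · have himg : IsIrreducible (π '' T) := hTirr.image π hc.continuousOn
    have hsub : Z ⊆ closure (π '' T) := by
      intro z hz
      obtain ⟨y, rfl⟩ := hs z
      have h2 : ξ ⤳ π y := hξ.specializes hz
      obtain ⟨y', hy', hπy'⟩ := hg h2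
      exact subset_closure ⟨y, hy'.mem_closed hT (h4 y' hπy'), rfl⟩
    have hle : closure (π '' T) ⊆ Z := hZ.2 himg.closure hsub
    intro y hy
    exact hle (subset_closure ⟨y, hy, rfl⟩)

variable {K : Type u} [Field K] (G : Over (Spec (CommRingCat.of K))) [GrpObj G]
  (L : Type u) [Field L] [Algebra K L]

/-- the base change of `G` to `L` -/
noncomputable abbrev bcG : Over (Spec (CommRingCat.of L)) :=
  Over.mk (pullback.snd G.hom (Spec.map (CommRingCat.ofHom (algebraMap K L))))

noncomputable instance : GrpObj (bcG G L) := by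
  letI : GrpObj (Over.mk G.hom) := ‹GrpObj G›
  exact Over.grpObjMkPullbackSnd

/-- the projection `G_L ⟶ G` -/
noncomputable abbrev pr : (bcG G L).left ⟶ G.left := pullback.fst G.hom _

theorem one_pr : η[bcG G L].left ≫ pr G L =
    (Functor.LaxMonoidal.ε (Over.pullback (Spec.map (CommRingCat.ofHom (algebraMap K L))))).left ≫
      pullback.fst _ _ ≫ η[G].left := by
  let _ : GrpObj (Over.mk G.hom) := ‹GrpObj G›
  have h : η[bcG G L] = Functor.LaxMonoidal.ε (Over.pullback _) ≫
      (Over.pullback _).map η[Over.mk G.hom] := Over.grpObjMkPullbackSnd_one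
  rw [h]
  simp [pr]
  rw [pullback.lift_fst, ← Category.assoc, ← pullback.condition]
  simp

/-- the unit point of `G_L` lies over the unit point of `G` -/
theorem pr_unit : pr G L (GrpIrr.e (bcG G L)) = GrpIrr.e G := by
  unfold GrpIrr.e
  rw [← Scheme.Hom.comp_apply, one_pr]
  simp only [Scheme.Hom.comp_apply]
  exact GrpIrr.unit_apply G _

/-- the unit point of `G_L` is the only point over the unit point of `G` -/
theorem eq_unit_of_pr_eq (y : (bcG G L).left) (h : pr G L y = GrpIrr.e G) :
    y = GrpIrr.e (bcG G L) := by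
  suffices H : ∀ y₁ y₂ : (bcG G L).left, pr G L y₁ = GrpIrr.e G → pr G L y₂ = GrpIrr.e G →
      y₁ = y₂ from H y _ h (pr_unit G L)
  intro y₁ y₂ h₁ h₂
  let g := Spec.map (CommRingCat.ofHom (algebraMap K L))
  let u : Spec (CommRingCat.of K) ⟶ G.left := η[G].left
  have hu : u ≫ G.hom = 𝟙 _ := Over.w η[G]
  have hiso : IsIso (u ≫ G.hom) := hu ▸ inferInstance
  let φ : pullback u (pullback.fst G.hom g) ⟶ Spec (CommRingCat.of L) :=
    (pullbackRightPullbackFstIso G.hom g u).hom ≫ pullback.snd (u ≫ G.hom) g
  have hφ : IsIso φ := inferInstance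
  have hsubL : Subsingleton ↥(Spec (CommRingCat.of L)) :=
    inferInstanceAs (Subsingleton (PrimeSpectrum L))
  have hsub : Subsingleton ↥(pullback u (pullback.fst G.hom g)) :=
    (φ.homeomorph).injective.subsingleton
  obtain ⟨z₁, -, hz₁⟩ := Scheme.Pullback.exists_preimage_pullback (f := u)
    (g := pullback.fst G.hom g) (IsLocalRing.closedPoint K) y₁ h₁.symm
  obtain ⟨z₂, -, hz₂⟩ := Scheme.Pullback.exists_preimage_pullback (f := u)
    (g := pullback.fst G.hom g) (IsLocalRing.closedPoint K) y₂ h₂.symm
  rw [← hz₁, ← hz₂, Subsingleton.elim z₁ z₂]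

omit [GrpObj G] in
/-- automorphisms of `L` act transitively on the fibres of `G_L ⟶ G` -/
theorem exists_homeo [Normal K L] (y y' : (bcG G L).left) (h : pr G L y = pr G L y') :
    ∃ h : (bcG G L).left ≃ₜ (bcG G L).left, (∀ z, pr G L (h z) = pr G L z) ∧ h y = y' := by
  let _ : G.left.Over (Spec (CommRingCat.of K)) := ⟨G.hom⟩
  obtain ⟨σ, hσ⟩ := GalAct.exists_galAct_eq K G.left L y y' h
  exact ⟨GalAct.galHomeo K G.left L σ, fun z => GalAct.galAct_fst_apply K G.left L σ z, hσ⟩

/-- the inverse image of an irreducible component through the unit point is the irreducible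
component of `G_L` through its unit point (`L` algebraically closed and normal over `K`) -/
theorem preimage_eq [IsAlgClosed L] [Normal K L] {Z : Set G.left}
    (hZ : Z ∈ irreducibleComponents G.left) (he : GrpIrr.e G ∈ Z) :
    pr G L ⁻¹' Z = irreducibleComponent (GrpIrr.e (bcG G L)) := by
  refine preimage_eq_of_transitive (π := pr G L) (Scheme.Hom.continuous _)
    (IrrPreimage.generalizingMap_fst G.hom L) (GeomConnPt.surjective_fst_specMap G.hom L)
    (GrpIrr.e (bcG G L)) ?_ (exists_homeo G L) _ isClosed_irreducibleComponent ?_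
    isIrreducible_irreducibleComponent Z hZ ?_
  · intro y hy
    rw [pr_unit] at hy
    exact eq_unit_of_pr_eq G L y hy
  · intro S hS hSc heS
    exact GrpIrr.subset_of_unit_mem (bcG G L) (irreducibleComponent_mem_irreducibleComponents _)
      hS hSc mem_irreducibleComponent heS
  · rw [pr_unit]
    exact he

end Groth.Agent.Lib.helper3.GrpIrrBC
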