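import Mathlib
import Groth.Agent.Lib.Helper3.GrpIrrBC

/-!
Irreducible components of a group scheme over an arbitrary field are pairwise disjoint (helper3):
base change to an algebraic closure of the residue field of a point, translate the point to the
unit, and use the uniqueness of the irreducible component through the unit.
-/

set_option autoImplicit false
universe u

namespace Groth.Agent.Lib.helper3.GrpIrrPt

open CategoryTheory Limits AlgebraicGeometry MonoidalCategory CartesianMonoidalCategory MonObj GrpObj
open Topology GrpIrrBC

variable {K : Type u} [Field K] (G : Over (Spec (CommRingCat.of K))) [GrpObj G]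

/-- right translation by a rational point: a homeomorphism taking the unit point to that point -/
theorem exists_homeo_unit (s : 𝟙_ (Over (Spec (CommRingCat.of K))) ⟶ G) :
    ∃ h : G.left ≃ₜ G.left, h (GrpIrr.e G) = s.left (IsLocalRing.closedPoint K) := by
  let α := GrpObj.mulRight s
  have hα : η[G] ≫ α.hom = s := by
    have := MonObj.lift_comp_one_left (𝟙 _) s
    simpa [α, GrpObj.mulRight, comp_lift_assoc] using this
  have hiso : IsIso α.hom.left := inferInstanceAs (IsIso ((Over.forget _).map α.hom))
  refine ⟨α.hom.left.homeomorph, ?_⟩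
  have h1 : α.hom.left.homeomorph (GrpIrr.e G) =
      (η[G] ≫ α.hom).left (IsLocalRing.closedPoint K) := rfl
  rw [hα] at h1
  exact h1

/-- two irreducible components of a group scheme over a field which meet are equal -/
theorem eq_of_mem_inter {T₁ T₂ : Set G.left} (h₁ : T₁ ∈ irreducibleComponents G.left)
    (h₂ : T₂ ∈ irreducibleComponents G.left) (x : G.left) (hx₁ : x ∈ T₁) (hx₂ : x ∈ T₂) :
    T₁ = T₂ := by
  let κ := G.left.residueField x
  let φ : K →+* κ := (Spec.preimage (G.left.fromSpecResidueField x ≫ G.hom)).hom
  have hφ : Spec.map (CommRingCat.ofHom φ) = G.left.fromSpecResidueField x ≫ G.hom :=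
    Spec.map_preimage _
  let L := AlgebraicClosure κ
  let _ : Algebra K L := ((algebraMap κ L).comp φ).toAlgebra
  let g := Spec.map (CommRingCat.ofHom (algebraMap K L))
  have hcond : (Spec.map (CommRingCat.ofHom (algebraMap κ L)) ≫ G.left.fromSpecResidueField x) ≫
      G.hom = 𝟙 _ ≫ g := by
    rw [Category.assoc, ← hφ, ← Spec.map_comp, ← CommRingCat.ofHom_comp, Category.id_comp]
  let s₀ : Spec (CommRingCat.of L) ⟶ pullback G.hom g := pullback.lift _ (𝟙 _) hcond
  let s : 𝟙_ (Over (Spec (CommRingCat.of L))) ⟶ bcG G L :=
    Over.homMk s₀ (pullback.lift_snd _ _ _)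
  let x' : (bcG G L).left := s.left (IsLocalRing.closedPoint L)
  have hx' : pr G L x' = x := by
    show (s₀ ≫ pullback.fst G.hom g) (IsLocalRing.closedPoint L) = x
    rw [pullback.lift_fst, Scheme.Hom.comp_apply, Scheme.fromSpecResidueField_apply]
  obtain ⟨h, hh⟩ := exists_homeo_unit (bcG G L) s
  -- the component `C'` of `G_L` through `x'`
  let T₀ := irreducibleComponent (GrpIrr.e (bcG G L))
  let C' : Set (bcG G L).left := h '' T₀
  have hC'irr : IsIrreducible C' :=
    isIrreducible_irreducibleComponent.image h h.continuous.continuousOn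
  have hC'cl : IsClosed C' := h.isClosedMap _ isClosed_irreducibleComponent
  obtain ⟨c', hc'⟩ := QuasiSober.sober hC'irr hC'cl
  have key : ∀ T ∈ irreducibleComponents G.left, x ∈ T → T = closure {pr G L c'} := by
    intro T hT hxT
    have hTc : IsClosed T := isClosed_of_mem_irreducibleComponents T hT
    obtain ⟨y, hy⟩ := QuasiSober.sober hT.1 hTc
    have hyx : y ⤳ pr G L x' := hx'.symm ▸ hy.specializes hxT
    obtain ⟨y', hy', hπy'⟩ := IrrPreimage.generalizingMap_fst G.hom L hyx
    -- the component of `y'` is `C'`
    have hmemC : irreducibleComponent y' ∈ irreducibleComponents (bcG G L).left :=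
      irreducibleComponent_mem_irreducibleComponents y'
    have hx'C : x' ∈ irreducibleComponent y' :=
      hy'.mem_closed isClosed_irreducibleComponent mem_irreducibleComponent
    have hD : h.symm '' irreducibleComponent y' ⊆ T₀ := by
      apply GrpIrr.subset_of_unit_mem (bcG G L) (irreducibleComponent_mem_irreducibleComponents _)
        (isIrreducible_irreducibleComponent.image _ h.symm.continuous.continuousOn)
        (h.symm.isClosedMap _ isClosed_irreducibleComponent) mem_irreducibleComponent
      exact ⟨x', hx'C, by
        rw [show x' = h (GrpIrr.e (bcG G L)) from hh.symm, h.symm_apply_apply]⟩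
    have hsub : irreducibleComponent y' ⊆ C' := by
      intro z hz
      exact ⟨h.symm z, hD ⟨z, hz, rfl⟩, h.apply_symm_apply z⟩
    have hy'C : y' ∈ C' := hsub mem_irreducibleComponent
    have hsp : pr G L c' ⤳ y := by
      have h1 : c' ⤳ y' := hc'.specializes hy'C
      have := h1.map (pr G L).continuous
      rwa [hπy'] at this
    have hyT : closure {y} = T := isGenericPoint_def.mp hy
    have hle : T ⊆ closure {pr G L c'} := by
      rw [← hyT]
      exact closure_minimal (Set.singleton_subset_iff.mpr hsp.mem_closure) isClosed_closure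
    exact Set.Subset.antisymm hle (hT.2 isIrreducible_singleton.closure hle)
  rw [key T₁ h₁ hx₁, key T₂ h₂ hx₂]

end Groth.Agent.Lib.helper3.GrpIrrPt
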