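import Mathlib
import Groth.Agent.Lib.Helper3.GrpIrrPt

/-!
The irreducible component `Z` through the unit point of a group scheme over an algebraically closed
field (helper3): it is stable under inversion and products, every irreducible component is a coset
of `Z`, and `Z` is quasi-compact.
-/

set_option autoImplicit false
universe u

namespace Groth.Agent.Lib.helper3.GrpConn

open CategoryTheory Limits AlgebraicGeometry MonoidalCategory CartesianMonoidalCategory MonObj GrpObj
open Topology Groth.Agent.Lib.helper28.GrpPts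

variable {K : Type u} [Field K] (G : Over (Spec (CommRingCat.of K))) [GrpObj G]

/-- `t · t⁻¹ ∋ e` -/
theorem mul3_self_inv (t : G.left) : Mul3 G t (ι[G].left t) (GrpIrr.e G) := by
  refine ⟨G, t, 𝟙 G, (𝟙 G)⁻¹, rfl, ?_, ?_⟩
  · rw [Hom.inv_def, Category.id_comp]
  · rw [mul_inv_cancel, Hom.one_def, Over.comp_left, Scheme.Hom.comp_apply, GrpIrr.unit_apply]

/-- inversion fixes the unit point -/
theorem inv_unit : ι[G].left (GrpIrr.e G) = GrpIrr.e G := by
  unfold GrpIrr.e
  rw [← Scheme.Hom.comp_apply, ← Over.comp_left]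
  have : η[G] ≫ ι[G] = η[G] := by simp
  rw [this]

/-- inversion as a homeomorphism -/
noncomputable def invHomeo : G.left ≃ₜ G.left where
  toFun := ι[G].left
  invFun := ι[G].left
  left_inv := inv_inv_apply G
  right_inv := inv_inv_apply G
  continuous_toFun := Scheme.Hom.continuous _
  continuous_invFun := Scheme.Hom.continuous _

/-- the irreducible component through the unit point -/
noncomputable def Z : Set G.left := irreducibleComponent (GrpIrr.e G)

theorem Z_mem : Z G ∈ irreducibleComponents G.left := irreducibleComponent_mem_irreducibleComponents _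

theorem unit_mem_Z : GrpIrr.e G ∈ Z G := mem_irreducibleComponent

theorem isClosed_Z : IsClosed (Z G) := isClosed_irreducibleComponent

theorem isIrreducible_Z : IsIrreducible (Z G) := isIrreducible_irreducibleComponent

variable [IsAlgClosed K]

/-- `Z` is stable under inversion -/
theorem inv_mem_Z {z : G.left} (hz : z ∈ Z G) : ι[G].left z ∈ Z G := by
  have h1 : IsIrreducible (invHomeo G '' Z G) :=
    (isIrreducible_Z G).image _ (invHomeo G).continuous.continuousOn
  have h2 : IsClosed (invHomeo G '' Z G) := (invHomeo G).isClosedMap _ (isClosed_Z G)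
  have h3 : GrpIrr.e G ∈ invHomeo G '' Z G := ⟨GrpIrr.e G, unit_mem_Z G, inv_unit G⟩
  exact GrpIrr.subset_of_unit_mem G (Z_mem G) h1 h2 (unit_mem_Z G) h3 ⟨z, hz, rfl⟩

/-- `Z` is stable under products -/
theorem mul_mem_Z {a b c : G.left} (ha : a ∈ Z G) (hb : b ∈ Z G) (h : Mul3 G a b c) : c ∈ Z G :=
  GrpIrr.mulSet_subset G (Z_mem G) (unit_mem_Z G) ⟨a, ha, b, hb, h⟩

/-- irreducible components are stable under left multiplication by `Z` -/
theorem mul_mem_of_mem_Z {T : Set G.left} (hT : T ∈ irreducibleComponents G.left)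
    {a b c : G.left} (ha : a ∈ Z G) (hb : b ∈ T) (h : Mul3 G a b c) : c ∈ T := by
  have hM := GrpIrr.isIrreducible_mulSet G ⟨Z G, isClosed_Z G⟩
    ⟨T, isClosed_of_mem_irreducibleComponents T hT⟩ (isIrreducible_Z G) hT.1
  have h1 : T ⊆ mulSet G (Z G) T := fun t ht =>
    ⟨GrpIrr.e G, unit_mem_Z G, t, ht, GrpIrr.mul3_unit_left G t⟩
  exact hT.2 hM.closure (h1.trans subset_closure) (subset_closure ⟨a, ha, b, hb, h⟩)

/-- `T · T⁻¹ ⊆ Z` for an irreducible component `T` -/
theorem mul_inv_mem_Z {T : Set G.left} (hT : T ∈ irreducibleComponents G.left)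
    {a b c : G.left} (ha : a ∈ T) (hb : b ∈ T) (h : Mul3 G a (ι[G].left b) c) : c ∈ Z G := by
  have hTc : IsClosed T := isClosed_of_mem_irreducibleComponents T hT
  have h1 : IsIrreducible (invHomeo G '' T) :=
    hT.1.image _ (invHomeo G).continuous.continuousOn
  have h2 : IsClosed (invHomeo G '' T) := (invHomeo G).isClosedMap _ hTc
  have hM := GrpIrr.isIrreducible_mulSet G ⟨T, hTc⟩ ⟨invHomeo G '' T, h2⟩ hT.1 h1
  have he : GrpIrr.e G ∈ mulSet G T (invHomeo G '' T) :=
    ⟨a, ha, ι[G].left a, ⟨a, ha, rfl⟩, mul3_self_inv G a⟩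
  have := GrpIrr.subset_of_unit_mem G (Z_mem G) hM.closure isClosed_closure (unit_mem_Z G)
    (subset_closure he)
  exact this (subset_closure ⟨a, ha, ι[G].left b, ⟨b, hb, rfl⟩, h⟩)

/-- two points of the same irreducible component differ by an element of `Z` -/
theorem exists_mem_Z_mul3 {T : Set G.left} (hT : T ∈ irreducibleComponents G.left)
    {u w : G.left} (hu : u ∈ T) (hw : w ∈ T) : ∃ z ∈ Z G, Mul3 G z u w := by
  obtain ⟨z, hz⟩ := Mul3.exists_mul G w (ι[G].left u)
  refine ⟨z, mul_inv_mem_Z G hT hw hu hz, ?_⟩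
  have := hz.rot_right
  rwa [inv_inv_apply] at this

/-- `Z` is quasi-compact -/
theorem isCompact_Z : IsCompact (Z G) := by
  obtain ⟨U, hU, heU⟩ : ∃ U : G.left.Opens, IsAffineOpen U ∧ GrpIrr.e G ∈ U := by
    obtain ⟨U', ⟨U, hU, rfl⟩, hxU, -⟩ :=
      (G.left.isBasis_affineOpens).exists_subset_of_mem_open (Set.mem_univ (GrpIrr.e G))
        isOpen_univ
    exact ⟨U, hU, hxU⟩
  -- the closed subscheme on `Z` and its affine open piece over `U`
  let Zc : TopologicalSpace.Closeds G.left := ⟨Z G, isClosed_Z G⟩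
  have hci : IsClosedImmersion (GrpIrr.incl G Zc).left :=
    inferInstanceAs (IsClosedImmersion (Scheme.IdealSheafData.vanishingIdeal Zc).subschemeι)
  let V : (GrpIrr.sub G Zc).left.Opens := (GrpIrr.incl G Zc).left ⁻¹ᵁ U
  have hV : IsAffineOpen V := hU.preimage (GrpIrr.incl G Zc).left
  let W : Over (Spec (CommRingCat.of K)) := Over.mk (V.ι ≫ (GrpIrr.sub G Zc).hom)
  let w : W ⟶ G := Over.homMk (V.ι ≫ (GrpIrr.incl G Zc).left)
    (by simp only [Category.assoc]; rw [Over.w (GrpIrr.incl G Zc)]; rfl)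
  have hrw : Set.range w.left = Z G ∩ U := by
    show Set.range (V.ι ≫ (GrpIrr.incl G Zc).left) = _
    rw [Scheme.Hom.comp_base, TopCat.coe_comp, Set.range_comp, Scheme.Opens.range_ι]
    ext y
    constructor
    · rintro ⟨v, hv, rfl⟩
      exact ⟨(GrpIrr.range_incl G Zc).subset ⟨v, rfl⟩, hv⟩
    · rintro ⟨hy1, hy2⟩
      have : y ∈ Set.range (GrpIrr.incl G Zc).left := (GrpIrr.range_incl G Zc).symm.subset hy1
      obtain ⟨v, rfl⟩ := this
      exact ⟨v, hy2, rfl⟩
  have hcover : Z G = Set.range ⇑((w ⊗ₘ w) ≫ μ[G]).left := by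
    rw [range_tensorHom_mul, hrw]
    apply Set.Subset.antisymm
    · intro g hg
      have hO := Groth.Agent.S0351.translate_open K G (ι[G].left ⁻¹ᵁ U) g
      have hgO : g ∈ {g₃ | ∃ g₂ ∈ ι[G].left ⁻¹ᵁ U, Mul3 G g g₂ g₃} :=
        ⟨GrpIrr.e G, by show ι[G].left (GrpIrr.e G) ∈ U; rw [inv_unit]; exact heU,
          GrpIrr.mul3_unit_right G g⟩
      obtain ⟨g₃, hg₃Z, ⟨g₂, hg₂, hm⟩, hg₃U⟩ :=
        (isIrreducible_Z G).2 _ _ hO U.isOpen ⟨g, hg, hgO⟩ ⟨GrpIrr.e G, unit_mem_Z G, heU⟩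
      have hg₂Z : g₂ ∈ Z G := mul_mem_Z G (inv_mem_Z G hg) hg₃Z hm.rot_left
      exact ⟨g₃, ⟨hg₃Z, hg₃U⟩, ι[G].left g₂, ⟨inv_mem_Z G hg₂Z, hg₂⟩, hm.rot_right⟩
    · rintro g ⟨g₁, ⟨h1, -⟩, g₂, ⟨h2, -⟩, hm⟩
      exact mul_mem_Z G h1 h2 hm
  have haff : IsAffine V.toScheme := hV
  have hc : CompactSpace (W ⊗ W).left :=
    inferInstanceAs (CompactSpace ↥(Limits.pullback (V.ι ≫ (GrpIrr.sub G Zc).hom)
      (V.ι ≫ (GrpIrr.sub G Zc).hom)))
  rw [hcover]
  exact isCompact_range (Scheme.Hom.continuous _)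

end Groth.Agent.Lib.helper3.GrpConn
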