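import Mathlib
import Groth.Agent.S0346
import Groth.Agent.Lib.Helper3.GrpConn1

/-!
The identity component of a group scheme over an algebraically closed field is irreducible
(helper3): the union `Z · U` of all irreducible components meeting a quasi-compact open `U` is
open and closed (compactness of the constructible topology), hence the connected component of the
unit point is the irreducible component `Z` through it.
-/

set_option autoImplicit false
universe u

namespace Groth.Agent.Lib.helper3.GrpConn

open CategoryTheory Limits AlgebraicGeometry MonoidalCategory CartesianMonoidalCategory MonObj GrpObj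
open Topology Groth.Agent.Lib.helper28.GrpPts

/-- Cantor intersection for compact opens of a spectral space: a directed family of nonempty
compact open subsets has nonempty intersection -/
theorem nonempty_iInter_of_directed_isCompact_isOpen {Y : Type*} [TopologicalSpace Y]
    [CompactSpace Y] [QuasiSober Y] [PrespectralSpace Y] [QuasiSeparatedSpace Y]
    {J : Type*} [Nonempty J] (F : J → Set Y) (hd : Directed (· ⊇ ·) F)
    (hn : ∀ i, (F i).Nonempty) (hc : ∀ i, IsCompact (F i)) (ho : ∀ i, IsOpen (F i)) :
    (⋂ i, F i).Nonempty := by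
  let t : J → Set (WithConstructibleTopology Y) := fun i => WithTopology.ofTopology ⁻¹' F i
  have htcl : ∀ i, IsClosed (t i) := by
    intro i
    rw [WithTopology.isClosed_iff]
    have h1 : IsOpen[constructibleTopology Y] (F i)ᶜ :=
      IsCompact.isOpen_constructibleTopology_of_isClosed (by rw [compl_compl]; exact hc i)
        (ho i).isClosed_compl
    exact @IsClosed.mk _ (constructibleTopology Y) _ h1
  have htd : Directed (· ⊇ ·) t := by
    intro i j
    obtain ⟨k, h1, h2⟩ := hd i j
    exact ⟨k, Set.preimage_mono h1, Set.preimage_mono h2⟩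
  have htn : ∀ i, (t i).Nonempty := by
    intro i
    obtain ⟨y, hy⟩ := hn i
    exact ⟨WithTopology.toTopology _ y, hy⟩
  obtain ⟨y, hy⟩ := IsCompact.nonempty_iInter_of_directed_nonempty_isCompact_isClosed t htd htn
    (fun i => (htcl i).isCompact) htcl
  refine ⟨WithTopology.ofTopology y, ?_⟩
  rw [Set.mem_iInter] at hy ⊢
  exact hy

variable {K : Type u} [Field K] (G : Over (Spec (CommRingCat.of K))) [GrpObj G]

/-- a group scheme over a field is quasi-separated -/
theorem quasiSeparatedSpace : QuasiSeparatedSpace G.left := by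
  have h1 : IsSeparated G.hom := (Groth.Agent.S0346.result _ G).1.mpr inferInstance
  exact quasiSeparatedSpace_of_quasiSeparated G.hom

/-- points of an irreducible component have that component as their irreducible component -/
theorem comp_eq_of_mem {u w : G.left} (h : u ∈ irreducibleComponent w) :
    irreducibleComponent u = irreducibleComponent w :=
  GrpIrrPt.eq_of_mem_inter G (irreducibleComponent_mem_irreducibleComponents u)
    (irreducibleComponent_mem_irreducibleComponents w) u mem_irreducibleComponent h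

variable [IsAlgClosed K]

/-- `Z · U` is the union of the irreducible components meeting `U` -/
theorem mem_mulSet_Z_iff (U : Set G.left) (w : G.left) :
    w ∈ mulSet G (Z G) U ↔ ∃ u ∈ U, u ∈ irreducibleComponent w := by
  constructor
  · rintro ⟨z, hz, u, hu, hm⟩
    have hw : w ∈ irreducibleComponent u :=
      mul_mem_of_mem_Z G (irreducibleComponent_mem_irreducibleComponents u) hz
        mem_irreducibleComponent hm
    refine ⟨u, hu, ?_⟩
    rw [comp_eq_of_mem G hw]
    exact mem_irreducibleComponent
  · rintro ⟨u, hu, huw⟩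
    obtain ⟨z, hz, hm⟩ := exists_mem_Z_mul3 G (irreducibleComponent_mem_irreducibleComponents w)
      huw mem_irreducibleComponent
    exact ⟨z, hz, u, hu, hm⟩

theorem subset_mulSet_Z (U : Set G.left) : U ⊆ mulSet G (Z G) U := fun u hu =>
  (mem_mulSet_Z_iff G U u).mpr ⟨u, hu, mem_irreducibleComponent⟩

/-- `Z · U` is quasi-compact for quasi-compact open `U` -/
theorem isCompact_mulSet_Z (U : G.left.Opens) (hU : IsCompact (U : Set G.left)) :
    IsCompact (mulSet G (Z G) U) := by
  let Zc : TopologicalSpace.Closeds G.left := ⟨Z G, isClosed_Z G⟩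
  let W : Over (Spec (CommRingCat.of K)) := Over.mk (U.ι ≫ G.hom)
  let w : W ⟶ G := Over.homMk U.ι rfl
  have h := range_tensorHom_mul (G := G) (GrpIrr.incl G Zc) w
  have h2 : Set.range w.left = U := Scheme.Opens.range_ι U
  rw [GrpIrr.range_incl, h2] at h
  have heq : mulSet G (Z G) U = Set.range ⇑((GrpIrr.incl G Zc ⊗ₘ w) ≫ μ[G]).left := by
    rw [h]; rfl
  have hcZ : CompactSpace (GrpIrr.sub G Zc).left := by
    have hemb : Topology.IsClosedEmbedding (GrpIrr.incl G Zc).left :=
      Scheme.Hom.isClosedEmbedding (Scheme.IdealSheafData.vanishingIdeal Zc).subschemeι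
    rw [← isCompact_univ_iff, hemb.isCompact_iff, Set.image_univ, GrpIrr.range_incl]
    exact isCompact_Z G
  have hcU : CompactSpace U.toScheme := isCompact_iff_compactSpace.mp hU
  have hqc : QuasiCompact (GrpIrr.sub G Zc).hom :=
    (HasAffineProperty.iff_of_isAffine (P := @QuasiCompact)).mpr hcZ
  have hc : CompactSpace (GrpIrr.sub G Zc ⊗ W).left :=
    inferInstanceAs (CompactSpace ↥(Limits.pullback (GrpIrr.sub G Zc).hom (U.ι ≫ G.hom)))
  rw [heq]
  exact isCompact_range (Scheme.Hom.continuous _)

/-- `Z · U` is closed for quasi-compact open `U` -/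
theorem isClosed_mulSet_Z (U : G.left.Opens) (hU : IsCompact (U : Set G.left)) :
    IsClosed (mulSet G (Z G) U) := by
  have hqs := quasiSeparatedSpace G
  rw [← closure_subset_iff_isClosed]
  intro y hy
  rw [mem_mulSet_Z_iff]
  -- the spectral space `U`
  have hcU : CompactSpace U.toScheme := isCompact_iff_compactSpace.mp hU
  have hqsU : QuasiSeparatedSpace U.toScheme :=
    QuasiSeparatedSpace.of_isOpenEmbedding U.ι.isOpenEmbedding
  -- the quasi-compact open neighbourhoods of `y`
  let I := {V : G.left.Opens // IsCompact (V : Set G.left) ∧ y ∈ V}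
  have hbasis : ∀ o : Set G.left, IsOpen o → y ∈ o → ∃ V : I, (V.1 : Set G.left) ⊆ o := by
    intro o ho hyo
    obtain ⟨V', ⟨V, hV, rfl⟩, hyV, hVo⟩ :=
      (G.left.isBasis_affineOpens).exists_subset_of_mem_open hyo ho
    exact ⟨⟨V, hV.isCompact, hyV⟩, hVo⟩
  have hI : Nonempty I := by
    obtain ⟨V, -⟩ := hbasis Set.univ isOpen_univ (Set.mem_univ y)
    exact ⟨V⟩
  let F : I → Set U.toScheme := fun V => U.ι ⁻¹' mulSet G (Z G) V.1
  have hFo : ∀ V, IsOpen (F V) := fun V =>
    (isOpen_mulSet G (Z G) V.1).preimage U.ι.continuous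
  have hFc : ∀ V, IsCompact (F V) := by
    intro V
    have h1 : IsCompact (mulSet G (Z G) V.1 ∩ U) :=
      (isCompact_mulSet_Z G V.1 V.2.1).inter_of_isOpen hU (isOpen_mulSet G (Z G) V.1) U.isOpen
    rw [U.ι.isOpenEmbedding.isEmbedding.isCompact_iff, Set.image_preimage_eq_inter_range,
      Scheme.Opens.range_ι]
    exact h1
  have hFn : ∀ V, (F V).Nonempty := by
    intro V
    have hyV : y ∈ mulSet G (Z G) V.1 := subset_mulSet_Z G _ V.2.2
    obtain ⟨w, hw1, hw2⟩ := mem_closure_iff.mp hy _ (isOpen_mulSet G (Z G) V.1) hyV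
    obtain ⟨v, hv, hvw⟩ := (mem_mulSet_Z_iff G _ w).mp hw1
    obtain ⟨u, hu, huw⟩ := (mem_mulSet_Z_iff G _ w).mp hw2
    refine ⟨⟨u, hu⟩, ?_⟩
    show u ∈ mulSet G (Z G) V.1
    rw [mem_mulSet_Z_iff]
    refine ⟨v, hv, ?_⟩
    rw [comp_eq_of_mem G huw]
    exact hvw
  have hFd : Directed (· ⊇ ·) F := by
    intro V₁ V₂
    obtain ⟨V₃, hV₃⟩ := hbasis (V₁.1 ⊓ V₂.1 : G.left.Opens) (V₁.1 ⊓ V₂.1).isOpen
      ⟨V₁.2.2, V₂.2.2⟩
    have hmono : ∀ {A B : Set G.left}, A ⊆ B → mulSet G (Z G) A ⊆ mulSet G (Z G) B := by
      rintro A B hAB g ⟨z, hz, a, ha, hm⟩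
      exact ⟨z, hz, a, hAB ha, hm⟩
    exact ⟨V₃, Set.preimage_mono (hmono (hV₃.trans Set.inter_subset_left)),
      Set.preimage_mono (hmono (hV₃.trans Set.inter_subset_right))⟩
  obtain ⟨u, hu⟩ := nonempty_iInter_of_directed_isCompact_isOpen F hFd hFn hFc hFo
  rw [Set.mem_iInter] at hu
  -- `y` lies in the closure of the component of `u`
  have hyu : y ∈ irreducibleComponent (U.ι u) := by
    rw [← isClosed_irreducibleComponent.closure_eq, mem_closure_iff]
    intro o ho hyo
    obtain ⟨V, hVo⟩ := hbasis o ho hyo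
    have h1 : U.ι u ∈ mulSet G (Z G) V.1 := hu V
    obtain ⟨v, hv, hvu⟩ := (mem_mulSet_Z_iff G _ _).mp h1
    exact ⟨v, hVo hv, hvu⟩
  refine ⟨U.ι u, u.2, ?_⟩
  rw [comp_eq_of_mem G hyu]
  exact mem_irreducibleComponent

/-- over an algebraically closed field, the connected component of the unit point is the
irreducible component through it -/
theorem connectedComponent_unit_eq : connectedComponent (GrpIrr.e G) = Z G := by
  apply Set.Subset.antisymm
  · intro x hx
    by_contra hxZ
    have heT : GrpIrr.e G ∉ irreducibleComponent x := by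
      intro he
      have := comp_eq_of_mem G he
      apply hxZ
      show x ∈ irreducibleComponent (GrpIrr.e G)
      rw [this]
      exact mem_irreducibleComponent
    obtain ⟨U', ⟨U, hU, rfl⟩, heU, hUT⟩ :=
      (G.left.isBasis_affineOpens).exists_subset_of_mem_open heT
        isClosed_irreducibleComponent.isOpen_compl
    have hS : IsClopen (mulSet G (Z G) U) :=
      ⟨isClosed_mulSet_Z G U hU.isCompact, isOpen_mulSet G (Z G) U⟩
    have heS : GrpIrr.e G ∈ mulSet G (Z G) U := subset_mulSet_Z G _ heU
    have hxS : x ∈ mulSet G (Z G) U := hS.connectedComponent_subset heS hx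
    obtain ⟨u, hu, hux⟩ := (mem_mulSet_Z_iff G _ x).mp hxS
    exact hUT hu hux
  · exact (isIrreducible_Z G).isConnected.subset_connectedComponent (unit_mem_Z G)

end Groth.Agent.Lib.helper3.GrpConn
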