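import Mathlib
import Groth.Agent.Lib.Helper3.GrpConn2
import Groth.Agent.Lib.Helper3.GrpIrrBC
import Groth.Agent.Lib.Helper3.ConnPreimage

/-!
The identity component of a group scheme over an arbitrary field is irreducible and quasi-compact
(helper3): descent from the algebraic closure.
-/

set_option autoImplicit false
universe u

namespace Groth.Agent.Lib.helper3.GrpConn

open CategoryTheory Limits AlgebraicGeometry MonoidalCategory CartesianMonoidalCategory MonObj GrpObj
open Topology Groth.Agent.Lib.helper28.GrpPts

variable {K : Type u} [Field K] (G : Over (Spec (CommRingCat.of K))) [GrpObj G]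

/-- over any field, the connected component of the unit point is the irreducible component
through it -/
theorem connectedComponent_unit_eq_irreducibleComponent :
    connectedComponent (GrpIrr.e G) = irreducibleComponent (GrpIrr.e G) := by
  let Ω := AlgebraicClosure K
  have hpre : GrpIrrBC.pr G Ω ⁻¹' irreducibleComponent (GrpIrr.e G) =
      irreducibleComponent (GrpIrr.e (GrpIrrBC.bcG G Ω)) :=
    GrpIrrBC.preimage_eq G Ω (irreducibleComponent_mem_irreducibleComponents _)
      mem_irreducibleComponent
  have hcc : connectedComponent (GrpIrr.e (GrpIrrBC.bcG G Ω)) =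
      irreducibleComponent (GrpIrr.e (GrpIrrBC.bcG G Ω)) :=
    connectedComponent_unit_eq (GrpIrrBC.bcG G Ω)
  have hemem : GrpIrrBC.pr G Ω (GrpIrr.e (GrpIrrBC.bcG G Ω)) ∈
      connectedComponent (GrpIrr.e G) := by
    rw [GrpIrrBC.pr_unit]; exact mem_connectedComponent
  apply Set.Subset.antisymm
  · have hC : _root_.IsConnected (connectedComponent (GrpIrr.e G)) :=
      isConnected_connectedComponent
    have hconn : _root_.IsConnected (GrpIrrBC.pr G Ω ⁻¹' connectedComponent (GrpIrr.e G)) :=
      ConnPreimage.isConnected_preimage_of_isAlgebraic G.hom Ω hC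
        (S := {GrpIrr.e (GrpIrrBC.bcG G Ω)}) isPreconnected_singleton
        (by rintro _ rfl; exact hemem)
        (x := GrpIrr.e G) mem_connectedComponent
        (fun y hy => GrpIrrBC.eq_unit_of_pr_eq G Ω y hy)
    have hsub : GrpIrrBC.pr G Ω ⁻¹' connectedComponent (GrpIrr.e G) ⊆
        connectedComponent (GrpIrr.e (GrpIrrBC.bcG G Ω)) :=
      hconn.subset_connectedComponent hemem
    intro x hx
    obtain ⟨y, rfl⟩ := GeomConnPt.surjective_fst_specMap G.hom Ω x
    have : y ∈ GrpIrrBC.pr G Ω ⁻¹' irreducibleComponent (GrpIrr.e G) := by
      rw [hpre, ← hcc]; exact hsub hx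
    exact this
  · exact isIrreducible_irreducibleComponent.isConnected.subset_connectedComponent
      mem_irreducibleComponent

/-- the identity component is irreducible -/
theorem isIrreducible_connectedComponent_unit :
    IsIrreducible (connectedComponent (GrpIrr.e G)) := by
  rw [connectedComponent_unit_eq_irreducibleComponent]
  exact isIrreducible_irreducibleComponent

/-- the identity component is quasi-compact -/
theorem isCompact_connectedComponent_unit :
    IsCompact (connectedComponent (GrpIrr.e G)) := by
  rw [connectedComponent_unit_eq_irreducibleComponent]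
  let Ω := AlgebraicClosure K
  have hpre : GrpIrrBC.pr G Ω ⁻¹' irreducibleComponent (GrpIrr.e G) =
      irreducibleComponent (GrpIrr.e (GrpIrrBC.bcG G Ω)) :=
    GrpIrrBC.preimage_eq G Ω (irreducibleComponent_mem_irreducibleComponents _)
      mem_irreducibleComponent
  have himg : irreducibleComponent (GrpIrr.e G) =
      GrpIrrBC.pr G Ω '' (irreducibleComponent (GrpIrr.e (GrpIrrBC.bcG G Ω))) := by
    rw [← hpre, Set.image_preimage_eq _ (GeomConnPt.surjective_fst_specMap G.hom Ω)]
  rw [himg]
  exact (isCompact_Z (GrpIrrBC.bcG G Ω)).image (Scheme.Hom.continuous _)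

end Groth.Agent.Lib.helper3.GrpConn
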