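import Groth.Agent.Lib.Helper3.GeomIrr2

/-!
Fields in which the base field is separably closed are geometrically irreducible (helper3).
-/

set_option autoImplicit false
universe u

namespace Groth.Agent.Lib.helper3.SepClosedIn

open TensorProduct Polynomial

/-- a monic factor of a separable polynomial over `k` has coefficients separable over `k` -/
theorem mem_lifts_separableClosure {k F : Type*} [Field k] [Field F] [Algebra k F] {f : k[X]}
    (hf : f.Separable) {g : F[X]} (hg : g.Monic) (hd : g ∣ f.map (algebraMap k F)) :
    g ∈ lifts (algebraMap (separableClosure k F) F) := by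
  have key := (SplittingField.splits g).mem_lift_of_roots_mem_range (hg.map _)
    (algebraMap (separableClosure k g.SplittingField) g.SplittingField) (fun a ha => by
      have hroot : aeval a f = 0 := by
        have h1 : (g.map (algebraMap F g.SplittingField)) ∣
            (f.map (algebraMap k F)).map (algebraMap F g.SplittingField) :=
          Polynomial.map_dvd _ hd
        rw [Polynomial.map_map, ← IsScalarTower.algebraMap_eq] at h1
        have h2 : (g.map (algebraMap F g.SplittingField)).eval a = 0 :=
          (mem_roots (hg.map _).ne_zero).mp ha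
        have h3 := eval_eq_zero_of_dvd_of_eval_eq_zero h1 h2
        rwa [eval_map_algebraMap] at h3
      have hsep : IsSeparable k a := hf.of_dvd (minpoly.dvd k a hroot)
      exact ⟨⟨a, mem_separableClosure_iff.mpr hsep⟩, rfl⟩)
  refine (lifts_iff_coeff_lifts _).2 fun n => ?_
  rw [lifts_iff_coeff_lifts] at key
  obtain ⟨c, hc⟩ := key n
  have hsep : IsSeparable k (algebraMap F g.SplittingField (g.coeff n)) := by
    rw [← coeff_map, ← hc]
    exact mem_separableClosure_iff.mp c.2
  exact ⟨⟨g.coeff n, mem_separableClosure_iff.mpr hsep.tower_bot⟩, rfl⟩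

/-- a monic irreducible separable polynomial stays irreducible over an extension in which `k` is
separably closed -/
theorem irreducible_map_of_separableClosure_eq_bot {k F : Type*} [Field k] [Field F] [Algebra k F]
    (h : separableClosure k F = ⊥) {f : k[X]} (hf : f.Separable) (hm : f.Monic)
    (hirr : Irreducible f) : Irreducible (f.map (algebraMap k F)) := by
  have hlift : ∀ g : F[X], g.Monic → g ∣ f.map (algebraMap k F) →
      ∃ q : k[X], q.map (algebraMap k F) = g ∧ q.Monic := by
    intro g hg hd
    have h1 := mem_lifts_separableClosure hf hg hd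
    have h2 : g ∈ lifts (algebraMap k F) := by
      refine (lifts_iff_coeff_lifts _).2 fun n => ?_
      obtain ⟨c, hc⟩ := (lifts_iff_coeff_lifts _).1 h1 n
      have hc' : (c : F) ∈ (⊥ : IntermediateField k F) := h ▸ c.2
      rw [IntermediateField.mem_bot] at hc'
      obtain ⟨x, hx⟩ := hc'
      exact ⟨x, by rw [hx]; exact hc⟩
    obtain ⟨q, hq1, -, hq3⟩ := lifts_and_natDegree_eq_and_monic h2 hg
    exact ⟨q, hq1, hq3⟩
  have hne1 : f.map (algebraMap k F) ≠ 1 := by
    intro h1
    have : f = 1 := by
      apply Polynomial.map_injective _ (algebraMap k F).injective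
      rw [h1, Polynomial.map_one]
    exact hirr.not_isUnit (this ▸ isUnit_one)
  rw [irreducible_of_monic (hm.map _) hne1]
  intro g₁ g₂ hg₁ hg₂ hprod
  obtain ⟨q₁, hq₁, hq₁m⟩ := hlift g₁ hg₁ ⟨g₂, hprod.symm⟩
  obtain ⟨q₂, hq₂, hq₂m⟩ := hlift g₂ hg₂ ⟨g₁, by rw [← hprod, mul_comm]⟩
  have hq : q₁ * q₂ = f := by
    apply Polynomial.map_injective _ (algebraMap k F).injective
    rw [Polynomial.map_mul, hq₁, hq₂, hprod]
  rcases hirr.isUnit_or_isUnit hq.symm with hu | hu
  · left
    rw [← hq₁, hq₁m.isUnit_iff.mp hu, Polynomial.map_one]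
  · right
    rw [← hq₂, hq₂m.isUnit_iff.mp hu, Polynomial.map_one]

/-- `k' ⊗[k] F` is a domain for `k'/k` finite separable, when `k` is separably closed in `F` -/
theorem isDomain_tensor_of_finite_separable {k F : Type u} [Field k] [Field F] [Algebra k F]
    (h : separableClosure k F = ⊥) (k' : Type u) [Field k'] [Algebra k k'] [Module.Finite k k']
    [Algebra.IsSeparable k k'] : IsDomain (k' ⊗[k] F) := by
  obtain ⟨α, hα⟩ := Field.exists_primitive_element k k'
  have hint : IsIntegral k α := Algebra.IsIntegral.isIntegral α
  have hirr : Irreducible ((minpoly k α).map (algebraMap k F)) :=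
    irreducible_map_of_separableClosure_eq_bot h (Algebra.IsSeparable.isSeparable k α)
      (minpoly.monic hint) (minpoly.irreducible hint)
  have hfact : Fact (Irreducible ((minpoly k α).map (algebraMap k F))) := ⟨hirr⟩
  let ιF : F →+* k' ⊗[k] F :=
    (Algebra.TensorProduct.includeRight : F →ₐ[k] k' ⊗[k] F).toRingHom
  have hcomp : ιF.comp (algebraMap k F) = algebraMap k (k' ⊗[k] F) := by
    ext x
    simp [ιF, Algebra.algebraMap_eq_smul_one]
  have haeval : ∀ p : k[X], eval₂ ιF (α ⊗ₜ[k] (1 : F)) (p.map (algebraMap k F)) =
      (aeval α p) ⊗ₜ[k] (1 : F) := by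
    intro p
    rw [eval₂_map, hcomp, ← aeval_def]
    have := aeval_algHom_apply (Algebra.TensorProduct.includeLeft : k' →ₐ[k] k' ⊗[k] F) α p
    simpa using this
  let ψ : AdjoinRoot ((minpoly k α).map (algebraMap k F)) →+* k' ⊗[k] F :=
    AdjoinRoot.lift ιF (α ⊗ₜ[k] (1 : F)) (by rw [haeval, minpoly.aeval, TensorProduct.zero_tmul])
  have hsurj : Function.Surjective ψ := by
    intro z
    induction z using TensorProduct.induction_on with
    | zero => exact ⟨0, map_zero ψ⟩
    | add x y hx hy =>
      obtain ⟨a, rfl⟩ := hx
      obtain ⟨b, rfl⟩ := hy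
      exact ⟨a + b, map_add ψ a b⟩
    | tmul y c =>
      have hy : y ∈ Algebra.adjoin k {α} := by
        rw [← IntermediateField.adjoin_simple_toSubalgebra_of_isAlgebraic hint.isAlgebraic, hα]
        trivial
      rw [Algebra.adjoin_singleton_eq_range_aeval] at hy
      obtain ⟨p, rfl⟩ := hy
      refine ⟨AdjoinRoot.mk _ (p.map (algebraMap k F)) * AdjoinRoot.of _ c, ?_⟩
      rw [map_mul, AdjoinRoot.lift_mk, AdjoinRoot.lift_of, haeval]
      simp [ιF]
  have hinj : Function.Injective ψ := RingHom.injective ψ
  let e := RingEquiv.ofBijective ψ ⟨hinj, hsurj⟩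
  exact e.symm.injective.isDomain e.symm.toRingHom

/-- if `k` is separably closed in the field `F`, then `F` is geometrically irreducible over `k` -/
theorem geomIrr_of_separableClosure_eq_bot {k F : Type u} [Field k] [Field F] [Algebra k F]
    (h : separableClosure k F = ⊥) (k' : Type u) [Field k'] [Algebra k k'] :
    IrreducibleSpace (PrimeSpectrum (k' ⊗[k] F)) := by
  apply GeomIrr.geomIrr_of_algebraicClosure
  apply GeomIrr.irr_algebraicClosure_of_separableClosure
  apply GeomIrr.irr_separableClosure_of_finite_separable
  intro k'' _ _ _ _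
  have := isDomain_tensor_of_finite_separable h k''
  infer_instance

open AlgebraicGeometry CategoryTheory in
/-- scheme version -/
theorem geometricallyIrreducible_specMap_of_separableClosure_eq_bot {k F : Type u} [Field k]
    [Field F] [Algebra k F] (h : separableClosure k F = ⊥) :
    GeometricallyIrreducible (Spec.map (CommRingCat.ofHom (algebraMap k F))) := by
  rw [GeomIrr.geomIrr_specMap_iff]
  exact fun k' _ _ => geomIrr_of_separableClosure_eq_bot h k'

end Groth.Agent.Lib.helper3.SepClosedIn
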