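import Mathlib
import Groth.Agent.Lib.Helper3.GrobFree3

/-!
# Generic flatness over a reduced base, scheme form (helper3)
-/

set_option autoImplicit false
set_option linter.style.haveILetI false
universe u
open AlgebraicGeometry CategoryTheory TopologicalSpace

namespace Groth.Agent.Lib.helper3.GrobFree

variable {X S : Scheme.{u}} (f : X ⟶ S)

theorem flat_fp_appLE_basicOpen {W : S.Opens} (hW : IsAffineOpen W) {V : X.Opens}
    (hV : IsAffineOpen V) (e : V ≤ f ⁻¹ᵁ W) (a : Γ(S, W))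
    (hgood : @GoodAt Γ(S, W) _ a Γ(X, V) _ (f.appLE W V e).hom.toAlgebra)
    (e' : X.basicOpen ((f.appLE W V e).hom a) ≤ f ⁻¹ᵁ S.basicOpen a) :
    (f.appLE (S.basicOpen a) (X.basicOpen ((f.appLE W V e).hom a)) e').hom.Flat ∧
    (f.appLE (S.basicOpen a) (X.basicOpen ((f.appLE W V e).hom a)) e').hom.FinitePresentation := by
  letI algRS : Algebra Γ(S, W) Γ(X, V) := (f.appLE W V e).hom.toAlgebra
  set a' : Γ(X, V) := (f.appLE W V e).hom a with ha'
  set φ := f.appLE (S.basicOpen a) (X.basicOpen a') e' with hφ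
  letI alg1 : Algebra Γ(S, S.basicOpen a) Γ(X, X.basicOpen a') := φ.hom.toAlgebra
  letI alg2 : Algebra Γ(S, W) Γ(X, X.basicOpen a') :=
    (f.appLE W (X.basicOpen a') ((X.basicOpen_le a').trans e)).hom.toAlgebra
  haveI : IsScalarTower Γ(S, W) Γ(X, V) Γ(X, X.basicOpen a') :=
    IsScalarTower.of_algebraMap_eq' (by
      simp only [RingHom.algebraMap_toAlgebra]
      rw [← CommRingCat.hom_comp, Scheme.Hom.appLE_map])
  haveI : IsScalarTower Γ(S, W) Γ(S, S.basicOpen a) Γ(X, X.basicOpen a') :=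
    IsScalarTower.of_algebraMap_eq' (by
      simp only [RingHom.algebraMap_toAlgebra]
      rw [← CommRingCat.hom_comp, Scheme.Hom.map_appLE])
  haveI := hW.isLocalization_basicOpen a
  haveI : IsLocalization.Away (algebraMap Γ(S, W) Γ(X, V) a) Γ(X, X.basicOpen a') :=
    hV.isLocalization_basicOpen a'
  obtain ⟨hfree, hfp⟩ := hgood.free_fp Γ(S, S.basicOpen a) Γ(X, X.basicOpen a')
  exact ⟨(inferInstance : Module.Flat Γ(S, S.basicOpen a) Γ(X, X.basicOpen a')), hfp⟩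


/-- Generic flatness, local form: every nonempty open of a reduced base contains a nonempty open
over which a quasi-compact morphism locally of finite type is flat and locally of finite
presentation. -/
theorem exists_open_flat_lfp [IsReduced S] [LocallyOfFiniteType f] [QuasiCompact f]
    {W₀ : S.Opens} (hne : (W₀ : Set S).Nonempty) :
    ∃ U' : S.Opens, U' ≤ W₀ ∧ (U' : Set S).Nonempty ∧ Flat (f ∣_ U') ∧
      LocallyOfFinitePresentation (f ∣_ U') := by
  obtain ⟨x, hx⟩ := hne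
  obtain ⟨_, ⟨W, hW : IsAffineOpen W, rfl⟩, hxW, hWW₀⟩ :=
    S.isBasis_affineOpens.exists_subset_of_mem_open hx W₀.isOpen
  have hcpt : IsCompact (f ⁻¹ᵁ W : Set X) := f.isCompact_preimage hW.isCompact
  obtain ⟨s, hsfin, hs⟩ := (isCompact_iff_finite_and_eq_biUnion_affineOpens).mp hcpt
  have hle : ∀ i : s, (i.1 : X.Opens) ≤ f ⁻¹ᵁ W := fun i => by
    rw [hs]; exact le_iSup₂_of_le i.1 i.2 le_rfl
  letI alg : ∀ i : s, Algebra Γ(S, W) Γ(X, i.1.1) := fun i =>
    (f.appLE W i.1.1 (hle i)).hom.toAlgebra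
  haveI : ∀ i : s, Algebra.FiniteType Γ(S, W) Γ(X, i.1.1) := fun i =>
    HasRingHomProperty.appLE (P := @LocallyOfFiniteType) f inferInstance ⟨W, hW⟩ i.1 (hle i)
  haveI : Finite s := hsfin.to_subtype
  haveI := Fintype.ofFinite s
  have hne' : (Set.univ : Set (PrimeSpectrum Γ(S, W))).Nonempty :=
    ⟨hW.primeIdealOf ⟨x, hxW⟩, trivial⟩
  obtain ⟨a, hanil, -, hgood⟩ :=
    exists_goodAt_family (fun i : s => Γ(X, i.1.1)) Finset.univ isOpen_univ hne'
  have ha0 : a ≠ 0 := fun h => hanil (h ▸ IsNilpotent.zero)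
  refine ⟨S.basicOpen a, (S.basicOpen_le a).trans hWW₀, ?_, ?_⟩
  · by_contra hcon
    apply ha0
    rw [← basicOpen_eq_bot_iff]
    ext y
    simp only [Opens.coe_bot, Set.mem_empty_iff_false, iff_false]
    exact fun hy => hcon ⟨y, hy⟩
  · have hU' : IsAffineOpen (S.basicOpen a) := hW.basicOpen a
    haveI : IsAffine (S.basicOpen a).toScheme := hU'
    let D : s → X.Opens := fun i => X.basicOpen ((f.appLE W i.1.1 (hle i)).hom a)
    have hD : ∀ i, IsAffineOpen (D i) := fun i => i.1.2.basicOpen _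
    have hDeq : ∀ i, D i = i.1.1 ⊓ f ⁻¹ᵁ (S.basicOpen a) := fun i => by
      simp only [D, Scheme.Hom.appLE, CommRingCat.hom_comp, RingHom.coe_comp, Function.comp_apply]
      rw [Scheme.basicOpen_res, Scheme.preimage_basicOpen]
    have hDle : ∀ i, D i ≤ f ⁻¹ᵁ (S.basicOpen a) := fun i => by
      rw [hDeq]; exact inf_le_right
    have himg : ∀ i, (f ⁻¹ᵁ S.basicOpen a).ι ''ᵁ ((f ⁻¹ᵁ S.basicOpen a).ι ⁻¹ᵁ D i) = D i :=
      fun i => by
        rw [Scheme.Hom.image_preimage_eq_opensRange_inf, Scheme.Opens.opensRange_ι]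
        exact inf_eq_right.mpr (hDle i)
    let 𝒱 : s → (f ⁻¹ᵁ S.basicOpen a).toScheme.affineOpens := fun i =>
      ⟨(f ⁻¹ᵁ S.basicOpen a).ι ⁻¹ᵁ D i, by
        show IsAffineOpen _
        rw [← Scheme.Hom.isAffineOpen_iff_of_isOpenImmersion (f ⁻¹ᵁ S.basicOpen a).ι, himg]
        exact hD i⟩
    have hsup : ⨆ i, ((𝒱 i : (f ⁻¹ᵁ S.basicOpen a).toScheme.affineOpens) :
        (f ⁻¹ᵁ S.basicOpen a).toScheme.Opens) = ⊤ := by
      rw [eq_top_iff]
      rintro ⟨y, hy⟩ -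
      have hyW : y ∈ f ⁻¹ᵁ W := (f.preimage_mono (S.basicOpen_le a)) hy
      rw [hs] at hyW
      simp only [Opens.mem_iSup] at hyW
      obtain ⟨i, hi, hyi⟩ := hyW
      simp only [Opens.mem_iSup]
      refine ⟨⟨i, hi⟩, ?_⟩
      show ((f ⁻¹ᵁ S.basicOpen a).ι ⟨y, hy⟩) ∈ D ⟨i, hi⟩
      rw [hDeq]
      exact ⟨hyi, hy⟩
    have key : ∀ i, (f.appLE (S.basicOpen a) (D i) (hDle i)).hom.Flat ∧
        (f.appLE (S.basicOpen a) (D i) (hDle i)).hom.FinitePresentation := fun i =>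
      flat_fp_appLE_basicOpen f hW i.1.2 (hle i) a (hgood i (Finset.mem_univ i)) (hDle i)
    have htop : (S.basicOpen a).ι ''ᵁ ⊤ = S.basicOpen a := by
      rw [Scheme.Hom.image_top_eq_opensRange, Scheme.Opens.opensRange_ι]
    constructor
    · rw [HasRingHomProperty.iff_of_iSup_eq_top (P := @Flat) 𝒱 hsup]
      intro i
      rw [morphismRestrict_appLE]
      exact (f.appLE_congr _ htop (himg i) (fun φ => φ.hom.Flat)).mpr (key i).1
    · rw [HasRingHomProperty.iff_of_iSup_eq_top (P := @LocallyOfFinitePresentation) 𝒱 hsup]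
      intro i
      rw [morphismRestrict_appLE]
      exact (f.appLE_congr _ htop (himg i) (fun φ => φ.hom.FinitePresentation)).mpr (key i).2


/-- Gluing a target-local property over a union of opens. -/
theorem restrict_sSup_of_forall {P : MorphismProperty Scheme.{u}} [IsZariskiLocalAtTarget P]
    (𝒰 : Set S.Opens) (h : ∀ U' ∈ 𝒰, P (f ∣_ U')) : P (f ∣_ sSup 𝒰) := by
  apply IsZariskiLocalAtTarget.of_forall_exists_morphismRestrict (P := P)
  rintro ⟨y, hy⟩
  have hy' : y ∈ sSup 𝒰 := hy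
  rw [Opens.mem_sSup] at hy'
  obtain ⟨U', hU', hyU'⟩ := hy'
  refine ⟨(sSup 𝒰).ι ⁻¹ᵁ U', hyU', ?_⟩
  have hle : U' ≤ sSup 𝒰 := le_sSup hU'
  have himg : (sSup 𝒰).ι ''ᵁ ((sSup 𝒰).ι ⁻¹ᵁ U') = U' := by
    rw [Scheme.Hom.image_preimage_eq_opensRange_inf, Scheme.Opens.opensRange_ι]
    exact inf_eq_right.mpr hle
  rw [P.arrow_mk_iso_iff (morphismRestrictRestrict f (sSup 𝒰) _),
    P.arrow_mk_iso_iff (morphismRestrictEq f himg)]
  exact h U' hU'

/-- **Generic flatness over a reduced base** (structure sheaf form). -/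
theorem exists_dense_open_flat_lfp [IsReduced S] [LocallyOfFiniteType f] [QuasiCompact f] :
    ∃ U : S.Opens, Dense (U : Set S) ∧ Flat (f ∣_ U) ∧ LocallyOfFinitePresentation (f ∣_ U) := by
  let 𝒰 : Set S.Opens := {U' | Flat (f ∣_ U') ∧ LocallyOfFinitePresentation (f ∣_ U')}
  refine ⟨sSup 𝒰, ?_, restrict_sSup_of_forall f 𝒰 (fun U' h => h.1),
    restrict_sSup_of_forall f 𝒰 (fun U' h => h.2)⟩
  rw [dense_iff_inter_open]
  intro W₀ hW₀ hne
  obtain ⟨U', hle, ⟨y, hy⟩, hfl, hfp⟩ := exists_open_flat_lfp f (W₀ := ⟨W₀, hW₀⟩) hne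
  exact ⟨y, hle hy, (Opens.mem_sSup).mpr ⟨U', ⟨hfl, hfp⟩, hy⟩⟩

end Groth.Agent.Lib.helper3.GrobFree
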