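import Groth.Agent.Lib.Helper3.GeomIrr2

/-!
Geometric connectedness over algebraically / separably closed fields (helper3).
-/

set_option autoImplicit false
universe u v w

namespace Groth.Agent.Lib.helper3.GeomConn

open TensorProduct AlgebraicGeometry CategoryTheory
open Groth.Agent.Lib.helper3.AlgClosedTensor

theorem eq_zero_of_idempotent_nilpotent {A : Type*} [CommRing A] {e : A} (he : IsIdempotentElem e)
    (hn : IsNilpotent e) : e = 0 := by
  obtain ⟨n, hn⟩ := hn
  rcases n with _ | n
  · rw [pow_zero] at hn
    rw [← mul_one e, hn, mul_zero]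
  · rwa [he.pow_succ_eq] at hn

/-- the spectrum is connected iff the ring is nontrivial with only trivial idempotents -/
theorem connectedSpace_iff_idempotent {A : Type*} [CommRing A] :
    ConnectedSpace (PrimeSpectrum A) ↔
      Nontrivial A ∧ ∀ e : A, IsIdempotentElem e → e = 0 ∨ e = 1 := by
  constructor
  · intro h
    have hA : Nontrivial A := (PrimeSpectrum.nonempty_iff_nontrivial).mp inferInstance
    refine ⟨hA, fun e he => ?_⟩
    have hcl : IsClopen (PrimeSpectrum.basicOpen e : Set (PrimeSpectrum A)) :=
      PrimeSpectrum.isClopen_iff.mpr ⟨e, he, rfl⟩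
    have key : ∀ e : A, IsIdempotentElem e →
        (PrimeSpectrum.basicOpen e : Set (PrimeSpectrum A)) = ∅ → e = 0 := by
      intro e he h0
      apply eq_zero_of_idempotent_nilpotent he
      rw [← PrimeSpectrum.basicOpen_eq_bot_iff]
      exact TopologicalSpace.Opens.ext h0
    rcases isClopen_iff.mp hcl with h0 | h1
    · exact Or.inl (key e he h0)
    · right
      have h2 : (PrimeSpectrum.basicOpen (1 - e) : Set (PrimeSpectrum A)) = ∅ := by
        ext p
        simp only [SetLike.mem_coe, PrimeSpectrum.mem_basicOpen, Set.mem_empty_iff_false, iff_false,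
          not_not]
        have hp : p ∈ (PrimeSpectrum.basicOpen e : Set (PrimeSpectrum A)) := by rw [h1]; trivial
        have hp' : e ∉ p.asIdeal := hp
        have hmul : e * (1 - e) ∈ p.asIdeal := by
          rw [mul_sub, mul_one, he.eq, sub_self]; exact zero_mem _
        exact (p.2.mem_or_mem hmul).resolve_left hp'
      have := key (1 - e) he.one_sub h2
      rw [sub_eq_zero] at this
      exact this.symm
  · rintro ⟨hA, hid⟩
    have hpre : PreconnectedSpace (PrimeSpectrum A) := by
      rw [preconnectedSpace_iff_clopen]
      intro s hs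
      obtain ⟨e, he, rfl⟩ := PrimeSpectrum.isClopen_iff.mp hs
      rcases hid e he with h | h
      · left; rw [h, PrimeSpectrum.basicOpen_zero]; rfl
      · right; rw [h, PrimeSpectrum.basicOpen_one]; rfl
    exact { toPreconnectedSpace := hpre, toNonempty := inferInstance }

/-- over an algebraically closed field, tensoring with a field creates no new idempotents -/
theorem idempotent_tensor_trivial (k : Type u) [Field k] [IsAlgClosed k] (K : Type v) (A : Type w)
    [Field K] [CommRing A] [Algebra k K] [Algebra k A]
    (hA : ∀ e : A, IsIdempotentElem e → e = 0 ∨ e = 1) (x : K ⊗[k] A) (hx : IsIdempotentElem x) :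
    x = 0 ∨ x = 1 := by
  classical
  let b := Module.Basis.ofVectorSpace k A
  let bK := Algebra.TensorProduct.basis K b
  let T : Finset K := (bK.repr x).support.image (bK.repr x)
  let B : Subalgebra k K := Algebra.adjoin k (T : Set K)
  have hBfg : B.FG := Subalgebra.fg_adjoin_finset T
  have hBft : Algebra.FiniteType k B := (Subalgebra.fg_iff_finiteType B).mp hBfg
  have hxB : ∀ i, bK.repr x i ∈ B := fun i => by
    by_cases h : bK.repr x i = 0
    · rw [h]; exact B.zero_mem
    · exact Algebra.subset_adjoin (Finset.mem_coe.mpr
        (Finset.mem_image_of_mem _ (Finsupp.mem_support_iff.mpr h)))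
  let c : Module.Basis.ofVectorSpaceIndex k A → B := fun i => ⟨bK.repr x i, hxB i⟩
  let x' : B ⊗[k] A := ∑ i ∈ (bK.repr x).support, c i ⊗ₜ[k] b i
  let ψ : B ⊗[k] A →ₐ[k] K ⊗[k] A := Algebra.TensorProduct.map B.val (AlgHom.id k A)
  have hψx : ψ x' = x := by
    simp only [x', ψ, c, map_sum, Algebra.TensorProduct.map_tmul, Subalgebra.coe_val, AlgHom.coe_id,
      id_eq]
    conv_rhs => rw [← bK.linearCombination_repr x]
    rw [Finsupp.linearCombination_apply, Finsupp.sum]
    refine Finset.sum_congr rfl fun i _ => ?_
    rw [Algebra.TensorProduct.basis_repr_symm_apply']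
  have hψinj : Function.Injective ψ := by
    have h := Module.Flat.rTensor_preserves_injective_linearMap (M := A) B.val.toLinearMap
      Subtype.val_injective
    exact h
  have hx' : IsIdempotentElem x' := by
    apply hψinj
    rw [map_mul, hψx, hx.eq]
  let u : Module.Basis.ofVectorSpaceIndex k A → k := fun j => b.repr 1 j
  have hθ : ∀ φ : B →ₐ[k] k, (∀ i, φ (c i) = 0) ∨ (∀ j, φ (c j) = u j) := by
    intro φ
    let θ : B ⊗[k] A →ₐ[k] A :=
      Algebra.TensorProduct.lift ((Algebra.ofId k A).comp φ) (AlgHom.id k A)
        (fun _ _ => Commute.all _ _)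
    have hθx : θ x' = ∑ i ∈ (bK.repr x).support, φ (c i) • b i := by
      simp only [x', map_sum]
      refine Finset.sum_congr rfl fun i _ => ?_
      simp only [θ, Algebra.TensorProduct.lift_tmul, AlgHom.comp_apply, AlgHom.coe_id, id_eq,
        Algebra.ofId_apply, Algebra.smul_def]
    have hcoord : ∀ j, b.repr (θ x') j = φ (c j) := by
      intro j
      rw [hθx, map_sum, Finset.sum_apply']
      by_cases hj : j ∈ (bK.repr x).support
      · rw [Finset.sum_eq_single j]
        · simp
        · intro i _ hij
          simp [hij]
        · intro h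
          exact absurd hj h
      · have h0 : bK.repr x j = 0 := Finsupp.notMem_support_iff.mp hj
        have hcj : c j = 0 := Subtype.ext h0
        rw [hcj, map_zero]
        refine Finset.sum_eq_zero fun i hi => ?_
        have hij : i ≠ j := fun h => hj (h ▸ hi)
        simp [hij]
    have hid : IsIdempotentElem (θ x') := hx'.map θ
    rcases hA _ hid with h0 | h1
    · left
      intro i
      rw [← hcoord i, h0, map_zero, Finsupp.zero_apply]
    · right
      intro j
      rw [← hcoord j, h1]
  have hzero : ∀ i j, c i * (c j - algebraMap k B (u j)) = 0 := by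
    intro i j
    by_contra hne
    obtain ⟨φ, hφ⟩ := exists_algHom_ne_zero (k := k) hne
    apply hφ
    rcases hθ φ with h | h
    · rw [map_mul, h i, zero_mul]
    · rw [map_mul, map_sub, h j, AlgHom.commutes, Algebra.algebraMap_self, RingHom.id_apply,
        sub_self, mul_zero]
  by_cases hall : ∀ i, c i = 0
  · left
    have : bK.repr x = 0 := by
      ext i
      have := congrArg Subtype.val (hall i)
      simpa [c] using this
    simpa using this
  · right
    push Not at hall
    obtain ⟨i0, hi0⟩ := hall
    have hcj : ∀ j, c j = algebraMap k B (u j) := fun j => by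
      have := hzero i0 j
      rcases mul_eq_zero.mp this with h | h
      · exact absurd h hi0
      · exact sub_eq_zero.mp h
    apply bK.repr.injective
    ext j
    have h1 : bK.repr (1 : K ⊗[k] A) j = algebraMap k K (u j) := by
      rw [Algebra.TensorProduct.one_def, Algebra.TensorProduct.basis_repr_tmul]
      simp [u]
    rw [h1]
    have := congrArg Subtype.val (hcj j)
    simpa [c] using this

/-- over an algebraically closed field, `K ⊗[k] A` has connected spectrum when `A` has -/
theorem connectedSpace_tensor_of_isAlgClosed (k : Type u) [Field k] [IsAlgClosed k] (K : Type v)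
    (A : Type w) [Field K] [CommRing A] [Algebra k K] [Algebra k A]
    [hA : ConnectedSpace (PrimeSpectrum A)] : ConnectedSpace (PrimeSpectrum (K ⊗[k] A)) := by
  obtain ⟨hnt, hid⟩ := connectedSpace_iff_idempotent.mp hA
  rw [connectedSpace_iff_idempotent]
  refine ⟨?_, fun e he => idempotent_tensor_trivial k K A hid e he⟩
  have hinj : Function.Injective (Algebra.TensorProduct.includeRight : A →ₐ[k] K ⊗[k] A) :=
    Algebra.TensorProduct.includeRight_injective (algebraMap k K).injective
  exact hinj.nontrivial

/-- swapping the factors does not change connectedness of the spectrum -/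
theorem connectedSpace_comm {k : Type u} [CommRing k] (R K : Type u) [CommRing R] [CommRing K]
    [Algebra k R] [Algebra k K] :
    ConnectedSpace (PrimeSpectrum (R ⊗[k] K)) ↔ ConnectedSpace (PrimeSpectrum (K ⊗[k] R)) :=
  (PrimeSpectrum.homeomorphOfRingEquiv
    (Algebra.TensorProduct.comm k R K).toRingEquiv).connectedSpace_iff

/-- ring-level geometric connectedness is the scheme-level one for `Spec R ⟶ Spec k` -/
theorem geomConn_specMap_iff {k R : Type u} [Field k] [CommRing R] [Algebra k R] :
    GeometricallyConnected (Spec.map (CommRingCat.ofHom (algebraMap k R))) ↔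
      ∀ (k' : Type u) [Field k'] [Algebra k k'], ConnectedSpace (PrimeSpectrum (k' ⊗[k] R)) := by
  rw [AlgebraicGeometry.geometricallyConnected_iff,
    geometrically_iff_of_commRing_of_isClosedUnderIsomorphisms]
  refine forall_congr' fun K => forall_congr' fun _ => forall_congr' fun _ => ?_
  rw [(pullbackSpecIso k R K).hom.homeomorph.connectedSpace_iff]
  exact connectedSpace_comm R K

/-- `Spec K ⟶ Spec k` is geometrically connected when `k` is algebraically closed -/
theorem geometricallyConnected_specMap (k K : Type u) [Field k] [IsAlgClosed k] [Field K]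
    [Algebra k K] :
    GeometricallyConnected (Spec.map (CommRingCat.ofHom (algebraMap k K))) := by
  rw [geomConn_specMap_iff]
  intro k' _ _
  exact connectedSpace_tensor_of_isAlgClosed k k' K

/-- an open continuous surjection with connected fibres pulls connected sets back to connected
sets -/
theorem isConnected_preimage_of_isOpenMap {α β : Type*} [TopologicalSpace α] [TopologicalSpace β]
    {f : α → β} (hc : Continuous f) (ho : IsOpenMap f)
    (hfib : ∀ t : β, IsConnected (f ⁻¹' {t})) {Z : Set β} (hZ : IsConnected Z) :
    IsConnected (f ⁻¹' Z) := by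
  have hsurj : Function.Surjective f := fun t => by
    obtain ⟨a, ha⟩ := (hfib t).nonempty
    exact ⟨a, ha⟩
  have hq : IsOpenQuotientMap (Z.restrictPreimage f) :=
    (IsOpenQuotientMap.mk hsurj hc ho).restrictPreimage Z
  have hZs : ConnectedSpace Z := isConnected_iff_connectedSpace.mp hZ
  have hfib' : ∀ t : Z, IsConnected ((Z.restrictPreimage f) ⁻¹' {t}) := by
    intro t
    have himg : (Subtype.val : f ⁻¹' Z → α) '' ((Z.restrictPreimage f) ⁻¹' {t}) = f ⁻¹' {t.1} := by
      ext a
      constructor
      · rintro ⟨⟨a, ha⟩, hat, rfl⟩
        have : Z.restrictPreimage f ⟨a, ha⟩ = t := hat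
        have := congrArg Subtype.val this
        simpa using this
      · intro hat
        have haZ : a ∈ f ⁻¹' Z := by
          have : f a = t.1 := hat
          show f a ∈ Z
          rw [this]; exact t.2
        refine ⟨⟨a, haZ⟩, ?_, rfl⟩
        apply Subtype.ext
        exact hat
    have h1 := hfib t.1
    rw [← himg] at h1
    exact ⟨by
      obtain ⟨_, ⟨y, hy, _⟩⟩ := h1.nonempty
      exact ⟨y, hy⟩, (Topology.IsInducing.subtypeVal.isPreconnected_image).mp h1.isPreconnected⟩
  have h2 := Topology.IsCoinducing.isConnected_preimage_of_isClosed hfib'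
    hq.isQuotientMap.isCoinducing isClosed_univ isConnected_univ
  rw [Set.preimage_univ] at h2
  exact isConnected_iff_connectedSpace.mpr (connectedSpace_iff_univ.mpr h2)

end Groth.Agent.Lib.helper3.GeomConn
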