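import Mathlib
import Groth.Agent.Lib.Helper3.ConnPreimage

/-!
The connected component of a rational point of a scheme over a field is geometrically connected,
and its inverse image under a field base change is the connected component of the point above
(helper3).
-/

set_option autoImplicit false
universe u

namespace Groth.Agent.Lib.helper3.SecComp

open CategoryTheory Limits AlgebraicGeometry

variable {k : Type u} [Field k] {Z : Scheme.{u}} (h : Z ⟶ Spec (CommRingCat.of k))
  (σ : Spec (CommRingCat.of k) ⟶ Z) (hσ : σ ≫ h = 𝟙 _)
  (K : Type u) [Field K] [Algebra k K]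

include hσ in
/-- there is only one point of `Z_K` over a rational point of `Z` -/
theorem eq_of_fst_eq (y₁ y₂ : ↥(pullback h (Spec.map (CommRingCat.ofHom (algebraMap k K)))))
    (h₁ : pullback.fst h (Spec.map (CommRingCat.ofHom (algebraMap k K))) y₁ =
      σ (IsLocalRing.closedPoint k))
    (h₂ : pullback.fst h (Spec.map (CommRingCat.ofHom (algebraMap k K))) y₂ =
      σ (IsLocalRing.closedPoint k)) : y₁ = y₂ := by
  let g := Spec.map (CommRingCat.ofHom (algebraMap k K))
  have hiso : IsIso (σ ≫ h) := hσ ▸ inferInstance
  let φ : pullback σ (pullback.fst h g) ⟶ Spec (CommRingCat.of K) :=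
    (pullbackRightPullbackFstIso h g σ).hom ≫ pullback.snd (σ ≫ h) g
  have hφ : IsIso φ := inferInstance
  have hsubL : Subsingleton ↥(Spec (CommRingCat.of K)) :=
    inferInstanceAs (Subsingleton (PrimeSpectrum K))
  have hsub : Subsingleton ↥(pullback σ (pullback.fst h g)) :=
    (φ.homeomorph).injective.subsingleton
  obtain ⟨z₁, -, hz₁⟩ := Scheme.Pullback.exists_preimage_pullback (f := σ)
    (g := pullback.fst h g) (IsLocalRing.closedPoint k) y₁ h₁.symm
  obtain ⟨z₂, -, hz₂⟩ := Scheme.Pullback.exists_preimage_pullback (f := σ)
    (g := pullback.fst h g) (IsLocalRing.closedPoint k) y₂ h₂.symm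
  rw [← hz₁, ← hz₂, Subsingleton.elim z₁ z₂]

include hσ in
/-- the inverse image of the connected component of a rational point is connected -/
theorem isConnected_preimage :
    _root_.IsConnected (pullback.fst h (Spec.map (CommRingCat.ofHom (algebraMap k K))) ⁻¹'
      connectedComponent (σ (IsLocalRing.closedPoint k))) := by
  apply GeomConnPt.isConnected_preimage_of_gbar
  refine GeomConnPt.isConnected_preimage_gbar h isConnected_connectedComponent
    (S := pullback.fst h (GeomConnPt.gbar k) ⁻¹' {σ (IsLocalRing.closedPoint k)}) ?_ ?_
    (x := σ (IsLocalRing.closedPoint k)) mem_connectedComponent le_rfl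
  · apply Set.Subsingleton.isPreconnected
    intro y₁ hy₁ y₂ hy₂
    exact eq_of_fst_eq h σ hσ (AlgebraicClosure k) y₁ y₂ hy₁ hy₂
  · intro y hy
    rw [Set.mem_preimage, Set.mem_singleton_iff] at hy
    rw [Set.mem_preimage, hy]
    exact mem_connectedComponent

include hσ in
/-- the inverse image of the connected component of a rational point is the connected component
of the point above it -/
theorem preimage_connectedComponent_eq
    (z' : ↥(pullback h (Spec.map (CommRingCat.ofHom (algebraMap k K)))))
    (hz' : pullback.fst h (Spec.map (CommRingCat.ofHom (algebraMap k K))) z' =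
      σ (IsLocalRing.closedPoint k)) :
    pullback.fst h (Spec.map (CommRingCat.ofHom (algebraMap k K))) ⁻¹'
      connectedComponent (σ (IsLocalRing.closedPoint k)) = connectedComponent z' := by
  apply Set.Subset.antisymm
  · apply (isConnected_preimage h σ hσ K).subset_connectedComponent
    rw [Set.mem_preimage, hz']
    exact mem_connectedComponent
  · intro y hy
    rw [Set.mem_preimage, ← hz']
    exact (Scheme.Hom.continuous _).mapsTo_connectedComponent z' hy

include hσ in
/-- version for an arbitrary pullback square -/
theorem preimage_connectedComponent_eq_of_isPullback {Z' : Scheme.{u}} (p : Z' ⟶ Z)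
    (q : Z' ⟶ Spec (CommRingCat.of K))
    (hpb : IsPullback p q h (Spec.map (CommRingCat.ofHom (algebraMap k K))))
    (z' : Z') (hz' : p z' = σ (IsLocalRing.closedPoint k)) :
    p ⁻¹' connectedComponent (σ (IsLocalRing.closedPoint k)) = connectedComponent z' := by
  let e := hpb.isoPullback
  have he : e.hom ≫ pullback.fst h _ = p := hpb.isoPullback_hom_fst
  have hpe : ∀ w, p w = pullback.fst h (Spec.map (CommRingCat.ofHom (algebraMap k K))) (e.hom w) := by
    intro w
    rw [← he]
    rfl
  have h1 := preimage_connectedComponent_eq h σ hσ K (e.hom z') (by rw [← hpe, hz'])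
  ext w
  rw [Set.mem_preimage, hpe, ← Set.mem_preimage, h1]
  have h2 := (e.hom.homeomorph).isQuotientMap.image_connectedComponent
    (by simp [isConnected_singleton]) z'
  constructor
  · intro hw
    have : e.hom.homeomorph w ∈ e.hom.homeomorph '' connectedComponent z' := by
      rw [h2]; exact hw
    obtain ⟨w', hw', hww'⟩ := this
    rwa [← e.hom.homeomorph.injective hww']
  · intro hw
    have : e.hom.homeomorph w ∈ e.hom.homeomorph '' connectedComponent z' := ⟨w, hw, rfl⟩
    rw [h2] at this
    exact this

end Groth.Agent.Lib.helper3.SecComp
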