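import Mathlib
import Groth.Prelude.Def_EGA43
import Groth.Agent.Lib.Helper3.OpenAtNhds
/-!
# Helper library (helper3): EGA IV 14.2.6 (ii) and 14.2.7 — the set of dimensions of the components
of the fibres of an open morphism of finite type is locally constant under the generic hypothesis.
-/

set_option autoImplicit false
universe u v
open CategoryTheory AlgebraicGeometry Function TopologicalSpace Topology

namespace Groth.Agent.Lib.helper3.OpenAtDim

open Groth.Agent.Lib.helper3.DimIneq Groth.Agent.Lib.helper3.FTField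
  Groth.Agent.Lib.helper3.FibreField Groth.Agent.Lib.helper3.DimFibre
  Groth.Agent.Lib.helper3.RelDim Groth.Agent.Lib.helper3.EquidimAt
  Groth.Agent.Lib.helper3.QFinTop Groth.Agent.Lib.helper3.EquidimIrr
  Groth.Agent.Lib.helper3.ConsNhds

theorem isLocallyConstructible_inter_of_isClosed_of_isOpen {X : Scheme.{u}} [IsLocallyNoetherian X]
    {s t : Set X} (hs : IsClosed s) (ht : IsOpen t) : IsLocallyConstructible (s ∩ t) := by
  refine (isLocallyConstructible_of_isClosed hs).inter ?_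
  intro x
  obtain ⟨U, hU, hxU, -⟩ := exists_isAffineOpen_mem_and_subset (x := x) (U := ⊤) trivial
  haveI : IsNoetherianRing Γ(X, U) := IsLocallyNoetherian.component_noetherian ⟨U, hU⟩
  haveI hN : NoetherianSpace U.toScheme := noetherianSpace_of_isAffineOpen U hU
  refine ⟨U, U.isOpen.mem_nhds hxU, U.isOpen, ?_⟩
  haveI : NoetherianSpace ↥(U : Set X) := hN
  exact (NoetherianSpace.isCompact (Subtype.val ⁻¹' t : Set ↥(U : Set X))).isConstructible
    (ht.preimage continuous_subtype_val)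

theorem isClosed_fibreDimAt_ge {X Y : Scheme.{u}} (f : X ⟶ Y) [LocallyOfFiniteType f] (N : ℕ) :
    IsClosed {x : X | (N : WithBot ℕ∞) ≤ FlatMor.fibreDimAt f x} := by
  rcases Nat.eq_zero_or_pos N with h0 | hpos
  · convert isClosed_univ
    ext x
    simp only [Set.mem_ofPred_eq, Set.mem_univ, iff_true]
    obtain ⟨a, b, -, -, h⟩ := fibreDimAt_eq_add f x
    rw [h, h0]
    exact_mod_cast Nat.zero_le _
  · have := (Groth.Agent.S0402.result f (N - 1)).isClosed_compl
    convert this using 1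
    ext x
    simp only [Set.mem_ofPred_eq, Set.mem_compl_iff]
    obtain ⟨a, b, -, -, h⟩ := fibreDimAt_eq_add f x
    rw [h]
    constructor
    · intro h1 h2
      have h1' : N ≤ a + b := by exact_mod_cast h1
      have h2' : a + b ≤ N - 1 := by exact_mod_cast h2
      omega
    · intro h1
      by_contra h2
      apply h1
      have h3 : ¬ N ≤ a + b := by
        intro h3
        exact h2 (by exact_mod_cast h3)
      have h4 : a + b ≤ N - 1 := by omega
      exact_mod_cast h4

/-- the image of `{x | dim_x X_{f x} = N}` is a neighbourhood of `f x0` for `x0` fibre-maximal of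
transcendence degree `N` at which `f` is open. -/
theorem image_fibreDimAt_eq_mem_nhds {X Y : Scheme.{u}} [IsLocallyNoetherian Y] (f : X ⟶ Y)
    [LocallyOfFiniteType f] [QuasiCompact f] (x0 : X) (hopen : EGA43.IsOpenAt f.base x0)
    (hmax : ∀ t : X, t ⤳ x0 → f t = f x0 → t = x0) (N : ℕ)
    (hN : td (f.residueFieldMap x0).hom = (N : Cardinal.{u})) :
    f '' {x : X | FlatMor.fibreDimAt f x = (N : WithBot ℕ∞)} ∈ nhds (f x0) := by
  haveI hXN : IsLocallyNoetherian X := LocallyOfFiniteType.isLocallyNoetherian f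
  have hset : {x : X | FlatMor.fibreDimAt f x = (N : WithBot ℕ∞)} =
      {x : X | (N : WithBot ℕ∞) ≤ FlatMor.fibreDimAt f x} ∩
        {x : X | FlatMor.fibreDimAt f x ≤ (N : WithBot ℕ∞)} := by
    ext x
    simp only [Set.mem_ofPred_eq, Set.mem_inter_iff]
    exact ⟨fun h => ⟨h.ge, h.le⟩, fun h => le_antisymm h.2 h.1⟩
  have hlc : IsLocallyConstructible (f '' {x : X | FlatMor.fibreDimAt f x = (N : WithBot ℕ∞)}) := by
    rw [hset]
    exact f.isLocallyConstructible_image (isLocallyConstructible_inter_of_isClosed_of_isOpen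
      (isClosed_fibreDimAt_ge f N) (Groth.Agent.S0402.result f N))
  apply mem_nhds_of_isLocallyConstructible hlc
  intro y' hy'
  obtain ⟨ξ', N', hsp, hfξ', hξmax, htdξ, htdz'⟩ :=
    exists_generization_td_eq f x0 hopen hmax y' hy'
  have hNN : N' = N := by
    have := htdz'.symm.trans hN
    exact_mod_cast this
  subst hNN
  exact ⟨ξ', fibreDimAt_eq_td_of_forall f ξ' hξmax N' htdξ, hfξ'⟩

/-- `N` is the dimension of an irreducible component of the fibre over `z`. -/
def CompDim {X Y : Scheme.{u}} (f : X ⟶ Y) (z : Y) (N : ℕ) : Prop :=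
  ∃ x : X, f x = z ∧ (∀ t : X, t ⤳ x → f t = f x → t = x) ∧
    td (f.residueFieldMap x).hom = (N : Cardinal.{u})

theorem compDims_eq {X Y : Scheme.{u}} (f : X ⟶ Y) [LocallyOfFiniteType f] (z : Y) :
    (fun Z : Set ↥(f.fiber z) => topologicalKrullDim ↥Z) '' irreducibleComponents ↥(f.fiber z) =
      (fun N : ℕ => (N : WithBot ℕ∞)) '' {N : ℕ | CompDim f z N} := by
  ext d
  constructor
  · rintro ⟨Z, hZ, rfl⟩
    obtain ⟨ζ, hζ⟩ := QuasiSober.sober hZ.1 (isClosed_of_mem_irreducibleComponents Z hZ)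
    have hZζ : closure ({ζ} : Set (f.fiber z)) = Z := hζ.def
    subst hZζ
    obtain ⟨N, b, hN, -, -⟩ := fibreDimAt_eq_add f (f.fiberι z ζ)
    refine ⟨N, ⟨f.fiberι z ζ, fiberι_mem f z ζ, fibre_maximal_of_closure_mem f z ζ hZ, hN⟩, ?_⟩
    exact (dim_closure_fibre_point f z ζ N hN).symm
  · rintro ⟨N, ⟨x, hx, hmax, hN⟩, rfl⟩
    have hmem : x ∈ Set.range (f.fiberι z) := by
      rw [f.range_fiberι z]; exact hx
    obtain ⟨ζ, rfl⟩ := hmem
    exact ⟨closure {ζ}, closure_mem_of_fibre_maximal f z ζ hmax,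
      dim_closure_fibre_point f z ζ N hN⟩

theorem compDim_of_fibreDimAt_eq {X Y : Scheme.{u}} (f : X ⟶ Y) [LocallyOfFiniteType f] (x : X)
    (N : ℕ) (h : FlatMor.fibreDimAt f x = (N : WithBot ℕ∞)) : CompDim f (f x) N := by
  obtain ⟨z', N', hz'x, hfz', hz'max, htdz', hfd⟩ := exists_maximal_fibre_point f x
  have : N' = N := by
    rw [h] at hfd
    exact_mod_cast hfd.symm
  subst this
  exact ⟨z', hfz', hz'max, htdz'⟩

theorem compDim_le_dim {X Y : Scheme.{u}} (f : X ⟶ Y) [LocallyOfFiniteType f] (z : Y) (N : ℕ)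
    (h : CompDim f z N) : (N : WithBot ℕ∞) ≤ topologicalKrullDim ↥(f.fiber z) := by
  obtain ⟨x, hx, hmax, hN⟩ := h
  subst hx
  rw [← fibreDimAt_eq_td_of_forall f x hmax N hN,
    ← Groth.Agent.S0403.localDim_fiber_eq f (f x) x rfl (f.asFiber x) (f.fiberι_asFiber x)]
  exact Groth.Agent.Lib.helper3.TopDim.localDim_le_dim _

/-- EGA IV 14.2.6 (ii). -/
theorem compDims_locally_constant {X Y : Scheme.{u}}
    [IsLocallyNoetherian Y] (f : X ⟶ Y) [LocallyOfFiniteType f] [QuasiCompact f]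
    (hf : IsOpenMap f.base) (y : Y) :
    letI E : Y → Set (WithBot ℕ∞) := fun z =>
      (fun Z : Set ↥(f.fiber z) => topologicalKrullDim ↥Z) '' irreducibleComponents ↥(f.fiber z)
    (∀ η : Y, y ∈ closure {η} → closure {η} ∈ irreducibleComponents (Y : Type u) → E y = E η) →
      ∃ V ∈ nhds y, ∀ z ∈ V, E z = E y := by
  intro hE
  beta_reduce at hE ⊢
  have hopenAt : ∀ x : X, EGA43.IsOpenAt f.base x := fun x W hW => hf.image_mem_nhds hW
  have hEdef := compDims_eq f
  obtain ⟨V0, hV0, hV0p⟩ := exists_nhds_components_through y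
  have hfin : {N : ℕ | CompDim f y N}.Finite := by
    by_cases hne : ∃ x : X, f x = y
    · obtain ⟨x0, M, hx0, hfd, hdim⟩ := exists_fibreDimAt_eq_dim f y hne
      refine (Set.finite_le_nat M).subset ?_
      intro N hN
      have h2 := compDim_le_dim f y N hN
      rw [hdim] at h2
      have : N ≤ M := by exact_mod_cast h2
      exact this
    · convert Set.finite_empty
      ext N
      simp only [Set.mem_ofPred_eq, Set.mem_empty_iff_false, iff_false]
      rintro ⟨x, hx, -⟩
      exact hne ⟨x, hx⟩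
  have hV : ∀ N ∈ {N : ℕ | CompDim f y N}, {z : Y | CompDim f z N} ∈ nhds y := by
    rintro N ⟨x, hx, hmax, hN⟩
    have h1 := image_fibreDimAt_eq_mem_nhds f x (hopenAt x) hmax N hN
    rw [hx] at h1
    refine Filter.mem_of_superset h1 ?_
    rintro _ ⟨x', hx', rfl⟩
    exact compDim_of_fibreDimAt_eq f x' N hx'
  have hV' : (⋂ N ∈ {N : ℕ | CompDim f y N}, {z : Y | CompDim f z N}) ∈ nhds y :=
    (Filter.biInter_mem hfin).mpr hV
  refine ⟨V0 ∩ ⋂ N ∈ {N : ℕ | CompDim f y N}, {z : Y | CompDim f z N},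
    Filter.inter_mem hV0 hV', ?_⟩
  rintro z ⟨hz0, hz1⟩
  obtain ⟨η, hηc, hηz, hηy⟩ := hV0p z hz0
  have hEη := hE η (specializes_iff_mem_closure.mp hηy) hηc
  apply Set.Subset.antisymm
  · rw [hEη, hEdef z, hEdef η]
    rintro _ ⟨N, ⟨x, hx, hmax, hN⟩, rfl⟩
    obtain ⟨ξ', N', hsp, hfξ', hξmax, htdξ, htdx⟩ :=
      exists_generization_td_eq f x (hopenAt x) hmax η (hx ▸ hηz)
    have hNN : N' = N := by
      have := htdx.symm.trans hN
      exact_mod_cast this
    subst hNN
    exact ⟨N', ⟨ξ', hfξ', hξmax, htdξ⟩, rfl⟩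
  · rw [hEdef y, hEdef z]
    rintro _ ⟨N, hN, rfl⟩
    exact ⟨N, Set.mem_iInter₂.mp hz1 N hN, rfl⟩

theorem localDim_le_of_comp_eq {A : Type u} {B : Type u} {T : Type u} [TopologicalSpace A]
    [TopologicalSpace B] [TopologicalSpace T] (i : A → T) (j : B → T) (k : A → B)
    (hi : IsInducing i) (hj : IsInducing j) (h : j ∘ k = i) (a : A) :
    FlatMor.localDim A a ≤ FlatMor.localDim B (k a) := by
  have hkc : Continuous k := by
    rw [hj.continuous_iff, h]; exact hi.continuous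
  have : IsInducing k := IsInducing.of_comp hkc hj.continuous (by rw [h]; exact hi)
  exact Groth.Agent.Lib.helper3.TopDim.localDim_le_of_isInducing this a

/-- EGA IV 14.2.7. -/
theorem exists_opens_fibre_dim_locally_constant {X Y : Scheme.{u}} [IsLocallyNoetherian Y]
    (f : X ⟶ Y) [LocallyOfFiniteType f] [QuasiCompact f] (hf : IsOpenMap f.base) (y : Y) :
    ∃ U : X.Opens, f.base ⁻¹' {y} ⊆ (U : Set X) ∧ ∃ V ∈ nhds y, ∀ z ∈ V,
      topologicalKrullDim ↥((U : Set X) ∩ f.base ⁻¹' {z}) =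
        topologicalKrullDim ↥((U : Set X) ∩ f.base ⁻¹' {y}) := by
  have hopenAt : ∀ x : X, EGA43.IsOpenAt f.base x := fun x W hW => hf.image_mem_nhds hW
  by_cases hne : ∃ x : X, f x = y
  · obtain ⟨x0, N, hx0, hfd, hdim⟩ := exists_fibreDimAt_eq_dim f y hne
    obtain ⟨ζ, N1, hζx, hfζ, hζmax, htdζ, hfd1⟩ := exists_maximal_fibre_point f x0
    have hN1 : N1 = N := by
      rw [hfd] at hfd1
      exact_mod_cast hfd1.symm
    subst hN1
    have hfζy : f ζ = y := hfζ.trans hx0
    obtain ⟨U, hUdef⟩ : ∃ U : X.Opens,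
        (U : Set X) = {x : X | FlatMor.fibreDimAt f x ≤ (N1 : WithBot ℕ∞)} :=
      ⟨⟨_, Groth.Agent.S0402.result f N1⟩, rfl⟩
    have key1 : ∀ z : Y, topologicalKrullDim ↥((U : Set X) ∩ f.base ⁻¹' {z}) ≤
        (N1 : WithBot ℕ∞) := by
      intro z
      rw [Groth.Agent.S0403.dim_le_iff_localDim]
      rintro ⟨p, hpU, hpz⟩
      have h1 := localDim_le_of_comp_eq
        (Subtype.val : ↥((U : Set X) ∩ f.base ⁻¹' {z}) → X) (f.fiberι z)
        (fun p => (f.fiberHomeo z).symm ⟨p.1, p.2.2⟩) IsInducing.subtypeVal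
        (f.fiberι z).isEmbedding.isInducing
        (funext fun p => f.fiberι_fiberHomeo_symm z ⟨p.1, p.2.2⟩) ⟨p, hpU, hpz⟩
      refine h1.trans ?_
      rw [Groth.Agent.S0403.localDim_fiber_eq f z p hpz _ (f.fiberι_fiberHomeo_symm z ⟨p, hpz⟩)]
      rw [hUdef] at hpU
      exact hpU
    have key2 : ∀ z ∈ f '' {x : X | FlatMor.fibreDimAt f x = (N1 : WithBot ℕ∞)},
        (N1 : WithBot ℕ∞) ≤ topologicalKrullDim ↥((U : Set X) ∩ f.base ⁻¹' {z}) := by
      rintro _ ⟨x, hx, rfl⟩
      have hx' : FlatMor.fibreDimAt f x = (N1 : WithBot ℕ∞) := hx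
      have hxU : x ∈ (U : Set X) := by
        rw [hUdef, Set.mem_ofPred_eq, hx']
      have hO : IsOpen ((f.fiberι (f x)) ⁻¹' (U : Set X)) :=
        U.isOpen.preimage (f.fiberι (f x)).continuous
      have ht : f.asFiber x ∈ (f.fiberι (f x)) ⁻¹' (U : Set X) := by
        change f.fiberι (f x) (f.asFiber x) ∈ (U : Set X)
        rw [f.fiberι_asFiber x]; exact hxU
      have h1 : (N1 : WithBot ℕ∞) ≤
          topologicalKrullDim ↥((f.fiberι (f x)) ⁻¹' (U : Set X)) := by
        rw [← hx']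
        unfold FlatMor.fibreDimAt FlatMor.localDim
        exact iInf_le (fun W : {W : TopologicalSpace.Opens ↥(f.fiber (f x)) // f.asFiber x ∈ W} =>
          topologicalKrullDim ↥(W.1 : Set ↥(f.fiber (f x))))
          ⟨⟨(f.fiberι (f x)) ⁻¹' (U : Set X), hO⟩, ht⟩
      refine h1.trans ?_
      refine Groth.Agent.Lib.helper3.TopDim.dim_le_of_range_subset
        (f := (f.fiberι (f x)) ∘ Subtype.val) (g := Subtype.val)
        ((f.fiberι (f x)).isEmbedding.isInducing.comp IsInducing.subtypeVal)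
        IsInducing.subtypeVal ?_
      rintro _ ⟨⟨q, hq⟩, rfl⟩
      exact ⟨(⟨f.fiberι (f x) q, hq, fiberι_mem f (f x) q⟩ :
        ↥((U : Set X) ∩ f.base ⁻¹' {f x})), rfl⟩
    have hnh := image_fibreDimAt_eq_mem_nhds f ζ (hopenAt ζ) hζmax N1 htdζ
    rw [hfζy] at hnh
    refine ⟨U, ?_, _, hnh, fun z hz => ?_⟩
    · intro x hx
      have hx' : f x = y := hx
      rw [hUdef, Set.mem_ofPred_eq, ← hdim]
      subst hx'
      rw [← Groth.Agent.S0403.localDim_fiber_eq f (f x) x rfl (f.asFiber x) (f.fiberι_asFiber x)]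
      exact Groth.Agent.Lib.helper3.TopDim.localDim_le_dim _
    · rw [le_antisymm (key1 z) (key2 z hz), le_antisymm (key1 y) (key2 y (mem_of_mem_nhds hnh))]
  · refine ⟨⊥, ?_, Set.univ, Filter.univ_mem, fun z _ => ?_⟩
    · intro x hx
      exact absurd ⟨x, hx⟩ hne
    · have hbot : ∀ z : Y, topologicalKrullDim ↥(((⊥ : X.Opens) : Set X) ∩ f.base ⁻¹' {z}) = ⊥ := by
        intro z
        apply le_bot_iff.mp
        rw [Groth.Agent.S0403.dim_le_iff_localDim]
        rintro ⟨p, hp, -⟩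
        exact absurd hp (Set.notMem_empty p)
      rw [hbot z, hbot y]

end Groth.Agent.Lib.helper3.OpenAtDim
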