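import Mathlib
/-!
# Helper library (helper3): a flatness criterion over a discrete valuation ring.

`flat_of_dvr_of_reduced_fibre` : `R` a DVR, `B` a Noetherian local ring, `φ : R → B` local. If
`B / m_R B` is reduced and no minimal prime of `m_R B` is a minimal prime of `B`, then `φ` is flat.
-/

set_option autoImplicit false
universe u
open Function

namespace Groth.Agent.Lib.helper3.DvrFlat

theorem flat_of_dvr_of_reduced_fibre {R B : Type u} [CommRing R] [IsDomain R]
    [IsDiscreteValuationRing R] [CommRing B] [IsNoetherianRing B] [IsLocalRing B] (φ : R →+* B)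
    [IsLocalHom φ]
    (hred : IsReduced (B ⧸ (IsLocalRing.maximalIdeal R).map φ))
    (hmin : ∀ P ∈ ((IsLocalRing.maximalIdeal R).map φ).minimalPrimes, P ∉ minimalPrimes B) :
    φ.Flat := by
  obtain ⟨ϖ, hϖ⟩ := IsDiscreteValuationRing.exists_irreducible R
  have hm : IsLocalRing.maximalIdeal R = Ideal.span {ϖ} := hϖ.maximalIdeal_eq
  have hI : (IsLocalRing.maximalIdeal R).map φ = Ideal.span {φ ϖ} := by
    rw [hm, Ideal.map_span, Set.image_singleton]
  have hπm : φ ϖ ∈ IsLocalRing.maximalIdeal B := by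
    rw [IsLocalRing.mem_maximalIdeal, mem_nonunits_iff]
    intro hu
    exact hϖ.not_isUnit (isUnit_of_map_unit φ ϖ hu)
  have hrad : (Ideal.span {φ ϖ}).IsRadical := by
    rw [← hI]; exact (Ideal.isRadical_iff_quotient_reduced _).mpr hred
  rw [hI] at hmin
  -- the `π`-power torsion ideal
  have hT : Submodule.torsion' B B (Submonoid.powers (φ ϖ)) = ⊥ := by
    apply Submodule.eq_bot_of_le_smul_of_le_jacobson_bot (Ideal.span {φ ϖ}) _
      (IsNoetherian.noetherian _)
    · intro c hc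
      obtain ⟨⟨_, k, rfl⟩, hk⟩ := (Submodule.mem_torsion'_iff _ _).mp hc
      have hk' : φ ϖ ^ k * c = 0 := hk
      have hcspan : c ∈ Ideal.span {φ ϖ} := by
        rw [← hrad.radical, Ideal.radical_eq_sInf, Ideal.mem_sInf]
        rintro J ⟨hJ, hJp⟩
        obtain ⟨P, hP, hPJ⟩ := Ideal.exists_minimalPrimes_le hJ
        apply hPJ
        by_contra hcP
        apply hmin P hP
        refine ⟨⟨hP.1.1, bot_le⟩, ?_⟩
        rintro Q ⟨hQ, -⟩ hQP
        apply hP.2 ⟨hQ, ?_⟩ hQP
        rw [Ideal.span_singleton_le_iff_mem]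
        have h0 : φ ϖ ^ k * c ∈ Q := by rw [hk']; exact Q.zero_mem
        rcases hQ.mem_or_mem h0 with h1 | h1
        · exact hQ.mem_of_pow_mem k h1
        · exact absurd (hQP h1) hcP
      obtain ⟨c1, hc1⟩ := Ideal.mem_span_singleton'.mp hcspan
      have hc1T : c1 ∈ Submodule.torsion' B B (Submonoid.powers (φ ϖ)) := by
        rw [Submodule.mem_torsion'_iff]
        refine ⟨⟨φ ϖ ^ (k + 1), k + 1, rfl⟩, ?_⟩
        change φ ϖ ^ (k + 1) * c1 = 0
        rw [pow_succ, mul_assoc, mul_comm (φ ϖ) c1, hc1, hk']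
      rw [← hc1, mul_comm]
      exact Submodule.smul_mem_smul (Ideal.mem_span_singleton_self _) hc1T
    · rw [IsLocalRing.jacobson_eq_maximalIdeal ⊥ bot_ne_top, Ideal.span_singleton_le_iff_mem]
      exact hπm
  letI := φ.toAlgebra
  change Module.Flat R B
  rw [Module.Flat.flat_iff_torsion_eq_bot_of_isBezout, Submodule.eq_bot_iff]
  rintro b ⟨⟨r, hr⟩, hrb⟩
  have hr0 : r ≠ 0 := nonZeroDivisors.ne_zero hr
  obtain ⟨n, u, hru⟩ := IsDiscreteValuationRing.eq_unit_mul_pow_irreducible hr0 hϖ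
  have hrb' : φ r * b = 0 := hrb
  rw [hru, map_mul, map_pow, mul_assoc] at hrb'
  have hu : IsUnit (φ (u : R)) := (u.isUnit).map φ
  have h2 : φ ϖ ^ n * b = 0 := hu.mul_right_eq_zero.mp hrb'
  have hbT : b ∈ Submodule.torsion' B B (Submonoid.powers (φ ϖ)) := by
    rw [Submodule.mem_torsion'_iff]
    exact ⟨⟨φ ϖ ^ n, n, rfl⟩, h2⟩
  rw [hT] at hbT
  exact (Submodule.mem_bot B).mp hbT

end Groth.Agent.Lib.helper3.DvrFlat
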