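import Mathlib
import Groth.Prelude.Def_EGA43
import Groth.Agent.Lib.Helper3.DvrFlat
import Groth.Agent.Lib.Helper3.OpenAtEquidim
import Groth.Agent.Lib.Helper17.FibreStalk
/-!
# Helper library (helper3): EGA IV 15.2.? over a DVR (= S4948): a morphism locally of finite type to
the spectrum of a DVR which is open at the maximal points of the closed fibre through `x` and whose
closed fibre is reduced at `x` is flat at `x`.
-/

set_option autoImplicit false
universe u
open CategoryTheory AlgebraicGeometry Function TopologicalSpace Topology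

namespace Groth.Agent.Lib.helper3.DvrFlat

open Groth.Agent.Lib.helper3.OpenAtDim Groth.Agent.Lib.helper17.FibreStalk

/-- points of `Spec O_{X,x}` whose images specialize correspond to included primes. -/
theorem fromSpecStalk_specializes_iff {X : Scheme.{u}} (x : X)
    (a b : Spec (X.presheaf.stalk x)) :
    X.fromSpecStalk x a ⤳ X.fromSpecStalk x b ↔ a.asIdeal ≤ b.asIdeal := by
  rw [(X.fromSpecStalk x).isEmbedding.isInducing.specializes_iff]
  exact (PrimeSpectrum.le_iff_specializes a b).symm

theorem exists_prime_of_specializes {X : Scheme.{u}} (x t : X) (h : t ⤳ x) :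
    ∃ a : Spec (X.presheaf.stalk x), X.fromSpecStalk x a = t := by
  have : t ∈ Set.range (X.fromSpecStalk x) := by
    rw [Scheme.range_fromSpecStalk]; exact h
  exact this

theorem map_fromSpecStalk {X Y : Scheme.{u}} (f : X ⟶ Y) (x : X)
    (a : Spec (X.presheaf.stalk x)) :
    f (X.fromSpecStalk x a) = Y.fromSpecStalk (f x) (Spec.map (f.stalkMap x) a) := by
  have hsq := Scheme.SpecMap_stalkMap_fromSpecStalk (f := f) (x := x)
  have h1 : (X.fromSpecStalk x ≫ f) a = (Spec.map (f.stalkMap x) ≫ Y.fromSpecStalk (f x)) a := by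
    rw [hsq]
  exact h1

theorem flat_stalkMap_of_dvr_base {A : Type u} [CommRing A] [IsDomain A]
    [IsDiscreteValuationRing A] {X : Scheme.{u}} (f : X ⟶ Spec (CommRingCat.of A))
    [LocallyOfFiniteType f] (x : X)
    (hx : f.base x = IsLocalRing.closedPoint A)
    (h : ∀ z : ↥(f.fiber (f.base x)), f.asFiber x ∈ closure {z} →
      (∀ z' : ↥(f.fiber (f.base x)), z ∈ closure {z'} → z' = z) →
      EGA43.IsOpenAt f.base ((f.fiberι (f.base x)).base z))
    (hred : _root_.IsReduced ((f.fiber (f.base x)).presheaf.stalk (f.asFiber x))) :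
    (f.stalkMap x).hom.Flat := by
  haveI hXN : IsLocallyNoetherian X := LocallyOfFiniteType.isLocallyNoetherian f
  haveI : IsLocalRing (CommRingCat.of A) := inferInstanceAs (IsLocalRing A)
  let e0 : (Spec (CommRingCat.of A)).presheaf.stalk (f x) ≅ CommRingCat.of A :=
    (Spec (CommRingCat.of A)).presheaf.stalkCongr (.of_eq hx) ≪≫
      stalkClosedPointIso (CommRingCat.of A)
  let e : A ≃+* (Spec (CommRingCat.of A)).presheaf.stalk (f x) :=
    e0.symm.commRingCatIsoToRingEquiv
  haveI : IsDomain ((Spec (CommRingCat.of A)).presheaf.stalk (f x)) :=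
    e.symm.toMulEquiv.isDomain
  haveI : IsDiscreteValuationRing ((Spec (CommRingCat.of A)).presheaf.stalk (f x)) :=
    IsDiscreteValuationRing.RingEquivClass.isDiscreteValuationRing e
  apply flat_of_dvr_of_reduced_fibre
  · obtain ⟨e1⟩ := nonempty_asFiber_stalk_equiv f x
    exact isReduced_of_injective e1.toRingHom e1.injective
  · intro P hP hPmin
    haveI := hP.1.1
    have hζx : X.fromSpecStalk x ⟨P, inferInstance⟩ ⤳ x := by
      have : X.fromSpecStalk x ⟨P, inferInstance⟩ ∈ Set.range (X.fromSpecStalk x) := ⟨_, rfl⟩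
      rw [Scheme.range_fromSpecStalk] at this
      exact this
    -- primes of the stalk over the closed point
    have hcomap : ∀ a : Spec (X.presheaf.stalk x),
        (IsLocalRing.maximalIdeal ((Spec (CommRingCat.of A)).presheaf.stalk (f x))).map
          (f.stalkMap x).hom ≤ a.asIdeal ↔ f (X.fromSpecStalk x a) = f x := by
      intro a
      rw [map_fromSpecStalk]
      constructor
      · intro hle
        have h1 : IsLocalRing.maximalIdeal ((Spec (CommRingCat.of A)).presheaf.stalk (f x)) ≤
            a.asIdeal.comap (f.stalkMap x).hom := Ideal.map_le_iff_le_comap.mp hle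
        have h2 : a.asIdeal.comap (f.stalkMap x).hom =
            IsLocalRing.maximalIdeal ((Spec (CommRingCat.of A)).presheaf.stalk (f x)) :=
          ((IsLocalRing.maximalIdeal.isMaximal _).eq_of_le
            (Ideal.IsPrime.ne_top (Ideal.comap_isPrime _ _)) h1).symm
        have h3 : Spec.map (f.stalkMap x) a =
            IsLocalRing.closedPoint ((Spec (CommRingCat.of A)).presheaf.stalk (f x)) :=
          PrimeSpectrum.ext h2
        rw [h3]
        exact Scheme.fromSpecStalk_closedPoint
      · intro heq
        have h3 : Spec.map (f.stalkMap x) a =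
            IsLocalRing.closedPoint ((Spec (CommRingCat.of A)).presheaf.stalk (f x)) := by
          apply ((Spec (CommRingCat.of A)).fromSpecStalk (f x)).isEmbedding.injective
          rw [heq]
          exact Scheme.fromSpecStalk_closedPoint.symm
        have h2 : a.asIdeal.comap (f.stalkMap x).hom =
            IsLocalRing.maximalIdeal ((Spec (CommRingCat.of A)).presheaf.stalk (f x)) :=
          congrArg PrimeSpectrum.asIdeal h3
        rw [Ideal.map_le_iff_le_comap, h2]
    have hfζ : f (X.fromSpecStalk x ⟨P, inferInstance⟩) = f x := (hcomap ⟨P, inferInstance⟩).mp hP.1.2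
    have hmax : ∀ t : X, t ⤳ X.fromSpecStalk x ⟨P, inferInstance⟩ →
        f t = f (X.fromSpecStalk x ⟨P, inferInstance⟩) → t = X.fromSpecStalk x ⟨P, inferInstance⟩ := by
      intro t ht hft
      obtain ⟨a, rfl⟩ := exists_prime_of_specializes x t (ht.trans hζx)
      have hle : a.asIdeal ≤ P := (fromSpecStalk_specializes_iff x a ⟨P, inferInstance⟩).mp ht
      have h1 := (hcomap a).mpr (hft.trans hfζ)
      have h2 : P ≤ a.asIdeal := hP.2 ⟨a.isPrime, h1⟩ hle
      congr 1
      exact PrimeSpectrum.ext (le_antisymm hle h2)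
    have hopen := isOpenAt_of_fibre_hyp f x h _ hζx hfζ hmax
    obtain ⟨ξ, hξζ, hfξ⟩ := exists_specializes_of_isOpenAt_scheme f _ hopen
      (genericPoint (Spec (CommRingCat.of A))) (genericPoint_specializes _)
    obtain ⟨b, rfl⟩ := exists_prime_of_specializes x ξ (hξζ.trans hζx)
    have hle : b.asIdeal ≤ P := (fromSpecStalk_specializes_iff x b ⟨P, inferInstance⟩).mp hξζ
    have h2 : P ≤ b.asIdeal := hPmin.2 ⟨b.isPrime, bot_le⟩ hle
    have hbP : b = ⟨P, inferInstance⟩ := PrimeSpectrum.ext (le_antisymm hle h2)
    rw [hbP, hfζ, hx] at hfξ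
    -- the closed point of a DVR is not the generic point
    have h3 : genericPoint (Spec (CommRingCat.of A)) ⤳
        (⟨⊥, Ideal.isPrime_bot⟩ : Spec (CommRingCat.of A)) := genericPoint_specializes _
    rw [← hfξ] at h3
    have h4 : IsLocalRing.maximalIdeal A ≤ ⊥ := (PrimeSpectrum.le_iff_specializes _ _).mpr h3
    exact IsDiscreteValuationRing.not_a_field A (le_bot_iff.mp h4)

end Groth.Agent.Lib.helper3.DvrFlat
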