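import Mathlib
import Groth.Agent.Lib.Helper3.DvrFlatSch
import Groth.Agent.Lib.Helper3.EquidimStalk
/-!
# Helper library (helper3): the local rings of an irreducible closed subscheme.

* `mem_zeroLocus_ker_stalkMap_iff` : for a closed immersion `ι : Z ⟶ X`, a prime `b` of `O_{X,ι w}`
  contains the kernel of `O_{X,ι w} → O_{Z,w}` iff the corresponding generization lies in `ι(Z)`;
* `dim_stalk_closedImmersion_eq_height` : if `ι(Z) = closure {ξ}` then, in an affine chart `U`,
  `dim O_{Z,w} = ht(P_{ι w} / P_ξ)`.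
-/

set_option autoImplicit false
universe u
open CategoryTheory AlgebraicGeometry Function TopologicalSpace Topology

namespace Groth.Agent.Lib.helper3.SubStalk

open Groth.Agent.Lib.helper3.DvrFlat Groth.Agent.Lib.helper3.DimIneq
  Groth.Agent.Lib.helper3.FTField

theorem mem_zeroLocus_ker_stalkMap_iff {Z X : Scheme.{u}} (ι : Z ⟶ X) [IsClosedImmersion ι] (w : Z)
    (b : Spec (X.presheaf.stalk (ι w))) :
    b ∈ PrimeSpectrum.zeroLocus (RingHom.ker (ι.stalkMap w).hom : Set (X.presheaf.stalk (ι w))) ↔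
      X.fromSpecStalk (ι w) b ∈ Set.range ι := by
  rw [← range_comap_of_surjective _ _ (ι.stalkMap_surjective w)]
  constructor
  · rintro ⟨c, rfl⟩
    exact ⟨Z.fromSpecStalk w c, map_fromSpecStalk ι w c⟩
  · rintro ⟨t', ht'⟩
    have hsp : X.fromSpecStalk (ι w) b ⤳ ι w := by
      have : X.fromSpecStalk (ι w) b ∈ Set.range (X.fromSpecStalk (ι w)) := ⟨_, rfl⟩
      rw [Scheme.range_fromSpecStalk] at this
      exact this
    rw [← ht'] at hsp
    have hsp' : t' ⤳ w := ι.isEmbedding.isInducing.specializes_iff.mp hsp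
    obtain ⟨c, rfl⟩ := exists_prime_of_specializes w t' hsp'
    refine ⟨c, ?_⟩
    apply (X.fromSpecStalk (ι w)).isEmbedding.injective
    rw [← ht', map_fromSpecStalk]
    rfl

theorem primeIdealOf_fromSpecStalk {X : Scheme.{u}} {U : X.Opens} (hU : IsAffineOpen U) (x : X)
    (hx : x ∈ U) (b : Spec (X.presheaf.stalk x)) (hb : X.fromSpecStalk x b ∈ U) :
    (hU.primeIdealOf ⟨X.fromSpecStalk x b, hb⟩).asIdeal =
      b.asIdeal.comap (X.presheaf.germ U x hx).hom := by
  have h1 : X.fromSpecStalk x b = hU.fromSpec (Spec.map (X.presheaf.germ U x hx) b) := by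
    rw [← hU.fromSpecStalk_eq_fromSpecStalk hx]
    rfl
  have h2 := hU.fromSpec_primeIdealOf ⟨X.fromSpecStalk x b, hb⟩
  have h3 : hU.primeIdealOf ⟨X.fromSpecStalk x b, hb⟩ = Spec.map (X.presheaf.germ U x hx) b := by
    apply hU.fromSpec.isOpenEmbedding.injective
    rw [h2]
    exact h1
  rw [h3]
  rfl

theorem dim_stalk_closedImmersion_eq_height {Z X : Scheme.{u}} (ι : Z ⟶ X) [IsClosedImmersion ι]
    (w : Z) (ξ : X) (hr : Set.range ι = closure {ξ}) {U : X.Opens} (hU : IsAffineOpen U)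
    (hx : ι w ∈ U) (hξ : ξ ∈ U) :
    ringKrullDim (Z.presheaf.stalk w) =
      (((hU.primeIdealOf ⟨ι w, hx⟩).asIdeal.map
        (Ideal.Quotient.mk (hU.primeIdealOf ⟨ξ, hξ⟩).asIdeal)).height : WithBot ℕ∞) := by
  have hξx : ξ ⤳ ι w := by
    rw [specializes_iff_mem_closure, ← hr]; exact ⟨w, rfl⟩
  have hle : (hU.primeIdealOf ⟨ξ, hξ⟩).asIdeal ≤ (hU.primeIdealOf ⟨ι w, hx⟩).asIdeal :=
    (specializes_iff_primeIdealOf_le hU ξ (ι w) hξ hx).mp hξx
  letI : Algebra Γ(X, U) (X.presheaf.stalk (ι w)) :=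
    TopCat.Presheaf.algebra_section_stalk X.presheaf ⟨ι w, hx⟩
  haveI := hU.isLocalization_stalk ⟨ι w, hx⟩
  rw [← ringKrullDim_quotient_map_eq_height (S := X.presheaf.stalk (ι w))
    (hU.primeIdealOf ⟨ι w, hx⟩).asIdeal _ hle]
  have e := RingHom.quotientKerEquivOfSurjective (ι.stalkMap_surjective w)
  have hset : PrimeSpectrum.zeroLocus
      (RingHom.ker (ι.stalkMap w).hom : Set (X.presheaf.stalk (ι w))) =
      PrimeSpectrum.zeroLocus (((hU.primeIdealOf ⟨ξ, hξ⟩).asIdeal.map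
        (algebraMap Γ(X, U) (X.presheaf.stalk (ι w))) : Ideal (X.presheaf.stalk (ι w))) :
          Set (X.presheaf.stalk (ι w))) := by
    ext b
    refine (mem_zeroLocus_ker_stalkMap_iff ι w b).trans ?_
    rw [hr, ← specializes_iff_mem_closure]
    have hbU : X.fromSpecStalk (ι w) b ∈ U := by
      have : X.fromSpecStalk (ι w) b ∈ Set.range (X.fromSpecStalk (ι w)) := ⟨_, rfl⟩
      rw [Scheme.range_fromSpecStalk] at this
      exact (show X.fromSpecStalk (ι w) b ⤳ ι w from this).mem_open U.isOpen hx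
    rw [specializes_iff_primeIdealOf_le hU ξ _ hξ hbU,
      primeIdealOf_fromSpecStalk hU (ι w) hx b hbU, ← Ideal.map_le_iff_le_comap]
    rfl
  rw [← ringKrullDim_eq_of_ringEquiv e, ringKrullDim_quotient, ringKrullDim_quotient, hset]

end Groth.Agent.Lib.helper3.SubStalk
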