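import Mathlib
import Groth.Prelude.Def_EGA43
import Groth.Agent.S0402
import Groth.Agent.S0403
import Groth.Agent.Lib.Helper3.SubStalk
import Groth.Agent.Lib.Helper3.OpenAtNhds2
/-!
# Helper library (helper3): EGA IV 13.3.x — numerical criteria for an irreducible closed subscheme
`X' ⊆ X` over the closure `Y'` of its image.
-/

set_option autoImplicit false
universe u
open CategoryTheory AlgebraicGeometry Function TopologicalSpace Topology

namespace Groth.Agent.Lib.helper3.DimCriteria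

open Groth.Agent.Lib.helper3.DimIneq Groth.Agent.Lib.helper3.FTField
  Groth.Agent.Lib.helper3.FibreField Groth.Agent.Lib.helper3.DimFibre
  Groth.Agent.Lib.helper3.RelDim Groth.Agent.Lib.helper3.EquidimAt
  Groth.Agent.Lib.helper3.QFinTop Groth.Agent.Lib.helper3.EquidimIrr
  Groth.Agent.Lib.helper3.OpenAtDim Groth.Agent.Lib.helper3.SubStalk

theorem td_congr {X Y : Scheme.{u}} (f : X ⟶ Y) {x x' : X} (h : x = x') :
    td (f.residueFieldMap x).hom = td (f.residueFieldMap x').hom := by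
  subst h; rfl

theorem localDim_eq_of_range_eq {A B T : Type u} [TopologicalSpace A] [TopologicalSpace B]
    [TopologicalSpace T] (i : A → T) (j : B → T) (hi : IsEmbedding i) (hj : IsEmbedding j)
    (hr : Set.range i = Set.range j) (a : A) (b : B) (hab : i a = j b) :
    FlatMor.localDim A a = FlatMor.localDim B b := by
  have h1' : ∀ a : A, ∃ b : B, j b = i a := fun a => by
    have : i a ∈ Set.range j := hr ▸ Set.mem_range_self a
    exact this
  have h2' : ∀ b : B, ∃ a : A, i a = j b := fun b => by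
    have : j b ∈ Set.range i := hr.symm ▸ Set.mem_range_self b
    exact this
  choose k hk using h1'
  choose k' hk' using h2'
  have h1 := localDim_le_of_comp_eq i j k hi.isInducing hj.isInducing (funext hk) a
  have h2 := localDim_le_of_comp_eq j i k' hj.isInducing hi.isInducing (funext hk') b
  have hka : k a = b := hj.injective ((hk a).trans hab)
  have hkb : k' b = a := hi.injective ((hk' b).trans hab.symm)
  rw [hka] at h1
  rw [hkb] at h2
  exact le_antisymm h1 h2

theorem dim_eq_of_range_eq {A B T : Type u} [TopologicalSpace A] [TopologicalSpace B]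
    [TopologicalSpace T] (i : A → T) (j : B → T) (hi : IsInducing i) (hj : IsInducing j)
    (hr : Set.range i = Set.range j) : topologicalKrullDim A = topologicalKrullDim B :=
  le_antisymm (Groth.Agent.Lib.helper3.TopDim.dim_le_of_range_subset hi hj hr.le)
    (Groth.Agent.Lib.helper3.TopDim.dim_le_of_range_subset hj hi hr.ge)

theorem dim_stalk_closedImmersion_eq_height' {Z X : Scheme.{u}} (ι : Z ⟶ X) [IsClosedImmersion ι]
    (w : Z) (ξ : X) (hr : Set.range ι = closure {ξ}) (x : X) (hw : ι w = x) {U : X.Opens}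
    (hU : IsAffineOpen U) (hx : x ∈ U) (hξ : ξ ∈ U) :
    ringKrullDim (Z.presheaf.stalk w) =
      (((hU.primeIdealOf ⟨x, hx⟩).asIdeal.map
        (Ideal.Quotient.mk (hU.primeIdealOf ⟨ξ, hξ⟩).asIdeal)).height : WithBot ℕ∞) := by
  subst hw
  exact dim_stalk_closedImmersion_eq_height ι w ξ hr hU hx hξ

/-- the dimension of `closure {ξ} ∩ f⁻¹(f ξ)` is the transcendence degree of `κ(ξ)/κ(f ξ)`. -/
theorem dim_closure_inter_fibre {X Y : Scheme.{u}} (f : X ⟶ Y) [LocallyOfFiniteType f] (ξ : X) (E : ℕ)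
    (hE : td (f.residueFieldMap ξ).hom = (E : Cardinal.{u})) :
    topologicalKrullDim ↥(closure ({ξ} : Set X) ∩ f.base ⁻¹' {f ξ}) = (E : WithBot ℕ∞) := by
  have hE' : td (f.residueFieldMap (f.fiberι (f ξ) (f.asFiber ξ))).hom = (E : Cardinal.{u}) := by
    rw [td_congr f (f.fiberι_asFiber ξ)]; exact hE
  rw [← dim_closure_fibre_point f (f ξ) (f.asFiber ξ) E hE']
  apply dim_eq_of_range_eq (Subtype.val : ↥(closure ({ξ} : Set X) ∩ f.base ⁻¹' {f ξ}) → X)
    ((f.fiberι (f ξ)) ∘ (Subtype.val : ↥(closure ({f.asFiber ξ} : Set (f.fiber (f ξ)))) → _))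
    IsInducing.subtypeVal ((f.fiberι (f ξ)).isEmbedding.isInducing.comp IsInducing.subtypeVal)
  rw [Subtype.range_coe_subtype, Set.range_comp, Subtype.range_coe_subtype]
  ext t
  constructor
  · rintro ⟨htc, htf⟩
    have hmem : t ∈ Set.range (f.fiberι (f ξ)) := by
      rw [f.range_fiberι (f ξ)]; exact htf
    obtain ⟨t', rfl⟩ := hmem
    refine ⟨t', ?_, rfl⟩
    change t' ∈ closure ({f.asFiber ξ} : Set (f.fiber (f ξ)))
    rw [← specializes_iff_mem_closure, ← fiberι_specializes_iff f (f ξ), f.fiberι_asFiber ξ,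
      specializes_iff_mem_closure]
    exact htc
  · rintro ⟨t', ht', rfl⟩
    have ht'' : t' ∈ closure ({f.asFiber ξ} : Set (f.fiber (f ξ))) := ht'
    refine ⟨?_, fiberι_mem f (f ξ) t'⟩
    rw [← specializes_iff_mem_closure, ← fiberι_specializes_iff f (f ξ), f.fiberι_asFiber ξ] at ht''
    exact ht''.mem_closure


theorem comp_apply' {Z X Y : Scheme.{u}} (ι : Z ⟶ X) (f : X ⟶ Y) (w : Z) : (ι ≫ f) w = f (ι w) := rfl

/-- the local dimension of the fibre of a closed subscheme is at most that of the ambient fibre. -/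
theorem fibreDimAt_comp_le {Z X Y : Scheme.{u}} (ι : Z ⟶ X) [IsClosedImmersion ι] (f : X ⟶ Y) (w : Z) :
    FlatMor.fibreDimAt (ι ≫ f) w ≤ FlatMor.fibreDimAt f (ι w) := by
  have hmem : ∀ z : (ι ≫ f).fiber ((ι ≫ f) w), f (ι ((ι ≫ f).fiberι ((ι ≫ f) w) z)) = f (ι w) :=
    fun z => fiberι_mem (ι ≫ f) ((ι ≫ f) w) z
  have h := localDim_le_of_comp_eq
    (A := ↥((ι ≫ f).fiber ((ι ≫ f) w))) (B := ↥(f.fiber (f (ι w)))) (T := ↥X)
    (fun z => ι ((ι ≫ f).fiberι ((ι ≫ f) w) z)) (f.fiberι (f (ι w)))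
    (fun z => (f.fiberHomeo (f (ι w))).symm ⟨ι ((ι ≫ f).fiberι ((ι ≫ f) w) z), hmem z⟩)
    (ι.isEmbedding.isInducing.comp ((ι ≫ f).fiberι ((ι ≫ f) w)).isEmbedding.isInducing)
    (f.fiberι (f (ι w))).isEmbedding.isInducing
    (funext fun z => f.fiberι_fiberHomeo_symm (f (ι w)) ⟨_, hmem z⟩)
    ((ι ≫ f).asFiber w)
  have hk : (f.fiberHomeo (f (ι w))).symm
      ⟨ι ((ι ≫ f).fiberι ((ι ≫ f) w) ((ι ≫ f).asFiber w)), hmem _⟩ = f.asFiber (ι w) := by
    apply (f.fiberι (f (ι w))).isEmbedding.injective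
    rw [f.fiberι_fiberHomeo_symm, f.fiberι_asFiber]
    exact congrArg (fun t => ι t) ((ι ≫ f).fiberι_asFiber w)
  rw [hk] at h
  exact h


/-- the numerical core of EGA IV 13.3.x. -/
theorem core {X Y Z Y'' : Scheme.{u}} [IsLocallyNoetherian Y] (f : X ⟶ Y) [LocallyOfFiniteType f]
    (ι : Z ⟶ X) [IsClosedImmersion ι] (j : Y'' ⟶ Y) [IsClosedImmersion j] (ξ : X)
    (hrι : Set.range ι = closure {ξ}) (hrj : Set.range j = closure {f ξ}) (w : Z) (v : Y'')
    (hv : j v = f (ι w)) :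
    ∃ a c c0 b b' N E : ℕ,
      ringKrullDim (Z.presheaf.stalk w) = (a : WithBot ℕ∞) ∧
      ringKrullDim (Y''.presheaf.stalk v) = (c : WithBot ℕ∞) ∧
      ringKrullDim (Y.presheaf.stalk (f (ι w))) = (c0 : WithBot ℕ∞) ∧
      ringKrullDim ((f.fiber (f (ι w))).presheaf.stalk (f.asFiber (ι w))) = (b : WithBot ℕ∞) ∧
      ringKrullDim (((ι ≫ f).fiber ((ι ≫ f) w)).presheaf.stalk ((ι ≫ f).asFiber w)) =
        (b' : WithBot ℕ∞) ∧
      FlatMor.fibreDimAt f (ι w) = ((N + b : ℕ) : WithBot ℕ∞) ∧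
      FlatMor.fibreDimAt (ι ≫ f) w = ((N + b' : ℕ) : WithBot ℕ∞) ∧
      topologicalKrullDim ↥(closure ({ξ} : Set X) ∩ f.base ⁻¹' {f ξ}) = (E : WithBot ℕ∞) ∧
      c ≤ c0 ∧ b' ≤ b ∧ a + N ≤ c + E ∧ E ≤ N + b' := by
  haveI hXN : IsLocallyNoetherian X := LocallyOfFiniteType.isLocallyNoetherian f
  obtain ⟨V, hV, hyV, -⟩ := exists_isAffineOpen_mem_and_subset (x := f (ι w)) (U := ⊤) trivial
  obtain ⟨U, hU, hxU, e⟩ := exists_isAffineOpen_mem_and_subset (x := ι w) (U := f ⁻¹ᵁ V) hyV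
  haveI : IsNoetherianRing Γ(Y, V) := IsLocallyNoetherian.component_noetherian ⟨V, hV⟩
  haveI : IsNoetherianRing Γ(X, U) := IsLocallyNoetherian.component_noetherian ⟨U, hU⟩
  have hξx : ξ ⤳ ι w := by
    rw [specializes_iff_mem_closure, ← hrι]; exact ⟨w, rfl⟩
  have hξU : ξ ∈ U := hξx.mem_open U.isOpen hxU
  have hle : (hU.primeIdealOf ⟨ξ, hξU⟩).asIdeal ≤ (hU.primeIdealOf ⟨ι w, hxU⟩).asIdeal :=
    (specializes_iff_primeIdealOf_le hU ξ (ι w) hξU hxU).mp hξx
  have hle' : (hV.primeIdealOf ⟨f ξ, e hξU⟩).asIdeal ≤ (hV.primeIdealOf ⟨f (ι w), e hxU⟩).asIdeal :=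
    (specializes_iff_primeIdealOf_le hV _ _ (e hξU) (e hxU)).mp (hξx.map f.continuous)
  -- the numbers
  obtain ⟨N, b, hN, hb, hfd⟩ := fibreDimAt_eq_add f (ι w)
  obtain ⟨N', b', hN', hb', hfd'⟩ := fibreDimAt_eq_add (ι ≫ f) w
  have hNN : N' = N := by
    rw [td_comp_of_surjectiveOnStalks ι f w, hN] at hN'
    exact_mod_cast hN'.symm
  rw [hNN] at hfd'
  obtain ⟨E, -, hE, -, -⟩ := fibreDimAt_eq_add f ξ
  have ha := dim_stalk_closedImmersion_eq_height ι w ξ hrι hU hxU hξU
  have hc := dim_stalk_closedImmersion_eq_height' j v (f ξ) hrj (f (ι w)) hv hV (e hxU) (e hξU)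
  have hc0 := ringKrullDim_stalk_eq_height hV (f (ι w)) (e hxU)
  haveI := map_mk_isPrime _ _ hle
  haveI := map_mk_isPrime _ _ hle'
  obtain ⟨a, haa⟩ := ENat.ne_top_iff_exists.mp
    (Ideal.height_ne_top_of_isPrime (I := (hU.primeIdealOf ⟨ι w, hxU⟩).asIdeal.map
      (Ideal.Quotient.mk (hU.primeIdealOf ⟨ξ, hξU⟩).asIdeal)))
  obtain ⟨c, hcc⟩ := ENat.ne_top_iff_exists.mp
    (Ideal.height_ne_top_of_isPrime (I := (hV.primeIdealOf ⟨f (ι w), e hxU⟩).asIdeal.map
      (Ideal.Quotient.mk (hV.primeIdealOf ⟨f ξ, e hξU⟩).asIdeal)))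
  obtain ⟨c0, hcc0⟩ := ENat.ne_top_iff_exists.mp
    (Ideal.height_ne_top_of_isPrime (I := (hV.primeIdealOf ⟨f (ι w), e hxU⟩).asIdeal))
  have hcle := FTField.height_map_le _ _ hle'
  have key := dimension_inequality_specializes f hV hU e ξ (ι w) hξU hxU hle N E hN hE
  rw [← haa] at ha
  rw [← hcc] at hc
  rw [← hcc0] at hc0
  rw [← haa, ← hcc] at key
  rw [← hcc, ← hcc0] at hcle
  have key' : a + N ≤ c + E := by exact_mod_cast key
  have hcle' : c ≤ c0 := by exact_mod_cast hcle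
  -- b' ≤ b
  have hbb : b' ≤ b := by
    have h := fibreDimAt_comp_le ι f w
    rw [hfd, hfd'] at h
    have : N + b' ≤ N + b := by exact_mod_cast h
    omega
  -- upper semicontinuity
  have hEle : E ≤ N + b' := by
    have hξr : ξ ∈ Set.range ι := by rw [hrι]; exact subset_closure rfl
    obtain ⟨ξZ, hξZ⟩ := hξr
    have hsp : ξZ ⤳ w := by
      apply ι.isEmbedding.isInducing.specializes_iff.mp
      rw [hξZ]; exact hξx
    have hopen' := Groth.Agent.S0402.result (ι ≫ f) (N + b')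
    have hw' : w ∈ {z : Z | FlatMor.fibreDimAt (ι ≫ f) z ≤ ((N + b' : ℕ) : WithBot ℕ∞)} := by
      rw [Set.mem_ofPred_eq, hfd']
    have hmem := hsp.mem_open hopen' hw'
    obtain ⟨E', b'', hE', -, hfd''⟩ := fibreDimAt_eq_add (ι ≫ f) ξZ
    have hEE : E' = E := by
      rw [td_comp_of_surjectiveOnStalks ι f ξZ, td_congr f hξZ, hE] at hE'
      exact_mod_cast hE'.symm
    rw [Set.mem_ofPred_eq, hfd''] at hmem
    have : E' + b'' ≤ N + b' := by exact_mod_cast hmem
    omega
  exact ⟨a, c, c0, b, b', N, E, ha, hc, hc0, hb, hb', hfd, hfd', dim_closure_inter_fibre f ξ E hE,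
    hcle', hbb, key', hEle⟩


/-- common setup for S4985/S4986: the numbers attached to an irreducible closed subset. -/
theorem core_closeds {X Y : Scheme.{u}} [IsLocallyNoetherian Y] (f : X ⟶ Y)
    [LocallyOfFiniteType f] (X' : TopologicalSpace.Closeds X)
    (hirr : IsIrreducible (X' : Set X))
    (w : ↥(Scheme.IdealSheafData.vanishingIdeal X').subscheme)
    (v : ↥(Scheme.IdealSheafData.vanishingIdeal
      (⟨closure (f.base '' (X' : Set X)), isClosed_closure⟩ : TopologicalSpace.Closeds Y)).subscheme)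
    (hv : (Scheme.IdealSheafData.vanishingIdeal
      (⟨closure (f.base '' (X' : Set X)), isClosed_closure⟩ : TopologicalSpace.Closeds Y)).subschemeι.base v =
        f.base ((Scheme.IdealSheafData.vanishingIdeal X').subschemeι.base w))
    (η' : Y) (hη' : closure ({η'} : Set Y) = closure (f.base '' (X' : Set X))) :
    ∃ a c c0 b b' N E : ℕ,
      ringKrullDim ((Scheme.IdealSheafData.vanishingIdeal X').subscheme.presheaf.stalk w) =
        (a : WithBot ℕ∞) ∧
      ringKrullDim ((Scheme.IdealSheafData.vanishingIdeal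
        (⟨closure (f.base '' (X' : Set X)), isClosed_closure⟩ :
          TopologicalSpace.Closeds Y)).subscheme.presheaf.stalk v) = (c : WithBot ℕ∞) ∧
      ringKrullDim (Y.presheaf.stalk
        (f.base ((Scheme.IdealSheafData.vanishingIdeal X').subschemeι.base w))) = (c0 : WithBot ℕ∞) ∧
      ringKrullDim ((f.fiber (f.base ((Scheme.IdealSheafData.vanishingIdeal X').subschemeι.base w))).presheaf.stalk
        (f.asFiber ((Scheme.IdealSheafData.vanishingIdeal X').subschemeι.base w))) = (b : WithBot ℕ∞) ∧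
      ringKrullDim ((((Scheme.IdealSheafData.vanishingIdeal X').subschemeι ≫ f).fiber
        (((Scheme.IdealSheafData.vanishingIdeal X').subschemeι ≫ f).base w)).presheaf.stalk
          (((Scheme.IdealSheafData.vanishingIdeal X').subschemeι ≫ f).asFiber w)) =
        (b' : WithBot ℕ∞) ∧
      FlatMor.fibreDimAt f ((Scheme.IdealSheafData.vanishingIdeal X').subschemeι.base w) =
        ((N + b : ℕ) : WithBot ℕ∞) ∧
      FlatMor.fibreDimAt ((Scheme.IdealSheafData.vanishingIdeal X').subschemeι ≫ f) w =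
        ((N + b' : ℕ) : WithBot ℕ∞) ∧
      topologicalKrullDim ↥((X' : Set X) ∩ f.base ⁻¹' {η'}) = (E : WithBot ℕ∞) ∧
      c ≤ c0 ∧ b' ≤ b ∧ a + N ≤ c + E ∧ E ≤ N + b' := by
  obtain ⟨ξ, hξ⟩ := QuasiSober.sober hirr X'.isClosed
  have hξc : closure ({ξ} : Set X) = (X' : Set X) := hξ
  have hrι : Set.range (Scheme.IdealSheafData.vanishingIdeal X').subschemeι = closure {ξ} := by
    rw [Scheme.IdealSheafData.range_subschemeι, Scheme.IdealSheafData.coe_support_vanishingIdeal,
      hξc]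
  have hcl : closure ({f ξ} : Set Y) = closure (f.base '' (X' : Set X)) := by
    rw [← hξc, closure_image_closure f.continuous, Set.image_singleton]
  have hrj : Set.range (Scheme.IdealSheafData.vanishingIdeal
      (⟨closure (f.base '' (X' : Set X)), isClosed_closure⟩ :
        TopologicalSpace.Closeds Y)).subschemeι = closure {f ξ} := by
    rw [Scheme.IdealSheafData.range_subschemeι, Scheme.IdealSheafData.coe_support_vanishingIdeal,
      hcl]
    rfl
  have hη : η' = f ξ := by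
    have : Inseparable η' (f ξ) := by
      rw [inseparable_iff_closure_eq, hη', hcl]
    exact this.eq
  subst hη
  have := core f (Scheme.IdealSheafData.vanishingIdeal X').subschemeι
    (Scheme.IdealSheafData.vanishingIdeal
      (⟨closure (f.base '' (X' : Set X)), isClosed_closure⟩ :
        TopologicalSpace.Closeds Y)).subschemeι ξ hrι hrj w v hv
  rw [hξc] at this
  exact this


/-- EGA IV 13.3.x (= S4985). -/
theorem dim_subscheme_stalk_eq_iff {X Y : Scheme.{u}} [IsLocallyNoetherian Y] (f : X ⟶ Y)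
    [LocallyOfFiniteType f] [QuasiCompact f] (x : X) (X' : TopologicalSpace.Closeds X) (hirr : IsIrreducible (X' : Set X))
    (hx : x ∈ X') (w : ↥(Scheme.IdealSheafData.vanishingIdeal X').subscheme)
    (hw : (Scheme.IdealSheafData.vanishingIdeal X').subschemeι.base w = x)
    (v : ↥(Scheme.IdealSheafData.vanishingIdeal
      (⟨closure (f.base '' (X' : Set X)), isClosed_closure⟩ : TopologicalSpace.Closeds Y)).subscheme)
    (hv : (Scheme.IdealSheafData.vanishingIdeal
      (⟨closure (f.base '' (X' : Set X)), isClosed_closure⟩ : TopologicalSpace.Closeds Y)).subschemeι.base v = f.base x)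
    (η' : Y) (hη' : closure ({η'} : Set Y) = closure (f.base '' (X' : Set X))) :
    letI ιX := (Scheme.IdealSheafData.vanishingIdeal X').subschemeι
    letI dA := ringKrullDim (Y.presheaf.stalk (f.base x))
    letI dB := ringKrullDim (X.presheaf.stalk x)
    letI dA' := ringKrullDim ((Scheme.IdealSheafData.vanishingIdeal
      (⟨closure (f.base '' (X' : Set X)), isClosed_closure⟩ : TopologicalSpace.Closeds Y)).subscheme.presheaf.stalk v)
    letI dB' := ringKrullDim ((Scheme.IdealSheafData.vanishingIdeal X').subscheme.presheaf.stalk w)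
    letI dBk := ringKrullDim ((f.fiber (f.base x)).presheaf.stalk (f.asFiber x))
    letI dB'k := ringKrullDim (((ιX ≫ f).fiber ((ιX ≫ f).base w)).presheaf.stalk ((ιX ≫ f).asFiber w))
    letI e' := topologicalKrullDim ↥((X' : Set X) ∩ f.base ⁻¹' {η'})
    (dB' = dA + dBk ↔
      (dA' = dA ∧ dB'k = dBk ∧ FlatMor.fibreDimAt (ιX ≫ f) w = e' ∧ dB' = dA' + dB'k)) := by
  subst hw
  obtain ⟨a, c, c0, b, b', N, E, ha, hc, hc0, hb, hb', hfd, hfd', hE, h1, h2, h3, h4⟩ :=
    core_closeds f X' hirr w v hv η' hη'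
  rw [ha, hc, hc0, hb, hb', hfd', hE]
  norm_cast
  omega

theorem localDim_inter_fibre_eq {Z X Y : Scheme.{u}} (ι : Z ⟶ X) [IsClosedImmersion ι] (f : X ⟶ Y)
    (w : Z) (S : Set X) (hS : Set.range ι = S)
    (hmem : ι w ∈ S ∩ f.base ⁻¹' {f.base (ι w)}) :
    FlatMor.localDim ↥(S ∩ f.base ⁻¹' {f.base (ι w)}) ⟨ι w, hmem⟩ =
      FlatMor.fibreDimAt (ι ≫ f) w := by
  apply localDim_eq_of_range_eq (T := ↥X)
    (Subtype.val : ↥(S ∩ f.base ⁻¹' {f.base (ι w)}) → X)
    (fun z : ↥((ι ≫ f).fiber ((ι ≫ f) w)) => ι ((ι ≫ f).fiberι ((ι ≫ f) w) z))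
    IsEmbedding.subtypeVal
    (ι.isEmbedding.comp ((ι ≫ f).fiberι ((ι ≫ f) w)).isEmbedding)
  · rw [Subtype.range_coe_subtype]
    ext t
    constructor
    · rintro ⟨htS, htf⟩
      rw [← hS] at htS
      obtain ⟨t', rfl⟩ := htS
      have : t' ∈ Set.range ((ι ≫ f).fiberι ((ι ≫ f) w)) := by
        rw [(ι ≫ f).range_fiberι]; exact htf
      obtain ⟨z, rfl⟩ := this
      exact ⟨z, rfl⟩
    · rintro ⟨z, rfl⟩
      refine ⟨hS ▸ ⟨_, rfl⟩, ?_⟩
      exact fiberι_mem (ι ≫ f) ((ι ≫ f) w) z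
  · exact (congrArg (fun t => ι t) ((ι ≫ f).fiberι_asFiber w)).symm

/-- EGA IV 13.3.x (= S4986). -/
theorem conditions_iff_dim_eq {X Y : Scheme.{u}} [IsLocallyNoetherian Y] (f : X ⟶ Y)
    [LocallyOfFiniteType f] [QuasiCompact f] (x : X) (X' : TopologicalSpace.Closeds X) (hirr : IsIrreducible (X' : Set X))
    (hx : x ∈ X') (w : ↥(Scheme.IdealSheafData.vanishingIdeal X').subscheme)
    (hw : (Scheme.IdealSheafData.vanishingIdeal X').subschemeι.base w = x)
    (v : ↥(Scheme.IdealSheafData.vanishingIdeal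
      (⟨closure (f.base '' (X' : Set X)), isClosed_closure⟩ : TopologicalSpace.Closeds Y)).subscheme)
    (hv : (Scheme.IdealSheafData.vanishingIdeal
      (⟨closure (f.base '' (X' : Set X)), isClosed_closure⟩ : TopologicalSpace.Closeds Y)).subschemeι.base v = f.base x)
    (η' : Y) (hη' : closure ({η'} : Set Y) = closure (f.base '' (X' : Set X))) :
    letI ιX := (Scheme.IdealSheafData.vanishingIdeal X').subschemeι
    letI dA := ringKrullDim (Y.presheaf.stalk (f.base x))
    letI dB := ringKrullDim (X.presheaf.stalk x)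
    letI dA' := ringKrullDim ((Scheme.IdealSheafData.vanishingIdeal
      (⟨closure (f.base '' (X' : Set X)), isClosed_closure⟩ : TopologicalSpace.Closeds Y)).subscheme.presheaf.stalk v)
    letI dB' := ringKrullDim ((Scheme.IdealSheafData.vanishingIdeal X').subscheme.presheaf.stalk w)
    letI dBk := ringKrullDim ((f.fiber (f.base x)).presheaf.stalk (f.asFiber x))
    letI dB'k := ringKrullDim (((ιX ≫ f).fiber ((ιX ≫ f).base w)).presheaf.stalk ((ιX ≫ f).asFiber w))
    letI e' := topologicalKrullDim ↥((X' : Set X) ∩ f.base ⁻¹' {η'})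
    dB = dA + dBk →
      ((dA' = dA ∧ FlatMor.localDim ↥((X' : Set X) ∩ f.base ⁻¹' {f.base x}) ⟨x, ⟨hx, rfl⟩⟩ = FlatMor.fibreDimAt f x ∧
        FlatMor.fibreDimAt (ιX ≫ f) w = e' ∧ dB' = dA' + dB'k) ↔ dB' = dB) := by
  subst hw
  obtain ⟨a, c, c0, b, b', N, E, ha, hc, hc0, hb, hb', hfd, hfd', hE, h1, h2, h3, h4⟩ :=
    core_closeds f X' hirr w v hv η' hη'
  intro hB
  rw [localDim_inter_fibre_eq (Scheme.IdealSheafData.vanishingIdeal X').subschemeι f w (X' : Set X)
    (by rw [Scheme.IdealSheafData.range_subschemeι,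
      Scheme.IdealSheafData.coe_support_vanishingIdeal]), hB, ha, hc, hc0, hb, hb', hfd, hfd', hE]
  norm_cast
  omega

end Groth.Agent.Lib.helper3.DimCriteria
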