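import Mathlib
import Groth.Agent.Lib.Helper11.SpecDim
/-!
# Helper library (helper3): topological toolbox for Krull dimensions of subspaces of quasi-sober
spaces (subspaces of the form closed ∩ generization-stable, chains of specializations, images
under `Subtype.val`).
-/

set_option autoImplicit false
universe u
open Function

namespace Groth.Agent.Lib.helper3.JacDim

section top

variable {X : Type*} [TopologicalSpace X]

/-- the intersection of a closed set and a set stable under generization is quasi-sober. -/
theorem quasiSober_of_eq_inter [QuasiSober X] (A C L : Set X) (hC : IsClosed C)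
    (hL : ∀ w ∈ L, ∀ c : X, c ⤳ w → c ∈ L) (hA : A = C ∩ L) : QuasiSober ↥A := by
  subst hA
  constructor
  intro T hT hTc
  have hT' : IsIrreducible (Subtype.val '' T : Set X) :=
    hT.image _ continuous_subtype_val.continuousOn
  obtain ⟨c, hc⟩ := QuasiSober.sober hT'.closure isClosed_closure
  obtain ⟨x, hx⟩ := hT.nonempty
  have hxc : c ⤳ x.1 := by
    rw [specializes_iff_mem_closure, hc.def]
    exact subset_closure ⟨x, hx, rfl⟩
  have hcL : c ∈ L := hL x.1 x.2.2 c hxc
  have hcC : c ∈ C := by
    have hsub : closure (Subtype.val '' T : Set X) ⊆ C := by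
      apply closure_minimal _ hC
      rintro _ ⟨y, -, rfl⟩
      exact y.2.1
    apply hsub
    rw [← hc.def]
    exact subset_closure (Set.mem_singleton c)
  refine ⟨⟨c, hcC, hcL⟩, ?_⟩
  change closure _ = T
  rw [Topology.IsInducing.subtypeVal.closure_eq_preimage_closure_image, Set.image_singleton,
    hc.def, ← Topology.IsInducing.subtypeVal.closure_eq_preimage_closure_image, hTc.closure_eq]

theorem stable_setOf_specializes (x : X) : ∀ w ∈ {t : X | t ⤳ x}, ∀ c : X, c ⤳ w → c ∈ {t : X | t ⤳ x} :=
  fun _ hw _ hc => hc.trans hw

theorem stable_of_isOpen {U : Set X} (hU : IsOpen U) : ∀ w ∈ U, ∀ c : X, c ⤳ w → c ∈ U :=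
  fun _ hw _ hc => hc.mem_open hU hw

/-- chains for the specialization preorder of a space. -/
abbrev SpecSeries (T : Type*) [TopologicalSpace T] := @LTSeries T (specializationPreorder T)

/-- a chain of specializations in a subspace `A` all of whose members lie in the quasi-sober
subspace `B` bounds the dimension of `B` from below. -/
theorem length_le_dim_of_forall_mem [T0Space X] {A B : Set X} [QuasiSober ↥B] (l : SpecSeries ↥A)
    (h : ∀ i, (l i).1 ∈ B) : (l.length : WithBot ℕ∞) ≤ topologicalKrullDim ↥B := by
  rw [Groth.Agent.Lib.helper11.SpecDim.topologicalKrullDim_eq_krullDim]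
  let l' : SpecSeries ↥B :=
    { length := l.length
      toFun := fun i => ⟨(l i).1, h i⟩
      step := fun i => by
        have h5 : @LT.lt _ (specializationPreorder ↥A).toLT (l i.castSucc) (l i.succ) := l.step i
        have h6 : (l i.succ) ⤳ (l i.castSucc) ∧ ¬ (l i.castSucc) ⤳ (l i.succ) := h5
        rw [subtype_specializes_iff, subtype_specializes_iff] at h6
        change (⟨(l i.succ).1, h _⟩ : ↥B) ⤳ ⟨(l i.castSucc).1, h _⟩ ∧
          ¬ (⟨(l i.castSucc).1, h _⟩ : ↥B) ⤳ ⟨(l i.succ).1, h _⟩
        rw [subtype_specializes_iff, subtype_specializes_iff]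
        exact h6 }
  exact @Order.LTSeries.length_le_krullDim _ (specializationPreorder ↥B) l'

/-- all members of a chain are generizations of its head and specializations of its last. -/
theorem ltSeries_specializes_head {A : Set X} (l : SpecSeries ↥A) (i : Fin (l.length + 1)) :
    (l i).1 ⤳ l.head.1 := by
  letI : Preorder ↥A := specializationPreorder ↥A
  have h3 : l.head ≤ l i := LTSeries.head_le l i
  have h4 : l i ⤳ l.head := h3
  rw [subtype_specializes_iff] at h4
  exact h4

theorem ltSeries_last_specializes {A : Set X} (l : SpecSeries ↥A) (i : Fin (l.length + 1)) :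
    l.last.1 ⤳ (l i).1 := by
  letI : Preorder ↥A := specializationPreorder ↥A
  have h3 : l i ≤ l.last := LTSeries.monotone l (Fin.le_last i)
  have h4 : l.last ⤳ l i := h3
  rw [subtype_specializes_iff] at h4
  exact h4

/-- the dimension of a quasi-sober subspace is bounded by `N` as soon as all its chains of
specializations have length at most `N`. -/
theorem dim_le_of_forall_ltSeries [T0Space X] {A : Set X} [QuasiSober ↥A] (N : WithBot ℕ∞)
    (h : ∀ l : SpecSeries ↥A, (l.length : WithBot ℕ∞) ≤ N) : topologicalKrullDim ↥A ≤ N := by
  rw [Groth.Agent.Lib.helper11.SpecDim.topologicalKrullDim_eq_krullDim]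
  unfold Order.krullDim
  exact iSup_le h

/-- a natural number below the dimension of a quasi-sober subspace is the length of a chain. -/
theorem exists_ltSeries_of_le_dim [T0Space X] {A : Set X} [QuasiSober ↥A] (k : ℕ)
    (h : (k : WithBot ℕ∞) ≤ topologicalKrullDim ↥A) : ∃ l : SpecSeries ↥A, l.length = k := by
  rw [Groth.Agent.Lib.helper11.SpecDim.topologicalKrullDim_eq_krullDim] at h
  exact (@Order.le_krullDim_iff _ (specializationPreorder ↥A) k).mp h

end top

theorem add_le_of_forall_nat (n : ℕ) (a b : WithBot ℕ∞)
    (h : ∀ k : ℕ, (k : WithBot ℕ∞) ≤ a → ((n + k : ℕ) : WithBot ℕ∞) ≤ b) :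
    (n : WithBot ℕ∞) + a ≤ b := by
  induction a using WithBot.recBotCoe with
  | bot => simp
  | coe a =>
    induction a using ENat.recTopCoe with
    | top =>
      have hb : b = ⊤ := by
        rw [eq_top_iff]
        induction b using WithBot.recBotCoe with
        | bot =>
          have := h 0 (by exact le_top)
          simp at this
        | coe b =>
          have hb' : b = ⊤ := by
            rw [ENat.eq_top_iff_forall_ge]
            intro m
            have := h m le_top
            have h2 : ((n + m : ℕ) : ℕ∞) ≤ b := by exact_mod_cast this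
            exact le_trans (by exact_mod_cast Nat.le_add_left m n) h2
          rw [hb']
          rfl
      rw [hb]
      exact le_top
    | coe k =>
      have := h k le_rfl
      exact_mod_cast this

theorem dim_image_val {X : Type*} [TopologicalSpace X] {Y : Set X} (s : Set ↥Y) :
    topologicalKrullDim ↥s = topologicalKrullDim ↥(Subtype.val '' s : Set X) :=
  IsHomeomorph.topologicalKrullDim_eq _
    (Topology.IsEmbedding.subtypeVal.homeomorphImage s).isHomeomorph

theorem dim_le_of_subset {X : Type*} [TopologicalSpace X] {A B : Set X} (h : A ⊆ B) :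
    topologicalKrullDim ↥A ≤ topologicalKrullDim ↥B :=
  (Topology.IsEmbedding.inclusion h).isInducing.topologicalKrullDim_le

theorem dim_congr {X : Type*} [TopologicalSpace X] {A B : Set X} (h : A = B) :
    topologicalKrullDim ↥A = topologicalKrullDim ↥B := by
  subst h; rfl

end Groth.Agent.Lib.helper3.JacDim
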