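import Mathlib
import Groth.Agent.Lib.Helper3.DimIneqSch
/-!
# Helper library (helper3): residue transcendence degree of `Spec.map φ` in ring terms

* `primeIdealOf_top_Spec` : the prime of `Γ(Spec S, ⊤)` attached to `x : Spec S`;
* `td_residueFieldMap_Spec` : `trdeg κ(x)/κ(φ⁻¹ x)` computed on `R/φ⁻¹x → S/x`.
-/

set_option autoImplicit false
universe u
open CategoryTheory AlgebraicGeometry Function

namespace Groth.Agent.Lib.helper3.DimIneq

theorem primeIdealOf_top_Spec (S : CommRingCat.{u}) (x : Spec S) :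
    (isAffineOpen_top (Spec S)).primeIdealOf ⟨x, trivial⟩ = Spec.map (Scheme.ΓSpecIso S).hom x := by
  apply (isAffineOpen_top (Spec S)).fromSpec.isOpenEmbedding.injective
  rw [(isAffineOpen_top (Spec S)).fromSpec_primeIdealOf ⟨x, trivial⟩, IsAffineOpen.fromSpec_top,
    Scheme.isoSpec_Spec_inv, ← Scheme.Hom.comp_apply, ← Spec.map_comp, Iso.inv_hom_id, Spec.map_id]
  rfl

theorem td_residueFieldMap_Spec {R S : Type u} [CommRing R] [CommRing S] (φ : R →+* S)
    (x : PrimeSpectrum S) :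
    td ((Spec.map (CommRingCat.ofHom φ)).residueFieldMap x).hom =
      td (Ideal.quotientMap x.asIdeal φ le_rfl) := by
  set f := Spec.map (CommRingCat.ofHom φ) with hf
  have hU := isAffineOpen_top (Spec (CommRingCat.of S))
  have hV := isAffineOpen_top (Spec (CommRingCat.of R))
  have e : (⊤ : (Spec (CommRingCat.of S)).Opens) ≤ f ⁻¹ᵁ ⊤ := le_top
  rw [← td_quotientMap_eq f hV hU e x trivial]
  set eS := (Scheme.ΓSpecIso (CommRingCat.of S)).commRingCatIsoToRingEquiv with heS
  set eR := (Scheme.ΓSpecIso (CommRingCat.of R)).commRingCatIsoToRingEquiv with heR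
  set P := (hU.primeIdealOf ⟨x, trivial⟩).asIdeal with hP
  have hPx : P = x.asIdeal.comap eS.toRingHom := by
    rw [hP]
    exact congrArg PrimeSpectrum.asIdeal (primeIdealOf_top_Spec (CommRingCat.of S) x)
  have hnat : eS.toRingHom.comp (f.appLE ⊤ ⊤ e).hom = φ.comp eR.toRingHom := by
    have h1 : f.appLE ⊤ ⊤ e = f.appTop := by
      rw [Scheme.Hom.appLE, Scheme.Hom.appTop]
      simp
    have h2 := Scheme.ΓSpecIso_naturality (CommRingCat.ofHom φ)
    rw [h1]
    exact congrArg CommRingCat.Hom.hom h2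
  haveI : IsDomain (S ⧸ x.asIdeal) := Ideal.Quotient.isDomain _
  have hcomapR : (P.comap (f.appLE ⊤ ⊤ e).hom) = (x.asIdeal.comap φ).comap eR.toRingHom := by
    rw [hPx, Ideal.comap_comap, Ideal.comap_comap, hnat]
  set β : (Γ(Spec (CommRingCat.of S), ⊤) ⧸ P) →+* (S ⧸ x.asIdeal) :=
    Ideal.quotientMap x.asIdeal eS.toRingHom (le_of_eq hPx) with hβ
  set γ : (Γ(Spec (CommRingCat.of R), ⊤) ⧸ P.comap (f.appLE ⊤ ⊤ e).hom) →+*
      (R ⧸ x.asIdeal.comap φ) :=
    Ideal.quotientMap (x.asIdeal.comap φ) eR.toRingHom (le_of_eq hcomapR) with hγ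
  have hβinj : Injective β := Ideal.quotientMap_injective' (le_of_eq hPx.symm)
  have hγinj : Injective γ := Ideal.quotientMap_injective' (le_of_eq hcomapR.symm)
  have hβsurj : Surjective β := Ideal.quotientMap_surjective eS.surjective
  have hγsurj : Surjective γ := Ideal.quotientMap_surjective eR.surjective
  haveI : P.IsPrime := (hU.primeIdealOf ⟨x, trivial⟩).isPrime
  haveI : IsDomain (Γ(Spec (CommRingCat.of S), ⊤) ⧸ P) := Ideal.Quotient.isDomain _
  haveI : (P.comap (f.appLE ⊤ ⊤ e).hom).IsPrime := Ideal.comap_isPrime _ _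
  haveI : IsDomain (Γ(Spec (CommRingCat.of R), ⊤) ⧸ P.comap (f.appLE ⊤ ⊤ e).hom) :=
    Ideal.Quotient.isDomain _
  refine td_eq_of_square _ β γ _ ?_ Ideal.quotientMap_injective hβinj hγinj
    Ideal.quotientMap_injective (isAlgebraic_of_surjective β hβsurj)
    (isAlgebraic_of_surjective γ hγsurj)
  apply Ideal.Quotient.ringHom_ext
  ext a
  exact congrArg (Ideal.Quotient.mk x.asIdeal) (RingHom.congr_fun hnat a)

end Groth.Agent.Lib.helper3.DimIneq
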