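import Mathlib
import Groth.Agent.S0402
import Groth.Agent.Lib.Helper3.FibreDimBC
import Groth.Agent.Lib.Helper5.FibreDimLocal

/-!
# Retrocompactness of the loci `{x | dim_x X_{f x} ≤ n}` for `f` locally of finite presentation
(helper3)
-/

set_option autoImplicit false
universe u
open CategoryTheory AlgebraicGeometry CategoryTheory.Limits TensorProduct

namespace Groth.Agent.Lib.helper3.FibreDimRetro

open Groth.Agent.Lib.helper3 Groth.Agent.Lib.helper5.FibreDimLocal

attribute [local instance] Algebra.TensorProduct.rightAlgebra in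
/-- a finitely presented algebra descends to a Noetherian ring, as a pullback square of spectra. -/
theorem exists_noetherian_model (A B : Type u) [CommRing A] [CommRing B] [Algebra A B]
    [Algebra.FinitePresentation A B] :
    ∃ (A₀ B₀ : Type u) (_ : CommRing A₀) (_ : CommRing B₀) (_ : IsNoetherianRing A₀)
      (_ : IsNoetherianRing B₀) (φ₀ : A₀ →+* B₀) (α : A₀ →+* A) (β : B₀ →+* B),
      φ₀.FiniteType ∧
      IsPullback (Spec.map (CommRingCat.ofHom β)) (Spec.map (CommRingCat.ofHom (algebraMap A B)))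
        (Spec.map (CommRingCat.ofHom φ₀)) (Spec.map (CommRingCat.ofHom α)) := by
  set P := Algebra.Presentation.ofFinitePresentation A B with hP
  set A₀ := P.Core with hA₀
  set B₀ := P.ModelOfHasCoeffs A₀ with hB₀
  haveI : Algebra.FiniteType ℤ A₀ := inferInstance
  haveI : IsNoetherianRing A₀ := Algebra.FiniteType.isNoetherianRing ℤ A₀
  haveI : Algebra.FinitePresentation A₀ B₀ := inferInstance
  haveI : Algebra.FiniteType A₀ B₀ := inferInstance
  haveI : IsNoetherianRing B₀ := Algebra.FiniteType.isNoetherianRing A₀ B₀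
  set e := P.tensorModelOfHasCoeffsEquiv A₀ with he
  let β : B₀ →ₐ[A₀] B := (e.toAlgHom.restrictScalars A₀).comp
    (Algebra.TensorProduct.includeRight : B₀ →ₐ[A₀] A ⊗[A₀] B₀)
  letI algB₀B : Algebra B₀ B := β.toRingHom.toAlgebra
  haveI : IsScalarTower A₀ B₀ B := IsScalarTower.of_algebraMap_eq' β.comp_algebraMap.symm
  haveI : Algebra.IsPushout A₀ A B₀ B :=
    Algebra.IsPushout.of_equiv (R := A₀) (R' := A) (S := B₀) (S' := A ⊗[A₀] B₀) e rfl
  have hpo := CommRingCat.isPushout_of_isPushout A₀ A B₀ B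
  have hpb := isPullback_SpecMap_of_isPushout _ _ _ _ hpo
  refine ⟨A₀, B₀, inferInstance, inferInstance, inferInstance, inferInstance,
    algebraMap A₀ B₀, algebraMap A₀ A, algebraMap B₀ B, ?_, hpb.flip⟩
  rw [RingHom.finiteType_algebraMap]
  infer_instance

theorem isCompact_spec {A B : CommRingCat.{u}} (φ : A ⟶ B) (hφ : φ.hom.FinitePresentation)
    (n : ℕ) : IsCompact {x : Spec B | FlatMor.fibreDimAt (Spec.map φ) x ≤ n} := by
  algebraize [φ.hom]
  haveI : Algebra.FinitePresentation A B := hφ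
  obtain ⟨A₀, B₀, _, _, _, _, φ₀, α, β, hft, hpb⟩ := exists_noetherian_model A B
  haveI : LocallyOfFiniteType (Spec.map (CommRingCat.ofHom φ₀)) := by
    rw [HasRingHomProperty.Spec_iff (P := @LocallyOfFiniteType)]; exact hft
  have hφ' : CommRingCat.ofHom (algebraMap A B) = φ := rfl
  rw [hφ'] at hpb
  have hset : {x : Spec B | FlatMor.fibreDimAt (Spec.map φ) x ≤ n} =
      (Spec.map (CommRingCat.ofHom β)) ⁻¹'
        {z | FlatMor.fibreDimAt (Spec.map (CommRingCat.ofHom φ₀)) z ≤ n} := by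
    ext x
    simp only [Set.mem_ofPred_eq, Set.mem_preimage]
    rw [FibreDimBC.fibreDimAt_eq_of_isPullback _ _ _ _ hpb x]
  rw [hset]
  have hopen := Groth.Agent.S0402.result (Spec.map (CommRingCat.ofHom φ₀)) n
  exact QuasiCompact.isCompact_preimage _ hopen
    (TopologicalSpace.NoetherianSpace.isCompact _)

theorem isCompact_inter_affine {X S : Scheme.{u}} (f : X ⟶ S) [LocallyOfFinitePresentation f]
    (n : ℕ) {V : X.Opens} {W : S.Opens} (hV : IsAffineOpen V) (hW : IsAffineOpen W)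
    (hVW : V ≤ f ⁻¹ᵁ W) :
    IsCompact ({x : X | FlatMor.fibreDimAt f x ≤ n} ∩ (V : Set X)) := by
  have hfp : (f.appLE W V hVW).hom.FinitePresentation := f.finitePresentation_appLE hW hV hVW
  have hc := isCompact_spec (f.appLE W V hVW) hfp n
  have hw : hV.fromSpec ≫ f = Spec.map (f.appLE W V hVW) ≫ hW.fromSpec :=
    (IsAffineOpen.SpecMap_appLE_fromSpec f hW hV hVW).symm
  have hcomm : ∀ z, FlatMor.fibreDimAt (Spec.map (f.appLE W V hVW)) z =
      FlatMor.fibreDimAt f (hV.fromSpec z) := fun z =>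
    fibreDimAt_eq_of_comm hV.fromSpec hW.fromSpec (Spec.map (f.appLE W V hVW)) f hw
      hV.fromSpec.isOpenEmbedding hW.fromSpec.isOpenEmbedding.injective z
  have hset : {x : X | FlatMor.fibreDimAt f x ≤ n} ∩ (V : Set X) =
      hV.fromSpec '' {z | FlatMor.fibreDimAt (Spec.map (f.appLE W V hVW)) z ≤ n} := by
    ext x
    constructor
    · rintro ⟨hx1, hx2⟩
      rw [← hV.range_fromSpec] at hx2
      obtain ⟨z, rfl⟩ := hx2
      refine ⟨z, ?_, rfl⟩
      change FlatMor.fibreDimAt (Spec.map (f.appLE W V hVW)) z ≤ n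
      rw [hcomm]
      exact hx1
    · rintro ⟨z, hz, rfl⟩
      refine ⟨?_, ?_⟩
      · change FlatMor.fibreDimAt f (hV.fromSpec z) ≤ n
        rw [← hcomm]
        exact hz
      · rw [← hV.range_fromSpec]
        exact ⟨z, rfl⟩
  rw [hset]
  exact hc.image hV.fromSpec.continuous

theorem isRetrocompact_fibreDimAt_le {X S : Scheme.{u}} (f : X ⟶ S)
    [LocallyOfFinitePresentation f] (n : ℕ) :
    IsRetrocompact {x : X | FlatMor.fibreDimAt f x ≤ n} := by
  intro U hUc hUo
  have hcover : ∀ x ∈ U, ∃ V : X.Opens, x ∈ V ∧ (V : Set X) ⊆ U ∧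
      IsCompact ({x : X | FlatMor.fibreDimAt f x ≤ n} ∩ (V : Set X)) := by
    intro x hx
    obtain ⟨W, hW, hxW, -⟩ := exists_isAffineOpen_mem_and_subset (x := f x) (U := ⊤) trivial
    obtain ⟨V, hV, hxV, hVsub⟩ := exists_isAffineOpen_mem_and_subset (x := x)
      (U := f ⁻¹ᵁ W ⊓ ⟨U, hUo⟩) ⟨hxW, hx⟩
    exact ⟨V, hxV, fun a ha => (hVsub ha).2,
      isCompact_inter_affine f n hV hW (fun a ha => (hVsub ha).1)⟩
  choose! V hV1 hV2 hV3 using hcover
  obtain ⟨t, htU, htfin, ht⟩ := hUc.elim_finite_subcover_image (b := U)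
    (c := fun x => (V x : Set X)) (fun x _ => (V x).2)
    (fun x hx => Set.mem_biUnion hx (hV1 x hx))
  have hset : {x : X | FlatMor.fibreDimAt f x ≤ n} ∩ U =
      ⋃ i ∈ t, ({x : X | FlatMor.fibreDimAt f x ≤ n} ∩ (V i : Set X)) := by
    ext x
    simp only [Set.mem_inter_iff, Set.mem_iUnion, exists_prop]
    constructor
    · rintro ⟨h1, h2⟩
      obtain ⟨i, hi, hxi⟩ := Set.mem_iUnion₂.mp (ht h2)
      exact ⟨i, hi, h1, hxi⟩
    · rintro ⟨i, hi, h1, hxi⟩
      exact ⟨h1, hV2 i (htU hi) hxi⟩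
  rw [hset]
  exact htfin.isCompact_biUnion (fun i hi => hV3 i (htU hi))

end Groth.Agent.Lib.helper3.FibreDimRetro
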