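import Mathlib
import Groth.Agent.Lib.Helper3.FibreDimRetro
import Groth.Agent.Lib.Helper3.FibreDimBC

/-!
# Bridge between `κ(p) ⊗ S` and the scheme-theoretic fibre of `Spec S ⟶ Spec R` (helper3)
-/

set_option autoImplicit false
universe u
open CategoryTheory AlgebraicGeometry CategoryTheory.Limits TensorProduct

namespace Groth.Agent.Lib.helper3.FibreRingBridge

open Groth.Agent.Lib.helper3 Groth.Agent.Lib.helper5.FibreDimLocal

variable (R S : Type u) [CommRing R] [CommRing S] [Algebra R S]

/-- the point of the fibre ring over `q`. -/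
noncomputable def fibrePoint (q : PrimeSpectrum S) :
    PrimeSpectrum ((q.asIdeal.under R).Fiber S) :=
  PrimeSpectrum.preimageHomeomorphFiber R S (PrimeSpectrum.comap (algebraMap R S) q) ⟨q, rfl⟩

theorem fibrePoint_comap (q : PrimeSpectrum S) :
    (fibrePoint R S q).asIdeal.comap (Algebra.TensorProduct.includeRight.toRingHom) = q.asIdeal := by
  have h := (PrimeSpectrum.preimageHomeomorphFiber R S
    (PrimeSpectrum.comap (algebraMap R S) q)).symm_apply_apply ⟨q, rfl⟩
  have h2 := congrArg (fun z => z.1.asIdeal) h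
  exact h2

theorem eq_fibrePoint (q : PrimeSpectrum S) (Q : PrimeSpectrum ((q.asIdeal.under R).Fiber S))
    (hQ : Q.asIdeal.comap (Algebra.TensorProduct.includeRight.toRingHom) = q.asIdeal) :
    Q = fibrePoint R S q := by
  apply (PrimeSpectrum.preimageHomeomorphFiber R S
    (PrimeSpectrum.comap (algebraMap R S) q)).symm.injective
  apply Subtype.ext
  apply PrimeSpectrum.ext
  rw [fibrePoint, Homeomorph.symm_apply_apply]
  exact hQ

theorem localDim_fibrePoint (q : PrimeSpectrum S) :
    FlatMor.localDim (PrimeSpectrum ((q.asIdeal.under R).Fiber S)) (fibrePoint R S q) =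
      FlatMor.fibreDimAt (Spec.map (CommRingCat.ofHom (algebraMap R S))) q := by
  rw [fibreDimAt_eq_localDim_preimage]
  exact (FibreDimBC.localDim_homeo (PrimeSpectrum.preimageHomeomorphFiber R S
    (PrimeSpectrum.comap (algebraMap R S) q)) ⟨q, rfl⟩).symm

theorem setOf_eq (n : WithBot ℕ∞) :
    {q : PrimeSpectrum S | ∀ Q : PrimeSpectrum ((q.asIdeal.under R).Fiber S),
        Q.asIdeal.comap (Algebra.TensorProduct.includeRight.toRingHom) = q.asIdeal →
          FlatMor.localDim (PrimeSpectrum ((q.asIdeal.under R).Fiber S)) Q ≤ n} =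
      {q : Spec (CommRingCat.of S) |
        FlatMor.fibreDimAt (Spec.map (CommRingCat.ofHom (algebraMap R S))) q ≤ n} := by
  ext q
  simp only [Set.mem_ofPred_eq]
  constructor
  · intro h
    have := h (fibrePoint R S q) (fibrePoint_comap R S q)
    rwa [localDim_fibrePoint] at this
  · intro h Q hQ
    rw [eq_fibrePoint R S q Q hQ, localDim_fibrePoint]
    exact h

theorem isOpen_and_isCompact_setOf_fibre_localDim_le [Algebra.FinitePresentation R S] (n : ℕ) :
    IsOpen {q : PrimeSpectrum S | ∀ Q : PrimeSpectrum ((q.asIdeal.under R).Fiber S),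
        Q.asIdeal.comap (Algebra.TensorProduct.includeRight.toRingHom) = q.asIdeal →
          FlatMor.localDim (PrimeSpectrum ((q.asIdeal.under R).Fiber S)) Q ≤ (n : WithBot ℕ∞)} ∧
      IsCompact {q : PrimeSpectrum S | ∀ Q : PrimeSpectrum ((q.asIdeal.under R).Fiber S),
        Q.asIdeal.comap (Algebra.TensorProduct.includeRight.toRingHom) = q.asIdeal →
          FlatMor.localDim (PrimeSpectrum ((q.asIdeal.under R).Fiber S)) Q ≤ (n : WithBot ℕ∞)} := by
  rw [setOf_eq R S (n : WithBot ℕ∞)]
  haveI : LocallyOfFinitePresentation (Spec.map (CommRingCat.ofHom (algebraMap R S))) := by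
    rw [HasRingHomProperty.Spec_iff (P := @LocallyOfFinitePresentation)]
    change (algebraMap R S).FinitePresentation
    rw [RingHom.finitePresentation_algebraMap]
    infer_instance
  refine ⟨Groth.Agent.S0402.result _ n, ?_⟩
  have h := FibreDimRetro.isRetrocompact_fibreDimAt_le
    (Spec.map (CommRingCat.ofHom (algebraMap R S))) n isCompact_univ isOpen_univ
  rwa [Set.inter_univ] at h

end Groth.Agent.Lib.helper3.FibreRingBridge
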