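import Mathlib
import Groth.Agent.Lib.Helper11.GenFree9

/-!
# Points over a neighbourhood of the generic point are specializations of points of the generic
fibre (helper3)

* `exists_ne_zero_forall_prime_generization`: `R` domain, `S` of finite type over `R`: there is
  `a ≠ 0` such that every prime `Q` of `S` not containing `a` contains a prime lying over `0`.
-/

set_option autoImplicit false
universe u
open CategoryTheory CategoryTheory.Limits AlgebraicGeometry TensorProduct

namespace Groth.Agent.Lib.helper3.GenPts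

attribute [local instance] Algebra.TensorProduct.rightAlgebra in
theorem exists_ne_zero_forall_prime_generization {R S : Type u} [CommRing R] [IsDomain R]
    [CommRing S] [Algebra R S] [Algebra.FiniteType R S] :
    ∃ a : R, a ≠ 0 ∧ ∀ Q : PrimeSpectrum S, algebraMap R S a ∉ Q.asIdeal →
      ∃ Q' : PrimeSpectrum S, Q' ≤ Q ∧ Q'.asIdeal.comap (algebraMap R S) = ⊥ := by
  obtain ⟨a, ha, -, hfree, -, -⟩ :=
    Groth.Agent.Lib.helper11.GenFree.generic_freeness_full (R := R) S S
  refine ⟨a, ha, ?_⟩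
  let A := Localization.Away a
  let T := A ⊗[R] S
  haveI : Module.Free A T := hfree
  have hle : Submonoid.powers a ≤ nonZeroDivisors R :=
    powers_le_nonZeroDivisors_of_noZeroDivisors ha
  haveI : IsDomain A := IsLocalization.isDomain_localization hle
  have hinjA : Function.Injective (algebraMap R A) := IsLocalization.injective A hle
  haveI : IsLocalization (Algebra.algebraMapSubmonoid S (Submonoid.powers a)) T :=
    IsLocalization.tensorRight (R := R) (S := S) A (Submonoid.powers a)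
  -- nonzero elements of `R` are nonzerodivisors on `T`
  have hreg : ∀ r : R, r ≠ 0 → algebraMap R T r ∈ nonZeroDivisors T := by
    intro r hr
    rw [mem_nonZeroDivisors_iff_right]
    intro t ht
    have h1 : algebraMap R A r • t = 0 := by
      have h0 : r • t = algebraMap R T r * t := Algebra.smul_def r t
      have h00 : algebraMap R A r • t = r • t := algebraMap_smul A r t
      exact h00.trans (h0.trans ((mul_comm _ _).trans ht))
    have h2 : algebraMap R A r ≠ 0 := fun h => hr (hinjA (by rw [h, map_zero]))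
    exact (smul_eq_zero.mp h1).resolve_left h2
  intro Q hQ
  have hdisj : Disjoint (Algebra.algebraMapSubmonoid S (Submonoid.powers a) : Set S)
      (Q.asIdeal : Set S) := by
    rw [Set.disjoint_left]
    rintro _ ⟨_, ⟨n, rfl⟩, rfl⟩ hmem
    rw [map_pow] at hmem
    exact hQ (Q.isPrime.mem_of_pow_mem n hmem)
  set QT : Ideal T := Q.asIdeal.map (algebraMap S T) with hQT
  haveI hQTp : QT.IsPrime := IsLocalization.isPrime_of_isPrime_disjoint
    (Algebra.algebraMapSubmonoid S (Submonoid.powers a)) T _ Q.isPrime hdisj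
  have hQTc : QT.comap (algebraMap S T) = Q.asIdeal :=
    IsLocalization.under_map_of_isPrime_disjoint
      (Algebra.algebraMapSubmonoid S (Submonoid.powers a)) T Q.isPrime hdisj
  obtain ⟨P, hPmin, hPle⟩ := Ideal.exists_minimalPrimes_le (bot_le : (⊥ : Ideal T) ≤ QT)
  haveI := hPmin.1.1
  refine ⟨⟨P.comap (algebraMap S T), inferInstance⟩, ?_, ?_⟩
  · change P.comap (algebraMap S T) ≤ Q.asIdeal
    rw [← hQTc]
    exact Ideal.comap_mono hPle
  · rw [eq_bot_iff]
    intro r hr
    rw [Ideal.mem_comap, Ideal.mem_comap, ← IsScalarTower.algebraMap_apply] at hr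
    by_contra hr0
    exact notMem_nonZeroDivisors_of_mem_mem_minimalPrimes hr hPmin (hreg r hr0)


theorem exists_notMem_forall_prime_generization {R S : Type u} [CommRing R] [CommRing S]
    [Algebra R S] [Algebra.FiniteType R S] (p : Ideal R) [p.IsPrime]
    (hp : ∀ q : PrimeSpectrum R, p ≤ q.asIdeal) :
    ∃ a : R, a ∉ p ∧ ∀ Q : PrimeSpectrum S, algebraMap R S a ∉ Q.asIdeal →
      ∃ Q' : PrimeSpectrum S, Q' ≤ Q ∧ Q'.asIdeal.comap (algebraMap R S) = p := by
  set pS : Ideal S := p.map (algebraMap R S) with hpS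
  haveI : Algebra.FiniteType R (S ⧸ pS) :=
    Algebra.FiniteType.of_surjective (Ideal.Quotient.mkₐ R pS) (Ideal.Quotient.mkₐ_surjective _ _)
  haveI : Algebra.FiniteType (R ⧸ p) (S ⧸ pS) :=
    Algebra.FiniteType.of_restrictScalars_finiteType R _ _
  obtain ⟨a', ha', h⟩ := exists_ne_zero_forall_prime_generization (R := R ⧸ p) (S := S ⧸ pS)
  obtain ⟨a, rfl⟩ := Ideal.Quotient.mk_surjective a'
  refine ⟨a, fun h => ha' (Ideal.Quotient.eq_zero_iff_mem.mpr h), fun Q hQ => ?_⟩
  have hpQ : pS ≤ Q.asIdeal := by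
    rw [hpS, Ideal.map_le_iff_le_comap]
    exact hp (PrimeSpectrum.comap (algebraMap R S) Q)
  have hqmem : Q ∈ Set.range (PrimeSpectrum.comap (Ideal.Quotient.mk pS)) := by
    rw [range_comap_of_surjective _ _ Ideal.Quotient.mk_surjective, Ideal.mk_ker]
    exact hpQ
  obtain ⟨Qb, hQb⟩ := hqmem
  have hQb' : algebraMap (R ⧸ p) (S ⧸ pS) (Ideal.Quotient.mk p a) ∉ Qb.asIdeal := by
    intro hmem
    apply hQ
    rw [← hQb]
    exact hmem
  obtain ⟨Qb', hle, hbot⟩ := h Qb hQb'
  refine ⟨PrimeSpectrum.comap (Ideal.Quotient.mk pS) Qb', ?_, ?_⟩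
  · rw [← hQb]
    intro s hs
    exact hle hs
  · ext r
    have h1 : r ∈ (Qb'.asIdeal.comap (algebraMap (R ⧸ p) (S ⧸ pS))).comap (Ideal.Quotient.mk p) ↔
        r ∈ p := by
      rw [hbot, Ideal.mem_comap, Ideal.mem_bot, Ideal.Quotient.eq_zero_iff_mem]
    rw [← h1]
    rfl


/-- affine-local version -/
theorem exists_open_forall_generization_affine {X Y : Scheme.{u}} (f : X ⟶ Y)
    [LocallyOfFiniteType f] [IrreducibleSpace Y] {U : Y.Opens} (hU : IsAffineOpen U)
    (hηU : genericPoint Y ∈ U) {W : X.Opens} (hW : IsAffineOpen W) (e : W ≤ f ⁻¹ᵁ U) :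
    ∃ V : Y.Opens, genericPoint Y ∈ V ∧
      ∀ x ∈ W, f x ∈ V → ∃ x' : X, x' ⤳ x ∧ f x' = genericPoint Y := by
  let φ := f.appLE U W e
  letI : Algebra Γ(Y, U) Γ(X, W) := φ.hom.toAlgebra
  haveI : Algebra.FiniteType Γ(Y, U) Γ(X, W) :=
    HasRingHomProperty.appLE (P := @LocallyOfFiniteType) f inferInstance ⟨U, hU⟩ ⟨W, hW⟩ e
  let p0 : PrimeSpectrum Γ(Y, U) := hU.primeIdealOf ⟨genericPoint Y, hηU⟩
  have hp0 : hU.fromSpec p0 = genericPoint Y := hU.fromSpec_primeIdealOf ⟨genericPoint Y, hηU⟩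
  have hcompat : Spec.map φ ≫ hU.fromSpec = hW.fromSpec ≫ f :=
    IsAffineOpen.SpecMap_appLE_fromSpec f hU hW e
  have hmin : ∀ q : PrimeSpectrum Γ(Y, U), p0.asIdeal ≤ q.asIdeal := by
    intro q
    have h1 : genericPoint Y ⤳ hU.fromSpec q := genericPoint_specializes _
    rw [← hp0] at h1
    have h2 := (hU.fromSpec.isOpenEmbedding.isInducing.specializes_iff).mp h1
    exact (PrimeSpectrum.le_iff_specializes _ _).mpr h2
  obtain ⟨a, hap, hgen⟩ := exists_notMem_forall_prime_generization (R := Γ(Y, U))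
    (S := Γ(X, W)) p0.asIdeal hmin
  refine ⟨Y.basicOpen a, ?_, ?_⟩
  · have h1 : p0 ∈ (hU.fromSpec ⁻¹ᵁ Y.basicOpen a : (Spec Γ(Y, U)).Opens) := by
      rw [hU.fromSpec_preimage_basicOpen]
      exact hap
    rw [← hp0]
    exact h1
  · intro x hxW hfx
    let Q : PrimeSpectrum Γ(X, W) := hW.primeIdealOf ⟨x, hxW⟩
    have hQ : hW.fromSpec Q = x := hW.fromSpec_primeIdealOf ⟨x, hxW⟩
    have hfQ : ∀ Q₁ : PrimeSpectrum Γ(X, W),
        hU.fromSpec (PrimeSpectrum.comap φ.hom Q₁) = f (hW.fromSpec Q₁) := by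
      intro Q₁
      have h1 := congrArg (fun g => g.base Q₁) hcompat
      simp only [Scheme.Hom.comp_base, TopCat.comp_app] at h1
      exact h1
    have haQ : algebraMap Γ(Y, U) Γ(X, W) a ∉ Q.asIdeal := by
      have h1 : PrimeSpectrum.comap φ.hom Q ∈
          (hU.fromSpec ⁻¹ᵁ Y.basicOpen a : (Spec Γ(Y, U)).Opens) := by
        change hU.fromSpec (PrimeSpectrum.comap φ.hom Q) ∈ Y.basicOpen a
        rw [hfQ, hQ]
        exact hfx
      rw [hU.fromSpec_preimage_basicOpen] at h1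
      exact h1
    obtain ⟨Q', hQ'le, hQ'p⟩ := hgen Q haQ
    refine ⟨hW.fromSpec Q', ?_, ?_⟩
    · rw [← hQ]
      exact ((PrimeSpectrum.le_iff_specializes _ _).mp hQ'le).map hW.fromSpec.continuous
    · rw [← hfQ, ← hp0]
      congr 1
      exact PrimeSpectrum.ext hQ'p

/-- `f` of finite type, `Y` irreducible: over a neighbourhood of the generic point every point of
`X` is a specialization of a point of the generic fibre. -/
theorem exists_open_forall_generization {X Y : Scheme.{u}} (f : X ⟶ Y) [LocallyOfFiniteType f]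
    [QuasiCompact f] [IrreducibleSpace Y] :
    ∃ V : Y.Opens, genericPoint Y ∈ V ∧
      ∀ x : X, f x ∈ V → ∃ x' : X, x' ⤳ x ∧ f x' = genericPoint Y := by
  obtain ⟨_, ⟨U, hU : IsAffineOpen U, rfl⟩, hηU, -⟩ :=
    Y.isBasis_affineOpens.exists_subset_of_mem_open (Set.mem_univ (genericPoint Y)) isOpen_univ
  obtain ⟨s, hs, hsU⟩ := isCompact_iff_finite_and_eq_biUnion_affineOpens.mp
    (f.isCompact_preimage hU.isCompact : IsCompact (X := X) (f ⁻¹ᵁ U))
  have hle : ∀ W : X.affineOpens, W ∈ s → (W : X.Opens) ≤ f ⁻¹ᵁ U := by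
    intro W hW
    rw [hsU]
    exact le_iSup₂ (f := fun (i : X.affineOpens) (_ : i ∈ s) => (i : X.Opens)) W hW
  have hchoice : ∀ W : X.affineOpens, ∃ V : Y.Opens, genericPoint Y ∈ V ∧
      (W ∈ s → ∀ x ∈ (W : X.Opens), f x ∈ V → ∃ x' : X, x' ⤳ x ∧ f x' = genericPoint Y) := by
    intro W
    by_cases hW : W ∈ s
    · obtain ⟨V, hηV, hV⟩ := exists_open_forall_generization_affine f hU hηU W.2 (hle W hW)
      exact ⟨V, hηV, fun _ => hV⟩
    · exact ⟨⊤, trivial, fun h => absurd h hW⟩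
  choose V hηV hV using hchoice
  refine ⟨⟨(U : Set Y) ∩ ⋂ W ∈ s, (V W : Set Y),
    U.isOpen.inter (hs.isOpen_biInter fun W _ => (V W).isOpen)⟩, ⟨hηU, ?_⟩, ?_⟩
  · exact Set.mem_iInter₂.mpr fun W _ => hηV W
  · rintro x ⟨hxU, hxV⟩
    have hx : x ∈ f ⁻¹ᵁ U := hxU
    rw [hsU] at hx
    obtain ⟨W, hW⟩ := TopologicalSpace.Opens.mem_iSup.mp hx
    obtain ⟨hWs, hxW⟩ := TopologicalSpace.Opens.mem_iSup.mp hW
    exact hV W hWs x hxW (Set.mem_iInter₂.mp hxV W hWs)

end Groth.Agent.Lib.helper3.GenPts
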