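import Mathlib
import Groth.Agent.Lib.Helper11.GenFree9

/-!
# The image of a dominant morphism of finite type contains a nonempty open (helper3)

* `exists_ne_zero_forall_prime_lift`: `R ⊆ S` domains, `S` of finite type over `R`: there is
  `a ≠ 0` in `R` such that every prime of `R` not containing `a` lifts to `S`.
-/

set_option autoImplicit false
universe u
open CategoryTheory CategoryTheory.Limits AlgebraicGeometry TensorProduct

namespace Groth.Agent.Lib.helper3.GenImage

theorem exists_ne_zero_forall_prime_lift {R S : Type u} [CommRing R] [IsDomain R] [CommRing S]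
    [IsDomain S] [Algebra R S] [Algebra.FiniteType R S]
    (hinj : Function.Injective (algebraMap R S)) :
    ∃ a : R, a ≠ 0 ∧ ∀ q : PrimeSpectrum R, a ∉ q.asIdeal →
      ∃ Q : PrimeSpectrum S, PrimeSpectrum.comap (algebraMap R S) Q = q := by
  obtain ⟨a, ha, -, hfree, -, -⟩ :=
    Groth.Agent.Lib.helper11.GenFree.generic_freeness_full (R := R) S S
  refine ⟨a, ha, ?_⟩
  let A := Localization.Away a
  let T := A ⊗[R] S
  let L := FractionRing S
  have haL : IsUnit (algebraMap R L a) := by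
    rw [IsScalarTower.algebraMap_apply R S L]
    refine IsUnit.mk0 _ ?_
    rw [Ne, map_eq_zero_iff _ (IsFractionRing.injective S L)]
    exact fun h => ha (hinj (by rw [h, map_zero]))
  let g₁ : A →ₐ[R] L := IsLocalization.liftAlgHom (M := Submonoid.powers a)
    (f := Algebra.ofId R L) (by
      rintro ⟨_, n, rfl⟩
      simpa using haL.pow n)
  let g : T →ₐ[R] L := Algebra.TensorProduct.lift g₁ (IsScalarTower.toAlgHom R S L)
    (fun _ _ => Commute.all _ _)
  haveI : Nontrivial T := g.toRingHom.domain_nontrivial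
  haveI : Module.Free A T := hfree
  have hsurj : Function.Surjective (PrimeSpectrum.comap (algebraMap A T)) :=
    PrimeSpectrum.comap_surjective_of_faithfullyFlat
  intro q hq
  have hqmem : q ∈ Set.range (PrimeSpectrum.comap (algebraMap R A)) := by
    rw [PrimeSpectrum.localization_away_comap_range A a]
    exact hq
  obtain ⟨qA, hqA⟩ := hqmem
  obtain ⟨𝔔, h𝔔⟩ := hsurj qA
  refine ⟨PrimeSpectrum.comap (Algebra.TensorProduct.includeRight : S →ₐ[R] T).toRingHom 𝔔, ?_⟩
  rw [← hqA, ← h𝔔]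
  ext r
  simp only [PrimeSpectrum.comap_asIdeal, Ideal.mem_comap]
  have : (Algebra.TensorProduct.includeRight : S →ₐ[R] T).toRingHom (algebraMap R S r) =
      algebraMap A T (algebraMap R A r) := by
    change (Algebra.TensorProduct.includeRight : S →ₐ[R] T) (algebraMap R S r) = _
    rw [AlgHom.commutes, ← IsScalarTower.algebraMap_apply]
  rw [this]


/-- If `x₀` lies over the generic point of the irreducible scheme `Y` and `f` is locally of finite
type, then `f (closure {x₀})` contains a nonempty open subset of `Y`. -/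
theorem exists_open_subset_image_closure {X Y : Scheme.{u}} (f : X ⟶ Y) [LocallyOfFiniteType f]
    [IrreducibleSpace Y] (x₀ : X) (hx₀ : f x₀ = genericPoint Y) :
    ∃ V : Y.Opens, (V : Set Y).Nonempty ∧ (V : Set Y) ⊆ f '' closure {x₀} := by
  obtain ⟨_, ⟨U, hU : IsAffineOpen U, rfl⟩, hηU, -⟩ :=
    Y.isBasis_affineOpens.exists_subset_of_mem_open (Set.mem_univ (genericPoint Y)) isOpen_univ
  obtain ⟨_, ⟨W, hW : IsAffineOpen W, rfl⟩, hxW, hWU⟩ :=
    X.isBasis_affineOpens.exists_subset_of_mem_open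
      (show x₀ ∈ (f ⁻¹ᵁ U : Set X) from by
        change f x₀ ∈ U
        rw [hx₀]; exact hηU) (f ⁻¹ᵁ U).isOpen
  have e : W ≤ f ⁻¹ᵁ U := hWU
  let φ := f.appLE U W e
  letI : Algebra Γ(Y, U) Γ(X, W) := φ.hom.toAlgebra
  haveI : Algebra.FiniteType Γ(Y, U) Γ(X, W) :=
    HasRingHomProperty.appLE (P := @LocallyOfFiniteType) f inferInstance ⟨U, hU⟩ ⟨W, hW⟩ e
  let P : PrimeSpectrum Γ(X, W) := hW.primeIdealOf ⟨x₀, hxW⟩
  let p : Ideal Γ(Y, U) := P.asIdeal.under Γ(Y, U)
  haveI : p.IsPrime := inferInstance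
  have hcompat : Spec.map φ ≫ hU.fromSpec = hW.fromSpec ≫ f :=
    IsAffineOpen.SpecMap_appLE_fromSpec f hU hW e
  have hP : hW.fromSpec P = x₀ := hW.fromSpec_primeIdealOf ⟨x₀, hxW⟩
  have hp : hU.fromSpec ⟨p, inferInstance⟩ = genericPoint Y := by
    have h1 := congrArg (fun g => g.base P) hcompat
    simp only [Scheme.Hom.comp_base, TopCat.comp_app] at h1
    rw [← hx₀, ← hP]
    exact h1
  have hmin : ∀ q : PrimeSpectrum Γ(Y, U), p ≤ q.asIdeal := by
    intro q
    have h1 : genericPoint Y ⤳ hU.fromSpec q := genericPoint_specializes _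
    rw [← hp] at h1
    have h2 := (hU.fromSpec.isOpenEmbedding.isInducing.specializes_iff).mp h1
    exact (PrimeSpectrum.le_iff_specializes _ _).mpr h2
  haveI : Algebra.FiniteType Γ(Y, U) (Γ(X, W) ⧸ P.asIdeal) :=
    Algebra.FiniteType.of_surjective (Ideal.Quotient.mkₐ Γ(Y, U) P.asIdeal)
      (Ideal.Quotient.mkₐ_surjective _ _)
  haveI : Algebra.FiniteType (Γ(Y, U) ⧸ p) (Γ(X, W) ⧸ P.asIdeal) :=
    Algebra.FiniteType.of_restrictScalars_finiteType Γ(Y, U) _ _
  obtain ⟨a', ha', hlift⟩ := exists_ne_zero_forall_prime_lift (R := Γ(Y, U) ⧸ p)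
    (S := Γ(X, W) ⧸ P.asIdeal) (FaithfulSMul.algebraMap_injective _ _)
  obtain ⟨a, rfl⟩ := Ideal.Quotient.mk_surjective a'
  have hap : a ∉ p := fun h => ha' (Ideal.Quotient.eq_zero_iff_mem.mpr h)
  refine ⟨Y.basicOpen a, ⟨genericPoint Y, ?_⟩, ?_⟩
  · have h1 : (⟨p, inferInstance⟩ : PrimeSpectrum Γ(Y, U)) ∈
        (hU.fromSpec ⁻¹ᵁ Y.basicOpen a : (Spec Γ(Y, U)).Opens) := by
      rw [hU.fromSpec_preimage_basicOpen]
      exact hap
    rw [← hp]
    exact h1
  · intro y hy
    have hyU : y ∈ U := Y.basicOpen_le a hy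
    let q : PrimeSpectrum Γ(Y, U) := hU.primeIdealOf ⟨y, hyU⟩
    have hq : hU.fromSpec q = y := hU.fromSpec_primeIdealOf ⟨y, hyU⟩
    have haq : a ∉ q.asIdeal := by
      have h1 : q ∈ (hU.fromSpec ⁻¹ᵁ Y.basicOpen a : (Spec Γ(Y, U)).Opens) := by
        change hU.fromSpec q ∈ Y.basicOpen a
        rw [hq]; exact hy
      rw [hU.fromSpec_preimage_basicOpen] at h1
      exact h1
    -- the prime of the quotient
    have hqmem : q ∈ Set.range (PrimeSpectrum.comap (Ideal.Quotient.mk p)) := by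
      rw [range_comap_of_surjective _ _ Ideal.Quotient.mk_surjective,
        Ideal.mk_ker]
      exact hmin q
    obtain ⟨q', hq'⟩ := hqmem
    have haq' : Ideal.Quotient.mk p a ∉ q'.asIdeal := by
      intro h
      apply haq
      rw [← hq']
      exact h
    obtain ⟨Q', hQ'⟩ := hlift q' haq'
    let Q : PrimeSpectrum Γ(X, W) := PrimeSpectrum.comap (Ideal.Quotient.mk P.asIdeal) Q'
    have hPQ : P ≤ Q := by
      intro s hs
      change Ideal.Quotient.mk P.asIdeal s ∈ Q'.asIdeal
      rw [Ideal.Quotient.eq_zero_iff_mem.mpr hs]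
      exact zero_mem _
    have hQq : PrimeSpectrum.comap φ.hom Q = q := by
      rw [← hq', ← hQ']
      ext r
      simp only [PrimeSpectrum.comap_asIdeal, Ideal.mem_comap]
      rfl
    refine ⟨hW.fromSpec Q, ?_, ?_⟩
    · rw [← hP]
      have h1 : P ⤳ Q := (PrimeSpectrum.le_iff_specializes _ _).mp hPQ
      exact (specializes_iff_mem_closure.mp (h1.map hW.fromSpec.continuous))
    · have h1 := congrArg (fun g => g.base Q) hcompat
      simp only [Scheme.Hom.comp_base, TopCat.comp_app] at h1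
      rw [← hq, ← hQq]
      exact h1.symm

end Groth.Agent.Lib.helper3.GenImage
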