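import Mathlib
import Groth.Agent.Lib.Helper3.GenImage
import Groth.Agent.Lib.Helper3.OpenAtNhds
import Groth.Agent.Lib.Helper3.DimBetweenSch
import Groth.Agent.Lib.Helper28.QCClosure

/-!
# The fibre dimension is constant near the generic point (helper3)

`generic_fibre_dim`: `f : X ⟶ Y` of finite type, `Y` irreducible, generic fibre of dimension `n`:
over a nonempty open of `Y` all fibres have dimension `n`.
-/

set_option autoImplicit false
universe u
open CategoryTheory CategoryTheory.Limits AlgebraicGeometry TensorProduct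

namespace Groth.Agent.Lib.helper3.GenericFibreDim

open Groth.Agent.Lib.helper3.QFinTop Groth.Agent.Lib.helper3.OpenAtDim
  Groth.Agent.Lib.helper3.GenImage Groth.Agent.Lib.helper3.DimFibre

theorem generic_fibre_dim {X Y : Scheme.{u}} (f : X ⟶ Y) [IrreducibleSpace ↑Y]
    [LocallyOfFiniteType f] [QuasiCompact f] (n : ℕ)
    (h : topologicalKrullDim ↑(f.fiber (genericPoint ↑Y)) = n) :
    ∃ V : Y.Opens, (V : Set ↑Y).Nonempty ∧ ∀ y ∈ V, topologicalKrullDim ↑(f.fiber y) = n := by
  set η := genericPoint Y with hη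
  have hnat : ∀ x : X, ∃ m : ℕ, FlatMor.fibreDimAt f x = (m : WithBot ℕ∞) := by
    intro x
    obtain ⟨a, b, -, -, h⟩ := fibreDimAt_eq_add f x
    exact ⟨a + b, h⟩
  have hne : ∃ x : X, f x = η := by
    by_contra hcon
    push Not at hcon
    haveI : IsEmpty (f.fiber η) := ⟨fun z => hcon (f.fiberι η z) (fiberι_mem f η z)⟩
    rw [Groth.Agent.Lib.helper3.DimIneq.topologicalKrullDim_eq_bot_of_isEmpty] at h
    exact WithBot.bot_ne_coe h
  obtain ⟨x₀, N, hx₀, hN, hdim⟩ := exists_fibreDimAt_eq_dim f η hne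
  have hNn : N = n := by
    rw [h] at hdim
    exact_mod_cast hdim.symm
  subst hNn
  -- upper bound
  set Z : Set X := {x | FlatMor.fibreDimAt f x ≤ (N : WithBot ℕ∞)}ᶜ with hZ
  have hZcl : IsClosed Z := (Groth.Agent.S0402.result f N).isClosed_compl
  have hηZ : η ∉ closure (f '' Z) := by
    intro hmem
    obtain ⟨z, hzZ, hsp⟩ :=
      Groth.Agent.Lib.helper28.QCClosure.exists_specializes_of_mem_closure_image f Z hZcl η hmem
    have hfz : f z = η := ((genericPoint_specializes (f z)).antisymm hsp).eq.symm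
    apply hzZ
    change FlatMor.fibreDimAt f z ≤ (N : WithBot ℕ∞)
    obtain ⟨zt, rfl⟩ : z ∈ Set.range (f.fiberι η) := by
      rw [f.range_fiberι η]; exact hfz
    rw [← Groth.Agent.S0403.localDim_fiber_eq f η (f.fiberι η zt) hfz zt rfl, ← h]
    exact Groth.Agent.Lib.helper3.TopDim.localDim_le_dim zt
  -- lower bound
  have hW : ∀ x ∈ closure ({x₀} : Set X), (N : WithBot ℕ∞) ≤ FlatMor.fibreDimAt f x := by
    intro x hx
    obtain ⟨m, hm⟩ := hnat x
    rw [hm]
    by_contra hlt
    push Not at hlt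
    have hmN : m < N := by exact_mod_cast hlt
    have hopen := Groth.Agent.S0402.result f m
    have hxm : x ∈ {x | FlatMor.fibreDimAt f x ≤ (m : WithBot ℕ∞)} := by
      rw [Set.mem_ofPred_eq, hm]
    have hsp : x₀ ⤳ x := specializes_iff_mem_closure.mpr hx
    have hx₀m := hsp.mem_open hopen hxm
    rw [Set.mem_ofPred_eq, hN] at hx₀m
    have : N ≤ m := by exact_mod_cast hx₀m
    omega
  obtain ⟨VB, hVBne, hVB⟩ := exists_open_subset_image_closure f x₀ hx₀
  refine ⟨⟨(closure (f '' Z))ᶜ, isClosed_closure.isOpen_compl⟩ ⊓ VB, ⟨η, hηZ, ?_⟩, ?_⟩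
  · obtain ⟨y, hy⟩ := hVBne
    exact (genericPoint_specializes y).mem_open VB.isOpen hy
  · rintro y ⟨hyA, hyB⟩
    apply le_antisymm
    · rw [Groth.Agent.S0403.dim_le_iff_localDim]
      intro zt
      rw [Groth.Agent.S0403.localDim_fiber_eq f y (f.fiberι y zt) (fiberι_mem f y zt) zt rfl]
      by_contra hcon
      apply hyA
      apply subset_closure
      exact ⟨f.fiberι y zt, hcon, fiberι_mem f y zt⟩
    · obtain ⟨x, hxW, hfx⟩ := hVB hyB
      obtain ⟨zt, rfl⟩ : x ∈ Set.range (f.fiberι y) := by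
        rw [f.range_fiberι y]; exact hfx
      refine (hW _ hxW).trans ?_
      rw [← Groth.Agent.S0403.localDim_fiber_eq f y (f.fiberι y zt) hfx zt rfl]
      exact Groth.Agent.Lib.helper3.TopDim.localDim_le_dim zt

end Groth.Agent.Lib.helper3.GenericFibreDim
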