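import Mathlib
import Groth.Agent.Lib.Helper3.GenPts
import Groth.Agent.Lib.Helper3.EquidimIrr
import Groth.Agent.Lib.Helper3.GenericFibreDim
import Groth.Agent.S9381

/-!
# Nowhere dense closed subsets of the generic fibre spread out (helper3)
-/

set_option autoImplicit false
universe u
open CategoryTheory AlgebraicGeometry TopologicalSpace

namespace Groth.Agent.Lib.helper3.NowhereDenseGen

open Groth.Agent.Lib.helper3.DimIneq Groth.Agent.Lib.helper3.QFinTop
  Groth.Agent.Lib.helper3.EquidimIrr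

/-- a closed set containing a maximal point of a locally Noetherian scheme has nonempty interior. -/
theorem interior_nonempty_of_maximal_point {T : Scheme.{u}} [IsLocallyNoetherian T] (ζ : T)
    (hmax : ∀ t : T, t ⤳ ζ → t = ζ) (C : Set T) (hC : IsClosed C) (hζ : ζ ∈ C) :
    (interior C).Nonempty := by
  obtain ⟨_, ⟨W, hW : IsAffineOpen W, rfl⟩, hζW, -⟩ :=
    T.isBasis_affineOpens.exists_subset_of_mem_open (Set.mem_univ ζ) isOpen_univ
  haveI : IsNoetherianRing Γ(T, W) := IsLocallyNoetherian.component_noetherian ⟨W, hW⟩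
  haveI : NoetherianSpace (W : Set T) := noetherianSpace_of_isAffineOpen W hW
  haveI : QuasiSober (W : Set T) := W.isOpenEmbedding'.quasiSober
  set ζW : (W : Set T) := ⟨ζ, hζW⟩ with hζWdef
  have hZ₁ : irreducibleComponent ζW ∈ irreducibleComponents (W : Set T) :=
    irreducibleComponent_mem_irreducibleComponents ζW
  obtain ⟨s, hs⟩ := QuasiSober.sober (isIrreducible_irreducibleComponent (x := ζW))
    isClosed_irreducibleComponent
  have hsζ : s ⤳ ζW := hs.specializes mem_irreducibleComponent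
  have hseq : s = ζW := Subtype.ext (hmax s.1 (hsζ.map continuous_subtype_val))
  obtain ⟨o, ho, hone, hoZ⟩ :=
    NoetherianSpace.exists_isOpen_nonempty_subset_irreducibleComponent _ hZ₁
  obtain ⟨w, hw⟩ := hone
  refine ⟨w.1, ?_⟩
  have hopen : IsOpen (Subtype.val '' o : Set T) := W.isOpen.isOpenMap_subtype_val o ho
  refine interior_maximal ?_ hopen ⟨w, hw, rfl⟩
  rintro _ ⟨v, hv, rfl⟩
  have hv' : v ∈ irreducibleComponent ζW := hoZ hv
  rw [← hs.def, hseq] at hv'
  have hsp : ζW ⤳ v := specializes_iff_mem_closure.mpr hv'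
  exact (hsp.map continuous_subtype_val).mem_closed hC hζ

section

variable {X Y : Scheme.{u}} (f : X ⟶ Y) [LocallyOfFiniteType f]

theorem exists_nat_td (x : X) : ∃ N : ℕ, td (f.residueFieldMap x).hom = (N : Cardinal.{u}) := by
  obtain ⟨a, b, ha, -, -⟩ := DimFibre.fibreDimAt_eq_add f x
  exact ⟨a, ha⟩

theorem exists_nat_fibreDimAt (x : X) : ∃ N : ℕ, FlatMor.fibreDimAt f x = (N : WithBot ℕ∞) := by
  obtain ⟨a, b, -, -, h⟩ := DimFibre.fibreDimAt_eq_add f x
  exact ⟨a + b, h⟩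

theorem td_le_fibreDimAt (x : X) (N : ℕ) (h : td (f.residueFieldMap x).hom = (N : Cardinal.{u})) :
    (N : WithBot ℕ∞) ≤ FlatMor.fibreDimAt f x := by
  obtain ⟨a, b, ha, -, hab⟩ := DimFibre.fibreDimAt_eq_add f x
  rw [h] at ha
  have : N = a := by exact_mod_cast ha
  subst this
  rw [hab]
  exact_mod_cast Nat.le_add_right N b

theorem fibreDimAt_le_of_specializes (z x : X) (h : z ⤳ x) :
    FlatMor.fibreDimAt f z ≤ FlatMor.fibreDimAt f x := by
  obtain ⟨m, hm⟩ := exists_nat_fibreDimAt f x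
  have hopen := Groth.Agent.S0402.result f m
  have hxm : x ∈ {x | FlatMor.fibreDimAt f x ≤ (m : WithBot ℕ∞)} := by
    rw [Set.mem_ofPred_eq, hm]
  have := h.mem_open hopen hxm
  rw [Set.mem_ofPred_eq] at this
  rw [hm]; exact this

theorem fibreDimAt_eq_td_of_maximal (ξ : X) (hmax : ∀ t : X, t ⤳ ξ → f t = f ξ → t = ξ) (N : ℕ)
    (h : td (f.residueFieldMap ξ).hom = (N : Cardinal.{u})) :
    FlatMor.fibreDimAt f ξ = (N : WithBot ℕ∞) := by
  obtain ⟨z, N', hzsp, hfz, -, htd, hdim⟩ := exists_maximal_fibre_point f ξ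
  have hz : z = ξ := hmax z hzsp hfz
  subst hz
  rw [h] at htd
  have : N = N' := by exact_mod_cast htd
  rw [hdim, this]

end

section

variable {X Y : Scheme.{u}} (f : X ⟶ Y) [LocallyOfFiniteType f]

/-- in a fibre in which the closed subscheme is nowhere dense, its local dimension drops. -/
theorem fibreDimAt_lt_of_isNowhereDense {Z' : Scheme.{u}} (ι : Z' ⟶ X) [IsClosedImmersion ι]
    (y : Y) (hnd : IsNowhereDense ((f.fiberι y) ⁻¹' Set.range ι)) (x₀ : Z')
    (hx₀ : f (ι x₀) = y) :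
    FlatMor.fibreDimAt (ι ≫ f) x₀ < FlatMor.fibreDimAt f (ι x₀) := by
  haveI : LocallyOfFiniteType (ι ≫ f) := inferInstance
  obtain ⟨z₀, N, hz₀sp, hgz₀, -, htd, ha⟩ := exists_maximal_fibre_point (ι ≫ f) x₀
  rw [td_comp_of_surjectiveOnStalks ι f z₀] at htd
  have hfζ : f (ι z₀) = y := (show f (ι z₀) = f (ι x₀) from hgz₀).trans hx₀
  have hex : ∃ ζ' : X, ζ' ⤳ ι z₀ ∧ f ζ' = f (ι z₀) ∧ ζ' ≠ ι z₀ := by
    by_contra hcon
    push Not at hcon
    haveI : LocallyOfFiniteType (f.fiberToSpecResidueField y) :=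
      MorphismProperty.pullback_snd _ _ inferInstance
    haveI : IsLocallyNoetherian (f.fiber y) :=
      LocallyOfFiniteType.isLocallyNoetherian (f.fiberToSpecResidueField y)
    obtain ⟨w, hw⟩ : ι z₀ ∈ Set.range (f.fiberι y) := by rw [f.range_fiberι]; exact hfζ
    have hwmax : ∀ t : f.fiber y, t ⤳ w → t = w := by
      intro t ht
      apply fiberι_injective f y
      rw [hw]
      refine hcon _ ?_ ?_
      · rw [← hw]; exact (fiberι_specializes_iff f y t w).mpr ht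
      · rw [fiberι_mem f y t, hfζ]
    have hCcl : IsClosed ((f.fiberι y) ⁻¹' Set.range ι) :=
      (ι.isClosedEmbedding.isClosed_range).preimage (f.fiberι y).continuous
    obtain ⟨v, hv⟩ := interior_nonempty_of_maximal_point w hwmax _ hCcl
      (by rw [Set.mem_preimage, hw]; exact ⟨z₀, rfl⟩)
    have h0 : interior ((f.fiberι y) ⁻¹' Set.range ι) = ∅ := by
      have := hnd
      rwa [IsNowhereDense, hCcl.closure_eq] at this
    rw [h0] at hv
    exact hv.elim
  obtain ⟨ζ', hsp, hfζ', hne⟩ := hex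
  obtain ⟨N', hN'⟩ := exists_nat_td f ζ'
  have hlt : td (f.residueFieldMap (ι z₀)).hom < td (f.residueFieldMap ζ').hom :=
    Groth.Agent.S9381.result f ζ' (ι z₀) hsp hne hfζ'
  rw [htd, hN'] at hlt
  have hNN' : N < N' := by exact_mod_cast hlt
  calc FlatMor.fibreDimAt (ι ≫ f) x₀ = (N : WithBot ℕ∞) := ha
    _ < (N' : WithBot ℕ∞) := by exact_mod_cast hNN'
    _ ≤ FlatMor.fibreDimAt f ζ' := td_le_fibreDimAt f ζ' N' hN'
    _ ≤ FlatMor.fibreDimAt f (ι x₀) :=
        fibreDimAt_le_of_specializes f ζ' (ι x₀) (hsp.trans (hz₀sp.map ι.continuous))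

/-- at a maximal point of a fibre lying on the closed subscheme the local dimensions agree. -/
theorem fibreDimAt_le_of_maximal {Z' : Scheme.{u}} (ι : Z' ⟶ X) [IsClosedImmersion ι] (ξ₀ : Z')
    (hmax : ∀ t : X, t ⤳ ι ξ₀ → f t = f (ι ξ₀) → t = ι ξ₀) :
    FlatMor.fibreDimAt f (ι ξ₀) ≤ FlatMor.fibreDimAt (ι ≫ f) ξ₀ := by
  haveI : LocallyOfFiniteType (ι ≫ f) := inferInstance
  obtain ⟨N, hN⟩ := exists_nat_td f (ι ξ₀)
  rw [fibreDimAt_eq_td_of_maximal f _ hmax N hN]
  apply td_le_fibreDimAt (ι ≫ f) ξ₀ N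
  rw [td_comp_of_surjectiveOnStalks ι f ξ₀]
  exact hN

end

section

variable {X Y : Scheme.{u}} (f : X ⟶ Y) [LocallyOfFiniteType f]

/-- the closed strata `{x | n ≤ dim_x (fibre)}`. -/
theorem isClosed_le_fibreDimAt (n : ℕ) :
    IsClosed {x : X | (n : WithBot ℕ∞) ≤ FlatMor.fibreDimAt f x} := by
  cases n with
  | zero =>
    have : {x : X | ((0 : ℕ) : WithBot ℕ∞) ≤ FlatMor.fibreDimAt f x} = Set.univ := by
      ext x
      obtain ⟨m, hm⟩ := exists_nat_fibreDimAt f x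
      simp only [Set.mem_ofPred_eq, Set.mem_univ, iff_true, hm]
      exact_mod_cast Nat.zero_le m
    rw [this]; exact isClosed_univ
  | succ n =>
    have : {x : X | ((n + 1 : ℕ) : WithBot ℕ∞) ≤ FlatMor.fibreDimAt f x} =
        {x : X | FlatMor.fibreDimAt f x ≤ (n : WithBot ℕ∞)}ᶜ := by
      ext x
      obtain ⟨m, hm⟩ := exists_nat_fibreDimAt f x
      simp only [Set.mem_ofPred_eq, Set.mem_compl_iff, hm]
      constructor
      · intro h1 h2
        have h1' : n + 1 ≤ m := by exact_mod_cast h1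
        have h2' : m ≤ n := by exact_mod_cast h2
        omega
      · intro h1
        have h1' : ¬ m ≤ n := fun h => h1 (by exact_mod_cast h)
        have : n + 1 ≤ m := by omega
        exact_mod_cast this
    rw [this]
    exact (Groth.Agent.S0402.result f n).isClosed_compl

/-- = S1298. -/
theorem nowhereDense_fibres_near_generic_point [IrreducibleSpace ↑Y] [QuasiCompact f]
    (Z : Set ↑X) (hZ : IsClosed Z)
    (h : IsNowhereDense ((f.fiberι (genericPoint ↑Y)) ⁻¹' Z)) :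
    ∃ V : Y.Opens, (V : Set ↑Y).Nonempty ∧ ∀ y ∈ V, IsNowhereDense ((f.fiberι y) ⁻¹' Z) := by
  set η := genericPoint Y with hη
  set Zc : TopologicalSpace.Closeds X := ⟨Z, hZ⟩ with hZc
  set I := Scheme.IdealSheafData.vanishingIdeal Zc with hI
  set ι := I.subschemeι with hι
  have hr : Set.range ι = Z := by
    rw [hι, Scheme.IdealSheafData.range_subschemeι,
      Scheme.IdealSheafData.coe_support_vanishingIdeal]
    rfl
  set g := ι ≫ f with hg
  haveI : LocallyOfFiniteType g := inferInstance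
  haveI : QuasiCompact g := inferInstance
  set D : ℕ → Set I.subscheme := fun n => {x₀ | (n : WithBot ℕ∞) ≤ FlatMor.fibreDimAt g x₀}
    with hD
  have hDcl : ∀ n, IsClosed (D n) := fun n => isClosed_le_fibreDimAt g n
  have hVn : ∀ n : ℕ, ∃ Vn : Y.Opens, η ∈ Vn ∧ ∀ x₀ ∈ D n, g x₀ ∈ Vn →
      ∃ x₀' ∈ D n, x₀' ⤳ x₀ ∧ g x₀' = η := by
    intro n
    set Dc : TopologicalSpace.Closeds I.subscheme := ⟨D n, hDcl n⟩ with hDc
    set In := Scheme.IdealSheafData.vanishingIdeal Dc with hIn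
    set ιn := In.subschemeι with hιn
    have hrn : Set.range ιn = D n := by
      rw [hιn, Scheme.IdealSheafData.range_subschemeι,
        Scheme.IdealSheafData.coe_support_vanishingIdeal]
      rfl
    haveI : LocallyOfFiniteType (ιn ≫ g) := inferInstance
    haveI : QuasiCompact (ιn ≫ g) := inferInstance
    obtain ⟨Vn, hηVn, hVn⟩ := GenPts.exists_open_forall_generization (ιn ≫ g)
    refine ⟨Vn, hηVn, fun x₀ hx₀ hgx₀ => ?_⟩
    obtain ⟨w, rfl⟩ : x₀ ∈ Set.range ιn := by rw [hrn]; exact hx₀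
    obtain ⟨w', hw'sp, hw'η⟩ := hVn w hgx₀
    refine ⟨ιn w', ?_, hw'sp.map ιn.continuous, hw'η⟩
    rw [← hrn]; exact ⟨w', rfl⟩
  choose Vn hηVn hVn using hVn
  have hfin : ∀ N : ℕ, ∃ V : Y.Opens, η ∈ V ∧ ∀ n ≤ N, V ≤ Vn n := by
    intro N
    induction N with
    | zero =>
      refine ⟨Vn 0, hηVn 0, fun n hn => ?_⟩
      have : n = 0 := by omega
      rw [this]
    | succ N ih =>
      obtain ⟨V, hηV, hV⟩ := ih
      refine ⟨V ⊓ Vn (N + 1), ⟨hηV, hηVn (N + 1)⟩, fun n hn => ?_⟩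
      rcases Nat.lt_or_ge n (N + 1) with h1 | h1
      · exact inf_le_left.trans (hV n (by omega))
      · have : n = N + 1 := by omega
        rw [this]; exact inf_le_right
  by_cases hne : ∃ x : X, f x = η
  · obtain ⟨x₁, N, -, -, hdim⟩ := OpenAtDim.exists_fibreDimAt_eq_dim f η hne
    obtain ⟨V₀, hV₀ne, hV₀⟩ := GenericFibreDim.generic_fibre_dim f N hdim
    obtain ⟨V₁, hηV₁, hV₁⟩ := hfin N
    have hηV₀ : η ∈ V₀ := by
      obtain ⟨y, hy⟩ := hV₀ne
      exact (genericPoint_specializes y).mem_open V₀.isOpen hy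
    refine ⟨V₀ ⊓ V₁, ⟨η, hηV₀, hηV₁⟩, ?_⟩
    rintro y ⟨hy₀, hy₁⟩
    have hcl : IsClosed ((f.fiberι y) ⁻¹' Z) := hZ.preimage (f.fiberι y).continuous
    rw [hcl.isNowhereDense_iff]
    by_contra hint
    obtain ⟨w, hw⟩ := Set.nonempty_iff_ne_empty.mpr hint
    have hfx : f (f.fiberι y w) = y := fiberι_mem f y w
    obtain ⟨ξ, Nξ, hξsp, hfξ, hξmax, htdξ, -⟩ := exists_maximal_fibre_point f (f.fiberι y w)
    obtain ⟨w', hw'⟩ : ξ ∈ Set.range (f.fiberι y) := by
      rw [f.range_fiberι]; exact hfξ.trans hfx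
    have hw'sp : w' ⤳ w := (fiberι_specializes_iff f y w' w).mp (by rw [hw']; exact hξsp)
    have hw'int : w' ∈ interior ((f.fiberι y) ⁻¹' Z) := hw'sp.mem_open isOpen_interior hw
    have hξZ : ξ ∈ Z := by
      have := interior_subset hw'int
      rwa [Set.mem_preimage, hw'] at this
    obtain ⟨ξ₀, rfl⟩ : ξ ∈ Set.range ι := by rw [hr]; exact hξZ
    have hb : FlatMor.fibreDimAt f (ι ξ₀) = (Nξ : WithBot ℕ∞) :=
      fibreDimAt_eq_td_of_maximal f _ hξmax Nξ htdξ
    have hfξy : f (ι ξ₀) = y := hfξ.trans hfx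
    have hNξ : Nξ ≤ N := by
      have h1 := Groth.Agent.S0403.localDim_fiber_eq f y (ι ξ₀) hfξy w' hw'
      have h2 := Groth.Agent.Lib.helper3.TopDim.localDim_le_dim w'
      rw [h1, hb, hV₀ y hy₀] at h2
      exact_mod_cast h2
    have ha : (Nξ : WithBot ℕ∞) ≤ FlatMor.fibreDimAt g ξ₀ := by
      rw [← hb]; exact fibreDimAt_le_of_maximal f ι ξ₀ hξmax
    have hgξ₀ : g ξ₀ ∈ Vn Nξ := by
      apply hV₁ Nξ hNξ
      change f (ι ξ₀) ∈ V₁
      rw [hfξy]; exact hy₁
    obtain ⟨x₀', hx₀'D, hx₀'sp, hgx₀'⟩ := hVn Nξ ξ₀ ha hgξ₀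
    have hlt := fibreDimAt_lt_of_isNowhereDense f ι η (by rw [hr]; exact h) x₀' hgx₀'
    have hle : FlatMor.fibreDimAt f (ι x₀') ≤ (Nξ : WithBot ℕ∞) := by
      rw [← hb]; exact fibreDimAt_le_of_specializes f _ _ (hx₀'sp.map ι.continuous)
    exact absurd (lt_of_le_of_lt hx₀'D (lt_of_lt_of_le hlt hle)) (lt_irrefl _)
  · obtain ⟨V, hηV, hV⟩ := GenPts.exists_open_forall_generization f
    refine ⟨V, ⟨η, hηV⟩, fun y hy => ?_⟩
    haveI : IsEmpty (f.fiber y) := ⟨fun w => by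
      obtain ⟨x', -, hx'⟩ := hV (f.fiberι y w) (by rw [fiberι_mem f y w]; exact hy)
      exact hne ⟨x', hx'⟩⟩
    rw [Set.eq_empty_of_isEmpty ((f.fiberι y) ⁻¹' Z)]
    exact isNowhereDense_empty

end

end Groth.Agent.Lib.helper3.NowhereDenseGen
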