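import Mathlib
import Groth.Agent.S0403
import Groth.Agent.Lib.Helper3.FibreDimRetro
import Groth.Agent.Lib.Helper3.NowhereDenseGen

/-!
# Local constructibility of the level sets of the fibre dimension (helper3)
-/

set_option autoImplicit false
universe u
open CategoryTheory AlgebraicGeometry CategoryTheory.Limits Topology

namespace Groth.Agent.Lib.helper3.FibreDimCons

open Groth.Agent.Lib.helper3

theorem isLocallyConstructible_compl {Z : Type*} [TopologicalSpace Z] {A : Set Z}
    (hA : IsLocallyConstructible A) : IsLocallyConstructible Aᶜ := by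
  intro x
  obtain ⟨U, hxU, hU, hUs⟩ := hA x
  exact ⟨U, hxU, hU, by simpa using hUs.compl⟩

theorem fibreDimAt_ne_bot {X S : Scheme.{u}} (f : X ⟶ S) (x : X) :
    FlatMor.fibreDimAt f x ≠ ⊥ := by
  intro h
  obtain ⟨U, hxU, hU⟩ :=
    Groth.Agent.Lib.helper3.TopDim.exists_open_dim_eq_localDim (f.asFiber x)
  have h0 : FlatMor.fibreDimAt f x = FlatMor.localDim (f.fiber (f x)) (f.asFiber x) := rfl
  rw [h0, ← hU] at h
  haveI : Nonempty (U.1 : Set _) := ⟨⟨_, hxU⟩⟩
  have := Groth.Agent.Lib.helper3.TopDim.dim_nonneg (X := (U.1 : Set _))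
  rw [h] at this
  exact absurd this (by decide)

theorem isLocallyConstructible_fibreDimAt_le {X S : Scheme.{u}} (f : X ⟶ S)
    [LocallyOfFinitePresentation f] (c : WithBot ℕ∞) :
    IsLocallyConstructible {x : X | FlatMor.fibreDimAt f x ≤ c} := by
  induction c using WithBot.recBotCoe with
  | bot =>
    convert IsLocallyConstructible.empty
    ext x
    simp only [Set.mem_ofPred_eq, Set.mem_empty_iff_false, iff_false, le_bot_iff]
    exact fibreDimAt_ne_bot f x
  | coe n =>
    induction n using ENat.recTopCoe with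
    | top =>
      convert IsLocallyConstructible.univ
      ext x
      simp only [Set.mem_ofPred_eq, Set.mem_univ, iff_true]
      exact le_top
    | coe n =>
      exact (FibreDimRetro.isRetrocompact_fibreDimAt_le f n).isLocallyConstructible
        (Groth.Agent.S0402.result f n)

theorem setOf_dim_le_eq {X S : Scheme.{u}} (f : X ⟶ S) (c : WithBot ℕ∞) :
    {s : S | topologicalKrullDim (f.fiber s) ≤ c} =
      (f '' {x : X | FlatMor.fibreDimAt f x ≤ c}ᶜ)ᶜ := by
  ext s
  simp only [Set.mem_ofPred_eq, Set.mem_compl_iff, Set.mem_image, not_exists, not_and]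
  rw [Groth.Agent.S0403.dim_le_iff_localDim]
  constructor
  · intro h x hx hxs
    apply hx
    rw [← Groth.Agent.S0403.localDim_fiber_eq f s x hxs ((f.fiberHomeo s).symm ⟨x, hxs⟩)
      (f.fiberι_fiberHomeo_symm s ⟨x, hxs⟩)]
    exact h _
  · intro h z
    by_contra hz
    refine h (f.fiberι s z) ?_ (Groth.Agent.Lib.helper3.QFinTop.fiberι_mem f s z)
    rw [← Groth.Agent.S0403.localDim_fiber_eq f s _
      (Groth.Agent.Lib.helper3.QFinTop.fiberι_mem f s z) z rfl]
    exact hz

theorem isLocallyConstructible_dim_le {X S : Scheme.{u}} (f : X ⟶ S)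
    [LocallyOfFinitePresentation f] [QuasiCompact f] (c : WithBot ℕ∞) :
    IsLocallyConstructible {s : S | topologicalKrullDim (f.fiber s) ≤ c} := by
  rw [setOf_dim_le_eq]
  exact isLocallyConstructible_compl (f.isLocallyConstructible_image
    (isLocallyConstructible_compl (isLocallyConstructible_fibreDimAt_le f c)))

theorem natCast_ne_top (k : ℕ) : ((k : ℕ) : WithBot ℕ∞) ≠ ⊤ := by
  intro h
  rw [← WithBot.coe_natCast, ← WithBot.coe_top] at h
  exact ENat.natCast_ne_top k (WithBot.coe_injective h)

theorem dim_fiber_ne_top {X S : Scheme.{u}} (f : X ⟶ S) [LocallyOfFiniteType f] [QuasiCompact f]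
    (s : S) : topologicalKrullDim (f.fiber s) ≠ ⊤ := by
  have hc : IsCompact (f ⁻¹' {s}) := f.isCompact_preimage_singleton s
  have hcover : f ⁻¹' {s} ⊆ ⋃ n : ℕ, {x : X | FlatMor.fibreDimAt f x ≤ n} := by
    intro x _
    obtain ⟨N, hN⟩ := NowhereDenseGen.exists_nat_fibreDimAt f x
    exact Set.mem_iUnion.mpr ⟨N, hN.le⟩
  obtain ⟨t, ht⟩ := hc.elim_finite_subcover _ (fun n => Groth.Agent.S0402.result f n) hcover
  have hle : topologicalKrullDim (f.fiber s) ≤ ((t.sup id : ℕ) : WithBot ℕ∞) := by
    have hmem : s ∈ {s : S | topologicalKrullDim (f.fiber s) ≤ ((t.sup id : ℕ) : WithBot ℕ∞)} := by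
      rw [setOf_dim_le_eq]
      rintro ⟨x, hx, hxs⟩
      apply hx
      obtain ⟨i, hi, hxi⟩ := Set.mem_iUnion₂.mp (ht hxs)
      have h1 : FlatMor.fibreDimAt f x ≤ (i : WithBot ℕ∞) := hxi
      have h2 : i ≤ t.sup id := Finset.le_sup (f := id) hi
      exact h1.trans (by exact_mod_cast h2)
    exact hmem
  intro h
  rw [h] at hle
  exact natCast_ne_top _ (top_le_iff.mp hle)

theorem lt_coe_succ_iff (x : WithBot ℕ∞) (m : ℕ) :
    x < ((m + 1 : ℕ) : WithBot ℕ∞) ↔ x ≤ (m : WithBot ℕ∞) := by
  induction x using WithBot.recBotCoe with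
  | bot => simp
  | coe x =>
    induction x using ENat.recTopCoe with
    | top =>
      constructor
      · intro h
        exact absurd (le_top.trans_lt h) (lt_irrefl _)
      · intro h
        exact absurd (top_le_iff.mp h) (natCast_ne_top m)
    | coe x =>
      constructor
      · intro h
        have : x < m + 1 := by exact_mod_cast h
        exact_mod_cast Nat.lt_succ_iff.mp this
      · intro h
        have : x ≤ m := by exact_mod_cast h
        exact_mod_cast Nat.lt_succ_iff.mpr this

theorem lt_coe_zero_iff (x : WithBot ℕ∞) : x < ((0 : ℕ) : WithBot ℕ∞) ↔ x ≤ ⊥ := by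
  induction x using WithBot.recBotCoe with
  | bot => simp
  | coe x =>
    induction x using ENat.recTopCoe with
    | top => simp
    | coe x => simp

theorem isLocallyConstructible_dim_eq_nat {X Y : Scheme.{u}} (f : X ⟶ Y)
    [LocallyOfFinitePresentation f] [QuasiCompact f] (n : ℕ) :
    IsLocallyConstructible {y : Y | topologicalKrullDim (f.fiber y) = ((n : ℕ) : WithBot ℕ∞)} := by
  rcases Nat.eq_zero_or_eq_succ_pred n with h0 | hs
  · subst h0
    have : {y : Y | topologicalKrullDim (f.fiber y) = ((0 : ℕ) : WithBot ℕ∞)} =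
        {y : Y | topologicalKrullDim (f.fiber y) ≤ ((0 : ℕ) : WithBot ℕ∞)} ∩
          {y : Y | topologicalKrullDim (f.fiber y) ≤ ⊥}ᶜ := by
      ext y
      simp only [Set.mem_ofPred_eq, Set.mem_inter_iff, Set.mem_compl_iff]
      rw [← lt_coe_zero_iff, not_lt]
      exact ⟨fun h => ⟨h.le, h.ge⟩, fun h => le_antisymm h.1 h.2⟩
    rw [this]
    exact (isLocallyConstructible_dim_le f _).inter
      (isLocallyConstructible_compl (isLocallyConstructible_dim_le f _))
  · set m := n.pred with hm
    rw [hs]
    have : {y : Y | topologicalKrullDim (f.fiber y) = ((m.succ : ℕ) : WithBot ℕ∞)} =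
        {y : Y | topologicalKrullDim (f.fiber y) ≤ ((m.succ : ℕ) : WithBot ℕ∞)} ∩
          {y : Y | topologicalKrullDim (f.fiber y) ≤ (m : WithBot ℕ∞)}ᶜ := by
      ext y
      simp only [Set.mem_ofPred_eq, Set.mem_inter_iff, Set.mem_compl_iff]
      rw [← lt_coe_succ_iff _ m, not_lt]
      exact ⟨fun h => ⟨h.le, h.ge⟩, fun h => le_antisymm h.1 h.2⟩
    rw [this]
    exact (isLocallyConstructible_dim_le f _).inter
      (isLocallyConstructible_compl (isLocallyConstructible_dim_le f _))

theorem isLocallyConstructible_dim_eq {X Y : Scheme.{u}} (f : X ⟶ Y)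
    [LocallyOfFinitePresentation f] [QuasiCompact f] (n : WithBot ℕ∞) :
    IsLocallyConstructible {y : Y | topologicalKrullDim (f.fiber y) = n} := by
  induction n using WithBot.recBotCoe with
  | bot =>
    convert isLocallyConstructible_dim_le f ⊥ using 1
    ext y
    simp
  | coe n =>
    induction n using ENat.recTopCoe with
    | top =>
      convert IsLocallyConstructible.empty
      ext y
      simp only [Set.mem_ofPred_eq, Set.mem_empty_iff_false, iff_false]
      exact dim_fiber_ne_top f y
    | coe n => exact isLocallyConstructible_dim_eq_nat f n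

end Groth.Agent.Lib.helper3.FibreDimCons
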