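import Mathlib
import Groth.Agent.Lib.Helper3.QFinTop

/-!
# Algebraic quasi-finiteness at a prime from the order structure of the fibre (helper3)
-/

set_option autoImplicit false
universe u
open CategoryTheory AlgebraicGeometry

namespace Groth.Agent.Lib.helper3.QFinAlgAt

variable {R S : Type u} [CommRing R] [CommRing S] [Algebra R S]

/-- scheme-level quasi-finiteness at a point of `Spec S ⟶ Spec R` gives `Algebra.QuasiFiniteAt`. -/
theorem quasiFiniteAt_of_scheme (x : PrimeSpectrum S)
    (h : (Spec.map (CommRingCat.ofHom (algebraMap R S))).QuasiFiniteAt x) :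
    Algebra.QuasiFiniteAt R x.asIdeal := by
  let := Localization.AtPrime.algebraOfLiesOver (x.asIdeal.under R) x.asIdeal
  have h1 : Algebra.QuasiFinite (Localization.AtPrime (x.asIdeal.under R))
      (Localization.AtPrime x.asIdeal) := by
    rw [← RingHom.quasiFinite_algebraMap]
    exact (RingHom.QuasiFinite.respectsIso.arrow_mk_iso_iff
      (Scheme.arrowStalkMapSpecIso ..)).mp h
  exact .trans _ (Localization.AtPrime (x.asIdeal.under R)) _

/-- a prime of a finite type algebra which is both minimal and maximal among the primes of its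
fibre is a point of quasi-finiteness. -/
theorem quasiFiniteAt_of_forall_le [Algebra.FiniteType R S] (n : Ideal S) [n.IsPrime]
    (hgen : ∀ n' : Ideal S, n'.IsPrime → n' ≤ n → n'.comap (algebraMap R S) = n.comap (algebraMap R S)
      → n' = n)
    (hspec : ∀ n' : Ideal S, n'.IsPrime → n ≤ n' → n'.comap (algebraMap R S) = n.comap (algebraMap R S)
      → n' = n) :
    Algebra.QuasiFiniteAt R n := by
  set f := Spec.map (CommRingCat.ofHom (algebraMap R S)) with hf
  haveI : LocallyOfFiniteType f :=
    (HasRingHomProperty.Spec_iff (P := @LocallyOfFiniteType)).mpr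
      (RingHom.finiteType_algebraMap.mpr inferInstance)
  set x : PrimeSpectrum S := ⟨n, inferInstance⟩ with hx
  refine quasiFiniteAt_of_scheme x ?_
  refine QFinTop.quasiFiniteAt_of_forall_specializes f x ?_ ?_
  · intro x' hfx hsp
    have h1 : (x' : PrimeSpectrum S).asIdeal ≤ n := (PrimeSpectrum.le_iff_specializes x' x).mpr hsp
    have h2 : (x' : PrimeSpectrum S).asIdeal.comap (algebraMap R S) = n.comap (algebraMap R S) :=
      congrArg PrimeSpectrum.asIdeal hfx
    exact PrimeSpectrum.ext (hgen _ (x' : PrimeSpectrum S).isPrime h1 h2)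
  · intro x' hfx hsp
    have h1 : n ≤ (x' : PrimeSpectrum S).asIdeal := (PrimeSpectrum.le_iff_specializes x x').mpr hsp
    have h2 : (x' : PrimeSpectrum S).asIdeal.comap (algebraMap R S) = n.comap (algebraMap R S) :=
      congrArg PrimeSpectrum.asIdeal hfx
    exact PrimeSpectrum.ext (hspec _ (x' : PrimeSpectrum S).isPrime h1 h2)

end Groth.Agent.Lib.helper3.QFinAlgAt
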