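import Mathlib
import Groth.Agent.Lib.Helper3.FibreIsol
import Groth.Agent.Lib.Helper3.QFinAlgAt
import Groth.Agent.Lib.Helper3.FibreRingBridge
import Groth.Agent.Lib.Helper3.FibreDimChar
import Groth.Agent.Lib.Helper3.TdSpecBridge
/-!
# Quasi-finite maps from polynomial rings with prescribed preimage of a prime (helper3)

Stacks 00QF-type statement (= S9181): for `R → S` of finite type, `q` over `p`, relative dimension
`n` at `q` and `trdeg κ(q)/κ(p) = r`, there is `g ∉ q` and a quasi-finite `R[x_1..x_n] → S_g` with
the preimage of `q S_g` equal to `(p, x_{r+1}, …, x_n)`.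

* `isolating_of_parameters` : a map `R[T_σ] → S` sending some variables to a transcendence basis of
  `κ(q)/κ(p)` and some to fibre parameters of `q` isolates `q` in its fibre;
* `comap_aeval_eq` : the preimage of `q` under such a map;
* `exists_aeval_quasiFiniteAt`, `exists_quasiFinite_away`, `main` (= S9181).
-/

set_option autoImplicit false
universe u
open Function

namespace Groth.Agent.Lib.helper3.QFinRing2

open Groth.Agent.Lib.helper3.DimIneq Groth.Agent.Lib.helper3.FTField
  Groth.Agent.Lib.helper3.FibreParam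

variable {R S : Type u} [CommRing R] [CommRing S] [Algebra R S]

/-- a map `R[T_σ] → S` sending the variables `ιa i` to lifts of an algebraically independent family
of size `trdeg κ(q)/κ(p)` and the variables `ιb j` to parameters of `q` in its fibre makes `κ(q)`
algebraic over the residue field of the image point and `q` has no proper generization in its
fibre. -/
theorem isolating_of_parameters (q : Ideal S) [q.IsPrime]
    {σ : Type} (s : σ → S) (r m : ℕ) (ιa : Fin r → σ) (ιb : Fin m → σ)
    (hr : td (Ideal.quotientMap q (algebraMap R S) le_rfl) = r)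
    (ha : @AlgebraicIndependent _ (R ⧸ q.comap (algebraMap R S)) (S ⧸ q)
      (fun i => Ideal.Quotient.mk q (s (ιa i))) _ _
      (Ideal.quotientMap q (algebraMap R S) le_rfl).toAlgebra)
    (hbq : ∀ j, s (ιb j) ∈ q)
    (hb : ∀ q' : Ideal S, q'.IsPrime → q' ≤ q →
      q'.comap (algebraMap R S) = q.comap (algebraMap R S) → (∀ j, s (ιb j) ∈ q') → q' = q) :
    td (Ideal.quotientMap q (MvPolynomial.aeval (R := R) s).toRingHom le_rfl) = 0 ∧
      ∀ q' : Ideal S, q'.IsPrime → q' ≤ q →
        q'.comap (MvPolynomial.aeval (R := R) s).toRingHom =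
          q.comap (MvPolynomial.aeval (R := R) s).toRingHom → q' = q := by
  set p := q.comap (algebraMap R S) with hp
  haveI : p.IsPrime := Ideal.comap_isPrime _ _
  haveI : IsDomain (S ⧸ q) := Ideal.Quotient.isDomain q
  haveI : IsDomain (R ⧸ p) := Ideal.Quotient.isDomain p
  set γ := Ideal.quotientMap q (algebraMap R S) le_rfl with hγ
  set ψ : MvPolynomial σ R →+* S := (MvPolynomial.aeval (R := R) s).toRingHom with hψ
  have hψC : ψ.comp MvPolynomial.C = algebraMap R S := by
    ext x; simp [hψ]
  refine ⟨?_, ?_⟩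
  · set P' := q.comap ψ with hP'
    haveI : P'.IsPrime := Ideal.comap_isPrime _ _
    have hle : p ≤ P'.comap MvPolynomial.C := by
      rw [hP', Ideal.comap_comap, hψC]
    set αC := Ideal.quotientMap P' MvPolynomial.C hle with hαC
    set βψ := Ideal.quotientMap q ψ le_rfl with hβψ
    have hcomp : βψ.comp αC = γ := by
      apply Ideal.Quotient.ringHom_ext
      ext x
      have h1 : ψ (MvPolynomial.C x) = algebraMap R S x := RingHom.congr_fun hψC x
      change Ideal.Quotient.mk q (ψ (MvPolynomial.C x)) = Ideal.Quotient.mk q (algebraMap R S x)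
      rw [h1]
    have hαinj : Injective αC := by
      apply Ideal.quotientMap_injective'
      rw [hP', Ideal.comap_comap, hψC]
    have hβinj : Injective βψ := Ideal.quotientMap_injective
    have hadd := td_add_of_comp αC βψ hαinj hβinj
    rw [hcomp, hr] at hadd
    have hge : (r : Cardinal.{u}) ≤ td αC := by
      letI := αC.toAlgebra
      letI := γ.toAlgebra
      let βA : (MvPolynomial σ R ⧸ P') →ₐ[R ⧸ p] (S ⧸ q) :=
        { βψ with commutes' := fun x => RingHom.congr_fun hcomp x }
      have hind : AlgebraicIndependent (R ⧸ p)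
          (fun i : Fin r => Ideal.Quotient.mk P' (MvPolynomial.X (ιa i))) := by
        apply AlgebraicIndependent.of_comp βA
        have : (βA ∘ fun i : Fin r => Ideal.Quotient.mk P' (MvPolynomial.X (ιa i))) =
            fun i => Ideal.Quotient.mk q (s (ιa i)) := by
          funext i
          change Ideal.Quotient.mk q (ψ (MvPolynomial.X (ιa i))) = _
          simp [hψ]
        rw [this]
        exact ha
      haveI : Nontrivial (R ⧸ p) := inferInstance
      have := hind.lift_cardinalMk_le_trdeg
      simpa using this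
    have h1 : td βψ + td αC ≤ 0 + td αC := by
      rw [add_comm, ← hadd, zero_add]; exact hge
    have hαlt : td αC < Cardinal.aleph0 := by
      refine lt_of_le_of_lt (b := (r : Cardinal.{u})) ?_ Cardinal.natCast_lt_aleph0
      rw [hadd]; exact le_self_add
    have := (Cardinal.add_le_add_iff_of_lt_aleph0 hαlt).mp h1
    exact le_antisymm this zero_le
  · intro q' hq' hle hc
    refine hb q' hq' hle ?_ ?_
    · rw [hp, ← hψC, ← Ideal.comap_comap, ← Ideal.comap_comap, hc]
    · intro j
      have h1 : (MvPolynomial.X (ιb j) : MvPolynomial σ R) ∈ q.comap ψ := by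
        rw [Ideal.mem_comap]
        simpa [hψ] using hbq j
      rw [← hc, Ideal.mem_comap] at h1
      simpa [hψ] using h1

/-- the preimage of `q` under `aeval s`, when the first `r` variables go to a family algebraically
independent modulo `q` and the remaining ones into `q`. -/
theorem comap_aeval_eq (p : Ideal R) (q : Ideal S) [q.IsPrime]
    (hq : q.comap (algebraMap R S) = p) (n r : ℕ) (hrn : r ≤ n) (s : Fin n → S)
    (ha : @AlgebraicIndependent _ (R ⧸ q.comap (algebraMap R S)) (S ⧸ q)
      (fun i : Fin r => Ideal.Quotient.mk q (s (Fin.castLE hrn i))) _ _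
      (Ideal.quotientMap q (algebraMap R S) le_rfl).toAlgebra)
    (hsq : ∀ i : Fin n, r ≤ (i : ℕ) → s i ∈ q) :
    q.comap (MvPolynomial.aeval (R := R) s).toRingHom =
      p.map (MvPolynomial.C : R →+* MvPolynomial (Fin n) R) ⊔
        Ideal.span (Set.range fun i : {i : Fin n // r ≤ (i : ℕ)} =>
          (MvPolynomial.X (i : Fin n) : MvPolynomial (Fin n) R)) := by
  set ψ : MvPolynomial (Fin n) R →+* S := (MvPolynomial.aeval (R := R) s).toRingHom with hψ
  have hψC : ψ.comp MvPolynomial.C = algebraMap R S := by
    ext x; simp [hψ]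
  set J : Ideal (MvPolynomial (Fin n) R) :=
    Ideal.span (Set.range fun i : {i : Fin n // r ≤ (i : ℕ)} =>
      (MvPolynomial.X (i : Fin n) : MvPolynomial (Fin n) R)) with hJ
  have hJle : J ≤ q.comap ψ := by
    rw [hJ, Ideal.span_le]
    rintro _ ⟨i, rfl⟩
    change ψ (MvPolynomial.X (i : Fin n)) ∈ q
    simpa [hψ] using hsq i.1 i.2
  have hCle : p.map (MvPolynomial.C : R →+* MvPolynomial (Fin n) R) ≤ q.comap ψ := by
    rw [Ideal.map_le_iff_le_comap, Ideal.comap_comap, hψC, hq]
  apply le_antisymm
  · intro x hx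
    -- projection to the first `r` variables
    let κ : MvPolynomial (Fin n) R →ₐ[R] MvPolynomial (Fin r) R :=
      MvPolynomial.aeval (fun i : Fin n =>
        if h : (i : ℕ) < r then (MvPolynomial.X ⟨i, h⟩ : MvPolynomial (Fin r) R) else 0)
    let ρ : MvPolynomial (Fin r) R →ₐ[R] MvPolynomial (Fin n) R :=
      MvPolynomial.rename (Fin.castLE hrn)
    have hclaim1 : (Ideal.Quotient.mkₐ R J).comp (ρ.comp κ) = Ideal.Quotient.mkₐ R J := by
      apply MvPolynomial.algHom_ext
      intro i
      by_cases h : (i : ℕ) < r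
      · have : ρ (κ (MvPolynomial.X i)) = MvPolynomial.X i := by
          simp only [κ, ρ, MvPolynomial.aeval_X, dif_pos h, MvPolynomial.rename_X]
          congr 1
        change Ideal.Quotient.mk J (ρ (κ (MvPolynomial.X i))) = Ideal.Quotient.mk J _
        rw [this]
      · have h0 : ρ (κ (MvPolynomial.X i)) = 0 := by
          simp only [κ, ρ, MvPolynomial.aeval_X, dif_neg h, map_zero]
        change Ideal.Quotient.mk J (ρ (κ (MvPolynomial.X i))) = Ideal.Quotient.mk J _
        rw [h0, map_zero]
        symm
        rw [Ideal.Quotient.eq_zero_iff_mem]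
        exact Ideal.subset_span ⟨⟨i, not_lt.mp h⟩, rfl⟩
    have h1 : x - ρ (κ x) ∈ J := by
      rw [← Ideal.Quotient.eq]
      exact (AlgHom.congr_fun hclaim1 x).symm
    set y := κ x with hy
    have h2 : ρ y ∈ q.comap ψ := by
      have := (q.comap ψ).sub_mem hx (hJle h1)
      simpa using this
    have h3 : MvPolynomial.aeval (R := R) (fun i : Fin r => s (Fin.castLE hrn i)) y ∈ q := by
      have : ψ (ρ y) = MvPolynomial.aeval (R := R) (fun i : Fin r => s (Fin.castLE hrn i)) y := by
        simp only [hψ, ρ, AlgHom.toRingHom_eq_coe, RingHom.coe_coe, MvPolynomial.aeval_rename]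
        rfl
      rw [← this]
      exact h2
    -- algebraic independence
    set p' := q.comap (algebraMap R S) with hp'
    set γ := Ideal.quotientMap q (algebraMap R S) le_rfl with hγ
    letI := γ.toAlgebra
    have hinj : Injective (MvPolynomial.aeval (R := R ⧸ p')
      (fun i : Fin r => Ideal.Quotient.mk q (s (Fin.castLE hrn i)))) := ha
    have hfact : (Ideal.Quotient.mk q).comp
        (MvPolynomial.aeval (R := R) (fun i : Fin r => s (Fin.castLE hrn i))).toRingHom =
        (MvPolynomial.aeval (R := R ⧸ p')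
          (fun i : Fin r => Ideal.Quotient.mk q (s (Fin.castLE hrn i)))).toRingHom.comp
          (MvPolynomial.map (Ideal.Quotient.mk p')) := by
      apply MvPolynomial.ringHom_ext
      · intro c
        simp only [RingHom.comp_apply, AlgHom.toRingHom_eq_coe, RingHom.coe_coe,
          MvPolynomial.aeval_C, MvPolynomial.map_C]
        rfl
      · intro i
        simp only [RingHom.comp_apply, AlgHom.toRingHom_eq_coe, RingHom.coe_coe,
          MvPolynomial.aeval_X, MvPolynomial.map_X]
    have h4 : MvPolynomial.map (Ideal.Quotient.mk p') y = 0 := by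
      apply hinj
      rw [map_zero]
      have := RingHom.congr_fun hfact y
      simp only [RingHom.comp_apply, AlgHom.toRingHom_eq_coe, RingHom.coe_coe] at this
      rw [← this, Ideal.Quotient.eq_zero_iff_mem]
      exact h3
    have h5 : y ∈ p'.map (MvPolynomial.C : R →+* MvPolynomial (Fin r) R) := by
      have : y ∈ RingHom.ker (MvPolynomial.map (Ideal.Quotient.mk p') :
          MvPolynomial (Fin r) R →+* MvPolynomial (Fin r) (R ⧸ p')) := h4
      rwa [MvPolynomial.ker_map, Ideal.mk_ker] at this
    have h6 : ρ y ∈ p.map (MvPolynomial.C : R →+* MvPolynomial (Fin n) R) := by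
      have h7 := Ideal.mem_map_of_mem ρ.toRingHom h5
      rw [Ideal.map_map] at h7
      have h8 : ρ.toRingHom.comp (MvPolynomial.C : R →+* MvPolynomial (Fin r) R) =
          (MvPolynomial.C : R →+* MvPolynomial (Fin n) R) := by
        ext c
        simp [ρ]
      rw [h8] at h7
      rw [← hq]
      exact h7
    have : x = ρ y + (x - ρ y) := by ring
    rw [this]
    exact Ideal.add_mem _ (Ideal.mem_sup_left h6) (Ideal.mem_sup_right h1)
  · exact sup_le hCle hJle

/-- **Key construction**: `n` elements of `S` such that `R[x_1..x_n] → S` is quasi-finite at `q`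
and the preimage of `q` is `(p, x_{r+1}, …, x_n)`. -/
theorem exists_aeval_quasiFiniteAt [Algebra.FiniteType R S] (p : Ideal R) [p.IsPrime]
    (q : Ideal S) [q.IsPrime] (hq : q.comap (algebraMap R S) = p) (n r : ℕ)
    (hr : td (Ideal.quotientMap q (algebraMap R S) le_rfl) = r)
    (H : ∀ q' : Ideal S, q'.IsPrime → q' ≤ q → q'.comap (algebraMap R S) = p →
      td (Ideal.quotientMap q' (algebraMap R S) le_rfl) ≤ (n : Cardinal.{u})) :
    ∃ s : Fin n → S,
      (MvPolynomial.aeval (R := R) s).toRingHom.QuasiFiniteAt q ∧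
      q.comap (MvPolynomial.aeval (R := R) s).toRingHom =
        p.map (MvPolynomial.C : R →+* MvPolynomial (Fin n) R) ⊔
          Ideal.span (Set.range fun i : {i : Fin n // r ≤ (i : ℕ)} =>
            (MvPolynomial.X (i : Fin n) : MvPolynomial (Fin n) R)) := by
  haveI : IsDomain (S ⧸ q) := Ideal.Quotient.isDomain q
  set p' := q.comap (algebraMap R S) with hp'
  haveI : p'.IsPrime := Ideal.comap_isPrime _ _
  haveI : IsDomain (R ⧸ p') := Ideal.Quotient.isDomain p'
  set γ := Ideal.quotientMap q (algebraMap R S) le_rfl with hγ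
  have hγinj : Injective γ := Ideal.quotientMap_injective
  -- an algebraically independent family of size `r` in `S ⧸ q`
  obtain ⟨a, ha⟩ : ∃ a : Fin r → S, @AlgebraicIndependent _ (R ⧸ p') (S ⧸ q)
      (fun i => Ideal.Quotient.mk q (a i)) _ _ γ.toAlgebra := by
    letI := γ.toAlgebra
    haveI : FaithfulSMul (R ⧸ p') (S ⧸ q) := (faithfulSMul_iff_algebraMap_injective _ _).mpr hγinj
    obtain ⟨ι, x, hx⟩ := exists_isTranscendenceBasis' (R ⧸ p') (S ⧸ q)
    have hcard : Cardinal.mk ι = r := by rw [hx.cardinalMk_eq_trdeg]; exact hr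
    obtain ⟨e⟩ := Cardinal.mk_eq_nat_iff.mp hcard
    choose y hy using fun i => Ideal.Quotient.mk_surjective (I := q) (x i)
    refine ⟨fun i => y (e.symm i), ?_⟩
    have : (fun i => Ideal.Quotient.mk q (y (e.symm i))) = x ∘ e.symm := by
      funext i; simp [hy]
    rw [this]
    exact hx.1.comp _ e.symm.injective
  -- parameters
  obtain ⟨m, b, hmr, hbq, hb⟩ := exists_parameters p q hq n r hr H
  have hrn : r ≤ n := by omega
  -- the elements
  set s : Fin n → S := fun i =>
    if h : (i : ℕ) < r then a ⟨i, h⟩
    else if h' : (i : ℕ) - r < m then b ⟨(i : ℕ) - r, h'⟩ else 0 with hs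
  have hsa : ∀ i : Fin r, s (Fin.castLE hrn i) = a i := by
    intro i
    simp only [hs, Fin.val_castLE, dif_pos i.2]
  let ιb : Fin m → Fin n := fun j => ⟨r + (j : ℕ), by omega⟩
  have hsb : ∀ j : Fin m, s (ιb j) = b j := by
    intro j
    have h1 : ¬ ((ιb j : Fin n) : ℕ) < r := by simp [ιb]
    have h2 : ((ιb j : Fin n) : ℕ) - r < m := by simp [ιb]
    simp only [hs, dif_neg h1, dif_pos h2]
    congr 1
    apply Fin.ext
    simp [ιb]
  have hsq : ∀ i : Fin n, r ≤ (i : ℕ) → s i ∈ q := by
    intro i hi
    have h1 : ¬ (i : ℕ) < r := not_lt.mpr hi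
    simp only [hs, dif_neg h1]
    split_ifs with h'
    · exact hbq _
    · exact q.zero_mem
  have ha' : @AlgebraicIndependent _ (R ⧸ q.comap (algebraMap R S)) (S ⧸ q)
      (fun i : Fin r => Ideal.Quotient.mk q (s (Fin.castLE hrn i))) _ _
      (Ideal.quotientMap q (algebraMap R S) le_rfl).toAlgebra := by
    have : (fun i : Fin r => Ideal.Quotient.mk q (s (Fin.castLE hrn i))) =
        fun i => Ideal.Quotient.mk q (a i) := by
      funext i; rw [hsa]
    rw [this]
    exact ha
  refine ⟨s, ?_, comap_aeval_eq p q hq n r hrn s ha' hsq⟩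
  obtain ⟨htd0, hgen⟩ := isolating_of_parameters q s r m (Fin.castLE hrn) ιb hr ha'
    (fun j => by rw [hsb]; exact hbq j)
    (fun q' hq' hle hc hmem => hb q' hq' hle (hc.trans hq) (fun j => by rw [← hsb]; exact hmem j))
  set ψ : MvPolynomial (Fin n) R →+* S := (MvPolynomial.aeval (R := R) s).toRingHom with hψ
  have hψC : ψ.comp MvPolynomial.C = algebraMap R S := by
    ext x; simp [hψ]
  have hψft : ψ.FiniteType := by
    have h1 : (ψ.comp (MvPolynomial.C : R →+* MvPolynomial (Fin n) R)).FiniteType := by
      rw [hψC, RingHom.finiteType_algebraMap]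
      infer_instance
    exact RingHom.FiniteType.of_comp_finiteType h1
  change @Algebra.QuasiFiniteAt _ _ _ _ ψ.toAlgebra q _
  letI := ψ.toAlgebra
  haveI : Algebra.FiniteType (MvPolynomial (Fin n) R) S := hψft
  refine QFinAlgAt.quasiFiniteAt_of_forall_le q ?_ ?_
  · intro q' hq' hle hc
    exact hgen q' hq' hle hc
  · intro q' hq' hle hc
    by_contra hne
    have hlt : q < q' := lt_of_le_of_ne hle (Ne.symm hne)
    have := td_quotientMap_lt ψ hψft q q' hlt hc.symm
    rw [htd0] at this
    exact not_lt_zero this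

/-- the bound on generizations from the local dimension of the fibre ring. -/
theorem td_le_of_localDim [Algebra.FiniteType R S] (p : Ideal R) [p.IsPrime] (q : Ideal S)
    [q.IsPrime] [q.LiesOver p] (Q : PrimeSpectrum (p.Fiber S))
    (hQ : Q.asIdeal.comap (Algebra.TensorProduct.includeRight.toRingHom) = q) (n : ℕ)
    (hdim : FlatMor.localDim (PrimeSpectrum (p.Fiber S)) Q = (n : WithBot ℕ∞)) :
    ∀ q' : Ideal S, q'.IsPrime → q' ≤ q → q'.comap (algebraMap R S) = p →
      td (Ideal.quotientMap q' (algebraMap R S) le_rfl) ≤ (n : Cardinal.{u}) := by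
  obtain rfl : p = q.under R := Ideal.over_def q p
  set q₀ : PrimeSpectrum S := ⟨q, inferInstance⟩ with hq₀
  have h1 : Q = FibreRingBridge.fibrePoint R S q₀ := FibreRingBridge.eq_fibrePoint R S q₀ Q hQ
  set f := AlgebraicGeometry.Spec.map (CommRingCat.ofHom (algebraMap R S)) with hf
  haveI : AlgebraicGeometry.LocallyOfFiniteType f := by
    rw [AlgebraicGeometry.HasRingHomProperty.Spec_iff (P := @AlgebraicGeometry.LocallyOfFiniteType)]
    change (algebraMap R S).FiniteType
    rw [RingHom.finiteType_algebraMap]
    infer_instance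
  have h2 : FlatMor.fibreDimAt f q₀ = n := by
    rw [← FibreRingBridge.localDim_fibrePoint, ← h1]
    exact hdim
  intro q' hq' hle hc
  set x' : PrimeSpectrum S := ⟨q', hq'⟩ with hx'
  have hsp : x' ⤳ q₀ := (PrimeSpectrum.le_iff_specializes x' q₀).mp hle
  have hfx : f x' = f q₀ := PrimeSpectrum.ext hc
  have h3 := (DimFibre.fibreDimAt_le_iff f q₀ n).mp h2.le x' hsp hfx
  rw [td_residueFieldMap_Spec] at h3
  exact h3

/-- the transcendence degree of the residue field extension, computed on `R/p → S/q`. -/
theorem td_quotientMap_eq_trdeg_residueField (p : Ideal R) [p.IsPrime] (q : Ideal S) [q.IsPrime]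
    [q.LiesOver p] [Algebra (Localization.AtPrime p) (Localization.AtPrime q)]
    [Localization.AtPrime.IsLiesOverAlgebra p q] :
    td (Ideal.quotientMap q (algebraMap R S) (le_of_eq (Ideal.over_def q p))) =
      Algebra.trdeg p.ResidueField q.ResidueField := by
  rw [← td_algebraMap]
  have hinjq : Injective (algebraMap (S ⧸ q) q.ResidueField) :=
    Ideal.injective_algebraMap_quotient_residueField q
  have hinjp : Injective (algebraMap (R ⧸ p) p.ResidueField) :=
    Ideal.injective_algebraMap_quotient_residueField p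
  refine td_eq_of_square _ (algebraMap (S ⧸ q) q.ResidueField) (algebraMap (R ⧸ p) p.ResidueField) _
    ?_ ?_ hinjq hinjp (algebraMap p.ResidueField q.ResidueField).injective ?_ ?_
  · apply Ideal.Quotient.ringHom_ext
    ext a
    simp [← IsScalarTower.algebraMap_apply]
  · apply Ideal.quotientMap_injective'
    exact le_of_eq (Ideal.over_def q p).symm
  · exact isAlgebraic_toAlgebra_algebraMap
  · exact isAlgebraic_toAlgebra_algebraMap

/-- spreading out quasi-finiteness at `q` to a principal open `S_g`. -/
theorem exists_quasiFinite_away [Algebra.FiniteType R S] (q : Ideal S) [q.IsPrime] (n : ℕ)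
    (s : Fin n → S) (hqf : (MvPolynomial.aeval (R := R) s).toRingHom.QuasiFiniteAt q) :
    ∃ g : S, g ∉ q ∧ ∃ φ : MvPolynomial (Fin n) R →ₐ[R] Localization.Away g,
      φ.toRingHom.FiniteType ∧ φ.toRingHom.QuasiFinite ∧
      (q.map (algebraMap S (Localization.Away g))).comap φ =
        q.comap (MvPolynomial.aeval (R := R) s).toRingHom := by
  set ψ : MvPolynomial (Fin n) R →+* S := (MvPolynomial.aeval (R := R) s).toRingHom with hψ
  have hψC : ψ.comp MvPolynomial.C = algebraMap R S := by
    ext x; simp [hψ]
  have hψft : ψ.FiniteType := by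
    have h1 : (ψ.comp (MvPolynomial.C : R →+* MvPolynomial (Fin n) R)).FiniteType := by
      rw [hψC, RingHom.finiteType_algebraMap]
      infer_instance
    exact RingHom.FiniteType.of_comp_finiteType h1
  letI := ψ.toAlgebra
  haveI : Algebra.FiniteType (MvPolynomial (Fin n) R) S := hψft
  haveI : Algebra.QuasiFiniteAt (MvPolynomial (Fin n) R) q := hqf
  obtain ⟨S', hS', t, htq, Hbij⟩ :=
    Algebra.QuasiFiniteAt.exists_fg_and_exists_notMem_and_awayMap_bijective
      (R := MvPolynomial (Fin n) R) q
  haveI : Module.Finite (MvPolynomial (Fin n) R) S' := ⟨(Submodule.fg_top _).mpr hS'⟩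
  haveI : Algebra.QuasiFinite (MvPolynomial (Fin n) R) (Localization.Away t) := .trans _ S' _
  haveI hQF : Algebra.QuasiFinite (MvPolynomial (Fin n) R) (Localization.Away t.1) :=
    Algebra.QuasiFinite.of_surjective_algHom (R := MvPolynomial (Fin n) R)
      (S := Localization.Away t) (T := Localization.Away t.1)
      (Localization.awayMapₐ S'.val t) Hbij.2
  refine ⟨t.1, htq, ?_⟩
  let φ : MvPolynomial (Fin n) R →ₐ[R] Localization.Away t.1 :=
    (IsScalarTower.toAlgHom R S (Localization.Away t.1)).comp (MvPolynomial.aeval (R := R) s)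
  have hφ : φ.toRingHom = algebraMap (MvPolynomial (Fin n) R) (Localization.Away t.1) := by
    rw [IsScalarTower.algebraMap_eq (MvPolynomial (Fin n) R) S (Localization.Away t.1)]
    rfl
  refine ⟨φ, ?_, ?_, ?_⟩
  · haveI : Algebra.FiniteType S (Localization.Away t.1) :=
      IsLocalization.finiteType_of_monoid_fg (Submonoid.powers t.1) _
    haveI : Algebra.FiniteType R (Localization.Away t.1) :=
      Algebra.FiniteType.trans (S := S) inferInstance inferInstance
    have h1 : (φ.toRingHom.comp (algebraMap R (MvPolynomial (Fin n) R))).FiniteType := by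
      rw [AlgHom.toRingHom_eq_coe, φ.comp_algebraMap, RingHom.finiteType_algebraMap]
      infer_instance
    exact RingHom.FiniteType.of_comp_finiteType h1
  · rw [hφ, RingHom.quasiFinite_algebraMap]
    exact hQF
  · have hdisj : Disjoint ((Submonoid.powers t.1 : Submonoid S) : Set S) (q : Set S) :=
      (Ideal.disjoint_powers_iff_notMem t.1 (Ideal.IsPrime.isRadical inferInstance)).mpr htq
    have h1 : (q.map (algebraMap S (Localization.Away t.1))).comap
        (algebraMap S (Localization.Away t.1)) = q :=
      IsLocalization.under_map_of_isPrime_disjoint (Submonoid.powers t.1) (Localization.Away t.1)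
        inferInstance hdisj
    have h2 : (φ : MvPolynomial (Fin n) R →+* Localization.Away t.1) =
        (algebraMap S (Localization.Away t.1)).comp ψ := rfl
    change (q.map (algebraMap S (Localization.Away t.1))).comap
      (φ : MvPolynomial (Fin n) R →+* Localization.Away t.1) = _
    rw [h2, ← Ideal.comap_comap, h1]

/-- **S9181** (Stacks 00QF-type). -/
theorem main (R S : Type u) [CommRing R] [CommRing S]
    [Algebra R S] [Algebra.FiniteType R S] (p : Ideal R) [p.IsPrime] (q : Ideal S) [q.IsPrime] [q.LiesOver p]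
    [Algebra (Localization.AtPrime p) (Localization.AtPrime q)]
    [Localization.AtPrime.IsLiesOverAlgebra p q] (Q : PrimeSpectrum (p.Fiber S))
    (hQ : Q.asIdeal.comap (Algebra.TensorProduct.includeRight.toRingHom) = q) (n r : ℕ)
    (hdim : FlatMor.localDim (PrimeSpectrum (p.Fiber S)) Q = (n : WithBot ℕ∞))
    (hr : Algebra.trdeg p.ResidueField q.ResidueField = r) :
    ∃ (f : R) (g : S), f ∉ p ∧ g ∉ q ∧
      ∃ φ : MvPolynomial (Fin n) (Localization.Away f) →ₐ[R] Localization.Away g,
        φ.toRingHom.FiniteType ∧ φ.toRingHom.QuasiFinite ∧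
        (q.map (algebraMap S (Localization.Away g))).comap φ =
          p.map (algebraMap R (MvPolynomial (Fin n) (Localization.Away f))) ⊔
            Ideal.span (Set.range fun i : {i : Fin n // r ≤ (i : ℕ)} =>
              (MvPolynomial.X (i : Fin n) : MvPolynomial (Fin n) (Localization.Away f))) := by
  have hq : q.comap (algebraMap R S) = p := (Ideal.over_def q p).symm
  have H := td_le_of_localDim p q Q hQ n hdim
  have hr' : td (Ideal.quotientMap q (algebraMap R S) le_rfl) = r := by
    rw [← hr, ← td_quotientMap_eq_trdeg_residueField p q]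
    exact (td_quotientMap_congr_ideal (algebraMap R S) q p hq).symm
  obtain ⟨s, hqf, hcomap⟩ := exists_aeval_quasiFiniteAt p q hq n r hr' H
  obtain ⟨g, hgq, φ₀, hft, hqfin, hc⟩ := exists_quasiFinite_away q n s hqf
  refine ⟨1, g, fun h => (Ideal.IsPrime.ne_top inferInstance) (p.eq_top_of_isUnit_mem h isUnit_one),
    hgq, ?_⟩
  -- `Localization.Away 1 ≃ R`
  let e₀ : R ≃ₐ[R] Localization.Away (1 : R) :=
    IsLocalization.atUnits R (Submonoid.powers (1 : R)) (by
      rintro _ ⟨k, rfl⟩
      simp)
  let E : MvPolynomial (Fin n) (Localization.Away (1 : R)) ≃ₐ[R] MvPolynomial (Fin n) R :=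
    MvPolynomial.mapAlgEquiv (Fin n) e₀.symm
  let φ : MvPolynomial (Fin n) (Localization.Away (1 : R)) →ₐ[R] Localization.Away g :=
    φ₀.comp E.toAlgHom
  have hφ : φ.toRingHom = φ₀.toRingHom.comp E.toRingEquiv.toRingHom := rfl
  refine ⟨φ, ?_, ?_, ?_⟩
  · rw [hφ]
    exact hft.comp (RingHom.FiniteType.of_surjective _ E.surjective)
  · rw [hφ]
    exact RingHom.QuasiFinite.respectsIso.2 φ₀.toRingHom E.toRingEquiv hqfin
  · have h1 : (q.map (algebraMap S (Localization.Away g))).comap φ =
        ((q.map (algebraMap S (Localization.Away g))).comap φ₀).comap E.toRingEquiv := by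
      ext x
      rfl
    rw [h1, hc, hcomap, ← Ideal.map_symm, Ideal.map_sup]
    change Ideal.map (E.symm.toAlgHom.toRingHom) (Ideal.map MvPolynomial.C p) ⊔
      Ideal.map (E.symm.toAlgHom.toRingHom) (Ideal.span (Set.range fun i : {i : Fin n // r ≤ (i : ℕ)} =>
        (MvPolynomial.X (i : Fin n) : MvPolynomial (Fin n) R))) = _
    rw [Ideal.map_map, Ideal.map_span]
    congr 1
    · congr 1
      refine RingHom.ext fun c => ?_
      change E.symm (MvPolynomial.C c) = _
      rw [← MvPolynomial.algebraMap_eq, E.symm.commutes]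
    · congr 1
      ext x
      simp only [Set.mem_image, Set.mem_range]
      constructor
      · rintro ⟨_, ⟨i, rfl⟩, rfl⟩
        refine ⟨i, ?_⟩
        change _ = E.symm (MvPolynomial.X (i : Fin n))
        simp [E]
      · rintro ⟨i, rfl⟩
        refine ⟨_, ⟨i, rfl⟩, ?_⟩
        change E.symm (MvPolynomial.X (i : Fin n)) = _
        simp [E]

end Groth.Agent.Lib.helper3.QFinRing2
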