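import Mathlib
import Groth.Agent.Lib.Helper3.QFinRing2
/-!
# Flat algebras of finite type over a valuation ring: generizing with no loss of residue
transcendence degree (helper3)

* `exists_dvd_forall` : in a valuation ring, a nonempty finite family has a member dividing all;
* `exists_eq_C_mul_primitive` : a nonzero polynomial over a valuation ring is a nonzero constant
  times a polynomial with a unit coefficient;
* `exists_prime_over_bot` : `C'` flat of finite type over a valuation ring `R`, `q` a prime over the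
  maximal ideal with `trdeg κ(q)/κ = N`: there is a prime `q' ≤ q` over `(0)` with
  `trdeg κ(q')/Frac R ≥ N`.
-/

set_option autoImplicit false
universe u
open Function

namespace Groth.Agent.Lib.helper3.ValFlatDim

open Groth.Agent.Lib.helper3.DimIneq Groth.Agent.Lib.helper3.FibreParam
  Groth.Agent.Lib.helper3.QFinRing2

theorem exists_dvd_forall {R : Type u} [CommRing R] [IsDomain R] [ValuationRing R] {ι : Type*}
    (g : ι → R) (s : Finset ι) (hs : s.Nonempty) : ∃ i ∈ s, ∀ j ∈ s, g i ∣ g j := by
  induction hs using Finset.Nonempty.cons_induction with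
  | singleton a => exact ⟨a, Finset.mem_singleton_self a, fun j hj => by
      rw [Finset.mem_singleton.mp hj]⟩
  | cons a s ha hs ih =>
    obtain ⟨i₀, hi₀, h⟩ := ih
    rcases ValuationRing.dvd_total (g a) (g i₀) with hdiv | hdiv
    · refine ⟨a, Finset.mem_cons_self a s, fun j hj => ?_⟩
      rcases Finset.mem_cons.mp hj with rfl | hj
      · exact dvd_rfl
      · exact hdiv.trans (h j hj)
    · refine ⟨i₀, Finset.mem_cons.mpr (Or.inr hi₀), fun j hj => ?_⟩
      rcases Finset.mem_cons.mp hj with rfl | hj
      · exact hdiv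
      · exact h j hj

theorem exists_eq_C_mul_primitive {R : Type u} [CommRing R] [IsDomain R] [ValuationRing R]
    {σ : Type*} (b : MvPolynomial σ R) (hb : b ≠ 0) :
    ∃ (c : R) (b₀ : MvPolynomial σ R), c ≠ 0 ∧ b = MvPolynomial.C c * b₀ ∧
      b₀ ∉ (IsLocalRing.maximalIdeal R).map (MvPolynomial.C : R →+* MvPolynomial σ R) := by
  classical
  have hne : b.support.Nonempty := by
    rw [Finset.nonempty_iff_ne_empty, Ne, MvPolynomial.support_eq_empty]
    exact hb
  obtain ⟨m₀, hm₀, hdiv⟩ := exists_dvd_forall (fun m => MvPolynomial.coeff m b) b.support hne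
  set c := MvPolynomial.coeff m₀ b with hc
  have hc0 : c ≠ 0 := MvPolynomial.mem_support_iff.mp hm₀
  have hdiv' : ∀ m, c ∣ MvPolynomial.coeff m b := by
    intro m
    by_cases hm : m ∈ b.support
    · exact hdiv m hm
    · rw [MvPolynomial.notMem_support_iff.mp hm]
      exact dvd_zero c
  choose r hr using hdiv'
  refine ⟨c, b.support.sum fun m => MvPolynomial.monomial m (r m), hc0, ?_, ?_⟩
  · ext m
    rw [MvPolynomial.coeff_C_mul, MvPolynomial.coeff_sum]
    simp only [MvPolynomial.coeff_monomial]
    rw [Finset.sum_ite_eq' b.support m]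
    by_cases hm : m ∈ b.support
    · rw [if_pos hm]; exact hr m
    · rw [if_neg hm, mul_zero]; exact MvPolynomial.notMem_support_iff.mp hm
  · intro hmem
    rw [MvPolynomial.mem_map_C_iff] at hmem
    have h1 := hmem m₀
    rw [MvPolynomial.coeff_sum] at h1
    simp only [MvPolynomial.coeff_monomial] at h1
    rw [Finset.sum_ite_eq' b.support m₀, if_pos hm₀] at h1
    have h2 : r m₀ = 1 := by
      have := hr m₀
      rw [← hc] at this
      have h3 : c * 1 = c * r m₀ := by rw [mul_one]; exact this
      exact (mul_left_cancel₀ hc0 h3).symm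
    rw [h2] at h1
    exact (IsLocalRing.maximalIdeal.isMaximal R).ne_top
      ((Ideal.eq_top_iff_one _).mpr h1)

/-- lifts of a transcendence basis of `S/q` over `R/(q ∩ R)`. -/
theorem exists_algebraicIndependent_lift {R S : Type u} [CommRing R] [CommRing S] [Algebra R S]
    (q : Ideal S) [q.IsPrime] (r : ℕ)
    (hr : td (Ideal.quotientMap q (algebraMap R S) le_rfl) = r) :
    ∃ a : Fin r → S, @AlgebraicIndependent _ (R ⧸ q.comap (algebraMap R S)) (S ⧸ q)
      (fun i => Ideal.Quotient.mk q (a i)) _ _
      (Ideal.quotientMap q (algebraMap R S) le_rfl).toAlgebra := by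
  haveI : IsDomain (S ⧸ q) := Ideal.Quotient.isDomain q
  set p' := q.comap (algebraMap R S) with hp'
  haveI : p'.IsPrime := Ideal.comap_isPrime _ _
  haveI : IsDomain (R ⧸ p') := Ideal.Quotient.isDomain p'
  set γ := Ideal.quotientMap q (algebraMap R S) le_rfl with hγ
  have hγinj : Injective γ := Ideal.quotientMap_injective
  letI := γ.toAlgebra
  haveI : FaithfulSMul (R ⧸ p') (S ⧸ q) := (faithfulSMul_iff_algebraMap_injective _ _).mpr hγinj
  obtain ⟨ι, x, hx⟩ := exists_isTranscendenceBasis' (R ⧸ p') (S ⧸ q)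
  have hcard : Cardinal.mk ι = r := by rw [hx.cardinalMk_eq_trdeg]; exact hr
  obtain ⟨e⟩ := Cardinal.mk_eq_nat_iff.mp hcard
  choose y hy using fun i => Ideal.Quotient.mk_surjective (I := q) (x i)
  refine ⟨fun i => y (e.symm i), ?_⟩
  have : (fun i => Ideal.Quotient.mk q (y (e.symm i))) = x ∘ e.symm := by
    funext i; simp [hy]
  rw [this]
  exact hx.1.comp _ e.symm.injective

/-- **Generizing without loss of transcendence degree over a valuation ring.** -/
theorem exists_prime_over_bot {R C : Type u} [CommRing R] [IsDomain R] [ValuationRing R]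
    [CommRing C] [Algebra R C] [Module.Flat R C] (q : Ideal C) [q.IsPrime]
    (hq : q.comap (algebraMap R C) = IsLocalRing.maximalIdeal R) (N : ℕ)
    (hN : td (Ideal.quotientMap q (algebraMap R C) le_rfl) = N) :
    ∃ q' : Ideal C, q'.IsPrime ∧ q' ≤ q ∧ q'.comap (algebraMap R C) = ⊥ ∧
      (N : Cardinal.{u}) ≤ td (Ideal.quotientMap q' (algebraMap R C) le_rfl) := by
  obtain ⟨a, ha⟩ := exists_algebraicIndependent_lift q N hN
  set ψ : MvPolynomial (Fin N) R →ₐ[R] C := MvPolynomial.aeval a with hψ
  have hψC : ψ.toRingHom.comp MvPolynomial.C = algebraMap R C := by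
    ext x; simp [hψ]
  -- the preimage of `q`
  have hcomap := comap_aeval_eq (IsLocalRing.maximalIdeal R) q hq N N le_rfl a
    (by
      have : (fun i : Fin N => Ideal.Quotient.mk q (a (Fin.castLE le_rfl i))) =
          fun i => Ideal.Quotient.mk q (a i) := by
        funext i; simp
      rw [this]; exact ha)
    (fun i hi => absurd i.2 (not_lt.mpr hi))
  have hprim : ∀ b₀ : MvPolynomial (Fin N) R,
      b₀ ∉ (IsLocalRing.maximalIdeal R).map (MvPolynomial.C : R →+* MvPolynomial (Fin N) R) →
      ψ b₀ ∉ q := by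
    intro b₀ hb₀ hmem
    apply hb₀
    have h1 : b₀ ∈ q.comap ψ.toRingHom := hmem
    rw [hcomap] at h1
    have hempty : (Set.range fun i : {i : Fin N // N ≤ (i : ℕ)} =>
        (MvPolynomial.X (i : Fin N) : MvPolynomial (Fin N) R)) = ∅ := by
      rw [Set.range_eq_empty_iff]
      exact ⟨fun i => absurd i.1.2 (not_lt.mpr i.2)⟩
    rw [hempty, Ideal.span_empty, sup_bot_eq] at h1
    exact h1
  -- the multiplicative set
  set T : Submonoid C := q.primeCompl ⊔
    Submonoid.map ψ.toRingHom (nonZeroDivisors (MvPolynomial (Fin N) R)) with hT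
  have hdisj : Disjoint ((⊥ : Ideal C) : Set C) (T : Set C) := by
    rw [Set.disjoint_left]
    intro y hy hyT
    have hy0 : y = 0 := hy
    subst hy0
    obtain ⟨u, hu, v, hv, huv⟩ := Submonoid.mem_sup.mp hyT
    obtain ⟨b, hb, rfl⟩ := hv
    have hb0 : b ≠ 0 := nonZeroDivisors.ne_zero hb
    obtain ⟨c, b₀, hc0, hbeq, hb₀⟩ := exists_eq_C_mul_primitive b hb0
    have hψb₀ := hprim b₀ hb₀
    have hw : u * ψ b₀ ∉ q := fun h => (Ideal.IsPrime.mem_or_mem inferInstance h).elim hu hψb₀
    apply hw
    have hreg : IsSMulRegular C c :=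
      Module.Flat.isSMulRegular_of_nonZeroDivisors (mem_nonZeroDivisors_of_ne_zero hc0)
    have h0 : c • (u * ψ b₀) = c • (0 : C) := by
      rw [smul_zero, ← huv]
      change _ = u * ψ b
      rw [hbeq, map_mul, Algebra.smul_def]
      have : ψ (MvPolynomial.C c) = algebraMap R C c := by simp [hψ]
      rw [this]
      ring
    rw [hreg h0]
    exact q.zero_mem
  obtain ⟨q', hq'prime, -, hq'disj⟩ := Ideal.exists_le_prime_disjoint (⊥ : Ideal C) T hdisj
  have hq'le : q' ≤ q := by
    intro y hy
    by_contra hyq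
    exact Set.disjoint_left.mp hq'disj hy (Submonoid.mem_sup_left (show y ∈ q.primeCompl from hyq))
  have hq'ψ : q'.comap ψ.toRingHom = ⊥ := by
    rw [eq_bot_iff]
    intro b hb
    by_contra hb0
    have hbT : ψ b ∈ T := Submonoid.mem_sup_right
      ⟨b, mem_nonZeroDivisors_of_ne_zero hb0, rfl⟩
    exact Set.disjoint_left.mp hq'disj hb hbT
  have hq'R : q'.comap (algebraMap R C) = ⊥ := by
    rw [← hψC, ← Ideal.comap_comap, hq'ψ, eq_bot_iff]
    intro x hx
    have : MvPolynomial.C x = (0 : MvPolynomial (Fin N) R) := hx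
    exact (MvPolynomial.C_injective (Fin N) R) (this.trans MvPolynomial.C_0.symm)
  refine ⟨q', hq'prime, hq'le, hq'R, ?_⟩
  -- algebraic independence modulo `q'`
  haveI := hq'prime
  haveI : IsDomain (C ⧸ q') := Ideal.Quotient.isDomain q'
  set I := q'.comap (algebraMap R C) with hI
  haveI : I.IsPrime := Ideal.comap_isPrime _ _
  set γ' := Ideal.quotientMap q' (algebraMap R C) le_rfl with hγ'
  letI := γ'.toAlgebra
  have hind : AlgebraicIndependent (R ⧸ I) (fun i : Fin N => Ideal.Quotient.mk q' (a i)) := by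
    change Injective _
    rw [injective_iff_map_eq_zero]
    intro P hP
    obtain ⟨b, rfl⟩ := MvPolynomial.map_surjective (Ideal.Quotient.mk I)
      Ideal.Quotient.mk_surjective P
    have hfact : (Ideal.Quotient.mk q').comp ψ.toRingHom =
        (MvPolynomial.aeval (R := R ⧸ I)
          (fun i : Fin N => Ideal.Quotient.mk q' (a i))).toRingHom.comp
          (MvPolynomial.map (Ideal.Quotient.mk I)) := by
      apply MvPolynomial.ringHom_ext
      · intro c
        simp only [RingHom.comp_apply, AlgHom.toRingHom_eq_coe, RingHom.coe_coe,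
          MvPolynomial.aeval_C, MvPolynomial.map_C, hψ]
        rfl
      · intro i
        simp only [RingHom.comp_apply, AlgHom.toRingHom_eq_coe, RingHom.coe_coe,
          MvPolynomial.aeval_X, MvPolynomial.map_X, hψ]
    have h1 := RingHom.congr_fun hfact b
    simp only [RingHom.comp_apply, AlgHom.toRingHom_eq_coe, RingHom.coe_coe] at h1
    rw [hP, Ideal.Quotient.eq_zero_iff_mem] at h1
    have h2 : b ∈ q'.comap ψ.toRingHom := h1
    rw [hq'ψ] at h2
    have : b = 0 := h2
    rw [this, map_zero]
  haveI : Nontrivial (R ⧸ I) := inferInstance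
  have := hind.lift_cardinalMk_le_trdeg
  simpa using this

end Groth.Agent.Lib.helper3.ValFlatDim
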