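import Mathlib
import Groth.Prelude.Def_Found
import Groth.Agent.Lib.Helper3.ValFlatDim
import Groth.Agent.Lib.Helper3.EquidimIrr
import Groth.Agent.Lib.Helper3.NowhereDenseGen
import Groth.Agent.Lib.Helper3.FibreDimBC
import Groth.Agent.Lib.Helper3.FibreDimCons
import Groth.Agent.Lib.Helper3.TdSpecBridge
import Groth.Agent.Lib.Helper4.ValRefined
/-!
# Lower semicontinuity of the fibre dimension on the base for flat morphisms of finite presentation
(helper3; = S0404, Stacks 0D4H-type)

* `exists_generization_over_valuationRing` : over a valuation ring, a point of the closed fibre of a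
  flat lft morphism has a generization in the generic fibre with at least the same local fibre
  dimension;
* `exists_generization_fibreDimAt_le` : `f` flat lft, `t ⤳ f x`: a point `x'` over `t` with
  `dim_x X_{f x} ≤ dim_{x'} X_t`;
* `isOpen_of_isLocallyConstructible_of_stableUnderGeneralization`;
* `isOpen_lt_fibre_dim_of_flat` (= S0404).
-/

set_option autoImplicit false
universe u
open CategoryTheory CategoryTheory.Limits AlgebraicGeometry Function Topology

namespace Groth.Agent.Lib.helper3.FlatFibreDimLSC

open Groth.Agent.Lib.helper3.DimIneq Groth.Agent.Lib.helper3.FTField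
  Groth.Agent.Lib.helper3.ValFlatDim

theorem valuationRing_of_ringEquiv {A B : Type u} [CommRing A] [IsDomain A] [CommRing B]
    [IsDomain B] [ValuationRing B] (e : A ≃+* B) : ValuationRing A :=
  { cond' := fun a b => by
      obtain ⟨c, hc⟩ := ValuationRing.cond (e a) (e b)
      refine ⟨e.symm c, ?_⟩
      rcases hc with h | h
      · left; apply e.injective; simp [h]
      · right; apply e.injective; simp [h] }

/-- over a valuation ring, a point of the closed fibre of a flat morphism locally of finite type has
a generization in the generic fibre with at least the same local fibre dimension. -/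
theorem exists_generization_over_valuationRing (R : Type u) [CommRing R] [IsDomain R]
    [ValuationRing R] {Z : Scheme.{u}} (g : Z ⟶ Spec (CommRingCat.of R)) [Flat g]
    [LocallyOfFiniteType g] (z : Z) (hz : g z = IsLocalRing.closedPoint R) :
    ∃ z' : Z, (g z').asIdeal = ⊥ ∧ FlatMor.fibreDimAt g z ≤ FlatMor.fibreDimAt g z' := by
  obtain ⟨z₁, N, hsp, hgz, -, htd, hdim⟩ := EquidimIrr.exists_maximal_fibre_point g z
  obtain ⟨W, hW, hz₁W, -⟩ := exists_isAffineOpen_mem_and_subset (x := z₁) (U := ⊤) trivial
  have hV := isAffineOpen_top (Spec (CommRingCat.of R))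
  have e : W ≤ g ⁻¹ᵁ ⊤ := le_top
  set φ := (g.appLE ⊤ W e).hom with hφ
  have hφflat : φ.Flat := HasRingHomProperty.appLE (P := @Flat) g inferInstance ⟨⊤, hV⟩ ⟨W, hW⟩ e
  let eR : Γ(Spec (CommRingCat.of R), ⊤) ≃+* R :=
    (Scheme.ΓSpecIso (CommRingCat.of R)).commRingCatIsoToRingEquiv
  haveI : IsDomain Γ(Spec (CommRingCat.of R), ⊤) := MulEquiv.isDomain R eR.toMulEquiv
  haveI : ValuationRing Γ(Spec (CommRingCat.of R), ⊤) := valuationRing_of_ringEquiv eR
  letI := φ.toAlgebra
  haveI : Module.Flat Γ(Spec (CommRingCat.of R), ⊤) Γ(Z, W) := hφflat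
  set q := (hW.primeIdealOf ⟨z₁, hz₁W⟩).asIdeal with hq
  have hcomap : ∀ (y : Z) (hy : y ∈ W), (hW.primeIdealOf ⟨y, hy⟩).asIdeal.comap φ =
      (hV.primeIdealOf ⟨g y, e hy⟩).asIdeal := by
    intro y hy
    have := IsAffineOpen.comap_primeIdealOf_appLE (f := g) (x := y) ⊤ hV W hW e hy
    exact congrArg PrimeSpectrum.asIdeal this
  have hqmax : q.comap (algebraMap Γ(Spec (CommRingCat.of R), ⊤) Γ(Z, W)) =
      IsLocalRing.maximalIdeal Γ(Spec (CommRingCat.of R), ⊤) := by
    change q.comap φ = _
    rw [hq, hcomap z₁ hz₁W]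
    have hclosed : IsClosed ({(g z₁ : Spec (CommRingCat.of R))} : Set (Spec (CommRingCat.of R))) := by
      rw [hgz, hz]
      exact IsLocalRing.isClosed_singleton_closedPoint R
    have := hV.primeIdealOf_isMaximal_of_isClosed ⟨g z₁, e hz₁W⟩ hclosed
    exact IsLocalRing.eq_maximalIdeal this
  have hN : td (Ideal.quotientMap q (algebraMap Γ(Spec (CommRingCat.of R), ⊤) Γ(Z, W)) le_rfl) = N := by
    rw [← htd, ← td_quotientMap_eq g hV hW e z₁ hz₁W]
    rfl
  obtain ⟨q', hq'prime, hq'le, hq'bot, hNle⟩ := exists_prime_over_bot q hqmax N hN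
  haveI := hq'prime
  obtain ⟨z', hz'W, hz'q⟩ := exists_point_of_prime hW q'
  refine ⟨z', ?_, ?_⟩
  · have h1 : (hV.primeIdealOf ⟨g z', e hz'W⟩).asIdeal = ⊥ := by
      rw [← hcomap z' hz'W, hz'q]
      exact hq'bot
    have h2 : (hV.primeIdealOf ⟨g z', e hz'W⟩).asIdeal = (g z').asIdeal.comap eR.toRingHom :=
      congrArg PrimeSpectrum.asIdeal (primeIdealOf_top_Spec (CommRingCat.of R) (g z'))
    rw [h2] at h1
    rw [eq_bot_iff]
    intro x hx
    have h3 : eR.symm x ∈ (g z').asIdeal.comap eR.toRingHom := by
      change eR (eR.symm x) ∈ (g z').asIdeal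
      rw [eR.apply_symm_apply]
      exact hx
    rw [h1] at h3
    have h4 : eR.symm x = 0 := h3
    have := congrArg eR h4
    rw [eR.apply_symm_apply, map_zero] at this
    exact this
  · obtain ⟨N', hN'⟩ := NowhereDenseGen.exists_nat_td g z'
    have h1 := NowhereDenseGen.td_le_fibreDimAt g z' N' hN'
    have h2 : (N : Cardinal.{u}) ≤ N' := by
      rw [← hN', ← td_quotientMap_eq g hV hW e z' hz'W]
      have : td (Ideal.quotientMap (hW.primeIdealOf ⟨z', hz'W⟩).asIdeal (g.appLE ⊤ W e).hom le_rfl) =
          td (Ideal.quotientMap q' (algebraMap Γ(Spec (CommRingCat.of R), ⊤) Γ(Z, W)) le_rfl) := by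
        have := FibreParam.td_quotientMap_congr_prime φ _ _ hz'q
        exact this
      rw [this]
      exact hNle
    have h3 : N ≤ N' := by exact_mod_cast h2
    rw [hdim]
    refine le_trans ?_ h1
    exact_mod_cast h3

/-- **Generization of fibre points with no loss of dimension** for flat morphisms locally of finite
type. -/
theorem exists_generization_fibreDimAt_le {X S : Scheme.{u}} (f : X ⟶ S) [Flat f]
    [LocallyOfFiniteType f] (x : X) (t : S) (hts : t ⤳ f x) :
    ∃ x' : X, f x' = t ∧ FlatMor.fibreDimAt f x ≤ FlatMor.fibreDimAt f x' := by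
  obtain ⟨R, m, hm1, hm2⟩ :=
    Groth.Agent.Lib.helper4.ValRefined.exists_valuationSubring_of_specializes (𝟙 S) t (f x)
      (by simpa using hts)
  -- base change to the valuation ring
  set g := pullback.snd f m with hg
  obtain ⟨z, hz1, hz2⟩ := Scheme.Pullback.exists_preimage_pullback (f := f) (g := m) x
    (IsLocalRing.closedPoint R) hm1.symm
  have hsq : IsPullback (pullback.fst f m) g f m := IsPullback.of_hasPullback f m
  obtain ⟨z', hz'bot, hle⟩ := exists_generization_over_valuationRing R g z hz2
  refine ⟨pullback.fst f m z', ?_, ?_⟩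
  · -- the image of the generic point
    have h1 : f (pullback.fst f m z') = m (g z') := by
      rw [← Scheme.Hom.comp_apply, ← Scheme.Hom.comp_apply, pullback.condition]
    rw [h1]
    set pt : Spec (S.residueField t) := IsLocalRing.closedPoint (S.residueField t) with hpt
    have h2 : g z' = Spec.map (CommRingCat.ofHom R.subtype) pt := by
      apply PrimeSpectrum.ext
      rw [hz'bot]
      symm
      rw [eq_bot_iff]
      intro a ha
      have h3 : R.subtype a ∈ (pt : PrimeSpectrum (S.residueField t)).asIdeal := ha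
      have h4 : (pt : PrimeSpectrum (S.residueField t)).asIdeal = ⊥ := by
        rw [hpt]
        change IsLocalRing.maximalIdeal _ = ⊥
        exact IsLocalRing.maximalIdeal_eq_bot
      rw [h4] at h3
      have h5 : R.subtype a = 0 := h3
      exact Subtype.ext h5
    rw [h2, ← Scheme.Hom.comp_apply, hm2, Category.comp_id]
    exact S.fromSpecResidueField_apply t pt
  · rw [← FibreDimBC.fibreDimAt_eq_of_isPullback f m (pullback.fst f m) g hsq z',
      ← hz1, ← FibreDimBC.fibreDimAt_eq_of_isPullback f m (pullback.fst f m) g hsq z]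
    exact hle

/-- a locally constructible subset of a scheme which is stable under generization is open. -/
theorem isOpen_of_isLocallyConstructible_of_stableUnderGeneralization {S : Scheme.{u}} {E : Set S}
    (hc : IsLocallyConstructible E) (hgen : StableUnderGeneralization E) : IsOpen E := by
  rw [isOpen_iff_forall_mem_open]
  intro s hs
  obtain ⟨V, hV, hsV, -⟩ := exists_isAffineOpen_mem_and_subset (x := s) (U := ⊤) trivial
  refine ⟨E ∩ V, Set.inter_subset_left, ?_, ⟨hs, hsV⟩⟩
  have hemb := hV.fromSpec.isOpenEmbedding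
  have heq : E ∩ V = hV.fromSpec '' (hV.fromSpec ⁻¹' E) := by
    rw [Set.image_preimage_eq_inter_range, hV.range_fromSpec]
  rw [heq]
  apply hemb.isOpenMap
  apply PrimeSpectrum.isOpen_of_stableUnderGeneralization_of_isConstructible
  · exact hgen.preimage hV.fromSpec.continuous
  · exact (hc.preimage_of_isOpenEmbedding hemb).isConstructible

/-- **S0404**: lower semicontinuity of the fibre dimension on the base. -/
theorem isOpen_lt_fibre_dim_of_flat {X S : Scheme.{u}} (f : X ⟶ S) [Flat f]
    [LocallyOfFinitePresentation f] [QuasiCompact f] [QuasiSeparated f] (c : WithBot ℕ∞) :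
    IsOpen {s : S | c < topologicalKrullDim (f.fiber s)} := by
  have hset : {s : S | c < topologicalKrullDim (f.fiber s)} =
      f '' {x : X | FlatMor.fibreDimAt f x ≤ c}ᶜ := by
    have h1 := FibreDimCons.setOf_dim_le_eq f c
    have h2 : {s : S | c < topologicalKrullDim (f.fiber s)} =
        {s : S | topologicalKrullDim (f.fiber s) ≤ c}ᶜ := by
      ext s
      simp only [Set.mem_ofPred_eq, Set.mem_compl_iff, not_le]
    rw [h2, h1, compl_compl]
  apply isOpen_of_isLocallyConstructible_of_stableUnderGeneralization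
  · have h2 : {s : S | c < topologicalKrullDim (f.fiber s)} =
        {s : S | topologicalKrullDim (f.fiber s) ≤ c}ᶜ := by
      ext s
      simp only [Set.mem_ofPred_eq, Set.mem_compl_iff, not_le]
    rw [h2]
    exact FibreDimCons.isLocallyConstructible_compl (FibreDimCons.isLocallyConstructible_dim_le f c)
  · rw [hset]
    rintro _ t hts ⟨x, hx, rfl⟩
    obtain ⟨x', hx't, hle⟩ := exists_generization_fibreDimAt_le f x t hts
    refine ⟨x', ?_, hx't⟩
    simp only [Set.mem_compl_iff, Set.mem_ofPred_eq, not_le] at hx ⊢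
    exact lt_of_lt_of_le hx hle

end Groth.Agent.Lib.helper3.FlatFibreDimLSC
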