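import Mathlib
import Groth.Agent.Lib.Helper3.FibreRingBridge
import Groth.Agent.Lib.Helper3.FlatFibreDimLSC
import Groth.Agent.Lib.Helper3.NowhereDenseGen
import Groth.Agent.Lib.Helper3.EquidimIrr
import Groth.Agent.Lib.Helper5.DimSupLocalDim

/-!
# Special and generic fibre of a finite type domain over a valuation ring have the same dimension
(helper3; Stacks 00QK, dimension part)
-/

set_option autoImplicit false
universe u
open CategoryTheory AlgebraicGeometry CategoryTheory.Limits TensorProduct

namespace Groth.Agent.Lib.helper3.ValFibreDimEq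

open Groth.Agent.Lib.helper3 Groth.Agent.Lib.helper5.FibreDimLocal

variable (R S : Type u) [CommRing R] [CommRing S] [Algebra R S]

/-- local dimension of the fibre ring at the point corresponding to a point of the preimage. -/
theorem localDim_preimageHomeomorphFiber (p : PrimeSpectrum R)
    (x : (PrimeSpectrum.comap (algebraMap R S)) ⁻¹' {p}) :
    FlatMor.localDim (PrimeSpectrum (p.asIdeal.Fiber S))
        (PrimeSpectrum.preimageHomeomorphFiber R S p x) =
      FlatMor.fibreDimAt (Spec.map (CommRingCat.ofHom (algebraMap R S))) x.1 := by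
  obtain ⟨q, hq⟩ := x
  obtain rfl : PrimeSpectrum.comap (algebraMap R S) q = p := hq
  exact FibreRingBridge.localDim_fibrePoint R S q

/-- dimension of a fibre ring as a supremum of local fibre dimensions. -/
theorem ringKrullDim_fiber_eq_iSup (p : PrimeSpectrum R) :
    ringKrullDim (p.asIdeal.Fiber S) =
      ⨆ x : (PrimeSpectrum.comap (algebraMap R S)) ⁻¹' {p},
        FlatMor.fibreDimAt (Spec.map (CommRingCat.ofHom (algebraMap R S))) x.1 := by
  rw [← PrimeSpectrum.topologicalKrullDim_eq_ringKrullDim,
    Groth.Agent.Lib.helper5.FieldBC.dim_eq_iSup_localDim]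
  rw [← (PrimeSpectrum.preimageHomeomorphFiber R S p).toEquiv.iSup_comp]
  exact iSup_congr fun x => localDim_preimageHomeomorphFiber R S p x

section main

variable {R S : Type u} [CommRing R] [IsDomain R] [ValuationRing R] [CommRing S] [IsDomain S]
  [Algebra R S]

theorem flat_of_injective (hinj : Function.Injective (algebraMap R S)) : Module.Flat R S := by
  rw [Module.Flat.flat_iff_torsion_eq_bot_of_isBezout, eq_bot_iff]
  intro x hx
  rw [Submodule.mem_torsion_iff] at hx
  obtain ⟨a, ha⟩ := hx
  rw [Submonoid.smul_def, Algebra.smul_def] at ha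
  rcases mul_eq_zero.mp ha with h | h
  · exfalso
    have h0 : (a : R) = 0 := hinj (by rw [h, map_zero])
    exact nonZeroDivisors.coe_ne_zero a h0
  · exact h

theorem main (hinj : Function.Injective (algebraMap R S)) [Algebra.FiniteType R S]
    [Nontrivial (IsLocalRing.ResidueField R ⊗[R] S)] :
    ringKrullDim (IsLocalRing.ResidueField R ⊗[R] S) = ringKrullDim (FractionRing R ⊗[R] S) := by
  set f := Spec.map (CommRingCat.ofHom (algebraMap R S)) with hf
  haveI : Module.Flat R S := flat_of_injective hinj
  haveI : Flat f := by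
    rw [hf, HasRingHomProperty.Spec_iff (P := @Flat)]
    change (algebraMap R S).Flat
    rw [RingHom.flat_algebraMap_iff]
    infer_instance
  haveI : LocallyOfFiniteType f := by
    rw [hf, HasRingHomProperty.Spec_iff (P := @LocallyOfFiniteType)]
    change (algebraMap R S).FiniteType
    rw [RingHom.finiteType_algebraMap]
    infer_instance
  -- the two points of the base
  let pm : PrimeSpectrum R := IsLocalRing.closedPoint R
  let p0 : PrimeSpectrum R := ⟨⊥, Ideal.isPrime_bot⟩
  -- identify the fibre rings
  let e1 : IsLocalRing.ResidueField R ≃ₐ[R] pm.asIdeal.ResidueField :=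
    AlgEquiv.ofBijective (IsScalarTower.toAlgHom R (R ⧸ IsLocalRing.maximalIdeal R)
      (IsLocalRing.maximalIdeal R).ResidueField)
      (Ideal.bijective_algebraMap_quotient_residueField (IsLocalRing.maximalIdeal R))
  let e2 : FractionRing R ≃ₐ[R] p0.asIdeal.ResidueField :=
    FractionRing.algEquiv R (⊥ : Ideal R).ResidueField
  have h1 : ringKrullDim (IsLocalRing.ResidueField R ⊗[R] S) = ringKrullDim (pm.asIdeal.Fiber S) :=
    ringKrullDim_eq_of_ringEquiv
      (Algebra.TensorProduct.congr e1 (AlgEquiv.refl : S ≃ₐ[R] S)).toRingEquiv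
  have h2 : ringKrullDim (FractionRing R ⊗[R] S) = ringKrullDim (p0.asIdeal.Fiber S) :=
    ringKrullDim_eq_of_ringEquiv
      (Algebra.TensorProduct.congr e2 (AlgEquiv.refl : S ≃ₐ[R] S)).toRingEquiv
  haveI : Nontrivial (pm.asIdeal.Fiber S) :=
    (Algebra.TensorProduct.congr e1 (AlgEquiv.refl : S ≃ₐ[R] S)).symm.toRingEquiv.nontrivial
  rw [h1, h2, ringKrullDim_fiber_eq_iSup, ringKrullDim_fiber_eq_iSup]
  -- the generic point of `Spec S`
  let ξ : PrimeSpectrum S := ⟨⊥, Ideal.isPrime_bot⟩
  have hξ : PrimeSpectrum.comap (algebraMap R S) ξ = p0 := by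
    apply PrimeSpectrum.ext
    change Ideal.comap (algebraMap R S) ⊥ = ⊥
    rw [← RingHom.ker_eq_comap_bot]
    exact (RingHom.injective_iff_ker_eq_bot _).mp hinj
  have hξsp : ∀ q : PrimeSpectrum S, ξ ⤳ q := fun q => by
    rw [← PrimeSpectrum.le_iff_specializes]
    exact bot_le (a := q.asIdeal)
  have hp0 : ∀ p : PrimeSpectrum R, p0 ⤳ p := fun p => by
    rw [← PrimeSpectrum.le_iff_specializes]
    exact bot_le (a := p.asIdeal)
  -- all points of the generic fibre have the same local fibre dimension
  have hgen : ∀ x : PrimeSpectrum S, PrimeSpectrum.comap (algebraMap R S) x = p0 →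
      FlatMor.fibreDimAt f x = FlatMor.fibreDimAt f ξ := by
    intro x hx
    obtain ⟨z, N, hzsp, hfz, hzmax, htd, hdim⟩ := EquidimIrr.exists_maximal_fibre_point f x
    have hzξ : ξ = z := by
      apply hzmax ξ (hξsp z)
      change PrimeSpectrum.comap (algebraMap R S) ξ = PrimeSpectrum.comap (algebraMap R S) z
      rw [hξ]
      have : PrimeSpectrum.comap (algebraMap R S) z = PrimeSpectrum.comap (algebraMap R S) x := hfz
      rw [this, hx]
    rw [hdim, hzξ]
    exact (NowhereDenseGen.fibreDimAt_eq_td_of_maximal f z hzmax N htd).symm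
  apply le_antisymm
  · refine iSup_le fun x => ?_
    obtain ⟨x', hx', hle⟩ := FlatFibreDimLSC.exists_generization_fibreDimAt_le f x.1 p0 (hp0 _)
    exact hle.trans (le_iSup (fun y : (PrimeSpectrum.comap (algebraMap R S)) ⁻¹' {p0} =>
      FlatMor.fibreDimAt f y.1) ⟨x', hx'⟩)
  · refine iSup_le fun x => ?_
    obtain ⟨Q⟩ : Nonempty (PrimeSpectrum (pm.asIdeal.Fiber S)) := inferInstance
    let y := (PrimeSpectrum.preimageHomeomorphFiber R S pm).symm Q
    rw [hgen x.1 x.2]
    exact (NowhereDenseGen.fibreDimAt_le_of_specializes f ξ y.1 (hξsp _)).trans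
      (le_iSup (fun y : (PrimeSpectrum.comap (algebraMap R S)) ⁻¹' {pm} =>
        FlatMor.fibreDimAt f y.1) y)

end main

end Groth.Agent.Lib.helper3.ValFibreDimEq
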