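import Mathlib
import Groth.Agent.Lib.Helper3.ValFibreDimEq
import Groth.Agent.Lib.Helper3.DimIneqStrict
import Groth.Agent.Lib.Helper3.TdSpecBridge

/-!
# Fibre-generic points over a valuation ring (helper3)

* `td_eq_td_generic` : `S` a domain of finite type over a valuation ring `R ⊆ S`; a prime of `S`
  which is maximal in its fibre has the same residue transcendence degree as the generic point
  (Stacks 00QK, equidimensionality).
* `td_quotientMap_eq_of_maximal` : `B` of finite type over a valuation ring, `P ≤ Q` primes with `Q`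
  maximal in its fibre of `V(P)`: `trdeg Q = trdeg P`.
* `td_eq_of_specializes_of_maximal`, `maximal_of_specializes` (= S14887).
-/

set_option autoImplicit false
universe u
open CategoryTheory AlgebraicGeometry CategoryTheory.Limits TensorProduct Function

namespace Groth.Agent.Lib.helper3.ValFibreGeneric

open Groth.Agent.Lib.helper3 Groth.Agent.Lib.helper3.DimIneq

section affine

variable {R S : Type u} [CommRing R] [IsDomain R] [ValuationRing R] [CommRing S] [IsDomain S]
  [Algebra R S]

theorem td_eq_td_generic (hinj : Injective (algebraMap R S)) [Algebra.FiniteType R S]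
    (Q : PrimeSpectrum S)
    (hmax : ∀ t : PrimeSpectrum S, t ⤳ Q →
      PrimeSpectrum.comap (algebraMap R S) t = PrimeSpectrum.comap (algebraMap R S) Q → t = Q) :
    td (Ideal.quotientMap Q.asIdeal (algebraMap R S) le_rfl) =
      td (Ideal.quotientMap (⊥ : Ideal S) (algebraMap R S) le_rfl) := by
  set f := Spec.map (CommRingCat.ofHom (algebraMap R S)) with hf
  haveI : Module.Flat R S := ValFibreDimEq.flat_of_injective hinj
  haveI : Flat f := by
    rw [hf, HasRingHomProperty.Spec_iff (P := @Flat)]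
    change (algebraMap R S).Flat
    rw [RingHom.flat_algebraMap_iff]
    infer_instance
  haveI : LocallyOfFiniteType f := by
    rw [hf, HasRingHomProperty.Spec_iff (P := @LocallyOfFiniteType)]
    change (algebraMap R S).FiniteType
    rw [RingHom.finiteType_algebraMap]
    infer_instance
  let p0 : PrimeSpectrum R := ⟨⊥, Ideal.isPrime_bot⟩
  let ξ : PrimeSpectrum S := ⟨⊥, Ideal.isPrime_bot⟩
  have hξ : PrimeSpectrum.comap (algebraMap R S) ξ = p0 := by
    apply PrimeSpectrum.ext
    change Ideal.comap (algebraMap R S) ⊥ = ⊥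
    rw [← RingHom.ker_eq_comap_bot]
    exact (RingHom.injective_iff_ker_eq_bot _).mp hinj
  have hξsp : ∀ q : PrimeSpectrum S, ξ ⤳ q := fun q => by
    rw [← PrimeSpectrum.le_iff_specializes]
    exact bot_le (a := q.asIdeal)
  have hp0 : ∀ p : PrimeSpectrum R, p0 ⤳ p := fun p => by
    rw [← PrimeSpectrum.le_iff_specializes]
    exact bot_le (a := p.asIdeal)
  have hξmax : ∀ t : Spec (CommRingCat.of S), t ⤳ (ξ : Spec (CommRingCat.of S)) → f t = f ξ →
      t = ξ := by
    intro t ht _
    exact ((hξsp t).antisymm ht).symm.eq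
  have hgen : ∀ x : PrimeSpectrum S, PrimeSpectrum.comap (algebraMap R S) x = p0 →
      FlatMor.fibreDimAt f x = FlatMor.fibreDimAt f ξ := by
    intro x hx
    obtain ⟨z, N, hzsp, hfz, hzmax, htd, hdim⟩ := EquidimIrr.exists_maximal_fibre_point f x
    have hzξ : ξ = z := by
      apply hzmax ξ (hξsp z)
      change PrimeSpectrum.comap (algebraMap R S) ξ = PrimeSpectrum.comap (algebraMap R S) z
      rw [hξ]
      have : PrimeSpectrum.comap (algebraMap R S) z = PrimeSpectrum.comap (algebraMap R S) x := hfz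
      rw [this, hx]
    rw [hdim, hzξ]
    exact (NowhereDenseGen.fibreDimAt_eq_td_of_maximal f z hzmax N htd).symm
  rw [← td_residueFieldMap_Spec (algebraMap R S) Q, ← td_residueFieldMap_Spec (algebraMap R S) ξ]
  obtain ⟨NQ, hNQ⟩ := NowhereDenseGen.exists_nat_td f Q
  obtain ⟨Nξ, hNξ⟩ := NowhereDenseGen.exists_nat_td f ξ
  have hdQ := NowhereDenseGen.fibreDimAt_eq_td_of_maximal f Q hmax NQ hNQ
  have hdξ := NowhereDenseGen.fibreDimAt_eq_td_of_maximal f ξ hξmax Nξ hNξ
  have h1 : Nξ ≤ NQ := by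
    have := NowhereDenseGen.fibreDimAt_le_of_specializes f ξ Q (hξsp Q)
    rw [hdQ, hdξ] at this
    exact_mod_cast this
  have h2 : NQ ≤ Nξ := by
    obtain ⟨x', hx', hle⟩ := FlatFibreDimLSC.exists_generization_fibreDimAt_le f Q p0 (hp0 _)
    rw [hgen x' hx', hdQ, hdξ] at hle
    exact_mod_cast hle
  change td (f.residueFieldMap Q).hom = td (f.residueFieldMap ξ).hom
  rw [hNQ, hNξ, le_antisymm h1 h2]

end affine

section quot

/-- third isomorphism theorem for `td`. -/
theorem td_quotientMap_map_mk {A B : Type u} [CommRing A] [CommRing B] (φ : A →+* B)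
    (P Q : Ideal B) [P.IsPrime] [Q.IsPrime] (hPQ : P ≤ Q) :
    td (Ideal.quotientMap (Q.map (Ideal.Quotient.mk P)) (Ideal.quotientMap P φ le_rfl) le_rfl) =
      td (Ideal.quotientMap Q φ le_rfl) := by
  have hsurj : Surjective (Ideal.Quotient.mk P) := Ideal.Quotient.mk_surjective
  set φ1 := Ideal.quotientMap P φ le_rfl with hφ1
  set Q' : Ideal (B ⧸ P) := Q.map (Ideal.Quotient.mk P) with hQ'
  haveI hQp : Q'.IsPrime := by
    apply Ideal.map_isPrime_of_surjective hsurj
    rw [Ideal.mk_ker]; exact hPQ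
  have hQc : Q'.comap (Ideal.Quotient.mk P) = Q := by
    rw [hQ', Ideal.comap_map_of_surjective _ hsurj, ← RingHom.ker_eq_comap_bot, Ideal.mk_ker]
    exact sup_eq_left.mpr hPQ
  have hQA : (Q'.comap φ1).comap (Ideal.Quotient.mk (P.comap φ)) = Q.comap φ := by
    rw [Ideal.comap_comap]
    have : φ1.comp (Ideal.Quotient.mk (P.comap φ)) = (Ideal.Quotient.mk P).comp φ := by
      ext a; rfl
    rw [this, ← Ideal.comap_comap, hQc]
  haveI : IsDomain ((B ⧸ P) ⧸ Q') := Ideal.Quotient.isDomain Q'
  haveI : (Q.comap φ).IsPrime := Ideal.comap_isPrime φ Q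
  haveI : Nontrivial (A ⧸ Q.comap φ) :=
    Ideal.Quotient.nontrivial_iff.mpr (Ideal.IsPrime.ne_top inferInstance)
  haveI : Nontrivial (B ⧸ Q) :=
    Ideal.Quotient.nontrivial_iff.mpr (Ideal.IsPrime.ne_top inferInstance)
  symm
  refine td_eq_of_square (Ideal.quotientMap Q φ le_rfl)
    (Ideal.quotientMap Q' (Ideal.Quotient.mk P) (le_of_eq hQc.symm))
    (Ideal.quotientMap (Q'.comap φ1) (Ideal.Quotient.mk (P.comap φ)) (le_of_eq hQA.symm))
    (Ideal.quotientMap Q' φ1 le_rfl) ?_ Ideal.quotientMap_injective ?_ ?_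
    Ideal.quotientMap_injective ?_ ?_
  · apply Ideal.Quotient.ringHom_ext
    ext a; rfl
  · exact Ideal.quotientMap_injective' (le_of_eq hQc)
  · exact Ideal.quotientMap_injective' (le_of_eq hQA)
  · apply isAlgebraic_of_surjective
    exact Ideal.quotientMap_surjective hsurj
  · apply isAlgebraic_of_surjective
    exact Ideal.quotientMap_surjective Ideal.Quotient.mk_surjective

variable {A B : Type u} [CommRing A] [IsDomain A] [ValuationRing A] [CommRing B] [Algebra A B]

/-- `B` of finite type over a valuation ring `A`, `P ≤ Q` primes of `B` with `Q` maximal in its fibre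
of `V(P)`: the residue transcendence degrees of `P` and `Q` agree. -/
theorem td_quotientMap_eq_of_maximal [Algebra.FiniteType A B] (P Q : Ideal B) [P.IsPrime]
    [Q.IsPrime] (hPQ : P ≤ Q)
    (hmax : ∀ Q' : Ideal B, Q'.IsPrime → P ≤ Q' → Q' ≤ Q →
      Q'.comap (algebraMap A B) = Q.comap (algebraMap A B) → Q' = Q) :
    td (Ideal.quotientMap Q (algebraMap A B) le_rfl) =
      td (Ideal.quotientMap P (algebraMap A B) le_rfl) := by
  have hsurj : Surjective (Ideal.Quotient.mk P) := Ideal.Quotient.mk_surjective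
  haveI : (P.comap (algebraMap A B)).IsPrime := Ideal.comap_isPrime _ P
  haveI : IsDomain (A ⧸ P.comap (algebraMap A B)) := Ideal.Quotient.isDomain _
  haveI : IsDomain (B ⧸ P) := Ideal.Quotient.isDomain _
  haveI : ValuationRing (A ⧸ P.comap (algebraMap A B)) :=
    Function.Surjective.valuationRing (Ideal.Quotient.mk (P.comap (algebraMap A B)))
      Ideal.Quotient.mk_surjective
  haveI : IsScalarTower A (A ⧸ P.comap (algebraMap A B)) (B ⧸ P) :=
    IsScalarTower.of_algebraMap_eq (fun a => rfl)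
  haveI : Algebra.FiniteType A (B ⧸ P) :=
    Algebra.FiniteType.of_surjective (Ideal.Quotient.mkₐ A P) Ideal.Quotient.mk_surjective
  haveI : Algebra.FiniteType (A ⧸ P.comap (algebraMap A B)) (B ⧸ P) :=
    Algebra.FiniteType.of_restrictScalars_finiteType A _ _
  have hinj : Injective (algebraMap (A ⧸ P.comap (algebraMap A B)) (B ⧸ P)) :=
    Ideal.algebraMap_quotient_injective
  set Q' : Ideal (B ⧸ P) := Q.map (Ideal.Quotient.mk P) with hQ'
  haveI hQp : Q'.IsPrime := by
    apply Ideal.map_isPrime_of_surjective hsurj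
    rw [Ideal.mk_ker]; exact hPQ
  have hQc : Q'.comap (Ideal.Quotient.mk P) = Q := by
    rw [hQ', Ideal.comap_map_of_surjective _ hsurj, ← RingHom.ker_eq_comap_bot, Ideal.mk_ker]
    exact sup_eq_left.mpr hPQ
  have key := td_eq_td_generic hinj ⟨Q', hQp⟩ ?_
  · have h1 := td_quotientMap_map_mk (algebraMap A B) P Q hPQ
    have h2 := td_quotientMap_map_mk (algebraMap A B) P P le_rfl
    rw [Ideal.map_quotient_self] at h2
    rw [← h1, ← h2]
    exact key
  · intro t ht hft
    rw [← PrimeSpectrum.le_iff_specializes] at ht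
    have htle : t.asIdeal ≤ Q' := ht
    have h3 : t.asIdeal.comap (Ideal.Quotient.mk P) = Q := by
      apply hmax _ (Ideal.comap_isPrime _ _)
      · intro b hb
        change Ideal.Quotient.mk P b ∈ t.asIdeal
        rw [Ideal.Quotient.eq_zero_iff_mem.mpr hb]
        exact zero_mem _
      · rw [← hQc]
        exact Ideal.comap_mono htle
      · have h4 := congrArg PrimeSpectrum.asIdeal hft
        change t.asIdeal.comap (algebraMap (A ⧸ P.comap (algebraMap A B)) (B ⧸ P)) =
          Q'.comap (algebraMap (A ⧸ P.comap (algebraMap A B)) (B ⧸ P)) at h4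
        have h5 := congrArg (Ideal.comap (Ideal.Quotient.mk (P.comap (algebraMap A B)))) h4
        rw [Ideal.comap_comap, Ideal.comap_comap] at h5
        have hc : (algebraMap (A ⧸ P.comap (algebraMap A B)) (B ⧸ P)).comp
            (Ideal.Quotient.mk (P.comap (algebraMap A B))) =
            (Ideal.Quotient.mk P).comp (algebraMap A B) := by
          ext a; rfl
        rw [hc, ← Ideal.comap_comap, ← Ideal.comap_comap, hQc] at h5
        exact h5
    apply PrimeSpectrum.ext
    change t.asIdeal = Q'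
    rw [← Ideal.map_comap_of_surjective _ hsurj t.asIdeal, h3]

end quot

section scheme

variable (R : Type u) [CommRing R] [IsDomain R] [ValuationRing R] {X : Scheme.{u}}
  (φ : X ⟶ Spec (CommRingCat.of R)) [LocallyOfFiniteType φ]

/-- over a valuation ring, a generization of a fibre-generic point has the same residue
transcendence degree. -/
theorem td_eq_of_specializes_of_maximal (x x' : X) (hgen : x' ⤳ x)
    (hx : ∀ y : X, y ⤳ x → φ y = φ x → y = x) :
    td (φ.residueFieldMap x').hom = td (φ.residueFieldMap x).hom := by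
  obtain ⟨W, hW, hxW, -⟩ := exists_isAffineOpen_mem_and_subset (x := x) (U := ⊤) trivial
  have hx'W : x' ∈ W := hgen.mem_open W.2 hxW
  have hV := isAffineOpen_top (Spec (CommRingCat.of R))
  have e : W ≤ φ ⁻¹ᵁ ⊤ := le_top
  set ψ := (φ.appLE ⊤ W e).hom with hψ
  have hψft : ψ.FiniteType :=
    HasRingHomProperty.appLE (P := @LocallyOfFiniteType) φ inferInstance ⟨⊤, hV⟩ ⟨W, hW⟩ e
  let eR : Γ(Spec (CommRingCat.of R), ⊤) ≃+* R :=
    (Scheme.ΓSpecIso (CommRingCat.of R)).commRingCatIsoToRingEquiv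
  haveI : IsDomain Γ(Spec (CommRingCat.of R), ⊤) := MulEquiv.isDomain R eR.toMulEquiv
  haveI : ValuationRing Γ(Spec (CommRingCat.of R), ⊤) :=
    FlatFibreDimLSC.valuationRing_of_ringEquiv eR
  letI := ψ.toAlgebra
  haveI : Algebra.FiniteType Γ(Spec (CommRingCat.of R), ⊤) Γ(X, W) := hψft
  set P := (hW.primeIdealOf ⟨x', hx'W⟩).asIdeal with hP
  set Q := (hW.primeIdealOf ⟨x, hxW⟩).asIdeal with hQ
  have hPQ : P ≤ Q := (specializes_iff_primeIdealOf_le hW x' x hx'W hxW).mp hgen
  have hcomap : ∀ (y : X) (hy : y ∈ W), (hW.primeIdealOf ⟨y, hy⟩).asIdeal.comap ψ =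
      (hV.primeIdealOf ⟨φ y, e hy⟩).asIdeal := by
    intro y hy
    have := IsAffineOpen.comap_primeIdealOf_appLE (f := φ) (x := y) ⊤ hV W hW e hy
    exact congrArg PrimeSpectrum.asIdeal this
  have key := td_quotientMap_eq_of_maximal (A := Γ(Spec (CommRingCat.of R), ⊤)) P Q hPQ ?_
  · rw [← td_quotientMap_eq φ hV hW e x' hx'W, ← td_quotientMap_eq φ hV hW e x hxW]
    exact key.symm
  · intro Q' hQ' hPQ' hQ'Q hc
    haveI := hQ'
    obtain ⟨w, hwW, hwQ⟩ := exists_point_of_prime hW Q'
    have hwx : w ⤳ x :=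
      (specializes_iff_primeIdealOf_le hW w x hwW hxW).mpr (by rw [hwQ]; exact hQ'Q)
    have hφw : φ w = φ x := by
      have h1 : (hV.primeIdealOf ⟨φ w, e hwW⟩).asIdeal =
          (hV.primeIdealOf ⟨φ x, e hxW⟩).asIdeal := by
        rw [← hcomap w hwW, ← hcomap x hxW, hwQ]
        exact hc
      have h2 : hV.primeIdealOf ⟨φ w, e hwW⟩ = hV.primeIdealOf ⟨φ x, e hxW⟩ :=
        PrimeSpectrum.ext h1
      have h3 := congrArg hV.fromSpec h2
      rw [hV.fromSpec_primeIdealOf, hV.fromSpec_primeIdealOf] at h3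
      exact h3
    have hwx' := hx w hwx hφw
    subst hwx'
    rw [← hwQ]

/-- **S14887**: over a valuation ring, every generization of a fibre-generic point is
fibre-generic. -/
theorem maximal_of_specializes (x x' : X) (hgen : x' ⤳ x)
    (hx : ∀ y : X, y ⤳ x → φ y = φ x → y = x) :
    ∀ y : X, y ⤳ x' → φ y = φ x' → y = x' := by
  intro y hy hφy
  by_contra hne
  have h1 := td_eq_of_specializes_of_maximal R φ x x' hgen hx
  have h2 := td_eq_of_specializes_of_maximal R φ x y (hy.trans hgen) hx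
  obtain ⟨W, hW, hx'W, -⟩ := exists_isAffineOpen_mem_and_subset (x := x') (U := ⊤) trivial
  have hyW : y ∈ W := hy.mem_open W.2 hx'W
  have hV := isAffineOpen_top (Spec (CommRingCat.of R))
  have e : W ≤ φ ⁻¹ᵁ ⊤ := le_top
  set ψ := (φ.appLE ⊤ W e).hom with hψ
  have hψft : ψ.FiniteType :=
    HasRingHomProperty.appLE (P := @LocallyOfFiniteType) φ inferInstance ⟨⊤, hV⟩ ⟨W, hW⟩ e
  have hcomap : ∀ (y : X) (hy : y ∈ W), (hW.primeIdealOf ⟨y, hy⟩).asIdeal.comap ψ =
      (hV.primeIdealOf ⟨φ y, e hy⟩).asIdeal := by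
    intro y hy
    have := IsAffineOpen.comap_primeIdealOf_appLE (f := φ) (x := y) ⊤ hV W hW e hy
    exact congrArg PrimeSpectrum.asIdeal this
  have hle := (specializes_iff_primeIdealOf_le hW y x' hyW hx'W).mp hy
  have hlt : (hW.primeIdealOf ⟨y, hyW⟩).asIdeal < (hW.primeIdealOf ⟨x', hx'W⟩).asIdeal := by
    refine lt_of_le_of_ne hle (fun h => hne ?_)
    have hx'y : x' ⤳ y := (specializes_iff_primeIdealOf_le hW x' y hx'W hyW).mpr (le_of_eq h.symm)
    exact (hy.antisymm hx'y).eq
  have hc : (hW.primeIdealOf ⟨y, hyW⟩).asIdeal.comap ψ =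
      (hW.primeIdealOf ⟨x', hx'W⟩).asIdeal.comap ψ := by
    rw [hcomap y hyW, hcomap x' hx'W]
    have : (⟨φ y, e hyW⟩ : ((⊤ : (Spec (CommRingCat.of R)).Opens) : Set _)) = ⟨φ x', e hx'W⟩ :=
      Subtype.ext hφy
    rw [this]
  have hstrict := td_quotientMap_lt ψ hψft _ _ hlt hc
  rw [td_quotientMap_eq φ hV hW e x' hx'W, td_quotientMap_eq φ hV hW e y hyW, h1, h2] at hstrict
  exact lt_irrefl _ hstrict

end scheme

end Groth.Agent.Lib.helper3.ValFibreGeneric
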