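import Mathlib
import Groth.Agent.Lib.Helper3.ValFibreGeneric

/-!
# The dimension function of a finite type algebra over a Prüfer domain (helper3)

`R` a domain all of whose localizations at primes are valuation rings, `S` an `R`-algebra of finite
type; for a prime `P` of `S` over `p`, `td P` is the transcendence degree of `S/P` over `R/p`.

* `prufer_quotient`, `flat_of_injective'`;
* `td_eq_td_generic'`, `td_quotientMap_eq_of_maximal'` : Prüfer versions of the lemmas of
  `ValFibreGeneric`;
* `td_quotientMap_le_of_le` : `P ≤ Q ⟹ td Q ≤ td P`;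
* `exists_between_liesOver` : going down for `R/p → S/P`.
-/

set_option autoImplicit false
universe u
open CategoryTheory AlgebraicGeometry CategoryTheory.Limits TensorProduct Function

namespace Groth.Agent.Lib.helper3.PruferDimFn

open Groth.Agent.Lib.helper3 Groth.Agent.Lib.helper3.DimIneq

/-- quotients of Prüfer domains by primes are Prüfer. -/
theorem prufer_quotient {R : Type u} [CommRing R] [IsDomain R]
    (hR : ∀ (p : Ideal R) [p.IsPrime], ValuationRing (Localization.AtPrime p))
    (I : Ideal R) [I.IsPrime] (p : Ideal (R ⧸ I)) [p.IsPrime] :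
    ValuationRing (Localization.AtPrime p) := by
  haveI : IsDomain (R ⧸ I) := Ideal.Quotient.isDomain I
  haveI := hR (p.comap (Ideal.Quotient.mk I))
  exact Function.Surjective.valuationRing
    (Localization.localRingHom (p.comap (Ideal.Quotient.mk I)) p (Ideal.Quotient.mk I) rfl)
    (RingHom.surjective_localRingHom_of_surjective (Ideal.Quotient.mk I)
      Ideal.Quotient.mk_surjective p)

theorem flat_of_injective' {R S : Type u} [CommRing R] [IsDomain R]
    (hR : ∀ (p : Ideal R) [p.IsPrime], ValuationRing (Localization.AtPrime p))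
    [CommRing S] [IsDomain S] [Algebra R S]
    (hinj : Injective (algebraMap R S)) : Module.Flat R S := by
  rw [Module.Flat.flat_iff_torsion_eq_bot_of_valuationRing_localization_isMaximal
    (fun P _ => hR P), eq_bot_iff]
  intro x hx
  rw [Submodule.mem_torsion_iff] at hx
  obtain ⟨a, ha⟩ := hx
  rw [Submonoid.smul_def, Algebra.smul_def] at ha
  rcases mul_eq_zero.mp ha with h | h
  · exfalso
    have h0 : (a : R) = 0 := hinj (by rw [h, map_zero])
    exact nonZeroDivisors.coe_ne_zero a h0
  · exact h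

section affine

variable {R S : Type u} [CommRing R] [IsDomain R] [CommRing S] [IsDomain S] [Algebra R S]

theorem td_eq_td_generic' [Module.Flat R S] (hinj : Injective (algebraMap R S))
    [Algebra.FiniteType R S] (Q : PrimeSpectrum S)
    (hmax : ∀ t : PrimeSpectrum S, t ⤳ Q →
      PrimeSpectrum.comap (algebraMap R S) t = PrimeSpectrum.comap (algebraMap R S) Q → t = Q) :
    td (Ideal.quotientMap Q.asIdeal (algebraMap R S) le_rfl) =
      td (Ideal.quotientMap (⊥ : Ideal S) (algebraMap R S) le_rfl) := by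
  set f := Spec.map (CommRingCat.ofHom (algebraMap R S)) with hf
  haveI : Flat f := by
    rw [hf, HasRingHomProperty.Spec_iff (P := @Flat)]
    change (algebraMap R S).Flat
    rw [RingHom.flat_algebraMap_iff]
    infer_instance
  haveI : LocallyOfFiniteType f := by
    rw [hf, HasRingHomProperty.Spec_iff (P := @LocallyOfFiniteType)]
    change (algebraMap R S).FiniteType
    rw [RingHom.finiteType_algebraMap]
    infer_instance
  let p0 : PrimeSpectrum R := ⟨⊥, Ideal.isPrime_bot⟩
  let ξ : PrimeSpectrum S := ⟨⊥, Ideal.isPrime_bot⟩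
  have hξ : PrimeSpectrum.comap (algebraMap R S) ξ = p0 := by
    apply PrimeSpectrum.ext
    change Ideal.comap (algebraMap R S) ⊥ = ⊥
    rw [← RingHom.ker_eq_comap_bot]
    exact (RingHom.injective_iff_ker_eq_bot _).mp hinj
  have hξsp : ∀ q : PrimeSpectrum S, ξ ⤳ q := fun q => by
    rw [← PrimeSpectrum.le_iff_specializes]
    exact bot_le (a := q.asIdeal)
  have hp0 : ∀ p : PrimeSpectrum R, p0 ⤳ p := fun p => by
    rw [← PrimeSpectrum.le_iff_specializes]
    exact bot_le (a := p.asIdeal)
  have hξmax : ∀ t : Spec (CommRingCat.of S), t ⤳ (ξ : Spec (CommRingCat.of S)) → f t = f ξ →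
      t = ξ := by
    intro t ht _
    exact ((hξsp t).antisymm ht).symm.eq
  have hgen : ∀ x : PrimeSpectrum S, PrimeSpectrum.comap (algebraMap R S) x = p0 →
      FlatMor.fibreDimAt f x = FlatMor.fibreDimAt f ξ := by
    intro x hx
    obtain ⟨z, N, hzsp, hfz, hzmax, htd, hdim⟩ := EquidimIrr.exists_maximal_fibre_point f x
    have hzξ : ξ = z := by
      apply hzmax ξ (hξsp z)
      change PrimeSpectrum.comap (algebraMap R S) ξ = PrimeSpectrum.comap (algebraMap R S) z
      rw [hξ]
      have : PrimeSpectrum.comap (algebraMap R S) z = PrimeSpectrum.comap (algebraMap R S) x := hfz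
      rw [this, hx]
    rw [hdim, hzξ]
    exact (NowhereDenseGen.fibreDimAt_eq_td_of_maximal f z hzmax N htd).symm
  rw [← td_residueFieldMap_Spec (algebraMap R S) Q, ← td_residueFieldMap_Spec (algebraMap R S) ξ]
  obtain ⟨NQ, hNQ⟩ := NowhereDenseGen.exists_nat_td f Q
  obtain ⟨Nξ, hNξ⟩ := NowhereDenseGen.exists_nat_td f ξ
  have hdQ := NowhereDenseGen.fibreDimAt_eq_td_of_maximal f Q hmax NQ hNQ
  have hdξ := NowhereDenseGen.fibreDimAt_eq_td_of_maximal f ξ hξmax Nξ hNξ
  have h1 : Nξ ≤ NQ := by
    have := NowhereDenseGen.fibreDimAt_le_of_specializes f ξ Q (hξsp Q)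
    rw [hdQ, hdξ] at this
    exact_mod_cast this
  have h2 : NQ ≤ Nξ := by
    obtain ⟨x', hx', hle⟩ := FlatFibreDimLSC.exists_generization_fibreDimAt_le f Q p0 (hp0 _)
    rw [hgen x' hx', hdQ, hdξ] at hle
    exact_mod_cast hle
  change td (f.residueFieldMap Q).hom = td (f.residueFieldMap ξ).hom
  rw [hNQ, hNξ, le_antisymm h1 h2]

end affine

section quot

variable {A B : Type u} [CommRing A] [IsDomain A] [CommRing B] [Algebra A B]

/-- `B` of finite type over a Prüfer domain `A`, `P ≤ Q` primes of `B` with `Q` maximal in its fibre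
of `V(P)`: the residue transcendence degrees of `P` and `Q` agree. -/
theorem td_quotientMap_eq_of_maximal'
    (hA : ∀ (p : Ideal A) [p.IsPrime], ValuationRing (Localization.AtPrime p))
    [Algebra.FiniteType A B] (P Q : Ideal B) [P.IsPrime]
    [Q.IsPrime] (hPQ : P ≤ Q)
    (hmax : ∀ Q' : Ideal B, Q'.IsPrime → P ≤ Q' → Q' ≤ Q →
      Q'.comap (algebraMap A B) = Q.comap (algebraMap A B) → Q' = Q) :
    td (Ideal.quotientMap Q (algebraMap A B) le_rfl) =
      td (Ideal.quotientMap P (algebraMap A B) le_rfl) := by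
  have hsurj : Surjective (Ideal.Quotient.mk P) := Ideal.Quotient.mk_surjective
  haveI : (P.comap (algebraMap A B)).IsPrime := Ideal.comap_isPrime _ P
  haveI : IsDomain (A ⧸ P.comap (algebraMap A B)) := Ideal.Quotient.isDomain _
  haveI : IsDomain (B ⧸ P) := Ideal.Quotient.isDomain _
  haveI : IsScalarTower A (A ⧸ P.comap (algebraMap A B)) (B ⧸ P) :=
    IsScalarTower.of_algebraMap_eq (fun a => rfl)
  haveI : Algebra.FiniteType A (B ⧸ P) :=
    Algebra.FiniteType.of_surjective (Ideal.Quotient.mkₐ A P) Ideal.Quotient.mk_surjective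
  haveI : Algebra.FiniteType (A ⧸ P.comap (algebraMap A B)) (B ⧸ P) :=
    Algebra.FiniteType.of_restrictScalars_finiteType A _ _
  have hinj : Injective (algebraMap (A ⧸ P.comap (algebraMap A B)) (B ⧸ P)) :=
    Ideal.algebraMap_quotient_injective
  haveI : Module.Flat (A ⧸ P.comap (algebraMap A B)) (B ⧸ P) :=
    flat_of_injective' (fun p _ => prufer_quotient hA _ p) hinj
  set Q' : Ideal (B ⧸ P) := Q.map (Ideal.Quotient.mk P) with hQ'
  haveI hQp : Q'.IsPrime := by
    apply Ideal.map_isPrime_of_surjective hsurj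
    rw [Ideal.mk_ker]; exact hPQ
  have hQc : Q'.comap (Ideal.Quotient.mk P) = Q := by
    rw [hQ', Ideal.comap_map_of_surjective _ hsurj, ← RingHom.ker_eq_comap_bot, Ideal.mk_ker]
    exact sup_eq_left.mpr hPQ
  have key := td_eq_td_generic' hinj ⟨Q', hQp⟩ ?_
  · have h1 := ValFibreGeneric.td_quotientMap_map_mk (algebraMap A B) P Q hPQ
    have h2 := ValFibreGeneric.td_quotientMap_map_mk (algebraMap A B) P P le_rfl
    rw [Ideal.map_quotient_self] at h2
    rw [← h1, ← h2]
    exact key
  · intro t ht hft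
    rw [← PrimeSpectrum.le_iff_specializes] at ht
    have htle : t.asIdeal ≤ Q' := ht
    have h3 : t.asIdeal.comap (Ideal.Quotient.mk P) = Q := by
      apply hmax _ (Ideal.comap_isPrime _ _)
      · intro b hb
        change Ideal.Quotient.mk P b ∈ t.asIdeal
        rw [Ideal.Quotient.eq_zero_iff_mem.mpr hb]
        exact zero_mem _
      · rw [← hQc]
        exact Ideal.comap_mono htle
      · have h4 := congrArg PrimeSpectrum.asIdeal hft
        change t.asIdeal.comap (algebraMap (A ⧸ P.comap (algebraMap A B)) (B ⧸ P)) =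
          Q'.comap (algebraMap (A ⧸ P.comap (algebraMap A B)) (B ⧸ P)) at h4
        have h5 := congrArg (Ideal.comap (Ideal.Quotient.mk (P.comap (algebraMap A B)))) h4
        rw [Ideal.comap_comap, Ideal.comap_comap] at h5
        have hc : (algebraMap (A ⧸ P.comap (algebraMap A B)) (B ⧸ P)).comp
            (Ideal.Quotient.mk (P.comap (algebraMap A B))) =
            (Ideal.Quotient.mk P).comp (algebraMap A B) := by
          ext a; rfl
        rw [hc, ← Ideal.comap_comap, ← Ideal.comap_comap, hQc] at h5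
        exact h5
    apply PrimeSpectrum.ext
    change t.asIdeal = Q'
    rw [← Ideal.map_comap_of_surjective _ hsurj t.asIdeal, h3]

end quot

section le

variable {A B : Type u} [CommRing A] [IsDomain A] [CommRing B] [Algebra A B]

/-- the residue transcendence degree decreases under specialization (Prüfer base). -/
theorem td_quotientMap_le_of_le
    (hA : ∀ (p : Ideal A) [p.IsPrime], ValuationRing (Localization.AtPrime p))
    [Algebra.FiniteType A B] (P Q : Ideal B) [P.IsPrime] [Q.IsPrime] (hPQ : P ≤ Q) :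
    td (Ideal.quotientMap Q (algebraMap A B) le_rfl) ≤
      td (Ideal.quotientMap P (algebraMap A B) le_rfl) := by
  set I : Ideal B := P ⊔ (Q.comap (algebraMap A B)).map (algebraMap A B) with hI
  have hIQ : I ≤ Q := sup_le hPQ Ideal.map_comap_le
  obtain ⟨Q', hQ'min, hQ'Q⟩ := Ideal.exists_minimalPrimes_le hIQ
  haveI : Q'.IsPrime := hQ'min.1.1
  have hPQ' : P ≤ Q' := le_sup_left.trans hQ'min.1.2
  have hc : Q'.comap (algebraMap A B) = Q.comap (algebraMap A B) := by
    apply le_antisymm (Ideal.comap_mono hQ'Q)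
    intro a ha
    exact hQ'min.1.2 (Ideal.mem_sup_right (Ideal.mem_map_of_mem _ ha))
  have hmax : ∀ Q'' : Ideal B, Q''.IsPrime → P ≤ Q'' → Q'' ≤ Q' →
      Q''.comap (algebraMap A B) = Q'.comap (algebraMap A B) → Q'' = Q' := by
    intro Q'' hQ'' hPQ'' hle hcc
    apply le_antisymm hle
    apply hQ'min.2 ⟨hQ'', ?_⟩ hle
    apply sup_le hPQ''
    rw [Ideal.map_le_iff_le_comap, ← hc, ← hcc]
  have h1 := td_quotientMap_eq_of_maximal' hA P Q' hPQ' hmax
  rw [← h1]
  rcases eq_or_lt_of_le hQ'Q with h | h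
  · exact le_of_eq (FibreParam.td_quotientMap_congr_prime (algebraMap A B) _ _ h.symm)
  · exact (td_quotientMap_lt (algebraMap A B)
      (RingHom.finiteType_algebraMap.mpr inferInstance) Q' Q h hc).le

/-- going down between `P ≤ Q` along `A/p → B/P` (Prüfer base). -/
theorem exists_between_liesOver
    (hA : ∀ (p : Ideal A) [p.IsPrime], ValuationRing (Localization.AtPrime p))
    (P Q : Ideal B) [P.IsPrime] [Q.IsPrime] (hPQ : P ≤ Q) (p' : Ideal A) [p'.IsPrime]
    (h1 : P.comap (algebraMap A B) ≤ p') (h2 : p' ≤ Q.comap (algebraMap A B)) :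
    ∃ P' : Ideal B, P'.IsPrime ∧ P ≤ P' ∧ P' ≤ Q ∧ P'.comap (algebraMap A B) = p' := by
  have hsurj : Surjective (Ideal.Quotient.mk P) := Ideal.Quotient.mk_surjective
  haveI : (P.comap (algebraMap A B)).IsPrime := Ideal.comap_isPrime _ P
  haveI : IsDomain (A ⧸ P.comap (algebraMap A B)) := Ideal.Quotient.isDomain _
  haveI : IsDomain (B ⧸ P) := Ideal.Quotient.isDomain _
  have hinj : Injective (algebraMap (A ⧸ P.comap (algebraMap A B)) (B ⧸ P)) :=
    Ideal.algebraMap_quotient_injective
  haveI : Module.Flat (A ⧸ P.comap (algebraMap A B)) (B ⧸ P) :=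
    flat_of_injective' (fun p _ => prufer_quotient hA _ p) hinj
  set Q' : Ideal (B ⧸ P) := Q.map (Ideal.Quotient.mk P) with hQ'
  haveI hQp : Q'.IsPrime := by
    apply Ideal.map_isPrime_of_surjective hsurj
    rw [Ideal.mk_ker]; exact hPQ
  have hQc : Q'.comap (Ideal.Quotient.mk P) = Q := by
    rw [hQ', Ideal.comap_map_of_surjective _ hsurj, ← RingHom.ker_eq_comap_bot, Ideal.mk_ker]
    exact sup_eq_left.mpr hPQ
  have hsurj' : Surjective (Ideal.Quotient.mk (P.comap (algebraMap A B))) :=
    Ideal.Quotient.mk_surjective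
  set pb : Ideal (A ⧸ P.comap (algebraMap A B)) :=
    p'.map (Ideal.Quotient.mk (P.comap (algebraMap A B))) with hpb
  haveI hpbp : pb.IsPrime := by
    apply Ideal.map_isPrime_of_surjective hsurj'
    rw [Ideal.mk_ker]; exact h1
  have hpbc : pb.comap (Ideal.Quotient.mk (P.comap (algebraMap A B))) = p' := by
    rw [hpb, Ideal.comap_map_of_surjective _ hsurj', ← RingHom.ker_eq_comap_bot, Ideal.mk_ker]
    exact sup_eq_left.mpr h1
  have hcomp : (algebraMap (A ⧸ P.comap (algebraMap A B)) (B ⧸ P)).comp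
      (Ideal.Quotient.mk (P.comap (algebraMap A B))) =
      (Ideal.Quotient.mk P).comp (algebraMap A B) := by
    ext a; rfl
  have hle : pb ≤ Q'.under (A ⧸ P.comap (algebraMap A B)) := by
    rw [hpb, Ideal.map_le_iff_le_comap, Ideal.under_def, Ideal.comap_comap, hcomp,
      ← Ideal.comap_comap, hQc]
    exact h2
  obtain ⟨Pb, hPbQ, hPbp, hPbo⟩ := Ideal.exists_ideal_le_liesOver_of_le
    (p := pb) (q := Q'.under (A ⧸ P.comap (algebraMap A B))) Q' hle
  haveI := hPbp
  refine ⟨Pb.comap (Ideal.Quotient.mk P), Ideal.comap_isPrime _ _, ?_, ?_, ?_⟩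
  · intro b hb
    change Ideal.Quotient.mk P b ∈ Pb
    rw [Ideal.Quotient.eq_zero_iff_mem.mpr hb]
    exact zero_mem _
  · rw [← hQc]
    exact Ideal.comap_mono hPbQ
  · rw [Ideal.comap_comap, ← hcomp, ← Ideal.comap_comap]
    have : Pb.comap (algebraMap (A ⧸ P.comap (algebraMap A B)) (B ⧸ P)) = pb :=
      (hPbo.over).symm
    rw [this, hpbc]

end le

end Groth.Agent.Lib.helper3.PruferDimFn
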