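import Groth.Agent.Lib.Helper3.FibreDimBC
import Groth.Agent.Lib.Helper3.TopDim

/-!
# Dimension of fibres under base change (helper3)

* `dim_eq_iSup_localDim`: `dim X = ⨆ x, localDim X x`.
* `dim_eq_of_isPullback_field`: `dim (Z ×_k K) = dim Z` for `Z` locally of finite type over a field `k`.
* `dim_fiber_eq_of_isPullback`: fibre dimension commutes with base change (= S9777, no quasi-compactness needed).
-/

set_option autoImplicit false
universe u
open CategoryTheory CategoryTheory.Limits AlgebraicGeometry TensorProduct

namespace Groth.Agent.Lib.helper3.FibreDimBC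

open Groth.Agent.Lib.helper3.TopDim

theorem dim_eq_iSup_localDim (X : Type u) [TopologicalSpace X] :
    topologicalKrullDim X = ⨆ x : X, FlatMor.localDim X x := by
  choose U hxU hU using fun x : X => exists_open_dim_eq_localDim x
  have h := dim_eq_iSup_of_open_cover (fun x : X => ((U x).1 : Set X)) (fun x => (U x).2)
    (Set.eq_univ_of_forall fun x => Set.mem_iUnion.mpr ⟨x, hxU x⟩)
  rw [h]
  exact iSup_congr hU

theorem dim_eq_of_isPullback_field {k K : Type u} [Field k] [Field K] [Algebra k K]
    {Z Z' : Scheme.{u}} (φ : Z' ⟶ Z) (p' : Z' ⟶ Spec (CommRingCat.of K))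
    (p : Z ⟶ Spec (CommRingCat.of k))
    (sq : IsPullback φ p' p (Spec.map (CommRingCat.ofHom (algebraMap k K))))
    [hp : LocallyOfFiniteType p] :
    topologicalKrullDim Z' = topologicalKrullDim Z := by
  rw [dim_eq_iSup_localDim, dim_eq_iSup_localDim]
  have hsurj : Function.Surjective φ := by
    haveI : Surjective (Spec.map (CommRingCat.ofHom (algebraMap k K))) := by
      constructor
      intro y
      refine ⟨⟨⊥, Ideal.isPrime_bot⟩, ?_⟩
      apply PrimeSpectrum.ext
      have h1 : (y.asIdeal : Ideal k) = ⊥ := by
        haveI := y.isPrime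
        exact ((Ideal.eq_bot_or_top y.asIdeal).resolve_right y.isPrime.ne_top)
      rw [h1]
      exact (Ideal.eq_bot_or_top _).resolve_right (Ideal.IsPrime.ne_top inferInstance)
    haveI : Surjective φ := MorphismProperty.of_isPullback (P := @Surjective) sq.flip inferInstance
    exact φ.surjective
  apply le_antisymm
  · refine iSup_le fun z' => ?_
    rw [localDim_eq_of_isPullback_field φ p' p sq z']
    exact le_iSup (fun z : Z => FlatMor.localDim Z z) (φ z')
  · refine iSup_le fun z => ?_
    obtain ⟨z', rfl⟩ := hsurj z
    rw [← localDim_eq_of_isPullback_field φ p' p sq z']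
    exact le_iSup (fun z' : Z' => FlatMor.localDim Z' z') z'

theorem dim_fiber_eq_of_isPullback {X Y X' Y' : Scheme.{u}} (f : X ⟶ Y) [LocallyOfFiniteType f]
    (g : Y' ⟶ Y) (f' : X' ⟶ Y') (g' : X' ⟶ X) (hc : IsPullback g' f' f g) (y' : Y') :
    topologicalKrullDim ↑(f'.fiber y') = topologicalKrullDim ↑(f.fiber (g y')) := by
  have hpb := isPullback_fiberToSpecResidueField_of_isPullback hc y'
  letI : Algebra (Y.residueField (g y')) (Y'.residueField y') :=
    (g.residueFieldMap y').hom.toAlgebra
  have hlft : LocallyOfFiniteType (f.fiberToSpecResidueField (g y')) :=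
    MorphismProperty.pullback_snd (P := @LocallyOfFiniteType) _ _ inferInstance
  exact dim_eq_of_isPullback_field (k := Y.residueField (g y'))
    (K := Y'.residueField y') _ _ _ hpb (hp := hlft)

end Groth.Agent.Lib.helper3.FibreDimBC
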