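import Mathlib
import Groth.Prelude.Def_CurvBase
import Groth.Agent.Lib.Helper3.FTFieldClosureDim
import Groth.Agent.Lib.Helper3.IrredDim
import Groth.Agent.Lib.Helper3.EquidimIrr
import Groth.Agent.Lib.Helper3.EquidimAt
import Groth.Agent.Lib.Helper3.OpenAtNhds
import Groth.Agent.Lib.Helper28.QCClosure

/-!
# `dim X = r + dim Y` for morphisms of finite type schemes over a field (helper3)
-/

set_option autoImplicit false
universe u
open CategoryTheory CategoryTheory.Limits AlgebraicGeometry

namespace Groth.Agent.Lib.helper3.FibreDimSum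

open Groth.Agent.Lib.helper3.DimIneq Groth.Agent.Lib.helper3.FTField
  Groth.Agent.Lib.helper3.IrredDim Groth.Agent.Lib.helper3.EquidimAt
  Groth.Agent.Lib.helper3.EquidimIrr Groth.Agent.Lib.helper3.OpenAtDim
  Groth.Agent.Lib.helper3.QFinTop Groth.Agent.Lib.helper3.DimFibre

/-- In a nonempty quasi-sober space with finitely many irreducible components the dimension is
attained on the closure of a maximal point. -/
theorem exists_maximal_point_dim_eq (T : Type u) [TopologicalSpace T] [QuasiSober T] [T0Space T]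
    [Nonempty T] (hfin : (irreducibleComponents T).Finite) :
    ∃ ξ : T, (∀ ζ : T, ζ ⤳ ξ → ζ = ξ) ∧
      topologicalKrullDim ↥(closure ({ξ} : Set T)) = topologicalKrullDim T := by
  haveI : Finite ↥(irreducibleComponents T) := hfin
  haveI : Nonempty ↥(irreducibleComponents T) := by
    obtain ⟨t⟩ := ‹Nonempty T›
    obtain ⟨C, hC, -⟩ := exists_mem_irreducibleComponents_subset_of_isIrreducible
      ({t} : Set T) isIrreducible_singleton
    exact ⟨⟨C, hC⟩⟩
  have hdim := Groth.Agent.Lib.helper3.TopDim.dim_eq_iSup_of_locallyFinite_closed_cover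
    (X := T) (fun C : ↥(irreducibleComponents T) => (C : Set T))
    (fun C => isClosed_of_mem_irreducibleComponents C.1 C.2) (locallyFinite_of_finite _)
    (by
      rw [← Set.sUnion_eq_iUnion]
      exact sUnion_irreducibleComponents)
  obtain ⟨C, hC⟩ := exists_eq_ciSup_of_finite
    (f := fun C : ↥(irreducibleComponents T) => topologicalKrullDim ↥(C : Set T))
  obtain ⟨ξ, hξ⟩ := QuasiSober.sober C.2.1 (isClosed_of_mem_irreducibleComponents C.1 C.2)
  have hcl : closure ({ξ} : Set T) = C := hξ.def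
  refine ⟨ξ, fun ζ hζ =>
    eq_of_specializes_of_closure_mem_irreducibleComponents ξ (hcl ▸ C.2) ζ hζ, ?_⟩
  rw [hcl, hdim]
  exact hC

theorem noetherianSpace_of_ft (k : Type u) [Field k] {Y : Scheme.{u}}
    (q : Y ⟶ Spec (CommRingCat.of k)) [LocallyOfFiniteType q] [QuasiCompact q] :
    TopologicalSpace.NoetherianSpace Y := by
  letI : Y.Over (Spec (CommRingCat.of k)) := ⟨q⟩
  haveI : LocallyOfFiniteType (Y ↘ Spec (CommRingCat.of k)) := ‹LocallyOfFiniteType q›
  haveI := isLocallyNoetherian_of_lft k Y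
  haveI : CompactSpace Y := QuasiCompact.compactSpace_of_compactSpace q
  haveI : IsNoetherian Y := {}
  infer_instance

theorem add_le_dim (k : Type u) [Field k] {X Y : Scheme.{u}}
    (q : Y ⟶ Spec (CommRingCat.of k)) [LocallyOfFiniteType q] [QuasiCompact q]
    (f : X ⟶ Y) [LocallyOfFiniteType f] [QuasiCompact f] (r : ℕ)
    (hfib : ∀ η : Y, (∀ y : Y, y ⤳ η → y = η) → (r : WithBot ℕ∞) ≤ topologicalKrullDim (f.base ⁻¹' {η})) :
    (r : WithBot ℕ∞) + topologicalKrullDim Y ≤ topologicalKrullDim X := by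
  letI : Y.Over (Spec (CommRingCat.of k)) := ⟨q⟩
  letI : X.Over (Spec (CommRingCat.of k)) := ⟨f ≫ q⟩
  haveI : LocallyOfFiniteType (Y ↘ Spec (CommRingCat.of k)) := ‹LocallyOfFiniteType q›
  haveI : LocallyOfFiniteType (X ↘ Spec (CommRingCat.of k)) :=
    (inferInstance : LocallyOfFiniteType (f ≫ q))
  rcases isEmpty_or_nonempty Y with hY | hY
  · rw [Groth.Agent.Lib.helper3.DimIneq.topologicalKrullDim_eq_bot_of_isEmpty Y, WithBot.add_bot]
    exact bot_le
  haveI := noetherianSpace_of_ft k q
  obtain ⟨η, hηmax, hηdim⟩ := exists_maximal_point_dim_eq Y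
    TopologicalSpace.NoetherianSpace.finite_irreducibleComponents
  have hr := hfib η hηmax
  -- the fibre is nonempty
  have hne : ∃ x : X, f x = η := by
    by_contra hcon
    push Not at hcon
    haveI : IsEmpty ↥(f.base ⁻¹' {η}) := ⟨fun z => hcon z.1 z.2⟩
    rw [Groth.Agent.Lib.helper3.DimIneq.topologicalKrullDim_eq_bot_of_isEmpty] at hr
    exact absurd hr (by simp)
  obtain ⟨x, N, hfx, hN, hdimN⟩ := exists_fibreDimAt_eq_dim f η hne
  have hrN : r ≤ N := by
    have h1 : topologicalKrullDim ↥(f.base ⁻¹' {η}) = topologicalKrullDim ↥(f.fiber η) :=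
      (IsHomeomorph.topologicalKrullDim_eq _ (f.fiberHomeo η).isHomeomorph).symm
    rw [h1, hdimN] at hr
    exact_mod_cast hr
  obtain ⟨z, N', -, hfz, -, htdz, hfd⟩ := exists_maximal_fibre_point f x
  have hNN : N' = N := by
    rw [hN] at hfd
    exact_mod_cast hfd.symm
  subst hNN
  have hfzη : f z = η := hfz.trans hfx
  obtain ⟨n, hn⟩ := exists_nat_trdeg_residueField k Y (f z)
  have hadd := trdeg_residueField_add k (f ≫ q) q f rfl z
  have hnX : @Algebra.trdeg k (X.residueField z) _ _ (Curv2.resAlgebra k X z) = ((n + N' : ℕ) : Cardinal.{u}) := by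
    have h2 : td (@Curv2.resMap k _ Y ⟨q⟩ (f z)) = n := hn
    rw [h2, htdz] at hadd
    rw [Nat.cast_add]
    exact hadd
  have h3 := dim_closure_eq_trdeg k X z (n + N') hnX
  have h4 := dim_closure_eq_trdeg k Y (f z) n hn
  rw [hfzη, hηdim] at h4
  rw [h4]
  have h5 : topologicalKrullDim ↥(closure ({z} : Set X)) ≤ topologicalKrullDim X :=
    topologicalKrullDim_subspace_le X _
  rw [h3] at h5
  refine le_trans ?_ h5
  have : r + n ≤ n + N' := by omega
  exact_mod_cast this

theorem dim_eq_add (k : Type u) [Field k] {X Y : Scheme.{u}}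
    (q : Y ⟶ Spec (CommRingCat.of k)) [LocallyOfFiniteType q] [QuasiCompact q]
    (f : X ⟶ Y) [LocallyOfFiniteType f] [QuasiCompact f] (hdom : DenseRange f.base) (r : ℕ)
    (hfib : ∀ y : Y, (f.base ⁻¹' {y}).Nonempty → topologicalKrullDim (f.base ⁻¹' {y}) = r) :
    topologicalKrullDim X = (r : WithBot ℕ∞) + topologicalKrullDim Y := by
  letI : Y.Over (Spec (CommRingCat.of k)) := ⟨q⟩
  letI : X.Over (Spec (CommRingCat.of k)) := ⟨f ≫ q⟩
  haveI : LocallyOfFiniteType (Y ↘ Spec (CommRingCat.of k)) := ‹LocallyOfFiniteType q›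
  haveI : LocallyOfFiniteType (X ↘ Spec (CommRingCat.of k)) :=
    (inferInstance : LocallyOfFiniteType (f ≫ q))
  apply le_antisymm
  · rcases isEmpty_or_nonempty X with hX | hX
    · rw [Groth.Agent.Lib.helper3.DimIneq.topologicalKrullDim_eq_bot_of_isEmpty X]
      exact bot_le
    haveI := noetherianSpace_of_ft k (f ≫ q)
    obtain ⟨ξ, -, hξdim⟩ := exists_maximal_point_dim_eq X
      TopologicalSpace.NoetherianSpace.finite_irreducibleComponents
    rw [← hξdim]
    obtain ⟨n, hn⟩ := exists_nat_trdeg_residueField k Y (f ξ)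
    obtain ⟨a, b, ha, -, hab⟩ := fibreDimAt_eq_add f ξ
    have hr := hfib (f ξ) ⟨ξ, rfl⟩
    have hle : FlatMor.fibreDimAt f ξ ≤ (r : WithBot ℕ∞) := by
      have h1 : topologicalKrullDim ↥(f.base ⁻¹' {f ξ}) = topologicalKrullDim ↥(f.fiber (f ξ)) :=
        (IsHomeomorph.topologicalKrullDim_eq _ (f.fiberHomeo (f ξ)).isHomeomorph).symm
      rw [← hr, h1]
      exact Groth.Agent.Lib.helper3.TopDim.localDim_le_dim _
    have habr : a + b ≤ r := by
      rw [hab] at hle
      exact_mod_cast hle
    have hadd := trdeg_residueField_add k (f ≫ q) q f rfl ξ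
    have hnX : @Algebra.trdeg k (X.residueField ξ) _ _ (Curv2.resAlgebra k X ξ) =
        ((n + a : ℕ) : Cardinal.{u}) := by
      have h2 : td (@Curv2.resMap k _ Y ⟨q⟩ (f ξ)) = n := hn
      rw [h2, ha] at hadd
      rw [Nat.cast_add]
      exact hadd
    rw [dim_closure_eq_trdeg k X ξ (n + a) hnX]
    have h4 := dim_closure_eq_trdeg k Y (f ξ) n hn
    have h5 : topologicalKrullDim ↥(closure ({f ξ} : Set Y)) ≤ topologicalKrullDim Y :=
      topologicalKrullDim_subspace_le Y _
    rw [h4] at h5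
    refine le_trans ?_ (add_le_add_right h5 _)
    have : n + a ≤ r + n := by omega
    exact_mod_cast this
  · refine add_le_dim k q f r (fun η hη => ?_)
    have hmem : η ∈ closure (f '' Set.univ) := by
      rw [Set.image_univ]
      exact hdom.closure_eq ▸ Set.mem_univ η
    obtain ⟨z, -, hz⟩ :=
      Groth.Agent.Lib.helper28.QCClosure.exists_specializes_of_mem_closure_image f Set.univ
        isClosed_univ η hmem
    have hfz : f z = η := hη _ hz
    exact (hfib η ⟨z, hfz⟩).ge

end Groth.Agent.Lib.helper3.FibreDimSum
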