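import Mathlib
import Groth.Agent.Lib.Helper3.FibreDimBC2
import Groth.Agent.Lib.Helper3.DimCriteria
import Groth.Agent.Lib.Helper3.FibreDimSum

/-!
# Closures of subsets of fibres and base change (helper3)

* `exists_generization_of_mem_closure` : `F` a Noetherian quasi-sober subspace of `X`, `E ⊆ F`: every
  point of the closure of `E` in `X` is a specialization of a point of `F ∩ closure E`.
* `dim_fibre_closure_eq` : `dim (f⁻¹(t) ∩ closure (E ∩ f⁻¹(t)))` computed inside the scheme-theoretic
  fibre `f.fiber t`.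
* `dim_preimage_of_isPullback_field` : for a base field extension `Φ : F' = F ×_k K ⟶ F` with `F` locally
  of finite type over `k` and `C ⊆ F` closed, `dim Φ⁻¹(C) = dim C`.
* `dim_fibre_closure_baseChange` : base change invariance of `dim (closure_{fibre} (E ∩ fibre))`.
-/

set_option autoImplicit false
universe u
open CategoryTheory AlgebraicGeometry CategoryTheory.Limits TopologicalSpace Topology

namespace Groth.Agent.Lib.helper3.UOImageDim

theorem exists_generization_of_mem_closure {X : Type*} [TopologicalSpace X] (F E : Set X)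
    (hE : E ⊆ F) [NoetherianSpace ↥F] [QuasiSober ↥F] (c : X) (hc : c ∈ closure E) :
    ∃ ξ ∈ F ∩ closure E, ξ ⤳ c := by
  classical
  let A : Closeds ↥F := ⟨Subtype.val ⁻¹' closure E, isClosed_closure.preimage continuous_subtype_val⟩
  obtain ⟨S, hSirr, hSA⟩ := NoetherianSpace.exists_finset_irreducible A
  have hA : (A : Set ↥F) = ⋃ t ∈ S, (t : Set ↥F) := by
    rw [hSA, Closeds.coe_finset_sup]
    simp [Finset.sup_set_eq_biUnion]
  have hgp : ∀ t ∈ S, ∃ ξ : ↥F, IsGenericPoint ξ (t : Set ↥F) := fun t ht =>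
    QuasiSober.sober (hSirr ⟨t, ht⟩) t.isClosed
  let W : Set X := ⋃ t ∈ S, {x | ∃ ξ : ↥F, IsGenericPoint ξ (t : Set ↥F) ∧ ξ.1 ⤳ x}
  have hW : IsClosed W := by
    have h1 : W = ⋃ t ∈ S, {x | ∃ ξ : ↥F, IsGenericPoint ξ (t : Set ↥F) ∧ ξ.1 ⤳ x} := rfl
    rw [h1]
    refine S.finite_toSet.isClosed_biUnion fun t ht => ?_
    obtain ⟨ξ, hξ⟩ := hgp t ht
    have h2 : {x | ∃ ξ : ↥F, IsGenericPoint ξ (t : Set ↥F) ∧ ξ.1 ⤳ x} = closure {ξ.1} := by
      ext x
      simp only [Set.mem_ofPred_eq]
      constructor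
      · rintro ⟨ξ', hξ', hx⟩
        have h3 : ξ ⤳ ξ' := by
          rw [specializes_iff_mem_closure, hξ.def, ← hξ'.def]
          exact subset_closure rfl
        exact specializes_iff_mem_closure.mp ((h3.map continuous_subtype_val).trans hx)
      · intro hx
        exact ⟨ξ, hξ, specializes_iff_mem_closure.mpr hx⟩
    rw [h2]
    exact isClosed_closure
  have hEW : E ⊆ W := by
    intro e he
    have heA : (⟨e, hE he⟩ : ↥F) ∈ (A : Set ↥F) := subset_closure he
    rw [hA] at heA
    simp only [Set.mem_iUnion, exists_prop] at heA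
    obtain ⟨t, htS, het⟩ := heA
    obtain ⟨ξ, hξ⟩ := hgp t htS
    refine Set.mem_biUnion htS ⟨ξ, hξ, ?_⟩
    have h1 : ξ ⤳ (⟨e, hE he⟩ : ↥F) := by
      rw [specializes_iff_mem_closure, hξ.def]
      exact het
    exact h1.map continuous_subtype_val
  have hcW : c ∈ W := closure_minimal hEW hW hc
  simp only [W, Set.mem_iUnion, exists_prop] at hcW
  obtain ⟨t, htS, ξ, hξ, hξc⟩ := hcW
  refine ⟨ξ.1, ⟨ξ.2, ?_⟩, hξc⟩
  have h3 : ξ ∈ (t : Set ↥F) := by
    rw [← hξ.def]; exact subset_closure rfl
  have h4 : ξ ∈ (A : Set ↥F) := by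
    rw [hA]
    exact Set.mem_biUnion htS h3
  exact h4

/-- the dimension of the closure of `E ∩ f⁻¹(t)` in the fibre, computed in the scheme-theoretic
fibre. -/
theorem dim_fibre_closure_eq {X S : Scheme.{u}} (f : X ⟶ S) (E : Set X) (t : S) :
    topologicalKrullDim ↥(f.base ⁻¹' {t} ∩ closure (E ∩ f.base ⁻¹' {t})) =
      topologicalKrullDim ↥(closure ((f.fiberι t).base ⁻¹' E)) := by
  apply Groth.Agent.Lib.helper3.DimCriteria.dim_eq_of_range_eq
    (Subtype.val : ↥(f.base ⁻¹' {t} ∩ closure (E ∩ f.base ⁻¹' {t})) → X)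
    ((f.fiberι t) ∘ (Subtype.val : ↥(closure ((f.fiberι t).base ⁻¹' E)) → _))
    IsInducing.subtypeVal ((f.fiberι t).isEmbedding.isInducing.comp IsInducing.subtypeVal)
  rw [Subtype.range_coe_subtype, Set.range_comp, Subtype.range_coe_subtype]
  have h1 : {x | x ∈ closure ((f.fiberι t).base ⁻¹' E)} = closure ((f.fiberι t).base ⁻¹' E) := rfl
  rw [h1, (f.fiberι t).isEmbedding.isInducing.closure_eq_preimage_closure_image,
    Set.image_preimage_eq_inter_range, Set.image_preimage_eq_inter_range, f.range_fiberι t]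
  ext x
  simp only [Set.mem_ofPred_eq, Set.mem_inter_iff]
  tauto

/-- base field extension preserves the dimension of closed subsets. -/
theorem dim_preimage_of_isPullback_field {k K : Type u} [Field k] [Field K] [Algebra k K]
    {F F' : Scheme.{u}} (Φ : F' ⟶ F) (q' : F' ⟶ Spec (CommRingCat.of K))
    (q : F ⟶ Spec (CommRingCat.of k))
    (sq : IsPullback Φ q' q (Spec.map (CommRingCat.ofHom (algebraMap k K))))
    [LocallyOfFiniteType q] (C : Set F) (hC : IsClosed C) :
    topologicalKrullDim ↥(Φ.base ⁻¹' C) = topologicalKrullDim ↥C := by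
  set I := Scheme.IdealSheafData.vanishingIdeal (X := F) ⟨C, hC⟩ with hI
  set j := I.subschemeι with hj
  have hjr : Set.range j.base = C := by
    rw [hj, Scheme.IdealSheafData.range_subschemeι, hI,
      Scheme.IdealSheafData.coe_support_vanishingIdeal]
    rfl
  have sq2 : IsPullback (pullback.fst j Φ) (pullback.snd j Φ ≫ q') (j ≫ q)
      (Spec.map (CommRingCat.ofHom (algebraMap k K))) :=
    ((IsPullback.of_hasPullback j Φ).flip.paste_horiz sq.flip).flip
  have h1 := Groth.Agent.Lib.helper3.FibreDimBC.dim_eq_of_isPullback_field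
    (pullback.fst j Φ) (pullback.snd j Φ ≫ q') (j ≫ q) sq2
  have h2 : topologicalKrullDim ↥I.subscheme = topologicalKrullDim ↥C :=
    Groth.Agent.Lib.helper3.DimCriteria.dim_eq_of_range_eq j.base (Subtype.val : ↥C → F)
      j.isEmbedding.isInducing IsInducing.subtypeVal (by rw [hjr, Subtype.range_coe])
  have h3 : topologicalKrullDim ↥(pullback j Φ) = topologicalKrullDim ↥(Φ.base ⁻¹' C) :=
    Groth.Agent.Lib.helper3.DimCriteria.dim_eq_of_range_eq (pullback.snd j Φ).base
      (Subtype.val : ↥(Φ.base ⁻¹' C) → F')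
      (pullback.snd j Φ).isEmbedding.isInducing IsInducing.subtypeVal
      (by rw [Scheme.Pullback.range_snd, hjr, Subtype.range_coe])
  rw [← h3, h1, h2]

theorem dim_fibre_closure_baseChange_aux {P X Y Z : Scheme.{u}} {fst : P ⟶ X} {snd : P ⟶ Y}
    {f : X ⟶ Z} {g : Y ⟶ Z} [LocallyOfFiniteType f] (E : Set X)
    (y : Y) (Φ : snd.fiber y ⟶ f.fiber (g y))
    (hpb : IsPullback Φ (snd.fiberToSpecResidueField y) (f.fiberToSpecResidueField (g y))
      (Spec.map (g.residueFieldMap y)))
    (hΦι : Φ ≫ f.fiberι (g y) = snd.fiberι y ≫ fst) :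
    topologicalKrullDim ↥(closure ((snd.fiberι y).base ⁻¹' (fst.base ⁻¹' E))) =
      topologicalKrullDim ↥(closure ((f.fiberι (g y)).base ⁻¹' E)) := by
  letI : Algebra (Z.residueField (g y)) (Y.residueField y) := (g.residueFieldMap y).hom.toAlgebra
  have hlft : LocallyOfFiniteType (f.fiberToSpecResidueField (g y)) :=
    MorphismProperty.pullback_snd (P := @LocallyOfFiniteType) _ _ inferInstance
  haveI : UniversallyOpen (Spec.map (g.residueFieldMap y)) := inferInstance
  haveI : UniversallyOpen Φ :=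
    MorphismProperty.of_isPullback (P := @UniversallyOpen) hpb.flip inferInstance
  have hopen : IsOpenMap Φ.base := Φ.isOpenMap
  have e1 : (snd.fiberι y).base ⁻¹' (fst.base ⁻¹' E) =
      Φ.base ⁻¹' ((f.fiberι (g y)).base ⁻¹' E) := by
    ext x
    have h1 : fst.base ((snd.fiberι y).base x) = (f.fiberι (g y)).base (Φ.base x) := by
      rw [← Scheme.Hom.comp_apply, ← Scheme.Hom.comp_apply, hΦι]
    simp only [Set.mem_preimage, h1]
  rw [e1, ← hopen.preimage_closure_eq_closure_preimage Φ.continuous]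
  exact dim_preimage_of_isPullback_field (k := Z.residueField (g y)) (K := Y.residueField y)
    Φ _ _ hpb _ isClosed_closure

/-- base change invariance of the dimension of the closure of a subset in a fibre. -/
theorem dim_fibre_closure_baseChange {P X Y Z : Scheme.{u}} {fst : P ⟶ X} {snd : P ⟶ Y}
    {f : X ⟶ Z} {g : Y ⟶ Z} (hc : IsPullback fst snd f g) [LocallyOfFiniteType f] (E : Set X)
    (y : Y) (z : Z) (hz : g.base y = z) :
    topologicalKrullDim ↥(closure ((snd.fiberι y).base ⁻¹' (fst.base ⁻¹' E))) =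
      topologicalKrullDim ↥(closure ((f.fiberι z).base ⁻¹' E)) := by
  subst hz
  have hpb := isPullback_fiberToSpecResidueField_of_isPullback hc y
  exact dim_fibre_closure_baseChange_aux E y _ hpb (pullback.lift_fst _ _ _)

end Groth.Agent.Lib.helper3.UOImageDim
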