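import Mathlib
import Groth.Agent.Lib.Helper3.UOImageDim1
import Groth.Agent.Lib.Helper3.PruferDimFn
import Groth.Agent.Lib.Helper3.JacDim6
import Groth.Agent.Lib.Helper3.DimIneqSch2

/-!
# Dimension of closures of universally open images in the fibres over a valuation ring (helper3)

* `td_quotientMap_le_of_le_val`, `td_le_of_specializes` : over a valuation ring the residue
  transcendence degree decreases under specialization.
* `quasiSober_fibre_inter`, `dim_fibre_inter_le_of_forall_td_le`, `td_le_dim_fibre_inter`.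
* `valuation_case` : the statement of S4972 over a valuation ring.
-/

set_option autoImplicit false
universe u
open CategoryTheory AlgebraicGeometry CategoryTheory.Limits TopologicalSpace Topology Function

namespace Groth.Agent.Lib.helper3.UOImageDim

open Groth.Agent.Lib.helper3 Groth.Agent.Lib.helper3.DimIneq Groth.Agent.Lib.helper3.JacDim

section ring

variable {A B : Type u} [CommRing A] [IsDomain A] [ValuationRing A] [CommRing B] [Algebra A B]

/-- the residue transcendence degree decreases under specialization (valuation ring base). -/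
theorem td_quotientMap_le_of_le_val
    [Algebra.FiniteType A B] (P Q : Ideal B) [P.IsPrime] [Q.IsPrime] (hPQ : P ≤ Q) :
    td (Ideal.quotientMap Q (algebraMap A B) le_rfl) ≤
      td (Ideal.quotientMap P (algebraMap A B) le_rfl) := by
  set I : Ideal B := P ⊔ (Q.comap (algebraMap A B)).map (algebraMap A B) with hI
  have hIQ : I ≤ Q := sup_le hPQ Ideal.map_comap_le
  obtain ⟨Q', hQ'min, hQ'Q⟩ := Ideal.exists_minimalPrimes_le hIQ
  haveI : Q'.IsPrime := hQ'min.1.1
  have hPQ' : P ≤ Q' := le_sup_left.trans hQ'min.1.2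
  have hc : Q'.comap (algebraMap A B) = Q.comap (algebraMap A B) := by
    apply le_antisymm (Ideal.comap_mono hQ'Q)
    intro a ha
    exact hQ'min.1.2 (Ideal.mem_sup_right (Ideal.mem_map_of_mem _ ha))
  have hmax : ∀ Q'' : Ideal B, Q''.IsPrime → P ≤ Q'' → Q'' ≤ Q' →
      Q''.comap (algebraMap A B) = Q'.comap (algebraMap A B) → Q'' = Q' := by
    intro Q'' hQ'' hPQ'' hle hcc
    apply le_antisymm hle
    apply hQ'min.2 ⟨hQ'', ?_⟩ hle
    apply sup_le hPQ''
    rw [Ideal.map_le_iff_le_comap, ← hc, ← hcc]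
  have h1 := ValFibreGeneric.td_quotientMap_eq_of_maximal P Q' hPQ' hmax
  rw [← h1]
  rcases eq_or_lt_of_le hQ'Q with h | h
  · exact le_of_eq (FibreParam.td_quotientMap_congr_prime (algebraMap A B) _ _ h.symm)
  · exact (td_quotientMap_lt (algebraMap A B)
      (RingHom.finiteType_algebraMap.mpr inferInstance) Q' Q h hc).le

end ring

section scheme

variable (R : Type u) [CommRing R] [IsDomain R] [ValuationRing R] {X : Scheme.{u}}
  (φ : X ⟶ Spec (CommRingCat.of R)) [LocallyOfFiniteType φ]

/-- over a valuation ring the residue transcendence degree decreases under specialization. -/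
theorem td_le_of_specializes (x x' : X) (hgen : x' ⤳ x) :
    td (φ.residueFieldMap x).hom ≤ td (φ.residueFieldMap x').hom := by
  obtain ⟨W, hW, hxW, -⟩ := exists_isAffineOpen_mem_and_subset (x := x) (U := ⊤) trivial
  have hx'W : x' ∈ W := hgen.mem_open W.2 hxW
  have hV := isAffineOpen_top (Spec (CommRingCat.of R))
  have e : W ≤ φ ⁻¹ᵁ ⊤ := le_top
  set ψ := (φ.appLE ⊤ W e).hom with hψ
  have hψft : ψ.FiniteType :=
    HasRingHomProperty.appLE (P := @LocallyOfFiniteType) φ inferInstance ⟨⊤, hV⟩ ⟨W, hW⟩ e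
  let eR : Γ(Spec (CommRingCat.of R), ⊤) ≃+* R :=
    (Scheme.ΓSpecIso (CommRingCat.of R)).commRingCatIsoToRingEquiv
  haveI : IsDomain Γ(Spec (CommRingCat.of R), ⊤) := MulEquiv.isDomain R eR.toMulEquiv
  haveI : ValuationRing Γ(Spec (CommRingCat.of R), ⊤) :=
    FlatFibreDimLSC.valuationRing_of_ringEquiv eR
  letI := ψ.toAlgebra
  haveI : Algebra.FiniteType Γ(Spec (CommRingCat.of R), ⊤) Γ(X, W) := hψft
  set P := (hW.primeIdealOf ⟨x', hx'W⟩).asIdeal with hP
  set Q := (hW.primeIdealOf ⟨x, hxW⟩).asIdeal with hQ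
  have hPQ : P ≤ Q := (specializes_iff_primeIdealOf_le hW x' x hx'W hxW).mp hgen
  have key := td_quotientMap_le_of_le_val (A := Γ(Spec (CommRingCat.of R), ⊤)) P Q hPQ
  rw [← td_quotientMap_eq φ hV hW e x' hx'W, ← td_quotientMap_eq φ hV hW e x hxW]
  exact key

end scheme

section genmap

open MorphismProperty

theorem generalizingMap_of_isOpenMap_comap {A B : Type*} [CommRing A] [CommRing B] (φ : A →+* B)
    (h : IsOpenMap (PrimeSpectrum.comap φ)) : GeneralizingMap (PrimeSpectrum.comap φ) := by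
  intro q p' hp'
  set I : Ideal B := p'.asIdeal.map φ with hI
  set M : Submonoid B := q.asIdeal.primeCompl ⊔ Submonoid.map φ p'.asIdeal.primeCompl with hM
  have hdisj : Disjoint (I : Set B) M := by
    rw [Set.disjoint_left]
    intro b hbI hbM
    obtain ⟨g, hg, z, hz, rfl⟩ := Submonoid.mem_sup.mp hbM
    obtain ⟨s, hs, rfl⟩ := hz
    -- openness
    have ho : IsOpen (PrimeSpectrum.comap φ '' (PrimeSpectrum.basicOpen g : Set (PrimeSpectrum B))) :=
      h _ (PrimeSpectrum.basicOpen g).2
    have hq : PrimeSpectrum.comap φ q ∈ PrimeSpectrum.comap φ '' (PrimeSpectrum.basicOpen g : Set (PrimeSpectrum B)) :=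
      ⟨q, hg, rfl⟩
    obtain ⟨q'', hgq'', hq''⟩ := hp'.mem_open ho hq
    have hIq'' : I ≤ q''.asIdeal := by
      rw [hI, Ideal.map_le_iff_le_comap]
      rw [← hq'']
      exact le_rfl
    have h1 := hIq'' hbI
    rcases q''.isPrime.mem_or_mem h1 with h2 | h2
    · exact hgq'' h2
    · apply hs
      rw [← hq'']
      exact h2
  obtain ⟨Q, hQ, hIQ, hQM⟩ := Ideal.exists_le_prime_disjoint I M hdisj
  refine ⟨⟨Q, hQ⟩, ?_, ?_⟩
  · change (⟨Q, hQ⟩ : PrimeSpectrum B) ⤳ q
    rw [← PrimeSpectrum.le_iff_specializes]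
    intro b hb
    by_contra hbq
    exact Set.disjoint_left.mp hQM hb (Submonoid.mem_sup_left (S := q.asIdeal.primeCompl) hbq)
  · apply PrimeSpectrum.ext
    apply le_antisymm
    · intro a ha
      by_contra hap
      exact Set.disjoint_left.mp hQM ha
        (Submonoid.mem_sup_right (Submonoid.mem_map_of_mem φ hap))
    · intro a ha
      exact hIQ (Ideal.mem_map_of_mem φ ha)

theorem generalizingMap_of_isOpenMap {Y T : Scheme.{u}} (f : Y ⟶ T) (hf : IsOpenMap f.base) :
    GeneralizingMap f.base := by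
  have h1 := HasRingHomProperty.of_isZariskiLocalAtSource_of_isZariskiLocalAtTarget.{u}
    (topologically GeneralizingMap)
  have h2 := HasRingHomProperty.of_isZariskiLocalAtSource_of_isZariskiLocalAtTarget.{u}
    (topologically IsOpenMap)
  change topologically GeneralizingMap f
  rw [HasRingHomProperty.iff_appLE (P := topologically GeneralizingMap)]
  intro U V e
  have h3 := HasRingHomProperty.appLE (P := topologically IsOpenMap) f hf U V e
  exact generalizingMap_of_isOpenMap_comap _ h3

end genmap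

section dims

variable {X S : Scheme.{u}} (f : X ⟶ S)

theorem quasiSober_fibre (t : S) : QuasiSober ↥(f.base ⁻¹' {t}) :=
  (f.fiberHomeo t).symm.isClosedEmbedding.quasiSober

theorem quasiSober_fibre_inter (t : S) (C : Set X) (hC : IsClosed C) :
    QuasiSober ↥(f.base ⁻¹' {t} ∩ C) := by
  haveI := quasiSober_fibre f t
  exact QuasiSober.inter_of_isClosed_of_quasiSober_left _ hC

theorem noetherianSpace_fibre [LocallyOfFiniteType f] [QuasiCompact f] (t : S) :
    NoetherianSpace ↥(f.base ⁻¹' {t}) := by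
  haveI h1 : LocallyOfFiniteType (f.fiberToSpecResidueField t) :=
    MorphismProperty.pullback_snd (P := @LocallyOfFiniteType) _ _ inferInstance
  haveI h2 : QuasiCompact (f.fiberToSpecResidueField t) :=
    MorphismProperty.pullback_snd (P := @QuasiCompact) _ _ inferInstance
  haveI := FibreDimSum.noetherianSpace_of_ft (S.residueField t) (f.fiberToSpecResidueField t)
  exact (noetherianSpace_iff_of_homeomorph (f.fiberHomeo t)).mp inferInstance

theorem dim_fibre_inter_le_of_forall_td_le [LocallyOfFiniteType f] (t : S) (C : Set X)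
    (hC : IsClosed C) (N : WithBot ℕ∞)
    (h : ∀ c ∈ C, f.base c = t →
      ∃ n : ℕ, td (f.residueFieldMap c).hom = n ∧ (n : WithBot ℕ∞) ≤ N) :
    topologicalKrullDim ↥(f.base ⁻¹' {t} ∩ C) ≤ N := by
  haveI := quasiSober_fibre_inter f t C hC
  apply dim_le_of_forall_ltSeries
  intro l
  have hc := l.last.2
  obtain ⟨n, hn, hnN⟩ := h l.last.1 hc.2 hc.1
  refine le_trans ?_ hnN
  have hd := DimCriteria.dim_closure_inter_fibre f l.last.1 n hn
  rw [← hd]
  haveI : QuasiSober ↥(closure {l.last.1} ∩ f.base ⁻¹' {f.base l.last.1}) := by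
    rw [Set.inter_comm]
    exact quasiSober_fibre_inter f _ _ isClosed_closure
  apply length_le_dim_of_forall_mem l
  intro i
  refine ⟨specializes_iff_mem_closure.mp (ltSeries_last_specializes l i), ?_⟩
  have h1 := (l i).2.1
  have h2 := hc.1
  rw [Set.mem_preimage, Set.mem_singleton_iff] at h1 h2 ⊢
  rw [h1, h2]

theorem td_le_dim_fibre_inter [LocallyOfFiniteType f] (t : S) (C : Set X) (hC : IsClosed C)
    (c : X) (hcC : c ∈ C) (hct : f.base c = t) (n : ℕ) (hn : td (f.residueFieldMap c).hom = n) :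
    (n : WithBot ℕ∞) ≤ topologicalKrullDim ↥(f.base ⁻¹' {t} ∩ C) := by
  subst hct
  rw [← DimCriteria.dim_closure_inter_fibre f c n hn]
  apply dim_le_of_subset
  rintro x ⟨hx1, hx2⟩
  exact ⟨hx2, closure_minimal (Set.singleton_subset_iff.mpr hcC) hC hx1⟩

end dims

section val

variable (R : Type u) [CommRing R] [IsDomain R] [ValuationRing R] {X : Scheme.{u}}
  (φ : X ⟶ Spec (CommRingCat.of R)) [LocallyOfFiniteType φ] [QuasiCompact φ]

/-- S4972 over a valuation ring. -/
theorem valuation_case {ι : Type*} (Y : ι → Scheme.{u}) (w : ∀ i, Y i ⟶ X)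
    (hopen : ∀ i, IsOpenMap (w i ≫ φ).base) (v η : Spec (CommRingCat.of R)) (hηv : η ⤳ v) :
    topologicalKrullDim
        ↥(φ.base ⁻¹' {v} ∩ closure ((⋃ i, Set.range (w i).base) ∩ φ.base ⁻¹' {v})) ≤
      topologicalKrullDim
        ↥(φ.base ⁻¹' {η} ∩ closure ((⋃ i, Set.range (w i).base) ∩ φ.base ⁻¹' {η})) := by
  set E : Set X := ⋃ i, Set.range (w i).base with hE
  apply dim_fibre_inter_le_of_forall_td_le φ v _ isClosed_closure
  intro c hc hcv
  have h1 : E ∩ φ.base ⁻¹' {v} ⊆ closure (E ∩ φ.base ⁻¹' {η}) := by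
    rintro e ⟨heE, hev⟩
    obtain ⟨i, y, rfl⟩ := Set.mem_iUnion.mp heE
    have hgen := generalizingMap_of_isOpenMap (w i ≫ φ) (hopen i)
    have hsp : η ⤳ (w i ≫ φ).base y := by
      rw [Set.mem_preimage, Set.mem_singleton_iff] at hev
      rw [Scheme.Hom.comp_apply, hev]
      exact hηv
    obtain ⟨y', hy'y, hy'η⟩ := hgen hsp
    have h2 : (w i).base y' ∈ E ∩ φ.base ⁻¹' {η} :=
      ⟨Set.mem_iUnion.mpr ⟨i, y', rfl⟩, by
        rw [Set.mem_preimage, Set.mem_singleton_iff, ← Scheme.Hom.comp_apply]; exact hy'η⟩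
    exact closure_mono (Set.singleton_subset_iff.mpr h2)
      (specializes_iff_mem_closure.mp (hy'y.map (w i).continuous))
  have h2 : c ∈ closure (E ∩ φ.base ⁻¹' {η}) := closure_minimal h1 isClosed_closure hc
  haveI := noetherianSpace_fibre φ η
  haveI := quasiSober_fibre φ η
  obtain ⟨ξ, ⟨hξη, hξcl⟩, hξc⟩ := exists_generization_of_mem_closure (φ.base ⁻¹' {η})
    (E ∩ φ.base ⁻¹' {η}) Set.inter_subset_right c h2
  obtain ⟨n, hn⟩ := exists_nat_td_residueFieldMap φ c
  obtain ⟨n', hn'⟩ := exists_nat_td_residueFieldMap φ ξ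
  have hle := td_le_of_specializes R φ c ξ hξc
  refine ⟨n, hn, ?_⟩
  have h3 := td_le_dim_fibre_inter φ η _ isClosed_closure ξ hξcl hξη n' hn'
  refine le_trans ?_ h3
  rw [hn, hn'] at hle
  exact_mod_cast hle

end val

end Groth.Agent.Lib.helper3.UOImageDim
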