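import Mathlib
import Groth.Agent.Lib.Helper3.UOImageDim2
import Groth.Agent.Lib.Helper3.IrredDim
import Groth.Agent.Lib.Helper5.FibreDimLocal
import Groth.Agent.Lib.Helper5.FibreDimGE
import Groth.Agent.Lib.Helper3.EquidimIrr
import Groth.Prelude.Def_FDesc

/-!
# Dimension of the section component of a fibre (helper3; = S4954)

* `isOpen_connectedComponent_of_noetherian` : connected components of Noetherian spaces are open.
* `dim_connectedComponentIn_eq_fibreDimAt` : `f` of finite type; if the connected component of `x`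
  in its fibre is irreducible, its dimension is `fibreDimAt f x`.
* `upperSemicontinuous_dim_sectionComponent` (= S4954).
-/

set_option autoImplicit false
universe u
open CategoryTheory AlgebraicGeometry CategoryTheory.Limits TopologicalSpace Topology Function

namespace Groth.Agent.Lib.helper3.SecCompDim

open Groth.Agent.Lib.helper3 Groth.Agent.Lib.helper3.UOImageDim

theorem isOpen_connectedComponent_of_noetherian {T : Type*} [TopologicalSpace T]
    [NoetherianSpace T] (x : T) : IsOpen (connectedComponent x) := by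
  rw [← isClosed_compl_iff]
  have hfin : (irreducibleComponents T).Finite := NoetherianSpace.finite_irreducibleComponents
  have heq : (connectedComponent x)ᶜ =
      ⋃₀ {Z ∈ irreducibleComponents T | Disjoint Z (connectedComponent x)} := by
    ext t
    constructor
    · intro ht
      refine ⟨irreducibleComponent t, ⟨irreducibleComponent_mem_irreducibleComponents t, ?_⟩,
        mem_irreducibleComponent⟩
      rw [Set.disjoint_left]
      intro c hcZ hcC
      apply ht
      have h1 : IsPreconnected (irreducibleComponent t) :=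
        (isIrreducible_irreducibleComponent (x := t)).isPreirreducible.isPreconnected
      have h2 := h1.subset_connectedComponent hcZ
      rw [← connectedComponent_eq hcC] at h2
      exact h2 mem_irreducibleComponent
    · rintro ⟨Z, ⟨-, hZd⟩, htZ⟩ htC
      exact Set.disjoint_left.mp hZd htZ htC
  rw [heq, Set.sUnion_eq_biUnion]
  exact (hfin.subset (fun Z hZ => hZ.1)).isClosed_biUnion
    (fun Z hZ => isClosed_of_mem_irreducibleComponents Z hZ.1)

/-- in a Noetherian subspace the connected component of a point is relatively open. -/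
theorem exists_isOpen_connectedComponentIn {X : Type*} [TopologicalSpace X] (B : Set X)
    [NoetherianSpace ↥B] (x : X) (hx : x ∈ B) :
    ∃ O : Set X, IsOpen O ∧ connectedComponentIn B x = B ∩ O := by
  have h1 := isOpen_connectedComponent_of_noetherian (⟨x, hx⟩ : ↥B)
  obtain ⟨O, hO, hOeq⟩ := isOpen_induced_iff.mp h1
  refine ⟨O, hO, ?_⟩
  rw [connectedComponentIn_eq_image hx, ← hOeq]
  ext t
  simp only [Set.mem_image, Set.mem_preimage, Subtype.exists, exists_and_right, exists_eq_right,
    Set.mem_inter_iff]
  constructor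
  · rintro ⟨ht, htO⟩
    exact ⟨ht, htO⟩
  · rintro ⟨ht, htO⟩
    exact ⟨ht, htO⟩

section scheme

variable {X Y : Scheme.{u}} (f : X ⟶ Y) [LocallyOfFiniteType f] [QuasiCompact f]

theorem dim_connectedComponentIn_eq_fibreDimAt (x : X)
    (hirr : IsIrreducible (connectedComponentIn (f.base ⁻¹' {f.base x}) x)) :
    topologicalKrullDim ↥(connectedComponentIn (f.base ⁻¹' {f.base x}) x) =
      FlatMor.fibreDimAt f x := by
  haveI := noetherianSpace_fibre f (f.base x)
  have hxB : x ∈ f.base ⁻¹' {f.base x} := rfl
  obtain ⟨O, hO, hCO⟩ := exists_isOpen_connectedComponentIn (f.base ⁻¹' {f.base x}) x hxB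
  have hxC : x ∈ connectedComponentIn (f.base ⁻¹' {f.base x}) x := mem_connectedComponentIn hxB
  rw [Groth.Agent.Lib.helper5.FibreDimLocal.fibreDimAt_eq_localDim_preimage,
    ← Groth.Agent.Lib.helper5.FibreDimLocal.localDim_eq_of_inter_open _ _ O hO hCO x hxC]
  -- the open subscheme of the fibre
  set F := f.fiber (f.base x) with hF
  set ι := f.fiberι (f.base x) with hι
  let U : F.Opens := ⟨ι.base ⁻¹' O, hO.preimage ι.continuous⟩
  let j : ↥U → X := fun u => ι.base u.1
  have hj : IsEmbedding j := ι.isEmbedding.comp IsEmbedding.subtypeVal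
  have hrange : Set.range j = connectedComponentIn (f.base ⁻¹' {f.base x}) x := by
    rw [hCO]
    ext t
    constructor
    · rintro ⟨u, rfl⟩
      refine ⟨?_, u.2⟩
      have := f.range_fiberι (f.base x)
      rw [← this]
      exact ⟨u.1, rfl⟩
    · rintro ⟨htB, htO⟩
      rw [← f.range_fiberι (f.base x)] at htB
      obtain ⟨z, rfl⟩ := htB
      exact ⟨⟨z, htO⟩, rfl⟩
  let e : ↥U ≃ₜ ↥(connectedComponentIn (f.base ⁻¹' {f.base x}) x) :=
    hj.toHomeomorph.trans (Homeomorph.setCongr hrange)
  haveI : IrreducibleSpace ↥(connectedComponentIn (f.base ⁻¹' {f.base x}) x) :=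
    Subtype.irreducibleSpace hirr
  haveI : IrreducibleSpace ↥U := by
    have h1 : IsIrreducible (e ⁻¹' (Set.univ : Set ↥(connectedComponentIn (f.base ⁻¹' {f.base x}) x))) :=
      (IrreducibleSpace.isIrreducible_univ _).preimage e.isOpenEmbedding
        (by rw [e.range_coe]; simp)
    rw [Set.preimage_univ] at h1
    haveI : PreirreducibleSpace ↥U := ⟨h1.2⟩
    exact { toNonempty := ⟨h1.1.some⟩ }
  haveI : IrreducibleSpace ↥U.toScheme := ‹IrreducibleSpace ↥U›
  letI : U.toScheme.Over (Spec (CommRingCat.of (Y.residueField (f.base x)))) :=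
    ⟨U.ι ≫ f.fiberToSpecResidueField (f.base x)⟩
  haveI : LocallyOfFiniteType (f.fiberToSpecResidueField (f.base x)) :=
    MorphismProperty.pullback_snd (P := @LocallyOfFiniteType) _ _ inferInstance
  haveI : LocallyOfFiniteType (U.toScheme ↘ Spec (CommRingCat.of (Y.residueField (f.base x)))) :=
    (inferInstance : LocallyOfFiniteType (U.ι ≫ f.fiberToSpecResidueField (f.base x)))
  obtain ⟨d, hd1, hd2⟩ := Groth.Agent.Lib.helper3.IrredDim.exists_dim_eq_localDim_of_irreducible
    (Y.residueField (f.base x)) U.toScheme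
  have h1 : topologicalKrullDim ↥(connectedComponentIn (f.base ⁻¹' {f.base x}) x) =
      topologicalKrullDim ↥U := (IsHomeomorph.topologicalKrullDim_eq _ e.isHomeomorph).symm
  have h2 := Groth.Agent.Lib.helper5.FibreDimLocal.localDim_eq_of_isOpenEmbedding e
    e.isOpenEmbedding (e.symm ⟨x, hxC⟩)
  rw [e.apply_symm_apply] at h2
  rw [h1, ← h2]
  exact hd1.trans (hd2 _).symm

end scheme

theorem surjective_specMap_field (k K : Type u) [Field k] [Field K] [Algebra k K] :
    AlgebraicGeometry.Surjective (Spec.map (CommRingCat.ofHom (algebraMap k K))) := by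
  constructor
  intro y
  refine ⟨⟨⊥, Ideal.isPrime_bot⟩, ?_⟩
  apply PrimeSpectrum.ext
  have h1 : (y.asIdeal : Ideal k) = ⊥ := by
    haveI := y.isPrime
    exact ((Ideal.eq_bot_or_top y.asIdeal).resolve_right y.isPrime.ne_top)
  rw [h1]
  exact (Ideal.eq_bot_or_top _).resolve_right (Ideal.IsPrime.ne_top inferInstance)

section main

variable {X Y : Scheme.{u}} (f : X ⟶ Y) [LocallyOfFiniteType f] [QuasiCompact f]

omit [QuasiCompact f] in
theorem fibreDimAt_lt_top (x : X) : FlatMor.fibreDimAt f x < ⊤ := by
  obtain ⟨z, N, -, -, -, -, hN⟩ := Groth.Agent.Lib.helper3.EquidimIrr.exists_maximal_fibre_point f x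
  rw [hN]
  exact WithBot.coe_lt_coe.mpr (ENat.natCast_lt_top N)

theorem upperSemicontinuous_dim_sectionComponent (g : Y ⟶ X) (hg : g ≫ f = 𝟙 Y)
    (hirr : ∀ y : Y, IsIrreducible (connectedComponentIn (f.base ⁻¹' {y}) (g.base y))) :
    UpperSemicontinuous
      (fun y : Y => topologicalKrullDim ↥(connectedComponentIn (f.base ⁻¹' {y}) (g.base y))) := by
  have hfg : ∀ y : Y, f.base (g.base y) = y := fun y => by
    rw [← Scheme.Hom.comp_apply, hg]; rfl
  have key : (fun y : Y => topologicalKrullDim ↥(connectedComponentIn (f.base ⁻¹' {y}) (g.base y))) =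
      fun y => FlatMor.fibreDimAt f (g.base y) := by
    funext y
    have hset : f.base ⁻¹' {y} = f.base ⁻¹' {f.base (g.base y)} := by rw [hfg y]
    have h1 := hirr y
    rw [hset] at h1 ⊢
    exact dim_connectedComponentIn_eq_fibreDimAt f (g.base y) h1
  rw [key, upperSemicontinuous_iff_isOpen_preimage]
  intro c
  induction c using WithBot.recBotCoe with
  | bot =>
    convert isOpen_empty
    ext y
    simp
  | coe c =>
    induction c using ENat.recTopCoe with
    | top =>
      convert isOpen_univ
      ext y
      simp only [Set.mem_preimage, Set.mem_Iio, Set.mem_univ, iff_true]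
      exact fibreDimAt_lt_top f (g.base y)
    | coe n =>
      have h1 := Groth.Agent.Lib.helper5.FibreDimGE.isClosed_setOf_le_fibreDimAt f n
      have h2 : (fun y => FlatMor.fibreDimAt f (g.base y)) ⁻¹' Set.Iio ((n : ℕ∞) : WithBot ℕ∞) =
          g.base ⁻¹' {c : X | ((n : ℕ) : WithBot ℕ∞) ≤ FlatMor.fibreDimAt f c}ᶜ := by
        ext y
        simp only [Set.mem_preimage, Set.mem_Iio, Set.mem_compl_iff, Set.mem_ofPred_eq, not_le]
        rfl
      rw [h2]
      exact h1.isOpen_compl.preimage g.continuous

/-- **S4954**. -/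
theorem main (g : Y ⟶ X) (hg : g ≫ f = 𝟙 Y)
    (hirr : ∀ y : Y, (∀ (K : Type u) [Field K] [Algebra (IsLocalRing.ResidueField (Y.presheaf.stalk y)) K],
        IsIrreducible ((FBase.bcπ (f.fiberToSpecResidueField y) K ≫ f.fiberι y).base ⁻¹' connectedComponentIn (f.base ⁻¹' {y}) (g.base y)))) :
    UpperSemicontinuous (fun y : Y => topologicalKrullDim ↥(connectedComponentIn (f.base ⁻¹' {y}) (g.base y))) := by
  apply upperSemicontinuous_dim_sectionComponent f g hg
  intro y
  have h := hirr y (IsLocalRing.ResidueField (Y.presheaf.stalk y))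
  set π := FBase.bcπ (f.fiberToSpecResidueField y) (IsLocalRing.ResidueField (Y.presheaf.stalk y)) ≫
    f.fiberι y with hπ
  have h1 := h.image π.base π.continuous.continuousOn
  rw [Set.image_preimage_eq_inter_range] at h1
  have hsurj : Function.Surjective (FBase.bcπ (f.fiberToSpecResidueField y)
      (IsLocalRing.ResidueField (Y.presheaf.stalk y))).base := by
    haveI := surjective_specMap_field (IsLocalRing.ResidueField (Y.presheaf.stalk y))
      (IsLocalRing.ResidueField (Y.presheaf.stalk y))
    haveI : AlgebraicGeometry.Surjective (FBase.bcπ (f.fiberToSpecResidueField y)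
        (IsLocalRing.ResidueField (Y.presheaf.stalk y))) :=
      MorphismProperty.pullback_fst (P := @AlgebraicGeometry.Surjective) _ _ inferInstance
    exact Scheme.Hom.surjective _
  have hrange : Set.range π.base = f.base ⁻¹' {y} := by
    rw [← f.range_fiberι y]
    ext t
    constructor
    · rintro ⟨z, rfl⟩
      exact ⟨(FBase.bcπ (f.fiberToSpecResidueField y)
        (IsLocalRing.ResidueField (Y.presheaf.stalk y))).base z, rfl⟩
    · rintro ⟨w, rfl⟩
      obtain ⟨z, rfl⟩ := hsurj w
      exact ⟨z, rfl⟩
  rw [hrange, Set.inter_eq_left.mpr (connectedComponentIn_subset _ _)] at h1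
  exact h1

end main

end Groth.Agent.Lib.helper3.SecCompDim
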