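import Mathlib
import Groth.Agent.Lib.Helper3.SecCompDim
import Groth.Agent.S2277

/-!
# Section components of fibres, locally of finite type case (helper3; = S3419, S4952)

* `td_lt_of_specializes_of_ne` : strict decrease of the residue transcendence degree inside a fibre.
* `isOpen_connectedComponent_fiber`, `exists_isOpen_connectedComponentIn_fibre` : connected components
  of fibres of morphisms locally of finite type are relatively open.
* `dim_connectedComponentIn_eq_fibreDimAt'` : without quasi-compactness.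
* `exists_generic_of_isClosed_in_fibre` : generic points of irreducible closed subsets of fibres.
* `exists_specialization_td_ge` : Chevalley's semicontinuity on `closure {ζ}`.
* `subset_closure_of_dim_le` : the containment statement.
-/

set_option autoImplicit false
universe u
open CategoryTheory AlgebraicGeometry CategoryTheory.Limits TopologicalSpace Topology Function

namespace Groth.Agent.Lib.helper3.SecCompDim

open Groth.Agent.Lib.helper3 Groth.Agent.Lib.helper3.UOImageDim Groth.Agent.Lib.helper3.DimIneq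

section

variable {X Y : Scheme.{u}} (f : X ⟶ Y) [LocallyOfFiniteType f]

/-- strict decrease of the residue transcendence degree under proper specialization in a fibre. -/
theorem td_lt_of_specializes_of_ne (x' y : X) (hy : y ⤳ x') (hφy : f.base y = f.base x')
    (hne : y ≠ x') : td (f.residueFieldMap x').hom < td (f.residueFieldMap y).hom := by
  obtain ⟨V, hV, hsV, -⟩ := exists_isAffineOpen_mem_and_subset (x := f.base x') (U := ⊤) trivial
  obtain ⟨W, hW, hx'W, e⟩ := exists_isAffineOpen_mem_and_subset (x := x') (U := f ⁻¹ᵁ V) hsV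
  have hyW : y ∈ W := hy.mem_open W.2 hx'W
  set ψ := (f.appLE V W e).hom with hψ
  have hψft : ψ.FiniteType := LocallyOfFiniteType.finiteType_appLE f hV hW e
  have hcomap : ∀ (y : X) (hy : y ∈ W), (hW.primeIdealOf ⟨y, hy⟩).asIdeal.comap ψ =
      (hV.primeIdealOf ⟨f.base y, e hy⟩).asIdeal := by
    intro y hy
    have := IsAffineOpen.comap_primeIdealOf_appLE (f := f) (x := y) V hV W hW e hy
    exact congrArg PrimeSpectrum.asIdeal this
  have hle := (specializes_iff_primeIdealOf_le hW y x' hyW hx'W).mp hy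
  have hlt : (hW.primeIdealOf ⟨y, hyW⟩).asIdeal < (hW.primeIdealOf ⟨x', hx'W⟩).asIdeal := by
    refine lt_of_le_of_ne hle (fun h => hne ?_)
    have hx'y : x' ⤳ y := (specializes_iff_primeIdealOf_le hW x' y hx'W hyW).mpr (le_of_eq h.symm)
    exact (hy.antisymm hx'y).eq
  have hc : (hW.primeIdealOf ⟨y, hyW⟩).asIdeal.comap ψ =
      (hW.primeIdealOf ⟨x', hx'W⟩).asIdeal.comap ψ := by
    rw [hcomap y hyW, hcomap x' hx'W]
    have : (⟨f.base y, e hyW⟩ : ((V : Y.Opens) : Set _)) = ⟨f.base x', e hx'W⟩ :=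
      Subtype.ext hφy
    rw [this]
  have hstrict := td_quotientMap_lt ψ hψft _ _ hlt hc
  rw [td_quotientMap_eq f hV hW e x' hx'W, td_quotientMap_eq f hV hW e y hyW] at hstrict
  exact hstrict

theorem locallyConnectedSpace_fiber (y : Y) : LocallyConnectedSpace ↥(f.fiber y) := by
  haveI h1 : LocallyOfFiniteType (f.fiberToSpecResidueField y) :=
    MorphismProperty.pullback_snd (P := @LocallyOfFiniteType) _ _ inferInstance
  haveI : IsLocallyNoetherian (f.fiber y) :=
    LocallyOfFiniteType.isLocallyNoetherian (f.fiberToSpecResidueField y)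
  apply Groth.Agent.S2277.result
  intro x
  obtain ⟨_, ⟨U, hU, rfl⟩, hxU, -⟩ :=
    ((f.fiber y).isBasis_affineOpens).exists_subset_of_mem_open (Set.mem_univ x) isOpen_univ
  have : IsNoetherianRing Γ(f.fiber y, U) := IsLocallyNoetherian.component_noetherian ⟨U, hU⟩
  exact ⟨U, U.isOpen.mem_nhds hxU, noetherianSpace_of_isAffineOpen U hU⟩

/-- connected components of fibres are relatively open. -/
theorem exists_isOpen_connectedComponentIn_fibre (y : Y) (x : X) (hx : x ∈ f.base ⁻¹' {y}) :
    ∃ O : Set X, IsOpen O ∧ connectedComponentIn (f.base ⁻¹' {y}) x = f.base ⁻¹' {y} ∩ O := by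
  haveI := locallyConnectedSpace_fiber f y
  haveI : LocallyConnectedSpace ↥(f.base ⁻¹' {y}) :=
    (f.fiberHomeo y).symm.isOpenEmbedding.locallyConnectedSpace
  have h1 : IsOpen (connectedComponent (⟨x, hx⟩ : ↥(f.base ⁻¹' {y}))) := isOpen_connectedComponent
  obtain ⟨O, hO, hOeq⟩ := isOpen_induced_iff.mp h1
  refine ⟨O, hO, ?_⟩
  rw [connectedComponentIn_eq_image hx, ← hOeq]
  ext t
  simp only [Set.mem_image, Set.mem_preimage, Subtype.exists, exists_and_right, exists_eq_right,
    Set.mem_inter_iff]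
  constructor
  · rintro ⟨ht, htO⟩
    exact ⟨ht, htO⟩
  · rintro ⟨ht, htO⟩
    exact ⟨ht, htO⟩

theorem dim_connectedComponentIn_eq_fibreDimAt' (x : X)
    (hirr : IsIrreducible (connectedComponentIn (f.base ⁻¹' {f.base x}) x)) :
    topologicalKrullDim ↥(connectedComponentIn (f.base ⁻¹' {f.base x}) x) =
      FlatMor.fibreDimAt f x := by
  have hxB : x ∈ f.base ⁻¹' {f.base x} := rfl
  obtain ⟨O, hO, hCO⟩ := exists_isOpen_connectedComponentIn_fibre f (f.base x) x hxB
  have hxC : x ∈ connectedComponentIn (f.base ⁻¹' {f.base x}) x := mem_connectedComponentIn hxB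
  rw [Groth.Agent.Lib.helper5.FibreDimLocal.fibreDimAt_eq_localDim_preimage,
    ← Groth.Agent.Lib.helper5.FibreDimLocal.localDim_eq_of_inter_open _ _ O hO hCO x hxC]
  -- the open subscheme of the fibre
  set F := f.fiber (f.base x) with hF
  set ι := f.fiberι (f.base x) with hι
  let U : F.Opens := ⟨ι.base ⁻¹' O, hO.preimage ι.continuous⟩
  let j : ↥U → X := fun u => ι.base u.1
  have hj : IsEmbedding j := ι.isEmbedding.comp IsEmbedding.subtypeVal
  have hrange : Set.range j = connectedComponentIn (f.base ⁻¹' {f.base x}) x := by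
    rw [hCO]
    ext t
    constructor
    · rintro ⟨u, rfl⟩
      refine ⟨?_, u.2⟩
      have := f.range_fiberι (f.base x)
      rw [← this]
      exact ⟨u.1, rfl⟩
    · rintro ⟨htB, htO⟩
      rw [← f.range_fiberι (f.base x)] at htB
      obtain ⟨z, rfl⟩ := htB
      exact ⟨⟨z, htO⟩, rfl⟩
  let e : ↥U ≃ₜ ↥(connectedComponentIn (f.base ⁻¹' {f.base x}) x) :=
    hj.toHomeomorph.trans (Homeomorph.setCongr hrange)
  haveI : IrreducibleSpace ↥(connectedComponentIn (f.base ⁻¹' {f.base x}) x) :=
    Subtype.irreducibleSpace hirr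
  haveI : IrreducibleSpace ↥U := by
    have h1 : IsIrreducible (e ⁻¹' (Set.univ : Set ↥(connectedComponentIn (f.base ⁻¹' {f.base x}) x))) :=
      (IrreducibleSpace.isIrreducible_univ _).preimage e.isOpenEmbedding
        (by rw [e.range_coe]; simp)
    rw [Set.preimage_univ] at h1
    haveI : PreirreducibleSpace ↥U := ⟨h1.2⟩
    exact { toNonempty := ⟨h1.1.some⟩ }
  haveI : IrreducibleSpace ↥U.toScheme := ‹IrreducibleSpace ↥U›
  letI : U.toScheme.Over (Spec (CommRingCat.of (Y.residueField (f.base x)))) :=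
    ⟨U.ι ≫ f.fiberToSpecResidueField (f.base x)⟩
  haveI : LocallyOfFiniteType (f.fiberToSpecResidueField (f.base x)) :=
    MorphismProperty.pullback_snd (P := @LocallyOfFiniteType) _ _ inferInstance
  haveI : LocallyOfFiniteType (U.toScheme ↘ Spec (CommRingCat.of (Y.residueField (f.base x)))) :=
    (inferInstance : LocallyOfFiniteType (U.ι ≫ f.fiberToSpecResidueField (f.base x)))
  obtain ⟨d, hd1, hd2⟩ := Groth.Agent.Lib.helper3.IrredDim.exists_dim_eq_localDim_of_irreducible
    (Y.residueField (f.base x)) U.toScheme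
  have h1 : topologicalKrullDim ↥(connectedComponentIn (f.base ⁻¹' {f.base x}) x) =
      topologicalKrullDim ↥U := (IsHomeomorph.topologicalKrullDim_eq _ e.isHomeomorph).symm
  have h2 := Groth.Agent.Lib.helper5.FibreDimLocal.localDim_eq_of_isOpenEmbedding e
    e.isOpenEmbedding (e.symm ⟨x, hxC⟩)
  rw [e.apply_symm_apply] at h2
  rw [h1, ← h2]
  exact hd1.trans (hd2 _).symm


omit [LocallyOfFiniteType f] in
/-- generic points of irreducible subsets of a fibre which are closed in the fibre. -/
theorem exists_generic_of_isClosed_in_fibre (y : Y) (Z : Set X) (hZy : Z ⊆ f.base ⁻¹' {y})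
    (hirr : IsIrreducible Z) (hcl : f.base ⁻¹' {y} ∩ closure Z ⊆ Z) :
    ∃ c ∈ Z, Z = closure {c} ∩ f.base ⁻¹' {y} := by
  haveI := quasiSober_fibre f y
  set Z' : Set ↥(f.base ⁻¹' {y}) := Subtype.val ⁻¹' Z with hZ'
  have himg : Subtype.val '' Z' = Z := by
    rw [hZ', Subtype.image_preimage_coe, Set.inter_eq_right.mpr hZy]
  have hZ'irr : IsIrreducible Z' := by
    refine ⟨?_, IsInducing.subtypeVal.isPreirreducible_of_image' ?_⟩
    · obtain ⟨z, hz⟩ := hirr.nonempty
      exact ⟨⟨z, hZy hz⟩, hz⟩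
    · rw [himg]; exact hirr.isPreirreducible
  have hZ'cl : IsClosed Z' := by
    have h1 : Z' = Subtype.val ⁻¹' closure Z := by
      ext t
      constructor
      · intro ht; exact subset_closure ht
      · intro ht; exact hcl ⟨t.2, ht⟩
    rw [h1]
    exact isClosed_closure.preimage continuous_subtype_val
  obtain ⟨c, hc⟩ := QuasiSober.sober hZ'irr hZ'cl
  have hcZ' : c ∈ Z' := by rw [← hc.def]; exact subset_closure rfl
  refine ⟨c.1, hcZ', ?_⟩
  ext t
  constructor
  · intro ht
    have h1 : (⟨t, hZy ht⟩ : ↥(f.base ⁻¹' {y})) ∈ closure {c} := by rw [hc.def]; exact ht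
    rw [← specializes_iff_mem_closure] at h1
    exact ⟨specializes_iff_mem_closure.mp (h1.map continuous_subtype_val), hZy ht⟩
  · rintro ⟨ht1, ht2⟩
    have h1 : c ⤳ (⟨t, ht2⟩ : ↥(f.base ⁻¹' {y})) := by
      rw [subtype_specializes_iff]
      exact specializes_iff_mem_closure.mpr ht1
    have h2 : (⟨t, ht2⟩ : ↥(f.base ⁻¹' {y})) ∈ Z' := by
      rw [← hc.def]; exact specializes_iff_mem_closure.mp h1
    exact h2

/-- Chevalley's semicontinuity along `closure {ζ}`: a specialization `x` of `ζ` has a generization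
`w` in `closure {ζ}`, in the fibre of `x`, with residue transcendence degree at least that of `ζ`. -/
theorem exists_specialization_td_ge (ζ x : X) (hζx : ζ ⤳ x) (n : ℕ)
    (hn : td (f.residueFieldMap ζ).hom = (n : Cardinal.{u})) :
    ∃ (w : X) (N : ℕ), ζ ⤳ w ∧ w ⤳ x ∧ f.base w = f.base x ∧
      td (f.residueFieldMap w).hom = (N : Cardinal.{u}) ∧ n ≤ N := by
  set I := Scheme.IdealSheafData.vanishingIdeal (X := X) ⟨closure {ζ}, isClosed_closure⟩ with hI
  set ι := I.subschemeι with hι
  have hιr : Set.range ι.base = closure {ζ} := by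
    rw [hι, Scheme.IdealSheafData.range_subschemeι, hI,
      Scheme.IdealSheafData.coe_support_vanishingIdeal]
    rfl
  have hemb : IsEmbedding ι.base := ι.isClosedEmbedding.isEmbedding
  obtain ⟨tζ, htζ⟩ : ζ ∈ Set.range ι.base := by rw [hιr]; exact subset_closure rfl
  obtain ⟨tx, htx⟩ : x ∈ Set.range ι.base := by
    rw [hιr]; exact specializes_iff_mem_closure.mp hζx
  -- `tζ` is the generic point of the subscheme
  have hgen : ∀ t : ↥I.subscheme, tζ ⤳ t := by
    intro t
    rw [← hemb.isInducing.specializes_iff, htζ, specializes_iff_mem_closure, ← hιr]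
    exact ⟨t, rfl⟩
  set h := ι ≫ f with hh
  have htdζ : td (h.residueFieldMap tζ).hom = (n : Cardinal.{u}) := by
    rw [hh, EquidimIrr.td_comp_of_surjectiveOnStalks ι f tζ, DimCriteria.td_congr f htζ]
    exact hn
  have hfd : FlatMor.fibreDimAt h tζ = (n : WithBot ℕ∞) :=
    RelDim.fibreDimAt_eq_td_of_forall h tζ
      (fun t' ht' _ => (ht'.antisymm (hgen t')).eq) n htdζ
  have hclosed := Groth.Agent.Lib.helper5.FibreDimGE.isClosed_setOf_le_fibreDimAt h n
  have hmem : tx ∈ {c : ↥I.subscheme | (n : WithBot ℕ∞) ≤ FlatMor.fibreDimAt h c} :=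
    (hgen tx).mem_closed hclosed (by simp only [Set.mem_ofPred_eq]; rw [hfd])
  obtain ⟨z, N, hzx, hfz, -, hN, hNfd⟩ := EquidimIrr.exists_maximal_fibre_point h tx
  simp only [Set.mem_ofPred_eq] at hmem
  rw [hNfd] at hmem
  refine ⟨ι.base z, N, ?_, ?_, ?_, ?_, by exact_mod_cast hmem⟩
  · rw [← htζ]; exact (hgen z).map ι.continuous
  · rw [← htx]; exact hzx.map ι.continuous
  · rw [← htx]
    exact hfz
  · rw [← EquidimIrr.td_comp_of_surjectiveOnStalks ι f z]
    exact hN

omit [LocallyOfFiniteType f] in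
theorem closure_inter_fibre_subset_connectedComponentIn (w x : X) (hwx : w ⤳ x)
    (hfw : f.base w = f.base x) :
    closure {w} ∩ f.base ⁻¹' {f.base x} ⊆ connectedComponentIn (f.base ⁻¹' {f.base x}) x := by
  have hwF : w ∈ f.base ⁻¹' {f.base x} := hfw
  have h1 : _root_.IsPreconnected (closure ({⟨w, hwF⟩} : Set ↥(f.base ⁻¹' {f.base x}))) :=
    isPreconnected_singleton.closure
  have h2 := h1.image Subtype.val continuous_subtype_val.continuousOn
  have h3 : Subtype.val '' closure ({⟨w, hwF⟩} : Set ↥(f.base ⁻¹' {f.base x})) =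
      closure {w} ∩ f.base ⁻¹' {f.base x} := by
    rw [IsInducing.subtypeVal.closure_eq_preimage_closure_image, Set.image_singleton,
      Subtype.image_preimage_coe, Set.inter_comm]
  rw [h3] at h2
  exact h2.subset_connectedComponentIn ⟨specializes_iff_mem_closure.mp hwx, rfl⟩
    Set.inter_subset_right

omit [LocallyOfFiniteType f] in
theorem connectedComponentIn_fibre_isClosed (y : Y) (x : X) (hx : x ∈ f.base ⁻¹' {y}) :
    f.base ⁻¹' {y} ∩ closure (connectedComponentIn (f.base ⁻¹' {y}) x) ⊆
      connectedComponentIn (f.base ⁻¹' {y}) x := by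
  rw [connectedComponentIn_eq_image hx]
  rintro t ⟨htF, htc⟩
  have h1 : (⟨t, htF⟩ : ↥(f.base ⁻¹' {y})) ∈
      closure (connectedComponent (⟨x, hx⟩ : ↥(f.base ⁻¹' {y}))) := by
    rw [IsInducing.subtypeVal.closure_eq_preimage_closure_image]
    exact htc
  rw [isClosed_connectedComponent.closure_eq] at h1
  exact ⟨⟨t, htF⟩, h1, rfl⟩

/-- if `ζ ⤳ x` then the section component of `x` has dimension at least `trdeg κ(ζ)/κ(f ζ)`. -/
theorem td_le_dim_connectedComponentIn (ζ x : X) (hζx : ζ ⤳ x) (n : ℕ)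
    (hn : td (f.residueFieldMap ζ).hom = (n : Cardinal.{u})) :
    (n : WithBot ℕ∞) ≤
      topologicalKrullDim ↥(connectedComponentIn (f.base ⁻¹' {f.base x}) x) := by
  obtain ⟨w, N, hζw, hwx, hfw, hN, hnN⟩ := exists_specialization_td_ge f ζ x hζx n hn
  have h1 := closure_inter_fibre_subset_connectedComponentIn f w x hwx hfw
  have h2 := JacDim.dim_le_of_subset h1
  have h3 := DimCriteria.dim_closure_inter_fibre f w N hN
  rw [hfw] at h3
  rw [h3] at h2
  refine le_trans ?_ h2
  exact_mod_cast hnN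

/-- if moreover the section component of `x` is irreducible of dimension at most `trdeg κ(ζ)/κ(f ζ)`,
it is contained in the closure of `ζ`. -/
theorem connectedComponentIn_subset_closure (ζ x : X) (hζx : ζ ⤳ x) (n : ℕ)
    (hn : td (f.residueFieldMap ζ).hom = (n : Cardinal.{u}))
    (hirr : IsIrreducible (connectedComponentIn (f.base ⁻¹' {f.base x}) x))
    (hdim : topologicalKrullDim ↥(connectedComponentIn (f.base ⁻¹' {f.base x}) x) ≤
      (n : WithBot ℕ∞)) :
    connectedComponentIn (f.base ⁻¹' {f.base x}) x ⊆ closure {ζ} := by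
  obtain ⟨w, N, hζw, hwx, hfw, hN, hnN⟩ := exists_specialization_td_ge f ζ x hζx n hn
  have hwC := closure_inter_fibre_subset_connectedComponentIn f w x hwx hfw
    ⟨subset_closure rfl, hfw⟩
  obtain ⟨c, hcC, hCeq⟩ := exists_generic_of_isClosed_in_fibre f (f.base x) _
    (connectedComponentIn_subset _ _) hirr (connectedComponentIn_fibre_isClosed f _ x rfl)
  have hfc : f.base c = f.base x :=
    connectedComponentIn_subset (f.base ⁻¹' {f.base x}) x hcC
  obtain ⟨m, hm⟩ := exists_nat_td_residueFieldMap f c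
  have h3 := DimCriteria.dim_closure_inter_fibre f c m hm
  rw [hfc, ← hCeq] at h3
  rw [h3] at hdim
  have hmn : m ≤ n := by exact_mod_cast hdim
  have hcw : c ⤳ w := by
    rw [hCeq] at hwC
    exact specializes_iff_mem_closure.mpr hwC.1
  have hcw_eq : c = w := by
    by_contra hne
    have h4 := td_lt_of_specializes_of_ne f w c hcw (hfc.trans hfw.symm) hne
    rw [hN, hm] at h4
    have : N < m := by exact_mod_cast h4
    omega
  rw [hCeq]
  intro t ht
  rw [hcw_eq] at ht
  exact (hζw.trans (specializes_iff_mem_closure.mpr ht.1)).mem_closed isClosed_closure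
    (subset_closure rfl)

/-- the common core of S3419 (2) and S4952: `Z` irreducible and closed in the fibre over `y'`, containing
`g y'`, for a section `g`; `y' ⤳ y`. -/
theorem core_section (g : Y ⟶ X) (hg : g ≫ f = 𝟙 Y) (y y' : Y) (hy : y' ⤳ y) (Z : Set X)
    (hZF : Z ⊆ f.base ⁻¹' {y'}) (hZirr : IsIrreducible Z)
    (hZcl : f.base ⁻¹' {y'} ∩ closure Z ⊆ Z) (hgZ : g.base y' ∈ Z) :
    topologicalKrullDim ↥Z ≤
        topologicalKrullDim ↥(connectedComponentIn (f.base ⁻¹' {y}) (g.base y)) ∧
      (IsIrreducible (connectedComponentIn (f.base ⁻¹' {y}) (g.base y)) →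
        topologicalKrullDim ↥(connectedComponentIn (f.base ⁻¹' {y}) (g.base y)) ≤
          topologicalKrullDim ↥Z →
        connectedComponentIn (f.base ⁻¹' {y}) (g.base y) ⊆ closure Z) := by
  have hfg : ∀ y : Y, f.base (g.base y) = y := fun y => by
    rw [← Scheme.Hom.comp_apply, hg]; rfl
  obtain ⟨ζ, hζZ, hZeq⟩ := exists_generic_of_isClosed_in_fibre f y' Z hZF hZirr hZcl
  have hfζ : f.base ζ = y' := hZF hζZ
  obtain ⟨n, hn⟩ := exists_nat_td_residueFieldMap f ζ
  have hdimZ : topologicalKrullDim ↥Z = (n : WithBot ℕ∞) := by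
    have h3 := DimCriteria.dim_closure_inter_fibre f ζ n hn
    rw [hfζ, ← hZeq] at h3
    exact h3
  have hζg : ζ ⤳ g.base y := by
    have h1 : ζ ⤳ g.base y' := by
      rw [hZeq] at hgZ
      exact specializes_iff_mem_closure.mpr hgZ.1
    exact h1.trans (hy.map g.continuous)
  have hset : f.base ⁻¹' {y} = f.base ⁻¹' {f.base (g.base y)} := by rw [hfg y]
  rw [hset, hdimZ]
  refine ⟨td_le_dim_connectedComponentIn f ζ (g.base y) hζg n hn, ?_⟩
  intro hirr hdim
  exact (connectedComponentIn_subset_closure f ζ (g.base y) hζg n hn hirr hdim).trans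
    (closure_mono (Set.singleton_subset_iff.mpr hζZ))

/-- **S3419**. -/
theorem main_S3419 (g : Y ⟶ X) (hg : g ≫ f = 𝟙 Y)
    (hirr : ∀ y : Y, IsIrreducible (connectedComponentIn (f.base ⁻¹' {y}) (g.base y))) :
    UpperSemicontinuous (fun y : Y => topologicalKrullDim ↥(connectedComponentIn (f.base ⁻¹' {y}) (g.base y))) ∧
      ∀ y : Y, (∃ V ∈ nhds y, ∀ z ∈ V, topologicalKrullDim ↥(connectedComponentIn (f.base ⁻¹' {z}) (g.base z)) = topologicalKrullDim ↥(connectedComponentIn (f.base ⁻¹' {y}) (g.base y))) →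
        ∀ y' : Y, y' ⤳ y → connectedComponentIn (f.base ⁻¹' {y}) (g.base y) ⊆ closure (connectedComponentIn (f.base ⁻¹' {y'}) (g.base y')) := by
  have hfg : ∀ y : Y, f.base (g.base y) = y := fun y => by
    rw [← Scheme.Hom.comp_apply, hg]; rfl
  constructor
  · have key : (fun y : Y => topologicalKrullDim ↥(connectedComponentIn (f.base ⁻¹' {y}) (g.base y))) =
        fun y => FlatMor.fibreDimAt f (g.base y) := by
      funext y
      have hset : f.base ⁻¹' {y} = f.base ⁻¹' {f.base (g.base y)} := by rw [hfg y]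
      have h1 := hirr y
      rw [hset] at h1 ⊢
      exact dim_connectedComponentIn_eq_fibreDimAt' f (g.base y) h1
    rw [key, upperSemicontinuous_iff_isOpen_preimage]
    intro c
    induction c using WithBot.recBotCoe with
    | bot =>
      convert isOpen_empty
      ext y
      simp
    | coe c =>
      induction c using ENat.recTopCoe with
      | top =>
        convert isOpen_univ
        ext y
        simp only [Set.mem_preimage, Set.mem_Iio, Set.mem_univ, iff_true]
        exact fibreDimAt_lt_top f (g.base y)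
      | coe n =>
        have h1 := Groth.Agent.Lib.helper5.FibreDimGE.isClosed_setOf_le_fibreDimAt f n
        have h2 : (fun y => FlatMor.fibreDimAt f (g.base y)) ⁻¹' Set.Iio ((n : ℕ∞) : WithBot ℕ∞) =
            g.base ⁻¹' {c : X | ((n : ℕ) : WithBot ℕ∞) ≤ FlatMor.fibreDimAt f c}ᶜ := by
          ext y
          simp only [Set.mem_preimage, Set.mem_Iio, Set.mem_compl_iff, Set.mem_ofPred_eq, not_le]
          rfl
        rw [h2]
        exact h1.isOpen_compl.preimage g.continuous
  · rintro y ⟨V, hV, hVeq⟩ y' hy'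
    have hy'V : y' ∈ V := mem_of_mem_nhds (hy' hV)
    have hgF : g.base y' ∈ f.base ⁻¹' {y'} := hfg y'
    have h := core_section f g hg y y' hy' (connectedComponentIn (f.base ⁻¹' {y'}) (g.base y'))
      (connectedComponentIn_subset _ _) (hirr y')
      (connectedComponentIn_fibre_isClosed f y' (g.base y') hgF)
      (mem_connectedComponentIn hgF)
    exact h.2 (hirr y) (le_of_eq (hVeq y' hy'V).symm)

/-- **S4952**. -/
theorem main_S4952 (g : Y ⟶ X) (hg : g ≫ f = 𝟙 Y) (y y' : Y) (hy : y' ⤳ y)
    (hZ : ∃ Z : Set X, Z ⊆ f.base ⁻¹' {y'} ∧ IsIrreducible Z ∧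
      (∀ Z' : Set X, IsIrreducible Z' → Z' ⊆ f.base ⁻¹' {y'} → Z ⊆ Z' → Z' = Z) ∧ g.base y' ∈ Z ∧
      topologicalKrullDim ↥Z = topologicalKrullDim ↥(connectedComponentIn (f.base ⁻¹' {y'}) (g.base y'))) :
    topologicalKrullDim ↥(connectedComponentIn (f.base ⁻¹' {y'}) (g.base y')) ≤ topologicalKrullDim ↥(connectedComponentIn (f.base ⁻¹' {y}) (g.base y)) ∧
      (IsIrreducible (connectedComponentIn (f.base ⁻¹' {y}) (g.base y)) → topologicalKrullDim ↥(connectedComponentIn (f.base ⁻¹' {y}) (g.base y)) = topologicalKrullDim ↥(connectedComponentIn (f.base ⁻¹' {y'}) (g.base y')) →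
        connectedComponentIn (f.base ⁻¹' {y}) (g.base y) ⊆ closure (connectedComponentIn (f.base ⁻¹' {y'}) (g.base y'))) := by
  obtain ⟨Z, hZF, hZirr, hZmax, hgZ, hZdim⟩ := hZ
  -- `Z` is closed in the fibre
  have hZcl : f.base ⁻¹' {y'} ∩ closure Z ⊆ Z := by
    set Z' : Set ↥(f.base ⁻¹' {y'}) := Subtype.val ⁻¹' Z with hZ'
    have himg : Subtype.val '' Z' = Z := by
      rw [hZ', Subtype.image_preimage_coe, Set.inter_eq_right.mpr hZF]
    have hZ'irr : IsIrreducible Z' := by
      refine ⟨?_, IsInducing.subtypeVal.isPreirreducible_of_image' ?_⟩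
      · obtain ⟨z, hz⟩ := hZirr.nonempty
        exact ⟨⟨z, hZF hz⟩, hz⟩
      · rw [himg]; exact hZirr.isPreirreducible
    have h1 : IsIrreducible (Subtype.val '' closure Z') :=
      hZ'irr.closure.image _ continuous_subtype_val.continuousOn
    have h2 : Subtype.val '' closure Z' = f.base ⁻¹' {y'} ∩ closure Z := by
      rw [IsInducing.subtypeVal.closure_eq_preimage_closure_image, himg,
        Subtype.image_preimage_coe]
    rw [h2] at h1
    have h3 := hZmax _ h1 Set.inter_subset_left (fun z hz => ⟨hZF hz, subset_closure hz⟩)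
    rw [h3]
  have hZcc : Z ⊆ connectedComponentIn (f.base ⁻¹' {y'}) (g.base y') :=
    hZirr.isPreirreducible.isPreconnected.subset_connectedComponentIn hgZ hZF
  have h := core_section f g hg y y' hy Z hZF hZirr hZcl hgZ
  rw [hZdim] at h
  refine ⟨h.1, fun hirr hdim => (h.2 hirr (le_of_eq hdim)).trans (closure_mono hZcc)⟩

end

end Groth.Agent.Lib.helper3.SecCompDim
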