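/-
helper3: a morphism whose base changes to the affine spaces `𝔸ⁿ_S` (`n > 0`) are open maps is
universally open (EGA IV 14.3.x / Stacks 0F32-type).  Adapted from helper13's universally closed
analogue `UCA1`–`UCA4`.
-/
import Mathlib
import Groth.Agent.Lib.Helper13.UCA3
import Groth.Agent.Lib.Helper9.StageSquares

set_option autoImplicit false

namespace Groth.Agent.Lib.helper3.UOA

universe u

open AlgebraicGeometry CategoryTheory Limits MorphismProperty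
open Groth.Agent.Lib.helper13.UCA

/-- In a pullback square of schemes, the image of a preimage is the preimage of the image. -/
theorem image_preimage_of_isPullback {P X Y Z : Scheme.{u}} {fst : P ⟶ X} {snd : P ⟶ Y}
    {f : X ⟶ Z} {g : Y ⟶ Z} (sq : IsPullback fst snd f g) (W : Set X) :
    snd.base '' (fst.base ⁻¹' W) = g.base ⁻¹' (f.base '' W) := by
  ext y
  constructor
  · rintro ⟨p, hp, rfl⟩
    exact ⟨fst.base p, hp, congrArg (fun φ : P ⟶ Z => φ.base p) sq.w⟩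
  · rintro ⟨x, hx, hxy⟩
    obtain ⟨p, hp1, hp2⟩ := Groth.Agent.Lib.helper9.exists_preimage_of_isPullback sq x y hxy
    exact ⟨p, by rw [Set.mem_preimage, hp1]; exact hx, hp2⟩

variable {X S T : Scheme.{u}}

theorem isOpenMap_snd_of_affineSpace (f : X ⟶ S) (g : T ⟶ S) [IsAffine T]
    {US : S.Opens} (hUS : IsAffineOpen US) (hg : ⊤ ≤ g ⁻¹ᵁ US)
    (H : ∀ n : ℕ, 0 < n → IsOpenMap (pullback.snd f (𝔸(ULift.{u} (Fin n); S) ↘ S))) :
    IsOpenMap (pullback.snd f g) := by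
  classical
  have Hpb : IsPullback (pullback.fst f g) (pullback.snd f g) f g := IsPullback.of_hasPullback f g
  have hUT : IsAffineOpen (⊤ : T.Opens) := isAffineOpen_top T
  intro W hW
  rw [isOpen_iff_forall_mem_open]
  rintro t ⟨z, hzW, rfl⟩
  have hfz : pullback.fst f g z ∈ f ⁻¹ᵁ US := by
    show f (pullback.fst f g z) ∈ US
    rw [← Scheme.Hom.comp_apply, pullback.condition, Scheme.Hom.comp_apply]
    exact hg trivial
  obtain ⟨UX, hUX, hzUX, hUXS⟩ := exists_isAffineOpen_mem_and_subset (X := X)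
    (x := pullback.fst f g z) (U := f ⁻¹ᵁ US) hfz
  obtain ⟨UY, hUYdef⟩ : ∃ UY : (pullback f g).Opens,
      UY = pullback.fst f g ⁻¹ᵁ UX ⊓ pullback.snd f g ⁻¹ᵁ ⊤ := ⟨_, rfl⟩
  have hUY : IsAffineOpen UY := by
    have : IsAffine _ := hUS
    have : IsAffine _ := hUT
    have : IsAffine _ := hUX
    exact .of_isIso (Scheme.Hom.isPullback_resLE Hpb hg hUXS hUYdef).isoPullback.hom
  have hpush := (isIso_pushoutSection_iff Hpb hg hUXS hUYdef).mp
    (isIso_pushoutSection_of_isAffineOpen Hpb hg hUXS hUYdef hUS hUT hUX)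
  have hgen := closure_eq_top_of_isPushout hpush
  have hαle : UY ≤ pullback.fst f g ⁻¹ᵁ UX := by rw [hUYdef]; exact inf_le_left
  have hβle : UY ≤ pullback.snd f g ⁻¹ᵁ ⊤ := by rw [hUYdef]; exact inf_le_right
  have hzUY : z ∈ UY := by
    rw [hUYdef]
    exact ⟨hzUX, trivial⟩
  obtain ⟨h, hhW, hzh⟩ := hUY.exists_basicOpen_le (V := ⟨W, hW⟩) ⟨z, hzW⟩ hzUY
  obtain ⟨F, hF⟩ := exists_finset_lift ((pullback.fst f g).appLE UX UY hαle).hom
    ((pullback.snd f g).appLE ⊤ UY hβle).hom hgen h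
  obtain ⟨Ftot, hFtot⟩ : ∃ Ftot : Finset Γ(T, ⊤), Ftot = insert 0 F := ⟨_, rfl⟩
  obtain ⟨n, hn⟩ : ∃ n : ℕ, n = Ftot.card := ⟨_, rfl⟩
  have hnpos : 0 < n := by
    rw [hn, hFtot]
    exact Finset.card_pos.mpr ⟨0, Finset.mem_insert_self _ _⟩
  have e : Fin n ≃ Ftot := hn ▸ Ftot.equivFin.symm
  obtain ⟨v, hv⟩ : ∃ v : ULift.{u} (Fin n) → Γ(T, ⊤), v = fun k => (e k.down).1 := ⟨_, rfl⟩
  obtain ⟨ψ, hψdef⟩ : ∃ ψ : T ⟶ 𝔸(ULift.{u} (Fin n); S), ψ = AffineSpace.homOfVector g v :=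
    ⟨_, rfl⟩
  have hψ : ψ ≫ (𝔸(ULift.{u} (Fin n); S) ↘ S) = g := by
    rw [hψdef]; exact AffineSpace.homOfVector_over g v
  obtain ⟨UP, hUPdef⟩ : ∃ UP : (𝔸(ULift.{u} (Fin n); S)).Opens,
      UP = (𝔸(ULift.{u} (Fin n); S) ↘ S) ⁻¹ᵁ US := ⟨_, rfl⟩
  have hUP : ⊤ ≤ ψ ⁻¹ᵁ UP := by
    intro w _
    rw [hUPdef]
    show (𝔸(ULift.{u} (Fin n); S) ↘ S) (ψ w) ∈ US
    rw [← Scheme.Hom.comp_apply, hψ]
    exact hg trivial
  have hrange : (↑F : Set Γ(T, ⊤)) ⊆ Set.range (ψ.appLE UP ⊤ hUP).hom := by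
    intro b hb
    have hbtot : b ∈ Ftot := by
      rw [hFtot]
      exact Finset.mem_insert_of_mem hb
    refine ⟨(𝔸(ULift.{u} (Fin n); S)).presheaf.map (homOfLE le_top).op
      (AffineSpace.coord S ⟨e.symm ⟨b, hbtot⟩⟩), ?_⟩
    have h1 := Scheme.Hom.map_appLE ψ (U := UP) (V := ⊤) (U' := ⊤) hUP (homOfLE le_top).op
    have h2 := congrArg (fun k => k.hom (AffineSpace.coord S ⟨e.symm ⟨b, hbtot⟩⟩)) h1
    simp only [CommRingCat.hom_comp, RingHom.comp_apply] at h2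
    rw [h2]
    have h3 : (ψ.appLE ⊤ ⊤ (hUP.trans ((TopologicalSpace.Opens.map ψ.base).map
        (homOfLE (le_top : UP ≤ ⊤)).op.unop).le)) = ψ.appTop := by
      rw [Scheme.Hom.appTop, Scheme.Hom.app_eq_appLE]
      rfl
    rw [h3, hψdef, AffineSpace.homOfVector_appTop_coord, hv]
    simp
  obtain ⟨Φ, hΦ⟩ : ∃ Φ : pullback f g ⟶ pullback f (𝔸(ULift.{u} (Fin n); S) ↘ S),
      Φ = pullback.lift (pullback.fst f g) (pullback.snd f g ≫ ψ)
        (by rw [Category.assoc, hψ, pullback.condition]) := ⟨_, rfl⟩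
  have hΦ1 : Φ ≫ pullback.fst f (𝔸(ULift.{u} (Fin n); S) ↘ S) = pullback.fst f g := by
    rw [hΦ, pullback.lift_fst]
  have hΦ2 : Φ ≫ pullback.snd f (𝔸(ULift.{u} (Fin n); S) ↘ S) = pullback.snd f g ≫ ψ := by
    rw [hΦ, pullback.lift_snd]
  obtain ⟨UY', hUY'def⟩ : ∃ UY' : (pullback f (𝔸(ULift.{u} (Fin n); S) ↘ S)).Opens,
      UY' = pullback.fst f (𝔸(ULift.{u} (Fin n); S) ↘ S) ⁻¹ᵁ UX ⊓
        pullback.snd f (𝔸(ULift.{u} (Fin n); S) ↘ S) ⁻¹ᵁ UP := ⟨_, rfl⟩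
  have hα'le : UY' ≤ pullback.fst f (𝔸(ULift.{u} (Fin n); S) ↘ S) ⁻¹ᵁ UX := by
    rw [hUY'def]; exact inf_le_left
  have hγle : UY' ≤ pullback.snd f (𝔸(ULift.{u} (Fin n); S) ↘ S) ⁻¹ᵁ UP := by
    rw [hUY'def]; exact inf_le_right
  have hΦle : UY ≤ Φ ⁻¹ᵁ UY' := by
    intro z hz
    rw [hUY'def]
    refine ⟨?_, ?_⟩
    · show pullback.fst f (𝔸(ULift.{u} (Fin n); S) ↘ S) (Φ z) ∈ UX
      rw [← Scheme.Hom.comp_apply, hΦ1]
      exact hαle hz
    · show pullback.snd f (𝔸(ULift.{u} (Fin n); S) ↘ S) (Φ z) ∈ UP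
      rw [← Scheme.Hom.comp_apply, hΦ2, Scheme.Hom.comp_apply]
      exact hUP trivial
  have h1 : ((Φ.appLE UY' UY hΦle).hom).comp
      ((pullback.snd f (𝔸(ULift.{u} (Fin n); S) ↘ S)).appLE UP UY' hγle).hom =
      (((pullback.snd f g).appLE ⊤ UY hβle).hom).comp (ψ.appLE UP ⊤ hUP).hom := by
    rw [← CommRingCat.hom_comp, ← CommRingCat.hom_comp, Scheme.Hom.appLE_comp_appLE,
      Scheme.Hom.appLE_comp_appLE]
    simp only [hΦ2]
  have h2 : ((Φ.appLE UY' UY hΦle).hom).comp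
      ((pullback.fst f (𝔸(ULift.{u} (Fin n); S) ↘ S)).appLE UX UY' hα'le).hom =
      ((pullback.fst f g).appLE UX UY hαle).hom := by
    rw [← CommRingCat.hom_comp, Scheme.Hom.appLE_comp_appLE]
    simp only [hΦ1]
  obtain ⟨h', hh'⟩ := hF Γ(𝔸(ULift.{u} (Fin n); S), UP)
    Γ(pullback f (𝔸(ULift.{u} (Fin n); S) ↘ S), UY') (ψ.appLE UP ⊤ hUP).hom
    ((pullback.snd f (𝔸(ULift.{u} (Fin n); S) ↘ S)).appLE UP UY' hγle).hom
    (Φ.appLE UY' UY hΦle).hom
    ((pullback.fst f (𝔸(ULift.{u} (Fin n); S) ↘ S)).appLE UX UY' hα'le).hom h1 h2 hrange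
  have hbasic : (pullback f g).basicOpen h =
      UY ⊓ Φ ⁻¹ᵁ ((pullback f (𝔸(ULift.{u} (Fin n); S) ↘ S)).basicOpen h') := by
    rw [← hh']
    exact Scheme.basicOpen_appLE _ _ _ _ _
  have sqΦ : IsPullback Φ (pullback.snd f g) (pullback.snd f (𝔸(ULift.{u} (Fin n); S) ↘ S)) ψ := by
    refine IsPullback.of_right ?_ hΦ2 (IsPullback.of_hasPullback f _)
    rw [hΦ1, hψ]
    exact Hpb
  have himg := image_preimage_of_isPullback sqΦ
    ((pullback f (𝔸(ULift.{u} (Fin n); S) ↘ S)).basicOpen h' : Set _)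
  refine ⟨ψ.base ⁻¹' ((pullback.snd f (𝔸(ULift.{u} (Fin n); S) ↘ S)).base ''
    ((pullback f (𝔸(ULift.{u} (Fin n); S) ↘ S)).basicOpen h' : Set _)), ?_, ?_, ?_⟩
  · rw [← himg]
    rintro _ ⟨p, hp, rfl⟩
    refine ⟨p, ?_, rfl⟩
    have hpUY : p ∈ UY := by
      rw [hUYdef]
      refine ⟨?_, trivial⟩
      show pullback.fst f g p ∈ UX
      rw [← hΦ1, Scheme.Hom.comp_apply]
      exact hα'le ((pullback f (𝔸(ULift.{u} (Fin n); S) ↘ S)).basicOpen_le h' hp)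
    have : p ∈ (pullback f g).basicOpen h := by
      rw [hbasic]
      exact ⟨hpUY, hp⟩
    exact hhW this
  · exact ((H n hnpos) _ ((pullback f (𝔸(ULift.{u} (Fin n); S) ↘ S)).basicOpen h').isOpen).preimage
      ψ.continuous
  · rw [← himg]
    refine ⟨z, ?_, rfl⟩
    have : z ∈ UY ⊓ Φ ⁻¹ᵁ ((pullback f (𝔸(ULift.{u} (Fin n); S) ↘ S)).basicOpen h') := by
      rw [← hbasic]; exact hzh
    exact this.2

/-- A morphism whose base changes to the affine spaces `𝔸ⁿ_S`, `n > 0`, are open maps is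
universally open. -/
theorem universallyOpen_of_affineSpace (f : X ⟶ S)
    (H : ∀ n : ℕ, 0 < n → IsOpenMap (pullback.snd f (𝔸(ULift.{u} (Fin n); S) ↘ S))) :
    UniversallyOpen f := by
  rw [UniversallyOpen.eq]
  refine universally_mk' _ _ fun {T} g _ => ?_
  wlog hT : IsAffine T ∧ ∃ US : S.Opens, IsAffineOpen US ∧ ⊤ ≤ g ⁻¹ᵁ US generalizing T
  · have h1 : ∀ t : T, ∃ US : S.Opens, IsAffineOpen US ∧ g t ∈ US := fun t => by
      obtain ⟨US, hUS, hmem, -⟩ := exists_isAffineOpen_mem_and_subset (X := S) (x := g t)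
        (U := ⊤) trivial
      exact ⟨US, hUS, hmem⟩
    choose US hUS hUSmem using h1
    have h2 : ∀ t : T, ∃ UT : T.Opens, IsAffineOpen UT ∧ t ∈ UT ∧ UT ≤ g ⁻¹ᵁ (US t) := fun t => by
      obtain ⟨UT, hUT, hmem, hle⟩ := exists_isAffineOpen_mem_and_subset (X := T) (x := t)
        (U := g ⁻¹ᵁ (US t)) (hUSmem t)
      exact ⟨UT, hUT, hmem, hle⟩
    choose UT hUT hUTmem hUTle using h2
    let 𝒰 : T.OpenCover := T.openCoverOfIsOpenCover UT (TopologicalSpace.IsOpenCover.mk (by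
      rw [eq_top_iff]
      intro t _
      exact TopologicalSpace.Opens.mem_iSup.mpr ⟨t, hUTmem t⟩))
    refine (IsZariskiLocalAtTarget.iff_of_openCover 𝒰).mpr fun t ↦ ?_
    refine (MorphismProperty.cancel_left_of_respectsIso _
      ((pullbackRightPullbackFstIso ..).inv ≫ (pullbackSymmetry ..).hom) _).mp ?_
    have hle : (⊤ : (𝒰.X t).Opens) ≤ (𝒰.f t ≫ g) ⁻¹ᵁ (US t) := by
      intro w _
      show g ((UT t).ι w) ∈ US t
      exact hUTle t w.2
    have hthis := this (𝒰.f t ≫ g) inferInstance ⟨hUT t, US t, hUS t, hle⟩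
    simpa [Scheme.Cover.pullbackHom] using! hthis
  obtain ⟨hTaff, US, hUS, hg⟩ := hT
  show IsOpenMap (pullback.fst g f)
  rw [← pullbackSymmetry_hom_comp_snd, Scheme.Hom.comp_base, TopCat.coe_comp]
  exact (isOpenMap_snd_of_affineSpace f g hUS hg H).comp
    (pullbackSymmetry g f).hom.homeomorph.isOpenMap

/-- Statement S1373. -/
theorem universallyOpen_iff_isOpenMap_affineSpace_map (f : X ⟶ S) :
    UniversallyOpen f ↔ ∀ n : ℕ, IsOpenMap ⇑(AffineSpace.map (ULift.{u} (Fin n)) f) := by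
  constructor
  · intro hf n
    haveI : UniversallyOpen (AffineSpace.map (ULift.{u} (Fin n)) f) :=
      MorphismProperty.of_isPullback (P := @UniversallyOpen)
        (AffineSpace.isPullback_map (n := ULift.{u} (Fin n)) f).flip hf
    exact (AffineSpace.map (ULift.{u} (Fin n)) f).isOpenMap
  · intro H
    apply universallyOpen_of_affineSpace
    intro n _
    have sq := (AffineSpace.isPullback_map (n := ULift.{u} (Fin n)) f).flip
    have h1 : sq.isoPullback.hom ≫ pullback.snd f (𝔸(ULift.{u} (Fin n); S) ↘ S) =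
        AffineSpace.map (ULift.{u} (Fin n)) f := sq.isoPullback_hom_snd
    have h2 : pullback.snd f (𝔸(ULift.{u} (Fin n); S) ↘ S) =
        sq.isoPullback.inv ≫ AffineSpace.map (ULift.{u} (Fin n)) f :=
      (Iso.eq_inv_comp _).mpr h1
    rw [h2, Scheme.Hom.comp_base, TopCat.coe_comp]
    exact (H n).comp sq.isoPullback.inv.homeomorph.isOpenMap

end Groth.Agent.Lib.helper3.UOA
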