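import Mathlib
import Groth.Agent.S2493
import Groth.Agent.S2494
import Groth.Agent.Lib.Helper17.FlatOver6
import Groth.Agent.Lib.Helper17.StalkPullback
import Groth.Agent.Lib.Helper16.QCohPullback2
import Groth.Agent.Lib.Helper3.UnivOpenAffineSpace

/-!
# Quasi-flat morphisms: base change, universal openness (helper3)

* `nontrivial_tensor_of_isLocalHom`
* `isQuasiFlat_of_isPullback`: quasi-flatness is stable under base change
* `universallyOpen_of_isQuasiFlat` (= S3429, EGA IV 2.4.6-type)
* `isDominant_snd_of_isQuasiFlat` (= S4632), `preimage_closure_image_of_saturated` (= S4634)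
-/

set_option autoImplicit false
universe u
open CategoryTheory AlgebraicGeometry CategoryTheory.Limits TopologicalSpace Topology Function
open TensorProduct

namespace Groth.Agent.Lib.helper3.QuasiFlatBC

/-- base change of a nonzero finite module along a local homomorphism of local rings is nonzero -/
theorem nontrivial_tensor_of_isLocalHom {A B M : Type u} [CommRing A] [CommRing B] [IsLocalRing A]
    [IsLocalRing B] [Algebra A B] [IsLocalHom (algebraMap A B)] [AddCommGroup M] [Module A M]
    [Module.Finite A M] [Nontrivial M] : Nontrivial (B ⊗[A] M) := by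
  by_contra hne
  rw [not_nontrivial_iff_subsingleton] at hne
  -- `k_A ⊗ M` is nontrivial
  have h1 : Nontrivial (IsLocalRing.ResidueField A ⊗[A] M) := by
    by_contra h
    rw [not_nontrivial_iff_subsingleton, IsLocalRing.subsingleton_tensorProduct] at h
    exact not_subsingleton M h
  -- `k_B ⊗_{k_A} (k_A ⊗ M)` is nontrivial
  haveI : Module.Free (IsLocalRing.ResidueField A) (IsLocalRing.ResidueField B) :=
    Module.Free.of_divisionRing _ _
  have h2 : Nontrivial (IsLocalRing.ResidueField B ⊗[IsLocalRing.ResidueField A]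
      (IsLocalRing.ResidueField A ⊗[A] M)) :=
    Module.FaithfullyFlat.rTensor_nontrivial _ _ _
  -- cancel
  have e1 := TensorProduct.AlgebraTensorModule.cancelBaseChange A (IsLocalRing.ResidueField A)
    (IsLocalRing.ResidueField A) (IsLocalRing.ResidueField B) M
  have h3 : Nontrivial (IsLocalRing.ResidueField B ⊗[A] M) := e1.symm.toEquiv.nontrivial
  have e2 := TensorProduct.AlgebraTensorModule.cancelBaseChange A B B
    (IsLocalRing.ResidueField B) M
  haveI : Subsingleton (IsLocalRing.ResidueField B ⊗[B] (B ⊗[A] M)) := inferInstance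
  exact not_subsingleton _ (e2.symm.toEquiv.subsingleton)

variable {X S X' S' : Scheme.{u}} {f : X ⟶ S} {f' : X' ⟶ S'} {g' : X' ⟶ X} {g : S' ⟶ S}

/-- quasi-flatness is stable under base change. -/
theorem isQuasiFlat_of_isPullback (hc : IsPullback g' f' f g) (hf : FDesc.IsQuasiFlat f) :
    FDesc.IsQuasiFlat f' := by
  obtain ⟨M, hM, hflat, hnt⟩ := hf
  haveI : M.IsQuasicoherent := hM.1
  refine ⟨(Scheme.Modules.pullback g').obj M,
    ⟨Groth.Agent.Lib.helper16.QCohPullback.isQuasicoherent_pullback g' M,
      Groth.Agent.Lib.helper16.QCohPullback2.isFiniteType_pullback g' M hM.2⟩, ?_, ?_⟩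
  · intro x'
    exact (Groth.Agent.Lib.helper17.FlatOver6.isFlatOverAt_baseChange_both hc M x').1
      (hflat (g'.base x'))
  · intro x'
    obtain ⟨ψ, hψ⟩ :=
      Groth.Agent.Lib.helper17.StalkPullback.exists_isBaseChange_stalk_pullback g' M x'
    letI : Algebra (X.presheaf.stalk (g'.base x')) (X'.presheaf.stalk x') :=
      (g'.stalkMap x').hom.toAlgebra
    letI := FlatMod.moduleStalkOver g' ((Scheme.Modules.pullback g').obj M) x'
    haveI := Groth.Agent.Lib.helper17.StalkPullback.isScalarTower_moduleStalkOver g'
      ((Scheme.Modules.pullback g').obj M) x'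
    haveI : IsLocalHom (algebraMap (X.presheaf.stalk (g'.base x')) (X'.presheaf.stalk x')) :=
      inferInstanceAs (IsLocalHom (g'.stalkMap x').hom)
    haveI : Module.Finite (X.presheaf.stalk (g'.base x')) (M.presheaf.stalk (g'.base x')) :=
      Groth.Agent.Lib.helper16.CohStalk.finite_stalk_of_isCoh M hM (g'.base x')
    haveI := hnt (g'.base x')
    haveI := nontrivial_tensor_of_isLocalHom (A := X.presheaf.stalk (g'.base x'))
      (B := X'.presheaf.stalk x') (M := M.presheaf.stalk (g'.base x'))
    exact hψ.equiv.symm.toEquiv.nontrivial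

/-- Statement S3429: a quasi-flat morphism locally of finite presentation is universally open. -/
theorem universallyOpen_of_isQuasiFlat {X Y : Scheme.{u}} (f : X ⟶ Y)
    (hf : FDesc.IsQuasiFlat f) [LocallyOfFinitePresentation f] : UniversallyOpen f := by
  apply Groth.Agent.Lib.helper3.UOA.universallyOpen_of_affineSpace
  intro n _
  apply isOpenMap_of_generalizingMap
  exact Groth.Agent.S2493.result _ (isQuasiFlat_of_isPullback (IsPullback.of_hasPullback f _) hf)

/-- Statement S4632. -/
theorem isDominant_snd_of_isQuasiFlat {X Y Y' : Scheme.{u}} (f : X ⟶ Y) (g : Y' ⟶ Y)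
    [QuasiCompact f] [IsDominant f] (hg : FDesc.IsQuasiFlat g) : IsDominant (pullback.snd f g) := by
  constructor
  rw [DenseRange, dense_iff_closure_eq, Scheme.Pullback.range_snd,
    ← Groth.Agent.S2494.result g hg f, f.denseRange.closure_range, Set.preimage_univ]

/-- Statement S4634. -/
theorem preimage_closure_image_of_saturated {X Y : Scheme.{u}} (f : X ⟶ Y)
    (hf : FDesc.IsQuasiFlat f) [QuasiCompact f] (F : Set ↥X) (hF : IsClosed F)
    (hsat : f.base ⁻¹' (f.base '' F) = F) : f.base ⁻¹' closure (f.base '' F) = F := by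
  obtain ⟨W, hW⟩ : ∃ W : TopologicalSpace.Closeds ↥X, (W : Set X) = F := ⟨⟨F, hF⟩, rfl⟩
  have hrange : Set.range (Scheme.IdealSheafData.vanishingIdeal W).subschemeι.base = F := by
    rw [Scheme.IdealSheafData.range_subschemeι, Scheme.IdealSheafData.coe_support_vanishingIdeal,
      hW]
  have hrg : Set.range ((Scheme.IdealSheafData.vanishingIdeal W).subschemeι ≫ f).base =
      f.base '' F := by
    rw [Scheme.Hom.comp_base, TopCat.coe_comp, Set.range_comp, hrange]
  have h := Groth.Agent.S2494.result f hf ((Scheme.IdealSheafData.vanishingIdeal W).subschemeι ≫ f)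
  rw [hrg, hsat, hF.closure_eq] at h
  exact h

end Groth.Agent.Lib.helper3.QuasiFlatBC
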