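import Mathlib
import Groth.Agent.Lib.Helper3.GeomRedSch
import Groth.Agent.Lib.Helper3.GeomConnPt

/-!
# Towers of base field extensions and common points (helper3)

* `towerIso`: `(X_K)_L ≅ X_L` for a tower `L/K/k`, compatible with the projections.
* `exists_common_point`: two points `x₁ ∈ X_{K₁}`, `x₂ ∈ X_{K₂}` over the same point of `X` are
  dominated by one point of `(X_{K₁})_L` for a suitable extension `L` of `K₁`, through a flat
  morphism `(X_{K₁})_L ⟶ X_{K₂}`.
-/

set_option autoImplicit false
universe u

namespace Groth.Agent.Lib.helper3.CommonPt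

open AlgebraicGeometry CategoryTheory Limits

variable {k : Type u} [Field k] {X : Scheme.{u}} (f : X ⟶ Spec (CommRingCat.of k))

section tower

variable (K L : Type u) [Field K] [Field L] [Algebra k K] [Algebra K L] [Algebra k L]
  [IsScalarTower k K L]

theorem specMap_tower :
    Spec.map (CommRingCat.ofHom (algebraMap K L)) ≫ Spec.map (CommRingCat.ofHom (algebraMap k K)) =
      Spec.map (CommRingCat.ofHom (algebraMap k L)) := by
  rw [← Spec.map_comp, ← CommRingCat.ofHom_comp, ← IsScalarTower.algebraMap_eq]

/-- `(X_K)_L ≅ X_L` -/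
noncomputable def towerIso :
    pullback (pullback.snd f (Spec.map (CommRingCat.ofHom (algebraMap k K))))
      (Spec.map (CommRingCat.ofHom (algebraMap K L))) ≅
      pullback f (Spec.map (CommRingCat.ofHom (algebraMap k L))) :=
  pullbackLeftPullbackSndIso f _ _ ≪≫ pullback.congrHom rfl (specMap_tower K L)

theorem towerIso_hom_fst :
    (towerIso f K L).hom ≫ pullback.fst f (Spec.map (CommRingCat.ofHom (algebraMap k L))) =
      pullback.fst (pullback.snd f (Spec.map (CommRingCat.ofHom (algebraMap k K))))
        (Spec.map (CommRingCat.ofHom (algebraMap K L))) ≫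
        pullback.fst f (Spec.map (CommRingCat.ofHom (algebraMap k K))) := by
  simp only [towerIso, Iso.trans_hom, Category.assoc]
  rw [GeomConnPt.congrHom_hom_fst, pullbackLeftPullbackSndIso_hom_fst]

theorem towerIso_hom_snd :
    (towerIso f K L).hom ≫ pullback.snd f (Spec.map (CommRingCat.ofHom (algebraMap k L))) =
      pullback.snd (pullback.snd f (Spec.map (CommRingCat.ofHom (algebraMap k K))))
        (Spec.map (CommRingCat.ofHom (algebraMap K L))) := by
  simp only [towerIso, Iso.trans_hom, Category.assoc, pullback.congrHom_hom, pullback.lift_snd,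
    Category.comp_id, pullbackLeftPullbackSndIso_hom_snd]

end tower

section common

variable (K₁ K₂ : Type u) [Field K₁] [Field K₂] [Algebra k K₁] [Algebra k K₂]

/-- Two points `x₁ ∈ X_{K₁}`, `x₂ ∈ X_{K₂}` with the same image in `X` are dominated by a single
point `z` of `(X_{K₁})_L`, for a field extension `L` of `K₁`, via the projection to `X_{K₁}` and a
flat morphism `φ : (X_{K₁})_L ⟶ X_{K₂}` over `X`. -/
theorem exists_common_point
    (x₁ : ↥(pullback f (Spec.map (CommRingCat.ofHom (algebraMap k K₁)))))
    (x₂ : ↥(pullback f (Spec.map (CommRingCat.ofHom (algebraMap k K₂)))))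
    (h : (pullback.fst f (Spec.map (CommRingCat.ofHom (algebraMap k K₁)))) x₁ =
      (pullback.fst f (Spec.map (CommRingCat.ofHom (algebraMap k K₂)))) x₂) :
    ∃ (L : Type u) (_ : Field L) (_ : Algebra K₁ L)
      (φ : pullback (pullback.snd f (Spec.map (CommRingCat.ofHom (algebraMap k K₁))))
        (Spec.map (CommRingCat.ofHom (algebraMap K₁ L))) ⟶
        pullback f (Spec.map (CommRingCat.ofHom (algebraMap k K₂))))
      (z : ↥(pullback (pullback.snd f (Spec.map (CommRingCat.ofHom (algebraMap k K₁))))
        (Spec.map (CommRingCat.ofHom (algebraMap K₁ L))))),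
      Flat φ ∧
      (pullback.fst (pullback.snd f (Spec.map (CommRingCat.ofHom (algebraMap k K₁))))
        (Spec.map (CommRingCat.ofHom (algebraMap K₁ L)))) z = x₁ ∧ φ z = x₂ := by
  -- a point of `X_{K₁} ×_X X_{K₂}` over `(x₁, x₂)` and its residue field
  obtain ⟨w₀, hw1, hw2⟩ := Scheme.Pullback.exists_preimage_pullback
    (f := pullback.fst f (Spec.map (CommRingCat.ofHom (algebraMap k K₁))))
    (g := pullback.fst f (Spec.map (CommRingCat.ofHom (algebraMap k K₂)))) x₁ x₂ h
  let W₀ := pullback (pullback.fst f (Spec.map (CommRingCat.ofHom (algebraMap k K₁))))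
    (pullback.fst f (Spec.map (CommRingCat.ofHom (algebraMap k K₂))))
  let t : Spec (W₀.residueField w₀) ⟶ W₀ := W₀.fromSpecResidueField w₀
  obtain ⟨alg₁, h₁⟩ := GeomRed.exists_algebra_of_hom (W₀.residueField w₀)
    (t ≫ pullback.fst _ _ ≫ pullback.snd f (Spec.map (CommRingCat.ofHom (algebraMap k K₁))))
  obtain ⟨alg₂, h₂⟩ := GeomRed.exists_algebra_of_hom (W₀.residueField w₀)
    (t ≫ pullback.snd _ _ ≫ pullback.snd f (Spec.map (CommRingCat.ofHom (algebraMap k K₂))))
  have heq : Spec.map (CommRingCat.ofHom (algebraMap K₁ (W₀.residueField w₀))) ≫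
        Spec.map (CommRingCat.ofHom (algebraMap k K₁)) =
      Spec.map (CommRingCat.ofHom (algebraMap K₂ (W₀.residueField w₀))) ≫
        Spec.map (CommRingCat.ofHom (algebraMap k K₂)) := by
    rw [← h₁, ← h₂]
    simp only [Category.assoc]
    rw [← pullback.condition, ← pullback.condition]
    rw [pullback.condition_assoc]
  let e : pullback (pullback.snd f (Spec.map (CommRingCat.ofHom (algebraMap k K₁))))
        (Spec.map (CommRingCat.ofHom (algebraMap K₁ (W₀.residueField w₀)))) ≅
      pullback (pullback.snd f (Spec.map (CommRingCat.ofHom (algebraMap k K₂))))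
        (Spec.map (CommRingCat.ofHom (algebraMap K₂ (W₀.residueField w₀)))) :=
    pullbackLeftPullbackSndIso f _ _ ≪≫ pullback.congrHom rfl heq ≪≫
      (pullbackLeftPullbackSndIso f _ _).symm
  -- the tautological section
  let s₁ : Spec (W₀.residueField w₀) ⟶
      pullback (pullback.snd f (Spec.map (CommRingCat.ofHom (algebraMap k K₁))))
        (Spec.map (CommRingCat.ofHom (algebraMap K₁ (W₀.residueField w₀)))) :=
    pullback.lift (t ≫ pullback.fst _ _) (𝟙 _) (by rw [Category.id_comp, ← h₁, Category.assoc])
  let pt : ↥(Spec (W₀.residueField w₀)) := IsLocalRing.closedPoint _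
  have hfl : Flat (Spec.map (CommRingCat.ofHom (algebraMap K₂ (W₀.residueField w₀)))) :=
    inferInstance
  have hfl2 : Flat (pullback.fst (pullback.snd f (Spec.map (CommRingCat.ofHom (algebraMap k K₂))))
      (Spec.map (CommRingCat.ofHom (algebraMap K₂ (W₀.residueField w₀))))) :=
    MorphismProperty.pullback_fst (P := @Flat) _ _ hfl
  refine ⟨W₀.residueField w₀, inferInstance, alg₁, e.hom ≫ pullback.fst _ _, s₁ pt, ?_, ?_, ?_⟩
  · infer_instance
  · have h3 : (pullback.fst (pullback.snd f (Spec.map (CommRingCat.ofHom (algebraMap k K₁))))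
        (Spec.map (CommRingCat.ofHom (algebraMap K₁ (W₀.residueField w₀))))) (s₁ pt) =
        (s₁ ≫ pullback.fst _ _) pt := rfl
    rw [h3, pullback.lift_fst, Scheme.Hom.comp_apply]
    have h4 : t pt = w₀ := Scheme.fromSpecResidueField_apply _ _
    rw [h4, hw1]
  · have h3 : (e.hom ≫ pullback.fst _ _) (s₁ pt) =
        (s₁ ≫ e.hom ≫ pullback.fst (pullback.snd f (Spec.map (CommRingCat.ofHom (algebraMap k K₂))))
          (Spec.map (CommRingCat.ofHom (algebraMap K₂ (W₀.residueField w₀))))) pt := rfl
    have h5 : s₁ ≫ e.hom ≫ pullback.fst (pullback.snd f (Spec.map (CommRingCat.ofHom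
        (algebraMap k K₂)))) (Spec.map (CommRingCat.ofHom (algebraMap K₂ (W₀.residueField w₀)))) =
        t ≫ pullback.snd _ _ := by
      apply pullback.hom_ext
      · simp only [e, Iso.trans_hom, Iso.symm_hom, Category.assoc,
          pullbackLeftPullbackSndIso_inv_fst]
        rw [GeomConnPt.congrHom_hom_fst, pullbackLeftPullbackSndIso_hom_fst, pullback.lift_fst_assoc,
          Category.assoc, pullback.condition]
      · simp only [s₁, e, Iso.trans_hom, Iso.symm_hom, Category.assoc,
          pullbackLeftPullbackSndIso_inv_fst_snd, pullback.congrHom_hom, pullback.lift_snd_assoc,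
          Category.comp_id, pullbackLeftPullbackSndIso_hom_snd_assoc, Category.id_comp]
        exact h₂.symm
    rw [h3, h5, Scheme.Hom.comp_apply]
    have h4 : t pt = w₀ := Scheme.fromSpecResidueField_apply _ _
    rw [h4, hw2]

end common

end Groth.Agent.Lib.helper3.CommonPt
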