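import Mathlib
import Groth.Agent.Lib.Helper17.FibreStalk

/-!
# A local irreducibility criterion over a one-dimensional regular base (helper3)

`φ : P ⟶ T`, `c : P` with `O_{P,c}` Noetherian, the maximal ideal of `O_{T,φ c}` principal, the fibre ring
`O_{P,c}/m_{φ c} O_{P,c}` reduced, and a point `ξv` of the fibre below all generizations of `c` in the
fibre.  Then every generization `ξ'` of `ξv` not in the fibre is the generic point of `Spec O_{P,c}`,
i.e. specializes to all generizations of `c`.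
-/

set_option autoImplicit false
universe u
open CategoryTheory AlgebraicGeometry CategoryTheory.Limits TopologicalSpace Topology IsLocalRing

namespace Groth.Agent.Lib.helper3.SecCompConst

open Groth.Agent.Lib.helper17.FibreStalk

section

variable {P T : Scheme.{u}} (φ : P ⟶ T) (c : P)

/-- the ideal `m_{φ c} O_{P,c}`. -/
noncomputable abbrev fibIdeal : Ideal (P.presheaf.stalk c) :=
  (maximalIdeal (T.presheaf.stalk (φ c))).map (φ.stalkMap c).hom

theorem exists_prime_of_specializes (x' : P) (h : x' ⤳ c) :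
    ∃ q : Spec (P.presheaf.stalk c), P.fromSpecStalk c q = x' := by
  have : x' ∈ Set.range (P.fromSpecStalk c) := by
    rw [Scheme.range_fromSpecStalk]; exact h
  exact this

theorem fromSpecStalk_specializes (q : Spec (P.presheaf.stalk c)) : P.fromSpecStalk c q ⤳ c := by
  have : P.fromSpecStalk c q ∈ Set.range (P.fromSpecStalk c) := ⟨q, rfl⟩
  rw [Scheme.range_fromSpecStalk] at this
  exact this

theorem le_iff_specializes (q₁ q₂ : Spec (P.presheaf.stalk c)) :
    q₁.asIdeal ≤ q₂.asIdeal ↔ P.fromSpecStalk c q₁ ⤳ P.fromSpecStalk c q₂ := by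
  rw [(P.fromSpecStalk c).isEmbedding.isInducing.specializes_iff]
  exact PrimeSpectrum.le_iff_specializes q₁ q₂

theorem fibIdeal_le_iff (q : Spec (P.presheaf.stalk c)) :
    fibIdeal φ c ≤ q.asIdeal ↔ φ (P.fromSpecStalk c q) = φ c := by
  have hnat : (P.fromSpecStalk c ≫ φ) q =
      (Spec.map (φ.stalkMap c) ≫ T.fromSpecStalk (φ c)) q := by
    rw [Scheme.SpecMap_stalkMap_fromSpecStalk]
  rw [Scheme.Hom.comp_apply, Scheme.Hom.comp_apply] at hnat
  have hcl : T.fromSpecStalk (φ c) (closedPoint (T.presheaf.stalk (φ c))) = φ c :=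
    Scheme.fromSpecStalk_closedPoint
  have hcomap : (Spec.map (φ.stalkMap c) q).asIdeal = q.asIdeal.comap (φ.stalkMap c).hom := rfl
  constructor
  · intro h
    rw [Ideal.map_le_iff_le_comap] at h
    have h1 : maximalIdeal (T.presheaf.stalk (φ c)) = q.asIdeal.comap (φ.stalkMap c).hom :=
      (maximalIdeal.isMaximal _).eq_of_le (Ideal.IsPrime.ne_top inferInstance) h
    have h2 : Spec.map (φ.stalkMap c) q = closedPoint (T.presheaf.stalk (φ c)) := by
      apply PrimeSpectrum.ext
      rw [hcomap, ← h1]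
      rfl
    rw [hnat, h2, hcl]
  · intro h
    have h' : T.fromSpecStalk (φ c) (Spec.map (φ.stalkMap c) q) =
        T.fromSpecStalk (φ c) (closedPoint (T.presheaf.stalk (φ c))) :=
      (hnat.symm.trans h).trans hcl.symm
    have h2 := (T.fromSpecStalk (φ c)).isEmbedding.injective h'
    have h3 : q.asIdeal.comap (φ.stalkMap c).hom = maximalIdeal (T.presheaf.stalk (φ c)) := by
      rw [← hcomap, h2]
      rfl
    rw [Ideal.map_le_iff_le_comap, h3]

/-- **Local irreducibility over a one-dimensional regular base.** -/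
theorem specializes_of_reduced_fibre [IsNoetherianRing (P.presheaf.stalk c)]
    (ξv ξ' w : P) (hξvc : ξv ⤳ c) (hξ'ξv : ξ' ⤳ ξv) (hwc : w ⤳ c)
    (hφξ' : φ ξ' ≠ φ c)
    (hmin : ∀ x' : P, x' ⤳ c → φ x' = φ c → ξv ⤳ x')
    (hred : (fibIdeal φ c).IsRadical)
    (hprin : (maximalIdeal (T.presheaf.stalk (φ c))).IsPrincipal) : ξ' ⤳ w := by
  obtain ⟨qv, hqv⟩ := exists_prime_of_specializes c ξv hξvc
  obtain ⟨q, hq⟩ := exists_prime_of_specializes c ξ' (hξ'ξv.trans hξvc)
  obtain ⟨qw, hqw⟩ := exists_prime_of_specializes c w hwc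
  have hle1 : q.asIdeal ≤ qv.asIdeal := by
    rw [le_iff_specializes, hq, hqv]; exact hξ'ξv
  have hle2 : qv.asIdeal ≤ fibIdeal φ c := by
    rw [← hred.radical, Ideal.radical_eq_sInf]
    apply le_sInf
    rintro J ⟨hIJ, hJ⟩
    have h1 : φ (P.fromSpecStalk c ⟨J, hJ⟩) = φ c := (fibIdeal_le_iff φ c ⟨J, hJ⟩).mp hIJ
    have h2 := hmin _ (fromSpecStalk_specializes c ⟨J, hJ⟩) h1
    rw [← hqv, ← le_iff_specializes] at h2
    exact h2
  -- the principal generator
  obtain ⟨ϖ₀, hϖ₀⟩ := hprin.principal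
  set ϖ := (φ.stalkMap c).hom ϖ₀ with hϖ
  have hI : fibIdeal φ c = Ideal.span {ϖ} := by
    change (maximalIdeal (T.presheaf.stalk (φ c))).map (φ.stalkMap c).hom = _
    rw [hϖ₀]
    change Ideal.map _ (Ideal.span {ϖ₀}) = _
    rw [Ideal.map_span, Set.image_singleton]
  have hϖq : ϖ ∉ q.asIdeal := by
    intro hmem
    have h1 : fibIdeal φ c ≤ q.asIdeal := by
      rw [hI, Ideal.span_singleton_le_iff_mem]; exact hmem
    have h2 := (fibIdeal_le_iff φ c q).mp h1
    rw [hq] at h2
    exact hφξ' h2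
  have hϖmax : ϖ ∈ maximalIdeal (P.presheaf.stalk c) := by
    have h1 : fibIdeal φ c ≤ maximalIdeal (P.presheaf.stalk c) :=
      ((IsLocalRing.local_hom_TFAE (φ.stalkMap c).hom).out 0 2 rfl rfl).mp inferInstance
    apply h1
    rw [hI]
    exact Ideal.mem_span_singleton_self ϖ
  -- Nakayama
  have hqbot : q.asIdeal = ⊥ := by
    apply Submodule.eq_bot_of_le_smul_of_le_jacobson_bot (maximalIdeal (P.presheaf.stalk c))
      q.asIdeal (IsNoetherian.noetherian _)
    · intro a ha
      have h1 : a ∈ Ideal.span {ϖ} := by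
        rw [← hI]; exact hle2 (hle1 ha)
      obtain ⟨b, rfl⟩ := Ideal.mem_span_singleton'.mp h1
      have hb : b ∈ q.asIdeal := (q.isPrime.mem_or_mem ha).resolve_right hϖq
      rw [mul_comm]
      exact Submodule.smul_mem_smul hϖmax hb
    · rw [IsLocalRing.jacobson_eq_maximalIdeal ⊥ bot_ne_top]
  have hle3 : q.asIdeal ≤ qw.asIdeal := by
    rw [hqbot]; exact bot_le
  rw [le_iff_specializes, hq, hqw] at hle3
  exact hle3

end

/-- the maximal ideal of the local ring of `Spec R` at the closed point of a discrete valuation ring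
is principal. -/
theorem isPrincipal_maximalIdeal_stalk_closedPoint (R : Type u) [CommRing R] [IsDomain R]
    [IsDiscreteValuationRing R] :
    (maximalIdeal ((Spec (CommRingCat.of R)).presheaf.stalk (closedPoint R))).IsPrincipal := by
  letI k : Algebra R ((Spec (CommRingCat.of R)).presheaf.stalk (closedPoint R)) :=
    StructureSheaf.stalkAlgebra R (closedPoint R)
  haveI hloc : IsLocalization.AtPrime ((Spec (CommRingCat.of R)).presheaf.stalk (closedPoint R))
      (closedPoint R).asIdeal := StructureSheaf.IsLocalization.to_stalk R (closedPoint R)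
  have h1 := IsLocalization.AtPrime.map_eq_maximalIdeal (closedPoint R).asIdeal
    ((Spec (CommRingCat.of R)).presheaf.stalk (closedPoint R))
  rw [← h1]
  obtain ⟨ϖ, hϖ⟩ := IsDiscreteValuationRing.exists_irreducible R
  have h2 : (closedPoint R).asIdeal = Ideal.span {ϖ} := by
    change maximalIdeal R = _
    exact hϖ.maximalIdeal_eq
  rw [h2, Ideal.map_span, Set.image_singleton]
  exact ⟨⟨_, rfl⟩⟩

end Groth.Agent.Lib.helper3.SecCompConst
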