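import Mathlib
import Groth.Agent.Lib.Helper3.UOImageDim2
import Groth.Agent.Lib.Helper4.ValRefined

/-!
# Dimension of closures of universally open images in the fibres (helper3; = S4972, S5444)

EGA IV 14.3-type statement: `f : X ⟶ S` of finite type, `gᵢ : Yᵢ ⟶ S` universally open,
`vᵢ : Yᵢ ⟶ X` over `S`; `d(t)` the dimension of the closure in `f⁻¹(t)` of `⋃ vᵢ(Yᵢ) ∩ f⁻¹(t)`.
Then `d(s) ≤ d(s')` for `s' ⤳ s`.
-/

set_option autoImplicit false
universe u
open CategoryTheory AlgebraicGeometry CategoryTheory.Limits TopologicalSpace Topology Function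

namespace Groth.Agent.Lib.helper3.UOImageDim

theorem main {X S : Scheme.{u}} (f : X ⟶ S) [LocallyOfFiniteType f]
    [QuasiCompact f] {ι : Type u} (Y : ι → Scheme.{u}) (g : ∀ i, Y i ⟶ S) [∀ i, UniversallyOpen (g i)]
    (v : ∀ i, Y i ⟶ X) (hv : ∀ i, v i ≫ f = g i) (s s' : S) (hs : s' ⤳ s) :
    letI d : S → WithBot ℕ∞ := fun t =>
      topologicalKrullDim ↥(f.base ⁻¹' {t} ∩ closure ((⋃ i, Set.range (v i).base) ∩ f.base ⁻¹' {t}))
    d s ≤ d s' := by
  change topologicalKrullDim ↥(f.base ⁻¹' {s} ∩ closure ((⋃ i, Set.range (v i).base) ∩ f.base ⁻¹' {s})) ≤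
    topologicalKrullDim ↥(f.base ⁻¹' {s'} ∩ closure ((⋃ i, Set.range (v i).base) ∩ f.base ⁻¹' {s'}))
  obtain ⟨R, m, hm1, hm2⟩ :=
    Groth.Agent.Lib.helper4.ValRefined.exists_valuationSubring_of_specializes (𝟙 S) s' s
      (by simpa using hs)
  set E : Set X := ⋃ i, Set.range (v i).base with hE
  set p := pullback.fst f m with hp
  set φ := pullback.snd f m with hφ
  have hc : IsPullback p φ f m := IsPullback.of_hasPullback f m
  haveI : LocallyOfFiniteType φ :=
    MorphismProperty.pullback_snd (P := @LocallyOfFiniteType) _ _ inferInstance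
  haveI : QuasiCompact φ :=
    MorphismProperty.pullback_snd (P := @QuasiCompact) _ _ inferInstance
  let vR : Spec (CommRingCat.of R) := IsLocalRing.closedPoint R
  let ηR : Spec (CommRingCat.of R) :=
    (Spec.map (CommRingCat.ofHom R.subtype)).base (IsLocalRing.closedPoint (S.residueField s'))
  have hηs' : m.base ηR = s' := by
    change m.base ((Spec.map (CommRingCat.ofHom R.subtype)).base _) = s'
    rw [← Scheme.Hom.comp_apply, hm2, Category.comp_id]
    exact Scheme.fromSpecResidueField_apply _ _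
  have hηv : ηR ⤳ vR := IsLocalRing.specializes_closedPoint (R := R) ηR
  let w : ∀ i, pullback (v i) p ⟶ pullback f m := fun i => pullback.snd (v i) p
  have hEV : p.base ⁻¹' E = ⋃ i, Set.range (w i).base := by
    rw [hE, Set.preimage_iUnion]
    refine Set.iUnion_congr fun i => ?_
    exact (Scheme.Pullback.range_snd (v i) p).symm
  have hopen : ∀ i, IsOpenMap (w i ≫ φ).base := by
    intro i
    have sq : IsPullback (pullback.fst (v i) p) (w i ≫ φ) (g i) m := by
      have h1 := ((IsPullback.of_hasPullback (v i) p).flip.paste_horiz hc.flip).flip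
      rw [hv i] at h1
      exact h1
    haveI : UniversallyOpen (w i ≫ φ) :=
      MorphismProperty.of_isPullback (P := @UniversallyOpen) sq inferInstance
    exact (w i ≫ φ).isOpenMap
  have key := valuation_case R φ (fun i => pullback (v i) p) w hopen vR ηR hηv
  rw [← hEV] at key
  rw [dim_fibre_closure_eq φ (p.base ⁻¹' E) vR, dim_fibre_closure_eq φ (p.base ⁻¹' E) ηR,
    dim_fibre_closure_baseChange hc E vR s hm1, dim_fibre_closure_baseChange hc E ηR s' hηs',
    ← dim_fibre_closure_eq f E s, ← dim_fibre_closure_eq f E s'] at key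
  exact key

/-- **S5444**: the case of a family of sections. -/
theorem main_sections (S Y : Scheme.{u}) (f : Y ⟶ S) [QuasiCompact f] [LocallyOfFiniteType f]
    (ι : Type u) (a : ι → (S ⟶ Y)) (ha : ∀ i, a i ≫ f = 𝟙 S) (s₀ s₁ : S) (h : s₁ ⤳ s₀) :
    topologicalKrullDim ↥(f.base ⁻¹' {s₀} ∩ closure (Set.range fun i => (a i).base s₀)) ≤
      topologicalKrullDim ↥(f.base ⁻¹' {s₁} ∩ closure (Set.range fun i => (a i).base s₁)) := by
  have key := main f (fun _ : ι => S) (fun _ => 𝟙 S) a ha s₀ s₁ h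
  have hset : ∀ t : S, (⋃ i, Set.range (a i).base) ∩ f.base ⁻¹' {t} =
      Set.range fun i => (a i).base t := by
    intro t
    ext x
    simp only [Set.mem_inter_iff, Set.mem_iUnion, Set.mem_range, Set.mem_preimage,
      Set.mem_singleton_iff]
    constructor
    · rintro ⟨⟨i, u, rfl⟩, hx⟩
      have h1 : f.base ((a i).base u) = u := by
        rw [← Scheme.Hom.comp_apply, ha i]; rfl
      rw [h1] at hx
      exact ⟨i, by rw [hx]⟩
    · rintro ⟨i, rfl⟩
      refine ⟨⟨i, t, rfl⟩, ?_⟩
      rw [← Scheme.Hom.comp_apply, ha i]; rfl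
  change topologicalKrullDim ↥(f.base ⁻¹' {s₀} ∩ closure ((⋃ i, Set.range (a i).base) ∩ f.base ⁻¹' {s₀})) ≤
    topologicalKrullDim ↥(f.base ⁻¹' {s₁} ∩ closure ((⋃ i, Set.range (a i).base) ∩ f.base ⁻¹' {s₁})) at key
  rw [hset s₀, hset s₁] at key
  exact key

end Groth.Agent.Lib.helper3.UOImageDim
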