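import Mathlib
import Groth.Agent.Lib.Helper3.UOImageDim3
import Groth.Agent.Lib.Helper3.SecCompDim2
import Groth.Agent.Lib.Helper8.UnivOpenAt
import Groth.Agent.S3404

/-!
# Universal openness at a point: lifting generizations with control of the residue transcendence degree
(helper3)

* `dim_fibre_closure_isPullback` : base change invariance of `dim (fibre ∩ closure (E ∩ fibre))`.
* `td_le_of_isPullback` : for a point `ζ` of a fibre product `X ×_Z Y`,
  `trdeg κ(ζ)/κ(snd ζ) ≤ trdeg κ(fst ζ)/κ(f (fst ζ))`.
* `exists_td_ge_of_le_dim` : a point of large transcendence degree in a closed subset of a fibre of large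
  dimension.
* `exists_preimage_td_ge` : a point of the fibre product over `x` and `y` with at least the transcendence
  degree of `x`.
* `exists_generization_td_ge` : **key lemma** (EGA IV 14.3.2-type): if `f` is universally open at `x`
  and `y' ⤳ f x` then there is `ξ ⤳ x` over `y'` with `trdeg κ(x)/κ(f x) ≤ trdeg κ(ξ)/κ(y')`.
-/

set_option autoImplicit false
universe u
open CategoryTheory AlgebraicGeometry CategoryTheory.Limits TopologicalSpace Topology Function

namespace Groth.Agent.Lib.helper3.UnivOpenGenTd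

open Groth.Agent.Lib.helper3 Groth.Agent.Lib.helper3.UOImageDim Groth.Agent.Lib.helper3.DimIneq
  Groth.Agent.Lib.helper3.SecCompDim

/-- base change invariance of the dimension of the closure (in the fibre) of the part of `E` in a
fibre. -/
theorem dim_fibre_closure_isPullback {P X Y Z : Scheme.{u}} {fst : P ⟶ X} {snd : P ⟶ Y}
    {f : X ⟶ Z} {g : Y ⟶ Z} (hc : IsPullback fst snd f g) [LocallyOfFiniteType f] (E : Set X)
    (y : Y) (z : Z) (hz : g.base y = z) :
    topologicalKrullDim ↥(snd.base ⁻¹' {y} ∩ closure ((fst.base ⁻¹' E) ∩ snd.base ⁻¹' {y})) =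
      topologicalKrullDim ↥(f.base ⁻¹' {z} ∩ closure (E ∩ f.base ⁻¹' {z})) := by
  rw [dim_fibre_closure_eq snd (fst.base ⁻¹' E) y, dim_fibre_closure_baseChange hc E y z hz,
    ← dim_fibre_closure_eq f E z]

/-- within a fibre the residue transcendence degree decreases under specialization. -/
theorem td_le_of_specializes_fibre {X Y : Scheme.{u}} (f : X ⟶ Y) [LocallyOfFiniteType f]
    (x' y : X) (hy : y ⤳ x') (hφy : f.base y = f.base x') :
    td (f.residueFieldMap x').hom ≤ td (f.residueFieldMap y).hom := by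
  by_cases hne : y = x'
  · exact le_of_eq (DimCriteria.td_congr f hne.symm)
  · exact (td_lt_of_specializes_of_ne f x' y hy hφy hne).le

/-- transcendence degrees of residue fields do not increase under base change. -/
theorem td_le_of_isPullback {P X Y Z : Scheme.{u}} {fst : P ⟶ X} {snd : P ⟶ Y}
    {f : X ⟶ Z} {g : Y ⟶ Z} (hc : IsPullback fst snd f g) [LocallyOfFiniteType f] (ζ : P) :
    haveI : LocallyOfFiniteType snd :=
      MorphismProperty.of_isPullback (P := @LocallyOfFiniteType) hc inferInstance
    td (snd.residueFieldMap ζ).hom ≤ td (f.residueFieldMap (fst.base ζ)).hom := by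
  haveI : LocallyOfFiniteType snd :=
    MorphismProperty.of_isPullback (P := @LocallyOfFiniteType) hc inferInstance
  obtain ⟨n, hn⟩ := exists_nat_td_residueFieldMap snd ζ
  obtain ⟨n', hn'⟩ := exists_nat_td_residueFieldMap f (fst.base ζ)
  set E : Set X := closure {fst.base ζ} with hE
  have hz : g.base (snd.base ζ) = f.base (fst.base ζ) := by
    rw [← Scheme.Hom.comp_apply, ← Scheme.Hom.comp_apply, hc.w]
  have h1 : (n : WithBot ℕ∞) ≤ topologicalKrullDim
      ↥(snd.base ⁻¹' {snd.base ζ} ∩ closure ((fst.base ⁻¹' E) ∩ snd.base ⁻¹' {snd.base ζ})) := by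
    apply td_le_dim_fibre_inter snd (snd.base ζ) _ isClosed_closure ζ _ rfl n hn
    exact subset_closure ⟨subset_closure rfl, rfl⟩
  rw [dim_fibre_closure_isPullback hc E (snd.base ζ) _ hz] at h1
  have h2 : topologicalKrullDim
      ↥(f.base ⁻¹' {f.base (fst.base ζ)} ∩ closure (E ∩ f.base ⁻¹' {f.base (fst.base ζ)})) ≤
      (n' : WithBot ℕ∞) := by
    apply dim_fibre_inter_le_of_forall_td_le f _ _ isClosed_closure
    intro c hc1 hc2
    obtain ⟨k, hk⟩ := exists_nat_td_residueFieldMap f c
    refine ⟨k, hk, ?_⟩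
    have hcE : c ∈ E := closure_minimal Set.inter_subset_left isClosed_closure hc1
    have hsp : fst.base ζ ⤳ c := specializes_iff_mem_closure.mpr hcE
    have hle := td_le_of_specializes_fibre f c (fst.base ζ) hsp hc2.symm
    rw [hk, hn'] at hle
    exact_mod_cast hle
  have h3 := h1.trans h2
  rw [hn, hn']
  exact_mod_cast h3

/-- a closed subset of a fibre of dimension `≥ n` contains a point of transcendence degree `≥ n`. -/
theorem exists_td_ge_of_le_dim {X S : Scheme.{u}} (f : X ⟶ S) [LocallyOfFiniteType f] (t : S)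
    (C : Set X) (hC : IsClosed C) (n : ℕ)
    (h : (n : WithBot ℕ∞) ≤ topologicalKrullDim ↥(f.base ⁻¹' {t} ∩ C)) :
    ∃ c ∈ C, f.base c = t ∧ (n : Cardinal.{u}) ≤ td (f.residueFieldMap c).hom := by
  by_contra hcon
  push Not at hcon
  rcases Nat.eq_zero_or_pos n with h0 | hpos
  · subst h0
    have h1 : topologicalKrullDim ↥(f.base ⁻¹' {t} ∩ C) ≤ ⊥ := by
      apply dim_fibre_inter_le_of_forall_td_le f t C hC
      intro c hcC hct
      have := hcon c hcC hct
      simp at this
    rw [le_bot_iff] at h1
    rw [h1] at h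
    simp at h
  · obtain ⟨k, rfl⟩ : ∃ k, n = k + 1 := ⟨n - 1, by omega⟩
    have h1 : topologicalKrullDim ↥(f.base ⁻¹' {t} ∩ C) ≤ (k : WithBot ℕ∞) := by
      apply dim_fibre_inter_le_of_forall_td_le f t C hC
      intro c hcC hct
      obtain ⟨j, hj⟩ := exists_nat_td_residueFieldMap f c
      refine ⟨j, hj, ?_⟩
      have := hcon c hcC hct
      rw [hj] at this
      have h2 : j < k + 1 := by exact_mod_cast this
      exact_mod_cast Nat.lt_succ_iff.mp h2
    have h2 := h.trans h1
    have h3 : (k + 1 : ℕ) ≤ k := by exact_mod_cast h2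
    omega

/-- a point of the fibre product over `x` and `y` whose transcendence degree is at least that of
`x`. -/
theorem exists_preimage_td_ge {P X Y Z : Scheme.{u}} {fst : P ⟶ X} {snd : P ⟶ Y}
    {f : X ⟶ Z} {g : Y ⟶ Z} (hc : IsPullback fst snd f g) [LocallyOfFiniteType f]
    (x : X) (y : Y) (hxy : g.base y = f.base x) :
    haveI : LocallyOfFiniteType snd :=
      MorphismProperty.of_isPullback (P := @LocallyOfFiniteType) hc inferInstance
    ∃ c : P, fst.base c = x ∧ snd.base c = y ∧
      td (f.residueFieldMap x).hom ≤ td (snd.residueFieldMap c).hom := by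
  haveI : LocallyOfFiniteType snd :=
    MorphismProperty.of_isPullback (P := @LocallyOfFiniteType) hc inferInstance
  obtain ⟨n, hn⟩ := exists_nat_td_residueFieldMap f x
  set E : Set X := closure {x} with hE
  have h1 : (n : WithBot ℕ∞) ≤ topologicalKrullDim
      ↥(f.base ⁻¹' {f.base x} ∩ closure (E ∩ f.base ⁻¹' {f.base x})) := by
    apply td_le_dim_fibre_inter f (f.base x) _ isClosed_closure x _ rfl n hn
    exact subset_closure ⟨subset_closure rfl, rfl⟩
  rw [← dim_fibre_closure_isPullback hc E y _ hxy] at h1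
  obtain ⟨c, hcC, hcy, hcn⟩ := exists_td_ge_of_le_dim snd y _ isClosed_closure n h1
  have hcE : fst.base c ∈ E := by
    have h2 : closure ((fst.base ⁻¹' E) ∩ snd.base ⁻¹' {y}) ⊆ fst.base ⁻¹' E :=
      closure_minimal Set.inter_subset_left (isClosed_closure.preimage fst.continuous)
    exact h2 hcC
  have hsp : x ⤳ fst.base c := specializes_iff_mem_closure.mpr hcE
  have hfc : f.base (fst.base c) = f.base x := by
    rw [← Scheme.Hom.comp_apply, hc.w, Scheme.Hom.comp_apply, hcy, hxy]
  have hle := td_le_of_isPullback hc c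
  have hcx : fst.base c = x := by
    by_contra hne
    have hlt := td_lt_of_specializes_of_ne f (fst.base c) x hsp hfc.symm (fun h => hne h.symm)
    rw [hn] at hlt
    exact absurd (hcn.trans hle) (not_le.mpr hlt)
  refine ⟨c, hcx, hcy, ?_⟩
  rw [hn]
  exact hcn

/-- **Key lemma** (EGA IV 14.3.2-type): if `f` is universally open at `x` and `y' ⤳ f x`, there is a
generization `ξ` of `x` over `y'` whose residue transcendence degree is at least that of `x`. -/
theorem exists_generization_td_ge {X Y : Scheme.{u}} (f : X ⟶ Y) [LocallyOfFiniteType f] (x : X)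
    (h : EGA43.IsUnivOpenAt f x) (y' : Y) (hy' : y' ⤳ f.base x) :
    ∃ ξ : X, ξ ⤳ x ∧ f.base ξ = y' ∧
      td (f.residueFieldMap x).hom ≤ td (f.residueFieldMap ξ).hom := by
  obtain ⟨R, m, hm1, hm2⟩ :=
    Groth.Agent.Lib.helper4.ValRefined.exists_valuationSubring_of_specializes (𝟙 Y) y' (f.base x)
      (by simpa using hy')
  set p := pullback.fst f m with hp
  set φ := pullback.snd f m with hφ
  have hc : IsPullback p φ f m := IsPullback.of_hasPullback f m
  haveI : LocallyOfFiniteType φ :=
    MorphismProperty.pullback_snd (P := @LocallyOfFiniteType) _ _ inferInstance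
  let vR : Spec (CommRingCat.of R) := IsLocalRing.closedPoint R
  let ηR : Spec (CommRingCat.of R) :=
    (Spec.map (CommRingCat.ofHom R.subtype)).base (IsLocalRing.closedPoint (Y.residueField y'))
  have hηs' : m.base ηR = y' := by
    change m.base ((Spec.map (CommRingCat.ofHom R.subtype)).base _) = y'
    rw [← Scheme.Hom.comp_apply, hm2, Category.comp_id]
    exact Scheme.fromSpecResidueField_apply _ _
  have hηv : ηR ⤳ vR := IsLocalRing.specializes_closedPoint (R := R) ηR
  obtain ⟨c, hcx, hcv, hctd⟩ := exists_preimage_td_ge hc x vR hm1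
  have hopen : EGA43.IsOpenAt φ.base c :=
    Groth.Agent.Lib.helper8.isOpenAt_snd_of_isPullback h hc c hcx
  obtain ⟨ζ, hζc, hζη⟩ := (Groth.Agent.S3404.result φ c).1 hopen ηR (by rw [hcv]; exact hηv)
  refine ⟨p.base ζ, ?_, ?_, ?_⟩
  · rw [← hcx]
    exact hζc.map p.continuous
  · rw [← Scheme.Hom.comp_apply, hc.w, Scheme.Hom.comp_apply, hζη, hηs']
  · have h1 := td_le_of_specializes R φ c ζ hζc
    have h2 := td_le_of_isPullback hc ζ
    exact hctd.trans (h1.trans h2)

end Groth.Agent.Lib.helper3.UnivOpenGenTd
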