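import Mathlib
import Groth.Prelude.Def_FDesc
import Groth.Agent.Lib.Helper3.SecCompConst2
import Groth.Agent.Lib.Helper3.UnivOpenGenTd

/-!
# Base change of the section components of the fibres (helper3)

For a pullback square `p, φ, f, m` with `f` locally of finite type:
* `isIrreducible_preimage_of_geom` : geometric irreducibility of a subset `E` of a fibre of `f` gives
  irreducibility of its preimage in the corresponding fibre of `φ`.
* `bc_component` : the preimage of a geometrically irreducible connected component of a fibre is the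
  connected component of the corresponding fibre, of the same dimension.
* `isRadical_fibIdeal_of_isGeomReducedAt` : geometric reducedness at a point of a fibre gives
  reducedness of the fibre rings of the base change.
-/

set_option autoImplicit false
universe u
open CategoryTheory AlgebraicGeometry CategoryTheory.Limits TopologicalSpace Topology IsLocalRing

namespace Groth.Agent.Lib.helper3.SecCompConst

open Groth.Agent.Lib.helper3 Groth.Agent.Lib.helper3.UOImageDim Groth.Agent.Lib.helper3.DimIneq
  Groth.Agent.Lib.helper3.SecCompDim Groth.Agent.Lib.helper3.UnivOpenGenTd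
  Groth.Agent.Lib.helper17.FibreStalk

variable {P X T Y : Scheme.{u}} {p : P ⟶ X} {φ : P ⟶ T} {f : X ⟶ Y} {m : T ⟶ Y}

theorem isIrreducible_preimage_of_geom_aux (t : T) (E : Set X)
    (Φ : φ.fiber t ⟶ f.fiber (m.base t))
    (hpb : IsPullback Φ (φ.fiberToSpecResidueField t) (f.fiberToSpecResidueField (m.base t))
      (Spec.map (m.residueFieldMap t)))
    (hΦι : Φ ≫ f.fiberι (m.base t) = φ.fiberι t ≫ p)
    (hirr : ∀ (K : Type u) [Field K]
        [Algebra (IsLocalRing.ResidueField (Y.presheaf.stalk (m.base t))) K],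
        IsIrreducible ((FBase.bcπ (f.fiberToSpecResidueField (m.base t)) K ≫
          f.fiberι (m.base t)).base ⁻¹' E)) :
    IsIrreducible (p.base ⁻¹' E ∩ φ.base ⁻¹' {t}) := by
  letI : Algebra (IsLocalRing.ResidueField (Y.presheaf.stalk (m.base t))) (T.residueField t) :=
    (m.residueFieldMap t).hom.toAlgebra
  have h := hirr (T.residueField t)
  let e : φ.fiber t ≅ FBase.bc (f.fiberToSpecResidueField (m.base t)) (T.residueField t) :=
    hpb.isoPullback
  have he : e.hom ≫ FBase.bcπ (f.fiberToSpecResidueField (m.base t)) (T.residueField t) = Φ :=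
    hpb.isoPullback_hom_fst
  set S := (FBase.bcπ (f.fiberToSpecResidueField (m.base t)) (T.residueField t) ≫
    f.fiberι (m.base t)).base ⁻¹' E with hS
  have h1 : IsIrreducible (e.inv.base '' S) := h.image _ e.inv.continuous.continuousOn
  have h2 : e.inv.base '' S = (φ.fiberι t).base ⁻¹' (p.base ⁻¹' E) := by
    ext w
    have hw : (FBase.bcπ (f.fiberToSpecResidueField (m.base t)) (T.residueField t) ≫
        f.fiberι (m.base t)).base (e.hom.base w) = p.base ((φ.fiberι t).base w) := by
      rw [← Scheme.Hom.comp_apply, ← Scheme.Hom.comp_apply, ← Category.assoc, he, hΦι]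
    constructor
    · rintro ⟨s, hs, rfl⟩
      have h3 : e.hom.base (e.inv.base s) = s := by
        rw [← Scheme.Hom.comp_apply, e.inv_hom_id]; rfl
      rw [Set.mem_preimage, Set.mem_preimage, ← hw, h3]
      exact hs
    · intro hw'
      refine ⟨e.hom.base w, ?_, ?_⟩
      · rw [hS, Set.mem_preimage, hw]
        exact hw'
      · rw [← Scheme.Hom.comp_apply, e.hom_inv_id]; rfl
  rw [h2] at h1
  have h3 := h1.image _ (φ.fiberι t).continuous.continuousOn
  rw [Set.image_preimage_eq_inter_range, φ.range_fiberι t] at h3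
  exact h3

theorem isIrreducible_preimage_of_geom (hc : IsPullback p φ f m) (t : T) (y : Y)
    (hy : m.base t = y) (E : Set X)
    (hirr : ∀ (K : Type u) [Field K] [Algebra (IsLocalRing.ResidueField (Y.presheaf.stalk y)) K],
        IsIrreducible ((FBase.bcπ (f.fiberToSpecResidueField y) K ≫ f.fiberι y).base ⁻¹' E)) :
    IsIrreducible (p.base ⁻¹' E ∩ φ.base ⁻¹' {t}) := by
  subst hy
  have hpb := isPullback_fiberToSpecResidueField_of_isPullback hc t
  exact isIrreducible_preimage_of_geom_aux t E _ hpb (pullback.lift_fst _ _ _) hirr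

theorem bc_component [LocallyOfFiniteType f] (hc : IsPullback p φ f m) (t : T) (y : Y)
    (hy : m.base t = y) (x₀ : X) (hx₀ : f.base x₀ = y) (c : P) (hcx : p.base c = x₀)
    (hct : φ.base c = t)
    (hirr : ∀ (K : Type u) [Field K] [Algebra (IsLocalRing.ResidueField (Y.presheaf.stalk y)) K],
        IsIrreducible ((FBase.bcπ (f.fiberToSpecResidueField y) K ≫ f.fiberι y).base ⁻¹'
          connectedComponentIn (f.base ⁻¹' {y}) x₀)) :
    connectedComponentIn (φ.base ⁻¹' {t}) c =
        p.base ⁻¹' (connectedComponentIn (f.base ⁻¹' {y}) x₀) ∩ φ.base ⁻¹' {t} ∧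
      topologicalKrullDim ↥(connectedComponentIn (φ.base ⁻¹' {t}) c) =
        topologicalKrullDim ↥(connectedComponentIn (f.base ⁻¹' {y}) x₀) := by
  haveI : LocallyOfFiniteType φ :=
    MorphismProperty.of_isPullback (P := @LocallyOfFiniteType) hc inferInstance
  set E := connectedComponentIn (f.base ⁻¹' {y}) x₀ with hE
  have hEF : E ⊆ f.base ⁻¹' {y} := connectedComponentIn_subset _ _
  obtain ⟨O, hO, hEO'⟩ := exists_isOpen_connectedComponentIn_fibre f y x₀ hx₀
  have hEO : E = f.base ⁻¹' {y} ∩ O := hEO'
  have hEcl : f.base ⁻¹' {y} ∩ closure E ⊆ E := connectedComponentIn_fibre_isClosed f y x₀ hx₀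
  set D := p.base ⁻¹' E ∩ φ.base ⁻¹' {t} with hD
  have hpF : ∀ w : P, φ.base w = t → f.base (p.base w) = y := by
    intro w hw
    rw [← Scheme.Hom.comp_apply, hc.w, Scheme.Hom.comp_apply, hw, hy]
  have hcD : c ∈ D := by
    refine ⟨?_, hct⟩
    rw [Set.mem_preimage, hcx]
    exact mem_connectedComponentIn hx₀
  have hDirr : IsIrreducible D := isIrreducible_preimage_of_geom hc t y hy E hirr
  have h1 : D ⊆ connectedComponentIn (φ.base ⁻¹' {t}) c :=
    hDirr.isPreirreducible.isPreconnected.subset_connectedComponentIn hcD Set.inter_subset_right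
  have h2 : connectedComponentIn (φ.base ⁻¹' {t}) c ⊆ D := by
    set CC := connectedComponentIn (φ.base ⁻¹' {t}) c with hCC
    have hCCF : CC ⊆ φ.base ⁻¹' {t} := connectedComponentIn_subset _ _
    have hpre : _root_.IsPreconnected CC := isPreconnected_connectedComponentIn
    have hcov : CC ⊆ p.base ⁻¹' O ∪ (p.base ⁻¹' (closure E))ᶜ := by
      intro w hw
      by_cases hwE : p.base w ∈ closure E
      · left
        have : p.base w ∈ E := hEcl ⟨hpF w (hCCF hw), hwE⟩
        rw [hEO] at this
        exact this.2
      · right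
        exact hwE
    have hne1 : (CC ∩ p.base ⁻¹' O).Nonempty := by
      refine ⟨c, mem_connectedComponentIn hct, ?_⟩
      have : p.base c ∈ E := hcD.1
      rw [hEO] at this
      exact this.2
    have hempty : ¬ (CC ∩ (p.base ⁻¹' (closure E))ᶜ).Nonempty := by
      intro hne2
      obtain ⟨w, hw, hw1, hw2⟩ := hpre _ _ (hO.preimage p.continuous)
        (isClosed_closure.preimage p.continuous).isOpen_compl hcov hne1 hne2
      apply hw2
      have : p.base w ∈ E := by
        rw [hEO]
        exact ⟨hpF w (hCCF hw), hw1⟩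
      exact subset_closure this
    intro w hw
    have hwE : p.base w ∈ closure E := by
      by_contra hcon
      exact hempty ⟨w, hw, hcon⟩
    exact ⟨hEcl ⟨hpF w (hCCF hw), hwE⟩, hCCF hw⟩
  have heq : connectedComponentIn (φ.base ⁻¹' {t}) c = D := subset_antisymm h2 h1
  refine ⟨heq, ?_⟩
  rw [heq]
  have hdim := dim_fibre_closure_isPullback hc E t y hy
  have hs1 : φ.base ⁻¹' {t} ∩ closure (p.base ⁻¹' E ∩ φ.base ⁻¹' {t}) = D := by
    apply subset_antisymm
    · rintro w ⟨hwt, hwc⟩
      refine ⟨?_, hwt⟩
      have h3 : closure (p.base ⁻¹' E ∩ φ.base ⁻¹' {t}) ⊆ p.base ⁻¹' (closure E) :=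
        closure_minimal (fun a ha => subset_closure ha.1)
          (isClosed_closure.preimage p.continuous)
      exact hEcl ⟨hpF w hwt, h3 hwc⟩
    · intro w hw
      exact ⟨hw.2, subset_closure hw⟩
  have hs2 : f.base ⁻¹' {y} ∩ closure (E ∩ f.base ⁻¹' {y}) = E := by
    rw [Set.inter_eq_left.mpr hEF]
    apply subset_antisymm hEcl
    intro w hw
    exact ⟨hEF hw, subset_closure hw⟩
  rw [JacDim.dim_congr hs1, JacDim.dim_congr hs2] at hdim
  exact hdim

theorem isRadical_fibIdeal_aux (c : P)
    (Φ : φ.fiber (φ.base c) ⟶ f.fiber (m.base (φ.base c)))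
    (hpb : IsPullback Φ (φ.fiberToSpecResidueField (φ.base c))
      (f.fiberToSpecResidueField (m.base (φ.base c))) (Spec.map (m.residueFieldMap (φ.base c))))
    (hΦι : Φ ≫ f.fiberι (m.base (φ.base c)) = φ.fiberι (φ.base c) ≫ p)
    (z : f.fiber (m.base (φ.base c))) (hz : (f.fiberι (m.base (φ.base c))).base z = p.base c)
    (hgr : FBase.IsGeomReducedAt (f.fiberToSpecResidueField (m.base (φ.base c))) z) :
    (fibIdeal φ c).IsRadical := by
  letI : Algebra (IsLocalRing.ResidueField (Y.presheaf.stalk (m.base (φ.base c)))) (T.residueField (φ.base c)) :=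
    (m.residueFieldMap (φ.base c)).hom.toAlgebra
  let e : φ.fiber (φ.base c) ≅ FBase.bc (f.fiberToSpecResidueField (m.base (φ.base c))) (T.residueField (φ.base c)) :=
    hpb.isoPullback
  have he : e.hom ≫ FBase.bcπ (f.fiberToSpecResidueField (m.base (φ.base c))) (T.residueField (φ.base c)) = Φ :=
    hpb.isoPullback_hom_fst
  have hx' : (FBase.bcπ (f.fiberToSpecResidueField (m.base (φ.base c))) (T.residueField (φ.base c))).base
      (e.hom.base (φ.asFiber c)) = z := by
    apply QFinTop.fiberι_injective f (m.base (φ.base c))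
    rw [← Scheme.Hom.comp_apply, ← Scheme.Hom.comp_apply, ← Category.assoc, he, hΦι,
      Scheme.Hom.comp_apply, φ.fiberι_asFiber c, hz]
  have hred := hgr (T.residueField (φ.base c)) (e.hom.base (φ.asFiber c)) hx'
  let e' := (asIso (e.hom.stalkMap (φ.asFiber c))).commRingCatIsoToRingEquiv
  haveI : _root_.IsReduced ((φ.fiber (φ.base c)).presheaf.stalk (φ.asFiber c)) :=
    isReduced_of_injective e'.symm.toRingHom e'.symm.injective
  obtain ⟨e''⟩ := nonempty_asFiber_stalk_equiv φ c
  haveI : _root_.IsReduced (FibRing φ c) := isReduced_of_injective e''.toRingHom e''.injective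
  exact (Ideal.isRadical_iff_quotient_reduced _).mpr inferInstance

/-- geometric reducedness of a fibre at a point gives reducedness of the fibre rings of any base
change at the points above. -/
theorem isRadical_fibIdeal_of_isGeomReducedAt (hc : IsPullback p φ f m) (c : P) (y : Y)
    (hy : m.base (φ.base c) = y) (z : f.fiber y) (hz : (f.fiberι y).base z = p.base c)
    (hgr : FBase.IsGeomReducedAt (f.fiberToSpecResidueField y) z) :
    (fibIdeal φ c).IsRadical := by
  subst hy
  have hpb := isPullback_fiberToSpecResidueField_of_isPullback hc (φ.base c)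
  exact isRadical_fibIdeal_aux c _ hpb (pullback.lift_fst _ _ _) z hz hgr

end Groth.Agent.Lib.helper3.SecCompConst
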