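import Mathlib
import Groth.Agent.Lib.Helper3.SecCompConst1
import Groth.Agent.Lib.Helper4.SubtrNoeth2
import Groth.Agent.Lib.Helper8.UnivOpenAt

/-!
# Local constancy of the dimension of the section components (helper3; = S5927)

EGA IV 15.6.6-type statement.
-/

set_option autoImplicit false
universe u
open CategoryTheory AlgebraicGeometry CategoryTheory.Limits TopologicalSpace Topology IsLocalRing

namespace Groth.Agent.Lib.helper3.SecCompConst

open Groth.Agent.Lib.helper3 Groth.Agent.Lib.helper3.UOImageDim Groth.Agent.Lib.helper3.DimIneq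
  Groth.Agent.Lib.helper3.SecCompDim Groth.Agent.Lib.helper3.UnivOpenGenTd

variable {X Y : Scheme.{u}} (f : X ⟶ Y) [LocallyOfFiniteType f] (g : Y ⟶ X)

omit [LocallyOfFiniteType f] in
/-- plain irreducibility from geometric irreducibility. -/
theorem isIrreducible_of_geom (y : Y) (E : Set X) (hE : E ⊆ f.base ⁻¹' {y})
    (hirr : ∀ (K : Type u) [Field K] [Algebra (IsLocalRing.ResidueField (Y.presheaf.stalk y)) K],
        IsIrreducible ((FBase.bcπ (f.fiberToSpecResidueField y) K ≫ f.fiberι y).base ⁻¹' E)) :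
    IsIrreducible E := by
  have h := hirr (IsLocalRing.ResidueField (Y.presheaf.stalk y))
  set π := FBase.bcπ (f.fiberToSpecResidueField y) (IsLocalRing.ResidueField (Y.presheaf.stalk y)) ≫
    f.fiberι y with hπ
  have h1 := h.image π.base π.continuous.continuousOn
  rw [Set.image_preimage_eq_inter_range] at h1
  have hsurj : Function.Surjective (FBase.bcπ (f.fiberToSpecResidueField y)
      (IsLocalRing.ResidueField (Y.presheaf.stalk y))).base := by
    haveI := surjective_specMap_field (IsLocalRing.ResidueField (Y.presheaf.stalk y))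
      (IsLocalRing.ResidueField (Y.presheaf.stalk y))
    haveI : AlgebraicGeometry.Surjective (FBase.bcπ (f.fiberToSpecResidueField y)
        (IsLocalRing.ResidueField (Y.presheaf.stalk y))) :=
      MorphismProperty.pullback_fst (P := @AlgebraicGeometry.Surjective) _ _ inferInstance
    exact Scheme.Hom.surjective _
  have hrange : Set.range π.base = f.base ⁻¹' {y} := by
    rw [← f.range_fiberι y]
    ext t
    constructor
    · rintro ⟨z, rfl⟩
      exact ⟨(FBase.bcπ (f.fiberToSpecResidueField y)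
        (IsLocalRing.ResidueField (Y.presheaf.stalk y))).base z, rfl⟩
    · rintro ⟨w, rfl⟩
      obtain ⟨z, rfl⟩ := hsurj w
      exact ⟨z, rfl⟩
  rw [hrange, Set.inter_eq_left.mpr hE] at h1
  exact h1

variable (hg : g ≫ f = 𝟙 Y)
include hg

/-- **Case (α)**: over a locally Noetherian base, geometric reducedness at the section. -/
theorem le_dim_generization_of_geomReduced [IsLocallyNoetherian Y]
    (hirr : ∀ y : Y, (∀ (K : Type u) [Field K] [Algebra (IsLocalRing.ResidueField (Y.presheaf.stalk y)) K],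
        IsIrreducible ((FBase.bcπ (f.fiberToSpecResidueField y) K ≫ f.fiberι y).base ⁻¹'
          connectedComponentIn (f.base ⁻¹' {y}) (g.base y))))
    (y₀ : Y) (ξ₀ : X) (hξ₀ : ξ₀ ∈ connectedComponentIn (f.base ⁻¹' {y₀}) (g.base y₀))
    (hC₀ : connectedComponentIn (f.base ⁻¹' {y₀}) (g.base y₀) = closure {ξ₀} ∩ f.base ⁻¹' {y₀})
    (N₀ : ℕ) (hN₀ : td (f.residueFieldMap ξ₀).hom = (N₀ : Cardinal.{u}))
    (hdim₀ : topologicalKrullDim ↥(connectedComponentIn (f.base ⁻¹' {y₀}) (g.base y₀)) =
      (N₀ : WithBot ℕ∞))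
    (hopen : EGA43.IsUnivOpenAt f ξ₀)
    (hgr : FBase.IsGeomReducedAt (f.fiberToSpecResidueField (f.base (g.base y₀)))
      (f.asFiber (g.base y₀)))
    (y' : Y) (hy' : y' ⤳ y₀) :
    (N₀ : WithBot ℕ∞) ≤
      topologicalKrullDim ↥(connectedComponentIn (f.base ⁻¹' {y'}) (g.base y')) := by
  have hfg : ∀ y : Y, f.base (g.base y) = y := fun y => by
    rw [← Scheme.Hom.comp_apply, hg]; rfl
  obtain ⟨R, _, _, _, m, hm1, hm2⟩ :=
    Groth.Agent.Lib.helper4.SubtrNoeth.exists_dvr_of_specializes' y₀ y' hy'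
  set p := pullback.fst f m with hp
  set φ := pullback.snd f m with hφ
  have hc : IsPullback p φ f m := IsPullback.of_hasPullback f m
  haveI : LocallyOfFiniteType φ :=
    MorphismProperty.pullback_snd (P := @LocallyOfFiniteType) _ _ inferInstance
  haveI : IsLocallyNoetherian (pullback f m) := LocallyOfFiniteType.isLocallyNoetherian φ
  let gT : Spec (CommRingCat.of R) ⟶ pullback f m :=
    pullback.lift (m ≫ g) (𝟙 _) (by rw [Category.assoc, hg, Category.comp_id, Category.id_comp])
  have hgTp : gT ≫ p = m ≫ g := pullback.lift_fst _ _ _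
  have hgTφ : gT ≫ φ = 𝟙 _ := pullback.lift_snd _ _ _
  set v : Spec (CommRingCat.of R) := closedPoint R with hv
  set η : Spec (CommRingCat.of R) := (⟨⊥, Ideal.isPrime_bot⟩ : PrimeSpectrum R) with hη
  have hηv : η ⤳ v := IsLocalRing.specializes_closedPoint (R := R) η
  have hηne : η ≠ v := by
    intro h
    have h1 : (⊥ : Ideal R) = maximalIdeal R := congrArg PrimeSpectrum.asIdeal h
    exact IsDiscreteValuationRing.not_a_field R h1.symm
  set c := gT.base v with hcdef
  set w := gT.base η with hwdef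
  have hφgT : ∀ t, φ.base (gT.base t) = t := fun t => by
    rw [← Scheme.Hom.comp_apply, hgTφ]; rfl
  have hpgT : ∀ t, p.base (gT.base t) = g.base (m.base t) := fun t => by
    rw [← Scheme.Hom.comp_apply, hgTp]; rfl
  have hφc : φ.base c = v := hφgT v
  have hφw : φ.base w = η := hφgT η
  have hpc : p.base c = g.base y₀ := by rw [hcdef, hpgT, hm1]
  have hpw : p.base w = g.base y' := by rw [hwdef, hpgT, hm2]
  -- the components
  obtain ⟨hCCv, hdimv⟩ := bc_component hc v y₀ hm1 (g.base y₀) (hfg y₀) c hpc hφc (hirr y₀)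
  obtain ⟨hCCη, hdimη⟩ := bc_component hc η y' hm2 (g.base y') (hfg y') w hpw hφw (hirr y')
  have hCCvirr : IsIrreducible (connectedComponentIn (φ.base ⁻¹' {v}) c) := by
    rw [hCCv]
    exact isIrreducible_preimage_of_geom hc v y₀ hm1 _ (hirr y₀)
  obtain ⟨ξv, hξvCC, hCCveq⟩ := exists_generic_of_isClosed_in_fibre φ v _
    (connectedComponentIn_subset _ _) hCCvirr (connectedComponentIn_fibre_isClosed φ v c hφc)
  have hφξv : φ.base ξv = v := connectedComponentIn_subset (φ.base ⁻¹' {v}) c hξvCC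
  obtain ⟨n, hn⟩ := exists_nat_td_residueFieldMap φ ξv
  have hnN₀ : n = N₀ := by
    have h1 := DimCriteria.dim_closure_inter_fibre φ ξv n hn
    rw [hφξv, ← hCCveq, hdimv, hdim₀] at h1
    exact_mod_cast h1.symm
  -- `p ξv = ξ₀`
  have hpξv : p.base ξv = ξ₀ := by
    have h1 : p.base ξv ∈ connectedComponentIn (f.base ⁻¹' {y₀}) (g.base y₀) := by
      have := hξvCC
      rw [hCCv] at this
      exact this.1
    have h1' := h1
    rw [hC₀] at h1
    have hsp : ξ₀ ⤳ p.base ξv := specializes_iff_mem_closure.mpr h1.1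
    have hf1 : f.base ξ₀ = y₀ := connectedComponentIn_subset (f.base ⁻¹' {y₀}) (g.base y₀) hξ₀
    have hf2 : f.base (p.base ξv) = y₀ := h1.2
    by_contra hne
    have hlt := td_lt_of_specializes_of_ne f (p.base ξv) ξ₀ hsp (hf1.trans hf2.symm)
      (fun h => hne h.symm)
    have hle := td_le_of_isPullback hc ξv
    rw [hn, hnN₀] at hle
    rw [hN₀] at hlt
    exact absurd hle (not_le.mpr hlt)
  have hopenv : EGA43.IsUnivOpenAt φ ξv :=
    Groth.Agent.Lib.helper8.isUnivOpenAt_of_isPullback hopen hc ξv hpξv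
  obtain ⟨ξ', hξ'ξv, hφξ', hle'⟩ := exists_generization_td_ge φ ξv hopenv η
    (by rw [hφξv]; exact hηv)
  -- the local irreducibility argument
  have hξvc : ξv ⤳ c := by
    have : c ∈ connectedComponentIn (φ.base ⁻¹' {v}) c := mem_connectedComponentIn hφc
    rw [hCCveq] at this
    exact specializes_iff_mem_closure.mpr this.1
  have hwc : w ⤳ c := hηv.map gT.continuous
  obtain ⟨O', hO', hCCO'⟩ := exists_isOpen_connectedComponentIn_fibre φ v c hφc
  have hcO' : c ∈ O' := by
    have : c ∈ connectedComponentIn (φ.base ⁻¹' {v}) c := mem_connectedComponentIn hφc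
    rw [hCCO'] at this
    exact this.2
  have hmin : ∀ x' : ↥(pullback f m), x' ⤳ c → φ.base x' = φ.base c → ξv ⤳ x' := by
    intro x' hx'c hφx'
    have h1 : x' ∈ connectedComponentIn (φ.base ⁻¹' {v}) c := by
      rw [hCCO']
      exact ⟨hφx'.trans hφc, hx'c.mem_open hO' hcO'⟩
    rw [hCCveq] at h1
    exact specializes_iff_mem_closure.mpr h1.1
  have hred : (fibIdeal φ c).IsRadical := by
    apply isRadical_fibIdeal_of_isGeomReducedAt hc c (f.base (g.base y₀))
      (by rw [hφc, hm1, hfg]) (f.asFiber (g.base y₀)) _ hgr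
    rw [f.fiberι_asFiber (g.base y₀), hpc]
  have hprin : (maximalIdeal ((Spec (CommRingCat.of R)).presheaf.stalk (φ.base c))).IsPrincipal := by
    rw [hφc]
    exact isPrincipal_maximalIdeal_stalk_closedPoint R
  have hξ'w : ξ' ⤳ w := specializes_of_reduced_fibre φ c ξv ξ' w hξvc hξ'ξv hwc
    (by rw [hφξ', hφc]; exact hηne) hmin hred hprin
  obtain ⟨n', hn'⟩ := exists_nat_td_residueFieldMap φ ξ'
  have h5 := td_le_dim_connectedComponentIn φ ξ' w hξ'w n' hn'
  rw [hφw, hdimη] at h5
  refine le_trans ?_ h5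
  rw [hn, hn', hnN₀] at hle'
  exact_mod_cast hle'

end Groth.Agent.Lib.helper3.SecCompConst
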