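import Mathlib
import Groth.Prelude.Def_Found
import Groth.Agent.Lib.Helper3.DimBetweenSch
import Groth.Agent.Lib.Helper3.TopDim
import Groth.Agent.Lib.Helper3.DimIneqLoc
import Groth.Agent.Lib.Helper3.FTFieldClosureDim
/-!
# Helper library (helper3): a proper morphism with an isolated point in a fibre does not drop the
dimension (pure-dimensional locally Noetherian source).

* `height_map_le_dim_closure` : `ht(p_s / p_η) ≤ dim closure {η}` in an affine chart;
* `le_dim_closure_of_chain` : a chain of `m` strict specializations below `ξ` (with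
  `trdeg κ(ξ)/κ(f ξ) = 0`) gives `m ≤ dim closure {f ξ}`;
* `td_eq_zero_of_isolated` : generizations of a point isolated in its fibre have algebraic residue
  field extension;
* `dim_le_of_irreducibleComponents` ; `dim_range_eq` (= S17653).
-/

set_option autoImplicit false
universe u
open CategoryTheory AlgebraicGeometry Function Topology

namespace Groth.Agent.Lib.helper3.ProperIsolDim

open Groth.Agent.Lib.helper3.DimIneq Groth.Agent.Lib.helper3.FTField
  Groth.Agent.Lib.helper3.TopDim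

theorem height_map_le_dim_closure {S : Scheme.{u}} {V : S.Opens} (hV : IsAffineOpen V) (η s : S)
    (hη : η ∈ V) (hs : s ∈ V)
    (hle : (hV.primeIdealOf ⟨η, hη⟩).asIdeal ≤ (hV.primeIdealOf ⟨s, hs⟩).asIdeal) :
    ((((hV.primeIdealOf ⟨s, hs⟩).asIdeal.map
        (Ideal.Quotient.mk (hV.primeIdealOf ⟨η, hη⟩).asIdeal)).height : ℕ∞) : WithBot ℕ∞) ≤
      topologicalKrullDim ↥(closure ({η} : Set S)) := by
  set p0 := (hV.primeIdealOf ⟨η, hη⟩).asIdeal with hp0
  haveI : ((hV.primeIdealOf ⟨s, hs⟩).asIdeal.map (Ideal.Quotient.mk p0)).IsPrime :=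
    map_mk_isPrime p0 _ hle
  refine (Ideal.height_le_ringKrullDim_of_ne_top (Ideal.IsPrime.ne_top inferInstance)).trans ?_
  rw [← PrimeSpectrum.topologicalKrullDim_eq_ringKrullDim]
  let f : PrimeSpectrum (Γ(S, V) ⧸ p0) → S := fun P =>
    hV.fromSpec (PrimeSpectrum.comap (Ideal.Quotient.mk p0) P)
  have hf : IsInducing f := by
    have h1 : IsInducing (PrimeSpectrum.comap (Ideal.Quotient.mk p0)) :=
      (PrimeSpectrum.isClosedEmbedding_comap_of_surjective _ _
        Ideal.Quotient.mk_surjective).isInducing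
    have h2 : IsInducing hV.fromSpec := hV.fromSpec.isOpenEmbedding.isInducing
    exact h2.comp h1
  refine dim_le_of_range_subset hf IsInducing.subtypeVal ?_
  rintro _ ⟨P, rfl⟩
  rw [Subtype.range_coe]
  have hη' : hV.fromSpec (hV.primeIdealOf ⟨η, hη⟩) = η := hV.fromSpec_primeIdealOf ⟨η, hη⟩
  have h3 : hV.primeIdealOf ⟨η, hη⟩ ⤳ PrimeSpectrum.comap (Ideal.Quotient.mk p0) P := by
    rw [← PrimeSpectrum.le_iff_specializes]
    intro a ha
    change Ideal.Quotient.mk p0 a ∈ P.asIdeal
    rw [Ideal.Quotient.eq_zero_iff_mem.mpr ha]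
    exact P.asIdeal.zero_mem
  have h4 := h3.map hV.fromSpec.continuous
  rw [hη'] at h4
  exact h4.mem_closure

/-- a chain of `m` strict specializations below `ξ`, where `κ(ξ)` is algebraic over `κ(f ξ)`,
forces `m ≤ dim closure {f ξ}`. -/
theorem le_dim_closure_of_chain {X S : Scheme.{u}} (f : X ⟶ S) [LocallyOfFiniteType f]
    [IsLocallyNoetherian S] (ξ : X) (hξtd : td (f.residueFieldMap ξ).hom = ((0 : ℕ) : Cardinal.{u}))
    (m : ℕ) (c : Fin (m + 1) → X)
    (hc : ∀ i : Fin m, c i.castSucc ⤳ c i.succ ∧ ¬ (c i.succ ⤳ c i.castSucc))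
    (hξ : ξ ⤳ c 0) :
    (m : WithBot ℕ∞) ≤ topologicalKrullDim ↥(closure ({f ξ} : Set S)) := by
  obtain ⟨V, hV, hsV, -⟩ :=
    exists_isAffineOpen_mem_and_subset (x := f (c (Fin.last m))) (U := ⊤) trivial
  obtain ⟨U, hU, hlastU, hUV⟩ :=
    exists_isAffineOpen_mem_and_subset (x := c (Fin.last m)) (U := f ⁻¹ᵁ V) hsV
  haveI : IsNoetherianRing Γ(S, V) := IsLocallyNoetherian.component_noetherian ⟨V, hV⟩
  have hmono : ∀ i j : Fin (m + 1), i ≤ j → c i ⤳ c j := by
    intro i j hij
    induction j using Fin.induction with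
    | zero =>
      have : i = 0 := Fin.le_zero_iff.mp hij
      rw [this]
    | succ j ih =>
      rcases eq_or_lt_of_le hij with h | h
      · rw [h]
      · have hij' : i ≤ j.castSucc := Fin.le_castSucc_iff.mpr h
        exact (ih hij').trans (hc j).1
  have hcU : ∀ i, c i ∈ U := fun i =>
    (hmono i (Fin.last m) (Fin.le_last i)).mem_open U.isOpen hlastU
  have hξU : ξ ∈ U := hξ.mem_open U.isOpen (hcU 0)
  let l : LTSeries (PrimeSpectrum Γ(X, U)) :=
    { length := m
      toFun := fun i => hU.primeIdealOf ⟨c i, hcU i⟩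
      step := fun i => by
        change hU.primeIdealOf ⟨c i.castSucc, hcU _⟩ < hU.primeIdealOf ⟨c i.succ, hcU _⟩
        have h1 := (specializes_iff_primeIdealOf_le hU _ _ (hcU i.castSucc) (hcU i.succ)).mp (hc i).1
        have h2 : ¬ ((hU.primeIdealOf ⟨c i.succ, hcU _⟩).asIdeal ≤
            (hU.primeIdealOf ⟨c i.castSucc, hcU _⟩).asIdeal) := fun hle =>
          (hc i).2 ((specializes_iff_primeIdealOf_le hU _ _ (hcU i.succ) (hcU i.castSucc)).mpr hle)
        exact lt_of_le_not_ge h1 h2 }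
  set q0 := (hU.primeIdealOf ⟨ξ, hξU⟩).asIdeal with hq0
  have hq0le : q0 ≤ (hU.primeIdealOf ⟨c 0, hcU 0⟩).asIdeal :=
    (specializes_iff_primeIdealOf_le hU _ _ hξU (hcU 0)).mp hξ
  have hq0last : q0 ≤ (hU.primeIdealOf ⟨c (Fin.last m), hcU _⟩).asIdeal :=
    (specializes_iff_primeIdealOf_le hU _ _ hξU (hcU _)).mp (hξ.trans (hmono 0 _ (Fin.zero_le _)))
  have h1 := length_le_height_map (Ideal.Quotient.mk q0) Ideal.Quotient.mk_surjective l
    (by rw [Ideal.mk_ker]; exact hq0le)
    (map_mk_isPrime q0 _ hq0last)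
  obtain ⟨n, hn⟩ := exists_nat_td_residueFieldMap f (c (Fin.last m))
  have key := dimension_inequality_specializes f hV hU hUV ξ (c (Fin.last m)) hξU (hcU _) hq0last
    n 0 hn hξtd
  have hleS : (hV.primeIdealOf ⟨f ξ, hUV hξU⟩).asIdeal ≤
      (hV.primeIdealOf ⟨f (c (Fin.last m)), hUV (hcU _)⟩).asIdeal := by
    refine (specializes_iff_primeIdealOf_le hV _ _ (hUV hξU) (hUV (hcU _))).mp ?_
    exact (hξ.trans (hmono 0 _ (Fin.zero_le _))).map f.continuous
  have h2 := height_map_le_dim_closure hV (f ξ) (f (c (Fin.last m))) (hUV hξU) (hUV (hcU _)) hleS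
  refine le_trans ?_ h2
  have h3 : (m : ℕ∞) ≤ ((hV.primeIdealOf ⟨f (c (Fin.last m)), hUV (hcU _)⟩).asIdeal.map
      (Ideal.Quotient.mk (hV.primeIdealOf ⟨f ξ, hUV hξU⟩).asIdeal)).height := by
    have h4 : (m : ℕ∞) ≤ ((hU.primeIdealOf ⟨c (Fin.last m), hcU _⟩).asIdeal.map
        (Ideal.Quotient.mk q0)).height + n := h1.trans le_self_add
    refine h4.trans ?_
    simpa using key
  exact_mod_cast h3

/-- a point isolated in its fibre has an open singleton in the scheme-theoretic fibre (after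
helper5, `S10310.isOpen_asFiber_iff`). -/
theorem isOpen_asFiber_of_isolated {X Y : Scheme.{u}} (f : X ⟶ Y) (x : X)
    (hx : ∃ U : X.Opens, x ∈ U ∧ ∀ x' ∈ U, f x' = f x → x' = x) :
    IsOpen ({f.asFiber x} : Set (f.fiber (f x))) := by
  rw [← (f.fiberHomeo (f x)).isOpen_image]
  simp only [Set.image_singleton, Scheme.Hom.asFiber, Homeomorph.apply_symm_apply]
  rw [isOpen_induced_iff]
  obtain ⟨O, hxO, h⟩ := hx
  refine ⟨O, O.isOpen, ?_⟩
  ext ⟨y, hy⟩
  constructor
  · intro hyO
    exact Subtype.ext (h y hyO hy)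
  · intro hyx
    have : y = x := congrArg Subtype.val hyx
    subst this
    exact hxO

/-- generizations of a point isolated in its fibre have algebraic residue field extension. -/
theorem td_eq_zero_of_isolated {X Y : Scheme.{u}} (f : X ⟶ Y) [LocallyOfFiniteType f] (x : X)
    (hx : ∃ U : X.Opens, x ∈ U ∧ ∀ x' ∈ U, f x' = f x → x' = x) (ξ : X) (hξ : ξ ⤳ x) :
    td (f.residueFieldMap ξ).hom = ((0 : ℕ) : Cardinal.{u}) := by
  have hqf : f.QuasiFiniteAt x :=
    Scheme.Hom.quasiFiniteAt_iff_isOpen_singleton_asFiber.mpr (isOpen_asFiber_of_isolated f x hx)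
  obtain ⟨V, hV, hsV, -⟩ := exists_isAffineOpen_mem_and_subset (x := f x) (U := ⊤) trivial
  obtain ⟨U, hU, hxU, hUV⟩ := exists_isAffineOpen_mem_and_subset (x := x) (U := f ⁻¹ᵁ V) hsV
  have hξU : ξ ∈ U := hξ.mem_open U.isOpen hxU
  have h1 := hqf.quasiFiniteAt hU hV hUV hxU
  have hle := (specializes_iff_primeIdealOf_le hU ξ x hξU hxU).mp hξ
  have h2 : (f.appLE V U hUV).hom.QuasiFiniteAt (hU.primeIdealOf ⟨ξ, hξU⟩).asIdeal := by
    letI := (f.appLE V U hUV).hom.toAlgebra
    haveI : Algebra.QuasiFiniteAt Γ(Y, V) (hU.primeIdealOf ⟨x, hxU⟩).asIdeal := h1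
    exact Algebra.QuasiFiniteAt.of_le hle
  rw [← td_quotientMap_eq f hV hU hUV ξ hξU]
  simpa using td_quotientMap_eq_zero_of_quasiFiniteAt _ _ h2

/-- the dimension of a space is bounded by the dimensions of its irreducible components. -/
theorem dim_le_of_irreducibleComponents {T : Type u} [TopologicalSpace T] (d : WithBot ℕ∞)
    (h : ∀ Z ∈ irreducibleComponents T, topologicalKrullDim ↥Z ≤ d) :
    topologicalKrullDim T ≤ d := by
  unfold topologicalKrullDim
  rw [Order.krullDim_eq_iSup_height]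
  apply iSup_le
  intro Z
  obtain ⟨W, hW, hZW, hmax⟩ := exists_preirreducible (Z : Set T) Z.isIrreducible.isPreirreducible
  obtain ⟨z, hz⟩ := Z.isIrreducible.nonempty
  have hWirr : IsIrreducible W := ⟨⟨z, hZW hz⟩, hW⟩
  have hWmem : W ∈ irreducibleComponents T := by
    rw [irreducibleComponents, Set.mem_ofPred_eq]
    exact ⟨hWirr, fun u hu hWu => (hmax u hu.isPreirreducible hWu).le⟩
  exact (height_le_dim_closed Z (isClosed_of_mem_irreducibleComponents W hWmem) hZW).trans
    (h W hWmem)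

theorem le_of_forall_nat_le (a b : WithBot ℕ∞) (h : ∀ m : ℕ, (m : WithBot ℕ∞) ≤ a →
    (m : WithBot ℕ∞) ≤ b) : a ≤ b := by
  induction a with
  | bot => exact bot_le
  | coe a =>
    induction a with
    | top =>
      have h1 : ∀ m : ℕ, (m : WithBot ℕ∞) ≤ b := fun m => h m (by exact_mod_cast le_top)
      induction b with
      | bot => exact absurd (h1 0) (by simp)
      | coe b =>
        have h2 : ∀ m : ℕ, (m : ℕ∞) ≤ b := fun m => by exact_mod_cast h1 m
        have : b = ⊤ := ENat.eq_top_iff_forall_ge.mpr h2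
        rw [this]
    | coe n => exact h n le_rfl

/-- **S17653.** -/
theorem dim_range_eq
    (X Y : Scheme.{u}) [IsLocallyNoetherian X] [IsLocallyNoetherian Y] (π : X ⟶ Y) [IsProper π]
    (d : WithBot ℕ∞) (hX : ∀ Z ∈ irreducibleComponents ↥X, topologicalKrullDim ↥Z = d)
    (hY : ∀ Z ∈ irreducibleComponents ↥Y, topologicalKrullDim ↥Z = d)
    (x : ↥X) (hx : ∃ U : X.Opens, x ∈ U ∧ ∀ x' ∈ U, π x' = π x → x' = x) :
    topologicalKrullDim ↥(Set.range (fun z : ↥X => π z)) = topologicalKrullDim ↥Y := by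
  apply le_antisymm (topologicalKrullDim_subspace_le _ _)
  refine (dim_le_of_irreducibleComponents d fun Z hZ => (hY Z hZ).le).trans ?_
  -- the component through `x`
  have hX'mem : irreducibleComponent x ∈ irreducibleComponents ↥X :=
    irreducibleComponent_mem_irreducibleComponents x
  have hX'cl : IsClosed (irreducibleComponent x) := isClosed_irreducibleComponent
  have hX'irr : IsIrreducible (irreducibleComponent x) := isIrreducible_irreducibleComponent
  obtain ⟨ξ, hξ⟩ := QuasiSober.sober hX'irr hX'cl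
  have hcl : closure ({ξ} : Set X) = irreducibleComponent x := hξ
  have hξx : ξ ⤳ x := by
    rw [specializes_iff_mem_closure, hcl]
    exact mem_irreducibleComponent
  have htd := td_eq_zero_of_isolated π x hx ξ hξx
  rw [← hX _ hX'mem]
  have hsub : closure ({π ξ} : Set Y) ⊆ Set.range (fun z : ↥X => π z) := by
    have hclosed : IsClosed (Set.range (fun z : ↥X => π z)) := π.isClosedMap.isClosed_range
    exact closure_minimal (by rintro _ rfl; exact ⟨ξ, rfl⟩) hclosed
  refine le_trans ?_ (dim_mono hsub)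
  apply le_of_forall_nat_le
  intro m hm
  obtain ⟨c, hc, hcmem⟩ := exists_chain_of_le_dim (irreducibleComponent x) hX'cl m hm
  refine le_dim_closure_of_chain π ξ htd m c hc ?_
  rw [specializes_iff_mem_closure, hcl]
  exact hcmem 0

end Groth.Agent.Lib.helper3.ProperIsolDim
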