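import Mathlib
import Groth.Prelude.Def_EGA43
import Groth.Prelude.Def_EGA4b
import Groth.Agent.Lib.Helper3.OpenAtEquidim2
/-!
# Helper library (helper3): `IsEquidimAt` from equidimensional stalk + the dimension formula (S3397).
-/

set_option autoImplicit false
universe u
open CategoryTheory AlgebraicGeometry Function TopologicalSpace Topology

namespace Groth.Agent.Lib.helper3.OpenAtDim

open Groth.Agent.Lib.helper3.DimIneq Groth.Agent.Lib.helper3.FTField
  Groth.Agent.Lib.helper3.FibreField Groth.Agent.Lib.helper3.DimFibre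
  Groth.Agent.Lib.helper3.RelDim Groth.Agent.Lib.helper3.EquidimAt
  Groth.Agent.Lib.helper3.QFinTop Groth.Agent.Lib.helper3.EquidimIrr

/-- EGA IV 13.3.6-type criterion (= S3397): equidimensional stalk + dimension formula. -/
theorem isEquidimAt_of_dim_formula {X Y : Scheme.{u}} [IsLocallyNoetherian Y] (f : X ⟶ Y)
    [LocallyOfFiniteType f] (x : X) (hX : EGA4.IsEquidim (X.presheaf.stalk x))
    (h : ringKrullDim (X.presheaf.stalk x) =
        ringKrullDim (Y.presheaf.stalk (f.base x)) +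
          ringKrullDim ((f.fiber (f.base x)).presheaf.stalk (f.asFiber x))) :
    EGA43.IsEquidimAt f x := by
  haveI hXN : IsLocallyNoetherian X := LocallyOfFiniteType.isLocallyNoetherian f
  obtain ⟨V, hV, hyV, -⟩ := exists_isAffineOpen_mem_and_subset (x := f x) (U := ⊤) trivial
  obtain ⟨U, hU, hxU, e⟩ := exists_isAffineOpen_mem_and_subset (x := x) (U := f ⁻¹ᵁ V) hyV
  haveI : IsNoetherianRing Γ(Y, V) := IsLocallyNoetherian.component_noetherian ⟨V, hV⟩
  haveI : IsNoetherianRing Γ(X, U) := IsLocallyNoetherian.component_noetherian ⟨U, hU⟩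
  obtain ⟨N, b, hN, hb, hfd⟩ := fibreDimAt_eq_add f x
  have hformula := h
  rw [ringKrullDim_stalk_eq_height hU x hxU, ringKrullDim_stalk_eq_height hV (f x) (e hxU)] at hformula
  have hb' : ringKrullDim ((f.fiber (f.base x)).presheaf.stalk (f.asFiber x)) = (b : WithBot ℕ∞) := hb
  rw [hb'] at hformula
  obtain ⟨a, ha⟩ := ENat.ne_top_iff_exists.mp
    (Ideal.height_ne_top_of_isPrime (I := (hU.primeIdealOf ⟨x, hxU⟩).asIdeal))
  obtain ⟨c0, hc0⟩ := ENat.ne_top_iff_exists.mp
    (Ideal.height_ne_top_of_isPrime (I := (hV.primeIdealOf ⟨f x, e hxU⟩).asIdeal))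
  rw [← ha, ← hc0] at hformula
  have hformula' : a = c0 + b := by exact_mod_cast hformula
  apply isEquidimAt_of_forall_maximal f x (N + b) ?_ (le_of_eq hfd)
  intro ξ hξc hξx
  have hξU : ξ ∈ U := hξx.mem_open U.isOpen hxU
  have hmin := mem_minimalPrimes_of_closure_mem_irreducibleComponents hU ξ hξU hξc
  have hle : (hU.primeIdealOf ⟨ξ, hξU⟩).asIdeal ≤ (hU.primeIdealOf ⟨x, hxU⟩).asIdeal :=
    (specializes_iff_primeIdealOf_le hU ξ x hξU hxU).mp hξx
  obtain ⟨hPmin, hdimP⟩ := map_mem_minimalPrimes_stalk hU x hxU ξ hξU hmin hle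
  have heq := hX _ hPmin
  rw [hdimP, ringKrullDim_stalk_eq_height hU x hxU, ← ha] at heq
  have hle' : (hV.primeIdealOf ⟨f ξ, e hξU⟩).asIdeal ≤ (hV.primeIdealOf ⟨f x, e hxU⟩).asIdeal :=
    (specializes_iff_primeIdealOf_le hV _ _ (e hξU) (e hxU)).mp (hξx.map f.continuous)
  obtain ⟨E, b', hE, -, -⟩ := fibreDimAt_eq_add f ξ
  have hfdξ := fibreDimAt_eq_td_of_forall f ξ
    (fun x' h _ => eq_of_specializes_of_closure_mem_irreducibleComponents ξ hξc x' h) E hE
  have hEN : E ≤ N + b := by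
    have hopen' := Groth.Agent.S0402.result f (N + b)
    have hx' : x ∈ {v : X | FlatMor.fibreDimAt f v ≤ ((N + b : ℕ) : WithBot ℕ∞)} := by
      rw [Set.mem_ofPred_eq, hfd]
    have := hξx.mem_open hopen' hx'
    rw [Set.mem_ofPred_eq, hfdξ] at this
    exact_mod_cast this
  have key := dimension_inequality_specializes f hV hU e ξ x hξU hxU hle N E hN hE
  haveI := map_mk_isPrime _ _ hle'
  obtain ⟨c, hc⟩ := ENat.ne_top_iff_exists.mp
    (Ideal.height_ne_top_of_isPrime (I := (hV.primeIdealOf ⟨f x, e hxU⟩).asIdeal.map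
      (Ideal.Quotient.mk (hV.primeIdealOf ⟨f ξ, e hξU⟩).asIdeal)))
  obtain ⟨d0, hd0⟩ := ENat.ne_top_iff_exists.mp
    (Ideal.height_ne_top_of_isPrime (I := (hV.primeIdealOf ⟨f ξ, e hξU⟩).asIdeal))
  have hadd := height_add_height_map_le _ _ hle' c hc.symm
  have heq' : ((hU.primeIdealOf ⟨x, hxU⟩).asIdeal.map
      (Ideal.Quotient.mk (hU.primeIdealOf ⟨ξ, hξU⟩).asIdeal)).height = (a : ℕ∞) := by
    exact_mod_cast heq
  rw [heq', ← hc] at key
  rw [← hd0, ← hc0] at hadd
  have key' : a + N ≤ c + E := by exact_mod_cast key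
  have hadd' : d0 + c ≤ c0 := by exact_mod_cast hadd
  have hEeq : E = N + b := by omega
  have hd00 : d0 = 0 := by omega
  have hminY : (hV.primeIdealOf ⟨f ξ, e hξU⟩).asIdeal ∈ minimalPrimes Γ(Y, V) := by
    apply Ideal.height_eq_zero_iff.mp
    rw [← hd0, hd00]; rfl
  refine ⟨?_, closure_mem_irreducibleComponents hV (f ξ) (e hξU) hminY⟩
  rw [hE, hEeq]

end Groth.Agent.Lib.helper3.OpenAtDim
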