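import Mathlib
import Groth.Prelude.Def_EGA43
import Groth.Agent.S0402
import Groth.Agent.S0403
import Groth.Agent.Lib.Helper3.DimCriteria
import Groth.Agent.Lib.Helper3.OpenAtEquidim3
import Groth.Agent.Lib.Helper17.FibreDim
/-!
# Helper library (helper3): EGA IV 13.3.x — irreducible closed subsets of the source of an
equidimensional morphism over an irreducible base.
-/

set_option autoImplicit false
universe u
open CategoryTheory AlgebraicGeometry Function TopologicalSpace Topology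

namespace Groth.Agent.Lib.helper3.EquidimSub

open Groth.Agent.Lib.helper3.DimIneq Groth.Agent.Lib.helper3.FTField
  Groth.Agent.Lib.helper3.FibreField Groth.Agent.Lib.helper3.DimFibre
  Groth.Agent.Lib.helper3.RelDim Groth.Agent.Lib.helper3.EquidimAt
  Groth.Agent.Lib.helper3.QFinTop Groth.Agent.Lib.helper3.EquidimIrr
  Groth.Agent.Lib.helper3.OpenAtDim Groth.Agent.Lib.helper3.SubStalk
  Groth.Agent.Lib.helper3.DimCriteria

/-- Chevalley: `trdeg κ(ξ)/κ(f ξ)` is at most the local fibre dimension of `closure {ξ}` at any of its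
points. -/
theorem td_le_fibreDimAt_comp {Z X Y : Scheme.{u}} (ι : Z ⟶ X) [IsClosedImmersion ι] (f : X ⟶ Y)
    [LocallyOfFiniteType f] (ξ : X) (hr : Set.range ι = closure {ξ}) (w : Z) (E : ℕ)
    (hE : td (f.residueFieldMap ξ).hom = (E : Cardinal.{u})) :
    (E : WithBot ℕ∞) ≤ FlatMor.fibreDimAt (ι ≫ f) w := by
  obtain ⟨L, hL⟩ := exists_nat_fibreDimAt (ι ≫ f) w
  have hξx : ξ ⤳ ι w := by
    rw [specializes_iff_mem_closure, ← hr]; exact ⟨w, rfl⟩
  have hξr : ξ ∈ Set.range ι := by rw [hr]; exact subset_closure rfl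
  obtain ⟨ξZ, hξZ⟩ := hξr
  have hsp : ξZ ⤳ w := by
    apply ι.isEmbedding.isInducing.specializes_iff.mp
    rw [hξZ]; exact hξx
  have hopen' := Groth.Agent.S0402.result (ι ≫ f) L
  have hw' : w ∈ {z : Z | FlatMor.fibreDimAt (ι ≫ f) z ≤ (L : WithBot ℕ∞)} := by
    rw [Set.mem_ofPred_eq, hL]
  have hmem := hsp.mem_open hopen' hw'
  obtain ⟨E', b'', hE', -, hfd''⟩ := fibreDimAt_eq_add (ι ≫ f) ξZ
  have hEE : E' = E := by
    rw [td_comp_of_surjectiveOnStalks ι f ξZ, td_congr f hξZ, hE] at hE'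
    exact_mod_cast hE'.symm
  rw [Set.mem_ofPred_eq, hfd''] at hmem
  have h1 : E' + b'' ≤ L := by exact_mod_cast hmem
  rw [hL]
  have : E ≤ L := by omega
  exact_mod_cast this

/-- the dimension of the local ring of the fibre is at most that of the local ring. -/
theorem dim_fibstalk_le {X Y : Scheme.{u}} (f : X ⟶ Y) (x : X) :
    ringKrullDim ((f.fiber (f x)).presheaf.stalk (f.asFiber x)) ≤
      ringKrullDim (X.presheaf.stalk x) := by
  rw [← Groth.Agent.Lib.helper17.FibreDim.dim_fibRing f x]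
  exact ringKrullDim_quotient_le _

/-- Chevalley in chart form: for `z ⤳ ξ`, `trdeg κ(z) ≤ trdeg κ(ξ) + ht(P_ξ/P_z)`. -/
theorem td_le_td_add_height {X Y : Scheme.{u}} (f : X ⟶ Y) [LocallyOfFiniteType f]
    {U : X.Opens} (hU : IsAffineOpen U) (z ξ : X) (hz : z ∈ U) (hξ : ξ ∈ U) (hsp : z ⤳ ξ)
    (e E h : ℕ) (he : td (f.residueFieldMap z).hom = (e : Cardinal.{u}))
    (hE : td (f.residueFieldMap ξ).hom = (E : Cardinal.{u}))
    (hh : ((hU.primeIdealOf ⟨ξ, hξ⟩).asIdeal.map
      (Ideal.Quotient.mk (hU.primeIdealOf ⟨z, hz⟩).asIdeal)).height = (h : ℕ∞)) :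
    e ≤ E + h := by
  set Zc : TopologicalSpace.Closeds X := ⟨closure {z}, isClosed_closure⟩ with hZc
  set ι := (Scheme.IdealSheafData.vanishingIdeal Zc).subschemeι with hι
  have hr : Set.range ι = closure {z} := by
    rw [hι, Scheme.IdealSheafData.range_subschemeι,
      Scheme.IdealSheafData.coe_support_vanishingIdeal]
    rfl
  have hξr : ξ ∈ Set.range ι := by rw [hr]; exact hsp.mem_closure
  obtain ⟨w, hw⟩ := hξr
  have h1 := td_le_fibreDimAt_comp ι f z hr w e he
  obtain ⟨E', b, hE', hb, hfd⟩ := fibreDimAt_eq_add (ι ≫ f) w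
  have hEE : E' = E := by
    rw [td_comp_of_surjectiveOnStalks ι f w, td_congr f hw, hE] at hE'
    exact_mod_cast hE'.symm
  have h2 := dim_fibstalk_le (ι ≫ f) w
  have h3 := dim_stalk_closedImmersion_eq_height' ι w z hr ξ hw hU hξ hz
  rw [hh] at h3
  have hb' : ringKrullDim (((ι ≫ f).fiber ((ι ≫ f) w)).presheaf.stalk ((ι ≫ f).asFiber w)) =
      (b : WithBot ℕ∞) := hb
  rw [hb', h3] at h2
  have h2' : b ≤ h := by exact_mod_cast h2
  rw [hfd] at h1
  have h1' : e ≤ E' + b := by exact_mod_cast h1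
  omega


/-- in an irreducible space, a point whose closure is an irreducible component is the generic
point. -/
theorem eq_genericPoint_of_closure_mem {Y : Scheme.{u}} [IrreducibleSpace Y] (y : Y)
    (h : closure ({y} : Set Y) ∈ irreducibleComponents Y) : y = genericPoint Y := by
  rw [irreducibleComponents_eq_singleton] at h
  have h2 : IsGenericPoint y (Set.univ : Set Y) := h
  exact ((genericPoint_spec Y).eq h2).symm

/-- EGA IV 13.3.x, numerical core: an irreducible closed subset `closure {ξ}` through `x` of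
codimension `≤ n` whose fibre at `x` has local dimension `≤ e - n`. -/
theorem numeric_core {X Y Z : Scheme.{u}} [IrreducibleSpace Y] [IsLocallyNoetherian Y]
    (f : X ⟶ Y) [LocallyOfFiniteType f] (x : X) (hf : EGA43.IsEquidimAt f x)
    (ι : Z ⟶ X) [IsClosedImmersion ι] (ξ : X) (hr : Set.range ι = closure {ξ}) (w : Z)
    (hw : ι w = x) (n : ℕ) (hcodim : ringKrullDim (X.presheaf.stalk ξ) ≤ n)
    (hdim : FlatMor.fibreDimAt (ι ≫ f) w + n ≤ FlatMor.fibreDimAt f x) :
    ringKrullDim (X.presheaf.stalk ξ) = n ∧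
      FlatMor.fibreDimAt (ι ≫ f) w + n = FlatMor.fibreDimAt f x ∧
      f ξ = genericPoint Y ∧
      ∃ E : ℕ, td (f.residueFieldMap ξ).hom = (E : Cardinal.{u}) ∧
        FlatMor.fibreDimAt (ι ≫ f) w = (E : WithBot ℕ∞) := by
  haveI hXN : IsLocallyNoetherian X := LocallyOfFiniteType.isLocallyNoetherian f
  obtain ⟨e, U, hxU, hA, hB⟩ := hf
  have hξx : ξ ⤳ x := by
    rw [← hw, specializes_iff_mem_closure, ← hr]; exact ⟨w, rfl⟩
  have hξU : ξ ∈ U := hξx.mem_open U.isOpen hxU
  have hfx := fibreDimAt_eq_of_isEquidimAt f U e hB x hxU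
  have hfξ := fibreDimAt_eq_of_isEquidimAt f U e hB ξ hξU
  obtain ⟨E, bξ, hE, -, hfdξ⟩ := fibreDimAt_eq_add f ξ
  obtain ⟨L, hL⟩ := exists_nat_fibreDimAt (ι ≫ f) w
  have h3 := td_le_fibreDimAt_comp ι f ξ hr w E hE
  obtain ⟨z, N, hzξ, hfz, hzmax, htdz, hfdz⟩ := exists_maximal_fibre_point f ξ
  obtain ⟨U', hU', hξU', hU'U⟩ := exists_isAffineOpen_mem_and_subset (x := ξ) (U := U) hξU
  haveI : IsNoetherianRing Γ(X, U') := IsLocallyNoetherian.component_noetherian ⟨U', hU'⟩
  have hzU' : z ∈ U' := hzξ.mem_open U'.isOpen hξU'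
  have hzU : z ∈ U := hU'U hzU'
  have hle : (hU'.primeIdealOf ⟨z, hzU'⟩).asIdeal ≤ (hU'.primeIdealOf ⟨ξ, hξU'⟩).asIdeal :=
    (specializes_iff_primeIdealOf_le hU' z ξ hzU' hξU').mp hzξ
  haveI := map_mk_isPrime _ _ hle
  obtain ⟨h, hh⟩ := ENat.ne_top_iff_exists.mp
    (Ideal.height_ne_top_of_isPrime (I := (hU'.primeIdealOf ⟨ξ, hξU'⟩).asIdeal.map
      (Ideal.Quotient.mk (hU'.primeIdealOf ⟨z, hzU'⟩).asIdeal)))
  have h6 := td_le_td_add_height f hU' z ξ hzU' hξU' hzξ N E h htdz hE hh.symm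
  obtain ⟨m, hm⟩ := ENat.ne_top_iff_exists.mp
    (Ideal.height_ne_top_of_isPrime (I := (hU'.primeIdealOf ⟨ξ, hξU'⟩).asIdeal))
  obtain ⟨d, hd⟩ := ENat.ne_top_iff_exists.mp
    (Ideal.height_ne_top_of_isPrime (I := (hU'.primeIdealOf ⟨z, hzU'⟩).asIdeal))
  have h7 := height_add_height_map_le _ _ hle h hh.symm
  rw [← hm, ← hd] at h7
  have h7' : d + h ≤ m := by exact_mod_cast h7
  have hstalk := ringKrullDim_stalk_eq_height hU' ξ hξU'
  rw [← hm] at hstalk
  rw [hstalk] at hcodim ⊢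
  have hmn : m ≤ n := by exact_mod_cast hcodim
  rw [hfx, hL] at hdim ⊢
  have hLn : L + n ≤ e := by exact_mod_cast hdim
  rw [hL] at h3
  have hEL : E ≤ L := by exact_mod_cast h3
  rw [hfξ] at hfdz
  have hNe : e = N := by exact_mod_cast hfdz
  have hd0 : d = 0 := by omega
  have hmin : (hU'.primeIdealOf ⟨z, hzU'⟩).asIdeal ∈ minimalPrimes Γ(X, U') := by
    apply Ideal.height_eq_zero_iff.mp
    rw [← hd, hd0]; rfl
  have hzc := closure_mem_irreducibleComponents hU' z hzU' hmin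
  have hzm : ∀ ω : X, ω ⤳ z → ω = z := fun ω hω =>
    eq_of_specializes_of_closure_mem_irreducibleComponents z hzc ω hω
  have hA' : ∀ Z ∈ irreducibleComponents (↥U : Type u),
      ∃ W ∈ irreducibleComponents (Y : Type u), closure ((U.ι ≫ f).base '' Z) = W := by
    intro Z hZ
    obtain ⟨W, hW, -, hcl⟩ := hA Z hZ
    exact ⟨W, hW, hcl⟩
  have hfzc := closure_image_mem_of_isEquidimAt f U hA' z hzU hzm
  have hfzη : f z = genericPoint Y := eq_genericPoint_of_closure_mem (f z) hfzc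
  refine ⟨?_, ?_, hfz ▸ hfzη, E, hE, ?_⟩
  · have : m = n := by omega
    exact_mod_cast this
  · have : L + n = e := by omega
    exact_mod_cast this
  · have : L = E := by omega
    exact_mod_cast this


/-- EGA IV 13.3.x (= S4943). -/
theorem equidim_sub {X Y : Scheme.{u}} [IrreducibleSpace Y]
    [IsLocallyNoetherian Y] (f : X ⟶ Y) [LocallyOfFiniteType f] (x : X) (hf : EGA43.IsEquidimAt f x)
    (X' : TopologicalSpace.Closeds X) (x' : X) (hx' : closure ({x'} : Set X) = (X' : Set X)) (hx : x ∈ X') (n : ℕ)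
    (hcodim : ringKrullDim (X.presheaf.stalk x') ≤ n)
    (hdim : FlatMor.localDim ↥((X' : Set X) ∩ f.base ⁻¹' {f.base x}) ⟨x, ⟨hx, rfl⟩⟩ + n ≤ FlatMor.fibreDimAt f x) :
    ringKrullDim (X.presheaf.stalk x') = n ∧
      FlatMor.localDim ↥((X' : Set X) ∩ f.base ⁻¹' {f.base x}) ⟨x, ⟨hx, rfl⟩⟩ + n = FlatMor.fibreDimAt f x ∧
      ∀ w : ↥(Scheme.IdealSheafData.vanishingIdeal X').subscheme,
        (Scheme.IdealSheafData.vanishingIdeal X').subschemeι.base w = x →
        EGA43.IsEquidimAt ((Scheme.IdealSheafData.vanishingIdeal X').subschemeι ≫ f) w := by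
  have hr : Set.range (Scheme.IdealSheafData.vanishingIdeal X').subschemeι = closure {x'} := by
    rw [Scheme.IdealSheafData.range_subschemeι, Scheme.IdealSheafData.coe_support_vanishingIdeal,
      hx']
  have hrS : Set.range (Scheme.IdealSheafData.vanishingIdeal X').subschemeι = (X' : Set X) := by
    rw [hr, hx']
  have hxr : x ∈ Set.range (Scheme.IdealSheafData.vanishingIdeal X').subschemeι := by
    rw [hrS]; exact hx
  obtain ⟨w0, rfl⟩ := hxr
  rw [localDim_inter_fibre_eq (Scheme.IdealSheafData.vanishingIdeal X').subschemeι f w0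
    (X' : Set X) hrS] at hdim ⊢
  obtain ⟨h1, h2, h3, E, hE, hLE⟩ := numeric_core f _ hf
    (Scheme.IdealSheafData.vanishingIdeal X').subschemeι x' hr w0 rfl n hcodim hdim
  refine ⟨h1, h2, ?_⟩
  intro w hw
  have hww : w = w0 :=
    (Scheme.IdealSheafData.vanishingIdeal X').subschemeι.isEmbedding.injective hw
  subst hww
  haveI : IsLocallyNoetherian (Scheme.IdealSheafData.vanishingIdeal X').subscheme :=
    LocallyOfFiniteType.isLocallyNoetherian
      ((Scheme.IdealSheafData.vanishingIdeal X').subschemeι ≫ f)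
  apply isEquidimAt_of_forall_maximal
    ((Scheme.IdealSheafData.vanishingIdeal X').subschemeι ≫ f) w E ?_ (le_of_eq hLE)
  intro ξ' hξ'c hξ'w
  have hx'r : x' ∈ Set.range (Scheme.IdealSheafData.vanishingIdeal X').subschemeι := by
    rw [hr]; exact subset_closure rfl
  obtain ⟨ξZ, hξZ⟩ := hx'r
  have hsp : ξZ ⤳ ξ' := by
    apply (Scheme.IdealSheafData.vanishingIdeal X').subschemeι.isEmbedding.isInducing.specializes_iff.mp
    rw [hξZ, specializes_iff_mem_closure, ← hr]
    exact ⟨ξ', rfl⟩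
  have hEq := eq_of_specializes_of_closure_mem_irreducibleComponents ξ' hξ'c ξZ hsp
  subst hEq
  refine ⟨?_, ?_⟩
  · rw [td_comp_of_surjectiveOnStalks (Scheme.IdealSheafData.vanishingIdeal X').subschemeι f ξZ,
      td_congr f hξZ]
    exact hE
  · have hgen : ((Scheme.IdealSheafData.vanishingIdeal X').subschemeι ≫ f) ξZ = genericPoint Y := by
      change f ((Scheme.IdealSheafData.vanishingIdeal X').subschemeι ξZ) = _
      rw [hξZ]; exact h3
    rw [hgen, irreducibleComponents_eq_singleton]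
    exact (genericPoint_spec Y).def

end Groth.Agent.Lib.helper3.EquidimSub
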