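import Mathlib
import Groth.Prelude.Def_EGA43
import Groth.Agent.S0402
import Groth.Agent.S0403
import Groth.Agent.S9381
import Groth.Agent.Lib.Helper3.EquidimSub
import Groth.Agent.Lib.Helper3.FTFieldClosureDim
/-!
# Helper library (helper3): EGA IV 13.3.x — hypersurface sections of an equidimensional morphism.
-/

set_option autoImplicit false
universe u
open CategoryTheory AlgebraicGeometry Function TopologicalSpace Topology

namespace Groth.Agent.Lib.helper3.EquidimHyper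

open Groth.Agent.Lib.helper3.DimIneq Groth.Agent.Lib.helper3.FTField
  Groth.Agent.Lib.helper3.FibreField Groth.Agent.Lib.helper3.DimFibre
  Groth.Agent.Lib.helper3.RelDim Groth.Agent.Lib.helper3.EquidimAt
  Groth.Agent.Lib.helper3.QFinTop Groth.Agent.Lib.helper3.EquidimIrr
  Groth.Agent.Lib.helper3.OpenAtDim Groth.Agent.Lib.helper3.SubStalk
  Groth.Agent.Lib.helper3.DimCriteria Groth.Agent.Lib.helper3.EquidimSub

theorem localDim_le_of_range_subset {A B T : Type u} [TopologicalSpace A] [TopologicalSpace B]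
    [TopologicalSpace T] (i : A → T) (j : B → T) (hi : IsInducing i) (hj : IsEmbedding j)
    (hr : Set.range i ⊆ Set.range j) (a : A) (b : B) (hab : i a = j b) :
    FlatMor.localDim A a ≤ FlatMor.localDim B b := by
  have h1' : ∀ a : A, ∃ b : B, j b = i a := fun a => hr (Set.mem_range_self a)
  choose k hk using h1'
  have h1 := localDim_le_of_comp_eq i j k hi hj.isInducing (funext hk) a
  have hka : k a = b := hj.injective ((hk a).trans hab)
  rw [hka] at h1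
  exact h1

/-- monotonicity of the local fibre dimension for nested closed subschemes. -/
theorem fibreDimAt_comp_le_comp {Z₁ Z₂ X Y : Scheme.{u}} (ι₁ : Z₁ ⟶ X) (ι₂ : Z₂ ⟶ X)
    [IsClosedImmersion ι₁] [IsClosedImmersion ι₂] (f : X ⟶ Y)
    (hr : Set.range ι₁ ⊆ Set.range ι₂) (w₁ : Z₁) (w₂ : Z₂) (hw : ι₁ w₁ = ι₂ w₂) :
    FlatMor.fibreDimAt (ι₁ ≫ f) w₁ ≤ FlatMor.fibreDimAt (ι₂ ≫ f) w₂ := by
  apply localDim_le_of_range_subset (T := ↥X)
    (fun z : ↥((ι₁ ≫ f).fiber ((ι₁ ≫ f) w₁)) => ι₁ ((ι₁ ≫ f).fiberι ((ι₁ ≫ f) w₁) z))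
    (fun z : ↥((ι₂ ≫ f).fiber ((ι₂ ≫ f) w₂)) => ι₂ ((ι₂ ≫ f).fiberι ((ι₂ ≫ f) w₂) z))
    (ι₁.isEmbedding.isInducing.comp ((ι₁ ≫ f).fiberι ((ι₁ ≫ f) w₁)).isEmbedding.isInducing)
    (ι₂.isEmbedding.comp ((ι₂ ≫ f).fiberι ((ι₂ ≫ f) w₂)).isEmbedding)
  · rintro _ ⟨z, rfl⟩
    obtain ⟨t, ht⟩ := hr ⟨(ι₁ ≫ f).fiberι ((ι₁ ≫ f) w₁) z, rfl⟩
    have hft : (ι₂ ≫ f) t = (ι₂ ≫ f) w₂ := by
      change f (ι₂ t) = f (ι₂ w₂)
      rw [ht, ← hw]
      exact fiberι_mem (ι₁ ≫ f) ((ι₁ ≫ f) w₁) z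
    have : t ∈ Set.range ((ι₂ ≫ f).fiberι ((ι₂ ≫ f) w₂)) := by
      rw [(ι₂ ≫ f).range_fiberι]; exact hft
    obtain ⟨z₂, rfl⟩ := this
    exact ⟨z₂, ht⟩
  · change ι₁ ((ι₁ ≫ f).fiberι ((ι₁ ≫ f) w₁) ((ι₁ ≫ f).asFiber w₁)) =
      ι₂ ((ι₂ ≫ f).fiberι ((ι₂ ≫ f) w₂) ((ι₂ ≫ f).asFiber w₂))
    rw [(ι₁ ≫ f).fiberι_asFiber w₁, (ι₂ ≫ f).fiberι_asFiber w₂]
    exact hw

/-- Krull's Hauptidealsatz for the zero locus of a global section. -/
theorem dim_stalk_le_one_of_maximal_zeroLocus {X : Scheme.{u}} [IsLocallyNoetherian X]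
    (g : Γ(X, ⊤)) (ξ : X) (hξ : ξ ∈ X.zeroLocus ({g} : Set Γ(X, ⊤)))
    (hmax : ∀ ω ∈ X.zeroLocus ({g} : Set Γ(X, ⊤)), ω ⤳ ξ → ω = ξ) :
    ringKrullDim (X.presheaf.stalk ξ) ≤ 1 := by
  obtain ⟨U, hU, hξU, -⟩ := exists_isAffineOpen_mem_and_subset (x := ξ) (U := ⊤) trivial
  haveI : IsNoetherianRing Γ(X, U) := IsLocallyNoetherian.component_noetherian ⟨U, hU⟩
  rw [ringKrullDim_stalk_eq_height hU ξ hξU]
  set a : Γ(X, U) := X.presheaf.map (homOfLE (le_top : U ≤ ⊤)).op g with ha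
  have hmin : (hU.primeIdealOf ⟨ξ, hξU⟩).asIdeal ∈ (Ideal.span {a}).minimalPrimes := by
    refine ⟨⟨inferInstance, ?_⟩, ?_⟩
    · rw [Ideal.span_singleton_le_iff_mem]
      exact (mem_zeroLocus_iff_mem_primeIdealOf g hU ξ hξU).mp hξ
    · rintro q ⟨hq, hqa⟩ hle
      haveI := hq
      obtain ⟨ω, hωU, rfl⟩ := exists_point_of_prime hU q
      have hsp : ω ⤳ ξ := (specializes_iff_primeIdealOf_le hU ω ξ hωU hξU).mpr hle
      have hωg : ω ∈ X.zeroLocus ({g} : Set Γ(X, ⊤)) := by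
        rw [mem_zeroLocus_iff_mem_primeIdealOf g hU ω hωU]
        exact (Ideal.span_singleton_le_iff_mem _).mp hqa
      have := hmax ω hωg hsp
      subst this
      exact le_rfl
  have := Ideal.height_le_one_of_isPrincipal_of_mem_minimalPrimes (Ideal.span {a}) _ hmin
  exact_mod_cast this


/-- EGA IV 13.3.x: numerical core for the zero locus of a section which contains no maximal point
of the fibre. -/
theorem hyper_core {X Y Z : Scheme.{u}} [IrreducibleSpace Y] [IsLocallyNoetherian Y]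
    (f : X ⟶ Y) [LocallyOfFiniteType f] (x : X) (hf : EGA43.IsEquidimAt f x)
    (g : Γ(X, ⊤))
    (hmax : ∀ z : X, f.base z = f.base x →
      (∀ z' : X, f.base z' = f.base x → z ∈ closure ({z'} : Set X) → z' = z) →
      z ∉ X.zeroLocus ({g} : Set Γ(X, ⊤)))
    (ι : Z ⟶ X) [IsClosedImmersion ι] (hr : Set.range ι = X.zeroLocus ({g} : Set Γ(X, ⊤)))
    (w : Z) (hw : ι w = x) :
    ∃ e : ℕ, FlatMor.fibreDimAt f x = ((e + 1 : ℕ) : WithBot ℕ∞) ∧
      FlatMor.fibreDimAt (ι ≫ f) w = (e : WithBot ℕ∞) ∧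
      ∀ ξ : X, ξ ∈ X.zeroLocus ({g} : Set Γ(X, ⊤)) → ξ ⤳ x →
        (∀ ω ∈ X.zeroLocus ({g} : Set Γ(X, ⊤)), ω ⤳ ξ → ω = ξ) →
        ringKrullDim (X.presheaf.stalk ξ) = 1 ∧ f ξ = genericPoint Y ∧
          td (f.residueFieldMap ξ).hom = (e : Cardinal.{u}) := by
  haveI hXN : IsLocallyNoetherian X := LocallyOfFiniteType.isLocallyNoetherian f
  have hf' := hf
  obtain ⟨e, U, hxU, hA, hB⟩ := hf
  have hfx := fibreDimAt_eq_of_isEquidimAt f U e hB x hxU
  obtain ⟨L, hL⟩ := exists_nat_fibreDimAt (ι ≫ f) w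
  -- Step 1: L + 1 ≤ e
  have hstep1 : L + 1 ≤ e := by
    obtain ⟨z', L', hz'w, hfz', hz'max, htdz', hfdz'⟩ := exists_maximal_fibre_point (ι ≫ f) w
    have hLL : L = L' := by
      rw [hL] at hfdz'; exact_mod_cast hfdz'
    have htg : ι z' ∈ X.zeroLocus ({g} : Set Γ(X, ⊤)) := by rw [← hr]; exact ⟨z', rfl⟩
    have htx : ι z' ⤳ x := by rw [← hw]; exact hz'w.map ι.continuous
    have hft : f (ι z') = f x := by rw [← hw]; exact hfz'
    have htd : td (f.residueFieldMap (ι z')).hom = (L' : Cardinal.{u}) := by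
      rw [← td_comp_of_surjectiveOnStalks ι f z']; exact htdz'
    have hnot : ¬ (∀ z'' : X, f.base z'' = f.base x → ι z' ∈ closure ({z''} : Set X) →
        z'' = ι z') := fun hcon => hmax (ι z') hft hcon htg
    push Not at hnot
    obtain ⟨t', hft', htcl, hne⟩ := hnot
    have hsp : t' ⤳ ι z' := specializes_iff_mem_closure.mpr htcl
    have hlt := Groth.Agent.S9381.result f t' (ι z') hsp hne (hft'.trans hft.symm)
    have ht'U : t' ∈ U := (hsp.trans htx).mem_open U.isOpen hxU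
    have hft'e := fibreDimAt_eq_of_isEquidimAt f U e hB t' ht'U
    obtain ⟨a, b, ha, -, hab⟩ := fibreDimAt_eq_add f t'
    rw [hft'e] at hab
    have hab' : e = a + b := by exact_mod_cast hab
    have hlt' : td (f.residueFieldMap (ι z')).hom < td (f.residueFieldMap t').hom := hlt
    rw [htd, ha] at hlt'
    have : L' < a := by exact_mod_cast hlt'
    omega
  -- Step 2
  have hstep2 : ∀ ξ : X, ξ ∈ X.zeroLocus ({g} : Set Γ(X, ⊤)) → ξ ⤳ x →
      (∀ ω ∈ X.zeroLocus ({g} : Set Γ(X, ⊤)), ω ⤳ ξ → ω = ξ) →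
      ringKrullDim (X.presheaf.stalk ξ) = 1 ∧ f ξ = genericPoint Y ∧
        ∃ E : ℕ, td (f.residueFieldMap ξ).hom = (E : Cardinal.{u}) ∧ E + 1 = e ∧ E ≤ L := by
    intro ξ hξg hξx hξmax
    have hcodim := dim_stalk_le_one_of_maximal_zeroLocus g ξ hξg hξmax
    set Zc : TopologicalSpace.Closeds X := ⟨closure {ξ}, isClosed_closure⟩ with hZc
    set ιξ := (Scheme.IdealSheafData.vanishingIdeal Zc).subschemeι with hιξ
    have hrξ : Set.range ιξ = closure {ξ} := by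
      rw [hιξ, Scheme.IdealSheafData.range_subschemeι,
        Scheme.IdealSheafData.coe_support_vanishingIdeal]
      rfl
    have hxr : x ∈ Set.range ιξ := by rw [hrξ]; exact hξx.mem_closure
    obtain ⟨wξ, hwξ⟩ := hxr
    have hsub : Set.range ιξ ⊆ Set.range ι := by
      rw [hrξ, hr]
      exact closure_minimal (Set.singleton_subset_iff.mpr hξg) (X.zeroLocus_isClosed _)
    have hmono := fibreDimAt_comp_le_comp ιξ ι f hsub wξ w (hwξ.trans hw.symm)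
    obtain ⟨Lξ, hLξ⟩ := exists_nat_fibreDimAt (ιξ ≫ f) wξ
    rw [hLξ, hL] at hmono
    have hmono' : Lξ ≤ L := by exact_mod_cast hmono
    have hdim : FlatMor.fibreDimAt (ιξ ≫ f) wξ + ((1 : ℕ) : WithBot ℕ∞) ≤
        FlatMor.fibreDimAt f x := by
      rw [hLξ, hfx]
      have : Lξ + 1 ≤ e := by omega
      exact_mod_cast this
    obtain ⟨h1, h2, h3, E, hE, hLE⟩ := numeric_core f x hf' ιξ ξ hrξ wξ hwξ 1
      (by exact_mod_cast hcodim) hdim
    refine ⟨by exact_mod_cast h1, h3, E, hE, ?_, ?_⟩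
    · rw [hLE, hfx] at h2
      exact_mod_cast h2
    · rw [hLξ] at hLE
      have : Lξ = E := by exact_mod_cast hLE
      omega
  -- Step 3: existence of a maximal point
  have hex : ∃ ξ : X, ξ ∈ X.zeroLocus ({g} : Set Γ(X, ⊤)) ∧ ξ ⤳ x ∧
      (∀ ω ∈ X.zeroLocus ({g} : Set Γ(X, ⊤)), ω ⤳ ξ → ω = ξ) := by
    obtain ⟨ξZ, hξZ⟩ := QuasiSober.sober (isIrreducible_irreducibleComponent (x := w))
      isClosed_irreducibleComponent
    have hξZw : ξZ ⤳ w := hξZ.specializes mem_irreducibleComponent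
    refine ⟨ι ξZ, by rw [← hr]; exact ⟨ξZ, rfl⟩, by rw [← hw]; exact hξZw.map ι.continuous, ?_⟩
    intro ω hω hsp
    rw [← hr] at hω
    obtain ⟨ω', rfl⟩ := hω
    have hsp' : ω' ⤳ ξZ := ι.isEmbedding.isInducing.specializes_iff.mp hsp
    have hcomp : closure ({ξZ} : Set Z) ∈ irreducibleComponents Z := by
      rw [hξZ.def]; exact irreducibleComponent_mem_irreducibleComponents w
    rw [eq_of_specializes_of_closure_mem_irreducibleComponents ξZ hcomp ω' hsp']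
  obtain ⟨ξ0, hξ0g, hξ0x, hξ0max⟩ := hex
  obtain ⟨-, -, E0, -, hE0e, hE0L⟩ := hstep2 ξ0 hξ0g hξ0x hξ0max
  have hLe : L + 1 = e := by omega
  refine ⟨L, ?_, hL, ?_⟩
  · rw [hfx, ← hLe]
  · intro ξ hξg hξx hξmax
    obtain ⟨h1, h2, E, hE, hEe, -⟩ := hstep2 ξ hξg hξx hξmax
    refine ⟨h1, h2, ?_⟩
    rw [hE]
    have : E = L := by omega
    rw [this]


/-- EGA IV 13.3.x (= S5925). -/
theorem equidim_hyper {X Y : Scheme.{u}} [IrreducibleSpace Y]
    [IsLocallyNoetherian Y] (f : X ⟶ Y) [LocallyOfFiniteType f] (x : X) (hf : EGA43.IsEquidimAt f x)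
    (g : Γ(X, ⊤)) (hgx : x ∈ X.zeroLocus ({g} : Set Γ(X, ⊤)))
    (hmax : ∀ z : X, f.base z = f.base x → (∀ z' : X, f.base z' = f.base x → z ∈ closure ({z'} : Set X) → z' = z) →
      z ∉ X.zeroLocus ({g} : Set Γ(X, ⊤))) :
    (∀ w : ↥(Scheme.IdealSheafData.vanishingIdeal ⟨X.zeroLocus ({g} : Set Γ(X, ⊤)), X.zeroLocus_isClosed _⟩).subscheme,
        (Scheme.IdealSheafData.vanishingIdeal ⟨X.zeroLocus ({g} : Set Γ(X, ⊤)), X.zeroLocus_isClosed _⟩).subschemeι.base w = x →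
        EGA43.IsEquidimAt ((Scheme.IdealSheafData.vanishingIdeal ⟨X.zeroLocus ({g} : Set Γ(X, ⊤)), X.zeroLocus_isClosed _⟩).subschemeι ≫ f) w) ∧
      FlatMor.localDim ↥(X.zeroLocus ({g} : Set Γ(X, ⊤)) ∩ f.base ⁻¹' {f.base x}) ⟨x, ⟨hgx, rfl⟩⟩ + 1 = FlatMor.fibreDimAt f x ∧
      ∀ Z ∈ irreducibleComponents ↥(X.zeroLocus ({g} : Set Γ(X, ⊤))), (⟨x, hgx⟩ : ↥(X.zeroLocus ({g} : Set Γ(X, ⊤)))) ∈ Z →
        ∀ ξ : ↥(X.zeroLocus ({g} : Set Γ(X, ⊤))), closure ({ξ} : Set ↥(X.zeroLocus ({g} : Set Γ(X, ⊤)))) = Z →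
          ringKrullDim (X.presheaf.stalk (ξ : X)) = 1 := by
  have hr : Set.range (Scheme.IdealSheafData.vanishingIdeal
      ⟨X.zeroLocus ({g} : Set Γ(X, ⊤)), X.zeroLocus_isClosed _⟩).subschemeι =
      X.zeroLocus ({g} : Set Γ(X, ⊤)) := by
    rw [Scheme.IdealSheafData.range_subschemeι, Scheme.IdealSheafData.coe_support_vanishingIdeal]
    rfl
  have hxr : x ∈ Set.range (Scheme.IdealSheafData.vanishingIdeal
      ⟨X.zeroLocus ({g} : Set Γ(X, ⊤)), X.zeroLocus_isClosed _⟩).subschemeι := by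
    rw [hr]; exact hgx
  obtain ⟨w0, rfl⟩ := hxr
  obtain ⟨e, hfx, hL, hξs⟩ := hyper_core f _ hf g hmax _ hr w0 rfl
  refine ⟨?_, ?_, ?_⟩
  · intro w hw
    have hww : w = w0 := (Scheme.IdealSheafData.vanishingIdeal
      ⟨X.zeroLocus ({g} : Set Γ(X, ⊤)), X.zeroLocus_isClosed _⟩).subschemeι.isEmbedding.injective hw
    subst hww
    haveI : IsLocallyNoetherian (Scheme.IdealSheafData.vanishingIdeal
        ⟨X.zeroLocus ({g} : Set Γ(X, ⊤)), X.zeroLocus_isClosed _⟩).subscheme :=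
      LocallyOfFiniteType.isLocallyNoetherian ((Scheme.IdealSheafData.vanishingIdeal
        ⟨X.zeroLocus ({g} : Set Γ(X, ⊤)), X.zeroLocus_isClosed _⟩).subschemeι ≫ f)
    apply isEquidimAt_of_forall_maximal _ w e ?_ (le_of_eq hL)
    intro ξ' hξ'c hξ'w
    obtain ⟨-, h2, h3⟩ := hξs ((Scheme.IdealSheafData.vanishingIdeal
        ⟨X.zeroLocus ({g} : Set Γ(X, ⊤)), X.zeroLocus_isClosed _⟩).subschemeι ξ')
      ((Set.ext_iff.mp hr _).mp ⟨ξ', rfl⟩)
      (hξ'w.map (Scheme.IdealSheafData.vanishingIdeal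
        ⟨X.zeroLocus ({g} : Set Γ(X, ⊤)), X.zeroLocus_isClosed _⟩).subschemeι.continuous)
      (by
        intro ω hω hsp
        rw [← hr] at hω
        obtain ⟨ω', rfl⟩ := hω
        have hsp' : ω' ⤳ ξ' := (Scheme.IdealSheafData.vanishingIdeal
          ⟨X.zeroLocus ({g} : Set Γ(X, ⊤)),
            X.zeroLocus_isClosed _⟩).subschemeι.isEmbedding.isInducing.specializes_iff.mp hsp
        rw [eq_of_specializes_of_closure_mem_irreducibleComponents ξ' hξ'c ω' hsp'])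
    refine ⟨?_, ?_⟩
    · rw [td_comp_of_surjectiveOnStalks]; exact h3
    · have hgen : ((Scheme.IdealSheafData.vanishingIdeal
          ⟨X.zeroLocus ({g} : Set Γ(X, ⊤)), X.zeroLocus_isClosed _⟩).subschemeι ≫ f) ξ' =
          genericPoint Y := h2
      rw [hgen, irreducibleComponents_eq_singleton]
      exact (genericPoint_spec Y).def
  · rw [localDim_inter_fibre_eq _ f w0 _ hr, hL, hfx]
    norm_cast
  · intro C hC hxC ξ hξC
    refine (hξs ξ.1 ξ.2 ?_ ?_).1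
    · have h1 : ξ ⤳ (⟨_, hgx⟩ : ↥(X.zeroLocus ({g} : Set Γ(X, ⊤)))) := by
        rw [specializes_iff_mem_closure, hξC]; exact hxC
      exact h1.map continuous_subtype_val
    · intro ω hω hsp
      have h1 : (⟨ω, hω⟩ : ↥(X.zeroLocus ({g} : Set Γ(X, ⊤)))) ⤳ ξ :=
        IsInducing.subtypeVal.specializes_iff.mp hsp
      have hc : closure ({ξ} : Set ↥(X.zeroLocus ({g} : Set Γ(X, ⊤)))) ∈
          irreducibleComponents ↥(X.zeroLocus ({g} : Set Γ(X, ⊤))) := by rw [hξC]; exact hC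
      have := eq_of_specializes_of_closure_mem_irreducibleComponents ξ hc _ h1
      exact congrArg Subtype.val this

end Groth.Agent.Lib.helper3.EquidimHyper
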