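import Mathlib
import Groth.Prelude.Def_EGA43
import Groth.Agent.S0402
import Groth.Agent.S0403
import Groth.Agent.S9381
import Groth.Agent.S2285
import Groth.Agent.Lib.Helper3.EquidimHyper
/-!
# Helper library (helper3): EGA IV 14.5.3 — quasi-sections of an equidimensional morphism.
-/

set_option autoImplicit false
universe u
open CategoryTheory AlgebraicGeometry Function TopologicalSpace Topology

namespace Groth.Agent.Lib.helper3.QuasiSection

open Groth.Agent.Lib.helper3.DimIneq Groth.Agent.Lib.helper3.FTField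
  Groth.Agent.Lib.helper3.FibreField Groth.Agent.Lib.helper3.DimFibre
  Groth.Agent.Lib.helper3.RelDim Groth.Agent.Lib.helper3.EquidimAt
  Groth.Agent.Lib.helper3.QFinTop Groth.Agent.Lib.helper3.EquidimIrr
  Groth.Agent.Lib.helper3.OpenAtDim Groth.Agent.Lib.helper3.SubStalk
  Groth.Agent.Lib.helper3.DimCriteria Groth.Agent.Lib.helper3.EquidimSub
  Groth.Agent.Lib.helper3.EquidimHyper

/-- fibre dimension `0` everywhere implies locally quasi-finite. -/
theorem quasiFiniteAt_of_fibreDimAt_le_zero {T Y : Scheme.{u}} (h : T ⟶ Y) [LocallyOfFiniteType h]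
    (hall : ∀ t : T, FlatMor.fibreDimAt h t ≤ ((0 : ℕ) : WithBot ℕ∞)) (t : T) :
    h.QuasiFiniteAt t := by
  apply quasiFiniteAt_of_forall_specializes h t
  · intro t' hft hsp
    by_contra hne
    have hlt : td (h.residueFieldMap t).hom < td (h.residueFieldMap t').hom :=
      Groth.Agent.S9381.result h t' t hsp hne hft
    have hle := (fibreDimAt_le_iff h t 0).mp (hall t) t' hsp hft
    have : td (h.residueFieldMap t').hom = 0 := by
      apply le_antisymm _ zero_le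
      exact_mod_cast hle
    rw [this] at hlt
    exact not_lt_zero hlt
  · intro t' hft hsp
    by_contra hne
    have hlt : td (h.residueFieldMap t').hom < td (h.residueFieldMap t).hom :=
      Groth.Agent.S9381.result h t t' hsp (fun h' => hne h'.symm) hft.symm
    have hle := (fibreDimAt_le_iff h t 0).mp (hall t) t specializes_rfl rfl
    have : td (h.residueFieldMap t).hom = 0 := by
      apply le_antisymm _ zero_le
      exact_mod_cast hle
    rw [this] at hlt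
    exact not_lt_zero hlt

theorem locallyQuasiFinite_of_fibreDimAt_le_zero {T Y : Scheme.{u}} (h : T ⟶ Y)
    [LocallyOfFiniteType h]
    (hall : ∀ t : T, FlatMor.fibreDimAt h t ≤ ((0 : ℕ) : WithBot ℕ∞)) : LocallyQuasiFinite h := by
  rw [← Scheme.Hom.quasiFiniteLocus_eq_top_iff]
  apply top_le_iff.mp
  intro t _
  exact quasiFiniteAt_of_fibreDimAt_le_zero h hall t


/-- the conclusion of EGA IV 14.5.3. -/
def HasQuasiSection {X Y : Scheme.{u}} (f : X ⟶ Y) (x : X) : Prop :=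
  ∃ (T : Scheme.{u}) (i : T ⟶ X), IsImmersion i ∧ IrreducibleSpace ↥T ∧ IsReduced T ∧
    x ∈ Set.range i.base ∧ LocallyOfFiniteType (i ≫ f) ∧ LocallyQuasiFinite (i ≫ f) ∧
    QuasiCompact (i ≫ f) ∧ IsDominant (i ≫ f)

theorem irreducibleSpace_of_closedImmersion {Z X : Scheme.{u}} (ι : Z ⟶ X) [IsClosedImmersion ι]
    (ξ : X) (hr : Set.range ι = closure {ξ}) : IrreducibleSpace Z := by
  have hemb : Topology.IsEmbedding ι := ι.isClosedEmbedding.isEmbedding
  have hirr : IsIrreducible (Set.range ι) := by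
    rw [hr]; exact isIrreducible_singleton.closure
  haveI : IrreducibleSpace ↥(Set.range ι) := Subtype.irreducibleSpace hirr
  exact (hemb.toHomeomorph).irreducibleSpace_iff.mpr inferInstance

theorem irreducibleSpace_opens {Z : Scheme.{u}} [IrreducibleSpace Z] (W : Z.Opens) (w : Z)
    (hw : w ∈ W) : IrreducibleSpace ↥W := by
  have h1 : IsPreirreducible (W : Set Z) :=
    (IrreducibleSpace.isIrreducible_univ Z).isPreirreducible.open_subset W.isOpen
      (Set.subset_univ _)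
  exact Subtype.irreducibleSpace ⟨⟨w, hw⟩, h1⟩

/-- base case: fibre dimension zero. -/
theorem base_case {X Y : Scheme.{u}} [IrreducibleSpace Y] [IsLocallyNoetherian Y]
    (f : X ⟶ Y) [LocallyOfFiniteType f] (x : X) (hf : EGA43.IsEquidimAt f x)
    (h0 : FlatMor.fibreDimAt f x = ((0 : ℕ) : WithBot ℕ∞)) : HasQuasiSection f x := by
  haveI hXN : IsLocallyNoetherian X := LocallyOfFiniteType.isLocallyNoetherian f
  obtain ⟨e, U, hxU, hA, hB⟩ := hf
  have hfx := fibreDimAt_eq_of_isEquidimAt f U e hB x hxU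
  have he0 : e = 0 := by
    rw [h0] at hfx; exact_mod_cast hfx.symm
  subst he0
  obtain ⟨ξ, hξ⟩ := QuasiSober.sober (isIrreducible_irreducibleComponent (x := x))
    isClosed_irreducibleComponent
  have hξx : ξ ⤳ x := hξ.specializes mem_irreducibleComponent
  have hξc : closure ({ξ} : Set X) ∈ irreducibleComponents X := by
    rw [hξ.def]; exact irreducibleComponent_mem_irreducibleComponents x
  have hξU : ξ ∈ U := hξx.mem_open U.isOpen hxU
  have hξm : ∀ ω : X, ω ⤳ ξ → ω = ξ := fun ω hω =>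
    eq_of_specializes_of_closure_mem_irreducibleComponents ξ hξc ω hω
  have hA' : ∀ Z ∈ irreducibleComponents (↥U : Type u),
      ∃ W ∈ irreducibleComponents (Y : Type u), closure ((U.ι ≫ f).base '' Z) = W := by
    intro Z hZ
    obtain ⟨W, hW, -, hcl⟩ := hA Z hZ
    exact ⟨W, hW, hcl⟩
  have hfξ : f ξ = genericPoint Y :=
    eq_genericPoint_of_closure_mem (f ξ) (closure_image_mem_of_isEquidimAt f U hA' ξ hξU hξm)
  set Zc : TopologicalSpace.Closeds X := ⟨closure {ξ}, isClosed_closure⟩ with hZc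
  set ι := (Scheme.IdealSheafData.vanishingIdeal Zc).subschemeι with hι
  have hr : Set.range ι = closure {ξ} := by
    rw [hι, Scheme.IdealSheafData.range_subschemeι,
      Scheme.IdealSheafData.coe_support_vanishingIdeal]
    rfl
  haveI : IrreducibleSpace (Scheme.IdealSheafData.vanishingIdeal Zc).subscheme :=
    irreducibleSpace_of_closedImmersion ι ξ hr
  haveI : IsReduced (Scheme.IdealSheafData.vanishingIdeal Zc).subscheme :=
    Groth.Agent.S2285.isReduced_subscheme_vanishingIdeal Zc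
  haveI : IsLocallyNoetherian (Scheme.IdealSheafData.vanishingIdeal Zc).subscheme :=
    LocallyOfFiniteType.isLocallyNoetherian (ι ≫ f)
  obtain ⟨w, hw⟩ : x ∈ Set.range ι := by rw [hr]; exact hξx.mem_closure
  obtain ⟨ξZ, hξZ⟩ : ξ ∈ Set.range ι := by rw [hr]; exact subset_closure rfl
  have hξZw : ξZ ⤳ w := by
    apply ι.isEmbedding.isInducing.specializes_iff.mp
    rw [hξZ, hw]; exact hξx
  have hwU : w ∈ ι ⁻¹ᵁ U := by
    change ι w ∈ U
    rw [hw]; exact hxU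
  obtain ⟨W, hW, hwW, hWU⟩ := exists_isAffineOpen_mem_and_subset (x := w) (U := ι ⁻¹ᵁ U) hwU
  haveI : IsNoetherianRing Γ((Scheme.IdealSheafData.vanishingIdeal Zc).subscheme, W) :=
    IsLocallyNoetherian.component_noetherian ⟨W, hW⟩
  haveI : NoetherianSpace ↥W := noetherianSpace_of_isAffineOpen W hW
  haveI : IrreducibleSpace ↥W := irreducibleSpace_opens W w hwW
  have hξZW : ξZ ∈ W := hξZw.mem_open W.isOpen hwW
  refine ⟨W.toScheme, W.ι ≫ ι, inferInstance, ‹_›, inferInstance, ⟨⟨w, hwW⟩, hw⟩,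
    inferInstance, ?_, ?_, ?_⟩
  · apply locallyQuasiFinite_of_fibreDimAt_le_zero
    intro t
    have hassoc : (W.ι ≫ ι) ≫ f = W.ι ≫ (ι ≫ f) := Category.assoc _ _ _
    rw [hassoc, fibreDimAt_comp_opens_ι (ι ≫ f) W t]
    refine (fibreDimAt_comp_le ι f (W.ι t)).trans ?_
    have htU : ι (W.ι t) ∈ U := hWU t.2
    rw [fibreDimAt_eq_of_isEquidimAt f U 0 hB _ htU]
  · haveI : NoetherianSpace ↥W.toScheme := ‹NoetherianSpace ↥W›
    infer_instance
  · refine ⟨?_⟩
    have hmem : genericPoint Y ∈ Set.range ((W.ι ≫ ι) ≫ f) := by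
      refine ⟨⟨ξZ, hξZW⟩, ?_⟩
      change f (ι ξZ) = _
      rw [hξZ]; exact hfξ
    rw [DenseRange, dense_iff_closure_eq]
    have h1 : closure ({genericPoint Y} : Set Y) = Set.univ := (genericPoint_spec Y).def
    apply Set.eq_univ_of_univ_subset
    rw [← h1]
    exact closure_mono (Set.singleton_subset_iff.mpr hmem)


/-- equidimensionality at a point passes to open neighbourhoods. -/
theorem isEquidimAt_restrict {X Y : Scheme.{u}} [IsLocallyNoetherian Y] (f : X ⟶ Y)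
    [LocallyOfFiniteType f] (x : X) (hf : EGA43.IsEquidimAt f x) (U₀ : X.Opens) (hx : x ∈ U₀) :
    EGA43.IsEquidimAt (U₀.ι ≫ f) ⟨x, hx⟩ := by
  haveI : IsLocallyNoetherian U₀.toScheme := LocallyOfFiniteType.isLocallyNoetherian (U₀.ι ≫ f)
  obtain ⟨e, U, hxU, hA, hB⟩ := hf
  have hA' : ∀ Z ∈ irreducibleComponents (↥U : Type u),
      ∃ W ∈ irreducibleComponents (Y : Type u), closure ((U.ι ≫ f).base '' Z) = W := by
    intro Z hZ
    obtain ⟨W, hW, -, hcl⟩ := hA Z hZ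
    exact ⟨W, hW, hcl⟩
  apply isEquidimAt_of_forall_maximal (U₀.ι ≫ f) ⟨x, hx⟩ e
  · intro ξ₀ hξ₀c hξ₀x
    have hξx : U₀.ι ξ₀ ⤳ x := hξ₀x.map U₀.ι.continuous
    have hξU : U₀.ι ξ₀ ∈ U := hξx.mem_open U.isOpen hxU
    have hmax : ∀ ω : X, ω ⤳ U₀.ι ξ₀ → ω = U₀.ι ξ₀ := by
      intro ω hω
      have hωU₀ : ω ∈ U₀ := hω.mem_open U₀.isOpen ξ₀.2
      have h1 : (⟨ω, hωU₀⟩ : U₀.toScheme) ⤳ ξ₀ :=
        U₀.ι.isOpenEmbedding.isInducing.specializes_iff.mp hω
      have := eq_of_specializes_of_closure_mem_irreducibleComponents ξ₀ hξ₀c _ h1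
      exact congrArg (fun t : U₀.toScheme => U₀.ι t) this
    refine ⟨?_, ?_⟩
    · rw [td_comp_opens_ι]
      exact td_eq_of_isEquidimAt f U e hB _ hξU hmax
    · exact closure_image_mem_of_isEquidimAt f U hA' _ hξU hmax
  · rw [fibreDimAt_comp_opens_ι f U₀ ⟨x, hx⟩]
    exact le_of_eq (fibreDimAt_eq_of_isEquidimAt f U e hB x hxU)


/-- a fibre of a morphism of finite type has finitely many maximal points. -/
theorem finite_fibre_maximal {X Y : Scheme.{u}} (f : X ⟶ Y) [LocallyOfFiniteType f]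
    [QuasiCompact f] (y : Y) :
    {z : X | f.base z = y ∧
      ∀ z' : X, f.base z' = y → z ∈ closure ({z'} : Set X) → z' = z}.Finite := by
  haveI : LocallyOfFiniteType (f.fiberToSpecResidueField y) :=
    MorphismProperty.pullback_snd _ _ inferInstance
  haveI : IsLocallyNoetherian (f.fiber y) :=
    LocallyOfFiniteType.isLocallyNoetherian (f.fiberToSpecResidueField y)
  haveI : IsNoetherian (f.fiber y) := {}
  have hfin : (irreducibleComponents ↥(f.fiber y)).Finite :=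
    NoetherianSpace.finite_irreducibleComponents
  have hG : {ζ : ↥(f.fiber y) | closure ({ζ} : Set ↥(f.fiber y)) ∈
      irreducibleComponents ↥(f.fiber y)}.Finite := by
    apply Set.Finite.of_injOn (f := fun ζ : ↥(f.fiber y) => closure ({ζ} : Set ↥(f.fiber y)))
      (t := irreducibleComponents ↥(f.fiber y)) (fun ζ hζ => hζ) ?_ hfin
    intro ζ _ ζ' _ h
    have : Inseparable ζ ζ' := inseparable_iff_closure_eq.mpr h
    exact this.eq
  apply (hG.image (f.fiberι y)).subset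
  rintro z ⟨hz, hmax⟩
  have hmem : z ∈ Set.range (f.fiberι y) := by
    rw [f.range_fiberι y]; exact hz
  obtain ⟨ζ, rfl⟩ := hmem
  refine ⟨ζ, ?_, rfl⟩
  apply closure_mem_of_fibre_maximal f y ζ
  intro t' hsp hft
  exact hmax t' (hft.trans hz) hsp.mem_closure


/-- prime avoidance on an affine scheme. -/
theorem exists_section_avoiding {X₀ : Scheme.{u}} [IsAffine X₀] (x₀ : X₀) (S : Set X₀)
    (hS : S.Finite) (hne : ∀ z ∈ S, ¬ x₀ ⤳ z) :
    ∃ g : Γ(X₀, ⊤), x₀ ∈ X₀.zeroLocus ({g} : Set Γ(X₀, ⊤)) ∧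
      ∀ z ∈ S, z ∉ X₀.zeroLocus ({g} : Set Γ(X₀, ⊤)) := by
  have hU : IsAffineOpen (⊤ : X₀.Opens) := isAffineOpen_top X₀
  have hid : ∀ g : Γ(X₀, ⊤),
      X₀.presheaf.map (homOfLE (le_top : (⊤ : X₀.Opens) ≤ ⊤)).op g = g := by
    intro g
    have h1 : homOfLE (le_top : (⊤ : X₀.Opens) ≤ ⊤) = 𝟙 _ := Subsingleton.elim _ _
    rw [h1]; simp
  have hmem : ∀ (g : Γ(X₀, ⊤)) (z : X₀), z ∈ X₀.zeroLocus ({g} : Set Γ(X₀, ⊤)) ↔
      g ∈ (hU.primeIdealOf ⟨z, trivial⟩).asIdeal := by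
    intro g z
    rw [mem_zeroLocus_iff_mem_primeIdealOf g hU z trivial, hid]
  have key := Ideal.subset_union_prime (s := hS.toFinset)
    (f := fun z : X₀ => (hU.primeIdealOf ⟨z, trivial⟩).asIdeal) x₀ x₀
    (fun i _ _ _ => (hU.primeIdealOf ⟨i, trivial⟩).isPrime)
    (I := (hU.primeIdealOf ⟨x₀, trivial⟩).asIdeal)
  have hnot : ¬ ∃ i ∈ hS.toFinset, (hU.primeIdealOf ⟨x₀, trivial⟩).asIdeal ≤
      (hU.primeIdealOf ⟨i, trivial⟩).asIdeal := by
    rintro ⟨z, hz, hle⟩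
    exact hne z (hS.mem_toFinset.mp hz)
      ((specializes_iff_primeIdealOf_le hU x₀ z trivial trivial).mpr hle)
  rw [← key, Set.not_subset] at hnot
  obtain ⟨g, hg, hgn⟩ := hnot
  refine ⟨g, (hmem g x₀).mpr hg, ?_⟩
  intro z hz hzg
  apply hgn
  simp only [Set.mem_iUnion]
  exact ⟨z, by simpa using hz, (hmem g z).mp hzg⟩


/-- a point closed in its fibre has residue field algebraic over that of its image. -/
theorem td_eq_zero_of_closed_in_fibre {X Y : Scheme.{u}} (f : X ⟶ Y) [LocallyOfFiniteType f]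
    (x : X) (hcl : ∀ x' : X, f.base x' = f.base x → x ⤳ x' → x' = x) :
    td (f.residueFieldMap x).hom = 0 := by
  letI := fiberOver f (f x)
  haveI : LocallyOfFiniteType ((f.fiber (f x)) ↘ Spec (CommRingCat.of (Y.residueField (f x)))) :=
    locallyOfFiniteType_fiber f (f x)
  have hι : f.fiberι (f x) (f.asFiber x) = x := f.fiberι_asFiber x
  have hclosed : IsClosed ({f.asFiber x} : Set (f.fiber (f x))) := by
    apply isClosed_of_closure_subset
    intro ζ' hζ'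
    have hsp : f.asFiber x ⤳ ζ' := specializes_iff_mem_closure.mpr hζ'
    have h1 : f.fiberι (f x) (f.asFiber x) ⤳ f.fiberι (f x) ζ' :=
      (fiberι_specializes_iff f (f x) _ _).mpr hsp
    rw [hι] at h1
    have h2 := hcl _ (fiberι_mem f (f x) ζ') h1
    exact fiberι_injective f (f x) (h2.trans hι.symm)
  have h0 := trdeg_residueField_eq_zero_of_isClosed (Y.residueField (f x)) (f.fiber (f x))
    (f.asFiber x) hclosed
  have h1 : td (Curv2.resMap (Y.residueField (f x)) (f.fiber (f x)) (f.asFiber x)) = 0 := h0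
  rw [td_resMap_fiber, td_congr f hι] at h1
  exact h1


/-- one hypersurface section step (affine case). -/
theorem step_affine {X₀ Y : Scheme.{u}} [IrreducibleSpace Y] [IsLocallyNoetherian Y] [IsAffine X₀]
    (f₀ : X₀ ⟶ Y) [LocallyOfFiniteType f₀] [QuasiCompact f₀] (x₀ : X₀)
    (hf₀ : EGA43.IsEquidimAt f₀ x₀) (e : ℕ)
    (he₀ : FlatMor.fibreDimAt f₀ x₀ = ((e + 1 : ℕ) : WithBot ℕ∞))
    (hcl₀ : ∀ x' : X₀, f₀.base x' = f₀.base x₀ → x₀ ⤳ x' → x' = x₀) :
    ∃ (Z₁ : Scheme.{u}) (ι₁ : Z₁ ⟶ X₀) (w₁ : Z₁), IsClosedImmersion ι₁ ∧ ι₁ w₁ = x₀ ∧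
      EGA43.IsEquidimAt (ι₁ ≫ f₀) w₁ ∧
      FlatMor.fibreDimAt (ι₁ ≫ f₀) w₁ = (e : WithBot ℕ∞) := by
  have hS := finite_fibre_maximal f₀ (f₀.base x₀)
  have hne : ∀ z ∈ {z : X₀ | f₀.base z = f₀.base x₀ ∧
      ∀ z' : X₀, f₀.base z' = f₀.base x₀ → z ∈ closure ({z'} : Set X₀) → z' = z}, ¬ x₀ ⤳ z := by
    rintro z ⟨hz, hzmax⟩ hsp
    have hzx : z = x₀ := hcl₀ z hz hsp
    subst hzx
    have h0 : FlatMor.fibreDimAt f₀ z ≤ ((0 : ℕ) : WithBot ℕ∞) := by
      rw [fibreDimAt_le_iff]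
      intro x' hx'sp hfx'
      have := hzmax x' hfx' hx'sp.mem_closure
      subst this
      rw [td_eq_zero_of_closed_in_fibre f₀ x' hcl₀]
      simp
    rw [he₀] at h0
    have : e + 1 ≤ 0 := by exact_mod_cast h0
    omega
  obtain ⟨g, hgx, hgS⟩ := exists_section_avoiding x₀ _ hS hne
  have hmax : ∀ z : X₀, f₀.base z = f₀.base x₀ →
      (∀ z' : X₀, f₀.base z' = f₀.base x₀ → z ∈ closure ({z'} : Set X₀) → z' = z) →
      z ∉ X₀.zeroLocus ({g} : Set Γ(X₀, ⊤)) := fun z hz hzm => hgS z ⟨hz, hzm⟩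
  have H := equidim_hyper f₀ x₀ hf₀ g hgx hmax
  have hr : Set.range (Scheme.IdealSheafData.vanishingIdeal
      ⟨X₀.zeroLocus ({g} : Set Γ(X₀, ⊤)), X₀.zeroLocus_isClosed _⟩).subschemeι =
      X₀.zeroLocus ({g} : Set Γ(X₀, ⊤)) := by
    rw [Scheme.IdealSheafData.range_subschemeι, Scheme.IdealSheafData.coe_support_vanishingIdeal]
    rfl
  have hxr : x₀ ∈ Set.range (Scheme.IdealSheafData.vanishingIdeal
      ⟨X₀.zeroLocus ({g} : Set Γ(X₀, ⊤)), X₀.zeroLocus_isClosed _⟩).subschemeι := by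
    rw [hr]; exact hgx
  obtain ⟨w₁, hw₁⟩ := hxr
  obtain ⟨e', hfx', hL, -⟩ := hyper_core f₀ x₀ hf₀ g hmax _ hr w₁ hw₁
  have hee : e' = e := by
    rw [he₀] at hfx'
    have : e + 1 = e' + 1 := by exact_mod_cast hfx'
    omega
  subst hee
  exact ⟨_, _, w₁, inferInstance, hw₁, H.1 w₁ hw₁, hL⟩


theorem hasQuasiSection_aux (Y : Scheme.{u}) [IrreducibleSpace Y] [IsLocallyNoetherian Y] :
    ∀ (e : ℕ) (X : Scheme.{u}) (f : X ⟶ Y) [LocallyOfFiniteType f] (x : X),
      EGA43.IsEquidimAt f x → FlatMor.fibreDimAt f x = (e : WithBot ℕ∞) →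
      (∀ x' : X, f.base x' = f.base x → x ⤳ x' → x' = x) → HasQuasiSection f x := by
  intro e
  induction e with
  | zero =>
    intro X f _ x hf h0 _
    exact base_case f x hf h0
  | succ e ih =>
    intro X f _ x hf he hcl
    haveI hXN : IsLocallyNoetherian X := LocallyOfFiniteType.isLocallyNoetherian f
    obtain ⟨U₀, hU₀, hxU₀, -⟩ := exists_isAffineOpen_mem_and_subset (x := x) (U := ⊤) trivial
    haveI : IsAffine U₀.toScheme := hU₀
    haveI : IsNoetherianRing Γ(X, U₀) := IsLocallyNoetherian.component_noetherian ⟨U₀, hU₀⟩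
    haveI : NoetherianSpace ↥U₀ := noetherianSpace_of_isAffineOpen U₀ hU₀
    haveI : NoetherianSpace ↥U₀.toScheme := ‹NoetherianSpace ↥U₀›
    have hf₀ := isEquidimAt_restrict f x hf U₀ hxU₀
    have he₀ : FlatMor.fibreDimAt (U₀.ι ≫ f) ⟨x, hxU₀⟩ = ((e + 1 : ℕ) : WithBot ℕ∞) := by
      rw [fibreDimAt_comp_opens_ι f U₀ ⟨x, hxU₀⟩]; exact he
    have hcl₀ : ∀ x' : U₀.toScheme, (U₀.ι ≫ f).base x' = (U₀.ι ≫ f).base ⟨x, hxU₀⟩ →
        (⟨x, hxU₀⟩ : U₀.toScheme) ⤳ x' → x' = ⟨x, hxU₀⟩ := by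
      intro x' hfx' hsp
      have := hcl (U₀.ι x') hfx' (hsp.map U₀.ι.continuous)
      exact U₀.ι.isOpenEmbedding.injective this
    obtain ⟨Z₁, ι₁, w₁, hι₁, hw₁, hEq₁, hfd₁⟩ :=
      step_affine (U₀.ι ≫ f) ⟨x, hxU₀⟩ hf₀ e he₀ hcl₀
    have hcl₁ : ∀ w' : Z₁, (ι₁ ≫ U₀.ι ≫ f).base w' = (ι₁ ≫ U₀.ι ≫ f).base w₁ → w₁ ⤳ w' →
        w' = w₁ := by
      intro w' hfw' hsp
      have h1 : ι₁ w' = ⟨x, hxU₀⟩ := by
        apply hcl₀ (ι₁ w')
        · have : (U₀.ι ≫ f).base (ι₁ w') = (U₀.ι ≫ f).base (ι₁ w₁) := hfw'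
          rw [this, hw₁]
        · rw [← hw₁]; exact hsp.map ι₁.continuous
      exact ι₁.isEmbedding.injective (h1.trans hw₁.symm)
    obtain ⟨T, i₁, h1, h2, h3, h4, h5, h6, h7, h8⟩ := ih Z₁ (ι₁ ≫ U₀.ι ≫ f) w₁ hEq₁ hfd₁ hcl₁
    have hassoc : (i₁ ≫ ι₁ ≫ U₀.ι) ≫ f = i₁ ≫ ι₁ ≫ U₀.ι ≫ f := by
      simp only [Category.assoc]
    refine ⟨T, i₁ ≫ ι₁ ≫ U₀.ι, inferInstance, h2, h3, ?_, ?_, ?_, ?_, ?_⟩
    · obtain ⟨t, ht⟩ := h4
      refine ⟨t, ?_⟩
      change U₀.ι (ι₁ (i₁ t)) = x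
      have ht' : i₁ t = w₁ := ht
      rw [ht', hw₁]
      rfl
    · rw [hassoc]; exact h5
    · rw [hassoc]; exact h6
    · rw [hassoc]; exact h7
    · rw [hassoc]; exact h8

/-- EGA IV 14.5.3 (= S4944). -/
theorem hasQuasiSection {X Y : Scheme.{u}} [IrreducibleSpace Y] [IsLocallyNoetherian Y]
    (f : X ⟶ Y) [LocallyOfFiniteType f] (x : X) (hf : EGA43.IsEquidimAt f x)
    (hcl : ∀ x' : X, f.base x' = f.base x → x ⤳ x' → x' = x) : HasQuasiSection f x := by
  obtain ⟨e, he⟩ := exists_nat_fibreDimAt f x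
  exact hasQuasiSection_aux Y e X f x hf he hcl

end Groth.Agent.Lib.helper3.QuasiSection
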