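import Mathlib
import Groth.Prelude.Def_EGA43
import Groth.Agent.Lib.Helper3.QuasiSection
import Groth.Agent.S9381
/-!
# Helper library (helper3): EGA IV 14.5.x — quasi-sections over a base of dimension `≤ 1`.
-/

set_option autoImplicit false
universe u
open CategoryTheory AlgebraicGeometry Function TopologicalSpace Topology

namespace Groth.Agent.Lib.helper3.QuasiSection

open Groth.Agent.Lib.helper3.DimIneq Groth.Agent.Lib.helper3.FTField
  Groth.Agent.Lib.helper3.FibreField Groth.Agent.Lib.helper3.DimFibre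
  Groth.Agent.Lib.helper3.RelDim Groth.Agent.Lib.helper3.EquidimAt
  Groth.Agent.Lib.helper3.QFinTop Groth.Agent.Lib.helper3.EquidimIrr
  Groth.Agent.Lib.helper3.OpenAtDim Groth.Agent.Lib.helper3.SubStalk
  Groth.Agent.Lib.helper3.DimCriteria Groth.Agent.Lib.helper3.EquidimSub
  Groth.Agent.Lib.helper3.EquidimHyper

/-- an irreducible scheme dominating an irreducible base is equidimensional over it at every point
whose image has a local ring of dimension `≤ 1`. -/
theorem isEquidimAt_of_dim_le_one {Z Y : Scheme.{u}} [IrreducibleSpace Y] [IsLocallyNoetherian Y]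
    [IrreducibleSpace Z] (g : Z ⟶ Y) [LocallyOfFiniteType g] (w : Z)
    (hdim : ringKrullDim (Y.presheaf.stalk (g w)) ≤ 1)
    (hgen : g (genericPoint Z) = genericPoint Y) : EGA43.IsEquidimAt g w := by
  haveI hZN : IsLocallyNoetherian Z := LocallyOfFiniteType.isLocallyNoetherian g
  obtain ⟨e, -, he, -, -⟩ := fibreDimAt_eq_add g (genericPoint Z)
  have hcomp : closure ({g (genericPoint Z)} : Set Y) ∈ irreducibleComponents Y := by
    rw [hgen, irreducibleComponents_eq_singleton]; exact (genericPoint_spec Y).def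
  apply isEquidimAt_of_irreducible g w e he hcomp
  obtain ⟨z', N, hz'w, hgz', hz'max, htdz', hfd⟩ := exists_maximal_fibre_point g w
  rw [hfd]
  rw [← hgz'] at hdim
  obtain ⟨V, hV, hyV, -⟩ := exists_isAffineOpen_mem_and_subset (x := g z') (U := ⊤) trivial
  obtain ⟨U, hU, hz'U, e'⟩ := exists_isAffineOpen_mem_and_subset (x := z') (U := g ⁻¹ᵁ V) hyV
  haveI : IsNoetherianRing Γ(Y, V) := IsLocallyNoetherian.component_noetherian ⟨V, hV⟩
  haveI : IsNoetherianRing Γ(Z, U) := IsLocallyNoetherian.component_noetherian ⟨U, hU⟩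
  have hξz' : genericPoint Z ⤳ z' := genericPoint_specializes z'
  have hξU : genericPoint Z ∈ U := hξz'.mem_open U.isOpen hz'U
  have hle : (hU.primeIdealOf ⟨genericPoint Z, hξU⟩).asIdeal ≤ (hU.primeIdealOf ⟨z', hz'U⟩).asIdeal :=
    (specializes_iff_primeIdealOf_le hU _ _ hξU hz'U).mp hξz'
  have hle' : (hV.primeIdealOf ⟨g (genericPoint Z), e' hξU⟩).asIdeal ≤
      (hV.primeIdealOf ⟨g z', e' hz'U⟩).asIdeal :=
    (specializes_iff_primeIdealOf_le hV _ _ (e' hξU) (e' hz'U)).mp (hξz'.map g.continuous)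
  have key := dimension_inequality_specializes g hV hU e' (genericPoint Z) z' hξU hz'U hle N e
    htdz' he
  haveI := map_mk_isPrime _ _ hle
  haveI := map_mk_isPrime _ _ hle'
  obtain ⟨a, ha⟩ := ENat.ne_top_iff_exists.mp
    (Ideal.height_ne_top_of_isPrime (I := (hU.primeIdealOf ⟨z', hz'U⟩).asIdeal.map
      (Ideal.Quotient.mk (hU.primeIdealOf ⟨genericPoint Z, hξU⟩).asIdeal)))
  obtain ⟨c, hc⟩ := ENat.ne_top_iff_exists.mp
    (Ideal.height_ne_top_of_isPrime (I := (hV.primeIdealOf ⟨g z', e' hz'U⟩).asIdeal.map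
      (Ideal.Quotient.mk (hV.primeIdealOf ⟨g (genericPoint Z), e' hξU⟩).asIdeal)))
  obtain ⟨c0, hc0⟩ := ENat.ne_top_iff_exists.mp
    (Ideal.height_ne_top_of_isPrime (I := (hV.primeIdealOf ⟨g z', e' hz'U⟩).asIdeal))
  have hcle := FTField.height_map_le _ _ hle'
  rw [ringKrullDim_stalk_eq_height hV (g z') (e' hz'U), ← hc0] at hdim
  have hc01 : c0 ≤ 1 := by exact_mod_cast hdim
  rw [← hc, ← hc0] at hcle
  have hcc0 : c ≤ c0 := by exact_mod_cast hcle
  have hcase : c = 0 ∨ 1 ≤ a := by
    by_cases hη : g z' = g (genericPoint Z)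
    · left
      have hle'' : (hV.primeIdealOf ⟨g z', e' hz'U⟩).asIdeal ≤
          (hV.primeIdealOf ⟨g (genericPoint Z), e' hξU⟩).asIdeal :=
        (specializes_iff_primeIdealOf_le hV _ _ (e' hz'U) (e' hξU)).mp (hη ▸ specializes_rfl)
      have hbot : (hV.primeIdealOf ⟨g z', e' hz'U⟩).asIdeal.map
          (Ideal.Quotient.mk (hV.primeIdealOf ⟨g (genericPoint Z), e' hξU⟩).asIdeal) = ⊥ := by
        rw [eq_bot_iff]
        refine (Ideal.map_mono hle'').trans ?_
        rw [Ideal.map_quotient_self]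
      rw [hbot] at hc
      haveI : IsDomain (Γ(Y, V) ⧸ (hV.primeIdealOf ⟨g (genericPoint Z), e' hξU⟩).asIdeal) :=
        Ideal.Quotient.isDomain _
      rw [Ideal.height_bot] at hc
      exact_mod_cast hc
    · right
      have hlt : (hU.primeIdealOf ⟨genericPoint Z, hξU⟩).asIdeal <
          (hU.primeIdealOf ⟨z', hz'U⟩).asIdeal := by
        refine lt_of_le_of_ne hle ?_
        intro heq
        have hsp : z' ⤳ genericPoint Z :=
          (specializes_iff_primeIdealOf_le hU _ _ hz'U hξU).mpr (le_of_eq heq.symm)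
        have : z' = genericPoint Z := (hsp.antisymm hξz').eq
        exact hη (by rw [this])
      have h1 := one_le_height_map _ _ hlt
      rw [← ha] at h1
      exact_mod_cast h1
  rw [← ha, ← hc] at key
  have key' : a + N ≤ c + e := by exact_mod_cast key
  have : N ≤ e := by
    rcases hcase with h | h <;> omega
  exact_mod_cast this


/-- every point of a fibre specializes, inside a given closed set, to a point closed in the fibre. -/
theorem exists_closed_in_fibre {X Y : Scheme.{u}} (f : X ⟶ Y) [LocallyOfFiniteType f] (x₁ : X) :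
    ∃ x : X, x₁ ⤳ x ∧ f.base x = f.base x₁ ∧
      ∀ x' : X, f.base x' = f.base x₁ → x ⤳ x' → x' = x := by
  set Zc : TopologicalSpace.Closeds X := ⟨closure {x₁}, isClosed_closure⟩ with hZc
  set ι := (Scheme.IdealSheafData.vanishingIdeal Zc).subschemeι with hι
  have hr : Set.range ι = closure {x₁} := by
    rw [hι, Scheme.IdealSheafData.range_subschemeι,
      Scheme.IdealSheafData.coe_support_vanishingIdeal]
    rfl
  obtain ⟨w₁, hw₁⟩ : x₁ ∈ Set.range ι := by rw [hr]; exact subset_closure rfl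
  have hne : Nonempty ((ι ≫ f).fiber (f x₁)) :=
    ⟨((ι ≫ f).fiberHomeo (f x₁)).symm ⟨w₁, by change f (ι w₁) = f x₁; rw [hw₁]⟩⟩
  obtain ⟨w, hw, htd⟩ := exists_td_eq_zero (ι ≫ f) (f x₁) hne
  rw [td_comp_of_surjectiveOnStalks ι f w] at htd
  refine ⟨ι w, ?_, hw, ?_⟩
  · rw [specializes_iff_mem_closure, ← hr]; exact ⟨w, rfl⟩
  · intro x' hfx' hsp
    by_contra hne'
    have hlt : td (f.residueFieldMap x').hom < td (f.residueFieldMap (ι w)).hom :=
      Groth.Agent.S9381.result f (ι w) x' hsp (fun h => hne' h.symm)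
        ((show f.base (ι w) = f.base x₁ from hw).trans hfx'.symm)
    rw [htd] at hlt
    exact not_lt_zero hlt

/-- EGA IV 14.5.x (= S4946). -/
theorem quasiSection_dedekind {X Y : Scheme.{u}} [IrreducibleSpace Y]
    [IsLocallyNoetherian Y] (hY : ∀ y : Y, IsRegularLocalRing (Y.presheaf.stalk y) ∧ ringKrullDim (Y.presheaf.stalk y) ≤ 1)
    (f : X ⟶ Y) [LocallyOfFiniteType f] (y : Y) :
    (∀ Z ∈ irreducibleComponents (X : Type u), (Z ∩ f.base ⁻¹' {y}).Nonempty → Dense (f.base '' Z)) ↔
      ∀ x : X, f.base x = y → (∀ x' : X, f.base x' = y → x ⤳ x' → x' = x) →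
        ∀ Xi ∈ irreducibleComponents (X : Type u), x ∈ Xi →
          ∃ (T : Scheme.{u}) (i : T ⟶ X), IsImmersion i ∧ IrreducibleSpace ↥T ∧ IsReduced T ∧ x ∈ Set.range i.base ∧
            Set.range i.base ⊆ Xi ∧
            LocallyOfFiniteType (i ≫ f) ∧ LocallyQuasiFinite (i ≫ f) ∧ QuasiCompact (i ≫ f) ∧ IsDominant (i ≫ f) := by
  constructor
  · intro hd x hfx hxcl Xi hXi hxXi
    obtain ⟨ξ, hξ⟩ := QuasiSober.sober hXi.1 (isClosed_of_mem_irreducibleComponents Xi hXi)
    have hξc : closure ({ξ} : Set X) = Xi := hξ.def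
    have hdense := hd Xi hXi ⟨x, hxXi, hfx⟩
    have hfξ : f ξ = genericPoint Y := by
      apply eq_genericPoint_of_closure_mem
      rw [irreducibleComponents_eq_singleton]
      have h1 : closure ({f ξ} : Set Y) = closure (f.base '' closure {ξ}) := by
        rw [closure_image_closure f.continuous, Set.image_singleton]
      rw [Set.mem_singleton_iff, h1, hξc]
      exact hdense.closure_eq
    set Zc : TopologicalSpace.Closeds X := ⟨closure {ξ}, isClosed_closure⟩ with hZc
    set ι := (Scheme.IdealSheafData.vanishingIdeal Zc).subschemeι with hι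
    have hr : Set.range ι = closure {ξ} := by
      rw [hι, Scheme.IdealSheafData.range_subschemeι,
        Scheme.IdealSheafData.coe_support_vanishingIdeal]
      rfl
    haveI : IrreducibleSpace (Scheme.IdealSheafData.vanishingIdeal Zc).subscheme :=
      irreducibleSpace_of_closedImmersion ι ξ hr
    obtain ⟨w, hw⟩ : x ∈ Set.range ι := by rw [hr, hξc]; exact hxXi
    obtain ⟨ξZ, hξZ⟩ : ξ ∈ Set.range ι := by rw [hr]; exact subset_closure rfl
    have hgp : genericPoint (Scheme.IdealSheafData.vanishingIdeal Zc).subscheme = ξZ := by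
      apply genericPoint_eq_of_forall_specializes
      intro z
      apply ι.isEmbedding.isInducing.specializes_iff.mp
      rw [hξZ, specializes_iff_mem_closure, ← hr]
      exact ⟨z, rfl⟩
    have hgen : (ι ≫ f) (genericPoint (Scheme.IdealSheafData.vanishingIdeal Zc).subscheme) =
        genericPoint Y := by
      rw [hgp]
      change f (ι ξZ) = _
      rw [hξZ]; exact hfξ
    have hEq := isEquidimAt_of_dim_le_one (ι ≫ f) w (hY _).2 hgen
    have hclw : ∀ w' : (Scheme.IdealSheafData.vanishingIdeal Zc).subscheme,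
        (ι ≫ f).base w' = (ι ≫ f).base w → w ⤳ w' → w' = w := by
      intro w' hfw' hsp
      have h1 : ι w' = x := by
        apply hxcl (ι w')
        · have : f.base (ι w') = f.base (ι w) := hfw'
          rw [this, hw]; exact hfx
        · rw [← hw]; exact hsp.map ι.continuous
      exact ι.isEmbedding.injective (h1.trans hw.symm)
    obtain ⟨T, i₁, h1, h2, h3, h4, h5, h6, h7, h8⟩ := hasQuasiSection (ι ≫ f) w hEq hclw
    have hassoc : (i₁ ≫ ι) ≫ f = i₁ ≫ ι ≫ f := Category.assoc _ _ _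
    refine ⟨T, i₁ ≫ ι, inferInstance, h2, h3, ?_, ?_, ?_, ?_, ?_, ?_⟩
    · obtain ⟨t, ht⟩ := h4
      refine ⟨t, ?_⟩
      change ι (i₁ t) = x
      have ht' : i₁ t = w := ht
      rw [ht', hw]
    · rintro _ ⟨t, rfl⟩
      rw [← hξc, ← hr]
      exact ⟨i₁ t, rfl⟩
    · rw [hassoc]; exact h5
    · rw [hassoc]; exact h6
    · rw [hassoc]; exact h7
    · rw [hassoc]; exact h8
  · rintro he Z hZ ⟨x₁, hx₁Z, hx₁y⟩
    obtain ⟨x, hsp, hfx, hxcl⟩ := exists_closed_in_fibre f x₁
    have hx₁y' : f.base x₁ = y := hx₁y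
    have hxZ : x ∈ Z :=
      hsp.mem_closed (isClosed_of_mem_irreducibleComponents Z hZ) hx₁Z
    obtain ⟨T, i, -, -, -, -, hsub, -, -, -, hdom⟩ := he x (hfx.trans hx₁y')
      (fun x' hx' => hxcl x' (hx'.trans hx₁y'.symm)) Z hZ hxZ
    apply hdom.denseRange.mono
    rintro _ ⟨t, rfl⟩
    exact ⟨i t, hsub ⟨t, rfl⟩, rfl⟩

end Groth.Agent.Lib.helper3.QuasiSection
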