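import Mathlib
import Groth.Prelude.Def_CurvBase
import Groth.Agent.Lib.Helper3.FTFieldClosureDim
import Groth.Agent.Lib.Helper3.IrredDim
import Groth.Agent.Lib.Helper3.QuasiSectionDed
import Groth.Agent.Lib.Helper28.QCClosure

/-!
# Dominant morphisms of varieties: an irreducible closed subset of the right dimension (helper3)
-/

set_option autoImplicit false
universe u
open CategoryTheory CategoryTheory.Limits AlgebraicGeometry

namespace Groth.Agent.Lib.helper3.DomClosedDim

open Groth.Agent.Lib.helper3.DimIneq Groth.Agent.Lib.helper3.FTField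
  Groth.Agent.Lib.helper3.IrredDim Groth.Agent.Lib.helper3.QuasiSection

theorem exists_closed_dominant_dim_eq (k : Type u) [Field k] [IsAlgClosed k]
    (X Y : Scheme.{u}) [X.Over (Spec (CommRingCat.of k))] [Y.Over (Spec (CommRingCat.of k))]
    [IsReduced X] [IsSeparated (X ↘ (Spec (CommRingCat.of k)))] [LocallyOfFiniteType (X ↘ (Spec (CommRingCat.of k)))] [QuasiCompact (X ↘ (Spec (CommRingCat.of k)))]
    [IsReduced Y] [IsSeparated (Y ↘ (Spec (CommRingCat.of k)))] [LocallyOfFiniteType (Y ↘ (Spec (CommRingCat.of k)))] [QuasiCompact (Y ↘ (Spec (CommRingCat.of k)))] [IrreducibleSpace Y]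
    (f : X ⟶ Y) (hf : f ≫ (Y ↘ (Spec (CommRingCat.of k))) = (X ↘ (Spec (CommRingCat.of k)))) [IsDominant f] :
    ∃ Z : Set X, IsClosed Z ∧ IsIrreducible Z ∧ topologicalKrullDim ↥Z = topologicalKrullDim Y ∧
      Dense (f '' Z) := by
  set qX := X ↘ Spec (CommRingCat.of k) with hqX
  set qY := Y ↘ Spec (CommRingCat.of k) with hqY
  haveI : QuasiCompact (f ≫ qY) := by rw [hf]; infer_instance
  haveI : QuasiCompact f := QuasiCompact.of_comp f qY
  haveI : LocallyOfFiniteType (f ≫ qY) := by rw [hf]; infer_instance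
  haveI : LocallyOfFiniteType f := locallyOfFiniteType_of_comp f qY
  set η := genericPoint Y with hη
  -- the generic point is in the image
  obtain ⟨x₁, -, hx₁⟩ :=
    Groth.Agent.Lib.helper28.QCClosure.exists_specializes_of_mem_closure_image f Set.univ
      isClosed_univ η (by
        rw [Set.image_univ]
        exact f.denseRange.closure_eq ▸ Set.mem_univ η)
  have hfx₁ : f x₁ = η := ((genericPoint_specializes (f x₁)).antisymm hx₁).eq.symm
  obtain ⟨x, -, hfx, hcl⟩ := Groth.Agent.Lib.helper3.QuasiSection.exists_closed_in_fibre f x₁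
  have hfxη : f x = η := hfx.trans hfx₁
  have htd0 : td (f.residueFieldMap x).hom = 0 :=
    td_eq_zero_of_closed_in_fibre f x (fun x' hx' hsp => hcl x' (hx'.trans hfx) hsp)
  have hadd := trdeg_residueField_add k qX qY f hf x
  rw [htd0, add_zero] at hadd
  obtain ⟨n, hn⟩ := exists_nat_trdeg_residueField k Y (f x)
  have hnX : @Algebra.trdeg k (X.residueField x) _ _ (Curv2.resAlgebra k X x) = n := by
    rw [← hn]
    exact hadd
  refine ⟨closure {x}, isClosed_closure, isIrreducible_singleton.closure, ?_, ?_⟩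
  · rw [dim_closure_eq_trdeg k X x n hnX, ← dim_closure_eq_trdeg k Y (f x) n hn, hfxη]
    have huniv : closure ({η} : Set Y) = Set.univ := (genericPoint_spec Y).def
    rw [huniv]
    exact (IsHomeomorph.topologicalKrullDim_eq _
      (Homeomorph.Set.univ Y).isHomeomorph)
  · have h1 : closure ({f x} : Set Y) ⊆ closure (f '' closure {x}) :=
      closure_mono (by
        rintro _ rfl
        exact ⟨x, subset_closure rfl, rfl⟩)
    rw [hfxη, (genericPoint_spec Y).def] at h1
    exact dense_iff_closure_eq.mpr (Set.univ_subset_iff.mp h1)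

end Groth.Agent.Lib.helper3.DomClosedDim
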