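import Groth.Agent.Lib.Helper5.RangeDim
import Groth.Agent.Lib.Helper3.DomClosedDim
import Groth.Agent.Lib.Helper3.FTFieldDim
import Groth.Agent.Lib.Helper3.FTFieldClosureDim
import Groth.Agent.Lib.Helper28.QCClosure
/-!
# Dominance and dimension (helper3)

`Y`, `Z` irreducible of finite type over a field `k` of the same dimension, `η : Y ⟶ Z` dominant,
`ρ : X ⟶ Y`: then `ρ ≫ η` is dominant iff `ρ` is (`isDominant_comp_iff`).
-/

set_option autoImplicit false
universe u
open CategoryTheory AlgebraicGeometry Function Topology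

namespace Groth.Agent.Lib.helper3.DomDimEq

open Groth.Agent.Lib.helper3.FTField

theorem dim_eq_trdeg_genericPoint (k : Type u) [Field k] (Y : Scheme.{u})
    [Y.Over (Spec (CommRingCat.of k))] [LocallyOfFiniteType (Y ↘ Spec (CommRingCat.of k))]
    [IrreducibleSpace Y] (n : ℕ)
    (hn : @Algebra.trdeg k (Y.residueField (genericPoint Y)) _ _
      (Curv2.resAlgebra k Y (genericPoint Y)) = n) :
    topologicalKrullDim Y = (n : WithBot ℕ∞) := by
  rw [← dim_closure_eq_trdeg k Y (genericPoint Y) n hn]
  have huniv : closure ({genericPoint Y} : Set Y) = Set.univ := (genericPoint_spec Y).def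
  rw [huniv]
  exact (IsHomeomorph.topologicalKrullDim_eq _ (Homeomorph.Set.univ Y).isHomeomorph).symm

theorem isDominant_comp_iff (k : Type u) [Field k]
    (X Y Z : Scheme.{u}) [X.Over (Spec (CommRingCat.of k))] [Y.Over (Spec (CommRingCat.of k))]
    [Z.Over (Spec (CommRingCat.of k))]
    [QuasiCompact (X ↘ Spec (CommRingCat.of k))]
    [LocallyOfFiniteType (Y ↘ Spec (CommRingCat.of k))]
    [LocallyOfFiniteType (Z ↘ Spec (CommRingCat.of k))]
    [IrreducibleSpace Y] [IrreducibleSpace Z] (hdim : topologicalKrullDim Y = topologicalKrullDim Z)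
    (ρ : X ⟶ Y) [ρ.IsOver (Spec (CommRingCat.of k))] (η : Y ⟶ Z) [η.IsOver (Spec (CommRingCat.of k))]
    [IsDominant η] :
    IsDominant (ρ ≫ η) ↔ IsDominant ρ := by
  constructor
  · intro hd
    set qX := X ↘ Spec (CommRingCat.of k) with hqX
    set qY := Y ↘ Spec (CommRingCat.of k) with hqY
    set qZ := Z ↘ Spec (CommRingCat.of k) with hqZ
    have hη : η ≫ qZ = qY := comp_over η (Spec (CommRingCat.of k))
    have hρ : ρ ≫ qY = qX := comp_over ρ (Spec (CommRingCat.of k))
    have hρη : (ρ ≫ η) ≫ qZ = qX := by rw [Category.assoc, hη, hρ]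
    haveI : IsLocallyNoetherian Z :=
      Groth.Agent.Lib.helper3.IrredDim.isLocallyNoetherian_of_lft k Z
    haveI : CompactSpace X := QuasiCompact.compactSpace_of_compactSpace qX
    haveI : QuasiCompact (ρ ≫ η) := inferInstance
    set ζ := genericPoint Z with hζ
    obtain ⟨x₁, -, hx₁⟩ :=
      Groth.Agent.Lib.helper28.QCClosure.exists_specializes_of_mem_closure_image (ρ ≫ η) Set.univ
        isClosed_univ ζ (by
          rw [Set.image_univ]
          exact (ρ ≫ η).denseRange.closure_eq ▸ Set.mem_univ ζ)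
    have hfx₁ : (ρ ≫ η) x₁ = ζ := ((genericPoint_specializes ((ρ ≫ η) x₁)).antisymm hx₁).eq.symm
    set y := ρ x₁ with hy
    have hηy : η y = ζ := by rw [← hfx₁]; rfl
    obtain ⟨n, hn⟩ := exists_nat_trdeg_residueField k Z ζ
    obtain ⟨m, hm⟩ := exists_nat_trdeg_residueField k Y y
    obtain ⟨m', hm'⟩ := exists_nat_trdeg_residueField k Y (genericPoint Y)
    have h1 := trdeg_residueField_le_of_hom k qZ qY η hη y
    rw [hηy] at h1
    have h1' : @Algebra.trdeg k (Z.residueField ζ) _ _ (Curv2.resAlgebra k Z ζ) ≤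
        @Algebra.trdeg k (Y.residueField y) _ _ (Curv2.resAlgebra k Y y) := h1
    rw [hn, hm] at h1'
    have hnm : n ≤ m := by exact_mod_cast h1'
    have hZ := dim_eq_trdeg_genericPoint k Z n hn
    have hY := dim_eq_trdeg_genericPoint k Y m' hm'
    have hm'n : m' = n := by
      rw [hY, hZ] at hdim
      exact_mod_cast hdim
    -- y is the generic point
    have hsp : y ⤳ genericPoint Y := by
      by_contra hcon
      have := Groth.Agent.Lib.helper5.RangeDim.trdeg_add_one_le_of_specializes k Y
        (genericPoint Y) y (genericPoint_specializes y) hcon m' m hm' hm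
      omega
    have hyeq : y = genericPoint Y := (hsp.antisymm (genericPoint_specializes y)).eq
    refine ⟨?_⟩
    rw [DenseRange, dense_iff_closure_eq, ← Set.univ_subset_iff, ← (genericPoint_spec Y).def]
    exact closure_mono (by
      rintro _ rfl
      exact ⟨x₁, hyeq⟩)
  · intro hd
    infer_instance

end Groth.Agent.Lib.helper3.DomDimEq
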