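import Mathlib.AlgebraicGeometry.Noetherian
import Mathlib.AlgebraicGeometry.Morphisms.FlatDescent
import Mathlib.AlgebraicGeometry.Morphisms.UniversallyOpen
import Mathlib.RingTheory.Flat.FaithfullyFlat.Algebra

/-!
# Descent of (local) Noetherianity along fppf morphisms
-/

set_option autoImplicit false
open CategoryTheory CategoryTheory.Limits AlgebraicGeometry Opposite
universe u

namespace Groth.Agent.Lib.helper3

/-- A ring with a faithfully flat Noetherian algebra is Noetherian. -/
lemma isNoetherianRing_of_faithfullyFlat (A B : Type*) [CommRing A] [CommRing B] [Algebra A B]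
    [Module.FaithfullyFlat A B] [IsNoetherianRing B] : IsNoetherianRing A := by
  rw [isNoetherianRing_iff, isNoetherian_iff'] at *
  let e : Ideal A ↪o Ideal B :=
    { toFun := Ideal.map (algebraMap A B)
      inj' := Ideal.map_injective_of_faithfullyFlat
      map_rel_iff' := by
        intro I J
        constructor
        · intro (h : Ideal.map (algebraMap A B) I ≤ Ideal.map (algebraMap A B) J)
          have := Ideal.comap_mono (f := algebraMap A B) h
          rwa [Ideal.comap_map_eq_self_of_faithfullyFlat,
            Ideal.comap_map_eq_self_of_faithfullyFlat] at this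
        · exact fun h ↦ Ideal.map_mono h }
  exact e.wellFoundedGT

end Groth.Agent.Lib.helper3

namespace Groth.Agent.Lib.helper3

/-- Local Noetherianity descends along fppf covers. -/
theorem isLocallyNoetherian_of_fppf {X Y : Scheme.{u}} (f : X ⟶ Y) [Surjective f] [Flat f]
    [LocallyOfFinitePresentation f] [IsLocallyNoetherian X] : IsLocallyNoetherian Y := by
  rw [isLocallyNoetherian_iff_of_affine_openCover Y.affineCover]
  intro i
  let f' := pullback.snd f (Y.affineCover.f i)
  have : IsLocallyNoetherian (pullback f (Y.affineCover.f i)) :=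
    isLocallyNoetherian_of_isOpenImmersion (pullback.fst f (Y.affineCover.f i))
  obtain ⟨W, hW, e⟩ : ∃ W : (pullback f (Y.affineCover.f i)).Opens,
      IsCompact (W : Set ↥(pullback f (Y.affineCover.f i))) ∧ f' '' (W : Set ↥(pullback f (Y.affineCover.f i))) = Set.univ :=
    f'.isOpenMap.exists_opens_image_eq_of_prespectralSpace
      f'.continuous (by simp [f'.surjective.range_eq]) isOpen_univ isCompact_univ
  have : CompactSpace W := isCompact_iff_compactSpace.mp hW
  obtain ⟨T, p, hsurj, hP, hT⟩ := Scheme.exists_hom_isAffine_of_isZariskiLocalAtSource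
    (@Flat ⊓ @LocallyOfFiniteType) (W : Scheme)
  have : Flat p := hP.1
  have : LocallyOfFiniteType p := hP.2
  let q := p ≫ W.ι ≫ f'
  have : IsLocallyNoetherian T := LocallyOfFiniteType.isLocallyNoetherian (p ≫ W.ι)
  have hTN : IsNoetherianRing Γ(T, ⊤) :=
    IsLocallyNoetherian.component_noetherian ⟨⊤, isAffineOpen_top T⟩
  have hsq : Surjective q := by
    constructor
    intro v
    obtain ⟨w, hw, rfl⟩ := e.ge (Set.mem_univ v)
    obtain ⟨t, ht⟩ := hsurj.surj ⟨w, hw⟩
    refine ⟨t, ?_⟩
    simp only [q, Scheme.Hom.comp_apply, ht]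
    rfl
  have hfq : Flat q := inferInstance
  have hff : q.appTop.hom.FaithfullyFlat :=
    (Flat.flat_and_surjective_iff_faithfullyFlat_of_isAffine q).mp ⟨hfq, hsq⟩
  algebraize [q.appTop.hom]
  exact isNoetherianRing_of_faithfullyFlat Γ(Y.affineCover.X i, ⊤) Γ(T, ⊤)

end Groth.Agent.Lib.helper3
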