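import Mathlib
import Groth.Agent.Lib.Helper3.GeomRed2
import Groth.Agent.Lib.Helper3.GeomIrr2

/-!
Geometric reducedness can be tested on finite purely inseparable extensions (helper3).
-/

set_option autoImplicit false
universe u

namespace Groth.Agent.Lib.helper3.GeomRed

open CategoryTheory Limits AlgebraicGeometry TensorProduct

/-- if `k' ⊗ S` is reduced for all finite purely inseparable `k'/k` then `S` is geometrically
reduced over `k` -/
theorem isGeometricallyReduced_of_finite_purelyInseparable {k S : Type u} [Field k] [CommRing S]
    [Algebra k S]
    (h : ∀ (k' : Type u) [Field k'] [Algebra k k'] [Module.Finite k k'] [IsPurelyInseparable k k'],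
      _root_.IsReduced (k' ⊗[k] S)) :
    Algebra.IsGeometricallyReduced k S := by
  have hE : _root_.IsReduced ((perfectClosure k (AlgebraicClosure k)) ⊗[k] S) := by
    refine ⟨fun a ha => ?_⟩
    obtain ⟨F, hF, a', rfl⟩ := GeomIrr.exists_finite_mem_range (R := S) a
    have hpi : IsPurelyInseparable k F :=
      IsPurelyInseparable.tower_bot k F (perfectClosure k (AlgebraicClosure k))
    have hr := h F
    have ha' : IsNilpotent a' := (IsNilpotent.map_iff (GeomIrr.incl_injective F)).mp ha
    rw [ha'.eq_zero, map_zero]
  exact isGeometricallyReduced_of_perfect_ext (perfectClosure k (AlgebraicClosure k)) S hE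

/-- scheme version -/
theorem geometricallyReduced_of_finite_purelyInseparable {k : Type u} [Field k] {X : Scheme.{u}}
    (f : X ⟶ Spec (CommRingCat.of k))
    (h : ∀ (k' : Type u) [Field k'] [Algebra k k'] [Module.Finite k k'] [IsPurelyInseparable k k'],
      AlgebraicGeometry.IsReduced
        (pullback f (Spec.map (CommRingCat.ofHom (algebraMap k k'))))) :
    GeometricallyReduced f := by
  apply geometricallyReduced_of_forall
  intro A _ _ j _ hj
  apply isGeometricallyReduced_of_finite_purelyInseparable
  intro k' _ _ _ _
  exact isReduced_comm A k' (isReduced_tensor_of_isReduced_pullback f k' (h k') A j hj)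

end Groth.Agent.Lib.helper3.GeomRed
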