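import Mathlib

/-!
# Affine charts of scheme-theoretic fibres (helper3)

For `f : X ⟶ Y`, affine opens `U ⊆ Y`, `W ⊆ f⁻¹ U` and `y ∈ U`, the open immersion
`chart : Spec Γ(X, W) ×_{Spec Γ(Y, U)} Spec κ(y) ⟶ f.fiber y`, with range `(f.fiberι y)⁻¹ W`;
consequences for reducedness of the fibre in terms of `Γ(X, W) ⊗[Γ(Y, U)] κ(y)`.
-/

set_option autoImplicit false
universe u
open CategoryTheory CategoryTheory.Limits AlgebraicGeometry TensorProduct

namespace Groth.Agent.Lib.helper3.FibreChart

variable {X Y : Scheme.{u}} (f : X ⟶ Y) {U : Y.Opens} (hU : IsAffineOpen U) {W : X.Opens}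
  (hW : IsAffineOpen W) (e : W ≤ f ⁻¹ᵁ U) (y : Y) (hy : y ∈ U)

theorem SpecMap_evaluation_fromSpec :
    Spec.map (Y.evaluation U y hy) ≫ hU.fromSpec = Y.fromSpecResidueField y := by
  rw [← Scheme.germ_residue, Spec.map_comp, Category.assoc]
  have h1 : Spec.map (Y.presheaf.germ U y hy) ≫ hU.fromSpec = Y.fromSpecStalk y :=
    hU.fromSpecStalk_eq_fromSpecStalk hy
  rw [h1]
  rfl

/-- the affine chart of the fibre. -/
noncomputable def chart :
    pullback (Spec.map (f.appLE U W e)) (Spec.map (Y.evaluation U y hy)) ⟶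
      pullback f (Y.fromSpecResidueField y) :=
  pullback.map _ _ _ _ hW.fromSpec (𝟙 _) hU.fromSpec
    (IsAffineOpen.SpecMap_appLE_fromSpec f hU hW e)
    (by rw [SpecMap_evaluation_fromSpec hU y hy, Category.id_comp])

instance : IsOpenImmersion (chart f hU hW e y hy) := by
  unfold chart
  infer_instance

theorem range_chart :
    Set.range (chart f hU hW e y hy) =
      (pullback.fst f (Y.fromSpecResidueField y)) ⁻¹' (W : Set X) := by
  unfold chart
  rw [Scheme.Pullback.range_map]
  simp only [Scheme.Hom.id_base, TopCat.hom_id, ContinuousMap.coe_id, Set.range_id,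
    Set.preimage_univ, Set.inter_univ, hW.range_fromSpec]

section

variable [Algebra Γ(Y, U) Γ(X, W)] [Algebra Γ(Y, U) (Y.residueField y)]
  (h1 : algebraMap Γ(Y, U) Γ(X, W) = (f.appLE U W e).hom)
  (h2 : algebraMap Γ(Y, U) (Y.residueField y) = (Y.evaluation U y hy).hom)

include hU hW h1 h2 in
/-- if the fibre is reduced then so is the tensor product. -/
theorem isReduced_tensor_of_isReduced_fiber [IsReduced (f.fiber y)] :
    _root_.IsReduced (Γ(X, W) ⊗[Γ(Y, U)] Y.residueField y) := by
  have e1 : f.appLE U W e = CommRingCat.ofHom (algebraMap Γ(Y, U) Γ(X, W)) := by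
    rw [h1]; rfl
  have e2 : Y.evaluation U y hy = CommRingCat.ofHom (algebraMap Γ(Y, U) (Y.residueField y)) := by
    rw [h2]; rfl
  haveI : IsReduced (pullback f (Y.fromSpecResidueField y)) := ‹IsReduced (f.fiber y)›
  haveI : IsReduced (pullback (Spec.map (f.appLE U W e)) (Spec.map (Y.evaluation U y hy))) :=
    isReduced_of_isOpenImmersion (chart f hU hW e y hy)
  have h3 : IsReduced (pullback (Spec.map (CommRingCat.ofHom (algebraMap Γ(Y, U) Γ(X, W))))
      (Spec.map (CommRingCat.ofHom (algebraMap Γ(Y, U) (Y.residueField y))))) := by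
    rw [← e1, ← e2]; infer_instance
  haveI := h3
  haveI : IsReduced (Spec (.of <| Γ(X, W) ⊗[Γ(Y, U)] Y.residueField y)) :=
    isReduced_of_isOpenImmersion (pullbackSpecIso Γ(Y, U) Γ(X, W) (Y.residueField y)).inv
  exact (affine_isReduced_iff (.of <| Γ(X, W) ⊗[Γ(Y, U)] Y.residueField y)).mp inferInstance

include h1 h2 in
/-- if the tensor product is reduced then so is the chart. -/
theorem isReduced_chart_of_isReduced_tensor
    [_root_.IsReduced (Γ(X, W) ⊗[Γ(Y, U)] Y.residueField y)] :
    IsReduced (pullback (Spec.map (f.appLE U W e)) (Spec.map (Y.evaluation U y hy))) := by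
  have e1 : f.appLE U W e = CommRingCat.ofHom (algebraMap Γ(Y, U) Γ(X, W)) := by
    rw [h1]; rfl
  have e2 : Y.evaluation U y hy = CommRingCat.ofHom (algebraMap Γ(Y, U) (Y.residueField y)) := by
    rw [h2]; rfl
  rw [e1, e2]
  haveI : _root_.IsReduced
      (CommRingCat.of (Γ(X, W) ⊗[Γ(Y, U)] Y.residueField y) : CommRingCat) :=
    ‹_root_.IsReduced (Γ(X, W) ⊗[Γ(Y, U)] Y.residueField y)›
  exact isReduced_of_isOpenImmersion (pullbackSpecIso Γ(Y, U) Γ(X, W) (Y.residueField y)).hom

end

include hU in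
/-- the fibre is reduced as soon as it is covered by reduced charts. -/
theorem isReduced_fiber_of_forall_chart
    (hcov : ∀ x : X, f x = y → ∃ (W : X.Opens) (hW : IsAffineOpen W) (e : W ≤ f ⁻¹ᵁ U),
      x ∈ W ∧ IsReduced (pullback (Spec.map (f.appLE U W e)) (Spec.map (Y.evaluation U y hy)))) :
    IsReduced (f.fiber y) := by
  haveI : ∀ z : f.fiber y, _root_.IsReduced ((f.fiber y).presheaf.stalk z) := by
    intro z
    have hfz : f (f.fiberι y z) = y := by
      have h1 : f.fiberι y z ∈ Set.range (f.fiberι y) := ⟨z, rfl⟩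
      rw [f.range_fiberι y] at h1
      exact h1
    obtain ⟨W, hW, e, hxW, hred⟩ := hcov _ hfz
    have hz : z ∈ Set.range (chart f hU hW e y hy) := by
      rw [range_chart]
      exact hxW
    obtain ⟨t, rfl⟩ := hz
    haveI := hred
    exact isReduced_of_injective ((chart f hU hW e y hy).stalkMap t).hom
      ((ConcreteCategory.bijective_of_isIso ((chart f hU hW e y hy).stalkMap t)).injective)
  exact isReduced_of_isReduced_stalk _

end Groth.Agent.Lib.helper3.FibreChart
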