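import Mathlib
import Groth.Agent.Lib.Helper11.GenExact
import Groth.Agent.Lib.Helper11.GenFree9

/-!
# Non-reducedness of the generic fibre spreads out (ring level) (helper3)
-/

set_option autoImplicit false
universe u
open TensorProduct

namespace Groth.Agent.Lib.helper3.GenNonReduced

open Groth.Agent.Lib.helper11.GenFree Groth.Agent.Lib.helper11.GenExact

section

variable {R : Type u} [CommRing R] [IsDomain R] {B : Type u} [CommRing B] [Algebra R B]

attribute [local instance] Algebra.TensorProduct.rightAlgebra in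
/-- a non-reduced generic fibre contains a nonzero nilpotent coming from a nilpotent of `B`. -/
theorem exists_nilpotent_of_not_isReduced
    (h : ¬ IsReduced (FractionRing R ⊗[R] B)) :
    ∃ b : B, IsNilpotent b ∧ (1 : FractionRing R) ⊗ₜ[R] b ≠ 0 := by
  set K := FractionRing R
  set T := K ⊗[R] B
  haveI : IsLocalization (Algebra.algebraMapSubmonoid B (nonZeroDivisors R)) T :=
    IsLocalization.tensorRight (R := R) (S := B) K (nonZeroDivisors R)
  have halg : ∀ x : B, algebraMap B T x = (1 : K) ⊗ₜ[R] x := fun x => rfl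
  rw [isReduced_iff] at h
  push Not at h
  obtain ⟨β, hβnil, hβ0⟩ := h
  obtain ⟨b, s, rfl⟩ := IsLocalization.exists_mk'_eq
    (Algebra.algebraMapSubmonoid B (nonZeroDivisors R)) β
  have hspec : IsLocalization.mk' T b s * algebraMap B T s = algebraMap B T b :=
    IsLocalization.mk'_spec T b s
  have hbnil : IsNilpotent (algebraMap B T b) := by
    rw [← hspec]
    exact (Commute.all _ _).isNilpotent_mul_right hβnil
  have hb0 : algebraMap B T b ≠ 0 := by
    intro hb
    rw [hb] at hspec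
    exact hβ0 ((IsLocalization.map_units T s).mul_left_eq_zero.mp hspec)
  obtain ⟨m, hm⟩ := hbnil
  rw [← map_pow, IsLocalization.map_eq_zero_iff
    (Algebra.algebraMapSubmonoid B (nonZeroDivisors R)) T] at hm
  obtain ⟨⟨_, r, hr, rfl⟩, hc⟩ := hm
  simp only at hc
  refine ⟨algebraMap R B r * b, ⟨m + 1, ?_⟩, ?_⟩
  · rw [mul_pow, pow_succ (algebraMap R B r) m, pow_succ' b m]
    calc algebraMap R B r ^ m * algebraMap R B r * (b * b ^ m)
        = algebraMap R B r ^ m * b * (algebraMap R B r * b ^ m) := by ring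
      _ = 0 := by rw [hc, mul_zero]
  · rw [← halg, map_mul]
    intro hzero
    have hunit : IsUnit (algebraMap B T (algebraMap R B r)) :=
      IsLocalization.map_units T
        (⟨algebraMap R B r, r, hr, rfl⟩ : Algebra.algebraMapSubmonoid B (nonZeroDivisors R))
    exact hb0 (hunit.mul_right_eq_zero.mp hzero)


variable [Algebra.FiniteType R B]

/-- a nilpotent of `B` which is nonzero in the generic fibre is nonzero in the fibres over an
open subset. -/
theorem exists_ne_zero_forall_tmul_ne_zero (b : B) (hb : (1 : FractionRing R) ⊗ₜ[R] b ≠ 0) :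
    ∃ a : R, a ≠ 0 ∧ ∀ (κ : Type u) [Field κ] [Algebra R κ], IsUnit (algebraMap R κ a) →
      (1 : κ) ⊗ₜ[R] b ≠ 0 := by
  set K := FractionRing R
  set v : B →ₗ[B] B := LinearMap.mulLeft B b with hv
  set I : Submodule B B := LinearMap.ker v with hI
  set uu : I →ₗ[B] B := I.subtype with huu
  have hex : Function.Exact uu v := LinearMap.exact_subtype_ker_map v
  have hgen : Function.Exact ((uu.restrictScalars R).baseChange K)
      ((v.restrictScalars R).baseChange K) := by
    have h1 := Module.Flat.lTensor_exact K (f := uu.restrictScalars R)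
      (g := v.restrictScalars R) hex
    rw [LinearMap.baseChange_eq_ltensor, LinearMap.baseChange_eq_ltensor]
    exact h1
  obtain ⟨a₁, ha₁, hex₁⟩ := exists_forall_exact_of_generic.{u, u, u, u} (B := B) uu v hgen
  -- the quotient `C = B / Ann b`
  obtain ⟨a₂, ha₂, hPF₂⟩ := GF_of_finiteType_domain (R := R) B (B ⧸ I)
  unfold PF at hPF₂
  have hrex : ∀ (κ : Type u) [CommRing κ] [Algebra R κ],
      Function.Exact ((uu.restrictScalars R).lTensor κ) ((I.mkQ.restrictScalars R).lTensor κ) :=
    fun κ _ _ => lTensor_exact κ (LinearMap.exact_subtype_mkQ I) (Submodule.mkQ_surjective I)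
  have hsurj : ∀ (κ : Type u) [CommRing κ] [Algebra R κ],
      Function.Surjective ((I.mkQ.restrictScalars R).lTensor κ) :=
    fun κ _ _ => LinearMap.lTensor_surjective κ (Submodule.mkQ_surjective I)
  -- key: if `1 ⊗ b = 0` and the sequence is exact then `κ ⊗ C = 0`
  have hkey : ∀ (κ : Type u) [CommRing κ] [Algebra R κ],
      Function.Exact ((uu.restrictScalars R).lTensor κ) ((v.restrictScalars R).lTensor κ) →
      (1 : κ) ⊗ₜ[R] b = 0 → Subsingleton (κ ⊗[R] (B ⧸ I)) := by
    intro κ _ _ hexκ hzero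
    have hv0 : ∀ w : κ ⊗[R] B, ((v.restrictScalars R).lTensor κ) w = 0 := by
      intro w
      induction w using TensorProduct.induction_on with
      | zero => simp
      | tmul c x =>
        have h1 : ((v.restrictScalars R).lTensor κ) (c ⊗ₜ[R] x) = c ⊗ₜ[R] (b * x) := rfl
        have h2 : c ⊗ₜ[R] (b * x) = ((1 : κ) ⊗ₜ[R] b) * (c ⊗ₜ[R] x) := by
          rw [Algebra.TensorProduct.tmul_mul_tmul, one_mul]
        rw [h1, h2, hzero, zero_mul]
      | add x y hx hy => rw [map_add, hx, hy, add_zero]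
    refine ⟨fun x y => ?_⟩
    have h0 : ∀ z : κ ⊗[R] (B ⧸ I), z = 0 := by
      intro z
      obtain ⟨w, rfl⟩ := hsurj κ z
      obtain ⟨w', rfl⟩ := (hexκ w).mp (hv0 w)
      exact (hrex κ _).mpr ⟨w', rfl⟩
    rw [h0 x, h0 y]
  -- `K ⊗ C` is nontrivial
  have hKC : Nontrivial (K ⊗[R] (B ⧸ I)) := by
    by_contra hnot
    rw [not_nontrivial_iff_subsingleton] at hnot
    apply hb
    have hexK : Function.Exact ((uu.restrictScalars R).lTensor K)
        ((v.restrictScalars R).lTensor K) :=
      Module.Flat.lTensor_exact K (f := uu.restrictScalars R) (g := v.restrictScalars R) hex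
    have h1 : ((I.mkQ.restrictScalars R).lTensor K) ((1 : K) ⊗ₜ[R] (1 : B)) = 0 :=
      Subsingleton.elim _ _
    obtain ⟨w', hw'⟩ := (hrex K _).mp h1
    have h2 : ((v.restrictScalars R).lTensor K) ((1 : K) ⊗ₜ[R] (1 : B)) = 0 :=
      (hexK _).mpr ⟨w', hw'⟩
    have h3 : ((v.restrictScalars R).lTensor K) ((1 : K) ⊗ₜ[R] (1 : B)) =
        (1 : K) ⊗ₜ[R] (b * 1) := rfl
    rw [h3, mul_one] at h2
    exact h2
  -- transfer to `A₂`
  set A₂ := Localization.Away a₂ with hA₂
  haveI : Module.Free A₂ (A₂ ⊗[R] (B ⧸ I)) := hPF₂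
  have hle : Submonoid.powers a₂ ≤ nonZeroDivisors R :=
    powers_le_nonZeroDivisors_of_noZeroDivisors ha₂
  have hM₂ : Nontrivial (A₂ ⊗[R] (B ⧸ I)) := by
    by_contra hnot
    rw [not_nontrivial_iff_subsingleton] at hnot
    have hunitK : IsUnit (algebraMap R K a₂) :=
      IsUnit.mk0 _ (by
        rw [Ne, map_eq_zero_iff _ (IsFractionRing.injective R K)]
        exact ha₂)
    letI algL : Algebra A₂ K := (IsLocalization.Away.lift a₂ hunitK).toAlgebra
    haveI : IsScalarTower R A₂ K := IsScalarTower.of_algebraMap_eq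
      (fun r => (IsLocalization.Away.lift_eq a₂ hunitK r).symm)
    have e := TensorProduct.AlgebraTensorModule.cancelBaseChange R A₂ A₂ K (B ⧸ I)
    haveI : Subsingleton (K ⊗[A₂] (A₂ ⊗[R] (B ⧸ I))) := by
      refine ⟨fun x y => ?_⟩
      have h0 : ∀ z : K ⊗[A₂] (A₂ ⊗[R] (B ⧸ I)), z = 0 := by
        intro z
        induction z using TensorProduct.induction_on with
        | zero => rfl
        | tmul c m => rw [Subsingleton.elim m 0, TensorProduct.tmul_zero]
        | add x y hx hy => rw [hx, hy, add_zero]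
      rw [h0 x, h0 y]
    exact not_subsingleton _ e.symm.toEquiv.subsingleton
  refine ⟨a₁ * a₂, mul_ne_zero ha₁ ha₂, ?_⟩
  intro κ _ _ hunit hzero
  rw [map_mul] at hunit
  have hu₁ : IsUnit (algebraMap R κ a₁) := isUnit_of_mul_isUnit_left hunit
  have hu₂ : IsUnit (algebraMap R κ a₂) := isUnit_of_mul_isUnit_right hunit
  haveI hsub := hkey κ (hex₁ κ hu₁) hzero
  letI algκ : Algebra A₂ κ := (IsLocalization.Away.lift a₂ hu₂).toAlgebra
  haveI : IsScalarTower R A₂ κ := IsScalarTower.of_algebraMap_eq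
    (fun r => (IsLocalization.Away.lift_eq a₂ hu₂ r).symm)
  have e := TensorProduct.AlgebraTensorModule.cancelBaseChange R A₂ A₂ κ (B ⧸ I)
  haveI : Nontrivial (κ ⊗[A₂] (A₂ ⊗[R] (B ⧸ I))) := inferInstance
  exact not_subsingleton _ e.toEquiv.subsingleton


/-- **non-reducedness of the generic fibre spreads out** (domain case). -/
theorem exists_ne_zero_forall_not_isReduced (h : ¬ IsReduced (FractionRing R ⊗[R] B)) :
    ∃ a : R, a ≠ 0 ∧ ∀ (κ : Type u) [Field κ] [Algebra R κ], IsUnit (algebraMap R κ a) →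
      ¬ IsReduced (κ ⊗[R] B) := by
  obtain ⟨b, hbnil, hb0⟩ := exists_nilpotent_of_not_isReduced h
  obtain ⟨a, ha, hab⟩ := exists_ne_zero_forall_tmul_ne_zero b hb0
  refine ⟨a, ha, fun κ _ _ hunit hred => hab κ hunit ?_⟩
  have hnil : IsNilpotent ((1 : κ) ⊗ₜ[R] b) :=
    hbnil.map (Algebra.TensorProduct.includeRight : B →ₐ[R] κ ⊗[R] B)
  exact hnil.eq_zero

/-- version for any fraction field `K` of `R`. -/
theorem exists_ne_zero_forall_not_isReduced' (K : Type u) [Field K] [Algebra R K]
    [IsFractionRing R K] (h : ¬ IsReduced (K ⊗[R] B)) :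
    ∃ a : R, a ≠ 0 ∧ ∀ (κ : Type u) [Field κ] [Algebra R κ], IsUnit (algebraMap R κ a) →
      ¬ IsReduced (κ ⊗[R] B) := by
  apply exists_ne_zero_forall_not_isReduced
  intro hred
  apply h
  let e : K ⊗[R] B ≃ₐ[R] FractionRing R ⊗[R] B :=
    Algebra.TensorProduct.congr (FractionRing.algEquiv R K).symm AlgEquiv.refl
  exact isReduced_of_injective e.toRingHom e.injective

end

section General

variable {R : Type u} [CommRing R] {B : Type u} [CommRing B] [Algebra R B]
  [Algebra.FiniteType R B]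

/-- **non-reducedness of the generic fibre spreads out**: `R` a ring whose nilradical `p₀` is
prime. -/
theorem exists_notMem_forall_not_isReduced (p₀ : Ideal R) [p₀.IsPrime]
    (hp₀ : ∀ q : Ideal R, q.IsPrime → p₀ ≤ q) (K : Type u) [Field K] [Algebra R K]
    [Algebra (R ⧸ p₀) K] [IsScalarTower R (R ⧸ p₀) K] [IsFractionRing (R ⧸ p₀) K]
    (h : ¬ IsReduced (K ⊗[R] B)) :
    ∃ a : R, a ∉ p₀ ∧ ∀ (κ : Type u) [Field κ] [Algebra R κ], IsUnit (algebraMap R κ a) →
      ¬ IsReduced (κ ⊗[R] B) := by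
  have h' : ¬ IsReduced (K ⊗[R ⧸ p₀] ((R ⧸ p₀) ⊗[R] B)) := by
    intro hred
    apply h
    let e := Algebra.TensorProduct.cancelBaseChange R (R ⧸ p₀) (R ⧸ p₀) K B
    exact isReduced_of_injective e.symm.toRingHom e.symm.injective
  obtain ⟨a', ha', hκ⟩ := exists_ne_zero_forall_not_isReduced' (R := R ⧸ p₀)
    (B := (R ⧸ p₀) ⊗[R] B) K h'
  obtain ⟨a, rfl⟩ := Ideal.Quotient.mk_surjective a'
  refine ⟨a, fun ha => ha' (Ideal.Quotient.eq_zero_iff_mem.mpr ha), ?_⟩
  intro κ _ _ hunit hred
  have hker : ∀ r : R, r ∈ p₀ → algebraMap R κ r = 0 := by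
    intro r hr
    have h1 : p₀ ≤ RingHom.ker (algebraMap R κ) :=
      hp₀ _ (RingHom.ker_isPrime (algebraMap R κ))
    exact h1 hr
  letI algκ : Algebra (R ⧸ p₀) κ := (Ideal.Quotient.lift p₀ (algebraMap R κ) hker).toAlgebra
  haveI : IsScalarTower R (R ⧸ p₀) κ := IsScalarTower.of_algebraMap_eq (fun r => rfl)
  have hunit' : IsUnit (algebraMap (R ⧸ p₀) κ (Ideal.Quotient.mk p₀ a)) := hunit
  apply hκ κ hunit'
  let e := Algebra.TensorProduct.cancelBaseChange R (R ⧸ p₀) (R ⧸ p₀) κ B
  exact isReduced_of_injective e.toRingHom e.injective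

end General

end Groth.Agent.Lib.helper3.GenNonReduced
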