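import Mathlib
import Groth.Agent.Lib.Helper3.DimIneqSch

/-!
# The residue field of a point of an affine open as a fraction field (helper3)

For `x ∈ U` affine open with prime `p ⊆ Γ(X, U)`, `κ(x)` is the fraction field of `Γ(X, U) ⧸ p`
(via the evaluation map).
-/

set_option autoImplicit false
universe u
open CategoryTheory AlgebraicGeometry

namespace Groth.Agent.Lib.helper3.ResidueFrac

open Groth.Agent.Lib.helper3.DimIneq

variable {X : Scheme.{u}} {U : X.Opens} (hU : IsAffineOpen U) (x : X) (hx : x ∈ U)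

include hU in
theorem exists_evaluation_mul_eq (c : X.residueField x) :
    ∃ r t : Γ(X, U), t ∉ (hU.primeIdealOf ⟨x, hx⟩).asIdeal ∧
      c * X.evaluation U x hx t = X.evaluation U x hx r := by
  letI := X.presheaf.algebra_section_stalk ⟨x, hx⟩
  haveI := hU.isLocalization_stalk ⟨x, hx⟩
  obtain ⟨s, rfl⟩ := X.residue_surjective x c
  obtain ⟨r, ⟨t, ht⟩, rfl⟩ := IsLocalization.exists_mk'_eq
    (hU.primeIdealOf ⟨x, hx⟩).asIdeal.primeCompl s
  refine ⟨r, t, ht, ?_⟩
  have h1 : IsLocalization.mk' (X.presheaf.stalk x) r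
      (⟨t, ht⟩ : (hU.primeIdealOf ⟨x, hx⟩).asIdeal.primeCompl) *
      algebraMap Γ(X, U) (X.presheaf.stalk x) t = algebraMap Γ(X, U) (X.presheaf.stalk x) r :=
    IsLocalization.mk'_spec _ r ⟨t, ht⟩
  have h2 := congrArg (X.residue x) h1
  rw [map_mul] at h2
  exact h2

/-- the `Γ(X, U) ⧸ p`-algebra structure on `κ(x)`. -/
noncomputable abbrev quotAlgebra :
    Algebra (Γ(X, U) ⧸ (hU.primeIdealOf ⟨x, hx⟩).asIdeal) (X.residueField x) :=
  (Ideal.Quotient.lift (hU.primeIdealOf ⟨x, hx⟩).asIdeal (X.evaluation U x hx).hom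
    (fun a ha => by
      have h1 : a ∈ RingHom.ker (X.evaluation U x hx).hom := by
        rw [ker_evaluation hU x hx]; exact ha
      exact h1)).toAlgebra

theorem quotAlgebra_injective :
    Function.Injective (@algebraMap _ _ _ _ (quotAlgebra hU x hx)) := by
  letI := quotAlgebra hU x hx
  rw [injective_iff_map_eq_zero]
  intro a ha
  obtain ⟨a, rfl⟩ := Ideal.Quotient.mk_surjective a
  rw [Ideal.Quotient.eq_zero_iff_mem, ← ker_evaluation hU x hx]
  exact ha

theorem isFractionRing :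
    @IsFractionRing (Γ(X, U) ⧸ (hU.primeIdealOf ⟨x, hx⟩).asIdeal) _ (X.residueField x) _
      (quotAlgebra hU x hx) := by
  letI := quotAlgebra hU x hx
  have hinj := quotAlgebra_injective hU x hx
  refine ⟨fun t => ?_, fun c => ?_, fun {a b} hab => ⟨1, by rw [hinj hab]⟩⟩
  · exact isUnit_iff_ne_zero.mpr (map_ne_zero_of_mem_nonZeroDivisors _ hinj t.2)
  · obtain ⟨r, t, ht, hrt⟩ := exists_evaluation_mul_eq hU x hx c
    refine ⟨⟨Ideal.Quotient.mk _ r, ⟨Ideal.Quotient.mk _ t, ?_⟩⟩, ?_⟩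
    · rw [mem_nonZeroDivisors_iff_ne_zero, Ne, Ideal.Quotient.eq_zero_iff_mem]
      exact ht
    · exact hrt

end Groth.Agent.Lib.helper3.ResidueFrac
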