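import Mathlib
import Groth.Agent.Lib.Helper3.GenNonReduced
import Groth.Agent.Lib.Helper3.FibreChart
import Groth.Agent.Lib.Helper3.ResidueFrac
import Groth.Agent.Lib.Helper3.FTFieldLocalDim

/-!
# Non-reduced generic fibre ⇒ non-reduced fibres over a nonempty open (helper3)
-/

set_option autoImplicit false
universe u
open CategoryTheory CategoryTheory.Limits AlgebraicGeometry TensorProduct

namespace Groth.Agent.Lib.helper3.GenNonReducedSch

open Groth.Agent.Lib.helper3.GenNonReduced Groth.Agent.Lib.helper3.FibreChart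
  Groth.Agent.Lib.helper3.ResidueFrac Groth.Agent.Lib.helper3.FTField

theorem not_isReduced_fibre_near_generic {X Y : Scheme.{u}} (f : X ⟶ Y) [IrreducibleSpace ↑Y] [LocallyOfFiniteType f] [QuasiCompact f]
    (h : ¬ IsReduced (f.fiber (genericPoint ↑Y))) :
    ∃ V : Y.Opens, (V : Set ↑Y).Nonempty ∧ ∀ y ∈ V, ¬ IsReduced (f.fiber y) := by
  set η := genericPoint Y with hη
  obtain ⟨_, ⟨U, hU : IsAffineOpen U, rfl⟩, hηU, -⟩ :=
    Y.isBasis_affineOpens.exists_subset_of_mem_open (Set.mem_univ η) isOpen_univ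
  have hηU' : η ∈ U := hηU
  -- a non-reduced chart of the generic fibre
  have hWex : ∃ (W : X.Opens) (hW : IsAffineOpen W) (e : W ≤ f ⁻¹ᵁ U),
      ¬ IsReduced (pullback (Spec.map (f.appLE U W e)) (Spec.map (Y.evaluation U η hηU'))) := by
    by_contra hcon
    push Not at hcon
    apply h
    apply isReduced_fiber_of_forall_chart f hU η hηU'
    intro x hfx
    obtain ⟨_, ⟨W, hW : IsAffineOpen W, rfl⟩, hxW, hWU⟩ :=
      X.isBasis_affineOpens.exists_subset_of_mem_open
        (show x ∈ (f ⁻¹ᵁ U : Set X) from by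
          change f x ∈ U
          rw [hfx]; exact hηU') (f ⁻¹ᵁ U).isOpen
    exact ⟨W, hW, hWU, hxW, hcon W hW hWU⟩
  obtain ⟨W, hW, e, hnred⟩ := hWex
  letI algRS : Algebra Γ(Y, U) Γ(X, W) := (f.appLE U W e).hom.toAlgebra
  haveI : Algebra.FiniteType Γ(Y, U) Γ(X, W) :=
    HasRingHomProperty.appLE (P := @LocallyOfFiniteType) f inferInstance ⟨U, hU⟩ ⟨W, hW⟩ e
  letI algRK : Algebra Γ(Y, U) (Y.residueField η) := (Y.evaluation U η hηU').hom.toAlgebra
  have hT : ¬ _root_.IsReduced (Γ(X, W) ⊗[Γ(Y, U)] Y.residueField η) := fun hred => hnred (by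
    haveI := hred
    exact isReduced_chart_of_isReduced_tensor f e η hηU' rfl rfl)
  have hT' : ¬ _root_.IsReduced (Y.residueField η ⊗[Γ(Y, U)] Γ(X, W)) := fun hred => hT (by
    haveI := hred
    exact isReduced_of_injective
      (Algebra.TensorProduct.comm Γ(Y, U) Γ(X, W) (Y.residueField η)).toRingHom
      (Algebra.TensorProduct.comm Γ(Y, U) Γ(X, W) (Y.residueField η)).injective)
  set p₀ := (hU.primeIdealOf ⟨η, hηU'⟩).asIdeal with hp₀def
  have hp0 : hU.fromSpec (hU.primeIdealOf ⟨η, hηU'⟩) = η := hU.fromSpec_primeIdealOf ⟨η, hηU'⟩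
  have hp₀ : ∀ q : Ideal Γ(Y, U), q.IsPrime → p₀ ≤ q := by
    intro q hq
    have h1 : η ⤳ hU.fromSpec ⟨q, hq⟩ := genericPoint_specializes _
    rw [← hp0] at h1
    have h2 := (hU.fromSpec.isOpenEmbedding.isInducing.specializes_iff).mp h1
    exact (PrimeSpectrum.le_iff_specializes _ _).mpr h2
  letI := quotAlgebra hU η hηU'
  haveI : IsScalarTower Γ(Y, U) (Γ(Y, U) ⧸ p₀) (Y.residueField η) :=
    IsScalarTower.of_algebraMap_eq (fun r => rfl)
  haveI := isFractionRing hU η hηU'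
  obtain ⟨a, hap, ha⟩ := exists_notMem_forall_not_isReduced (R := Γ(Y, U)) (B := Γ(X, W))
    p₀ hp₀ (Y.residueField η) hT'
  refine ⟨Y.basicOpen a, ⟨η, (mem_basicOpen_iff hU η hηU' a).mpr hap⟩, ?_⟩
  intro y hy hred
  have hyU : y ∈ U := Y.basicOpen_le a hy
  letI algRκ : Algebra Γ(Y, U) (Y.residueField y) := (Y.evaluation U y hyU).hom.toAlgebra
  have hunit : IsUnit (algebraMap Γ(Y, U) (Y.residueField y) a) :=
    isUnit_iff_ne_zero.mpr ((Y.evaluation_ne_zero_iff_mem_basicOpen y hyU a).mpr hy)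
  apply ha (Y.residueField y) hunit
  haveI := hred
  haveI h1 := isReduced_tensor_of_isReduced_fiber f hU hW e y hyU rfl rfl
  exact isReduced_of_injective
    (Algebra.TensorProduct.comm Γ(Y, U) (Y.residueField y) Γ(X, W)).toRingHom
    (Algebra.TensorProduct.comm Γ(Y, U) (Y.residueField y) Γ(X, W)).injective

end Groth.Agent.Lib.helper3.GenNonReducedSch
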