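import Mathlib
import Groth.Agent.Lib.Helper3.GeomRed3
import Groth.Agent.Lib.Helper3.GenNonReducedSch
import Groth.Agent.Lib.Helper3.GenImage
import Groth.Agent.Lib.Helper3.ResidueFrac
import Groth.Agent.Lib.Helper3.FibreChart

/-!
# Non geometrically reduced fibres near the generic point (helper3)
-/

set_option autoImplicit false
universe u
open CategoryTheory CategoryTheory.Limits AlgebraicGeometry

namespace Groth.Agent.Lib.helper3.GenNonGeomReduced

/-- a geometrically reduced scheme over (the spectrum of) a field is reduced. -/
theorem isReduced_of_geometricallyReduced {T : Scheme.{u}} (K : Type u) [Field K]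
    (q : T ⟶ Spec (CommRingCat.of K)) [GeometricallyReduced q] : IsReduced T := by
  have h := GeometricallyReduced.geometrically_isReduced (f := q)
  exact h (K := K) (𝟙 _) (𝟙 T) q (IsPullback.of_horiz_isIso ⟨by simp⟩)

/-- if the base change of the fibre at `g y'` to `κ(y')` is not reduced then the fibre at `g y'`
is not geometrically reduced. -/
theorem not_geometricallyReduced_of_not_isReduced_fiber {X Y X' Y' : Scheme.{u}} (f : X ⟶ Y)
    (f' : X' ⟶ Y') (g' : X' ⟶ X) (g : Y' ⟶ Y) (hc : IsPullback g' f' f g) (y' : Y')
    (h : ¬ IsReduced (f'.fiber y')) :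
    ¬ GeometricallyReduced (f.fiberToSpecResidueField (g y')) := by
  intro hgr
  have hp := isPullback_fiberToSpecResidueField_of_isPullback hc y'
  haveI : GeometricallyReduced (f'.fiberToSpecResidueField y') :=
    MorphismProperty.of_isPullback hp hgr
  exact h (isReduced_of_geometricallyReduced (Y'.residueField y') (f'.fiberToSpecResidueField y'))

/-- = S1331. -/
theorem not_geometricallyReduced_fibre_near_generic {X Y : Scheme.{u}} (f : X ⟶ Y)
    [IrreducibleSpace ↑Y] [LocallyOfFiniteType f] [QuasiCompact f]
    (h : ¬ GeometricallyReduced (f.fiberToSpecResidueField (genericPoint ↑Y))) :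
    ∃ V : Y.Opens, (V : Set ↑Y).Nonempty ∧
      ∀ y ∈ V, ¬ GeometricallyReduced (f.fiberToSpecResidueField y) := by
  set η := genericPoint Y with hη
  -- Step 1: a finite extension witnessing non-reducedness
  have h1 : ∃ (K' : Type u) (_ : Field K') (_ : Algebra (Y.residueField η) K')
      (_ : Module.Finite (Y.residueField η) K'),
      ¬ IsReduced (pullback (f.fiberToSpecResidueField η)
        (Spec.map (CommRingCat.ofHom (algebraMap (Y.residueField η) K')))) := by
    by_contra hcon
    push Not at hcon
    apply h
    exact GeomRed.geometricallyReduced_of_finite_purelyInseparable (k := Y.residueField η)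
      (f.fiberToSpecResidueField η) (fun K' _ _ _ _ => hcon K' inferInstance inferInstance inferInstance)
  obtain ⟨K', _, _, hfin, hnr⟩ := h1
  -- Step 2: affine open and the subalgebra
  obtain ⟨_, ⟨U, hU : IsAffineOpen U, rfl⟩, hηU, -⟩ :=
    Y.isBasis_affineOpens.exists_subset_of_mem_open (Set.mem_univ η) isOpen_univ
  have hηU' : η ∈ U := hηU
  set ψ := Y.evaluation U η hηU' with hψ
  letI : Algebra Γ(Y, U) (Y.residueField η) := ψ.hom.toAlgebra
  letI : Algebra Γ(Y, U) K' := ((algebraMap (Y.residueField η) K').comp ψ.hom).toAlgebra
  haveI : IsScalarTower Γ(Y, U) (Y.residueField η) K' :=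
    IsScalarTower.of_algebraMap_eq (fun _ => rfl)
  obtain ⟨s, hs⟩ := hfin.fg_top
  set A' : Subalgebra Γ(Y, U) K' := Algebra.adjoin Γ(Y, U) (s : Set K') with hA'
  haveI : Algebra.FiniteType Γ(Y, U) A' :=
    (Subalgebra.fg_iff_finiteType _).mp (Subalgebra.fg_adjoin_finset s)
  set g : Spec (CommRingCat.of A') ⟶ Y :=
    Spec.map (CommRingCat.ofHom (algebraMap Γ(Y, U) A')) ≫ hU.fromSpec with hg
  set t : Spec (CommRingCat.of K') ⟶ Spec (CommRingCat.of A') :=
    Spec.map (CommRingCat.ofHom (algebraMap A' K')) with ht
  have htg : t ≫ g = Spec.map (CommRingCat.ofHom (algebraMap (Y.residueField η) K')) ≫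
      Y.fromSpecResidueField η := by
    have e1 : Spec.map (CommRingCat.ofHom (algebraMap (Y.residueField η) K')) ≫ Spec.map ψ =
        Spec.map (CommRingCat.ofHom (algebraMap A' K')) ≫
          Spec.map (CommRingCat.ofHom (algebraMap Γ(Y, U) A')) := by
      rw [← Spec.map_comp, ← Spec.map_comp]; rfl
    calc t ≫ g = (Spec.map (CommRingCat.ofHom (algebraMap A' K')) ≫
          Spec.map (CommRingCat.ofHom (algebraMap Γ(Y, U) A'))) ≫ hU.fromSpec := by
          rw [hg, ht, Category.assoc]
      _ = (Spec.map (CommRingCat.ofHom (algebraMap (Y.residueField η) K')) ≫ Spec.map ψ) ≫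
          hU.fromSpec := by rw [e1]
      _ = _ := by
          rw [Category.assoc, hψ, FibreChart.SpecMap_evaluation_fromSpec hU η hηU']
  -- Step 4: the base change
  have hc : IsPullback (pullback.fst f g) (pullback.snd f g) f g := IsPullback.of_hasPullback f g
  haveI : IrreducibleSpace ↥(Spec (CommRingCat.of A')) :=
    (inferInstance : IrreducibleSpace (PrimeSpectrum A'))
  haveI : LocallyOfFiniteType (Spec.map (CommRingCat.ofHom (algebraMap Γ(Y, U) A'))) :=
    (HasRingHomProperty.Spec_iff (P := @LocallyOfFiniteType)).mpr
      (RingHom.finiteType_algebraMap.mpr inferInstance)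
  haveI : LocallyOfFiniteType g := by rw [hg]; infer_instance
  haveI : LocallyOfFiniteType (pullback.snd f g) := MorphismProperty.pullback_snd _ _ inferInstance
  haveI : QuasiCompact (pullback.snd f g) := MorphismProperty.pullback_snd _ _ inferInstance
  set η' := genericPoint ↥(Spec (CommRingCat.of A')) with hη'
  set y' : ↥(Spec (CommRingCat.of A')) := t (IsLocalRing.closedPoint K') with hy'
  have hy'η' : y' = η' := by
    have hbot : (y' : PrimeSpectrum A').asIdeal = ⊥ := by
      have h1 : (y' : PrimeSpectrum A').asIdeal =
          (IsLocalRing.closedPoint K').asIdeal.comap (algebraMap A' K') := rfl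
      rw [h1]
      have h2 : (IsLocalRing.closedPoint K').asIdeal = ⊥ := IsLocalRing.maximalIdeal_eq_bot
      rw [h2, ← RingHom.ker_eq_comap_bot, RingHom.ker_eq_bot_iff_eq_zero]
      intro a ha
      exact Subtype.ext ha
    have hsp : y' ⤳ η' := by
      have h3 : @LE.le (PrimeSpectrum A') _ y' η' := by
        change (y' : PrimeSpectrum A').asIdeal ≤ (η' : PrimeSpectrum A').asIdeal
        rw [hbot]; exact bot_le
      exact (PrimeSpectrum.le_iff_specializes (y' : PrimeSpectrum A') η').mp h3
    exact (hsp.antisymm (genericPoint_specializes y')).eq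
  have hgy' : g y' = η := by
    have h1 : (t ≫ g) (IsLocalRing.closedPoint K') =
        (Spec.map (CommRingCat.ofHom (algebraMap (Y.residueField η) K')) ≫
          Y.fromSpecResidueField η) (IsLocalRing.closedPoint K') := by rw [htg]
    have h2 : (Spec.map (CommRingCat.ofHom (algebraMap (Y.residueField η) K')) ≫
          Y.fromSpecResidueField η) (IsLocalRing.closedPoint K') = η := by
      rw [Scheme.Hom.comp_apply]
      exact Scheme.fromSpecResidueField_apply _ _
    exact h1.trans h2
  -- Step 5: the generic fibre of the base change is not reduced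
  have hnr' : ¬ IsReduced ((pullback.snd f g).fiber η') := by
    intro hred
    apply hnr
    rw [← hy'η'] at hred
    set φ := Scheme.descResidueField (Scheme.stalkClosedPointTo t) with hφdef
    have hφ : Spec.map φ ≫ (Spec (CommRingCat.of A')).fromSpecResidueField y' = t :=
      Scheme.descResidueField_stalkClosedPointTo_fromSpecResidueField K' _ t
    have hrange : ∀ a : A', algebraMap A' K' a ∈ φ.hom.fieldRange := by
      intro a
      have h1 : t = Spec.map (StructureSheaf.toStalk A' y' ≫
          (Spec (CommRingCat.of A')).residue y' ≫ φ) := by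
        rw [← hφ, Scheme.fromSpecResidueField, Spec.fromSpecStalk_eq', Spec.map_comp,
          Spec.map_comp, Category.assoc]
        rfl
      have h2 := Spec.map_injective (ht.symm.trans h1)
      rw [RingHom.mem_fieldRange]
      refine ⟨(Spec (CommRingCat.of A')).residue y' (StructureSheaf.toStalk A' y' a), ?_⟩
      have h3 := congrArg (fun m => m.hom a) h2
      exact h3.symm
    have hφsurj : Function.Surjective φ.hom := by
      intro x
      have hx : x ∈ Submodule.span (Y.residueField η) (s : Set K') := by rw [hs]; trivial
      suffices hmem : x ∈ φ.hom.fieldRange by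
        exact RingHom.mem_fieldRange.mp hmem
      induction hx using Submodule.span_induction with
      | mem x hx =>
        have hxA : x ∈ A' := Algebra.subset_adjoin hx
        exact hrange ⟨x, hxA⟩
      | zero => exact zero_mem _
      | add x z _ _ hx hz => exact add_mem hx hz
      | smul k x _ hx =>
        rw [Algebra.smul_def]
        refine mul_mem ?_ hx
        obtain ⟨r, t₀, ht₀, hk⟩ := ResidueFrac.exists_evaluation_mul_eq hU η hηU' k
        have hne : Y.evaluation U η hηU' t₀ ≠ 0 := by
          intro h0
          apply ht₀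
          rw [← DimIneq.ker_evaluation hU η hηU', RingHom.mem_ker]
          exact h0
        have hk' : k = Y.evaluation U η hηU' r / Y.evaluation U η hηU' t₀ := by
          rw [eq_div_iff hne]; exact hk
        rw [hk', map_div₀]
        have hev : ∀ a : Γ(Y, U), algebraMap (Y.residueField η) K' (Y.evaluation U η hηU' a) ∈
            φ.hom.fieldRange := by
          intro a
          have : algebraMap (Y.residueField η) K' (Y.evaluation U η hηU' a) =
              algebraMap A' K' (algebraMap Γ(Y, U) A' a) := rfl
          rw [this]; exact hrange _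
        exact div_mem (hev r) (hev t₀)
    haveI : IsIso φ := (ConcreteCategory.isIso_iff_bijective φ).mpr
      ⟨φ.hom.injective, hφsurj⟩
    haveI : IsIso (Spec.map φ) := inferInstance
    have h7 : IsReduced ((pullback.snd f g).fiber y') := hred
    have h6 : IsReduced (pullback ((pullback.snd f g).fiberToSpecResidueField y') (Spec.map φ)) :=
      @isReduced_of_isOpenImmersion _ _
        (pullback.fst ((pullback.snd f g).fiberToSpecResidueField y') (Spec.map φ)) inferInstance h7
    have h5 : IsReduced (pullback (pullback.snd f g)
        (Spec.map φ ≫ (Spec (CommRingCat.of A')).fromSpecResidueField y')) :=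
      @isReduced_of_isOpenImmersion _ _ (pullbackLeftPullbackSndIso (pullback.snd f g)
        ((Spec (CommRingCat.of A')).fromSpecResidueField y') (Spec.map φ)).inv inferInstance h6
    have h4 : IsReduced (pullback (pullback.snd f g) t) :=
      @isReduced_of_isOpenImmersion _ _ (pullback.congrHom rfl hφ.symm).hom inferInstance h5
    have h3 : IsReduced (pullback f (t ≫ g)) :=
      @isReduced_of_isOpenImmersion _ _ (pullbackLeftPullbackSndIso f g t).inv inferInstance h4
    have h2 : IsReduced (pullback f
        (Spec.map (CommRingCat.ofHom (algebraMap (Y.residueField η) K')) ≫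
          Y.fromSpecResidueField η)) :=
      @isReduced_of_isOpenImmersion _ _ (pullback.congrHom rfl htg.symm).hom inferInstance h3
    exact @isReduced_of_isOpenImmersion _ _ (pullbackLeftPullbackSndIso f
      (Y.fromSpecResidueField η)
      (Spec.map (CommRingCat.ofHom (algebraMap (Y.residueField η) K')))).hom inferInstance h2
  -- Step 6: non-reduced fibres near the generic point of the base change
  obtain ⟨V', hV'ne, hV'⟩ :=
    GenNonReducedSch.not_isReduced_fibre_near_generic (pullback.snd f g) hnr'
  have hη'V' : η' ∈ V' := by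
    obtain ⟨y, hy⟩ := hV'ne
    exact (genericPoint_specializes y).mem_open V'.isOpen hy
  -- Step 7: the image of `V'` contains a nonempty open
  haveI : LocallyOfFiniteType (V'.ι ≫ g) := inferInstance
  have hx₀ : (V'.ι ≫ g) ⟨η', hη'V'⟩ = genericPoint Y := by
    change g η' = η
    rw [← hy'η']; exact hgy'
  obtain ⟨V, hVne, hV⟩ := GenImage.exists_open_subset_image_closure (V'.ι ≫ g) ⟨η', hη'V'⟩ hx₀
  refine ⟨V, hVne, fun y hy => ?_⟩
  obtain ⟨w, -, hw⟩ := hV hy
  have hwV' : V'.ι w ∈ V' := w.2
  have hgw : g (V'.ι w) = y := hw
  rw [← hgw]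
  exact not_geometricallyReduced_of_not_isReduced_fiber f (pullback.snd f g) (pullback.fst f g) g hc
    (V'.ι w) (hV' _ hwV')

end Groth.Agent.Lib.helper3.GenNonGeomReduced
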