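import Groth.Agent.Lib.Helper3.AlgClosedTensor

/-!
Translation between the ring-level and the scheme-level notions of geometric irreducibility
(helper3).
-/

set_option autoImplicit false
universe u

namespace Groth.Agent.Lib.helper3.GeomIrr

open TensorProduct AlgebraicGeometry CategoryTheory

/-- swapping the factors does not change irreducibility of the spectrum -/
theorem irreducibleSpace_comm {k : Type u} [CommRing k] (R K : Type u) [CommRing R] [CommRing K]
    [Algebra k R] [Algebra k K] :
    IrreducibleSpace (PrimeSpectrum (R ⊗[k] K)) ↔ IrreducibleSpace (PrimeSpectrum (K ⊗[k] R)) :=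
  (PrimeSpectrum.homeomorphOfRingEquiv
    (Algebra.TensorProduct.comm k R K).toRingEquiv).irreducibleSpace_iff

/-- ring-level geometric irreducibility is the scheme-level one for `Spec R ⟶ Spec k` -/
theorem geomIrr_specMap_iff {k R : Type u} [Field k] [CommRing R] [Algebra k R] :
    GeometricallyIrreducible (Spec.map (CommRingCat.ofHom (algebraMap k R))) ↔
      ∀ (k' : Type u) [Field k'] [Algebra k k'], IrreducibleSpace (PrimeSpectrum (k' ⊗[k] R)) := by
  rw [AlgebraicGeometry.geometricallyIrreducible_iff, geometrically_iff_of_commRing_of_isClosedUnderIsomorphisms]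
  refine forall_congr' fun K => forall_congr' fun _ => forall_congr' fun _ => ?_
  rw [(pullbackSpecIso k R K).hom.homeomorph.irreducibleSpace_iff]
  exact irreducibleSpace_comm R K

end Groth.Agent.Lib.helper3.GeomIrr
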