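import Groth.Agent.Lib.Helper3.GenericFibre
import Groth.Agent.Lib.Helper3.GeomConnPt

/-!
Generic fibres and irreducibility, part 2: `X ×_k X` (helper3).
-/

set_option autoImplicit false
universe u

namespace Groth.Agent.Lib.helper3.GenericFibre

open TensorProduct AlgebraicGeometry CategoryTheory Limits

open IntermediateField in
/-- variant of `separableClosure_eq_bot_of_irr` -/
theorem separableClosure_eq_bot_of_irr_adjoin {k F : Type u} [Field k] [Field F] [Algebra k F]
    (h : ∀ a : F, IsSeparable k a → IrreducibleSpace (PrimeSpectrum (F ⊗[k] k⟮a⟯))) :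
    separableClosure k F = ⊥ := by
  rw [eq_bot_iff]
  intro a ha
  have hsep : IsSeparable k a := mem_separableClosure_iff.mp ha
  have hfin : FiniteDimensional k k⟮a⟯ :=
    IntermediateField.adjoin.finiteDimensional hsep.isIntegral
  have hsepA : Algebra.IsSeparable k k⟮a⟯ :=
    (IntermediateField.isSeparable_adjoin_simple_iff_isSeparable k F).mpr hsep
  have h1 : IrreducibleSpace (PrimeSpectrum (F ⊗[k] k⟮a⟯)) := h a hsep
  have hunr : Algebra.FormallyUnramified k k⟮a⟯ := Algebra.FormallyUnramified.of_isSeparable k _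
  have hred : IsReduced (F ⊗[k] k⟮a⟯) :=
    Algebra.FormallyUnramified.isReduced_of_field F (F ⊗[k] k⟮a⟯)
  have hprime : (⊥ : Ideal (F ⊗[k] k⟮a⟯)).IsPrime := by
    have := PrimeSpectrum.irreducibleSpace_iff_isPrime_nilradical.mp h1
    rwa [nilradical_eq_zero] at this
  have hnzd : NoZeroDivisors (F ⊗[k] k⟮a⟯) := ⟨fun {x y} hxy => by
    have := hprime.mem_or_mem (x := x) (y := y) (by rw [hxy]; exact Ideal.zero_mem _)
    simpa using this⟩
  have hnt : Nontrivial (F ⊗[k] k⟮a⟯) :=
    (PrimeSpectrum.nonempty_iff_nontrivial).mp inferInstance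
  have hdom : IsDomain (F ⊗[k] k⟮a⟯) := by
    exact @NoZeroDivisors.to_isDomain (F ⊗[k] ↥k⟮a⟯) _ hnt hnzd
  have hfield : IsField (F ⊗[k] k⟮a⟯) :=
    Algebra.TensorProduct.isField_of_isAlgebraic k F k⟮a⟯ (Or.inr inferInstance)
  have hld := IntermediateField.LinearDisjoint.of_isField' hfield (AlgHom.id k F) k⟮a⟯.val
  have hinf := hld.inf_eq_bot
  rw [AlgHom.fieldRange_eq_top.mpr (show Function.Surjective (AlgHom.id k F) from
    Function.surjective_id), IntermediateField.fieldRange_val, top_inf_eq] at hinf
  rw [← hinf]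
  exact IntermediateField.mem_adjoin_simple_self k a

/-- if `Spec (F ⊗[k] F)` is irreducible then `k` is separably closed in `F` -/
theorem separableClosure_eq_bot_of_irr_self {k F : Type u} [Field k] [Field F] [Algebra k F]
    (h : IrreducibleSpace (PrimeSpectrum (F ⊗[k] F))) : separableClosure k F = ⊥ := by
  apply separableClosure_eq_bot_of_irr_adjoin
  intro a _
  let ψ : F ⊗[k] (IntermediateField.adjoin k {a}) →+* F ⊗[k] F :=
    (Algebra.TensorProduct.map (AlgHom.id k F) (IntermediateField.adjoin k {a}).val).toRingHom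
  have hψ : Function.Injective ψ :=
    Module.Flat.lTensor_preserves_injective_linearMap (M := F)
      (IntermediateField.adjoin k {a}).val.toLinearMap Subtype.val_injective
  exact @GeomIrr.irreducibleSpace_of_injective (F ⊗[k] (IntermediateField.adjoin k {a}))
    (F ⊗[k] F) _ _ ψ hψ h

section scheme

variable {k : Type u} [Field k] {X : Scheme.{u}} (f : X ⟶ Spec (CommRingCat.of k))

/-- if `X ×_k X` is irreducible, then `X_{κ(ξ)}` is irreducible for a generic point `ξ` -/
theorem irreducibleSpace_bc_residueField_of_prod (hXX : IrreducibleSpace ↥(pullback f f)) {ξ : X}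
    (hξ : IsGenericPoint ξ Set.univ) (φ : k →+* X.residueField ξ)
    (hφ : Spec.map (CommRingCat.ofHom φ) = X.fromSpecResidueField ξ ≫ f) :
    IrreducibleSpace ↥(pullback f (Spec.map (CommRingCat.ofHom φ))) := by
  have hu : UniversallyOpen f := inferInstance
  have h2 : UniversallyOpen (pullback.fst f f) :=
    MorphismProperty.pullback_fst (P := @UniversallyOpen) _ _ hu
  have h1 := isIrreducible_preimage_generic (pullback.fst f f).isOpenMap hξ
  rw [isIrreducible_iff_irreducibleSpace,
    ← ((pullback.fst f f).fiberHomeo ξ).irreducibleSpace_iff] at h1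
  let e1 : (pullback.fst f f).fiber ξ ≅
      pullback (X.fromSpecResidueField ξ) (pullback.fst f f) := pullbackSymmetry _ _
  let e2 := pullbackRightPullbackFstIso f f (X.fromSpecResidueField ξ)
  let e3 : pullback (X.fromSpecResidueField ξ ≫ f) f ≅
      pullback (Spec.map (CommRingCat.ofHom φ)) f := pullback.congrHom hφ.symm rfl
  let e4 : pullback (Spec.map (CommRingCat.ofHom φ)) f ≅
      pullback f (Spec.map (CommRingCat.ofHom φ)) := pullbackSymmetry _ _
  exact (e1 ≪≫ e2 ≪≫ e3 ≪≫ e4).hom.homeomorph.irreducibleSpace_iff.mp h1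

end scheme

end Groth.Agent.Lib.helper3.GenericFibre
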