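import Mathlib
import Groth.Agent.Lib.Helper3.GenPts
import Groth.Agent.Lib.Helper3.GenImage
import Groth.Agent.Lib.Helper3.QFinTop

/-!
# Number of irreducible components of the fibres near the generic point (helper3)
-/

set_option autoImplicit false
universe u
open CategoryTheory CategoryTheory.Limits AlgebraicGeometry

namespace Groth.Agent.Lib.helper3.GenComps

open Groth.Agent.Lib.helper3.GenPts Groth.Agent.Lib.helper3.GenImage
  Groth.Agent.Lib.helper3.QFinTop

/-- pairwise disjoint nonempty open subsets give distinct irreducible components. -/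
theorem card_le_encard_irreducibleComponents {T : Type*} [TopologicalSpace T] {ι : Type*}
    (U : ι → Set T) (hU : ∀ i, IsOpen (U i)) (hne : ∀ i, (U i).Nonempty)
    (hdisj : ∀ i j, i ≠ j → Disjoint (U i) (U j)) :
    ENat.card ι ≤ (irreducibleComponents T).encard := by
  choose t ht using hne
  have hZ : ∀ i, ∃ Z ∈ irreducibleComponents T, ({t i} : Set T) ⊆ Z := fun i =>
    exists_mem_irreducibleComponents_subset_of_isIrreducible ({t i} : Set T)
      isIrreducible_singleton
  choose Z hZmem hZt using hZ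
  let g : ι → ↥(irreducibleComponents T) := fun i => ⟨Z i, hZmem i⟩
  have hg : Function.Injective g := by
    intro i j hij
    by_contra hne
    have hZij : Z i = Z j := congrArg Subtype.val hij
    have h1 : (Z i ∩ U i).Nonempty := ⟨t i, hZt i rfl, ht i⟩
    have h2 : (Z i ∩ U j).Nonempty := ⟨t j, hZij ▸ hZt j rfl, ht j⟩
    obtain ⟨w, -, hwi, hwj⟩ := (hZmem i).1.2 (U i) (U j) (hU i) (hU j) h1 h2
    exact Set.disjoint_left.mp (hdisj i j hne) hwi hwj
  exact ENat.card_le_card_of_injective hg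

theorem le_encard_irreducibleComponents_fibre {X Y : Scheme.{u}} (f : X ⟶ Y) [IrreducibleSpace ↑Y] [LocallyOfFiniteType f] [QuasiCompact f] (n : ℕ)
    (h : (irreducibleComponents ↑(f.fiber (genericPoint ↑Y))).encard = n) :
    ∃ V : Y.Opens, (V : Set ↑Y).Nonempty ∧ ∀ y ∈ V, (n : ℕ∞) ≤ (irreducibleComponents ↑(f.fiber y)).encard := by
  set η := genericPoint Y with hη
  set F := f.fiber η with hF
  have hfin : (irreducibleComponents F).Finite := Set.finite_of_encard_eq_coe h
  haveI : Finite ↥(irreducibleComponents F) := hfin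
  -- generic points of the components
  have hζ : ∀ C : ↥(irreducibleComponents F), ∃ ζ : F, IsGenericPoint ζ (C : Set F) := fun C =>
    QuasiSober.sober C.2.1 (isClosed_of_mem_irreducibleComponents C.1 C.2)
  choose ζ hζgen using hζ
  set ξ : ↥(irreducibleComponents F) → X := fun C => f.fiberι η (ζ C) with hξ
  have hfξ : ∀ C, f (ξ C) = η := fun C => fiberι_mem f η (ζ C)
  -- distinct components: no specialization
  have hA : ∀ C C' : ↥(irreducibleComponents F), ξ C' ⤳ ξ C → C = C' := by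
    intro C C' hsp
    have h1 : ζ C' ⤳ ζ C := (fiberι_specializes_iff f η _ _).mp hsp
    have h2 : (C : Set F) ⊆ C' := by
      rw [← (hζgen C).def, ← (hζgen C').def]
      exact closure_minimal (Set.singleton_subset_iff.mpr h1.mem_closure) isClosed_closure
    exact Subtype.ext (C.2.2 C'.2.1 h2 |> fun h3 => Set.Subset.antisymm h2 h3)
  -- the opens `X_C`
  have hclosed : ∀ C : ↥(irreducibleComponents F),
      IsClosed (⋃ (C' : ↥(irreducibleComponents F)) (_ : C' ≠ C), closure ({ξ C'} : Set X)) :=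
    fun C => isClosed_iUnion_of_finite fun C' => isClosed_iUnion_of_finite fun _ => isClosed_closure
  set XC : ↥(irreducibleComponents F) → X.Opens := fun C =>
    ⟨(⋃ (C' : ↥(irreducibleComponents F)) (_ : C' ≠ C), closure ({ξ C'} : Set X))ᶜ,
      (hclosed C).isOpen_compl⟩ with hXC
  have hmemXC : ∀ (C : ↥(irreducibleComponents F)) (x : X),
      x ∈ XC C ↔ ∀ C' : ↥(irreducibleComponents F), C' ≠ C → ¬ ξ C' ⤳ x := by
    intro C x
    change x ∈ (⋃ (C' : ↥(irreducibleComponents F)) (_ : C' ≠ C), closure ({ξ C'} : Set X))ᶜ ↔ _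
    rw [Set.mem_compl_iff, Set.mem_iUnion₂]
    push Not
    exact forall₂_congr fun C' _ => by rw [specializes_iff_mem_closure]
  have hξXC : ∀ C, ξ C ∈ XC C := fun C =>
    (hmemXC C (ξ C)).mpr fun C' hne hsp => hne (hA C C' hsp).symm
  -- step B
  have hB : ∀ C : ↥(irreducibleComponents F), ∃ V : Y.Opens, (V : Set Y).Nonempty ∧
      ∀ y ∈ V, ∃ x : X, x ∈ XC C ∧ f x = y := by
    intro C
    obtain ⟨V, hVne, hV⟩ := exists_open_subset_image_closure ((XC C).ι ≫ f)
      (⟨ξ C, hξXC C⟩ : (XC C).toScheme) (hfξ C)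
    refine ⟨V, hVne, fun y hy => ?_⟩
    obtain ⟨w, -, hw⟩ := hV hy
    exact ⟨(XC C).ι w, w.2, hw⟩
  choose VB hVBne hVB using hB
  obtain ⟨V₀, hηV₀, hV₀⟩ := exists_open_forall_generization f
  have hηVB : ∀ C, η ∈ VB C := fun C => by
    obtain ⟨y, hy⟩ := hVBne C
    exact (genericPoint_specializes y).mem_open (VB C).isOpen hy
  refine ⟨⟨(V₀ : Set Y) ∩ ⋂ C, (VB C : Set Y),
    V₀.isOpen.inter (isOpen_iInter_of_finite fun C => (VB C).isOpen)⟩,
    ⟨η, hηV₀, Set.mem_iInter.mpr hηVB⟩, ?_⟩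
  rintro y ⟨hyV₀, hyVB⟩
  have hcard : ENat.card ↥(irreducibleComponents F) = n := h
  rw [← hcard]
  refine card_le_encard_irreducibleComponents
    (fun C : ↥(irreducibleComponents F) => (f.fiberι y) ⁻¹' (XC C : Set X))
    (fun C => (XC C).isOpen.preimage (f.fiberι y).continuous) ?_ ?_
  · intro C
    obtain ⟨x, hxC, hfx⟩ := hVB C y (Set.mem_iInter.mp hyVB C)
    obtain ⟨z, rfl⟩ : x ∈ Set.range (f.fiberι y) := by
      rw [f.range_fiberι y]; exact hfx
    exact ⟨z, hxC⟩
  · intro C C' hCC'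
    rw [Set.disjoint_left]
    intro z hzC hzC'
    obtain ⟨x', hx'sp, hfx'⟩ := hV₀ (f.fiberι y z) (by rw [fiberι_mem f y z]; exact hyV₀)
    obtain ⟨ζ', rfl⟩ : x' ∈ Set.range (f.fiberι η) := by
      rw [f.range_fiberι η]; exact hfx'
    obtain ⟨C'', hC''mem, hC''⟩ := exists_mem_irreducibleComponents_subset_of_isIrreducible
      ({ζ'} : Set F) isIrreducible_singleton
    have hsp1 : ζ ⟨C'', hC''mem⟩ ⤳ ζ' := (hζgen ⟨C'', hC''mem⟩).specializes (hC'' rfl)
    have hsp2 : ξ ⟨C'', hC''mem⟩ ⤳ f.fiberι y z :=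
      ((fiberι_specializes_iff f η _ _).mpr hsp1).trans hx'sp
    by_cases hc : (⟨C'', hC''mem⟩ : ↥(irreducibleComponents F)) = C
    · exact (hmemXC C' _).mp hzC' ⟨C'', hC''mem⟩ (hc ▸ hCC') hsp2
    · exact (hmemXC C _).mp hzC ⟨C'', hC''mem⟩ hc hsp2

end Groth.Agent.Lib.helper3.GenComps
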