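import Mathlib
import Groth.Prelude.Def_MoreMor
import Groth.Agent.Lib.Helper3.GeomSep

/-!
# The geometric fibre and base change (helper3)

For a cartesian square, the geometric fibre of `f'` at `y'` maps to the geometric fibre of `f` at
`g y'` by a base change of `Spec k'ˢ ⟶ Spec kˢ`; in particular the numbers of irreducible /
connected components agree.
-/

set_option autoImplicit false
universe u
open CategoryTheory AlgebraicGeometry Limits

namespace Groth.Agent.Lib.helper3.GeomFiberBC

theorem isPullback_congr_bot {C : Type*} [Category C] {P X Y Z : C} {a : P ⟶ X} {b : P ⟶ Y}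
    {c : X ⟶ Z} {d d' : Y ⟶ Z} (h : IsPullback a b c d) (e : d = d') : IsPullback a b c d' :=
  e ▸ h

/-- a geometrically connected open map induces a bijection on connected components. -/
theorem card_connectedComponents_eq {X S : Scheme.{u}} (p : X ⟶ S) [GeometricallyConnected p]
    (hp : IsOpenMap p) :
    ENat.card (_root_.ConnectedComponents X) = ENat.card (_root_.ConnectedComponents S) := by
  exact ENat.card_congr (p.connectedComponentsHomeomorph hp).toEquiv

/-- a geometrically irreducible open map induces a bijection on irreducible components. -/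
theorem encard_irreducibleComponents_eq {X S : Scheme.{u}} (p : X ⟶ S)
    [GeometricallyIrreducible p] (hp : IsOpenMap p) :
    (irreducibleComponents X).encard = (irreducibleComponents S).encard :=
  Set.encard_congr (p.irreducibleComponentsEquiv hp)

section

variable {X Y X' Y' : Scheme.{u}} (f : X ⟶ Y) (f' : X' ⟶ Y') (g' : X' ⟶ X) (g : Y' ⟶ Y)

/-- the comparison of geometric fibres under base change. -/
theorem exists_comparison (hc : IsPullback g' f' f g) (y' : Y') :
    ∃ p : MoreMor.geomFiber f' y' ⟶ MoreMor.geomFiber f (g y'),
      GeometricallyIrreducible p ∧ GeometricallyConnected p ∧ UniversallyOpen p := by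
  set k := Y.residueField (g y') with hk
  set k' := Y'.residueField y' with hk'
  set φ : k ⟶ k' := g.residueFieldMap y' with hφ
  letI : Algebra k k' := φ.hom.toAlgebra
  letI : Algebra k (SeparableClosure k') :=
    ((algebraMap k' (SeparableClosure k')).comp φ.hom).toAlgebra
  haveI : IsScalarTower k k' (SeparableClosure k') := IsScalarTower.of_algebraMap_eq (fun _ => rfl)
  let σ : SeparableClosure k →ₐ[k] SeparableClosure k' := IsSepClosed.lift
  letI : Algebra (SeparableClosure k) (SeparableClosure k') := σ.toRingHom.toAlgebra
  have hcomm : Spec.map (CommRingCat.ofHom (algebraMap k' (SeparableClosure k'))) ≫ Spec.map φ =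
      Spec.map (CommRingCat.ofHom (algebraMap (SeparableClosure k) (SeparableClosure k'))) ≫
        Spec.map (CommRingCat.ofHom (algebraMap k (SeparableClosure k))) := by
    rw [← Spec.map_comp, ← Spec.map_comp]
    congr 1
    refine CommRingCat.hom_ext (RingHom.ext fun a => ?_)
    exact (σ.commutes a).symm
  have h1 := isPullback_fiberToSpecResidueField_of_isPullback hc y'
  have h2 := IsPullback.of_hasPullback (f'.fiberToSpecResidueField y')
    (Spec.map (CommRingCat.ofHom (algebraMap k' (SeparableClosure k'))))
  have h3 := h2.paste_horiz h1
  have h4 := IsPullback.of_hasPullback (f.fiberToSpecResidueField (g y'))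
    (Spec.map (CommRingCat.ofHom (algebraMap k (SeparableClosure k))))
  have hw : (pullback.fst (f'.fiberToSpecResidueField y')
        (Spec.map (CommRingCat.ofHom (algebraMap k' (SeparableClosure k')))) ≫
      pullback.map _ _ _ _ g' (Spec.map (g.residueFieldMap y')) g hc.w.symm (by simp)) ≫
        f.fiberToSpecResidueField (g y') =
      (pullback.snd (f'.fiberToSpecResidueField y')
        (Spec.map (CommRingCat.ofHom (algebraMap k' (SeparableClosure k')))) ≫
        Spec.map (CommRingCat.ofHom (algebraMap (SeparableClosure k) (SeparableClosure k')))) ≫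
        Spec.map (CommRingCat.ofHom (algebraMap k (SeparableClosure k))) := by
    rw [h3.w]
    simp only [Category.assoc]
    exact congrArg (fun t => pullback.snd _ _ ≫ t) hcomm
  set p := pullback.lift _ _ hw with hp
  have h5 : IsPullback p (pullback.snd (f'.fiberToSpecResidueField y')
        (Spec.map (CommRingCat.ofHom (algebraMap k' (SeparableClosure k')))))
      (pullback.snd (f.fiberToSpecResidueField (g y'))
        (Spec.map (CommRingCat.ofHom (algebraMap k (SeparableClosure k)))))
      (Spec.map (CommRingCat.ofHom (algebraMap (SeparableClosure k) (SeparableClosure k')))) := by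
    have e1 : p ≫ pullback.fst (f.fiberToSpecResidueField (g y'))
        (Spec.map (CommRingCat.ofHom (algebraMap k (SeparableClosure k)))) = _ :=
      pullback.lift_fst _ _ hw
    have e2 : p ≫ pullback.snd (f.fiberToSpecResidueField (g y'))
        (Spec.map (CommRingCat.ofHom (algebraMap k (SeparableClosure k)))) = _ :=
      pullback.lift_snd _ _ hw
    refine IsPullback.of_right ?_ e2 h4
    rw [e1]
    exact isPullback_congr_bot h3 hcomm
  haveI : IsSepClosed (SeparableClosure k) := inferInstance
  have hgi := GeomSep.geometricallyIrreducible_specMap_of_isSepClosed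
    (SeparableClosure k) (SeparableClosure k')
  have hgc := GeomSep.geometricallyConnected_specMap_of_isSepClosed
    (SeparableClosure k) (SeparableClosure k')
  have hu : UniversallyOpen (Spec.map (CommRingCat.ofHom
    (algebraMap (SeparableClosure k) (SeparableClosure k')))) := inferInstance
  exact ⟨p, MorphismProperty.of_isPullback h5.flip hgi, MorphismProperty.of_isPullback h5.flip hgc,
    MorphismProperty.of_isPullback h5.flip hu⟩

/-- = S1334. -/
theorem nGeomIrredComp_baseChange (hc : IsPullback g' f' f g) (y' : Y') :
    MoreMor.nGeomIrredComp f' y' = MoreMor.nGeomIrredComp f (g y') := by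
  obtain ⟨p, h1, h2, h3⟩ := exists_comparison f f' g' g hc y'
  exact encard_irreducibleComponents_eq p p.isOpenMap

/-- = S1335. -/
theorem nGeomConnComp_baseChange (hc : IsPullback g' f' f g) (y' : Y') :
    MoreMor.nGeomConnComp f' y' = MoreMor.nGeomConnComp f (g y') := by
  obtain ⟨p, h1, h2, h3⟩ := exists_comparison f f' g' g hc y'
  exact card_connectedComponents_eq p p.isOpenMap

end

end Groth.Agent.Lib.helper3.GeomFiberBC
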