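import Mathlib
import Groth.Agent.Lib.Helper3.FibreDimNat
import Groth.Agent.Lib.Helper3.DimIneqLoc
import Groth.Agent.Lib.Helper3.DimIneqSch2
import Groth.Agent.Lib.Helper3.DimFun
/-!
# Helper library (helper3): the dimension inequality at a point over a Noetherian local ring

`dim_stalk_add_td_le`: `f : X ⟶ Y` locally of finite type, `x` a point such that `O_{Y,f x}` is
Noetherian, `d` a bound for the residue transcendence degrees at the generic points of the
irreducible components of `X` through `x`. Then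
`dim O_{X,x} + trdeg κ(x)/κ(f x) ≤ dim O_{Y,f x} + d`.
-/

set_option autoImplicit false
universe u
open CategoryTheory AlgebraicGeometry Function

namespace Groth.Agent.Lib.helper3.DimFibre

open Groth.Agent.Lib.helper3.DimIneq Groth.Agent.Lib.helper3.FTField

theorem isNoetherianRing_atPrime_congr {R : Type u} [CommRing R] (P P' : Ideal R) [P.IsPrime]
    [P'.IsPrime] (h : P = P') (hN : IsNoetherianRing (Localization.AtPrime P)) :
    IsNoetherianRing (Localization.AtPrime P') := by
  subst h; exact hN

variable {X Y : Scheme.{u}} (f : X ⟶ Y)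

theorem dim_stalk_add_td_le [LocallyOfFiniteType f] (x : X)
    [IsNoetherianRing (Y.presheaf.stalk (f.base x))] (d : ℕ)
    (hgen : ∀ Z ∈ irreducibleComponents (X : Type u), x ∈ Z → ∀ η : X, IsGenericPoint η Z →
      td (f.residueFieldMap η).hom ≤ (d : Cardinal.{u})) :
    ∃ h n p : ℕ, ringKrullDim (X.presheaf.stalk x) = (h : WithBot ℕ∞) ∧
      td (f.residueFieldMap x).hom = (n : Cardinal.{u}) ∧
      ringKrullDim (Y.presheaf.stalk (f.base x)) = (p : WithBot ℕ∞) ∧ h + n ≤ p + d ∧
      (h = 0 → closure ({x} : Set X) ∈ irreducibleComponents (X : Type u)) := by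
  obtain ⟨U, hU, hyU, -⟩ := exists_isAffineOpen_mem_and_subset (x := f.base x) (U := ⊤) trivial
  obtain ⟨V, hV, hxV, e⟩ := exists_isAffineOpen_mem_and_subset (x := x) (U := f ⁻¹ᵁ U) hyU
  have hφ : (f.appLE U V e).hom.FiniteType := LocallyOfFiniteType.finiteType_appLE f hU hV e
  set φ := (f.appLE U V e).hom with hφdef
  set q := (hV.primeIdealOf ⟨x, hxV⟩).asIdeal with hq
  set p := (hU.primeIdealOf ⟨f.base x, hyU⟩).asIdeal with hp
  have hc : q.comap φ = p := by
    have := IsAffineOpen.comap_primeIdealOf_appLE (f := f) (x := x) U hU V hV e hxV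
    exact congrArg PrimeSpectrum.asIdeal this
  haveI hNp : IsNoetherianRing (Localization.AtPrime p) := by
    letI : Algebra Γ(Y, U) (Y.presheaf.stalk (f.base x)) :=
      TopCat.Presheaf.algebra_section_stalk Y.presheaf ⟨f.base x, hyU⟩
    haveI := hU.isLocalization_stalk ⟨f.base x, hyU⟩
    exact isNoetherianRing_of_ringEquiv _
      (IsLocalization.algEquiv p.primeCompl (Y.presheaf.stalk (f.base x))
        (Localization.AtPrime p)).toRingEquiv
  haveI : IsNoetherianRing (Localization.AtPrime (q.comap φ)) :=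
    isNoetherianRing_atPrime_congr p _ hc.symm hNp
  obtain ⟨n, hn⟩ := exists_nat_td_residueFieldMap f x
  have hn' := hn
  rw [← td_quotientMap_eq f hU hV e x hxV] at hn
  have hE : ∀ q0 ∈ minimalPrimes Γ(X, V), q0 ≤ q →
      td (Ideal.quotientMap q0 φ le_rfl) ≤ (d : Cardinal.{u}) := by
    intro q0 hq0 hle
    haveI : q0.IsPrime := hq0.1.1
    obtain ⟨ξ, hξ, hξq⟩ := exists_point_of_prime hV q0
    subst hξq
    rw [td_quotientMap_eq f hU hV e ξ hξ]
    refine hgen _ (closure_mem_irreducibleComponents hV ξ hξ hq0) ?_ ξ rfl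
    have hs : ξ ⤳ x := (specializes_iff_primeIdealOf_le hV ξ x hξ hxV).mpr hle
    exact hs.mem_closure
  have key := height_add_le_loc' φ hφ q n d hn hE
  rw [hc] at key
  -- heights are finite
  have hpfin : p.height ≠ ⊤ := by
    have h1 : (IsLocalRing.maximalIdeal (Localization.AtPrime p)).height ≠ ⊤ :=
      Ideal.height_ne_top_of_isPrime
    have h2 : ((IsLocalRing.maximalIdeal (Localization.AtPrime p)).height : WithBot ℕ∞) =
        (p.height : WithBot ℕ∞) := by
      rw [IsLocalRing.maximalIdeal_height_eq_ringKrullDim,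
        IsLocalization.AtPrime.ringKrullDim_eq_height p]
    have h3 : (IsLocalRing.maximalIdeal (Localization.AtPrime p)).height = p.height := by
      exact_mod_cast h2
    rwa [h3] at h1
  obtain ⟨pn, hpn⟩ := ENat.ne_top_iff_exists.mp hpfin
  have hqfin : q.height ≠ ⊤ := by
    intro htop
    rw [htop, ← hpn] at key
    simp only [top_add, top_le_iff] at key
    exact absurd key (by exact_mod_cast ENat.natCast_ne_top (pn + d))
  obtain ⟨hn0, hhn⟩ := ENat.ne_top_iff_exists.mp hqfin
  refine ⟨hn0, n, pn, ?_, hn', ?_, ?_, ?_⟩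
  · rw [ringKrullDim_stalk_eq_height hV x hxV, ← hhn]; rfl
  · rw [ringKrullDim_stalk_eq_height hU (f.base x) hyU, ← hpn]; rfl
  · rw [← hhn, ← hpn] at key
    exact_mod_cast key
  · intro h0
    subst h0
    have hmin : q ∈ minimalPrimes Γ(X, V) := Ideal.height_eq_zero_iff.mp (by rw [← hhn]; rfl)
    exact closure_mem_irreducibleComponents hV x hxV hmin

end Groth.Agent.Lib.helper3.DimFibre
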