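import Groth.Prelude.Def_KRR
import Mathlib.RingTheory.AdjoinRoot
import Mathlib.RingTheory.PowerSeries.Trunc
import Mathlib.RingTheory.Nilpotent.Basic

/-!
λ-rings with positive structure: elementary power-series facts (helper3).
-/

set_option autoImplicit false
universe v

namespace Groth.Agent.Lib.helper3.LamRing

open PowerSeries LambdaRing KRR Finset

variable {K : Type v} [CommRing K] [LambdaOps K]

theorem coeff_lamSeries (k : ℕ) (x : K) : coeff k (lamSeries x) = LambdaOps.lam k x := by
  rw [lamSeries, coeff_mk]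

theorem lamSeries_add (x y : K) : lamSeries (x + y) = lamSeries x * lamSeries y := by
  ext k
  rw [PowerSeries.coeff_mul, coeff_lamSeries, LambdaOps.lam_add,
    Finset.Nat.sum_antidiagonal_eq_sum_range_succ_mk]
  simp only [coeff_lamSeries]

theorem constantCoeff_lamSeries (x : K) : constantCoeff (lamSeries x) = 1 := by
  rw [← PowerSeries.coeff_zero_eq_constantCoeff_apply, coeff_lamSeries, LambdaOps.lam_zero]

theorem constantCoeff_rescale_lamSeries (x : K) :
    constantCoeff (rescale (-1 : K) (lamSeries x)) = 1 := by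
  rw [← PowerSeries.coeff_zero_eq_constantCoeff_apply, coeff_rescale, coeff_lamSeries,
    LambdaOps.lam_zero, pow_zero, mul_one]

theorem rescale_mul_sigmaSeries (x : K) :
    rescale (-1 : K) (lamSeries x) * sigmaSeries x = 1 := by
  rw [sigmaSeries]
  exact PowerSeries.mul_invOfUnit _ 1 (by rw [constantCoeff_rescale_lamSeries]; rfl)

/-- The recursion `Σ_{i+j=n} (-1)^i λ^i(x) σ^j(x) = δ_{n,0}`. -/
theorem sigma_rec (x : K) (n : ℕ) :
    ∑ i ∈ range (n + 1), ((-1 : K) ^ i * LambdaOps.lam i x) * sigma (n - i) x =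
      if n = 0 then 1 else 0 := by
  have h := congrArg (coeff n) (rescale_mul_sigmaSeries x)
  rw [PowerSeries.coeff_mul, Finset.Nat.sum_antidiagonal_eq_sum_range_succ_mk, coeff_one] at h
  rw [← h]
  refine Finset.sum_congr rfl fun i _ => ?_
  rw [coeff_rescale, coeff_lamSeries, sigma]

theorem sigma_rec_pos (x : K) (n : ℕ) (hn : 0 < n) :
    ∑ i ∈ range (n + 1), ((-1 : K) ^ i * LambdaOps.lam i x) * sigma (n - i) x = 0 := by
  rw [sigma_rec, if_neg hn.ne']

theorem sigma_zero (x : K) : sigma 0 x = 1 := by
  have h := sigma_rec x 0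
  simpa [LambdaOps.lam_zero] using h

/-- `1` is a line element. -/
theorem isLine_one (P : PosStructure K) : P.IsLine (1 : K) := by
  refine ⟨?_, map_one _⟩
  have h := P.natCast_mem 1 Nat.one_pos
  rwa [Nat.cast_one] at h

theorem isLine_mul (P : PosStructure K) {a b : K} (ha : P.IsLine a) (hb : P.IsLine b) :
    P.IsLine (a * b) :=
  ⟨P.mul_mem a b ha.1 hb.1, by rw [map_mul, ha.2, hb.2, mul_one]⟩

theorem isLine_pow (P : PosStructure K) {a : K} (ha : P.IsLine a) (n : ℕ) :
    P.IsLine (a ^ n) := by
  induction n with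
  | zero => rw [pow_zero]; exact isLine_one P
  | succ n ih => rw [pow_succ]; exact isLine_mul P ih ha

theorem isUnit_of_isLine (P : PosStructure K) {a : K} (ha : P.IsLine a) : IsUnit a := by
  have h := P.isUnit_lam a ha.1
  rw [ha.2] at h
  simpa [LambdaOps.lam_one] using h

theorem lamSeries_line (P : PosStructure K) {a : K} (ha : P.IsLine a) :
    lamSeries a = 1 + C a * X := by
  ext k
  rw [coeff_lamSeries, map_add, coeff_one]
  rcases k with _ | _ | k
  · simp [LambdaOps.lam_zero]
  · simp [LambdaOps.lam_one]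
  · rw [P.lam_eq_zero a ha.1 (k + 2) (by rw [ha.2]; push_cast; omega)]
    rw [show k + 1 + 1 = (k + 1) + 1 from rfl, coeff_succ_mul_X, coeff_C]
    simp

theorem lamSeries_one (P : PosStructure K) : lamSeries (1 : K) = 1 + X := by
  rw [lamSeries_line P (isLine_one P), map_one, one_mul]

theorem lamSeries_natCast (P : PosStructure K) (m : ℕ) : lamSeries (m : K) = (1 + X) ^ m := by
  induction m with
  | zero =>
    rw [Nat.cast_zero, pow_zero]
    have h := lamSeries_add (0 : K) 0
    rw [add_zero] at h
    have hu : IsUnit (lamSeries (0 : K)) := by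
      rw [PowerSeries.isUnit_iff_constantCoeff, constantCoeff_lamSeries]
      exact isUnit_one
    have h2 : lamSeries (0 : K) * 1 = lamSeries (0 : K) * lamSeries (0 : K) := by
      rw [mul_one, ← h]
    exact (hu.mul_left_cancel h2).symm
  | succ m ih => rw [Nat.cast_succ, lamSeries_add, ih, lamSeries_one P, pow_succ]

/-- If `m = e + v` with `e` positive, `m` a natural number and `v` a line element, then
`v - 1` is nilpotent. -/
theorem isNilpotent_line_sub_one (P : PosStructure K) {e v : K} (he : e ∈ P.pos)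
    (hv : P.IsLine v) (m : ℕ) (hm : (m : K) = e + v) : IsNilpotent (v - 1) := by
  obtain ⟨vu, hvu⟩ := isUnit_of_isLine P hv
  have haug : (m : ℤ) = P.aug e + 1 := by
    have := congrArg P.aug hm
    rwa [map_natCast, map_add, hv.2] at this
  have hser : ((1 + X : K⟦X⟧)) ^ m = lamSeries e * (1 + C v * X) := by
    rw [← lamSeries_natCast P, hm, lamSeries_add, lamSeries_line P hv]
  -- polynomial version
  set p : Polynomial K := trunc m (lamSeries e) with hp
  have hpcoe : (p : K⟦X⟧) = lamSeries e := by
    ext n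
    rw [Polynomial.coeff_coe, hp, coeff_trunc]
    split_ifs with hn
    · rfl
    · rw [coeff_lamSeries, P.lam_eq_zero e he n (by omega)]
  have hpoly : ((1 + Polynomial.X : Polynomial K)) ^ m =
      p * (1 + Polynomial.C v * Polynomial.X) := by
    apply Polynomial.coe_injective
    rw [Polynomial.coe_pow, Polynomial.coe_add, Polynomial.coe_one, Polynomial.coe_X,
      Polynomial.coe_mul, hpcoe, Polynomial.coe_add, Polynomial.coe_one, Polynomial.coe_mul,
      Polynomial.coe_C, Polynomial.coe_X]
    exact hser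
  have hev := congrArg (Polynomial.eval (-(↑vu⁻¹ : K))) hpoly
  rw [Polynomial.eval_pow, Polynomial.eval_add, Polynomial.eval_one, Polynomial.eval_X,
    Polynomial.eval_mul, Polynomial.eval_add, Polynomial.eval_one, Polynomial.eval_mul,
    Polynomial.eval_C, Polynomial.eval_X, ← hvu, mul_neg, Units.mul_inv, add_neg_cancel,
    mul_zero] at hev
  refine ⟨m, ?_⟩
  have : (v - 1) ^ m = v ^ m * (1 + -(↑vu⁻¹ : K)) ^ m := by
    rw [← mul_pow, ← hvu, mul_add, mul_one, mul_neg, Units.mul_inv, sub_eq_add_neg]
  rw [this, hev, mul_zero]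

end Groth.Agent.Lib.helper3.LamRing
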