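import Mathlib
import Groth.Agent.Lib.Helper3.FlatLocus1
import Groth.Agent.Lib.Helper3.FlatDescG
/-!
# Finite presentation from local finite presentation (helper3)

Stacks 053B-type statement: `A` a finitely presented `R`-algebra, `M = A^r / K` flat over `R`,
`R ↪ ∏_{p ∈ s} R_p` for a finite set of primes, and `K` "locally finitely generated" over every
prime of `R`.  Then `K` is finitely generated.  The proof uses openness of the flat locus of the
finitely presented modules `A^r / K'` (`K' ⊆ K` f.g.) and quasi-compactness of `Spec A`.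

* `flat_localizedModule` : localizing a flat module at a submonoid of an algebra keeps it flat.
* `eq_zero_of_flat_of_forall_exists` : flat over `R ↪ ∏ R_p`, killed locally at each `p ∈ s` ⇒ zero.
* `fg_ker_of_locally` : the core statement.
* `exists_fg_le_ker_of_fp_localized` : converts `Module.FinitePresentation` of a localized module
  into the elementwise hypothesis of `fg_ker_of_locally`.
-/

set_option autoImplicit false
universe u

open TensorProduct

namespace Groth.Agent.Lib.helper3.FpLocal

section Basic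

/-- localization of a flat module at a submonoid of an algebra stays flat over the base. -/
theorem flat_localizedModule {R A : Type*} [CommRing R] [CommRing A] [Algebra R A]
    (T : Submonoid A) (E : Type*) [AddCommGroup E] [Module R E] [Module A E]
    [IsScalarTower R A E] [Module.Flat R E] :
    Module.Flat R (LocalizedModule T E) := by
  rw [FlatLocus.flat_iff T (LocalizedModule.mkLinearMap T E)]
  intro 𝔟 x hx
  refine ⟨1, T.one_mem, ?_⟩
  rw [one_smul]
  exact (Module.Flat.iff_lTensor_injective'.mp inferInstance 𝔟) (by rw [hx, map_zero])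

theorem eq_zero_of_flat_of_forall_exists {R : Type*} [CommRing R] (s : Finset (PrimeSpectrum R))
    (hs : Function.Injective fun r : R => fun p : s =>
      algebraMap R (Localization.AtPrime p.1.asIdeal) r)
    {N : Type*} [AddCommGroup N] [Module R N] [Module.Flat R N] (x : N)
    (hx : ∀ p ∈ s, ∃ t : R, t ∉ p.asIdeal ∧ t • x = 0) : x = 0 := by
  classical
  let Rs := ∀ p : s, Localization.AtPrime p.1.asIdeal
  let ι : R →ₗ[R] Rs := Algebra.linearMap R Rs
  have hι : Function.Injective ι := by
    intro a b hab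
    apply hs
    funext p
    exact congrFun hab p
  have hinj := Module.Flat.lTensor_preserves_injective_linearMap (M := N) ι hι
  have h1 : x ⊗ₜ[R] (1 : Rs) = 0 := by
    have hone : (1 : Rs) = ∑ p : s, Pi.single p 1 := (Finset.univ_sum_single (1 : Rs)).symm
    rw [hone, TensorProduct.tmul_sum]
    refine Finset.sum_eq_zero fun p _ => ?_
    obtain ⟨t, ht, htx⟩ := hx p.1 p.2
    have : (Pi.single p (1 : Localization.AtPrime p.1.asIdeal) : Rs) =
        t • (Pi.single p (IsLocalization.mk' (Localization.AtPrime p.1.asIdeal) (1 : R)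
          (⟨t, ht⟩ : p.1.asIdeal.primeCompl)) : Rs) := by
      rw [← Pi.single_smul]
      congr 1
      rw [Algebra.smul_def, IsLocalization.mk'_spec'_mk, map_one]
    rw [this, ← TensorProduct.smul_tmul, htx, TensorProduct.zero_tmul]
  have h2 : ι.lTensor N (x ⊗ₜ[R] (1 : R)) = 0 := by
    rw [LinearMap.lTensor_tmul]
    have : ι 1 = 1 := map_one (algebraMap R Rs)
    rw [this]
    exact h1
  have h3 : x ⊗ₜ[R] (1 : R) = 0 := hinj (by rw [h2, map_zero])
  have := congrArg (TensorProduct.rid R N) h3
  simpa using this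

end Basic


section Core

variable {R A M : Type u} [CommRing R] [CommRing A] [Algebra R A]
  [AddCommGroup M] [Module A M] [Module R M] [IsScalarTower R A M]
  {r : ℕ} (π : (Fin r → A) →ₗ[A] M)

/-- If `K' ⊆ ker π` agrees with `ker π` at the prime `q`, then `(A^r / K')_q ≅ M_q` is `R`-flat. -/
theorem flat_localized_quotient [Module.Flat R M] (hπ : Function.Surjective π)
    (K' : Submodule A (Fin r → A)) (hle : K' ≤ LinearMap.ker π)
    (q : Ideal A) [q.IsPrime] (h : ∀ z ∈ LinearMap.ker π, ∃ a : A, a ∉ q ∧ a • z ∈ K') :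
    Module.Flat R (LocalizedModule q.primeCompl ((Fin r → A) ⧸ K')) := by
  let φ : ((Fin r → A) ⧸ K') →ₗ[A] M := K'.liftQ π hle
  let ψ : ((Fin r → A) ⧸ K') →ₗ[A] LocalizedModule q.primeCompl M :=
    (LocalizedModule.mkLinearMap q.primeCompl M) ∘ₗ φ
  have : IsLocalizedModule q.primeCompl ψ := by
    refine ⟨fun x => IsLocalizedModule.map_units (LocalizedModule.mkLinearMap q.primeCompl M) x,
      ?_, ?_⟩
    · intro y
      obtain ⟨⟨m, t⟩, hmt⟩ :=
        IsLocalizedModule.surj q.primeCompl (LocalizedModule.mkLinearMap q.primeCompl M) y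
      obtain ⟨f, rfl⟩ := hπ m
      exact ⟨(K'.mkQ f, t), by simpa [ψ, φ] using hmt⟩
    · intro x₁ x₂ hx
      obtain ⟨f₁, rfl⟩ := K'.mkQ_surjective x₁
      obtain ⟨f₂, rfl⟩ := K'.mkQ_surjective x₂
      have h1 : LocalizedModule.mkLinearMap q.primeCompl M (π f₁) =
          LocalizedModule.mkLinearMap q.primeCompl M (π f₂) := by simpa [ψ, φ] using hx
      obtain ⟨c, hc⟩ := IsLocalizedModule.exists_of_eq (S := q.primeCompl) h1
      have hmem : (c : A) • (f₁ - f₂) ∈ LinearMap.ker π := by
        rw [LinearMap.mem_ker, map_smul, map_sub, smul_sub, sub_eq_zero]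
        exact hc
      obtain ⟨a, ha, haz⟩ := h _ hmem
      refine ⟨⟨a, ha⟩ * c, ?_⟩
      rw [← sub_eq_zero, ← smul_sub, ← map_sub]
      change ((a * (c : A)) • K'.mkQ (f₁ - f₂)) = 0
      rw [← map_smul, mul_smul, Submodule.mkQ_apply, Submodule.Quotient.mk_eq_zero]
      exact haz
  have : Module.Flat R (LocalizedModule q.primeCompl M) := flat_localizedModule q.primeCompl M
  exact FlatLocus.flat_of_le q.primeCompl q.primeCompl ψ
    (LocalizedModule.mkLinearMap q.primeCompl ((Fin r → A) ⧸ K')) le_rfl inferInstance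

/-- At a prime `q` where `A^r / K'` is `R`-flat, `K'` agrees with `ker π`, provided it does so
at the finitely many primes `p ∈ s` with `R ↪ ∏ R_p`. -/
theorem exists_smul_mem_of_flat (s : Finset (PrimeSpectrum R))
    (hs : Function.Injective fun r : R => fun p : s =>
      algebraMap R (Localization.AtPrime p.1.asIdeal) r)
    (K0 K' : Submodule A (Fin r → A)) (hK0 : K0 ≤ K')
    (hK0s : ∀ p ∈ s, ∀ z ∈ LinearMap.ker π, ∃ t : R, t ∉ p.asIdeal ∧ t • z ∈ K0)
    (q : Ideal A) [q.IsPrime]
    (hq : Module.Flat R (LocalizedModule q.primeCompl ((Fin r → A) ⧸ K'))) :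
    ∀ z ∈ LinearMap.ker π, ∃ a : A, a ∉ q ∧ a • z ∈ K' := by
  intro z hz
  have hx : LocalizedModule.mkLinearMap q.primeCompl ((Fin r → A) ⧸ K') (K'.mkQ z) = 0 := by
    apply eq_zero_of_flat_of_forall_exists s hs
    intro p hp
    obtain ⟨t, ht, htz⟩ := hK0s p hp z hz
    refine ⟨t, ht, ?_⟩
    rw [LocalizedModule.mkLinearMap_apply, LocalizedModule.smul'_mk, Submodule.mkQ_apply,
      ← Submodule.Quotient.mk_smul, (Submodule.Quotient.mk_eq_zero K').mpr (hK0 htz),
      LocalizedModule.zero_mk]
  obtain ⟨c, hc⟩ := (IsLocalizedModule.eq_zero_iff q.primeCompl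
    (LocalizedModule.mkLinearMap q.primeCompl ((Fin r → A) ⧸ K'))).mp hx
  refine ⟨c.1, c.2, ?_⟩
  have : (c : A) • K'.mkQ z = 0 := hc
  rwa [← map_smul, Submodule.mkQ_apply, Submodule.Quotient.mk_eq_zero] at this

/-- **Core** (Stacks 053B-type): `A` finitely presented over `R`, `M = A^r / ker π` flat over `R`,
`R ↪ ∏_{p ∈ s} R_p`, and `ker π` locally finitely generated over each prime of `R`; then `ker π`
is finitely generated. -/
theorem fg_ker_of_locally [Algebra.FinitePresentation R A] [Module.Flat R M]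
    (hπ : Function.Surjective π) (s : Finset (PrimeSpectrum R))
    (hs : Function.Injective fun r : R => fun p : s =>
      algebraMap R (Localization.AtPrime p.1.asIdeal) r)
    (hloc : ∀ (p : Ideal R) [p.IsPrime], ∃ K' : Submodule A (Fin r → A),
      K' ≤ LinearMap.ker π ∧ K'.FG ∧ ∀ z ∈ LinearMap.ker π, ∃ t : R, t ∉ p ∧ t • z ∈ K') :
    (LinearMap.ker π).FG := by
  classical
  set K := LinearMap.ker π with hK
  choose Kp hKle hKfg hKp using fun p : PrimeSpectrum R => hloc p.asIdeal
  set K0 := s.sup Kp with hK0def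
  have hK0le : K0 ≤ K := Finset.sup_le fun p _ => hKle p
  have hK0fg : K0.FG := Submodule.fg_finset_sup s Kp fun p _ => hKfg p
  have hK0s : ∀ p ∈ s, ∀ z ∈ K, ∃ t : R, t ∉ p.asIdeal ∧ t • z ∈ K0 := fun p hp z hz => by
    obtain ⟨t, ht, htz⟩ := hKp p z hz
    exact ⟨t, ht, (Finset.le_sup hp : Kp p ≤ K0) htz⟩
  let ι := {K' : Submodule A (Fin r → A) // K0 ≤ K' ∧ K' ≤ K ∧ K'.FG}
  have : Nonempty ι := ⟨⟨K0, le_rfl, hK0le, hK0fg⟩⟩
  let U : ι → Set (PrimeSpectrum A) := fun K' =>
    {q | Module.Flat R (LocalizedModule q.asIdeal.primeCompl ((Fin r → A) ⧸ K'.1))}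
  have hUo : ∀ i, IsOpen (U i) := fun K' => by
    have : Module.FinitePresentation A ((Fin r → A) ⧸ K'.1) :=
      Module.finitePresentation_of_surjective K'.1.mkQ K'.1.mkQ_surjective
        (by rw [Submodule.ker_mkQ]; exact K'.2.2.2)
    exact FlatDesc.isOpen_flatLocus_of_finitePresentation
  have hmono : ∀ i j : ι, i.1 ≤ j.1 → U i ⊆ U j := fun i j hij q hq => by
    have h1 := exists_smul_mem_of_flat π s hs K0 i.1 i.2.1 hK0s q.asIdeal hq
    exact flat_localized_quotient π hπ j.1 j.2.2.1 q.asIdeal fun z hz => by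
      obtain ⟨a, ha, haz⟩ := h1 z hz
      exact ⟨a, ha, hij haz⟩
  have hdir : Directed (· ⊆ ·) U := fun i j =>
    ⟨⟨i.1 ⊔ j.1, le_sup_of_le_left i.2.1, sup_le i.2.2.1 j.2.2.1, i.2.2.2.sup j.2.2.2⟩,
      hmono _ _ le_sup_left, hmono _ _ le_sup_right⟩
  have hcover : (Set.univ : Set (PrimeSpectrum A)) ⊆ ⋃ i, U i := fun q _ => by
    let p : PrimeSpectrum R := PrimeSpectrum.comap (algebraMap R A) q
    refine Set.mem_iUnion.mpr
      ⟨⟨K0 ⊔ Kp p, le_sup_left, sup_le hK0le (hKle p), hK0fg.sup (hKfg p)⟩, ?_⟩
    refine flat_localized_quotient π hπ _ (sup_le hK0le (hKle p)) q.asIdeal fun z hz => ?_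
    obtain ⟨t, ht, htz⟩ := hKp p z hz
    refine ⟨algebraMap R A t, ht, ?_⟩
    rw [algebraMap_smul]
    exact Submodule.mem_sup_right htz
  obtain ⟨K', hK'⟩ := isCompact_univ.elim_directed_cover U hUo hcover hdir
  have hall : K ≤ K'.1 := by
    intro z hz
    by_contra hzK
    let J : Ideal A := K'.1.colon {z}
    have hJ : J ≠ ⊤ := by
      intro hJ
      have : (1 : A) ∈ J := by rw [hJ]; trivial
      rw [Submodule.mem_colon_singleton, one_smul] at this
      exact hzK this
    obtain ⟨m, hm, hJm⟩ := Ideal.exists_le_maximal J hJ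
    have := hm.isPrime
    have hq : (⟨m, hm.isPrime⟩ : PrimeSpectrum A) ∈ U K' := hK' (Set.mem_univ _)
    obtain ⟨a, ha, haz⟩ := exists_smul_mem_of_flat π s hs K0 K'.1 K'.2.1 hK0s m hq z hz
    exact ha (hJm (Submodule.mem_colon_singleton.mpr haz))
  rw [show K = K'.1 from le_antisymm hall K'.2.2.1]
  exact K'.2.2.2

end Core

section Conv

variable {R A M : Type*} [CommRing R] [CommRing A] [Algebra R A]
  [AddCommGroup M] [Module A M] [Module R M] [IsScalarTower R A M]
  {r : ℕ} (π : (Fin r → A) →ₗ[A] M)

/-- finite presentation of the localization of `M` over a prime `p` of `R` gives a finitely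
generated `K' ⊆ ker π` agreeing with `ker π` over `p`. -/
theorem exists_fg_le_ker_of_fp_localized (hπ : Function.Surjective π) (p : Ideal R) [p.IsPrime]
    (h : Module.FinitePresentation (Localization (Algebra.algebraMapSubmonoid A p.primeCompl))
      (LocalizedModule (Algebra.algebraMapSubmonoid A p.primeCompl) M)) :
    ∃ K' : Submodule A (Fin r → A), K' ≤ LinearMap.ker π ∧ K'.FG ∧
      ∀ z ∈ LinearMap.ker π, ∃ t : R, t ∉ p ∧ t • z ∈ K' := by
  classical
  set T := Algebra.algebraMapSubmonoid A p.primeCompl with hT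
  set f := LocalizedModule.mkLinearMap T (Fin r → A) with hf
  set f' := LocalizedModule.mkLinearMap T M with hf'
  let πT : LocalizedModule T (Fin r → A) →ₗ[Localization T] LocalizedModule T M :=
    (IsLocalizedModule.map T f f' π).extendScalarsOfIsLocalization T (Localization T)
  have hsurj : Function.Surjective πT := IsLocalizedModule.map_surjective T f f' π hπ
  have hker : (LinearMap.ker πT).FG := Module.FinitePresentation.fg_ker πT hsurj
  have hkeq : (LinearMap.ker π).localized' (Localization T) T f = LinearMap.ker πT :=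
    LinearMap.localized'_ker_eq_ker_localizedMap (Localization T) T f f' π
  obtain ⟨G, hG⟩ := hker
  have hGmem : ∀ g ∈ G, ∃ m ∈ LinearMap.ker π, ∃ v : T, IsLocalizedModule.mk' f m v = g := by
    intro g hg
    have : g ∈ LinearMap.ker πT := hG ▸ Submodule.subset_span hg
    rw [← hkeq] at this
    exact this
  choose! m hm v hv using hGmem
  refine ⟨Submodule.span A (m '' (G : Set _)), ?_, ?_, ?_⟩
  · rw [Submodule.span_le]
    rintro _ ⟨g, hg, rfl⟩
    exact hm g hg
  · exact Submodule.fg_span (G.finite_toSet.image m)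
  · intro z hz
    have h1 : f z ∈ (Submodule.span A (m '' (G : Set _))).localized' (Localization T) T f := by
      have h2 : f z ∈ LinearMap.ker πT := by
        rw [← hkeq]
        exact ⟨z, hz, 1, by simp⟩
      rw [← hG] at h2
      refine (Submodule.span_le.mpr ?_) h2
      intro g hg
      exact ⟨m g, Submodule.subset_span ⟨g, hg, rfl⟩, v g, hv g hg⟩
    obtain ⟨k, hk, w, hkw⟩ := h1
    rw [IsLocalizedModule.mk'_eq_iff, Submonoid.smul_def, ← map_smul] at hkw
    obtain ⟨c, hc⟩ := IsLocalizedModule.exists_of_eq (S := T) hkw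
    have hcw : ((c * w : T) : A) ∈ T := (c * w).2
    obtain ⟨t, ht, hte⟩ := hcw
    refine ⟨t, ht, ?_⟩
    rw [← algebraMap_smul A t z, hte, Submonoid.coe_mul, mul_smul]
    have : (c : A) • (w : A) • z = (c : A) • k := hc.symm
    rw [this]
    exact Submodule.smul_mem _ _ hk

end Conv

section Main

/-- Stacks 053B-type statement for a finitely presented algebra `A` over `R`. -/
theorem finitePresentation_of_locally {R A M : Type u} [CommRing R] [CommRing A] [Algebra R A]
    [Algebra.FinitePresentation R A] [AddCommGroup M] [Module A M] [Module R M]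
    [IsScalarTower R A M] [Module.Finite A M] [Module.Flat R M]
    (s : Finset (PrimeSpectrum R))
    (hs : Function.Injective fun r : R => fun p : s =>
      algebraMap R (Localization.AtPrime p.1.asIdeal) r)
    (hloc : ∀ (p : Ideal R) [p.IsPrime],
      Module.FinitePresentation (Localization (Algebra.algebraMapSubmonoid A p.primeCompl))
        (LocalizedModule (Algebra.algebraMapSubmonoid A p.primeCompl) M)) :
    Module.FinitePresentation A M := by
  obtain ⟨r, π, hπ⟩ := Module.Finite.exists_fin' A M
  have hK := fg_ker_of_locally π hπ s hs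
    (fun p _ => exists_fg_le_ker_of_fp_localized π hπ p (hloc p))
  exact Module.finitePresentation_of_surjective π hπ hK

end Main

end Groth.Agent.Lib.helper3.FpLocal
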