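import Mathlib
/-!
# Saturated ideals of polynomial rings over valuation rings are finitely generated (helper3)

`A` a valuation ring, `I ⊆ A[x₁..xₙ]` an ideal with `A[x]/I` torsion-free (`I` saturated).
Then `I` is finitely generated (Nagata / Raynaud–Gruson; Stacks 053E).  Proof: filtration by
total degree, `I_d = I ∩ A[x]_{≤ d}` is a direct summand of a finite free module; a Dickson-type
argument on leading monomials (with degree tags) of reductions mod `𝔪` shows
`I_{d+1} = I_d + ∑ xᵢ I_d + 𝔪 I_{d+1}` for `d ≫ 0`, and Nakayama concludes.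
-/

set_option autoImplicit false
universe u v
open MvPolynomial

namespace Groth.Agent.Lib.helper3.ValFp

section Div

variable {A : Type u} [CommRing A] [IsDomain A] [ValuationRing A] {σ : Type v}

/-- among finitely many elements of a valuation ring one divides all the others -/
theorem exists_dvd_all {ι : Type*} (s : Finset ι) (hs : s.Nonempty) (c : ι → A) :
    ∃ i ∈ s, ∀ j ∈ s, c i ∣ c j := by
  induction hs using Finset.Nonempty.cons_induction with
  | singleton a => exact ⟨a, by simp, by simp⟩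
  | cons a s ha hs ih =>
    obtain ⟨i, hi, hdiv⟩ := ih
    rcases ValuationRing.dvd_total (c a) (c i) with h | h
    · refine ⟨a, by simp, fun j hj => ?_⟩
      rcases Finset.mem_cons.mp hj with rfl | hj
      · exact dvd_rfl
      · exact h.trans (hdiv j hj)
    · refine ⟨i, by simp [hi], fun j hj => ?_⟩
      rcases Finset.mem_cons.mp hj with rfl | hj
      · exact h
      · exact hdiv j hj

/-- a nonzero polynomial all of whose coefficients lie in `𝔪` is `C c * f'` with `c ∈ 𝔪`. -/
theorem exists_eq_C_mul (f : MvPolynomial σ A) (hf : f ≠ 0)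
    (hm : ∀ α, coeff α f ∈ IsLocalRing.maximalIdeal A) :
    ∃ (c : A) (f' : MvPolynomial σ A), c ∈ IsLocalRing.maximalIdeal A ∧ c ≠ 0 ∧
      f = C c * f' ∧ f'.totalDegree ≤ f.totalDegree := by
  classical
  have hne : f.support.Nonempty := by
    rwa [Finset.nonempty_iff_ne_empty, Ne, support_eq_empty]
  obtain ⟨α₀, hα₀, hdiv⟩ := exists_dvd_all f.support hne (fun α => coeff α f)
  choose! q hq using hdiv
  refine ⟨coeff α₀ f, ∑ α ∈ f.support, monomial α (q α), hm α₀, mem_support_iff.mp hα₀, ?_, ?_⟩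
  · rw [Finset.mul_sum]
    conv_lhs => rw [f.as_sum]
    refine Finset.sum_congr rfl fun α hα => ?_
    rw [C_mul_monomial, ← hq α hα]
  · refine (totalDegree_finsetSum _ _).trans ?_
    refine Finset.sup_le fun α hα => ?_
    exact (totalDegree_monomial_le _ _).trans (le_totalDegree hα)

end Div

section Filt

variable {A : Type u} [CommRing A] [IsDomain A] [ValuationRing A] {σ : Type v}
  (I : Ideal (MvPolynomial σ A))

/-- the elements of `I` of total degree at most `d`, as an `A`-module. -/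
noncomputable def Id (d : ℕ) : Submodule A (MvPolynomial σ A) :=
  I.restrictScalars A ⊓ restrictTotalDegree σ A d

variable {I}

theorem mem_Id {d : ℕ} {f : MvPolynomial σ A} : f ∈ Id I d ↔ f ∈ I ∧ f.totalDegree ≤ d := by
  rw [Id, Submodule.mem_inf, mem_restrictTotalDegree]
  rfl

theorem Id_mono {d e : ℕ} (h : d ≤ e) : Id I d ≤ Id I e := fun f hf => by
  rw [mem_Id] at hf ⊢
  exact ⟨hf.1, hf.2.trans h⟩

variable (hsat : ∀ a : A, a ≠ 0 → ∀ f : MvPolynomial σ A, C a * f ∈ I → f ∈ I)
include hsat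

theorem Id_fg [Finite σ] (d : ℕ) : (Id I d).FG := by
  set F := restrictTotalDegree σ A d with hF
  let g : F →ₗ[A] (MvPolynomial σ A ⧸ I) := (Ideal.Quotient.mkₐ A I).toLinearMap ∘ₗ F.subtype
  have hg : ∀ f : F, g f = Ideal.Quotient.mk I f.1 := fun f => rfl
  have htf : Submodule.torsion A (LinearMap.range g) = ⊥ := by
    rw [eq_bot_iff]
    rintro ⟨x, ⟨f, rfl⟩⟩ ⟨⟨a, ha⟩, hax⟩
    have ha0 : a ≠ 0 := nonZeroDivisors.ne_zero ha
    have h1 : a • g f = 0 := congrArg Subtype.val hax
    have h1' : Ideal.Quotient.mkₐ A I (a • f.1) = 0 := by rw [map_smul]; exact h1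
    rw [Ideal.Quotient.mkₐ_eq_mk, Ideal.Quotient.eq_zero_iff_mem, smul_eq_C_mul] at h1'
    replace h1 := h1'
    have hfI := hsat a ha0 _ h1
    rw [Submodule.mem_bot]
    apply Subtype.ext
    change g f = 0
    rw [hg, Ideal.Quotient.eq_zero_iff_mem]
    exact hfI
  haveI : Module.Flat A (LinearMap.range g) :=
    Module.Flat.flat_iff_torsion_eq_bot_of_isBezout.mpr htf
  haveI : Module.Free A (LinearMap.range g) := Module.free_of_flat_of_isLocalRing
  haveI : Module.FinitePresentation A (LinearMap.range g) :=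
    Module.finitePresentation_of_projective A _
  have hker : (LinearMap.ker g.rangeRestrict).FG :=
    Module.FinitePresentation.fg_ker g.rangeRestrict g.surjective_rangeRestrict
  have : Id I d = (LinearMap.ker g.rangeRestrict).map F.subtype := by
    ext f
    constructor
    · intro hf
      have hf' := mem_Id.mp hf
      have hfF : f ∈ F := (mem_restrictTotalDegree _ _ _).mpr hf'.2
      refine ⟨⟨f, hfF⟩, ?_, rfl⟩
      rw [SetLike.mem_coe, LinearMap.mem_ker]
      apply Subtype.ext
      change g ⟨f, hfF⟩ = 0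
      rw [hg, Ideal.Quotient.eq_zero_iff_mem]
      exact hf'.1
    · rintro ⟨⟨f, hfF⟩, hk, rfl⟩
      rw [SetLike.mem_coe, LinearMap.mem_ker] at hk
      have h2 : g ⟨f, hfF⟩ = 0 := congrArg Subtype.val hk
      rw [hg, Ideal.Quotient.eq_zero_iff_mem] at h2
      exact mem_Id.mpr ⟨h2, (mem_restrictTotalDegree _ _ _).mp hfF⟩
  rw [this]
  exact hker.map _

theorem mem_smul_Id {d : ℕ} {f : MvPolynomial σ A} (hf : f ∈ Id I d)
    (hm : ∀ α, coeff α f ∈ IsLocalRing.maximalIdeal A) :
    f ∈ IsLocalRing.maximalIdeal A • Id I d := by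
  by_cases h0 : f = 0
  · rw [h0]; exact zero_mem _
  obtain ⟨c, f', hc, hc0, hff', hdeg⟩ := exists_eq_C_mul f h0 hm
  have hf' := mem_Id.mp hf
  have hf'I : f' ∈ I := hsat c hc0 f' (hff' ▸ hf'.1)
  rw [hff', ← smul_eq_C_mul]
  exact Submodule.smul_mem_smul hc (mem_Id.mpr ⟨hf'I, hdeg.trans hf'.2⟩)

end Filt

section Stab

variable {A : Type u} [CommRing A] [IsDomain A] [ValuationRing A] {σ : Type v}

/-- reduction modulo the maximal ideal. -/
noncomputable abbrev red : MvPolynomial σ A →+* MvPolynomial σ (IsLocalRing.ResidueField A) :=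
  MvPolynomial.map (IsLocalRing.residue A)

/-- weight of an exponent vector. -/
def wt (s : σ →₀ ℕ) : ℕ := s.sum fun _ e => e

theorem wt_add (s t : σ →₀ ℕ) : wt (s + t) = wt s + wt t :=
  Finsupp.sum_add_index' (fun _ => rfl) (fun _ _ _ => rfl)

theorem wt_single (i : σ) : wt (Finsupp.single i 1) = 1 := by
  simp [wt]

theorem totalDegree_red_le (f : MvPolynomial σ A) :
    (red f).totalDegree ≤ f.totalDegree :=
  Finset.sup_mono (support_map_subset (IsLocalRing.residue A) f)

theorem coeff_mem_of_red_eq_zero {f : MvPolynomial σ A} (h : red f = 0) (α : σ →₀ ℕ) :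
    coeff α f ∈ IsLocalRing.maximalIdeal A := by
  have : coeff α (red f) = 0 := by rw [h, coeff_zero]
  rw [coeff_map] at this
  exact (IsLocalRing.residue_eq_zero_iff _).mp this

variable (m : MonomialOrder σ) (I : Ideal (MvPolynomial σ A))

/-- leading monomials of reductions of elements of `I`, tagged with a degree bound. -/
noncomputable def tagIdeal : AddSemigroupIdeal ((σ →₀ ℕ) × ℕ) where
  carrier := {μ | ∃ f ∈ I, f.totalDegree ≤ wt μ.1 + μ.2 ∧ red f ≠ 0 ∧ m.degree (red f) = μ.1}
  vadd_mem' ν μ := by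
    classical
    rintro ⟨f, hfI, hdeg, hne, hlm⟩
    have hmon : (monomial ν.1 (1 : IsLocalRing.ResidueField A)) ≠ 0 :=
      (monomial_eq_zero.not).mpr one_ne_zero
    refine ⟨monomial ν.1 1 * f, I.mul_mem_left _ hfI, ?_, ?_, ?_⟩
    · calc (monomial ν.1 (1 : A) * f).totalDegree
          ≤ (monomial ν.1 (1 : A)).totalDegree + f.totalDegree := totalDegree_mul _ _
        _ ≤ wt ν.1 + (wt μ.1 + μ.2) := add_le_add (totalDegree_monomial_le _ _) hdeg
        _ ≤ wt (ν +ᵥ μ).1 + (ν +ᵥ μ).2 := by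
            change _ ≤ wt (ν.1 + μ.1) + (ν.2 + μ.2)
            rw [wt_add]; omega
    · rw [map_mul, map_monomial, map_one]
      exact mul_ne_zero hmon hne
    · rw [map_mul, map_monomial, map_one, m.degree_mul hmon hne, m.degree_monomial,
        if_neg one_ne_zero, hlm]
      rfl

/-- `I_d + ∑ xᵢ I_d`. -/
noncomputable def Nd (d : ℕ) : Submodule A (MvPolynomial σ A) :=
  Id I d ⊔ ⨆ i : σ, (Id I d).map (LinearMap.mulLeft A (X i))

variable {I}

theorem mem_Nd_of_mem {d : ℕ} {f : MvPolynomial σ A} (hf : f ∈ Id I d) : f ∈ Nd I d :=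
  Submodule.mem_sup_left hf

theorem X_mul_mem_Nd {d : ℕ} {f : MvPolynomial σ A} (hf : f ∈ Id I d) (i : σ) :
    X i * f ∈ Nd I d :=
  Submodule.mem_sup_right (Submodule.mem_iSup_of_mem i ⟨f, hf, rfl⟩)

theorem Nd_le_Id_succ (d : ℕ) : Nd I d ≤ Id I (d + 1) := by
  refine sup_le (Id_mono (Nat.le_succ d)) (iSup_le fun i => ?_)
  rintro _ ⟨f, hf, rfl⟩
  have hf' := mem_Id.mp hf
  refine mem_Id.mpr ⟨I.mul_mem_left _ hf'.1, ?_⟩
  change (X i * f).totalDegree ≤ d + 1
  calc (X i * f).totalDegree ≤ (X i : MvPolynomial σ A).totalDegree + f.totalDegree :=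
        totalDegree_mul _ _
    _ ≤ 1 + d := add_le_add (by rw [totalDegree_X]) hf'.2
    _ = d + 1 := add_comm _ _

variable (I)

include m in
theorem exists_red_eq [Finite σ] :
    ∃ d₀ : ℕ, ∀ d ≥ d₀, ∀ f ∈ Id I (d + 1), ∃ g ∈ Nd I d, red g = red f := by
  classical
  obtain ⟨s, hs⟩ := AddSemigroupIdeal.fg_iff.mp
    (AddSemigroupIdeal.fg_of_wellQuasiOrderedLE (tagIdeal m I))
  have hch : ∀ z ∈ s, ∃ f ∈ I, f.totalDegree ≤ wt z.1 + z.2 ∧ red f ≠ 0 ∧
      m.degree (red f) = z.1 := fun z hz => by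
    have : z ∈ tagIdeal m I := by
      rw [hs]; exact AddSemigroupIdeal.mem_closure_of_mem (by simpa using hz)
    exact this
  choose! H hHI hHdeg hHne hHlm using hch
  refine ⟨s.sup (fun z => wt z.1 + z.2), fun d hd => ?_⟩
  suffices hmain : ∀ (x : m.syn) (f : MvPolynomial σ A), f ∈ Id I (d + 1) →
      m.toSyn (m.degree (red f)) = x → ∃ g ∈ Nd I d, red g = red f from
    fun f hf => hmain _ f hf rfl
  intro x
  induction x using WellFoundedLT.induction with
  | ind x ih =>
  intro f hf hx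
  by_cases h0 : red f = 0
  · exact ⟨0, zero_mem _, by rw [h0, map_zero]⟩
  have hf' := mem_Id.mp hf
  set α := m.degree (red f) with hα
  have hαd : wt α ≤ d + 1 :=
    ((le_totalDegree (m.degree_mem_support h0)).trans (totalDegree_red_le f)).trans hf'.2
  have hμ : ((α, d + 1 - wt α) : (σ →₀ ℕ) × ℕ) ∈ tagIdeal m I :=
    ⟨f, hf'.1, by simp only; omega, h0, rfl⟩
  rw [hs, AddSemigroupIdeal.mem_closure''] at hμ
  obtain ⟨y, z, hz, hyz⟩ := hμ
  have hz' : z ∈ s := by simpa using hz
  have hyz1 : y.1 + z.1 = α := congrArg Prod.fst hyz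
  have hyz2 : y.2 + z.2 = d + 1 - wt α := congrArg Prod.snd hyz
  have hwt : wt y.1 + wt z.1 = wt α := by rw [← wt_add, hyz1]
  have hzd : wt z.1 + z.2 ≤ d :=
    (Finset.le_sup (f := fun z : (σ →₀ ℕ) × ℕ => wt z.1 + z.2) hz').trans hd
  set g₀ := monomial y.1 (1 : A) * H z with hg₀
  have hg₀N : g₀ ∈ Nd I d := by
    by_cases hy : y.1 = 0
    · rw [hg₀, hy]
      have : (monomial (0 : σ →₀ ℕ) (1 : A)) = 1 := rfl
      rw [this, one_mul]
      exact mem_Nd_of_mem (mem_Id.mpr ⟨hHI z hz', (hHdeg z hz').trans hzd⟩)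
    · obtain ⟨i, hi⟩ : ∃ i, y.1 i ≠ 0 := by
        by_contra hcon
        push Not at hcon
        exact hy (Finsupp.ext hcon)
      have hsplit : y.1 = Finsupp.single i 1 + (y.1 - Finsupp.single i 1) := by
        ext j
        by_cases hj : j = i
        · subst hj
          simp only [Finsupp.coe_add, Finsupp.coe_tsub, Pi.add_apply, Pi.sub_apply,
            Finsupp.single_eq_same]
          omega
        · simp [Finsupp.single_eq_of_ne hj]
      have hwty : wt y.1 = 1 + wt (y.1 - Finsupp.single i 1) := by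
        conv_lhs => rw [hsplit, wt_add, wt_single]
      have hmon : monomial y.1 (1 : A) =
          X i * monomial (y.1 - Finsupp.single i 1) (1 : A) := by
        conv_lhs => rw [hsplit]
        rw [X, monomial_mul, one_mul]
      rw [hg₀, hmon, mul_assoc]
      refine X_mul_mem_Nd (mem_Id.mpr ⟨I.mul_mem_left _ (hHI z hz'), ?_⟩) i
      calc (monomial (y.1 - Finsupp.single i 1) (1 : A) * H z).totalDegree
          ≤ (monomial (y.1 - Finsupp.single i 1) (1 : A)).totalDegree + (H z).totalDegree :=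
            totalDegree_mul _ _
        _ ≤ wt (y.1 - Finsupp.single i 1) + (wt z.1 + z.2) :=
            add_le_add (totalDegree_monomial_le _ _) (hHdeg z hz')
        _ ≤ d := by omega
  have hmon : (monomial y.1 (1 : IsLocalRing.ResidueField A)) ≠ 0 :=
    (monomial_eq_zero.not).mpr one_ne_zero
  have hrg₀ : red g₀ = monomial y.1 1 * red (H z) := by
    rw [hg₀, map_mul, map_monomial, map_one]
  have hrg₀ne : red g₀ ≠ 0 := by rw [hrg₀]; exact mul_ne_zero hmon (hHne z hz')
  have hrg₀deg : m.degree (red g₀) = α := by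
    rw [hrg₀, m.degree_mul hmon (hHne z hz'), m.degree_monomial, if_neg one_ne_zero, hHlm z hz',
      hyz1]
  set u := m.leadingCoeff (red g₀) with hu
  have hune : u ≠ 0 := m.leadingCoeff_ne_zero_iff.mpr hrg₀ne
  obtain ⟨c, hc⟩ := IsLocalRing.residue_surjective (m.leadingCoeff (red f) / u)
  set f₁ := f - C c * g₀ with hf₁
  have hg₀I : g₀ ∈ Id I (d + 1) := Nd_le_Id_succ d hg₀N
  have hcg₀ : C c * g₀ ∈ Nd I d := by rw [← smul_eq_C_mul]; exact Submodule.smul_mem _ _ hg₀N
  have hf₁I : f₁ ∈ Id I (d + 1) := Submodule.sub_mem _ hf (Nd_le_Id_succ d hcg₀)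
  have hrf₁ : red f₁ = red f - C (m.leadingCoeff (red f) / u) * red g₀ := by
    rw [hf₁, map_sub, map_mul, map_C, hc]
  by_cases h1 : red f₁ = 0
  · refine ⟨C c * g₀, hcg₀, ?_⟩
    rw [hrf₁, sub_eq_zero] at h1
    rw [map_mul, map_C, hc]
    exact h1.symm
  · have hcoeff : coeff α (red f₁) = 0 := by
      rw [hrf₁, coeff_sub, coeff_C_mul]
      have h2 : coeff α (red g₀) = u := by rw [hu, MonomialOrder.leadingCoeff, hrg₀deg]
      have h3 : coeff α (red f) = m.leadingCoeff (red f) := rfl
      rw [h2, h3, div_mul_cancel₀ _ hune, sub_self]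
    have hle : m.toSyn (m.degree (red f₁)) ≤ m.toSyn α := by
      rw [hrf₁]
      refine (m.degree_sub_le).trans (sup_le le_rfl ?_)
      refine (m.degree_mul_le).trans ?_
      rw [m.degree_C, zero_add, hrg₀deg]
    have hlt : m.toSyn (m.degree (red f₁)) < x := by
      rw [← hx]
      refine lt_of_le_of_ne hle fun heq => ?_
      have : m.degree (red f₁) = α := m.toSyn.injective heq
      have h4 : coeff (m.degree (red f₁)) (red f₁) ≠ 0 :=
        m.leadingCoeff_ne_zero_iff.mpr h1
      rw [this] at h4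
      exact h4 hcoeff
    obtain ⟨g₁, hg₁, hred⟩ := ih _ hlt f₁ hf₁I rfl
    refine ⟨g₁ + C c * g₀, Submodule.add_mem _ hg₁ hcg₀, ?_⟩
    rw [map_add, hred, hf₁, map_sub, sub_add_cancel]

end Stab

section Main

variable {A : Type u} [CommRing A] [IsDomain A] [ValuationRing A] {σ : Type v} [Finite σ]

/-- **Saturated ideals of `A[x₁..xₙ]` over a valuation ring are finitely generated.** -/
theorem fg_of_saturated (m : MonomialOrder σ) (I : Ideal (MvPolynomial σ A))
    (hsat : ∀ a : A, a ≠ 0 → ∀ f : MvPolynomial σ A, C a * f ∈ I → f ∈ I) : I.FG := by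
  classical
  obtain ⟨d₀, hd₀⟩ := exists_red_eq m I
  have step : ∀ d ≥ d₀, Id I (d + 1) ≤ Nd I d := by
    intro d hd
    apply Submodule.le_of_le_smul_of_le_jacobson_bot (Id_fg hsat (d + 1))
      (IsLocalRing.maximalIdeal_le_jacobson ⊥)
    intro f hf
    obtain ⟨g, hg, hred⟩ := hd₀ d hd f hf
    have hgI : g ∈ Id I (d + 1) := Nd_le_Id_succ d hg
    have hsub : f - g ∈ IsLocalRing.maximalIdeal A • Id I (d + 1) :=
      mem_smul_Id hsat (Submodule.sub_mem _ hf hgI)
        (coeff_mem_of_red_eq_zero (by rw [map_sub, hred, sub_self]))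
    rw [← add_sub_cancel g f]
    exact Submodule.add_mem_sup hg hsub
  have hspan : ∀ d, Id I d ≤ (Ideal.span (Id I d₀ : Set (MvPolynomial σ A))).restrictScalars A := by
    intro d
    induction d with
    | zero => exact (Id_mono (Nat.zero_le _)).trans fun f hf => Ideal.subset_span hf
    | succ e ih =>
      by_cases he : d₀ ≤ e
      · refine (step e he).trans (sup_le ih (iSup_le fun i => ?_))
        rintro _ ⟨f, hf, rfl⟩
        exact Ideal.mul_mem_left _ _ (ih hf)
      · exact (Id_mono (by omega)).trans fun f hf => Ideal.subset_span hf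
  have hI : I = Ideal.span (Id I d₀ : Set (MvPolynomial σ A)) := by
    refine le_antisymm (fun f hf => ?_) (Ideal.span_le.mpr fun f hf => (mem_Id.mp hf).1)
    exact hspan f.totalDegree (mem_Id.mpr ⟨hf, le_rfl⟩)
  obtain ⟨S, hS⟩ := Id_fg hsat d₀
  refine ⟨S, ?_⟩
  rw [hI]
  refine le_antisymm (Ideal.span_le.mpr fun f hf => ?_) (Ideal.span_le.mpr ?_)
  · exact Ideal.subset_span (hS ▸ Submodule.subset_span hf)
  · intro f hf
    have hf' : f ∈ Submodule.span A (S : Set (MvPolynomial σ A)) := hS ▸ hf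
    exact Submodule.span_le_restrictScalars A (MvPolynomial σ A) _ hf'

end Main

end Groth.Agent.Lib.helper3.ValFp
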