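import Mathlib
import Groth.Agent.Lib.Helper3.ValFp1
/-!
# Finite torsion-free modules over finite type algebras over a valuation ring (helper3)

* `fg_of_saturated_of_surjective` : saturated ideals of quotients of polynomial rings.
* `fg_ker_of_torsionFree` : `P` a torsion-free finite type `A`-algebra (`A` a valuation ring),
  `π : P^r → M` with `M` torsion-free over `A`; then `ker π` is finitely generated
  (idealization trick: the ideal `{G ∈ P[y] | G(0) = 0, π (linear part of G) = 0}` is saturated).
* `finitePresentation_of_torsionFree`.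
-/

set_option autoImplicit false
universe u v
open MvPolynomial

namespace Groth.Agent.Lib.helper3.ValFp

section Transfer

variable {A : Type u} [CommRing A] [IsDomain A] [ValuationRing A]

theorem fg_of_saturated_of_surjective {k : ℕ} {Q : Type*} [CommRing Q] [Algebra A Q]
    (Φ : MvPolynomial (Fin k) A →ₐ[A] Q) (hΦ : Function.Surjective Φ) (J : Ideal Q)
    (hsat : ∀ a : A, a ≠ 0 → ∀ g : Q, a • g ∈ J → g ∈ J) : J.FG := by
  have h1 : (J.comap Φ).FG := fg_of_saturated MonomialOrder.lex (J.comap Φ) (fun a ha f hf => by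
    rw [Ideal.mem_comap] at hf ⊢
    apply hsat a ha
    rwa [map_mul, ← algebraMap_eq, AlgHom.commutes, ← Algebra.smul_def] at hf)
  have : J = (J.comap Φ).map Φ := (Ideal.map_comap_of_surjective Φ hΦ J).symm
  rw [this]
  exact h1.map _

theorem fg_of_saturated_of_finiteType {Q : Type*} [CommRing Q] [Algebra A Q]
    [Algebra.FiniteType A Q] (J : Ideal Q)
    (hsat : ∀ a : A, a ≠ 0 → ∀ g : Q, a • g ∈ J → g ∈ J) : J.FG := by
  obtain ⟨k, Φ, hΦ⟩ := Algebra.FiniteType.iff_quotient_mvPolynomial''.mp
    (inferInstance : Algebra.FiniteType A Q)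
  exact fg_of_saturated_of_surjective Φ hΦ J hsat

end Transfer

section Leibniz

variable {P : Type*} [CommRing P] {r : ℕ}

/-- the linear part of a polynomial in `y₁..y_r`. -/
noncomputable def Lmap : MvPolynomial (Fin r) P →ₗ[P] (Fin r → P) :=
  LinearMap.pi fun j => MvPolynomial.lcoeff P (Finsupp.single j 1)

theorem Lmap_apply (G : MvPolynomial (Fin r) P) (j : Fin r) :
    Lmap G j = coeff (Finsupp.single j 1) G := rfl

theorem Lmap_mul (c G : MvPolynomial (Fin r) P) :
    Lmap (c * G) = constantCoeff c • Lmap G + constantCoeff G • Lmap c := by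
  classical
  ext j
  simp only [Lmap_apply, Pi.add_apply, Pi.smul_apply, smul_eq_mul]
  rw [coeff_mul, Finsupp.antidiagonal_single]
  simp [Finset.Nat.antidiagonal_succ, constantCoeff_eq]
  ring

/-- the linear form `∑ vⱼ yⱼ`. -/
noncomputable def linForm (v : Fin r → P) : MvPolynomial (Fin r) P :=
  ∑ j, C (v j) * X j

theorem constantCoeff_linForm (v : Fin r → P) : constantCoeff (linForm v) = 0 := by
  simp [linForm]

theorem Lmap_linForm (v : Fin r → P) : Lmap (linForm v) = v := by
  classical
  ext j
  rw [Lmap_apply, linForm, coeff_sum]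
  simp only [coeff_C_mul, coeff_X]
  rw [Finset.sum_eq_single j]
  · simp
  · intro i _ hij
    rw [if_neg, mul_zero]
    intro h
    exact hij (Finsupp.single_left_injective one_ne_zero h)
  · intro h; exact absurd (Finset.mem_univ j) h

end Leibniz

section Module

variable {A : Type u} [CommRing A] [IsDomain A] [ValuationRing A]
  {P : Type*} [CommRing P] [Algebra A P]
  {M : Type*} [AddCommGroup M] [Module P M] [Module A M] [IsScalarTower A P M]
  {r : ℕ} (π : (Fin r → P) →ₗ[P] M)

/-- the ideal of `P[y]` cutting out the idealization `P ⋉ M`. -/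
noncomputable def idealOf : Ideal (MvPolynomial (Fin r) P) where
  carrier := {G | constantCoeff G = 0 ∧ π (Lmap G) = 0}
  add_mem' := by
    rintro G G' ⟨h1, h2⟩ ⟨h1', h2'⟩
    exact ⟨by rw [map_add, h1, h1', add_zero], by rw [map_add, map_add, h2, h2', add_zero]⟩
  zero_mem' := ⟨map_zero _, by rw [map_zero, map_zero]⟩
  smul_mem' c G := by
    rintro ⟨h1, h2⟩
    refine ⟨by rw [smul_eq_mul, map_mul, h1, mul_zero], ?_⟩
    rw [smul_eq_mul, Lmap_mul, h1, zero_smul, add_zero, map_smul, h2, smul_zero]

theorem mem_idealOf {G : MvPolynomial (Fin r) P} :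
    G ∈ idealOf π ↔ constantCoeff G = 0 ∧ π (Lmap G) = 0 := Iff.rfl

theorem fg_ker_of_torsionFree [Algebra.FiniteType A P]
    (hP : ∀ a : A, a ≠ 0 → ∀ p : P, a • p = 0 → p = 0)
    (htf : ∀ a : A, a ≠ 0 → ∀ x : M, a • x = 0 → x = 0) : (LinearMap.ker π).FG := by
  classical
  have hfg : (idealOf π).FG := by
    refine fg_of_saturated_of_finiteType (A := A) (idealOf π) fun a ha G hG => ?_
    rw [mem_idealOf] at hG ⊢
    obtain ⟨h1, h2⟩ := hG
    rw [constantCoeff_smul] at h1
    refine ⟨hP a ha _ h1, htf a ha _ ?_⟩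
    rw [← LinearMap.map_smul_of_tower, ← LinearMap.map_smul_of_tower]
    exact h2
  obtain ⟨S, hS⟩ := hfg
  refine ⟨S.image Lmap, ?_⟩
  rw [Finset.coe_image]
  refine le_antisymm (Submodule.span_le.mpr ?_) fun v hv => ?_
  · rintro _ ⟨G, hG, rfl⟩
    have : G ∈ idealOf π := hS ▸ Ideal.subset_span hG
    exact (mem_idealOf π).mp this |>.2
  · have hv' : linForm v ∈ idealOf π :=
      (mem_idealOf π).mpr ⟨constantCoeff_linForm v, by rw [Lmap_linForm]; exact hv⟩
    rw [← hS] at hv'
    have key : ∀ G ∈ Ideal.span (S : Set (MvPolynomial (Fin r) P)),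
        constantCoeff G = 0 ∧ Lmap G ∈ Submodule.span P (Lmap '' (S : Set _)) := by
      intro G hG
      induction hG using Submodule.span_induction with
      | mem G hG =>
        have : G ∈ idealOf π := hS ▸ Ideal.subset_span hG
        exact ⟨((mem_idealOf π).mp this).1, Submodule.subset_span ⟨G, hG, rfl⟩⟩
      | zero => exact ⟨map_zero _, by rw [map_zero]; exact zero_mem _⟩
      | add G G' _ _ h h' =>
        exact ⟨by rw [map_add, h.1, h'.1, add_zero], by rw [map_add]; exact add_mem h.2 h'.2⟩
      | smul c G _ h =>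
        refine ⟨by rw [smul_eq_mul, map_mul, h.1, mul_zero], ?_⟩
        rw [smul_eq_mul, Lmap_mul, h.1, zero_smul, add_zero]
        exact Submodule.smul_mem _ _ h.2
    have := (key _ hv').2
    rwa [Lmap_linForm] at this

theorem finitePresentation_of_torsionFree [Algebra.FiniteType A P] [Module.Finite P M]
    (hP : ∀ a : A, a ≠ 0 → ∀ p : P, a • p = 0 → p = 0)
    (htf : ∀ a : A, a ≠ 0 → ∀ x : M, a • x = 0 → x = 0) : Module.FinitePresentation P M := by
  obtain ⟨r, π, hπ⟩ := Module.Finite.exists_fin' P M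
  exact Module.finitePresentation_of_surjective π hπ (fg_ker_of_torsionFree π hP htf)

end Module

end Groth.Agent.Lib.helper3.ValFp
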