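import Mathlib
import Groth.Agent.Lib.Helper3.ValFp2
/-!
# Flat finite modules over essentially finite type algebras over a valuation ring (helper3)

`finitePresentation_of_flat_essFiniteType` (Stacks 053E): `A` a valuation ring, `B` an
`A`-algebra essentially of finite type, `M` a finite `B`-module flat over `A`; then `M` is
finitely presented over `B`.
-/

set_option autoImplicit false
universe u v
open MvPolynomial

namespace Groth.Agent.Lib.helper3.ValFp

section Surj

variable {P C N : Type*} [CommRing P] [CommRing C] [Algebra P C] [AddCommGroup N] [Module C N]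
  [Module P N] [IsScalarTower P C N] {r : ℕ}

/-- componentwise `P^r → C^r`. -/
noncomputable def piMap (P C : Type*) [CommRing P] [CommRing C] [Algebra P C] (r : ℕ) :
    (Fin r → P) →ₗ[P] (Fin r → C) :=
  LinearMap.pi fun j => (Algebra.linearMap P C) ∘ₗ LinearMap.proj j

theorem piMap_apply (v : Fin r → P) (j : Fin r) : piMap P C r v j = algebraMap P C (v j) := rfl

theorem piMap_surjective (hsurj : Function.Surjective (algebraMap P C)) :
    Function.Surjective (piMap P C r) := by
  intro w
  choose v hv using fun j => hsurj (w j)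
  exact ⟨v, funext fun j => by rw [piMap_apply, hv]⟩

theorem fg_ker_of_fg_ker_comp (hsurj : Function.Surjective (algebraMap P C))
    (π₀ : (Fin r → C) →ₗ[C] N)
    (h : (LinearMap.ker ((π₀.restrictScalars P) ∘ₗ piMap P C r)).FG) :
    (LinearMap.ker π₀).FG := by
  classical
  obtain ⟨S, hS⟩ := h
  refine ⟨S.image (piMap P C r), ?_⟩
  rw [Finset.coe_image]
  refine le_antisymm (Submodule.span_le.mpr ?_) fun w hw => ?_
  · rintro _ ⟨v, hv, rfl⟩
    have : v ∈ LinearMap.ker ((π₀.restrictScalars P) ∘ₗ piMap P C r) :=
      hS ▸ Submodule.subset_span hv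
    exact this
  · obtain ⟨v, rfl⟩ := piMap_surjective hsurj w
    have hv : v ∈ LinearMap.ker ((π₀.restrictScalars P) ∘ₗ piMap P C r) := hw
    rw [← hS] at hv
    clear hw
    induction hv using Submodule.span_induction with
    | mem v hv => exact Submodule.subset_span ⟨v, hv, rfl⟩
    | zero => rw [map_zero]; exact zero_mem _
    | add v v' _ _ h h' => rw [map_add]; exact add_mem h h'
    | smul p v _ h =>
      rw [map_smul, ← algebraMap_smul C p (piMap P C r v)]
      exact Submodule.smul_mem _ _ h

end Surj

section FT

variable {A : Type u} [CommRing A] [IsDomain A] [ValuationRing A]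

/-- finite torsion-free modules over a finite type algebra over a valuation ring are finitely
presented. -/
theorem finitePresentation_of_torsionFree_finiteType {C N : Type*} [CommRing C] [Algebra A C]
    [Algebra.FiniteType A C] [AddCommGroup N] [Module C N] [Module A N] [IsScalarTower A C N]
    [Module.Finite C N] (htf : ∀ a : A, a ≠ 0 → ∀ x : N, a • x = 0 → x = 0) :
    Module.FinitePresentation C N := by
  obtain ⟨n, φ, hφ⟩ := Algebra.FiniteType.iff_quotient_mvPolynomial''.mp
    (inferInstance : Algebra.FiniteType A C)
  letI : Algebra (MvPolynomial (Fin n) A) C := φ.toRingHom.toAlgebra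
  letI : Module (MvPolynomial (Fin n) A) N := Module.compHom N φ.toRingHom
  haveI : IsScalarTower (MvPolynomial (Fin n) A) C N :=
    ⟨fun p c x => by change (φ p * c) • x = φ p • c • x; rw [mul_smul]⟩
  haveI : IsScalarTower A (MvPolynomial (Fin n) A) N :=
    ⟨fun a p x => by change φ (a • p) • x = a • (φ p • x); rw [map_smul, smul_assoc]⟩
  obtain ⟨r, π₀, hπ₀⟩ := Module.Finite.exists_fin' C N
  have hP : ∀ a : A, a ≠ 0 → ∀ p : MvPolynomial (Fin n) A, a • p = 0 → p = 0 := by
    intro a ha p hp
    rw [smul_eq_C_mul, mul_eq_zero, C_eq_zero] at hp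
    exact hp.resolve_left ha
  have hK := fg_ker_of_torsionFree (A := A)
    ((π₀.restrictScalars (MvPolynomial (Fin n) A)) ∘ₗ piMap (MvPolynomial (Fin n) A) C r) hP htf
  have := fg_ker_of_fg_ker_comp (P := MvPolynomial (Fin n) A) hφ π₀ hK
  exact Module.finitePresentation_of_surjective π₀ hπ₀ this

end FT

section Ess

variable {A : Type u} [CommRing A] [IsDomain A] [ValuationRing A]

/-- **Stacks 053E**: finite modules over an essentially finite type algebra over a valuation ring
which are flat over the valuation ring are finitely presented. -/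
theorem finitePresentation_of_flat_essFiniteType {B M : Type*} [CommRing B] [Algebra A B]
    [Algebra.EssFiniteType A B] [AddCommGroup M] [Module B M] [Module A M] [IsScalarTower A B M]
    [Module.Finite B M] [Module.Flat A M] : Module.FinitePresentation B M := by
  classical
  have htfM : ∀ a : A, a ≠ 0 → ∀ x : M, a • x = 0 → x = 0 := by
    intro a ha x hx
    have htor : Submodule.torsion A M = ⊥ := Module.Flat.torsion_eq_bot
    have : x ∈ Submodule.torsion A M :=
      (Submodule.mem_torsion_iff x).mpr ⟨⟨a, mem_nonZeroDivisors_of_ne_zero ha⟩, hx⟩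
    rw [htor] at this
    exact (Submodule.mem_bot A).mp this
  set B₀ := Algebra.EssFiniteType.subalgebra A B with hB₀
  set T := Algebra.EssFiniteType.submonoid A B with hT
  obtain ⟨k, ρ, hρ⟩ := Module.Finite.exists_fin' B M
  let gen : Fin k → M := fun i => ρ (Pi.single i 1)
  let M₀ : Submodule B₀ M := Submodule.span B₀ (Set.range gen)
  haveI : Module.Finite B₀ M₀ := Module.Finite.span_of_finite B₀ (Set.finite_range gen)
  have htf₀ : ∀ a : A, a ≠ 0 → ∀ x : M₀, a • x = 0 → x = 0 := by
    intro a ha x hx
    apply Subtype.ext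
    apply htfM a ha
    have := congrArg Subtype.val hx
    simpa using this
  haveI : Module.FinitePresentation B₀ M₀ :=
    finitePresentation_of_torsionFree_finiteType (A := A) htf₀
  have hloc : IsLocalizedModule T M₀.subtype := by
    refine ⟨fun t => ?_, fun y => ?_, fun {x₁ x₂} h => ⟨1, by
      rw [one_smul, one_smul]; exact Subtype.ext h⟩⟩
    · have hu : IsUnit ((t : B₀) : B) := t.2
      rw [Module.End.isUnit_iff]
      constructor
      · intro x y hxy
        have h1 : ((t : B₀) : B) • x = ((t : B₀) : B) • y := hxy
        exact hu.smul_left_cancel.mp h1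
      · intro y
        obtain ⟨u, hu'⟩ := hu
        refine ⟨(↑u⁻¹ : B) • y, ?_⟩
        change ((t : B₀) : B) • ((↑u⁻¹ : B) • y) = y
        rw [← hu', smul_smul, Units.mul_inv, one_smul]
    · obtain ⟨v, rfl⟩ := hρ y
      obtain ⟨t, ht⟩ := IsLocalization.exist_integer_multiples_of_finset T
        (Finset.univ.image v)
      refine ⟨(⟨(t : B₀) • ρ v, ?_⟩, t), rfl⟩
      have hsingle : ∀ i : Fin k, (fun j => if i = j then (1 : B) else 0) = Pi.single i 1 := by
        intro i; funext j; simp [Pi.single_apply, eq_comm]
      rw [LinearMap.pi_apply_eq_sum_univ ρ v, Finset.smul_sum]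
      simp only [hsingle]
      refine Submodule.sum_mem _ fun i _ => ?_
      obtain ⟨c, hc⟩ := ht (v i) (Finset.mem_image_of_mem v (Finset.mem_univ i))
      have h2 : (t : B₀) • (v i • ρ (Pi.single i 1)) = c • gen i := by
        change ((t : B₀) : B) • (v i • ρ (Pi.single i 1)) = (c : B) • gen i
        rw [smul_smul]
        have h3 : ((t : B₀) : B) * v i = (c : B) := hc.symm
        rw [h3]
      rw [h2]
      exact Submodule.smul_mem _ _ (Submodule.subset_span ⟨i, rfl⟩)
  have hbc : IsBaseChange B M₀.subtype := (isLocalizedModule_iff_isBaseChange T B _).mp hloc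
  exact FinitePresentation.of_isBaseChange M₀.subtype hbc

end Ess

end Groth.Agent.Lib.helper3.ValFp
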