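import Mathlib
import Groth.Agent.Lib.Helper3.ValFp3
import Groth.Agent.Lib.Helper3.FpLocal1
/-!
# Raynaud–Gruson over Prüfer domains, and coherence (helper3)

* `finitePresentation_of_flat_prufer` : `R` a Prüfer domain (all localizations at primes are
  valuation rings), `A` a finitely presented `R`-algebra, `M` a finite `A`-module flat over `R`;
  then `M` is finitely presented over `A`.
* `finitePresentation_of_restrictScalars_surjective` : finite presentation passes from `P` to a
  quotient `P → A` acting on the same module.
* `finitePresentation_ideal_of_prufer` : finitely presented algebras over Prüfer domains are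
  coherent.
-/

set_option autoImplicit false
universe u v

namespace Groth.Agent.Lib.helper3.ValFp

section Prufer

variable {R : Type u} [CommRing R] [IsDomain R]
  (hR : ∀ (p : Ideal R) [p.IsPrime], ValuationRing (Localization.AtPrime p))
include hR

theorem finitePresentation_of_flat_prufer {A M : Type u} [CommRing A] [Algebra R A]
    [Algebra.FinitePresentation R A] [AddCommGroup M] [Module A M] [Module R M]
    [IsScalarTower R A M] [Module.Finite A M] [Module.Flat R M] :
    Module.FinitePresentation A M := by
  classical
  let p₀ : PrimeSpectrum R := ⟨⊥, Ideal.isPrime_bot⟩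
  have hs : Function.Injective fun r : R => fun p : ({p₀} : Finset (PrimeSpectrum R)) =>
      algebraMap R (Localization.AtPrime p.1.asIdeal) r := by
    intro a b hab
    have h1 := congrFun hab ⟨p₀, Finset.mem_singleton_self _⟩
    exact IsLocalization.injective (Localization.AtPrime p₀.asIdeal)
      (Ideal.primeCompl_le_nonZeroDivisors p₀.asIdeal) h1
  refine FpLocal.finitePresentation_of_locally ({p₀} : Finset (PrimeSpectrum R)) hs ?_
  intro p _
  set T := Algebra.algebraMapSubmonoid A p.primeCompl with hT
  haveI := hR p
  letI : Module (Localization.AtPrime p) (LocalizedModule T M) :=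
    Module.compHom _ (algebraMap (Localization.AtPrime p) (Localization T))
  haveI : IsScalarTower (Localization.AtPrime p) (Localization T) (LocalizedModule T M) :=
    ⟨fun a b x => by
      change (algebraMap (Localization.AtPrime p) (Localization T) a * b) • x =
        algebraMap (Localization.AtPrime p) (Localization T) a • b • x
      rw [mul_smul]⟩
  haveI : IsScalarTower R (Localization.AtPrime p) (LocalizedModule T M) :=
    ⟨fun r a x => by
      change algebraMap (Localization.AtPrime p) (Localization T) (r • a) • x =
        r • (algebraMap (Localization.AtPrime p) (Localization T) a • x)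
      rw [Algebra.smul_def, map_mul, mul_smul, ← IsScalarTower.algebraMap_apply,
        algebraMap_smul]⟩
  haveI : IsLocalizedModule p.primeCompl
      ((LocalizedModule.mkLinearMap T M).restrictScalars R) :=
    IsLocalizedModule.restrictScalars p.primeCompl (LocalizedModule.mkLinearMap T M)
  haveI : Module.Flat (Localization.AtPrime p) (LocalizedModule T M) :=
    Module.Flat.of_isLocalizedModule (Localization.AtPrime p) p.primeCompl
      ((LocalizedModule.mkLinearMap T M).restrictScalars R)
  haveI : Algebra.EssFiniteType R (Localization T) := inferInstance
  haveI : Algebra.EssFiniteType (Localization.AtPrime p) (Localization T) :=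
    Algebra.EssFiniteType.of_comp R (Localization.AtPrime p) (Localization T)
  exact finitePresentation_of_flat_essFiniteType (A := Localization.AtPrime p)

end Prufer

section Quot

/-- finite presentation passes to a quotient ring acting on the same module. -/
theorem finitePresentation_of_restrictScalars_surjective {P C N : Type*} [CommRing P]
    [CommRing C] [Algebra P C] (hsurj : Function.Surjective (algebraMap P C))
    [AddCommGroup N] [Module C N] [Module P N] [IsScalarTower P C N]
    [Module.FinitePresentation P N] : Module.FinitePresentation C N := by
  haveI : Module.Finite C N := Module.Finite.of_restrictScalars_finite P C N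
  obtain ⟨r, π₀, hπ₀⟩ := Module.Finite.exists_fin' C N
  have hsurj' : Function.Surjective ((π₀.restrictScalars P) ∘ₗ piMap P C r) :=
    hπ₀.comp (piMap_surjective hsurj)
  have hK := Module.FinitePresentation.fg_ker _ hsurj'
  exact Module.finitePresentation_of_surjective π₀ hπ₀ (fg_ker_of_fg_ker_comp hsurj π₀ hK)

end Quot

section Coherent

variable {R : Type u} [CommRing R] [IsDomain R]
  (hR : ∀ (p : Ideal R) [p.IsPrime], ValuationRing (Localization.AtPrime p))
include hR

/-- finitely presented algebras over a Prüfer domain are coherent. -/
theorem finitePresentation_ideal_of_prufer (A : Type u) [CommRing A] [Algebra R A]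
    [Algebra.FinitePresentation R A] (I : Ideal A) (hI : I.FG) :
    Module.FinitePresentation A I := by
  classical
  obtain ⟨n, φ, hφ, hker⟩ := Algebra.FinitePresentation.out (R := R) (A := A)
  letI : Algebra (MvPolynomial (Fin n) R) A := φ.toRingHom.toAlgebra
  haveI : IsScalarTower R (MvPolynomial (Fin n) R) A :=
    IsScalarTower.of_algebraMap_eq (fun r => (φ.commutes r).symm)
  -- the preimage ideal
  set I' : Ideal (MvPolynomial (Fin n) R) := I.comap φ with hI'
  have hI'fg : I'.FG := by
    refine Submodule.fg_of_fg_map_of_fg_inf_ker
      (Algebra.linearMap (MvPolynomial (Fin n) R) A) ?_ ?_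
    · have : Submodule.map (Algebra.linearMap (MvPolynomial (Fin n) R) A) I' =
          I.restrictScalars (MvPolynomial (Fin n) R) := by
        ext x
        constructor
        · rintro ⟨y, hy, rfl⟩
          exact hy
        · intro hx
          obtain ⟨y, rfl⟩ := hφ x
          exact ⟨y, hx, rfl⟩
      rw [this]
      obtain ⟨S, hS⟩ := hI
      refine ⟨S, ?_⟩
      apply le_antisymm
      · rw [Submodule.span_le]
        intro x hx
        exact hS ▸ Ideal.subset_span hx
      · intro x hx
        have hx' : x ∈ Ideal.span (S : Set A) := hS ▸ hx
        refine Submodule.span_induction (p := fun x _ => x ∈ Submodule.span (MvPolynomial (Fin n) R) (S : Set A))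
          (fun x hx => Submodule.subset_span hx) (zero_mem _) (fun x y _ _ hx hy => add_mem hx hy)
          (fun a x _ hx => ?_) hx'
        obtain ⟨b, rfl⟩ := hφ a
        have : φ b • x = b • x := (algebraMap_smul A b x)
        rw [this]
        exact Submodule.smul_mem _ _ hx
    · have : I' ⊓ LinearMap.ker (Algebra.linearMap (MvPolynomial (Fin n) R) A) =
          RingHom.ker φ.toRingHom := by
        ext x
        constructor
        · rintro ⟨-, hx⟩
          exact hx
        · intro hx
          refine ⟨?_, hx⟩
          change φ x ∈ I
          have : φ x = 0 := hx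
          rw [this]; exact zero_mem _
      rw [this]
      exact hker
  -- `I'` is finitely presented over the polynomial ring
  haveI : Module.Finite (MvPolynomial (Fin n) R) I' := Module.Finite.of_fg hI'fg
  haveI : Module.Flat R I' := by
    rw [Module.Flat.flat_iff_torsion_eq_bot_of_valuationRing_localization_isMaximal
      (fun P _ => hR P)]
    rw [eq_bot_iff]
    rintro x ⟨⟨a, ha⟩, hax⟩
    have ha0 : a ≠ 0 := nonZeroDivisors.ne_zero ha
    have h1 : a • (x : MvPolynomial (Fin n) R) = 0 := congrArg Subtype.val hax
    rw [MvPolynomial.smul_eq_C_mul, mul_eq_zero, MvPolynomial.C_eq_zero] at h1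
    rw [Submodule.mem_bot]
    exact Subtype.ext (h1.resolve_left ha0)
  haveI : Module.FinitePresentation (MvPolynomial (Fin n) R) I' :=
    finitePresentation_of_flat_prufer hR
  -- the surjection `I' → I`
  let ψ : I' →ₗ[MvPolynomial (Fin n) R] I :=
    { toFun := fun x => ⟨φ x.1, x.2⟩
      map_add' := fun x y => Subtype.ext (map_add φ x.1 y.1)
      map_smul' := fun c x => Subtype.ext (by
        change φ (c * x.1) = φ c * φ x.1
        exact map_mul φ c x.1) }
  have hψ : Function.Surjective ψ := by
    rintro ⟨y, hy⟩
    obtain ⟨x, rfl⟩ := hφ y
    exact ⟨⟨x, hy⟩, rfl⟩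
  have hkerψ : (LinearMap.ker ψ).FG := by
    have : LinearMap.ker ψ = Submodule.comap I'.subtype (RingHom.ker φ.toRingHom) := by
      ext x
      rw [LinearMap.mem_ker, Submodule.mem_comap]
      constructor
      · intro hx
        exact congrArg Subtype.val hx
      · intro hx
        exact Subtype.ext hx
    rw [this]
    have hle : (RingHom.ker φ.toRingHom : Submodule _ _) ≤ I' := by
      intro x hx
      change φ x ∈ I
      have : φ x = 0 := hx
      rw [this]; exact zero_mem _
    have h2 : Submodule.map I'.subtype (Submodule.comap I'.subtype (RingHom.ker φ.toRingHom)) =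
        RingHom.ker φ.toRingHom := by
      rw [Submodule.map_comap_eq, Submodule.range_subtype]
      exact inf_eq_right.mpr hle
    have h3 : (Submodule.map I'.subtype
        (Submodule.comap I'.subtype (RingHom.ker φ.toRingHom))).FG := by rw [h2]; exact hker
    exact Submodule.fg_of_fg_map_injective I'.subtype I'.injective_subtype h3
  haveI : Module.FinitePresentation (MvPolynomial (Fin n) R) I :=
    Module.finitePresentation_of_surjective ψ hψ hkerψ
  exact finitePresentation_of_restrictScalars_surjective (P := MvPolynomial (Fin n) R) hφ

end Coherent

end Groth.Agent.Lib.helper3.ValFp
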