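import Mathlib
import Groth.Agent.Lib.Helper3.PdTor
import Groth.Agent.Lib.Helper3.ResBaseChange
/-!
# helper3: projective dimension of a flat finitely presented module is the supremum over the fibres

`A → B` flat, `M` a pseudo-coherent `B`-module flat over `A`. Then
`pd_B M = sup_p pd_{B ⊗ κ(p)} (B ⊗ κ(p)) ⊗_B M` (EGA IV 11.3.? / S5930).

The proof is an induction along short exact sequences `0 → K → Bⁿ → M → 0`, which stay exact after
base change to the fibres as `M` is `A`-flat; the base cases are Nakayama (`pd < 0`) and the fibre
criterion for projectivity via `Module.free_of_lTensor_residueField_injective` (`pd < 1`).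
-/

set_option autoImplicit false
set_option linter.style.haveILetI false
universe u
open CategoryTheory CategoryTheory.Limits TensorProduct

attribute [local instance] HasDerivedCategory.standard

namespace Groth.Agent.Lib.helper3.PdFibre

open Groth.Agent.Lib.helper23.TA Groth.Agent.Lib.helper23.PCohCore
  Groth.Agent.Lib.helper23.DRingPC Groth.Agent.Lib.helper3.ResBaseChange
  Groth.Agent.Lib.helper3.PdTor

section Local
variable {A : Type u} [CommRing A]

/-- (copied from helper13 `GCTrunc`) -/
lemma injective_lTensor_residueField_baseChange {F : Type u} [AddCommGroup F] [Module A F]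
    (B : Submodule A F) (m : Ideal A) [m.IsMaximal]
    (h : Function.Injective (LinearMap.lTensor (A ⧸ m) B.subtype)) :
    Function.Injective (LinearMap.lTensor (IsLocalRing.ResidueField (Localization.AtPrime m))
      (B.subtype.baseChange (Localization.AtPrime m))) := by
  let R := Localization.AtPrime m
  let k := IsLocalRing.ResidueField R
  let e : (A ⧸ m) ≃ₗ[A] k :=
    LinearEquiv.ofBijective ((Algebra.linearMap (A ⧸ m) m.ResidueField).restrictScalars A)
      m.bijective_algebraMap_quotient_residueField
  have h1 : Function.Injective (LinearMap.lTensor k B.subtype) := by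
    have hc : LinearMap.lTensor k B.subtype ∘ₗ LinearMap.rTensor B e.toLinearMap =
        LinearMap.rTensor F e.toLinearMap ∘ₗ LinearMap.lTensor (A ⧸ m) B.subtype := by
      rw [LinearMap.lTensor_comp_rTensor, LinearMap.rTensor_comp_lTensor]
    have hinj : Function.Injective (LinearMap.rTensor F e.toLinearMap ∘ₗ
        LinearMap.lTensor (A ⧸ m) B.subtype) := by
      rw [LinearMap.coe_comp]
      exact (TensorProduct.congr e (LinearEquiv.refl A F)).injective.comp h
    rw [← hc, LinearMap.coe_comp] at hinj
    have hsurj : Function.Surjective (LinearMap.rTensor B e.toLinearMap) :=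
      (TensorProduct.congr e (LinearEquiv.refl A B)).surjective
    intro x y hxy
    obtain ⟨x', rfl⟩ := hsurj x
    obtain ⟨y', rfl⟩ := hsurj y
    exact congrArg _ (hinj hxy)
  have hc2 := TensorProduct.AlgebraTensorModule.lTensor_comp_cancelBaseChange
    (R := A) (A := R) (B := R) (M := k) B.subtype
  intro x y hxy
  apply (TensorProduct.AlgebraTensorModule.cancelBaseChange A R R k B).injective
  apply h1
  have := congrArg (TensorProduct.AlgebraTensorModule.cancelBaseChange A R R k F) hxy
  have e1 := LinearMap.congr_fun hc2 x
  have e2 := LinearMap.congr_fun hc2 y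
  simp only [LinearMap.comp_apply, LinearEquiv.coe_coe] at e1 e2
  exact e1.trans (this.trans e2.symm)

/-- `F` finite projective, `K ≤ F` finitely generated with `A/m ⊗ K → A/m ⊗ F` injective
for every maximal ideal `m`; then `F ⧸ K` is projective. (Non-Noetherian version of helper13's
`projective_quot_of_residue_injective`.) -/
theorem projective_quot_of_residue_injective {F : Type u} [AddCommGroup F]
    [Module A F] [Module.Finite A F] [Module.Projective A F] (K : Submodule A F) (hK : K.FG)
    (h : ∀ (m : Ideal A) [m.IsMaximal], Function.Injective (LinearMap.lTensor (A ⧸ m) K.subtype)) :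
    Module.Projective A (F ⧸ K) := by
  haveI : Module.FinitePresentation A F := Module.finitePresentation_of_projective A F
  haveI : Module.FinitePresentation A (F ⧸ K) :=
    Module.finitePresentation_of_surjective K.mkQ K.mkQ_surjective (by rwa [Submodule.ker_mkQ])
  haveI : Module.Finite A K := Module.Finite.iff_fg.2 hK
  refine Module.projective_of_localization_maximal' (fun P _ => Localization.AtPrime P)
    (fun P _ => Localization.AtPrime P ⊗[A] (F ⧸ K))
    (fun P _ => TensorProduct.mk A (Localization.AtPrime P) (F ⧸ K) 1) (fun m hm => ?_)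
  haveI := hm
  let R := Localization.AtPrime m
  haveI : Module.Free R (R ⊗[A] F) := Module.free_of_flat_of_isLocalRing
  haveI : Module.Free R (R ⊗[A] (F ⧸ K)) := by
    refine Module.free_of_lTensor_residueField_injective (f := K.subtype.baseChange R)
      (g := K.mkQ.baseChange R) ?_ ?_ (injective_lTensor_residueField_baseChange K m (h m))
    · exact LinearMap.lTensor_surjective R K.mkQ_surjective
    · exact lTensor_exact R (LinearMap.exact_subtype_mkQ K) K.mkQ_surjective
  infer_instance

/-- (copied from helper13 `GCTrunc`) a finite module all of whose fibres at maximal ideals vanish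
is zero -/
lemma subsingleton_of_forall_maximal_tensor (H : Type u) [AddCommGroup H] [Module A H]
    [Module.Finite A H]
    (h : ∀ (m : Ideal A) [m.IsMaximal], Subsingleton ((A ⧸ m) ⊗[A] H)) : Subsingleton H := by
  by_contra hne
  rw [not_subsingleton_iff_nontrivial] at hne
  have hann : Module.annihilator A H ≠ ⊤ := by
    intro htop
    have : (1 : A) ∈ Module.annihilator A H := by rw [htop]; trivial
    rw [Module.mem_annihilator] at this
    obtain ⟨x, hx⟩ := exists_ne (0 : H)
    exact hx (by simpa using this x)
  obtain ⟨m, hm, hle⟩ := Ideal.exists_le_maximal _ hann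
  haveI := hm
  haveI := h m
  have hsub : Subsingleton (H ⧸ (m • (⊤ : Submodule A H))) :=
    (TensorProduct.quotTensorEquivQuotSMul H m).symm.toEquiv.subsingleton
  have htop : m • (⊤ : Submodule A H) = ⊤ := by
    rwa [Submodule.Quotient.subsingleton_iff] at hsub
  obtain ⟨r, hr1, hr2⟩ := Submodule.exists_sub_one_mem_and_smul_eq_zero_of_fg_of_le_smul m
    (⊤ : Submodule A H) Module.Finite.fg_top (by rw [htop])
  have hrann : r ∈ Module.annihilator A H := by
    rw [Module.mem_annihilator]
    intro x
    exact hr2 x trivial
  have hrm : r ∈ m := hle hrann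
  have : (1 : A) ∈ m := by
    have := m.sub_mem hrm hr1
    simpa using this
  exact hm.ne_top ((Ideal.eq_top_iff_one m).2 this)

/-- descending injectivity along `cancelBaseChange`. -/
lemma injective_lTensor_of_baseChange {R C L N Q : Type*} [CommRing R] [CommRing C] [Algebra R C]
    [AddCommGroup L] [Module C L] [Module R L] [IsScalarTower R C L]
    [AddCommGroup N] [Module R N] [AddCommGroup Q] [Module R Q] (g : N →ₗ[R] Q)
    (h : Function.Injective (LinearMap.lTensor L (g.baseChange C))) :
    Function.Injective (LinearMap.lTensor L g) := by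
  have hc2 := TensorProduct.AlgebraTensorModule.lTensor_comp_cancelBaseChange
    (R := R) (A := C) (B := C) (M := L) g
  intro x y hxy
  obtain ⟨x', rfl⟩ := (TensorProduct.AlgebraTensorModule.cancelBaseChange R C C L N).surjective x
  obtain ⟨y', rfl⟩ := (TensorProduct.AlgebraTensorModule.cancelBaseChange R C C L N).surjective y
  congr 1
  apply h
  apply (TensorProduct.AlgebraTensorModule.cancelBaseChange R C C L Q).injective
  have e1 := LinearMap.congr_fun hc2 x'
  have e2 := LinearMap.congr_fun hc2 y'
  simp only [LinearMap.comp_apply, LinearEquiv.coe_coe] at e1 e2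
  exact e1.symm.trans (hxy.trans e2)

end Local

section Pushout

variable (A₀ A B₀ B : Type*) [CommRing A₀] [CommRing A] [CommRing B₀] [CommRing B]
  [Algebra A₀ A] [Algebra A₀ B₀] [Algebra A₀ B] [Algebra B₀ B] [Algebra A B]
  [IsScalarTower A₀ B₀ B] [IsScalarTower A₀ A B] [Algebra.IsPushout A₀ A B₀ B]
  {X Y Z : Type*} [AddCommGroup X] [Module A₀ X] [Module B₀ X] [IsScalarTower A₀ B₀ X]
  [AddCommGroup Y] [Module A₀ Y] [Module B₀ Y] [IsScalarTower A₀ B₀ Y]
  [AddCommGroup Z] [Module A₀ Z] [Module B₀ Z] [IsScalarTower A₀ B₀ Z]

theorem injective_lTensor_of_isPushout (f : X →ₗ[B₀] Y)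
    (h : Function.Injective ((f.restrictScalars A₀).lTensor A)) :
    Function.Injective (f.lTensor B) := by
  set cX := Algebra.IsPushout.cancelBaseChange A₀ A B₀ B X with hcX
  set cY := Algebra.IsPushout.cancelBaseChange A₀ A B₀ B Y with hcY
  intro x y hxy
  have hx := cancelBaseChange_symm_lTensor A₀ A B₀ B f (cX x)
  have hy := cancelBaseChange_symm_lTensor A₀ A B₀ B f (cX y)
  rw [← hcX, LinearEquiv.symm_apply_apply] at hx hy
  have h3 : cY.symm (((f.restrictScalars A₀).lTensor A) (cX x)) =
      cY.symm (((f.restrictScalars A₀).lTensor A) (cX y)) := by rw [hx, hy, hxy]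
  exact cX.injective (h (cY.symm.injective h3))

include A in
theorem injective_lTensor_of_flat_of_isPushout (ι : X →ₗ[B₀] Y) (f : Y →ₗ[B₀] Z)
    (hι : Function.Injective ι) (hf : Function.Surjective f) (hex : Function.Exact ι f)
    [Module.Flat A₀ Z] : Function.Injective (ι.lTensor B) := by
  apply injective_lTensor_of_isPushout A₀ A B₀ B
  exact LinearMap.lTensor_injective_of_exact_of_flat (f.restrictScalars A₀) hf
    (ι.restrictScalars A₀) hι hex A

end Pushout

end Groth.Agent.Lib.helper3.PdFibre
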