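import Mathlib
import Groth.Agent.Lib.Helper3.PdFibre
/-!
# helper3: projective dimension and base change to fibres, part 2 (short exact sequences)
-/

set_option autoImplicit false
set_option linter.style.haveILetI false
universe u
open CategoryTheory CategoryTheory.Limits TensorProduct

attribute [local instance] HasDerivedCategory.standard

namespace Groth.Agent.Lib.helper3.PdFibre

open Groth.Agent.Lib.helper23.TA Groth.Agent.Lib.helper23.PCohCore
  Groth.Agent.Lib.helper23.DRingPC Groth.Agent.Lib.helper3.ResBaseChange
  Groth.Agent.Lib.helper3.PdTor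

section SES

variable {B : Type u} [CommRing B] {K F M : Type u} [AddCommGroup K] [AddCommGroup F]
  [AddCommGroup M] [Module B K] [Module B F] [Module B M]
  (ι : K →ₗ[B] F) (f : F →ₗ[B] M)

/-- the short complex `K → F → M` in `ModuleCat B`. -/
noncomputable def ses (hex : Function.Exact ι f) : ShortComplex (ModuleCat.{u} B) :=
  ShortComplex.mk (ModuleCat.ofHom ι) (ModuleCat.ofHom f) (by
    ext x
    exact hex.apply_apply_eq_zero x)

lemma ses_shortExact (hι : Function.Injective ι) (hf : Function.Surjective f)
    (hex : Function.Exact ι f) : (ses ι f hex).ShortExact := by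
  refine ShortComplex.ShortExact.mk' ?_ ?_ ?_
  · rw [ShortComplex.ShortExact.moduleCat_exact_iff_function_exact]
    exact hex
  · exact (ModuleCat.mono_iff_injective _).2 hι
  · exact (ModuleCat.epi_iff_surjective _).2 hf

variable (C : Type u) [CommRing C] [Algebra B C]

/-- the base-changed short complex `C ⊗ K → C ⊗ F → C ⊗ M` in `ModuleCat C`. -/
noncomputable def sesBC (hex : Function.Exact ι f) : ShortComplex (ModuleCat.{u} C) :=
  ShortComplex.mk (ModuleCat.ofHom (ι.baseChange C)) (ModuleCat.ofHom (f.baseChange C)) (by
    rw [← ModuleCat.ofHom_comp, ← LinearMap.baseChange_comp, hex.linearMap_comp_eq_zero,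
      LinearMap.baseChange_zero]
    rfl)

lemma sesBC_shortExact (hι : Function.Injective (ι.lTensor C)) (hf : Function.Surjective f)
    (hex : Function.Exact ι f) : (sesBC ι f C hex).ShortExact := by
  refine ShortComplex.ShortExact.mk' ?_ ?_ ?_
  · rw [ShortComplex.ShortExact.moduleCat_exact_iff_function_exact]
    change Function.Exact (ι.baseChange C) (f.baseChange C)
    rw [LinearMap.baseChange_eq_ltensor, LinearMap.baseChange_eq_ltensor]
    exact lTensor_exact C hex hf
  · refine (ModuleCat.mono_iff_injective _).2 ?_
    change Function.Injective (ι.baseChange C)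
    rw [LinearMap.baseChange_eq_ltensor]
    exact hι
  · refine (ModuleCat.epi_iff_surjective _).2 ?_
    change Function.Surjective (f.baseChange C)
    rw [LinearMap.baseChange_eq_ltensor]
    exact LinearMap.lTensor_surjective C hf

end SES

section Cover

variable {B : Type u} [CommRing B]

/-- kernel of a surjection from a finite free module onto a pseudo-coherent module is
pseudo-coherent. -/
lemma pcMod_ker {M : Type u} [AddCommGroup M] [Module B M] (hpc : PCMod B (ModuleCat.of B M))
    {n : ℕ} (f : (Fin n → B) →ₗ[B] M) (hf : Function.Surjective f) :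
    PCMod B (ModuleCat.of B (LinearMap.ker f)) := by
  intro m
  have hS := ses_shortExact (LinearMap.ker f).subtype f (Submodule.injective_subtype _) hf
    (LinearMap.exact_subtype_ker_map f)
  have h := (NPC.two_of_three (FF B) (FF_sum _) (FF_hqs _) (FF_hql _) (m - 1)
    hS.singleTriangle hS.singleTriangle_distinguished).2.2
  have h2 : NPC (FF B) (m - 1 + 1)
      ((DerivedCategory.singleFunctor (ModuleCat.{u} B) 0).obj (ModuleCat.of B (Fin n → B))) :=
    pcMod_free n _
  have h3 := h h2 (hpc (m - 1))
  rw [sub_add_cancel] at h3
  exact h3

lemma projective_free (n : ℕ) : Projective (ModuleCat.of B (Fin n → B)) :=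
  (IsProjective.iff_projective (R := B) (P := (Fin n → B))).1 inferInstance

end Cover

end Groth.Agent.Lib.helper3.PdFibre
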