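import Mathlib
import Groth.Agent.Lib.Helper3.PdFibre2
/-!
# helper3: projective dimension and base change to fibres, part 3 (base change decreases `pd`)
-/

set_option autoImplicit false
set_option linter.style.haveILetI false
universe u
open CategoryTheory CategoryTheory.Limits TensorProduct

attribute [local instance] HasDerivedCategory.standard

namespace Groth.Agent.Lib.helper3.PdFibre

open Groth.Agent.Lib.helper23.TA Groth.Agent.Lib.helper23.PCohCore
  Groth.Agent.Lib.helper23.DRingPC Groth.Agent.Lib.helper3.ResBaseChange
  Groth.Agent.Lib.helper3.PdTor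

section Claim1

variable {A B : Type u} [CommRing A] [CommRing B] [Algebra A B] [Module.Flat A B]

/-- `A`-flatness of the kernel of a surjection from a free `B`-module onto an `A`-flat module. -/
lemma flat_ker {M : Type u} [AddCommGroup M] [Module B M] [Module A M] [IsScalarTower A B M]
    [Module.Flat A M] {n : ℕ} (f : (Fin n → B) →ₗ[B] M) (hf : Function.Surjective f) :
    Module.Flat A (LinearMap.ker f) := by
  haveI : Module.Flat A (Fin n → B) := flat_pi_fin n
  haveI := flat_ker_of_surjective (f.restrictScalars A) hf
  exact Module.Flat.of_linearEquiv (M := LinearMap.ker (f.restrictScalars A))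
    { toFun := fun x => ⟨x.1, x.2⟩
      invFun := fun x => ⟨x.1, x.2⟩
      map_add' := fun _ _ => rfl
      map_smul' := fun _ _ => rfl
      left_inv := fun _ => rfl
      right_inv := fun _ => rfl }

lemma subsingleton_tensor_right (C : Type u) [CommRing C] [Algebra B C] (M : Type u)
    [AddCommGroup M] [Module B M] [Subsingleton M] : Subsingleton (C ⊗[B] M) :=
  subsingleton_of_forall_eq 0 (fun x => by
    induction x using TensorProduct.induction_on with
    | zero => rfl
    | tmul c m => rw [Subsingleton.elim m 0, tmul_zero]
    | add x y hx hy => rw [hx, hy, add_zero])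

variable (k C : Type u) [CommRing k] [CommRing C] [Algebra A k] [Algebra B C] [Algebra A C]
  [Algebra k C] [IsScalarTower A B C] [IsScalarTower A k C] [Algebra.IsPushout A k B C]

omit [Module.Flat A B] in
include k in
/-- the base change to `C = k ⊗[A] B` of `0 → ker f → Bⁿ → M → 0` is short exact when `M` is
`A`-flat. -/
lemma sesBC_ker_shortExact {M : Type u} [AddCommGroup M] [Module B M] [Module A M]
    [IsScalarTower A B M] [Module.Flat A M] {n : ℕ} (f : (Fin n → B) →ₗ[B] M)
    (hf : Function.Surjective f) :
    (sesBC (LinearMap.ker f).subtype f C (LinearMap.exact_subtype_ker_map f)).ShortExact := by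
  refine sesBC_shortExact _ _ C ?_ hf _
  exact injective_lTensor_of_flat_of_isPushout A k B C (LinearMap.ker f).subtype f
    (Submodule.injective_subtype _) hf (LinearMap.exact_subtype_ker_map f)

include k in
/-- **base change to a fibre does not increase projective dimension** (for pseudo-coherent
`A`-flat modules). -/
theorem pd_baseChange_lt : ∀ (i : ℕ) (M : Type u) [AddCommGroup M] [Module B M] [Module A M]
    [IsScalarTower A B M] [Module.Flat A M], PCMod B (ModuleCat.of B M) →
    HasProjectiveDimensionLT (ModuleCat.of B M) i →
    HasProjectiveDimensionLT (ModuleCat.of C (C ⊗[B] M)) i := by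
  intro i
  induction i with
  | zero =>
    intro M _ _ _ _ _ hpc h
    rw [hasProjectiveDimensionLT_zero_iff_isZero] at h ⊢
    haveI : Subsingleton M := ModuleCat.subsingleton_of_isZero h
    haveI : Subsingleton (C ⊗[B] M) := subsingleton_tensor_right C M
    exact ModuleCat.isZero_of_subsingleton _
  | succ i ih =>
    cases i with
    | zero =>
      intro M _ _ _ _ _ hpc h
      rw [zero_add, ← projective_iff_hasProjectiveDimensionLT_one] at h ⊢
      haveI : Module.Projective B M := (IsProjective.iff_projective (R := B) (P := M)).2 h
      exact (IsProjective.iff_projective (R := C) (P := C ⊗[B] M)).1 inferInstance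
    | succ j =>
      intro M _ _ _ _ _ hpc h
      haveI : Module.Finite B M := (npc_zero_single_iff_finite B (ModuleCat.of B M)).1 (hpc 0)
      obtain ⟨n, f, hf⟩ := Module.Finite.exists_fin' B M
      have hS := ses_shortExact (LinearMap.ker f).subtype f (Submodule.injective_subtype _) hf
        (LinearMap.exact_subtype_ker_map f)
      have hSC := sesBC_ker_shortExact (A := A) k C f hf
      haveI : Module.Flat A (LinearMap.ker f) := flat_ker f hf
      have hpcK := pcMod_ker hpc f hf
      haveI : Projective (ses (LinearMap.ker f).subtype f (LinearMap.exact_subtype_ker_map f)).X₂ :=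
        projective_free n
      have hK : HasProjectiveDimensionLT (ModuleCat.of B (LinearMap.ker f)) (j + 1) :=
        hS.hasProjectiveDimensionLT_X₁ (j + 1)
          (hasProjectiveDimensionLT_of_ge _ 1 (j + 1) (by omega)) h
      have hKC := ih (LinearMap.ker f) hpcK hK
      haveI : Projective
          (sesBC (LinearMap.ker f).subtype f C (LinearMap.exact_subtype_ker_map f)).X₂ :=
        (IsProjective.iff_projective (R := C) (P := C ⊗[B] (Fin n → B))).1 inferInstance
      exact hSC.hasProjectiveDimensionLT_X₃ (j + 1) hKC
        (hasProjectiveDimensionLT_of_ge _ 1 (j + 1 + 1) (by omega))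

end Claim1

end Groth.Agent.Lib.helper3.PdFibre
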