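import Mathlib
import Groth.Agent.Lib.Helper3.PdFibre3
/-!
# helper3: projective dimension and base change to fibres, part 4 (fibres detect `pd`)
-/

set_option autoImplicit false
set_option linter.style.haveILetI false
universe u
open CategoryTheory CategoryTheory.Limits TensorProduct

attribute [local instance] HasDerivedCategory.standard

namespace Groth.Agent.Lib.helper3.PdFibre

open Groth.Agent.Lib.helper23.TA Groth.Agent.Lib.helper23.PCohCore
  Groth.Agent.Lib.helper23.DRingPC Groth.Agent.Lib.helper3.ResBaseChange
  Groth.Agent.Lib.helper3.PdTor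

attribute [local instance] Algebra.TensorProduct.rightAlgebra

lemma subsingleton_tensor_right' {R : Type*} [CommRing R] (L N : Type*) [AddCommGroup L]
    [Module R L] [AddCommGroup N] [Module R N] [Subsingleton N] : Subsingleton (L ⊗[R] N) :=
  subsingleton_of_forall_eq 0 (fun x => by
    induction x using TensorProduct.induction_on with
    | zero => rfl
    | tmul c m => rw [Subsingleton.elim m 0, tmul_zero]
    | add x y hx hy => rw [hx, hy, add_zero])

section Claim2

variable {A B : Type u} [CommRing A] [CommRing B] [Algebra A B]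

/-- every residue field `B ⧸ m` at a maximal ideal is an algebra over a fibre ring `B ⊗ κ(p)`. -/
lemma exists_algHom_quotient (m : Ideal B) [m.IsMaximal] :
    ∃ p : PrimeSpectrum A, Nonempty ((B ⊗[A] p.asIdeal.ResidueField) →ₐ[B] (B ⧸ m)) := by
  let p : PrimeSpectrum A := ⟨m.comap (algebraMap A B), inferInstance⟩
  letI : Field (B ⧸ m) := Ideal.Quotient.field m
  have hf₁ : p.asIdeal ≤ RingHom.ker (Algebra.ofId A (B ⧸ m)) := by
    intro a ha
    rw [RingHom.mem_ker]
    change algebraMap A (B ⧸ m) a = 0
    rw [IsScalarTower.algebraMap_apply A B (B ⧸ m), Ideal.Quotient.algebraMap_eq,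
      Ideal.Quotient.eq_zero_iff_mem]
    exact ha
  have hf₂ : p.asIdeal.primeCompl ≤
      (IsUnit.submonoid (B ⧸ m)).comap (Algebra.ofId A (B ⧸ m)) := by
    intro a ha
    change IsUnit (algebraMap A (B ⧸ m) a)
    rw [isUnit_iff_ne_zero, IsScalarTower.algebraMap_apply A B (B ⧸ m),
      Ideal.Quotient.algebraMap_eq, Ne, Ideal.Quotient.eq_zero_iff_mem]
    exact ha
  let g : p.asIdeal.ResidueField →ₐ[A] (B ⧸ m) :=
    Ideal.ResidueField.liftₐ p.asIdeal (Algebra.ofId A (B ⧸ m)) hf₁ hf₂
  exact ⟨p, ⟨Algebra.TensorProduct.lift (Algebra.ofId B (B ⧸ m)) g (fun _ _ => Commute.all _ _)⟩⟩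

/-- a finite `B`-module vanishing on all fibres over `Spec A` is zero. -/
lemma subsingleton_of_fibres (M : Type u) [AddCommGroup M] [Module B M] [Module.Finite B M]
    (h : ∀ p : PrimeSpectrum A, Subsingleton ((B ⊗[A] p.asIdeal.ResidueField) ⊗[B] M)) :
    Subsingleton M := by
  refine subsingleton_of_forall_maximal_tensor (A := B) M (fun m hm => ?_)
  obtain ⟨p, ⟨τ⟩⟩ := exists_algHom_quotient (A := A) m
  letI : Algebra (B ⊗[A] p.asIdeal.ResidueField) (B ⧸ m) := τ.toRingHom.toAlgebra
  haveI : IsScalarTower B (B ⊗[A] p.asIdeal.ResidueField) (B ⧸ m) :=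
    IsScalarTower.of_algebraMap_eq (fun b => (τ.commutes b).symm)
  haveI := h p
  let e := TensorProduct.AlgebraTensorModule.cancelBaseChange B (B ⊗[A] p.asIdeal.ResidueField)
    (B ⊗[A] p.asIdeal.ResidueField) (B ⧸ m) M
  haveI : Subsingleton ((B ⧸ m) ⊗[B ⊗[A] p.asIdeal.ResidueField]
      ((B ⊗[A] p.asIdeal.ResidueField) ⊗[B] M)) := subsingleton_tensor_right' _ _
  exact e.symm.injective.subsingleton

/-- fibre criterion for projectivity. -/
lemma projective_of_fibres (M : Type u) [AddCommGroup M] [Module B M] [Module A M]
    [IsScalarTower A B M] [Module.Flat A M] [Module.FinitePresentation B M]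
    (h : ∀ p : PrimeSpectrum A, Module.Projective (B ⊗[A] p.asIdeal.ResidueField)
      ((B ⊗[A] p.asIdeal.ResidueField) ⊗[B] M)) : Module.Projective B M := by
  obtain ⟨n, f, hf⟩ := Module.Finite.exists_fin' B M
  have hK : (LinearMap.ker f).FG := Module.FinitePresentation.fg_ker f hf
  haveI : Module.Projective B ((Fin n → B) ⧸ LinearMap.ker f) := by
    refine projective_quot_of_residue_injective _ hK (fun m hm => ?_)
    obtain ⟨p, ⟨τ⟩⟩ := exists_algHom_quotient (A := A) m
    letI : Algebra (B ⊗[A] p.asIdeal.ResidueField) (B ⧸ m) := τ.toRingHom.toAlgebra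
    haveI : IsScalarTower B (B ⊗[A] p.asIdeal.ResidueField) (B ⧸ m) :=
      IsScalarTower.of_algebraMap_eq (fun b => (τ.commutes b).symm)
    haveI := h p
    have hι : Function.Injective
        ((LinearMap.ker f).subtype.lTensor (B ⊗[A] p.asIdeal.ResidueField)) :=
      injective_lTensor_of_flat_of_isPushout A p.asIdeal.ResidueField B
        (B ⊗[A] p.asIdeal.ResidueField) (LinearMap.ker f).subtype f
        (Submodule.injective_subtype _) hf (LinearMap.exact_subtype_ker_map f)
    apply injective_lTensor_of_baseChange (C := B ⊗[A] p.asIdeal.ResidueField)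
    refine LinearMap.lTensor_injective_of_exact_of_flat
      (f.baseChange (B ⊗[A] p.asIdeal.ResidueField)) ?_
      ((LinearMap.ker f).subtype.baseChange (B ⊗[A] p.asIdeal.ResidueField)) ?_ ?_ (B ⧸ m)
    · rw [LinearMap.baseChange_eq_ltensor]
      exact LinearMap.lTensor_surjective _ hf
    · rw [LinearMap.baseChange_eq_ltensor]
      exact hι
    · rw [LinearMap.baseChange_eq_ltensor, LinearMap.baseChange_eq_ltensor]
      exact lTensor_exact _ (LinearMap.exact_subtype_ker_map f) hf
  exact Module.Projective.of_equiv (f.quotKerEquivOfSurjective hf)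

variable [Module.Flat A B]

/-- **the fibres detect projective dimension** (for pseudo-coherent `A`-flat modules). -/
theorem pd_lt_of_fibres : ∀ (i : ℕ) (M : Type u) [AddCommGroup M] [Module B M] [Module A M]
    [IsScalarTower A B M] [Module.Flat A M], PCMod B (ModuleCat.of B M) →
    (∀ p : PrimeSpectrum A, HasProjectiveDimensionLT
      (ModuleCat.of (B ⊗[A] p.asIdeal.ResidueField)
        ((B ⊗[A] p.asIdeal.ResidueField) ⊗[B] M)) i) →
    HasProjectiveDimensionLT (ModuleCat.of B M) i := by
  intro i
  induction i with
  | zero =>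
    intro M _ _ _ _ _ hpc h
    haveI : Module.Finite B M := (npc_zero_single_iff_finite B (ModuleCat.of B M)).1 (hpc 0)
    rw [hasProjectiveDimensionLT_zero_iff_isZero]
    haveI : Subsingleton M := subsingleton_of_fibres (A := A) M (fun p => by
      have := h p
      rw [hasProjectiveDimensionLT_zero_iff_isZero] at this
      exact ModuleCat.subsingleton_of_isZero this)
    exact ModuleCat.isZero_of_subsingleton _
  | succ i ih =>
    cases i with
    | zero =>
      intro M _ _ _ _ _ hpc h
      haveI : Module.FinitePresentation B M :=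
        (npc_negOne_single_iff_finitePresentation B (ModuleCat.of B M)).1 (hpc (-1))
      rw [zero_add, ← projective_iff_hasProjectiveDimensionLT_one]
      haveI : Module.Projective B M := projective_of_fibres (A := A) M (fun p => by
        have := h p
        rw [zero_add, ← projective_iff_hasProjectiveDimensionLT_one] at this
        exact (IsProjective.iff_projective (R := B ⊗[A] p.asIdeal.ResidueField)
          (P := (B ⊗[A] p.asIdeal.ResidueField) ⊗[B] M)).2 this)
      exact (IsProjective.iff_projective (R := B) (P := M)).1 inferInstance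
    | succ j =>
      intro M _ _ _ _ _ hpc h
      haveI : Module.Finite B M := (npc_zero_single_iff_finite B (ModuleCat.of B M)).1 (hpc 0)
      obtain ⟨n, f, hf⟩ := Module.Finite.exists_fin' B M
      have hS := ses_shortExact (LinearMap.ker f).subtype f (Submodule.injective_subtype _) hf
        (LinearMap.exact_subtype_ker_map f)
      haveI : Module.Flat A (LinearMap.ker f) := flat_ker f hf
      have hpcK := pcMod_ker hpc f hf
      haveI : Projective (ses (LinearMap.ker f).subtype f (LinearMap.exact_subtype_ker_map f)).X₂ :=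
        projective_free n
      have hK : HasProjectiveDimensionLT (ModuleCat.of B (LinearMap.ker f)) (j + 1) := by
        refine ih (LinearMap.ker f) hpcK (fun p => ?_)
        have hSC := sesBC_ker_shortExact (A := A) p.asIdeal.ResidueField
          (B ⊗[A] p.asIdeal.ResidueField) f hf
        haveI : Projective (sesBC (LinearMap.ker f).subtype f (B ⊗[A] p.asIdeal.ResidueField)
            (LinearMap.exact_subtype_ker_map f)).X₂ :=
          (IsProjective.iff_projective (R := B ⊗[A] p.asIdeal.ResidueField)
            (P := (B ⊗[A] p.asIdeal.ResidueField) ⊗[B] (Fin n → B))).1 inferInstance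
        exact hSC.hasProjectiveDimensionLT_X₁ (j + 1)
          (hasProjectiveDimensionLT_of_ge _ 1 (j + 1) (by omega)) (h p)
      exact hS.hasProjectiveDimensionLT_X₃ (j + 1) hK
        (hasProjectiveDimensionLT_of_ge _ 1 (j + 1 + 1) (by omega))

end Claim2

end Groth.Agent.Lib.helper3.PdFibre
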