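import Mathlib
import Groth.Agent.Lib.Helper3.PdFibre4
/-!
# helper3: fibre local rings `B' ⧸ I B'` and base change of short exact sequences (towards S19197)

`A → B` a ring map, `B'` a flat `B`-algebra (e.g. a localization of `B`), `I` an ideal of `A`,
`F = B' ⧸ I B'`.
* `flat_localizedModule` (copied from helper26): localizing an `A`-flat `B`-module keeps it `A`-flat.
* `injective_lTensor_quot` : for `0 → K → Y → M → 0` exact over `B` with `B' ⊗ M` flat over `A`,
  `F ⊗ K → F ⊗ Y` is injective.
-/

set_option autoImplicit false
set_option linter.style.haveILetI false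
universe u
open CategoryTheory CategoryTheory.Limits TensorProduct

namespace Groth.Agent.Lib.helper3.PdSemi

open Groth.Agent.Lib.helper3.PdFibre Groth.Agent.Lib.helper3.ResBaseChange

attribute [local instance] Algebra.TensorProduct.rightAlgebra

section Gen

/-- injectivity of `L ⊗ g` only depends on `L` up to isomorphism. -/
lemma injective_lTensor_of_linearEquiv {R L L' N Q : Type*} [CommRing R] [AddCommGroup L]
    [AddCommGroup L'] [AddCommGroup N] [AddCommGroup Q] [Module R L] [Module R L'] [Module R N]
    [Module R Q] (e : L ≃ₗ[R] L') (g : N →ₗ[R] Q) (h : Function.Injective (g.lTensor L')) :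
    Function.Injective (g.lTensor L) := by
  have hc : (e.toLinearMap.rTensor Q) ∘ₗ (g.lTensor L) = (g.lTensor L') ∘ₗ (e.toLinearMap.rTensor N) := by
    rw [LinearMap.rTensor_comp_lTensor, LinearMap.lTensor_comp_rTensor]
  have hinj : Function.Injective (e.toLinearMap.rTensor N) :=
    (TensorProduct.congr e (LinearEquiv.refl R N)).injective
  intro x y hxy
  apply hinj
  apply h
  have := congrArg (e.toLinearMap.rTensor Q) hxy
  have e1 := LinearMap.congr_fun hc x
  have e2 := LinearMap.congr_fun hc y
  simp only [LinearMap.comp_apply] at e1 e2
  rw [← e1, ← e2, this]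

variable {A B : Type u} [CommRing A] [CommRing B] [Algebra A B]

/-- (copied from helper26 `FlatCrit5`) Localizing a `B`-module flat over `A` (at a submonoid of `B`)
keeps it flat over `A`. -/
theorem flat_localizedModule (S : Submonoid B) (E : Type u) [AddCommGroup E] [Module B E]
    [Module A E] [IsScalarTower A B E] [Module.Flat A E] :
    Module.Flat A (LocalizedModule S E) := by
  rw [Module.Flat.iff_lTensor_injective']
  intro I
  set g := LocalizedModule.mkLinearMap S E with hg
  have h1 : Function.Injective (AlgebraTensorModule.lTensor B E I.subtype) :=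
    Module.Flat.lTensor_preserves_injective_linearMap I.subtype I.injective_subtype
  have h2 := IsLocalizedModule.map_injective S (AlgebraTensorModule.rTensor A I g)
    (AlgebraTensorModule.rTensor A A g) (AlgebraTensorModule.lTensor B E I.subtype) h1
  rw [IsLocalizedModule.map_lTensor] at h2
  exact h2

variable (B' : Type u) [CommRing B'] [Algebra B B'] [Algebra A B'] [IsScalarTower A B B']
  [Module.Flat B B'] (I : Ideal A)

/-- **exactness of base change to the fibre ring** `F = B' ⧸ I B'`. -/
theorem injective_lTensor_quot {K Y M : Type u} [AddCommGroup K] [AddCommGroup Y] [AddCommGroup M]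
    [Module B K] [Module B Y] [Module B M]
    (hfl : Module.Flat A (B' ⊗[B] M))
    (ι : K →ₗ[B] Y) (f : Y →ₗ[B] M) (hι : Function.Injective ι) (hf : Function.Surjective f)
    (hex : Function.Exact ι f) :
    Function.Injective (ι.lTensor (B' ⧸ I.map (algebraMap A B'))) := by
  let F'' := B' ⊗[A] (A ⧸ I)
  have hι' : Function.Injective (ι.baseChange B') := by
    rw [LinearMap.baseChange_eq_ltensor]
    exact Module.Flat.lTensor_preserves_injective_linearMap ι hι
  have hf' : Function.Surjective (f.baseChange B') := by
    rw [LinearMap.baseChange_eq_ltensor]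
    exact LinearMap.lTensor_surjective B' hf
  have hex' : Function.Exact (ι.baseChange B') (f.baseChange B') := by
    rw [LinearMap.baseChange_eq_ltensor, LinearMap.baseChange_eq_ltensor]
    exact lTensor_exact B' hex hf
  haveI := hfl
  have h1 : Function.Injective ((ι.baseChange B').lTensor F'') :=
    injective_lTensor_of_flat_of_isPushout A (A ⧸ I) B' F'' (ι.baseChange B') (f.baseChange B')
      hι' hf' hex'
  have h2 : Function.Injective (ι.lTensor F'') :=
    injective_lTensor_of_baseChange (R := B) (C := B') (L := F'') ι h1
  exact injective_lTensor_of_linearEquiv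
    ((Algebra.TensorProduct.quotIdealMapEquivTensorQuot B' I).toLinearEquiv.restrictScalars B) ι h2

end Gen

end Groth.Agent.Lib.helper3.PdSemi
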