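import Mathlib
import Groth.Agent.Lib.Helper3.PdSemi1
/-!
# helper3: the local ring of the fibre at a prime (towards S19197)

For `P ∈ Spec B` over `p ∈ Spec A`: `Fp P = B_P ⧸ p B_P`.
* `subsingleton_fibre_iff` : `Fp ⊗[B] M = 0 ↔ P ∉ Supp M` (finite `M`).
* `projective_fibre_iff` : `Fp ⊗[B] M` projective over `Fp` iff `P ∈ freeLocus B M`
  (`M` f.p. with `M_P` flat over `A`).
-/

set_option autoImplicit false
set_option linter.style.haveILetI false
universe u
open CategoryTheory CategoryTheory.Limits TensorProduct

namespace Groth.Agent.Lib.helper3.PdSemi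

open Groth.Agent.Lib.helper3.PdFibre Groth.Agent.Lib.helper3.ResBaseChange

variable {A B : Type u} [CommRing A] [CommRing B] [Algebra A B] (P : PrimeSpectrum B)

variable (A) in
/-- the ideal `p B_P`. -/
abbrev Jp : Ideal (Localization.AtPrime P.asIdeal) :=
  (P.asIdeal.under A).map (algebraMap A (Localization.AtPrime P.asIdeal))

variable (A) in
/-- the local ring of the fibre at `P`. -/
abbrev Fp : Type u := Localization.AtPrime P.asIdeal ⧸ Jp A P

lemma Jp_le : Jp A P ≤ IsLocalRing.maximalIdeal (Localization.AtPrime P.asIdeal) := by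
  rw [Ideal.map_le_iff_le_comap]
  intro a ha
  rw [Ideal.mem_comap, IsScalarTower.algebraMap_apply A B (Localization.AtPrime P.asIdeal)]
  have h1 : algebraMap A B a ∈ (IsLocalRing.maximalIdeal
      (Localization.AtPrime P.asIdeal)).under B := by
    rw [Localization.AtPrime.under_maximalIdeal]
    exact ha
  exact h1

/-- the residue field of `B_P` as an algebra over the fibre ring. -/
noncomputable def tau : Fp A P →ₐ[Localization.AtPrime P.asIdeal]
    IsLocalRing.ResidueField (Localization.AtPrime P.asIdeal) :=
  Ideal.Quotient.liftₐ (Jp A P) (IsScalarTower.toAlgHom (Localization.AtPrime P.asIdeal)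
    (Localization.AtPrime P.asIdeal) (IsLocalRing.ResidueField (Localization.AtPrime P.asIdeal)))
    (fun x hx => (IsLocalRing.residue_eq_zero_iff x).2 (Jp_le P hx))

section Fibre

variable (M : Type u) [AddCommGroup M] [Module B M]

/-- `Fp ⊗[B_P] (B_P ⊗[B] M) ≃ Fp ⊗[B] M`. -/
noncomputable def canc : (Fp A P) ⊗[Localization.AtPrime P.asIdeal]
    ((Localization.AtPrime P.asIdeal) ⊗[B] M) ≃ₗ[Fp A P] (Fp A P) ⊗[B] M :=
  AlgebraTensorModule.cancelBaseChange B (Localization.AtPrime P.asIdeal) (Fp A P) (Fp A P) M

lemma subsingleton_loc_iff :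
    Subsingleton ((Localization.AtPrime P.asIdeal) ⊗[B] M) ↔ P ∉ Module.support B M := by
  rw [Module.notMem_support_iff]
  exact (IsLocalizedModule.iso P.asIdeal.primeCompl
    (TensorProduct.mk B (Localization.AtPrime P.asIdeal) M 1)).toEquiv.subsingleton_congr.symm

theorem subsingleton_fibre_iff [Module.Finite B M] :
    Subsingleton ((Fp A P) ⊗[B] M) ↔ P ∉ Module.support B M := by
  rw [← subsingleton_loc_iff]
  constructor
  · intro h
    haveI : Subsingleton ((Fp A P) ⊗[Localization.AtPrime P.asIdeal]
        ((Localization.AtPrime P.asIdeal) ⊗[B] M)) := (canc (A := A) P M).toEquiv.subsingleton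
    letI : Algebra (Fp A P) (IsLocalRing.ResidueField (Localization.AtPrime P.asIdeal)) :=
      (tau (A := A) P).toRingHom.toAlgebra
    haveI : IsScalarTower (Localization.AtPrime P.asIdeal) (Fp A P)
        (IsLocalRing.ResidueField (Localization.AtPrime P.asIdeal)) :=
      IsScalarTower.of_algebraMap_eq (fun b => ((tau (A := A) P).commutes b).symm)
    let e := AlgebraTensorModule.cancelBaseChange (Localization.AtPrime P.asIdeal) (Fp A P)
      (Fp A P) (IsLocalRing.ResidueField (Localization.AtPrime P.asIdeal))
      ((Localization.AtPrime P.asIdeal) ⊗[B] M)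
    haveI : Subsingleton ((IsLocalRing.ResidueField (Localization.AtPrime P.asIdeal)) ⊗[Fp A P]
        ((Fp A P) ⊗[Localization.AtPrime P.asIdeal]
          ((Localization.AtPrime P.asIdeal) ⊗[B] M))) := subsingleton_tensor_right' _ _
    haveI : Subsingleton ((IsLocalRing.ResidueField (Localization.AtPrime P.asIdeal))
        ⊗[Localization.AtPrime P.asIdeal] ((Localization.AtPrime P.asIdeal) ⊗[B] M)) :=
      e.symm.toEquiv.subsingleton
    exact (IsLocalRing.subsingleton_tensorProduct (R := Localization.AtPrime P.asIdeal)).1 inferInstance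
  · intro h
    haveI := h
    haveI : Subsingleton ((Fp A P) ⊗[Localization.AtPrime P.asIdeal]
        ((Localization.AtPrime P.asIdeal) ⊗[B] M)) := subsingleton_tensor_right' _ _
    exact (canc (A := A) P M).symm.toEquiv.subsingleton

theorem projective_fibre_of_mem_freeLocus (h : P ∈ Module.freeLocus B M) :
    Module.Projective (Fp A P) ((Fp A P) ⊗[B] M) := by
  rw [Module.mem_freeLocus_iff_tensor P (Localization.AtPrime P.asIdeal)] at h
  haveI := h
  haveI : Module.Free (Fp A P) ((Fp A P) ⊗[Localization.AtPrime P.asIdeal]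
      ((Localization.AtPrime P.asIdeal) ⊗[B] M)) := inferInstance
  exact Module.Projective.of_equiv (canc (A := A) P M)

theorem mem_freeLocus_of_projective_fibre [Module.FinitePresentation B M]
    (hfl : Module.Flat A ((Localization.AtPrime P.asIdeal) ⊗[B] M))
    (h : Module.Projective (Fp A P) ((Fp A P) ⊗[B] M)) : P ∈ Module.freeLocus B M := by
  rw [Module.mem_freeLocus_iff_tensor P (Localization.AtPrime P.asIdeal)]
  set Bp := Localization.AtPrime P.asIdeal with hBp
  set N := Bp ⊗[B] M with hN
  haveI : Module.FinitePresentation Bp N := inferInstance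
  obtain ⟨n, g, hg⟩ := Module.Finite.exists_fin' Bp N
  have hK : (LinearMap.ker g).FG := Module.FinitePresentation.fg_ker g hg
  haveI : Module.Finite Bp (LinearMap.ker g) := Module.Finite.iff_fg.2 hK
  -- injectivity after base change to the fibre ring
  have hflN : Module.Flat A (Bp ⊗[Bp] N) :=
    Module.Flat.of_linearEquiv ((TensorProduct.lid Bp N).restrictScalars A)
  have h1 : Function.Injective ((LinearMap.ker g).subtype.lTensor (Fp A P)) :=
    injective_lTensor_quot (A := A) (B := Bp) Bp (P.asIdeal.under A) hflN
      (LinearMap.ker g).subtype g (Submodule.injective_subtype _) hg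
      (LinearMap.exact_subtype_ker_map g)
  -- flatness of the fibre module
  haveI : Module.Projective (Fp A P) ((Fp A P) ⊗[Bp] N) :=
    Module.Projective.of_equiv (canc (A := A) P M).symm
  letI : Algebra (Fp A P) (IsLocalRing.ResidueField Bp) := (tau (A := A) P).toRingHom.toAlgebra
  haveI : IsScalarTower Bp (Fp A P) (IsLocalRing.ResidueField Bp) :=
    IsScalarTower.of_algebraMap_eq (fun b => ((tau (A := A) P).commutes b).symm)
  have h2 : Function.Injective (((LinearMap.ker g).subtype.baseChange (Fp A P)).lTensor
      (IsLocalRing.ResidueField Bp)) := by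
    refine LinearMap.lTensor_injective_of_exact_of_flat (g.baseChange (Fp A P)) ?_
      ((LinearMap.ker g).subtype.baseChange (Fp A P)) ?_ ?_ (IsLocalRing.ResidueField Bp)
    · rw [LinearMap.baseChange_eq_ltensor]
      exact LinearMap.lTensor_surjective _ hg
    · rw [LinearMap.baseChange_eq_ltensor]
      exact h1
    · rw [LinearMap.baseChange_eq_ltensor, LinearMap.baseChange_eq_ltensor]
      exact lTensor_exact _ (LinearMap.exact_subtype_ker_map g) hg
  have h3 : Function.Injective ((LinearMap.ker g).subtype.lTensor (IsLocalRing.ResidueField Bp)) :=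
    injective_lTensor_of_baseChange (R := Bp) (C := Fp A P) (L := IsLocalRing.ResidueField Bp)
      (LinearMap.ker g).subtype h2
  exact Module.free_of_lTensor_residueField_injective (LinearMap.ker g).subtype g hg
    (LinearMap.exact_subtype_ker_map g) h3

end Fibre

end Groth.Agent.Lib.helper3.PdSemi
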