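import Mathlib
import Groth.Agent.Lib.Helper3.PdSemi2
/-!
# helper3: upper semicontinuity of the projective dimension of the fibre stalks (S19197)

`A → B` flat, `M` a pseudo-coherent `B`-module flat over `A`. Then
`P ↦ pd_{B_P / p B_P} ((B_P / p B_P) ⊗[B] M)` is upper semicontinuous on `Spec B`.
-/

set_option autoImplicit false
set_option linter.style.haveILetI false
universe u
open CategoryTheory CategoryTheory.Limits TensorProduct

attribute [local instance] HasDerivedCategory.standard

namespace Groth.Agent.Lib.helper3.PdSemi

open Groth.Agent.Lib.helper3.PdFibre Groth.Agent.Lib.helper3.ResBaseChange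
  Groth.Agent.Lib.helper23.DRingPC Groth.Agent.Lib.helper23.PCohCore

variable {A B : Type u} [CommRing A] [CommRing B] [Algebra A B]

/-- `A`-flatness of `B_P ⊗ M`. -/
lemma flat_loc (P : PrimeSpectrum B) (M : Type u) [AddCommGroup M] [Module B M] [Module A M]
    [IsScalarTower A B M] [Module.Flat A M] :
    Module.Flat A ((Localization.AtPrime P.asIdeal) ⊗[B] M) := by
  haveI := flat_localizedModule (A := A) P.asIdeal.primeCompl M
  exact Module.Flat.of_linearEquiv ((IsLocalizedModule.iso P.asIdeal.primeCompl
    (TensorProduct.mk B (Localization.AtPrime P.asIdeal) M 1)).restrictScalars A).symm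

variable [Module.Flat A B]

theorem isOpen_pdlt : ∀ (i : ℕ) (M : Type u) [AddCommGroup M] [Module B M] [Module A M]
    [IsScalarTower A B M] [Module.Flat A M], PCMod B (ModuleCat.of B M) →
    IsOpen {P : PrimeSpectrum B | HasProjectiveDimensionLT
      (ModuleCat.of (Fp A P) ((Fp A P) ⊗[B] M)) i} := by
  intro i
  induction i with
  | zero =>
    intro M _ _ _ _ _ hpc
    haveI : Module.Finite B M := (npc_zero_single_iff_finite B (ModuleCat.of B M)).1 (hpc 0)
    have hset : {P : PrimeSpectrum B | HasProjectiveDimensionLT
        (ModuleCat.of (Fp A P) ((Fp A P) ⊗[B] M)) 0} = (Module.support B M)ᶜ := by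
      ext P
      simp only [Set.mem_ofPred_eq, Set.mem_compl_iff]
      rw [hasProjectiveDimensionLT_zero_iff_isZero, ← subsingleton_fibre_iff (A := A) P M]
      exact ⟨fun h => ModuleCat.subsingleton_of_isZero h,
        fun h => @ModuleCat.isZero_of_subsingleton _ _ _ h⟩
    rw [hset, Module.support_eq_zeroLocus]
    exact (PrimeSpectrum.isClosed_zeroLocus _).isOpen_compl
  | succ i ih =>
    cases i with
    | zero =>
      intro M _ _ _ _ _ hpc
      haveI : Module.FinitePresentation B M :=
        (npc_negOne_single_iff_finitePresentation B (ModuleCat.of B M)).1 (hpc (-1))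
      have hset : {P : PrimeSpectrum B | HasProjectiveDimensionLT
          (ModuleCat.of (Fp A P) ((Fp A P) ⊗[B] M)) (0 + 1)} = Module.freeLocus B M := by
        ext P
        simp only [Set.mem_ofPred_eq]
        rw [zero_add, ← projective_iff_hasProjectiveDimensionLT_one,
          ← IsProjective.iff_projective (R := Fp A P) (P := (Fp A P) ⊗[B] M)]
        exact ⟨fun h => mem_freeLocus_of_projective_fibre P M (flat_loc P M) h,
          fun h => projective_fibre_of_mem_freeLocus P M h⟩
      rw [hset]
      exact Module.isOpen_freeLocus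
    | succ j =>
      intro M _ _ _ _ _ hpc
      haveI : Module.Finite B M := (npc_zero_single_iff_finite B (ModuleCat.of B M)).1 (hpc 0)
      obtain ⟨n, f, hf⟩ := Module.Finite.exists_fin' B M
      haveI : Module.Flat A (LinearMap.ker f) := flat_ker f hf
      have hpcK := pcMod_ker hpc f hf
      have hset : {P : PrimeSpectrum B | HasProjectiveDimensionLT
          (ModuleCat.of (Fp A P) ((Fp A P) ⊗[B] M)) (j + 1 + 1)} =
          {P : PrimeSpectrum B | HasProjectiveDimensionLT
          (ModuleCat.of (Fp A P) ((Fp A P) ⊗[B] (LinearMap.ker f))) (j + 1)} := by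
        ext P
        simp only [Set.mem_ofPred_eq]
        have hSC := sesBC_shortExact (LinearMap.ker f).subtype f (Fp A P)
          (injective_lTensor_quot (A := A) (B := B) (Localization.AtPrime P.asIdeal)
            (P.asIdeal.under A) (flat_loc P M) (LinearMap.ker f).subtype f
            (Submodule.injective_subtype _) hf (LinearMap.exact_subtype_ker_map f)) hf
          (LinearMap.exact_subtype_ker_map f)
        have hproj : Projective (sesBC (LinearMap.ker f).subtype f (Fp A P)
            (LinearMap.exact_subtype_ker_map f)).X₂ :=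
          (IsProjective.iff_projective (R := Fp A P) (P := (Fp A P) ⊗[B] (Fin n → B))).1
            inferInstance
        exact hSC.hasProjectiveDimensionLT_X₃_iff j hproj
      rw [hset]
      exact ih (LinearMap.ker f) hpcK

lemma lt_top_iff_exists_lt_natCast (x : WithBot ℕ∞) : x < ⊤ ↔ ∃ n : ℕ, x < n := by
  constructor
  · intro h
    induction x with
    | bot => exact ⟨0, WithBot.bot_lt_coe _⟩
    | coe e =>
      induction e with
      | top => exact absurd h (lt_irrefl _)
      | coe m =>
        refine ⟨m + 1, ?_⟩
        rw [Nat.cast_add, Nat.cast_one, ENat.WithBot.lt_add_one_iff]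
        rfl
  · rintro ⟨n, hn⟩
    exact lt_of_lt_of_le hn le_top

theorem upperSemicontinuous_pd (M : Type u) [AddCommGroup M] [Module B M] [Module A M]
    [IsScalarTower A B M] [Module.Flat A M] (hpc : PCMod B (ModuleCat.of B M)) :
    UpperSemicontinuous fun P : PrimeSpectrum B =>
      projectiveDimension (ModuleCat.of (Fp A P) ((Fp A P) ⊗[B] M)) := by
  rw [upperSemicontinuous_iff_isOpen_preimage]
  intro y
  have hn : ∀ n : ℕ, IsOpen ((fun P : PrimeSpectrum B =>
      projectiveDimension (ModuleCat.of (Fp A P) ((Fp A P) ⊗[B] M))) ⁻¹' Set.Iio (n : WithBot ℕ∞)) := by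
    intro n
    have := isOpen_pdlt (A := A) n M hpc
    convert this using 1
    ext P
    simp only [Set.mem_preimage, Set.mem_Iio, Set.mem_ofPred_eq]
    exact projectiveDimension_lt_iff
  induction y with
  | bot =>
    convert isOpen_empty
    ext P
    simp
  | coe e =>
    induction e with
    | top =>
      have : ((fun P : PrimeSpectrum B =>
          projectiveDimension (ModuleCat.of (Fp A P) ((Fp A P) ⊗[B] M))) ⁻¹'
            Set.Iio ((⊤ : ℕ∞) : WithBot ℕ∞)) =
          ⋃ n : ℕ, ((fun P : PrimeSpectrum B =>
          projectiveDimension (ModuleCat.of (Fp A P) ((Fp A P) ⊗[B] M))) ⁻¹'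
            Set.Iio (n : WithBot ℕ∞)) := by
        ext P
        simp only [Set.mem_preimage, Set.mem_Iio, Set.mem_iUnion]
        exact lt_top_iff_exists_lt_natCast _
      rw [this]
      exact isOpen_iUnion hn
    | coe m => exact hn m

end Groth.Agent.Lib.helper3.PdSemi
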