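import Mathlib
import Groth.Agent.Lib.Helper24.QuasiFiniteSplit
import Groth.Agent.Lib.Helper24.QuasiFiniteLocal
/-!
# Helper library (helper3): a quasi-finite domain over a henselian local ring, with a prime over the
closed point, is finite and local.
-/

set_option autoImplicit false
universe u
open IsLocalRing Function

namespace Groth.Agent.Lib.helper3.HensFinite

theorem henselianLocalRing_of_isAdicComplete (A : Type u) [CommRing A] [IsLocalRing A]
    [IsAdicComplete (maximalIdeal A) A] : HenselianLocalRing A where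
  is_henselian f hf a₀ h₁ h₂ :=
    HenselianRing.is_henselian (I := maximalIdeal A) f hf a₀ h₁ (h₂.map _)

theorem eq_one_of_isIdempotentElem_of_ne_zero {S : Type u} [CommRing S] [IsDomain S] (e : S)
    (he : IsIdempotentElem e) (h0 : e ≠ 0) : e = 1 := by
  rcases IsIdempotentElem.iff_eq_zero_or_one.mp he with h | h
  · exact absurd h h0
  · exact h

theorem finite_of_quasiFiniteAt (A : Type u) [CommRing A] [HenselianLocalRing A] (S : Type u)
    [CommRing S] [IsDomain S] [Algebra A S] [Algebra.FiniteType A S] (q : Ideal S) [q.IsPrime]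
    [q.LiesOver (maximalIdeal A)] [Algebra.QuasiFiniteAt A q] : Module.Finite A S := by
  obtain ⟨e, he, heq, hfin⟩ :=
    Groth.Agent.Lib.Helper24.QuasiFiniteSplit.exists_idempotent_of_quasiFiniteAt (R := A) q
  have he1 : e = 1 := eq_one_of_isIdempotentElem_of_ne_zero e he
    (fun h => heq (h ▸ q.zero_mem))
  subst he1
  have hbot : Ideal.span ({1 - 1} : Set S) = ⊥ := by
    rw [sub_self]; exact Ideal.span_singleton_eq_bot.mpr rfl
  let E : (S ⧸ Ideal.span ({1 - 1} : Set S)) ≃ₐ[A] S :=
    (Ideal.quotientEquivAlgOfEq A hbot).trans (AlgEquiv.quotientBot A S)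
  exact Module.Finite.equiv E.toLinearEquiv

theorem isLocalRing_of_finite (A : Type u) [CommRing A] [HenselianLocalRing A] (S : Type u)
    [CommRing S] [IsDomain S] [Algebra A S] [Module.Finite A S] : IsLocalRing S := by
  obtain ⟨n, hn⟩ := Ideal.exists_maximal S
  obtain ⟨ε, hε, hεn, hdiv⟩ :=
    Groth.Agent.Lib.Helper24.QuasiFiniteLocal.exists_idempotent_local A S n
  have hε1 : ε = 1 := eq_one_of_isIdempotentElem_of_ne_zero ε hε
    (fun h => hεn (h ▸ n.zero_mem))
  subst hε1
  have hunit : ∀ s : S, s ∉ n → IsUnit s := by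
    intro s hs
    obtain ⟨d, hd⟩ := hdiv s hs
    exact IsUnit.of_mul_eq_one d hd
  refine IsLocalRing.of_unique_max_ideal ⟨n, hn, ?_⟩
  intro m hm
  by_contra hne
  have hnle : ¬ m ≤ n := fun hle => hne (hm.eq_of_le hn.ne_top hle)
  obtain ⟨s, hsm, hsn⟩ := Set.not_subset.mp hnle
  exact hm.ne_top (Ideal.eq_top_of_isUnit_mem m hsm (hunit s hsn))

end Groth.Agent.Lib.helper3.HensFinite
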