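import Mathlib
import Groth.Agent.Lib.Helper15.NilFlat

/-!
# Maps that are isomorphisms modulo `I` with flat target induce isomorphisms of completions (helper3)
-/

set_option autoImplicit false
set_option linter.style.haveILetI false
set_option linter.unusedSectionVars false
universe u

open TensorProduct Groth.Agent.Lib.helper15.NilFlat

namespace Groth.Agent.Lib.helper3.CplIsoFlat

variable {R : Type u} [CommRing R] (I : Ideal R) {P M : Type u} [AddCommGroup P] [Module R P]
  [AddCommGroup M] [Module R M]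

theorem exists_lTensor_subtype_eq (J : Ideal R) (K : Submodule R M) (x : M) (hx : x ∈ J • K) :
    ∃ w : J ⊗[R] K, mu J M (LinearMap.lTensor J K.subtype w) = x := by
  refine Submodule.smul_induction_on hx ?_ ?_
  · intro a ha y hy
    exact ⟨(⟨a, ha⟩ : J) ⊗ₜ (⟨y, hy⟩ : K), rfl⟩
  · rintro x y ⟨t, rfl⟩ ⟨s, rfl⟩
    exact ⟨t + s, by rw [map_add, map_add]⟩

theorem mu_lTensor_subtype_mem (J : Ideal R) (K : Submodule R M) (w : J ⊗[R] K) :
    mu J M (LinearMap.lTensor J K.subtype w) ∈ J • K := by
  rw [mu_lTensor]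
  exact subtype_mu_mem J K w

variable [Module.Flat R M] (f : P →ₗ[R] M)

theorem mem_pow_smul_of_map_mem
    (ha : ∀ m : M, ∃ p : P, m - f p ∈ I • (⊤ : Submodule R M))
    (hb : ∀ p : P, f p ∈ I • (⊤ : Submodule R M) → p ∈ I • (⊤ : Submodule R P))
    (n : ℕ) (p : P) (hp : f p ∈ I ^ n • (⊤ : Submodule R M)) :
    p ∈ I ^ n • (⊤ : Submodule R P) := by
  induction n generalizing p with
  | zero =>
    rw [pow_zero, Ideal.one_eq_top, Submodule.top_smul]
    exact Submodule.mem_top
  | succ n ih =>
    have hp' : f p ∈ I ^ n • (⊤ : Submodule R M) :=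
      Submodule.smul_mono_left (Ideal.pow_le_pow_right (Nat.le_succ n)) hp
    have hpn := ih p hp'
    obtain ⟨z, hz⟩ := exists_mu_eq (I ^ n) p hpn
    set z' := LinearMap.lTensor (I ^ n : Ideal R) f z with hz'
    have hmuz' : mu (I ^ n) M z' = f p := by rw [hz', mu_lTensor, hz]
    -- the equivalence mod `I`
    have hle : I • (⊤ : Submodule R P) ≤ (I • (⊤ : Submodule R M)).comap f :=
      Submodule.smul_top_le_comap_smul_top I f
    let fq : (P ⧸ I • (⊤ : Submodule R P)) →ₗ[R] (M ⧸ I • (⊤ : Submodule R M)) :=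
      Submodule.mapQ _ _ f hle
    have hfq : Function.Bijective fq := by
      constructor
      · rw [injective_iff_map_eq_zero]
        intro x hx
        obtain ⟨x, rfl⟩ := Submodule.Quotient.mk_surjective _ x
        rw [Submodule.mapQ_apply, Submodule.Quotient.mk_eq_zero] at hx
        exact (Submodule.Quotient.mk_eq_zero _).mpr (hb x hx)
      · intro y
        obtain ⟨y, rfl⟩ := Submodule.Quotient.mk_surjective _ y
        obtain ⟨x, hx⟩ := ha y
        refine ⟨Submodule.Quotient.mk x, ?_⟩
        rw [Submodule.mapQ_apply]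
        exact ((Submodule.Quotient.eq _).mpr hx).symm
    let fe := LinearEquiv.ofBijective fq hfq
    -- `z'` comes from `I^n ⊗ IM`
    have h1 : mu (I ^ n) M z' ∈ I ^ n • (I • (⊤ : Submodule R M)) := by
      rw [hmuz', ← Submodule.mul_smul, ← pow_succ]
      exact hp
    obtain ⟨w, hw⟩ := exists_lTensor_subtype_eq (I ^ n) (I • (⊤ : Submodule R M)) _ h1
    have h2 : LinearMap.lTensor (I ^ n : Ideal R) (I • (⊤ : Submodule R M)).subtype w = z' :=
      mu_injective_of_flat (I ^ n) M hw
    have h3 : LinearMap.lTensor (I ^ n : Ideal R) (I • (⊤ : Submodule R M)).mkQ z' = 0 := by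
      rw [← h2, ← LinearMap.comp_apply, ← LinearMap.lTensor_comp]
      have : (I • (⊤ : Submodule R M)).mkQ ∘ₗ (I • (⊤ : Submodule R M)).subtype = 0 := by
        ext x
        simp
      rw [this, LinearMap.lTensor_zero, LinearMap.zero_apply]
    have hcomm : fq ∘ₗ (I • (⊤ : Submodule R P)).mkQ = (I • (⊤ : Submodule R M)).mkQ ∘ₗ f := by
      ext x
      rfl
    have h4 : LinearMap.lTensor (I ^ n : Ideal R) fq
        (LinearMap.lTensor (I ^ n : Ideal R) (I • (⊤ : Submodule R P)).mkQ z) = 0 := by
      rw [← LinearMap.comp_apply, ← LinearMap.lTensor_comp, hcomm, LinearMap.lTensor_comp,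
        LinearMap.comp_apply]
      exact h3
    have h5 : LinearMap.lTensor (I ^ n : Ideal R) (I • (⊤ : Submodule R P)).mkQ z = 0 := by
      have hinj : Function.Injective (LinearMap.lTensor (I ^ n : Ideal R) fq) :=
        (LinearEquiv.lTensor (I ^ n : Ideal R) fe).injective
      exact hinj (h4.trans (map_zero _).symm)
    have hex := lTensor_exact (I ^ n : Ideal R)
      (LinearMap.exact_subtype_mkQ (I • (⊤ : Submodule R P))) (Submodule.mkQ_surjective _)
    obtain ⟨w', hw'⟩ := (hex z).mp h5
    have h6 := mu_lTensor_subtype_mem (I ^ n) (I • (⊤ : Submodule R P)) w'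
    rw [hw', hz, ← Submodule.mul_smul, ← pow_succ] at h6
    exact h6

theorem map_injective
    (ha : ∀ m : M, ∃ p : P, m - f p ∈ I • (⊤ : Submodule R M))
    (hb : ∀ p : P, f p ∈ I • (⊤ : Submodule R M) → p ∈ I • (⊤ : Submodule R P)) :
    Function.Injective (AdicCompletion.map I f) := by
  rw [injective_iff_map_eq_zero]
  intro x hx
  refine AdicCompletion.ext (fun n => ?_)
  obtain ⟨p, hp⟩ := Submodule.Quotient.mk_surjective _ (x.val n)
  have h1 : (AdicCompletion.map I f x).val n = 0 := by rw [hx]; rfl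
  rw [AdicCompletion.map_val_apply, ← hp, LinearMap.reduceModIdeal_apply,
    Submodule.Quotient.mk_eq_zero] at h1
  have h2 := mem_pow_smul_of_map_mem I f ha hb n p h1
  rw [← hp]
  exact (Submodule.Quotient.mk_eq_zero _).mpr h2

theorem map_surjective
    (ha : ∀ m : M, ∃ p : P, m - f p ∈ I • (⊤ : Submodule R M)) :
    Function.Surjective (AdicCompletion.map I f) := by
  apply AdicCompletion.map_surjective_of_mkQ_comp_surjective
  intro y
  obtain ⟨m, rfl⟩ := Submodule.Quotient.mk_surjective _ y
  obtain ⟨p, hp⟩ := ha m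
  refine ⟨p, ?_⟩
  exact ((Submodule.Quotient.eq _).mpr hp).symm

theorem map_bijective
    (ha : ∀ m : M, ∃ p : P, m - f p ∈ I • (⊤ : Submodule R M))
    (hb : ∀ p : P, f p ∈ I • (⊤ : Submodule R M) → p ∈ I • (⊤ : Submodule R P)) :
    Function.Bijective (AdicCompletion.map I f) :=
  ⟨map_injective I f ha hb, map_surjective I f ha⟩

end Groth.Agent.Lib.helper3.CplIsoFlat
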