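import Mathlib

/-!
# The Eilenberg swindle (helper3)

`exists_prod_free_equiv_free`: for a projective module `P` over a commutative ring `A` there is an
index type `β` (same universe) with `P × (β →₀ A) ≃ₗ[A] (β →₀ A)`.
-/

set_option autoImplicit false
set_option linter.style.haveILetI false
set_option linter.unusedSectionVars false
universe u

namespace Groth.Agent.Lib.helper3.Swindle

variable {A : Type u} [CommRing A]

/-- `ℕ →₀ (P × Q) ≃ (ℕ →₀ P) × (ℕ →₀ Q)`. -/
noncomputable def finsuppProdSplit (ι : Type*) (P Q : Type u) [AddCommGroup P] [Module A P]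
    [AddCommGroup Q] [Module A Q] : (ι →₀ (P × Q)) ≃ₗ[A] (ι →₀ P) × (ι →₀ Q) :=
  LinearEquiv.ofLinearMap
    (LinearMap.prod (Finsupp.mapRange.linearMap (LinearMap.fst A P Q))
      (Finsupp.mapRange.linearMap (LinearMap.snd A P Q)))
    (LinearMap.coprod (Finsupp.mapRange.linearMap (LinearMap.inl A P Q))
      (Finsupp.mapRange.linearMap (LinearMap.inr A P Q)))
    (by
      apply LinearMap.ext
      rintro ⟨x, y⟩
      apply Prod.ext
      · ext i
        simp
      · ext i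
        simp)
    (by
      apply LinearMap.ext
      intro x
      ext i
      · simp
      · simp)

/-- the shift `P × (ℕ →₀ P) ≃ (ℕ →₀ P)`. -/
noncomputable def shift (P : Type u) [AddCommGroup P] [Module A P] :
    (P × (ℕ →₀ P)) ≃ₗ[A] (ℕ →₀ P) :=
  (LinearEquiv.prodComm A P (ℕ →₀ P)) ≪≫ₗ
    (LinearEquiv.prodCongr (LinearEquiv.refl A (ℕ →₀ P))
      (Finsupp.uniqueLinearEquiv A P (PUnit.unit : PUnit.{1})).symm) ≪≫ₗ
    (Finsupp.sumFinsuppLEquivProdFinsupp A (M := P) (α := ℕ) (β := PUnit.{1})).symm ≪≫ₗ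
    (Finsupp.domLCongr Equiv.natSumPUnitEquivNat.{0})

theorem exists_prod_free_equiv_free (P : Type u) [AddCommGroup P] [Module A P]
    [Module.Projective A P] :
    ∃ β : Type u, Nonempty ((P × (β →₀ A)) ≃ₗ[A] (β →₀ A)) := by
  obtain ⟨s, hs⟩ := (Module.projective_def' (R := A) (P := P)).mp inferInstance
  let G := P →₀ A
  let π : G →ₗ[A] P := Finsupp.linearCombination A id
  have hπs : ∀ x, π (s x) = x := fun x => LinearMap.congr_fun hs x
  let Q := LinearMap.ker π
  -- `G ≃ P × Q`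
  let e₁ : G ≃ₗ[A] P × Q :=
    LinearEquiv.ofLinearMap
      (LinearMap.prod π (LinearMap.codRestrict Q (LinearMap.id - s ∘ₗ π) (by
        intro g
        rw [LinearMap.mem_ker, LinearMap.sub_apply, map_sub, LinearMap.comp_apply, hπs,
          LinearMap.id_apply, sub_self])))
      (LinearMap.coprod s Q.subtype)
      (by
        apply LinearMap.ext
        rintro ⟨p, q, hq⟩
        have hq' : π q = 0 := hq
        apply Prod.ext
        · simp [hπs, hq']
        · apply Subtype.ext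
          simp [hπs, hq'])
      (by
        apply LinearMap.ext
        intro g
        simp)
  let H := ℕ →₀ P
  let K := ℕ →₀ Q
  let e₂ : (ℕ →₀ G) ≃ₗ[A] H × K :=
    (Finsupp.mapRange.linearEquiv e₁) ≪≫ₗ finsuppProdSplit ℕ P Q
  let e₃ : (P × (ℕ →₀ G)) ≃ₗ[A] (ℕ →₀ G) :=
    (LinearEquiv.prodCongr (LinearEquiv.refl A P) e₂) ≪≫ₗ
      (LinearEquiv.prodAssoc A P H K).symm ≪≫ₗ
      (LinearEquiv.prodCongr (shift P) (LinearEquiv.refl A K)) ≪≫ₗ e₂.symm
  let e₄ : (ℕ →₀ G) ≃ₗ[A] ((ℕ × P) →₀ A) := (Finsupp.curryLinearEquiv A).symm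
  exact ⟨ℕ × P, ⟨(LinearEquiv.prodCongr (LinearEquiv.refl A P) e₄.symm) ≪≫ₗ e₃ ≪≫ₗ e₄⟩⟩

end Groth.Agent.Lib.helper3.Swindle
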