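import Mathlib
import Groth.Agent.Lib.Helper3.Swindle
import Groth.Agent.Lib.Helper3.CplIsoFlat
import Groth.Agent.S1197

/-!
# Completion of a flat module with projective reduction is a retract of a completed free module
(helper3; used by S1198)
-/

set_option autoImplicit false
set_option linter.style.haveILetI false
set_option linter.unusedSectionVars false
universe u

open TensorProduct

namespace Groth.Agent.Lib.helper3.CplProj

section Gen

variable {R : Type u} [CommRing R] {M N : Type u} [AddCommGroup M] [Module R M]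
  [AddCommGroup N] [Module R N]

theorem flat_prod [Module.Flat R M] [Module.Flat R N] : Module.Flat R (M × N) := by
  rw [Module.Flat.iff_lTensor_preserves_injective_linearMap]
  intro P Q _ _ _ _ f hf
  have h : (TensorProduct.prodLeft R R M N Q).toLinearMap ∘ₗ f.lTensor (M × N) =
      (LinearMap.prodMap (f.lTensor M) (f.lTensor N)) ∘ₗ
        (TensorProduct.prodLeft R R M N P).toLinearMap := by
    refine TensorProduct.ext' (fun x y => ?_)
    obtain ⟨x1, x2⟩ := x
    simp
  have h1 : Function.Injective ((LinearMap.prodMap (f.lTensor M) (f.lTensor N)) ∘ₗ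
        (TensorProduct.prodLeft R R M N P).toLinearMap) := by
    rw [LinearMap.coe_comp]
    refine Function.Injective.comp ?_ (LinearEquiv.injective _)
    exact Function.Injective.prodMap
      (Module.Flat.lTensor_preserves_injective_linearMap f hf)
      (Module.Flat.lTensor_preserves_injective_linearMap f hf)
  rw [← h, LinearMap.coe_comp] at h1
  exact Function.Injective.of_comp h1

theorem isMittagLeffler_of_retract {N P : Type u} [AddCommGroup N] [Module R N]
    [AddCommGroup P] [Module R P]
    (hN : CAlg.IsMittagLeffler R N) (i : P →ₗ[R] N) (r : N →ₗ[R] P)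
    (h : r ∘ₗ i = LinearMap.id) : CAlg.IsMittagLeffler R P := by
  intro ι Q _ _
  have nat : ∀ z, TensorProduct.piRightHom R R N Q (i.rTensor (∀ j, Q j) z) =
      fun j => i.rTensor (Q j) (TensorProduct.piRightHom R R P Q z j) := by
    intro z
    induction z using TensorProduct.induction_on with
    | zero => simp; rfl
    | tmul x y => simp
    | add a b ha hb =>
      rw [map_add, map_add, ha, hb]
      funext j
      simp
  rw [injective_iff_map_eq_zero]
  intro z hz
  have h1 : i.rTensor _ z = 0 := by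
    apply hN ι Q
    rw [nat, hz, map_zero]
    funext j
    simp
  have h2 : r.rTensor _ (i.rTensor _ z) = z := by
    rw [← LinearMap.comp_apply, ← LinearMap.rTensor_comp, h, LinearMap.rTensor_id]
    rfl
  rw [← h2, h1, map_zero]

variable (I : Ideal R)

theorem mem_smul_top_finsupp {β : Type u} (x : β →₀ R) (h : ∀ b, x b ∈ I) :
    x ∈ I • (⊤ : Submodule R (β →₀ R)) := by
  classical
  rw [← Finsupp.sum_single x]
  refine Submodule.sum_mem _ (fun b _ => ?_)
  have : Finsupp.single b (x b) = x b • Finsupp.single b (1 : R) := by simp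
  rw [this]
  exact Submodule.smul_mem_smul (h b) Submodule.mem_top

theorem mem_smul_top_prod (z : M × N) (h1 : z.1 ∈ I • (⊤ : Submodule R M))
    (h2 : z.2 ∈ I • (⊤ : Submodule R N)) : z ∈ I • (⊤ : Submodule R (M × N)) := by
  have e : z = LinearMap.inl R M N z.1 + LinearMap.inr R M N z.2 := by
    ext <;> simp
  rw [e]
  exact Submodule.add_mem _ (Submodule.smul_top_le_comap_smul_top I (LinearMap.inl R M N) h1)
    (Submodule.smul_top_le_comap_smul_top I (LinearMap.inr R M N) h2)

theorem map_eq_zero_of_mem_smul_top {T : Type u} [AddCommGroup T] [Module R T]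
    (hT : ∀ a ∈ I, ∀ t : T, a • t = 0) (g : N →ₗ[R] T) (z : N)
    (hz : z ∈ I • (⊤ : Submodule R N)) : g z = 0 := by
  have : I • (⊤ : Submodule R N) ≤ LinearMap.ker g := by
    rw [Submodule.smul_le]
    intro a ha n _
    rw [LinearMap.mem_ker, map_smul, hT a ha]
  exact this hz

end Gen

section Main

variable (R : Type u) [CommRing R] (I : Ideal R)
    (M : Type u) [AddCommGroup M] [Module R M] [Module.Flat R M]
    [Module.Projective (R ⧸ I) (M ⧸ (I • ⊤ : Submodule R M))]

theorem exists_retract : ∃ (β : Type u)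
    (i : AdicCompletion I M →ₗ[R] AdicCompletion I (β →₀ R))
    (r : AdicCompletion I (β →₀ R) →ₗ[R] AdicCompletion I M), r ∘ₗ i = LinearMap.id := by
  classical
  obtain ⟨β, ⟨e⟩⟩ := Swindle.exists_prod_free_equiv_free (A := R ⧸ I)
    (M ⧸ (I • ⊤ : Submodule R M))
  let ρF : (β →₀ R) →ₗ[R] (β →₀ R ⧸ I) := Finsupp.mapRange.linearMap (Algebra.linearMap R (R ⧸ I))
  let ρ : (M × (β →₀ R)) →ₗ[R] ((M ⧸ (I • ⊤ : Submodule R M)) × (β →₀ R ⧸ I)) :=
    LinearMap.prodMap (Submodule.mkQ _) ρF
  have hρF_surj : Function.Surjective ρF :=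
    Finsupp.mapRange_surjective _ (map_zero _) Ideal.Quotient.mk_surjective
  have hρ_surj : Function.Surjective ρ :=
    Function.Surjective.prodMap (Submodule.mkQ_surjective _) hρF_surj
  have hkerF : ∀ x : β →₀ R, ρF x = 0 → x ∈ I • (⊤ : Submodule R (β →₀ R)) := by
    intro x hx
    refine mem_smul_top_finsupp I x (fun b => ?_)
    have := DFunLike.congr_fun hx b
    simpa [ρF, Ideal.Quotient.eq_zero_iff_mem] using this
  have hker1 : ∀ z : M × (β →₀ R), ρ z = 0 → z ∈ I • (⊤ : Submodule R (M × (β →₀ R))) := by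
    intro z hz
    have h1 : Submodule.mkQ (I • ⊤ : Submodule R M) z.1 = 0 := congrArg Prod.fst hz
    have h2 : ρF z.2 = 0 := congrArg Prod.snd hz
    refine mem_smul_top_prod I z ?_ (hkerF _ h2)
    simpa using h1
  have htors : ∀ a ∈ I, ∀ t : (M ⧸ (I • ⊤ : Submodule R M)) × (β →₀ R ⧸ I), a • t = 0 := by
    intro a ha t
    rw [← algebraMap_smul (R ⧸ I) a t, Ideal.Quotient.algebraMap_eq,
      Ideal.Quotient.eq_zero_iff_mem.mpr ha, zero_smul]
  have hker2 : ∀ z : M × (β →₀ R), z ∈ I • (⊤ : Submodule R (M × (β →₀ R))) → ρ z = 0 :=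
    fun z hz => map_eq_zero_of_mem_smul_top I htors ρ z hz
  choose m' hm' using fun b : β => hρ_surj (e.symm (Finsupp.single b 1))
  let f : (β →₀ R) →ₗ[R] M × (β →₀ R) := Finsupp.linearCombination R m'
  have hf : ∀ x, ρ (f x) = e.symm (ρF x) := by
    have : ρ ∘ₗ f = (e.symm.restrictScalars R).toLinearMap ∘ₗ ρF := by
      refine Finsupp.lhom_ext' (fun b => LinearMap.ext_ring ?_)
      simp [f, Finsupp.linearCombination_single, hm', ρF]
    intro x
    exact LinearMap.congr_fun this x
  have ha : ∀ z : M × (β →₀ R), ∃ x : β →₀ R,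
      z - f x ∈ I • (⊤ : Submodule R (M × (β →₀ R))) := by
    intro z
    obtain ⟨x, hx⟩ := hρF_surj (e (ρ z))
    refine ⟨x, hker1 _ ?_⟩
    rw [map_sub, hf, hx, e.symm_apply_apply, sub_self]
  have hb : ∀ x : β →₀ R, f x ∈ I • (⊤ : Submodule R (M × (β →₀ R))) →
      x ∈ I • (⊤ : Submodule R (β →₀ R)) := by
    intro x hx
    have := hker2 _ hx
    rw [hf] at this
    exact hkerF x (e.symm.map_eq_zero_iff.mp this)
  haveI : Module.Flat R (M × (β →₀ R)) := flat_prod
  have hbij := CplIsoFlat.map_bijective I f ha hb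
  let E : AdicCompletion I (β →₀ R) ≃ₗ[R] AdicCompletion I (M × (β →₀ R)) :=
    LinearEquiv.ofBijective ((AdicCompletion.map I f).restrictScalars R) hbij
  refine ⟨β, E.symm.toLinearMap ∘ₗ (AdicCompletion.map I (LinearMap.inl R M (β →₀ R))).restrictScalars R,
    (AdicCompletion.map I (LinearMap.fst R M (β →₀ R))).restrictScalars R ∘ₗ E.toLinearMap, ?_⟩
  refine LinearMap.ext (fun x => ?_)
  simp only [LinearMap.comp_apply, LinearEquiv.coe_coe, LinearEquiv.apply_symm_apply,
    LinearMap.restrictScalars_apply, LinearMap.id_apply]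
  rw [AdicCompletion.map_comp_apply, LinearMap.fst_comp_inl, AdicCompletion.map_id]
  rfl

theorem flat_and_mittagLeffler [IsNoetherianRing R] [IsAdicComplete I R] :
    Module.Flat R (AdicCompletion I M) ∧ CAlg.IsMittagLeffler R (AdicCompletion I M) := by
  obtain ⟨β, i, r, h⟩ := exists_retract R I M
  obtain ⟨h1, h2⟩ := Groth.Agent.S1197.result R I β
  exact ⟨Module.Flat.of_retract i r h, isMittagLeffler_of_retract h2 i r h⟩

end Main

end Groth.Agent.Lib.helper3.CplProj
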