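import Mathlib
import Groth.Prelude.Def_Found

/-!
# Countable generation of finite modules over finite type algebras (helper3; used by S1203)
-/

set_option autoImplicit false
set_option linter.style.haveILetI false
set_option linter.unusedSectionVars false
universe u

open scoped Pointwise

namespace Groth.Agent.Lib.helper3.CgProj

variable {R S : Type u} [CommRing R] [CommRing S] [Algebra R S]

theorem exists_countable_span_of_finiteType [Algebra.FiniteType R S] :
    ∃ s : Set S, s.Countable ∧ Submodule.span R s = ⊤ := by
  obtain ⟨n, f, hf⟩ := Algebra.FiniteType.iff_quotient_mvPolynomial''.mp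
    (inferInstance : Algebra.FiniteType R S)
  refine ⟨f '' Set.range (MvPolynomial.basisMonomials (Fin n) R), ?_, ?_⟩
  · exact (Set.countable_range _).image _
  · have : (f : MvPolynomial (Fin n) R →ₗ[R] S) '' Set.range (MvPolynomial.basisMonomials (Fin n) R)
        = f '' Set.range (MvPolynomial.basisMonomials (Fin n) R) := rfl
    rw [← this, ← Submodule.map_span, Module.Basis.span_eq, Submodule.map_top,
      LinearMap.range_eq_top]
    exact hf

theorem isCountablyGenerated_of_finite_of_finiteType [Algebra.FiniteType R S]
    (N : Type u) [AddCommGroup N] [Module S N] [Module R N] [IsScalarTower R S N]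
    [Module.Finite S N] : CAlg.IsCountablyGenerated R N := by
  obtain ⟨s, hs, hs'⟩ := exists_countable_span_of_finiteType (R := R) (S := S)
  obtain ⟨t, ht⟩ := (Module.finite_def.mp (inferInstance : Module.Finite S N))
  refine ⟨s • (t : Set N), ?_, ?_⟩
  · exact Set.Countable.image2 hs t.countable_toSet _
  · rw [Submodule.span_smul_of_span_eq_top hs', ht]
    rfl

theorem isCountablyGenerated_top (N : Type u) [AddCommGroup N] [Module R N]
    (h : CAlg.IsCountablyGenerated R N) :
    CAlg.IsCountablyGenerated R (⊤ : Submodule R N) := by
  obtain ⟨s, hs, hs'⟩ := h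
  refine ⟨(Submodule.topEquiv (R := R) (M := N)).symm '' s, hs.image _, ?_⟩
  have : ((Submodule.topEquiv (R := R) (M := N)).symm : N →ₗ[R] (⊤ : Submodule R N)) '' s =
      (Submodule.topEquiv (R := R) (M := N)).symm '' s := rfl
  rw [← this, ← Submodule.map_span, hs', Submodule.map_top, LinearMap.range_eq_top]
  exact (Submodule.topEquiv (R := R) (M := N)).symm.surjective

theorem isInternal_top (N : Type u) [AddCommGroup N] [Module R N]
    [DecidableEq PUnit.{u+1}] :
    DirectSum.IsInternal (fun _ : PUnit.{u+1} => (⊤ : Submodule R N)) := by
  apply DirectSum.isInternal_submodule_of_iSupIndep_of_iSup_eq_top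
  · exact iSupIndep_subsingleton _
  · exact ciSup_const

end Groth.Agent.Lib.helper3.CgProj
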