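import Mathlib

/-!
# Universal injectivity of the completion map (helper3)

* `lTensor_injective_of_forall_fg`: a linear map is universally injective as soon as it stays
  injective after tensoring with every *finite* module.
* `rTensor_of_injective`: `R → S` Noetherian, `I ⊆ R`, `N` a finite `S`-module, `Q` a finite
  `R`-module such that `IS + q ≠ S` for every associated prime `q` of the `S`-module `N ⊗_R Q`.
  Then `N ⊗ Q → N^ ⊗ Q` is injective.
-/

set_option autoImplicit false
set_option linter.style.haveILetI false
set_option linter.unusedSectionVars false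
universe u

open TensorProduct

namespace Groth.Agent.Lib.helper3.UnivInjCompl

section General

variable {R : Type u} [CommRing R] {A B : Type u} [AddCommGroup A] [Module R A]
  [AddCommGroup B] [Module R B]

theorem lTensor_injective_of_forall_fg (f : A →ₗ[R] B)
    (h : ∀ (Q : Type u) [AddCommGroup Q] [Module R Q], Module.Finite R Q →
      Function.Injective (f.lTensor Q))
    (Q : Type u) [AddCommGroup Q] [Module R Q] : Function.Injective (f.lTensor Q) := by
  rw [injective_iff_map_eq_zero]
  intro x hx
  obtain ⟨P, hP, t, rfl⟩ := TensorProduct.exists_of_fg x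
  have h1 : LinearMap.rTensor B P.subtype (f.lTensor P t) = 0 := by
    rw [← hx, ← LinearMap.comp_apply, ← LinearMap.comp_apply, LinearMap.rTensor_comp_lTensor,
      LinearMap.lTensor_comp_rTensor]
  obtain ⟨Q', hPQ, hQ', h2⟩ := TensorProduct.eq_zero_of_fg_of_subtype_eq_zero hP h1
  have h3 : f.lTensor Q' (LinearMap.rTensor A (Submodule.inclusion hPQ) t) = 0 := by
    rw [← h2, ← LinearMap.comp_apply, ← LinearMap.comp_apply, LinearMap.rTensor_comp_lTensor,
      LinearMap.lTensor_comp_rTensor]
  have h4 := (injective_iff_map_eq_zero _).mp (h Q' (Module.Finite.iff_fg.mpr hQ')) _ h3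
  have h5 : LinearMap.rTensor A P.subtype t =
      LinearMap.rTensor A Q'.subtype (LinearMap.rTensor A (Submodule.inclusion hPQ) t) := by
    rw [← LinearMap.comp_apply, ← LinearMap.rTensor_comp]
    rfl
  rw [h5, h4, map_zero]

end General

section MapLinear

variable {R : Type u} [CommRing R] (I : Ideal R) {M N : Type u} [AddCommGroup M] [Module R M]
  [AddCommGroup N] [Module R N]

theorem map_add_apply (f g : M →ₗ[R] N) (x : AdicCompletion I M) :
    AdicCompletion.map I (f + g) x = AdicCompletion.map I f x + AdicCompletion.map I g x := by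
  apply AdicCompletion.ext
  intro n
  rw [AdicCompletion.val_add_apply, AdicCompletion.map_val_apply, AdicCompletion.map_val_apply,
    AdicCompletion.map_val_apply]
  obtain ⟨y, hy⟩ := Submodule.Quotient.mk_surjective _ (x.val n)
  rw [← hy, LinearMap.reduceModIdeal_apply, LinearMap.reduceModIdeal_apply,
    LinearMap.reduceModIdeal_apply, LinearMap.add_apply, Submodule.Quotient.mk_add]

theorem map_smul_apply (r : R) (f : M →ₗ[R] N) (x : AdicCompletion I M) :
    AdicCompletion.map I (r • f) x = r • AdicCompletion.map I f x := by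
  apply AdicCompletion.ext
  intro n
  rw [AdicCompletion.val_smul_apply, AdicCompletion.map_val_apply, AdicCompletion.map_val_apply]
  obtain ⟨y, hy⟩ := Submodule.Quotient.mk_surjective _ (x.val n)
  rw [← hy, LinearMap.reduceModIdeal_apply, LinearMap.reduceModIdeal_apply,
    LinearMap.smul_apply, Submodule.Quotient.mk_smul]

end MapLinear

section Main

variable {R : Type u} [CommRing R] (I : Ideal R)
  (N : Type u) [AddCommGroup N] [Module R N] (Q : Type u) [AddCommGroup Q] [Module R Q]

/-- The comparison map `N^ ⊗ Q → (N ⊗ Q)^`. -/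
noncomputable def cmp : AdicCompletion I N ⊗[R] Q →ₗ[R] AdicCompletion I (N ⊗[R] Q) :=
  TensorProduct.lift (LinearMap.mk₂ R
    (fun x q => AdicCompletion.map I ((TensorProduct.mk R N Q).flip q) x)
    (fun x y q => map_add _ x y)
    (fun r x q => by
      show AdicCompletion.map I ((TensorProduct.mk R N Q).flip q) (r • x) = _
      exact LinearMap.map_smul_of_tower _ r x)
    (fun x q q' => by
      show AdicCompletion.map I ((TensorProduct.mk R N Q).flip (q + q')) x = _
      rw [map_add, map_add_apply])
    (fun r x q => by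
      show AdicCompletion.map I ((TensorProduct.mk R N Q).flip (r • q)) x = _
      rw [map_smul, map_smul_apply]))

theorem cmp_tmul (x : AdicCompletion I N) (q : Q) :
    cmp I N Q (x ⊗ₜ[R] q) = AdicCompletion.map I ((TensorProduct.mk R N Q).flip q) x := rfl

theorem cmp_comp_rTensor (y : N ⊗[R] Q) :
    cmp I N Q ((AdicCompletion.of I N).rTensor Q y) = AdicCompletion.of I (N ⊗[R] Q) y := by
  induction y using TensorProduct.induction_on with
  | zero => simp
  | tmul n q =>
    rw [LinearMap.rTensor_tmul, cmp_tmul, AdicCompletion.map_of]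
    rfl
  | add a b ha hb => rw [map_add, map_add, ha, hb, map_add]

theorem mem_iInf_of_of_eq_zero {M : Type u} [AddCommGroup M] [Module R M] (y : M)
    (hy : AdicCompletion.of I M y = 0) : ∀ n : ℕ, y ∈ (I ^ n • ⊤ : Submodule R M) := by
  intro n
  have h1 : (AdicCompletion.of I M y).val n = 0 := by rw [hy]; rfl
  rw [AdicCompletion.of_apply] at h1
  exact (Submodule.Quotient.mk_eq_zero _).mp h1

end Main

section Noeth

variable {R S : Type u} [CommRing R] [CommRing S] [Algebra R S] [IsNoetherianRing S]
  (I : Ideal R) (N : Type u) [AddCommGroup N] [Module S N] [Module R N] [IsScalarTower R S N]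
  [Module.Finite S N] (Q : Type u) [AddCommGroup Q] [Module R Q] [Module.Finite R Q]

theorem rTensor_of_injective
    (h : ∀ q ∈ associatedPrimes S (N ⊗[R] Q), I.map (algebraMap R S) ⊔ q ≠ ⊤) :
    Function.Injective ((AdicCompletion.of I N).rTensor Q) := by
  rw [injective_iff_map_eq_zero]
  intro y hy
  have h1 : AdicCompletion.of I (N ⊗[R] Q) y = 0 := by
    rw [← cmp_comp_rTensor, hy, map_zero]
  have h2 := mem_iInf_of_of_eq_zero I y h1
  have h3 : y ∈ ⨅ n : ℕ, (I.map (algebraMap R S)) ^ n • (⊤ : Submodule S (N ⊗[R] Q)) := by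
    rw [Submodule.mem_iInf]
    intro n
    rw [← Ideal.map_pow]
    have e := Ideal.smul_restrictScalars (I ^ n) (⊤ : Submodule S (N ⊗[R] Q))
    rw [Submodule.restrictScalars_top] at e
    have : y ∈ ((I ^ n).map (algebraMap R S) • (⊤ : Submodule S (N ⊗[R] Q))).restrictScalars R := by
      rw [e]
      exact h2 n
    exact this
  haveI : Module.Finite S (N ⊗[R] Q) :=
    Module.Finite.equiv (TensorProduct.AlgebraTensorModule.cancelBaseChange R S S N Q)
  obtain ⟨⟨r, hr⟩, hry⟩ := (Ideal.mem_iInf_smul_pow_eq_bot_iff _ y).mp h3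
  by_contra hy0
  obtain ⟨P, hP, hle⟩ := exists_le_isAssociatedPrime_of_isNoetherianRing S y hy0
  apply h P hP
  rw [Ideal.eq_top_iff_one]
  have h4 : (1 - r) ∈ P := by
    apply hle
    rw [Submodule.mem_colon_singleton, sub_smul, one_smul, hry, sub_self]
    exact Submodule.zero_mem _
  have : (1 : S) = r + (1 - r) := by ring
  rw [this]
  exact Ideal.add_mem _ (Ideal.mem_sup_left hr) (Ideal.mem_sup_right h4)

end Noeth

end Groth.Agent.Lib.helper3.UnivInjCompl
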