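import Mathlib
import Groth.Agent.Lib.Helper3.LocCrit6

/-!
# Regular sequences on the closed fibre lift (abstract local version of EGA IV 11.3.8)
-/

set_option autoImplicit false
set_option linter.style.haveILetI false
set_option linter.unusedSectionVars false

universe u

open IsLocalRing RingTheory.Sequence
open scoped Pointwise

namespace Groth.Agent.Lib.helper3.RegFib

section Iso

variable {S : Type*} [CommRing S] {N : Type*} [AddCommGroup N] [Module S N]

/-- `(N/bN)/I(N/bN) ≃ (N/IN)/b(N/IN)`. -/
noncomputable def quotSwap (I : Ideal S) (b : S) :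
    (QuotSMulTop b N ⧸ (I • ⊤ : Submodule S (QuotSMulTop b N))) ≃ₗ[S]
      QuotSMulTop b (N ⧸ (I • ⊤ : Submodule S N)) :=
  Submodule.quotEquivOfEq _ _ (by
      rw [Submodule.map_smul'', Submodule.map_top, Submodule.range_mkQ]) ≪≫ₗ
    Submodule.quotientQuotientEquivQuotientSup (b • ⊤ : Submodule S N) (I • ⊤) ≪≫ₗ
    Submodule.quotEquivOfEq _ _ (sup_comm _ _) ≪≫ₗ
    (Submodule.quotientQuotientEquivQuotientSup (I • ⊤ : Submodule S N) (b • ⊤)).symm ≪≫ₗ
    Submodule.quotEquivOfEq _ _ (by
      rw [Submodule.map_pointwise_smul, Submodule.map_top, Submodule.range_mkQ])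

end Iso

section AL

variable {R S : Type u} [CommRing R] [CommRing S] [IsLocalRing R] [IsLocalRing S] [Algebra R S]
  [IsLocalHom (algebraMap R S)]

/-- One step: `b` regular on `N/𝔪_R N` implies `b` regular on `N` and `N/bN` flat over `R`. -/
theorem step (hS : ∃ (S₀ : Type u) (_ : CommRing S₀) (_ : Algebra R S₀) (_ : Algebra S₀ S)
      (_ : IsScalarTower R S₀ S) (T : Submonoid S₀),
      Algebra.FinitePresentation R S₀ ∧ IsLocalization T S)
    (N : Type u) [AddCommGroup N] [Module S N] [Module R N] [IsScalarTower R S N]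
    [Module.FinitePresentation S N] [Module.Flat R N] (b : S)
    (hb : IsSMulRegular (N ⧸ ((maximalIdeal R).map (algebraMap R S) • (⊤ : Submodule S N))) b) :
    IsSMulRegular N b ∧ Module.Flat R (QuotSMulTop b N) := by
  set I := (maximalIdeal R).map (algebraMap R S) with hI
  have key := Groth.Agent.Lib.helper3.LocCrit.injective_and_flat_coker (R := R) (S := S) hS
    (LinearMap.lsmul S N b) (by
      intro x hx
      rw [← Submodule.Quotient.mk_eq_zero] at hx ⊢
      have : b • (Submodule.Quotient.mk x : N ⧸ (I • ⊤ : Submodule S N)) = b • 0 := by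
        rw [smul_zero, ← Submodule.Quotient.mk_smul]
        exact hx
      exact hb this)
  refine ⟨key.1, ?_⟩
  have hr : LinearMap.range (LinearMap.lsmul S N b) = (b • ⊤ : Submodule S N) := by
    ext x
    simp [Submodule.mem_smul_pointwise_iff_exists]
  have e : (N ⧸ LinearMap.range (LinearMap.lsmul S N b)) ≃ₗ[S] QuotSMulTop b N :=
    Submodule.quotEquivOfEq _ _ hr
  haveI := key.2
  exact Module.Flat.of_linearEquiv (e.restrictScalars R).symm

theorem fp_quotSMulTop (N : Type u) [AddCommGroup N] [Module S N] [Module.FinitePresentation S N]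
    (b : S) : Module.FinitePresentation S (QuotSMulTop b N) := by
  refine Module.finitePresentation_of_surjective (Submodule.mkQ (b • ⊤ : Submodule S N))
    (Submodule.mkQ_surjective _) ?_
  rw [Submodule.ker_mkQ]
  have h : (b • ⊤ : Submodule S N) = Submodule.map (LinearMap.lsmul S N b) ⊤ := by
    ext x
    simp [Submodule.mem_smul_pointwise_iff_exists]
  rw [h]
  exact Submodule.FG.map _ Module.Finite.fg_top

/-- **Abstract local form of EGA IV 11.3.8.** -/
theorem AL (hS : ∃ (S₀ : Type u) (_ : CommRing S₀) (_ : Algebra R S₀) (_ : Algebra S₀ S)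
      (_ : IsScalarTower R S₀ S) (T : Submonoid S₀),
      Algebra.FinitePresentation R S₀ ∧ IsLocalization T S) (g : List S) :
    ∀ (N : Type u) [AddCommGroup N] [Module S N] [Module R N] [IsScalarTower R S N]
      [Module.FinitePresentation S N] [Module.Flat R N],
      IsWeaklyRegular (N ⧸ ((maximalIdeal R).map (algebraMap R S) • (⊤ : Submodule S N))) g →
      IsWeaklyRegular N g ∧
        ∀ i, Module.Flat R (N ⧸ (Ideal.ofList (g.take i) • (⊤ : Submodule S N))) := by
  induction g with
  | nil =>
    intro N _ _ _ _ _ _ _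
    refine ⟨IsWeaklyRegular.nil S N, fun i => ?_⟩
    have h0 : (Ideal.ofList (([] : List S).take i) • (⊤ : Submodule S N)) = ⊥ := by
      simp
    exact Module.Flat.of_linearEquiv
      ((Submodule.quotEquivOfEqBot _ h0).restrictScalars R)
  | cons b g ih =>
    intro N _ _ _ _ _ _ h
    rw [isWeaklyRegular_cons_iff] at h
    obtain ⟨hb, hg⟩ := h
    obtain ⟨hb', hflat⟩ := step hS N b hb
    haveI := hflat
    haveI := fp_quotSMulTop N b
    have hg' : IsWeaklyRegular (QuotSMulTop b N ⧸ ((maximalIdeal R).map (algebraMap R S) •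
        (⊤ : Submodule S (QuotSMulTop b N)))) g :=
      ((quotSwap ((maximalIdeal R).map (algebraMap R S)) b).isWeaklyRegular_congr g).2 hg
    obtain ⟨h1, h2⟩ := ih (QuotSMulTop b N) hg'
    refine ⟨(isWeaklyRegular_cons_iff N b g).2 ⟨hb', h1⟩, fun i => ?_⟩
    cases i with
    | zero =>
      have h0 : (Ideal.ofList ((b :: g).take 0) • (⊤ : Submodule S N)) = ⊥ := by
        simp
      exact Module.Flat.of_linearEquiv
        ((Submodule.quotEquivOfEqBot _ h0).restrictScalars R)
    | succ j =>
      rw [List.take_succ_cons]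
      haveI := h2 j
      exact Module.Flat.of_linearEquiv
        ((Submodule.quotOfListConsSMulTopEquivQuotSMulTopInner N b (g.take j)).restrictScalars R)

end AL

end Groth.Agent.Lib.helper3.RegFib
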