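import Mathlib
import Groth.Agent.Lib.Helper3.RegFib1

/-!
# Ring-level setup for EGA IV 11.3.8: `B_q` is essentially of finite presentation over `A_p`
-/

set_option autoImplicit false
set_option linter.style.haveILetI false
set_option linter.unusedSectionVars false

universe u

open TensorProduct IsLocalRing
open scoped Pointwise

namespace Groth.Agent.Lib.helper3.RegFib

section Setup

variable {A B : Type u} [CommRing A] [CommRing B] [Algebra A B] (q : Ideal B) [q.IsPrime]

/-- `p = q ∩ A`. -/
abbrev pp : Ideal A := q.comap (algebraMap A B)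

/-- `A_p`. -/
abbrev Rp : Type u := Localization.AtPrime (pp (A := A) q)

/-- `B_q`. -/
abbrev Sq : Type u := Localization.AtPrime q

/-- `A_p ⊗_A B`. -/
abbrev S0 : Type u := Rp (A := A) q ⊗[A] B

attribute [local instance] Algebra.TensorProduct.rightAlgebra

theorem units_aux (y : Algebra.algebraMapSubmonoid B (pp (A := A) q).primeCompl) :
    IsUnit (algebraMap B (Sq q) y) := by
  obtain ⟨y, a, ha, rfl⟩ := y
  apply IsLocalization.map_units (Sq q) (⟨algebraMap A B a, ?_⟩ : q.primeCompl)
  exact ha

/-- The canonical map `A_p ⊗_A B → B_q`. -/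
noncomputable def phi0 : S0 (A := A) q →+* Sq q :=
  IsLocalization.lift (M := Algebra.algebraMapSubmonoid B (pp (A := A) q).primeCompl)
    (g := algebraMap B (Sq q)) (units_aux q)

theorem phi0_algebraMap (b : B) : phi0 (A := A) q (algebraMap B (S0 (A := A) q) b) =
    algebraMap B (Sq q) b :=
  IsLocalization.lift_eq _ _

noncomputable instance algS0Sq : Algebra (S0 (A := A) q) (Sq q) := (phi0 (A := A) q).toAlgebra

instance towerB : IsScalarTower B (S0 (A := A) q) (Sq q) :=
  IsScalarTower.of_algebraMap_eq (fun b => (phi0_algebraMap q b).symm)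

noncomputable instance algRpSq : Algebra (Rp (A := A) q) (Sq q) :=
  ((phi0 (A := A) q).comp (algebraMap (Rp (A := A) q) (S0 (A := A) q))).toAlgebra

instance towerR : IsScalarTower (Rp (A := A) q) (S0 (A := A) q) (Sq q) := by
  refine ⟨fun r x y => ?_⟩
  rw [Algebra.smul_def, Algebra.smul_def, Algebra.smul_def x y, Algebra.smul_def r x,
    map_mul, mul_assoc]
  rfl

theorem algebraMap_Rp_Sq (a : A) : algebraMap (Rp (A := A) q) (Sq q) (algebraMap A _ a) =
    algebraMap A (Sq q) a := by
  show phi0 (A := A) q (algebraMap (Rp (A := A) q) (S0 (A := A) q) (algebraMap A _ a)) = _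
  rw [← IsScalarTower.algebraMap_apply A (Rp (A := A) q) (S0 (A := A) q),
    IsScalarTower.algebraMap_apply A B (S0 (A := A) q), phi0_algebraMap,
    ← IsScalarTower.algebraMap_apply]

instance towerA : IsScalarTower A (Rp (A := A) q) (Sq q) :=
  IsScalarTower.of_algebraMap_eq (fun a => (algebraMap_Rp_Sq q a).symm)

theorem le_aux : Algebra.algebraMapSubmonoid B (pp (A := A) q).primeCompl ≤ q.primeCompl := by
  rintro _ ⟨a, ha, rfl⟩
  exact ha

instance isLoc_Sq : IsLocalization (q.primeCompl.map (algebraMap B (S0 (A := A) q))) (Sq q) :=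
  IsLocalization.isLocalization_of_submonoid_le (S0 (A := A) q) (Sq q)
    (Algebra.algebraMapSubmonoid B (pp (A := A) q).primeCompl) q.primeCompl (le_aux q)

instance isLocalHom_Rp_Sq : IsLocalHom (algebraMap (Rp (A := A) q) (Sq q)) := by
  refine ⟨fun x hx => ?_⟩
  obtain ⟨a, s, rfl⟩ := IsLocalization.exists_mk'_eq (pp (A := A) q).primeCompl x
  have h1 : algebraMap (Rp (A := A) q) (Sq q) (IsLocalization.mk' _ a s) *
      algebraMap A (Sq q) s = algebraMap A (Sq q) a := by
    rw [← algebraMap_Rp_Sq q, ← algebraMap_Rp_Sq q, ← map_mul, IsLocalization.mk'_spec]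
  have h2 : IsUnit (algebraMap A (Sq q) a) := by
    rw [← h1]
    refine hx.mul ?_
    rw [IsScalarTower.algebraMap_apply A B (Sq q)]
    exact IsLocalization.map_units (Sq q) (⟨algebraMap A B s, s.2⟩ : q.primeCompl)
  rw [IsScalarTower.algebraMap_apply A B (Sq q), IsLocalization.AtPrime.isUnit_to_map_iff _ q] at h2
  have ha : a ∈ (pp (A := A) q).primeCompl := h2
  exact (IsLocalization.AtPrime.isUnit_mk'_iff (Rp (A := A) q) (pp (A := A) q) a s).2 ha

theorem hS_Sq [Algebra.FinitePresentation A B] :
    ∃ (S₀ : Type u) (_ : CommRing S₀) (_ : Algebra (Rp (A := A) q) S₀) (_ : Algebra S₀ (Sq q))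
      (_ : IsScalarTower (Rp (A := A) q) S₀ (Sq q)) (T : Submonoid S₀),
      Algebra.FinitePresentation (Rp (A := A) q) S₀ ∧ IsLocalization T (Sq q) :=
  ⟨S0 (A := A) q, inferInstance, inferInstance, inferInstance, inferInstance,
    q.primeCompl.map (algebraMap B (S0 (A := A) q)), inferInstance, inferInstance⟩

end Setup

end Groth.Agent.Lib.helper3.RegFib
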