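import Mathlib
import Groth.Agent.Lib.Helper3.RegFib2

/-!
# Module-level setup for EGA IV 11.3.8
-/

set_option autoImplicit false
set_option linter.style.haveILetI false
set_option linter.unusedSectionVars false

universe u

open TensorProduct IsLocalRing
open scoped Pointwise

namespace Groth.Agent.Lib.helper3.RegFib

section Mod

variable {A B : Type u} [CommRing A] [CommRing B] [Algebra A B] (q : Ideal B) [q.IsPrime]
  (M : Type u) [AddCommGroup M] [Module B M] [Module A M] [IsScalarTower A B M]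

/-- `M_q`. -/
abbrev Nq : Type u := LocalizedModule q.primeCompl M

noncomputable instance modRpNq : Module (Rp (A := A) q) (Nq q M) :=
  Module.compHom (Nq q M) (algebraMap (Rp (A := A) q) (Sq q))

instance towerRSN : IsScalarTower (Rp (A := A) q) (Sq q) (Nq q M) :=
  IsScalarTower.of_algebraMap_smul (fun _ _ => rfl)

instance towerARN : IsScalarTower A (Rp (A := A) q) (Nq q M) :=
  IsScalarTower.of_algebraMap_smul (fun a x => by
    show algebraMap (Rp (A := A) q) (Sq q) (algebraMap A _ a) • x = a • x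
    rw [algebraMap_Rp_Sq, algebraMap_smul])

theorem flat_Rp (hflat : Module.Flat A (Nq q M)) : Module.Flat (Rp (A := A) q) (Nq q M) :=
  (Module.flat_iff_of_isLocalization (Rp (A := A) q) (pp (A := A) q).primeCompl (Nq q M)).2 hflat

/-- the residue field `κ(p)`. -/
abbrev kp : Type u := (pp (A := A) q).ResidueField

/-- `M_q ⊗_A κ(p)`. -/
abbrev Qq : Type u := Nq q M ⊗[A] kp (A := A) q

/-- `n ↦ n ⊗ 1`, `B_q`-linear. -/
noncomputable def piQ : Nq q M →ₗ[Sq q] Qq (A := A) q M :=
  (TensorProduct.AlgebraTensorModule.mk A (Sq q) (Nq q M) (kp (A := A) q)).flip 1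

theorem piQ_apply (n : Nq q M) : piQ (A := A) q M n = n ⊗ₜ[A] (1 : kp (A := A) q) := rfl

theorem piQ_surjective : Function.Surjective (piQ (A := A) q M) := by
  intro x
  induction x using TensorProduct.induction_on with
  | zero => exact ⟨0, map_zero _⟩
  | tmul n c =>
    obtain ⟨r, rfl⟩ := IsLocalRing.residue_surjective c
    refine ⟨r • n, ?_⟩
    rw [piQ_apply]
    haveI := IsLocalization.tensorProduct_compatibleSMul (pp (A := A) q).primeCompl
      (Rp (A := A) q) (Nq q M) (kp (A := A) q)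
    rw [TensorProduct.smul_tmul]
    congr 1
    rw [Algebra.smul_def, mul_one, IsLocalRing.ResidueField.algebraMap_eq]
  | add x y hx hy =>
    obtain ⟨a, rfl⟩ := hx
    obtain ⟨b, rfl⟩ := hy
    exact ⟨a + b, map_add _ _ _⟩

theorem ker_piQ : LinearMap.ker (piQ (A := A) q M) =
    (maximalIdeal (Rp (A := A) q)).map (algebraMap (Rp (A := A) q) (Sq q)) •
      (⊤ : Submodule (Sq q) (Nq q M)) := by
  ext n
  rw [LinearMap.mem_ker, piQ_apply, ← Groth.Agent.Lib.helper3.LocCrit.smul_top_iff]
  let e1 := IsLocalization.moduleTensorEquiv (pp (A := A) q).primeCompl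
      (Rp (A := A) q) (Nq q M) (kp (A := A) q)
  let e2 := TensorProduct.tensorQuotEquivQuotSMul (Nq q M) (maximalIdeal (Rp (A := A) q))
  have h1 : e1 (n ⊗ₜ[Rp (A := A) q] (1 : kp (A := A) q)) = n ⊗ₜ[A] (1 : kp (A := A) q) := rfl
  have h2 : e2 (n ⊗ₜ[Rp (A := A) q] (1 : kp (A := A) q)) = Submodule.Quotient.mk n := by
    have := TensorProduct.tensorQuotEquivQuotSMul_tmul_mk (M := Nq q M)
      (maximalIdeal (Rp (A := A) q)) n 1
    rw [one_smul] at this
    exact this
  rw [← h1, LinearEquiv.map_eq_zero_iff]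
  have h3 : n ⊗ₜ[Rp (A := A) q] (1 : kp (A := A) q) = 0 ↔
      e2 (n ⊗ₜ[Rp (A := A) q] (1 : kp (A := A) q)) = 0 := (LinearEquiv.map_eq_zero_iff e2).symm
  rw [h3, h2, Submodule.Quotient.mk_eq_zero]

end Mod

end Groth.Agent.Lib.helper3.RegFib
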