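import Mathlib
import Groth.Agent.Lib.Helper3.RegFib3

/-!
# EGA IV 11.3.8: fibrewise regular sequences lift, with flat quotients
-/

set_option autoImplicit false
set_option linter.style.haveILetI false
set_option linter.unusedSectionVars false

universe u

open TensorProduct IsLocalRing RingTheory.Sequence
open scoped Pointwise

namespace Groth.Agent.Lib.helper3.RegFib

section Main

variable {A B : Type u} [CommRing A] [CommRing B] [Algebra A B] (q : Ideal B) [q.IsPrime]
  (M : Type u) [AddCommGroup M] [Module B M] [Module A M] [IsScalarTower A B M]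

/-- `(M ⊗ κ(p))_q ≃ M_q ⊗ κ(p)`, `B`-linear. -/
noncomputable def eTQ :
    LocalizedModule q.primeCompl (M ⊗[A] kp (A := A) q) ≃ₗ[B] Qq (A := A) q M :=
  IsLocalizedModule.linearEquiv q.primeCompl
    (LocalizedModule.mkLinearMap q.primeCompl (M ⊗[A] kp (A := A) q))
    (AlgebraTensorModule.rTensor A (kp (A := A) q) (LocalizedModule.mkLinearMap q.primeCompl M))

/-- `M_q / 𝔪_p M_q ≃ M_q ⊗ κ(p)`, `B_q`-linear. -/
noncomputable def eNQ :
    (Nq q M ⧸ ((maximalIdeal (Rp (A := A) q)).map (algebraMap (Rp (A := A) q) (Sq q)) •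
      (⊤ : Submodule (Sq q) (Nq q M)))) ≃ₗ[Sq q] Qq (A := A) q M :=
  (Submodule.quotEquivOfEq _ _ (ker_piQ (A := A) q M).symm) ≪≫ₗ
    (piQ (A := A) q M).quotKerEquivOfSurjective (piQ_surjective q M)

theorem localized_ofList_smul_top (l : List B) :
    (Ideal.span {b | b ∈ l} • (⊤ : Submodule B M)).localized q.primeCompl =
      Ideal.ofList (l.map (algebraMap B (Sq q))) • (⊤ : Submodule (Sq q) (Nq q M)) := by
  rw [Submodule.localized, Submodule.localized'_smul, Submodule.localized'_top]
  congr 1
  rw [Submodule.localized'_span, Ideal.ofList]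
  congr 1
  ext y
  simp only [Set.mem_image, Set.mem_ofPred_eq, List.mem_map]
  rfl

theorem main [Algebra.FinitePresentation A B] [Module.FinitePresentation B M] (g : List B)
    (hflat : Module.Flat A (LocalizedModule q.primeCompl M))
    (hreg : RingTheory.Sequence.IsRegular
      (LocalizedModule q.primeCompl (M ⊗[A] (q.comap (algebraMap A B)).ResidueField)) g) :
    RingTheory.Sequence.IsRegular (LocalizedModule q.primeCompl M) g ∧
      ∀ i ≤ g.length, Module.Flat A
        (LocalizedModule q.primeCompl (M ⧸ (Ideal.span {b | b ∈ g.take i} • (⊤ : Submodule B M)))) := by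
  haveI := flat_Rp (A := A) q M hflat
  -- weak regularity on `Q`
  have hQ : IsWeaklyRegular (Qq (A := A) q M) g :=
    ((eTQ (A := A) q M).isWeaklyRegular_congr g).1 hreg.toIsWeaklyRegular
  have hQ' : IsWeaklyRegular (Qq (A := A) q M) (g.map (algebraMap B (Sq q))) :=
    (isWeaklyRegular_map_algebraMap_iff (Sq q) (Qq (A := A) q M) g).2 hQ
  have hN0 := ((eNQ (A := A) q M).isWeaklyRegular_congr (g.map (algebraMap B (Sq q)))).2 hQ'
  obtain ⟨h1, h2⟩ := AL (R := Rp (A := A) q) (S := Sq q) (hS_Sq (A := A) q)
    (g.map (algebraMap B (Sq q))) (Nq q M) hN0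
  refine ⟨⟨(isWeaklyRegular_map_algebraMap_iff (Sq q) (Nq q M) g).1 h1, ?_⟩, ?_⟩
  · -- nontriviality
    intro htop
    apply hreg.top_ne_smul
    have hπ : Submodule.map ((piQ (A := A) q M).restrictScalars B) ⊤ = ⊤ := by
      rw [Submodule.map_top, LinearMap.range_eq_top]
      exact piQ_surjective q M
    have hQtop : (⊤ : Submodule B (Qq (A := A) q M)) = Ideal.ofList g • ⊤ := by
      conv_lhs => rw [← hπ, htop, Submodule.map_smul'', hπ]
    have he : Submodule.map ((eTQ (A := A) q M).symm.toLinearMap) ⊤ = ⊤ := by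
      rw [Submodule.map_top, LinearMap.range_eq_top]
      exact (eTQ (A := A) q M).symm.surjective
    conv_lhs => rw [← he, hQtop, Submodule.map_smul'', he]
  · intro i _
    have hloc := localized_ofList_smul_top q M (g.take i)
    have h2i := h2 i
    rw [← List.map_take, ← hloc] at h2i
    haveI : Module.Flat A (Nq q M ⧸ (Ideal.span {b | b ∈ g.take i} •
        (⊤ : Submodule B M)).localized q.primeCompl) :=
      (Module.flat_iff_of_isLocalization (Rp (A := A) q) (pp (A := A) q).primeCompl _).1 h2i
    exact Module.Flat.of_linearEquiv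
      ((localizedQuotientEquiv q.primeCompl (Ideal.span {b | b ∈ g.take i} •
        (⊤ : Submodule B M))).restrictScalars A).symm

end Main

end Groth.Agent.Lib.helper3.RegFib
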