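import Mathlib
import Groth.Agent.Lib.Helper3.RegFib4

/-!
# Weakly regular version of EGA IV 11.3.8 and the single element case
-/

set_option autoImplicit false
set_option linter.style.haveILetI false
set_option linter.unusedSectionVars false

universe u

open TensorProduct IsLocalRing RingTheory.Sequence
open scoped Pointwise

namespace Groth.Agent.Lib.helper3.RegFib

section Main

variable {A B : Type u} [CommRing A] [CommRing B] [Algebra A B] (q : Ideal B) [q.IsPrime]
  (M : Type u) [AddCommGroup M] [Module B M] [Module A M] [IsScalarTower A B M]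

theorem main_weak [Algebra.FinitePresentation A B] [Module.FinitePresentation B M] (g : List B)
    (hflat : Module.Flat A (LocalizedModule q.primeCompl M))
    (hreg : RingTheory.Sequence.IsWeaklyRegular
      (LocalizedModule q.primeCompl (M ⊗[A] (q.comap (algebraMap A B)).ResidueField)) g) :
    RingTheory.Sequence.IsWeaklyRegular (LocalizedModule q.primeCompl M) g ∧
      ∀ i, Module.Flat A
        (LocalizedModule q.primeCompl (M ⧸ (Ideal.span {b | b ∈ g.take i} • (⊤ : Submodule B M)))) := by
  haveI := flat_Rp (A := A) q M hflat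
  have hQ : IsWeaklyRegular (Qq (A := A) q M) g :=
    ((eTQ (A := A) q M).isWeaklyRegular_congr g).1 hreg
  have hQ' : IsWeaklyRegular (Qq (A := A) q M) (g.map (algebraMap B (Sq q))) :=
    (isWeaklyRegular_map_algebraMap_iff (Sq q) (Qq (A := A) q M) g).2 hQ
  have hN0 := ((eNQ (A := A) q M).isWeaklyRegular_congr (g.map (algebraMap B (Sq q)))).2 hQ'
  obtain ⟨h1, h2⟩ := AL (R := Rp (A := A) q) (S := Sq q) (hS_Sq (A := A) q)
    (g.map (algebraMap B (Sq q))) (Nq q M) hN0
  refine ⟨(isWeaklyRegular_map_algebraMap_iff (Sq q) (Nq q M) g).1 h1, ?_⟩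
  intro i
  have hloc := localized_ofList_smul_top q M (g.take i)
  have h2i := h2 i
  rw [← List.map_take, ← hloc] at h2i
  haveI : Module.Flat A (Nq q M ⧸ (Ideal.span {b | b ∈ g.take i} •
      (⊤ : Submodule B M)).localized q.primeCompl) :=
    (Module.flat_iff_of_isLocalization (Rp (A := A) q) (pp (A := A) q).primeCompl _).1 h2i
  exact Module.Flat.of_linearEquiv
    ((localizedQuotientEquiv q.primeCompl (Ideal.span {b | b ∈ g.take i} •
      (⊤ : Submodule B M))).restrictScalars A).symm

/-- Single element: a fibrewise nonzerodivisor at `q` is a nonzerodivisor on `M_q`. -/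
theorem isSMulRegular_localized [Algebra.FinitePresentation A B] [Module.FinitePresentation B M]
    (a : B) (hflat : Module.Flat A (LocalizedModule q.primeCompl M))
    (ha : IsSMulRegular
      (LocalizedModule q.primeCompl (M ⊗[A] (q.comap (algebraMap A B)).ResidueField)) a) :
    IsSMulRegular (LocalizedModule q.primeCompl M) a :=
  (isWeaklyRegular_singleton_iff _ a).1
    (main_weak q M [a] hflat ((isWeaklyRegular_singleton_iff _ a).2 ha)).1

end Main

end Groth.Agent.Lib.helper3.RegFib
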