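import Mathlib
import Groth.Prelude.Def_FlatCA
import Groth.Agent.Lib.Helper3.RegFib1
import Groth.Agent.Lib.Helper25.TensorChase

/-!
# Universal injectivity of fibrewise-regular elements (helper3)

`R → S` local, essentially of finite presentation, `N` a finitely presented `S`-module flat over `R`.
Every `s ∈ S` acting injectively on the closed fibre module of `N` acts universally injectively
(over `R`) on `N`, and the localization of `N` at all such elements is universally injective.
-/

set_option autoImplicit false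
set_option linter.style.haveILetI false
set_option linter.unusedSectionVars false
universe u

open TensorProduct IsLocalRing
open scoped Pointwise

namespace Groth.Agent.Lib.helper3.UnivInjFib

section General

variable {R S : Type u} [CommRing R] [CommRing S] [Algebra R S]

/-- kernel of `S → κ ⊗_R S` when `R → κ` is surjective. -/
theorem mem_map_of_one_tmul_eq_zero (κ : Type u) [CommRing κ] [Algebra R κ]
    (hs : Function.Surjective (algebraMap R κ)) (s : S) (h : (1 : κ) ⊗ₜ[R] s = 0) :
    s ∈ (RingHom.ker (algebraMap R κ)).map (algebraMap R S) := by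
  set I := RingHom.ker (algebraMap R κ) with hI
  let e : (R ⧸ I) ≃ₐ[R] κ :=
    Ideal.quotientKerAlgEquivOfSurjective (f := Algebra.ofId R κ) hs
  let e2 : κ ⊗[R] S ≃ₐ[R] (R ⧸ I) ⊗[R] S :=
    Algebra.TensorProduct.congr e.symm (AlgEquiv.refl : S ≃ₐ[R] S)
  have h2 : e2 ((1 : κ) ⊗ₜ[R] s) = (1 : R ⧸ I) ⊗ₜ[R] s := by
    simp [e2]
  have h3 : (Algebra.TensorProduct.quotIdealMapEquivQuotTensor S I).symm
      ((1 : R ⧸ I) ⊗ₜ[R] s) = Ideal.Quotient.mk _ s := by
    rw [AlgEquiv.symm_apply_eq]
    rfl
  rw [h, map_zero] at h2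
  rw [← h2, map_zero] at h3
  exact Ideal.Quotient.eq_zero_iff_mem.mp h3.symm

/-- `T ⊗_S N = N / J N` for `S → T` surjective with kernel `J`. -/
theorem mem_smul_top_of_one_tmul_eq_zero (T : Type u) [CommRing T] [Algebra S T]
    (hs : Function.Surjective (algebraMap S T))
    (N : Type u) [AddCommGroup N] [Module S N] (x : N) (h : (1 : T) ⊗ₜ[S] x = 0) :
    x ∈ (RingHom.ker (algebraMap S T)) • (⊤ : Submodule S N) := by
  set J := RingHom.ker (algebraMap S T) with hJ
  let e : (S ⧸ J) ≃ₐ[S] T :=
    Ideal.quotientKerAlgEquivOfSurjective (f := Algebra.ofId S T) hs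
  let e2 : T ⊗[S] N ≃ₗ[S] (S ⧸ J) ⊗[S] N := LinearEquiv.rTensor N e.symm.toLinearEquiv
  have h2 : e2 ((1 : T) ⊗ₜ[S] x) = (1 : S ⧸ J) ⊗ₜ[S] x := by
    simp [e2]
  have h3 : TensorProduct.quotTensorEquivQuotSMul N J ((1 : S ⧸ J) ⊗ₜ[S] x) =
      Submodule.Quotient.mk x := by
    have := TensorProduct.quotTensorEquivQuotSMul_mk_tmul (M := N) J 1 x
    rw [one_smul] at this
    exact this
  rw [h, map_zero] at h2
  rw [← h2, map_zero] at h3
  exact (Submodule.Quotient.mk_eq_zero _).mp h3.symm

end General

section Fib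

attribute [local instance] Algebra.TensorProduct.rightAlgebra

variable {R S : Type u} [CommRing R] [CommRing S] [Algebra R S]
  (p : Ideal R) [p.IsMaximal]
  (N : Type u) [AddCommGroup N] [Module S N] [Module R N] [IsScalarTower R S N]

theorem algebraMap_fiber_surjective : Function.Surjective (algebraMap S (p.Fiber S)) := by
  intro t
  induction t using TensorProduct.induction_on with
  | zero => exact ⟨0, map_zero _⟩
  | tmul a s =>
    obtain ⟨r, rfl⟩ := p.algebraMap_residueField_surjective a
    refine ⟨r • s, ?_⟩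
    rw [Algebra.TensorProduct.right_algebraMap_apply, Algebra.algebraMap_eq_smul_one,
      TensorProduct.smul_tmul]
  | add x y hx hy =>
    obtain ⟨a, rfl⟩ := hx
    obtain ⟨b, rfl⟩ := hy
    exact ⟨a + b, map_add _ _ _⟩

theorem ker_algebraMap_fiber :
    RingHom.ker (algebraMap S (p.Fiber S)) = p.map (algebraMap R S) := by
  apply le_antisymm
  · intro s hs
    rw [RingHom.mem_ker, Algebra.TensorProduct.right_algebraMap_apply] at hs
    have := mem_map_of_one_tmul_eq_zero (S := S) p.ResidueField
      p.algebraMap_residueField_surjective s hs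
    rwa [Ideal.ker_algebraMap_residueField] at this
  · rw [Ideal.map_le_iff_le_comap]
    intro r hr
    rw [Ideal.mem_comap, RingHom.mem_ker, Algebra.TensorProduct.right_algebraMap_apply,
      Algebra.algebraMap_eq_smul_one, ← TensorProduct.smul_tmul,
      ← Algebra.algebraMap_eq_smul_one, Ideal.algebraMap_residueField_eq_zero.mpr hr,
      TensorProduct.zero_tmul]

theorem toFiberMod_eq_zero_iff (x : N) :
    FlatCA.toFiberMod p S N x = 0 ↔ x ∈ p.map (algebraMap R S) • (⊤ : Submodule S N) := by
  constructor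
  · intro h
    have := mem_smul_top_of_one_tmul_eq_zero (p.Fiber S) (algebraMap_fiber_surjective p) N x h
    rwa [ker_algebraMap_fiber] at this
  · intro h
    refine Submodule.smul_induction_on h ?_ ?_
    · intro a ha n _
      rw [map_smul]
      show a • ((1 : p.Fiber S) ⊗ₜ[S] n) = 0
      rw [TensorProduct.smul_tmul', Algebra.smul_def, mul_one]
      rw [← ker_algebraMap_fiber, RingHom.mem_ker] at ha
      rw [ha, TensorProduct.zero_tmul]
    · intro x y hx hy
      rw [map_add, hx, hy, add_zero]

theorem isSMulRegular_quot_of_mem_nzd (s : S)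
    (hs : s ∈ nonZeroSMulDivisors S (FlatCA.fiberMod p S N)) :
    IsSMulRegular (N ⧸ (p.map (algebraMap R S) • (⊤ : Submodule S N))) s := by
  intro a b hab
  obtain ⟨x, rfl⟩ := Submodule.Quotient.mk_surjective _ a
  obtain ⟨y, rfl⟩ := Submodule.Quotient.mk_surjective _ b
  simp only at hab
  rw [← Submodule.Quotient.mk_smul, ← Submodule.Quotient.mk_smul, Submodule.Quotient.eq,
    ← smul_sub, ← toFiberMod_eq_zero_iff, map_smul] at hab
  have h0 := (mem_nonZeroSMulDivisors_iff.mp hs) _ hab
  rw [toFiberMod_eq_zero_iff] at h0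
  exact (Submodule.Quotient.eq _).mpr h0

end Fib

section Main

variable {R S : Type u} [CommRing R] [IsLocalRing R] [CommRing S] [IsLocalRing S] [Algebra R S]
  [IsLocalHom (algebraMap R S)]
  (hS : ∃ (S₀ : Type u) (_ : CommRing S₀) (_ : Algebra R S₀) (_ : Algebra S₀ S)
      (_ : IsScalarTower R S₀ S) (T : Submonoid S₀),
      Algebra.FinitePresentation R S₀ ∧ IsLocalization T S)
  (N : Type u) [AddCommGroup N] [Module S N] [Module R N] [IsScalarTower R S N]
  [Module.FinitePresentation S N] [Module.Flat R N]

include hS in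
theorem rTensor_lsmul_injective (s : S) (hs : s ∈ FlatCA.nzdFiber R S N)
    (Q : Type u) [AddCommGroup Q] [Module R Q] :
    Function.Injective (((LinearMap.lsmul S N s).restrictScalars R).rTensor Q) := by
  have hreg := isSMulRegular_quot_of_mem_nzd (maximalIdeal R) N s hs
  obtain ⟨h1, h2⟩ := Groth.Agent.Lib.helper3.RegFib.step hS N s hreg
  haveI : Module.Flat R (N ⧸ (s • ⊤ : Submodule S N)) := h2
  refine Groth.Agent.Lib.helper25.rTensor_injective_of_flat_coker
    (M'' := N ⧸ (s • ⊤ : Submodule S N))
    ((LinearMap.lsmul S N s).restrictScalars R)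
    ((Submodule.mkQ (s • ⊤ : Submodule S N)).restrictScalars R) ?_ ?_ h1 Q
  · intro y
    constructor
    · intro hy
      have : y ∈ (s • ⊤ : Submodule S N) := (Submodule.Quotient.mk_eq_zero _).mp hy
      obtain ⟨x, -, rfl⟩ := (Submodule.mem_smul_pointwise_iff_exists _ _ _).mp this
      exact ⟨x, rfl⟩
    · rintro ⟨x, rfl⟩
      exact (Submodule.Quotient.mk_eq_zero _).mpr
        (Submodule.smul_mem_pointwise_smul _ _ _ Submodule.mem_top)
  · intro y
    obtain ⟨x, rfl⟩ := Submodule.Quotient.mk_surjective _ y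
    exact ⟨x, rfl⟩

include hS in
theorem rTensor_mkLinearMap_injective (Q : Type u) [AddCommGroup Q] [Module R Q] :
    Function.Injective
      (((LocalizedModule.mkLinearMap (FlatCA.nzdFiber R S N) N).restrictScalars R).rTensor Q) := by
  rw [injective_iff_map_eq_zero]
  intro y hy
  have hloc : IsLocalizedModule (FlatCA.nzdFiber R S N)
      (AlgebraTensorModule.rTensor R Q (LocalizedModule.mkLinearMap (FlatCA.nzdFiber R S N) N)) :=
    inferInstance
  have hy' : AlgebraTensorModule.rTensor R Q
      (LocalizedModule.mkLinearMap (FlatCA.nzdFiber R S N) N) y = 0 := hy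
  obtain ⟨⟨s, hs⟩, hsy⟩ := (IsLocalizedModule.eq_zero_iff (FlatCA.nzdFiber R S N) _).mp hy'
  have key : ∀ z : N ⊗[R] Q, ((LinearMap.lsmul S N s).restrictScalars R).rTensor Q z = s • z := by
    intro z
    induction z using TensorProduct.induction_on with
    | zero => simp
    | tmul n q => rfl
    | add a b ha hb => rw [map_add, smul_add, ha, hb]
  have hsy' : ((LinearMap.lsmul S N s).restrictScalars R).rTensor Q y = 0 := by
    rw [key]
    exact hsy
  exact (injective_iff_map_eq_zero _).mp (rTensor_lsmul_injective hS N s hs Q) y hsy'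

end Main

end Groth.Agent.Lib.helper3.UnivInjFib
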