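import Mathlib
import Groth.Prelude.Def_FlatCA
import Groth.Agent.Lib.Helper3.UnivInjFib1
import Groth.Agent.S1193

/-!
# Universal injectivity of flat coverings of the associated points of the closed fibre (helper3)
-/

set_option autoImplicit false
set_option linter.style.haveILetI false
set_option linter.unusedSectionVars false
universe u

open TensorProduct IsLocalRing
open scoped Pointwise

namespace Groth.Agent.Lib.helper3.UnivInjCover

section F

variable {S S' : Type u} [CommRing S] [CommRing S'] [Algebra S S'] [Module.Flat S S']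
  (Sg : Submonoid S)

/-- `P` an `S`-module on which `Sg` acts injectively; every prime of `S` disjoint from `Sg` lies under
a prime of the flat `S`-algebra `S'`. Then `P → S' ⊗_S P` is injective. -/
theorem mk_one_injective (P : Type u) [AddCommGroup P] [Module S P]
    (hSg : ∀ s ∈ Sg, ∀ x : P, s • x = 0 → x = 0)
    (hcov : ∀ q : Ideal S, q.IsPrime → Disjoint (q : Set S) (Sg : Set S) →
      ∃ q' : Ideal S', q'.IsPrime ∧ q ≤ q'.comap (algebraMap S S')) :
    Function.Injective (TensorProduct.mk S S' P 1) := by
  rw [injective_iff_map_eq_zero]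
  intro x hx
  by_contra hx0
  set J : Ideal S := (Submodule.span S {x}).annihilator with hJ
  -- `J` is disjoint from `Sg`
  have hdisj : Disjoint (J : Set S) (Sg : Set S) := by
    rw [Set.disjoint_left]
    intro s hsJ hsSg
    apply hx0
    apply hSg s hsSg
    exact (Submodule.mem_annihilator_span_singleton _ _).mp hsJ
  obtain ⟨q, hqp, hJq, hqSg⟩ := Ideal.exists_le_prime_disjoint J Sg hdisj
  obtain ⟨q', hq'p, hqq'⟩ := hcov q hqp hqSg
  -- the injection `S/J → P`
  let g : (S ⧸ J) →ₗ[S] P := Submodule.liftQ J (LinearMap.toSpanSingleton S P x) (by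
    intro s hs
    rw [LinearMap.mem_ker, LinearMap.toSpanSingleton_apply]
    exact (Submodule.mem_annihilator_span_singleton _ _).mp hs)
  have hg : Function.Injective g := by
    rw [← LinearMap.ker_eq_bot]
    apply Submodule.ker_liftQ_eq_bot
    intro s hs
    rw [LinearMap.mem_ker, LinearMap.toSpanSingleton_apply] at hs
    exact (Submodule.mem_annihilator_span_singleton _ _).mpr hs
  have hg' : Function.Injective (g.lTensor S') := Module.Flat.lTensor_preserves_injective_linearMap g hg
  have h1 : (1 : S') ⊗ₜ[S] (Ideal.Quotient.mk J 1) = 0 := by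
    apply hg'
    rw [map_zero, LinearMap.lTensor_tmul]
    have : g (Ideal.Quotient.mk J 1) = x := by
      show (LinearMap.toSpanSingleton S P x) 1 = x
      rw [LinearMap.toSpanSingleton_apply, one_smul]
    rw [this]
    exact hx
  have h2 : (Ideal.Quotient.mk J 1 : S ⧸ J) ⊗ₜ[S] (1 : S') = 0 := by
    have := congrArg (TensorProduct.comm S S' (S ⧸ J)) h1
    rwa [TensorProduct.comm_tmul, map_zero] at this
  have h3 := Groth.Agent.Lib.helper3.UnivInjFib.mem_smul_top_of_one_tmul_eq_zero (S ⧸ J)
    Ideal.Quotient.mk_surjective S' (1 : S') h2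
  rw [Ideal.Quotient.algebraMap_eq, Ideal.mk_ker] at h3
  have h4 : J • (⊤ : Submodule S S') ≤ q'.restrictScalars S := by
    rw [Submodule.smul_le]
    intro r hr n _
    have : algebraMap S S' r ∈ q' := hqq' (hJq hr)
    show r • n ∈ q'
    rw [Algebra.smul_def]
    exact Ideal.mul_mem_right _ _ this
  exact hq'p.ne_top ((Ideal.eq_top_iff_one _).mpr (h4 h3))

end F

section Main

attribute [local instance] Algebra.TensorProduct.rightAlgebra

variable {R S S' : Type u} [CommRing R] [IsLocalRing R] [CommRing S] [IsLocalRing S] [CommRing S']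
  [Algebra R S] [IsLocalHom (algebraMap R S)] [Algebra S S'] [Algebra R S'] [IsScalarTower R S S']
  (hS : ∃ (S₀ : Type u) (_ : CommRing S₀) (_ : Algebra R S₀) (_ : Algebra S₀ S)
      (_ : IsScalarTower R S₀ S) (T : Submonoid S₀),
      Algebra.FinitePresentation R S₀ ∧ IsLocalization T S)
  [Module.Flat S S']
  (N : Type u) [AddCommGroup N] [Module S N] [Module R N] [IsScalarTower R S N]
  [Module.FinitePresentation S N] [Module.Flat R N]

include hS in
theorem isNoetherianRing_fiber : IsNoetherianRing ((maximalIdeal R).Fiber S) := by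
  obtain ⟨S₀, _, _, _, _, T, hfp, hloc⟩ := hS
  haveI : Algebra.EssFiniteType S₀ S := Algebra.EssFiniteType.of_isLocalization S T
  haveI : Algebra.EssFiniteType R S₀ := inferInstance
  haveI : Algebra.EssFiniteType R S := Algebra.EssFiniteType.comp R S₀ S
  haveI : Algebra.EssFiniteType (maximalIdeal R).ResidueField ((maximalIdeal R).Fiber S) :=
    inferInstance
  exact Algebra.EssFiniteType.isNoetherianRing (maximalIdeal R).ResidueField _

include hS in
theorem rTensor_mk_injective
    (h : ∀ q ∈ associatedPrimes S (FlatCA.fiberMod (maximalIdeal R) S N),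
      ∃ q' : Ideal S', q'.IsPrime ∧ q'.comap (algebraMap S S') = q)
    (Q : Type u) [AddCommGroup Q] [Module R Q] :
    Function.Injective (((TensorProduct.mk S S' N 1).restrictScalars R).rTensor Q) := by
  haveI := isNoetherianRing_fiber (R := R) (S := S) hS
  haveI : Module.Finite ((maximalIdeal R).Fiber S) (FlatCA.fiberMod (maximalIdeal R) S N) :=
    inferInstanceAs (Module.Finite ((maximalIdeal R).Fiber S) (((maximalIdeal R).Fiber S) ⊗[S] N))
  obtain ⟨h93, -, -⟩ := Groth.Agent.S1193.result (R := R) (S := S) N
  set Sg := FlatCA.nzdFiber R S N with hSg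
  have hcov : ∀ q : Ideal S, q.IsPrime → Disjoint (q : Set S) (Sg : Set S) →
      ∃ q' : Ideal S', q'.IsPrime ∧ q ≤ q'.comap (algebraMap S S') := by
    intro q hq hd
    obtain ⟨q₀, hq₀, hle⟩ := (h93 q).mp hd
    obtain ⟨q', hq', hc⟩ := h q₀ hq₀
    exact ⟨q', hq', hc ▸ hle⟩
  -- the localized module
  let P := LocalizedModule Sg N ⊗[R] Q
  have hloc : IsLocalizedModule Sg
      (AlgebraTensorModule.rTensor R Q (LocalizedModule.mkLinearMap Sg N)) := inferInstance
  have hSgP : ∀ s ∈ Sg, ∀ x : P, s • x = 0 → x = 0 := by
    intro s hs x hx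
    have hu := IsLocalizedModule.map_units
      (AlgebraTensorModule.rTensor R Q (LocalizedModule.mkLinearMap Sg N)) ⟨s, hs⟩
    have hinj := ((Module.End.isUnit_iff _).mp hu).injective
    apply hinj
    rw [map_zero]
    exact hx
  have hF := mk_one_injective (S' := S') Sg P hSgP hcov
  rw [injective_iff_map_eq_zero]
  intro y hy
  -- the comparison
  let lam' : S' ⊗[S] N →ₗ[R] S' ⊗[S] LocalizedModule Sg N :=
    ((LocalizedModule.mkLinearMap Sg N).lTensor S').restrictScalars R
  have key : ∀ z : N ⊗[R] Q,
      TensorProduct.mk S S' P 1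
        (((LocalizedModule.mkLinearMap Sg N).restrictScalars R).rTensor Q z) =
      AlgebraTensorModule.assoc R S S S' (LocalizedModule Sg N) Q
        (lam'.rTensor Q ((((TensorProduct.mk S S' N 1).restrictScalars R).rTensor Q) z)) := by
    intro z
    induction z using TensorProduct.induction_on with
    | zero => simp
    | tmul n q => rfl
    | add a b ha hb => simp only [map_add, ha, hb]
  have h1 : ((LocalizedModule.mkLinearMap Sg N).restrictScalars R).rTensor Q y = 0 := by
    apply hF
    rw [key, hy, map_zero, map_zero, map_zero]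
  exact (injective_iff_map_eq_zero _).mp
    (Groth.Agent.Lib.helper3.UnivInjFib.rTensor_mkLinearMap_injective hS N Q) y h1

end Main

end Groth.Agent.Lib.helper3.UnivInjCover
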