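import Mathlib
import Groth.Prelude.Def_FlatCA

/-!
# Fibre rings, fibre modules and zero divisors on localized fibre modules (helper3)
-/

set_option autoImplicit false
set_option linter.style.haveILetI false
set_option linter.unusedSectionVars false
universe u

open TensorProduct IsLocalRing
open scoped Pointwise

namespace Groth.Agent.Lib.helper3.UnivInjGlobal

attribute [local instance] Algebra.TensorProduct.rightAlgebra

section Fiber

variable {R S : Type u} [CommRing R] [CommRing S] [Algebra R S] (p : Ideal R) [p.IsPrime]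

theorem isUnit_algebraMap_fiber (r : R) (hr : r ∉ p) :
    IsUnit (algebraMap R (p.Fiber S) r) := by
  rw [Algebra.TensorProduct.algebraMap_apply]
  have h0 : algebraMap R p.ResidueField r ≠ 0 := by
    rwa [ne_eq, Ideal.algebraMap_residueField_eq_zero]
  have hu : IsUnit (algebraMap R p.ResidueField r) := isUnit_iff_ne_zero.mpr h0
  exact hu.map (Algebra.TensorProduct.includeLeftRingHom (R := R) (A := p.ResidueField) (B := S))

/-- every ideal of the fibre ring is extended from `S`. -/
theorem fiberIdeal_comap (P : Ideal (p.Fiber S)) :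
    FlatCA.fiberIdeal p (P.comap
      (Algebra.TensorProduct.includeRight (R := R) (A := p.ResidueField) (B := S)).toRingHom) = P := by
  apply le_antisymm
  · exact Ideal.map_comap_le
  · intro x hx
    obtain ⟨r, hr, s, hrs⟩ := Ideal.Fiber.exists_smul_eq_one_tmul p x
    have hs : s ∈ P.comap
        (Algebra.TensorProduct.includeRight (R := R) (A := p.ResidueField) (B := S)).toRingHom := by
      rw [Ideal.mem_comap]
      show (1 : p.ResidueField) ⊗ₜ[R] s ∈ P
      rw [← hrs]
      exact Submodule.smul_of_tower_mem P r hx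
    have h1 : (1 : p.ResidueField) ⊗ₜ[R] s ∈ FlatCA.fiberIdeal p (P.comap
        (Algebra.TensorProduct.includeRight (R := R) (A := p.ResidueField) (B := S)).toRingHom) :=
      Ideal.mem_map_of_mem _ hs
    obtain ⟨u, hu⟩ := isUnit_algebraMap_fiber (S := S) p r hr
    have h2 : x = (↑u⁻¹ : p.Fiber S) * ((1 : p.ResidueField) ⊗ₜ[R] s) := by
      rw [← hrs, Algebra.smul_def, ← hu, ← mul_assoc, Units.inv_mul, one_mul]
    rw [h2]
    exact Ideal.mul_mem_left _ _ h1

theorem comap_liesOver (P : Ideal (p.Fiber S)) [P.IsPrime] :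
    (P.comap (Algebra.TensorProduct.includeRight (R := R) (A := p.ResidueField)
      (B := S)).toRingHom).LiesOver p := by
  constructor
  have h1 : P.LiesOver p := inferInstance
  have h2 : P.under R = Ideal.under R (Ideal.comap (Algebra.TensorProduct.includeRight
      (R := R) (A := p.ResidueField) (B := S)).toRingHom P) := by
    rw [Ideal.under_def, Ideal.under_def, Ideal.comap_comap]
    congr 1
    ext r
    simp [Algebra.TensorProduct.algebraMap_apply, Algebra.algebraMap_eq_smul_one,
      TensorProduct.smul_tmul]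
  exact h1.over.trans h2

end Fiber

section MkZero

theorem mk_eq_zero_iff {A : Type u} [CommRing A] (T : Submonoid A) {M : Type u} [AddCommGroup M]
    [Module A M] (m : M) (t : T) :
    LocalizedModule.mk m t = 0 ↔ ∃ u : T, u • m = 0 := by
  rw [← LocalizedModule.zero_mk t, LocalizedModule.mk_eq]
  constructor
  · rintro ⟨u, hu⟩
    refine ⟨u * t, ?_⟩
    rw [smul_zero, smul_zero] at hu
    rw [mul_smul]
    exact hu
  · rintro ⟨u, hu⟩
    refine ⟨u, ?_⟩
    rw [smul_zero, smul_zero, smul_comm, hu, smul_zero]

end MkZero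

section ZeroDiv

variable {S Fb : Type u} [CommRing S] [CommRing Fb] [Algebra S Fb] [IsNoetherianRing Fb]
  (q : Ideal S) [q.IsPrime]
  (F : Type u) [AddCommGroup F] [Module S F] [Module Fb F] [IsScalarTower S Fb F]

/-- A zero divisor on the localization `F_q` lies in an associated prime of the `Fb`-module `F`
whose contraction lies in `q`. -/
theorem exists_associatedPrime_of_not_isSMulRegular (s : S)
    (hs : ¬ IsSMulRegular (LocalizedModule q.primeCompl F) s) :
    ∃ P ∈ associatedPrimes Fb F, algebraMap S Fb s ∈ P ∧ P.comap (algebraMap S Fb) ≤ q := by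
  classical
  -- a nonzero element killed by `s`
  obtain ⟨ζ, hζ0, hζs⟩ : ∃ ζ : LocalizedModule q.primeCompl F, ζ ≠ 0 ∧ s • ζ = 0 := by
    by_contra hcon
    push Not at hcon
    apply hs
    intro a b hab
    have : s • (a - b) = 0 := by
      rw [smul_sub]
      exact sub_eq_zero.mpr hab
    exact sub_eq_zero.mp (by_contra fun h => hcon _ h this)
  induction ζ using LocalizedModule.induction_on with
  | h ξ t =>
  have h1 : ∀ u ∈ q.primeCompl, u • ξ ≠ 0 := by
    intro u hu h0
    apply hζ0
    rw [mk_eq_zero_iff]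
    exact ⟨⟨u, hu⟩, h0⟩
  have h2 : ∃ t' ∈ q.primeCompl, t' • s • ξ = 0 := by
    rw [LocalizedModule.smul'_mk, mk_eq_zero_iff] at hζs
    obtain ⟨⟨t', ht'⟩, h⟩ := hζs
    exact ⟨t', ht', h⟩
  obtain ⟨t', ht', hts⟩ := h2
  set ξ' : F := t' • ξ with hξ'
  have h3 : ∀ u ∈ q.primeCompl, u • ξ' ≠ 0 := by
    intro u hu
    rw [hξ', smul_smul]
    exact h1 _ (q.primeCompl.mul_mem hu ht')
  have h4 : s • ξ' = 0 := by
    rw [hξ', smul_comm]
    exact hts
  set T : Submonoid Fb := Algebra.algebraMapSubmonoid Fb q.primeCompl with hT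
  haveI : IsNoetherianRing (Localization T) := IsLocalization.isNoetherianRing T _ inferInstance
  set x' : LocalizedModule T F := LocalizedModule.mkLinearMap T F ξ' with hx'
  have hx'0 : x' ≠ 0 := by
    intro h0
    rw [hx', LocalizedModule.mkLinearMap_apply, mk_eq_zero_iff] at h0
    obtain ⟨⟨t₀, u, hu, rfl⟩, h⟩ := h0
    apply h3 u hu
    rw [← algebraMap_smul Fb u ξ']
    exact h
  obtain ⟨P', hP', hle⟩ := exists_le_isAssociatedPrime_of_isNoetherianRing (Localization T) x' hx'0
  have hP'prime : P'.IsPrime := hP'.isPrime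
  refine ⟨P'.comap (algebraMap Fb (Localization T)), ?_, ?_, ?_⟩
  · exact Module.associatedPrimes.comap_mem_associatedPrimes_of_mem_associatedPrimes_of_isLocalizedModule_of_fg
      T (LocalizedModule.mkLinearMap T F) P' hP' ((isNoetherianRing_iff_ideal_fg Fb).mp inferInstance _)
  · rw [Ideal.mem_comap]
    apply hle
    rw [Submodule.mem_colon_singleton, Submodule.mem_bot, hx', algebraMap_smul,
      ← map_smul, algebraMap_smul, h4, map_zero]
  · intro u hu
    by_contra huq
    rw [Ideal.mem_comap, Ideal.mem_comap] at hu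
    have hunit : IsUnit (algebraMap Fb (Localization T) (algebraMap S Fb u)) :=
      IsLocalization.map_units (Localization T) (⟨algebraMap S Fb u, u, huq, rfl⟩ : T)
    exact hP'prime.ne_top (Ideal.eq_top_of_isUnit_mem _ hu hunit)

end ZeroDiv

end Groth.Agent.Lib.helper3.UnivInjGlobal
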