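import Mathlib
import Groth.Prelude.Def_FlatCA
import Groth.Agent.Lib.Helper3.UnivInjGlobal1
import Groth.Agent.Lib.Helper3.UnivInjCover1
import Groth.Agent.Lib.Helper3.RegFib5
import Groth.Agent.Lib.Helper3.FpLocal1

/-!
# Global covering criterion for universal injectivity (helper3)
-/

set_option autoImplicit false
set_option linter.style.haveILetI false
set_option linter.unusedSectionVars false
universe u

open TensorProduct IsLocalRing
open scoped Pointwise

namespace Groth.Agent.Lib.helper3.UnivInjGlobal

attribute [local instance] Algebra.TensorProduct.rightAlgebra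

section E0

variable {R S : Type u} [CommRing R] [CommRing S] [Algebra R S] (κ : Type u) [CommRing κ]
  [Algebra R κ] (N : Type u) [AddCommGroup N] [Module S N] [Module R N] [IsScalarTower R S N]

/-- `κ ⊗ S ≃ S ⊗ κ`, `S`-linear for the right structure on the source. -/
noncomputable def commS : κ ⊗[R] S ≃ₗ[S] S ⊗[R] κ :=
  { (Algebra.TensorProduct.comm R κ S).toLinearEquiv.toAddEquiv with
    map_smul' := by
      intro s x
      show Algebra.TensorProduct.comm R κ S (s • x) = s • Algebra.TensorProduct.comm R κ S x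
      rw [Algebra.smul_def, map_mul, Algebra.TensorProduct.right_algebraMap_apply,
        Algebra.TensorProduct.comm_tmul, Algebra.smul_def,
        Algebra.TensorProduct.algebraMap_apply]
      rfl }

/-- `(κ ⊗ S) ⊗_S N ≃ N ⊗_R κ`. -/
noncomputable def e0 : (κ ⊗[R] S) ⊗[S] N ≃ₗ[S] N ⊗[R] κ :=
  (TensorProduct.comm S (κ ⊗[R] S) N) ≪≫ₗ
    (LinearEquiv.lTensor N (commS (R := R) (S := S) κ)) ≪≫ₗ
    (TensorProduct.AlgebraTensorModule.cancelBaseChange R S S N κ)

end E0

section Main

variable {R S : Type u} [CommRing R] [CommRing S] [Algebra R S]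
  (N : Type u) [AddCommGroup N] [Module S N] [Module R N] [IsScalarTower R S N]
  (q : Ideal S) [q.IsPrime]

/-- elements of `S` regular on the localized fibre module `(N ⊗ κ(p))_q`. -/
def Sg : Submonoid S where
  carrier := {s | IsSMulRegular
    (LocalizedModule q.primeCompl (N ⊗[R] (q.comap (algebraMap R S)).ResidueField)) s}
  one_mem' := IsSMulRegular.one _
  mul_mem' := fun ha hb => ha.mul hb

theorem mem_Sg (s : S) : s ∈ Sg (R := R) N q ↔ IsSMulRegular
    (LocalizedModule q.primeCompl (N ⊗[R] (q.comap (algebraMap R S)).ResidueField)) s := Iff.rfl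

theorem map_lsmul_apply (s : S) (x : LocalizedModule q.primeCompl N) :
    IsLocalizedModule.map q.primeCompl (LocalizedModule.mkLinearMap q.primeCompl N)
      (LocalizedModule.mkLinearMap q.primeCompl N) (LinearMap.lsmul S N s) x = s • x := by
  induction x using LocalizedModule.induction_on with
  | h n t =>
    rw [IsLocalizedModule.map_LocalizedModules, LocalizedModule.smul'_mk]
    rfl

variable [Algebra.FinitePresentation R S] [Module.FinitePresentation S N] [Module.Flat R N]

theorem smul_eq_zero_localized_tensor (s : S) (hs : s ∈ Sg (R := R) N q)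
    (Q : Type u) [AddCommGroup Q] [Module R Q]
    (z : LocalizedModule q.primeCompl N ⊗[R] Q) (hz : s • z = 0) : z = 0 := by
  have hflat : Module.Flat R (LocalizedModule q.primeCompl N) :=
    Groth.Agent.Lib.helper3.FpLocal.flat_localizedModule _ _
  obtain ⟨h1, h2⟩ := Groth.Agent.Lib.helper3.RegFib.main_weak q N [s] hflat
    ((RingTheory.Sequence.isWeaklyRegular_singleton_iff _ s).2 hs)
  have hsreg : IsSMulRegular (LocalizedModule q.primeCompl N) s :=
    (RingTheory.Sequence.isWeaklyRegular_singleton_iff _ s).1 h1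
  have hfl := h2 1
  set K : Submodule S N := Ideal.span {b | b ∈ [s].take 1} • (⊤ : Submodule S N) with hK
  have hKs : K = s • (⊤ : Submodule S N) := by
    rw [hK]
    have : {b | b ∈ [s].take 1} = ({s} : Set S) := by
      ext b
      simp
    rw [this, Submodule.ideal_span_singleton_smul]
  have hex : Function.Exact (LinearMap.lsmul S N s) (Submodule.mkQ K) := by
    intro n
    rw [Submodule.mkQ_apply, Submodule.Quotient.mk_eq_zero, hKs]
    constructor
    · intro hn
      obtain ⟨x, -, rfl⟩ := (Submodule.mem_smul_pointwise_iff_exists _ _ _).mp hn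
      exact ⟨x, rfl⟩
    · rintro ⟨x, rfl⟩
      exact Submodule.smul_mem_pointwise_smul _ _ _ Submodule.mem_top
  have hex' := LocalizedModule.map_exact q.primeCompl _ _ hex
  let f₀ : LocalizedModule q.primeCompl N →ₗ[R] LocalizedModule q.primeCompl N :=
    (LinearMap.lsmul S (LocalizedModule q.primeCompl N) s).restrictScalars R
  let g₀ : LocalizedModule q.primeCompl N →ₗ[R] LocalizedModule q.primeCompl (N ⧸ K) :=
    (IsLocalizedModule.map q.primeCompl (LocalizedModule.mkLinearMap q.primeCompl N)
      (LocalizedModule.mkLinearMap q.primeCompl (N ⧸ K)) (Submodule.mkQ K)).restrictScalars R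
  have hfg : Function.Exact f₀ g₀ := by
    intro x
    have := hex' x
    constructor
    · intro hx
      obtain ⟨w, hw⟩ := this.mp hx
      exact ⟨w, by rw [← hw, map_lsmul_apply]; rfl⟩
    · rintro ⟨w, hw⟩
      apply this.mpr
      exact ⟨w, by rw [map_lsmul_apply]; exact hw⟩
  have hg : Function.Surjective g₀ :=
    IsLocalizedModule.map_surjective q.primeCompl _ _ _ (Submodule.mkQ_surjective K)
  have hinj := Groth.Agent.Lib.helper25.rTensor_injective_of_flat_coker f₀ g₀ hfg hg hsreg Q
  have key : ∀ w : LocalizedModule q.primeCompl N ⊗[R] Q, f₀.rTensor Q w = s • w := by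
    intro w
    induction w using TensorProduct.induction_on with
    | zero => simp
    | tmul n q => rfl
    | add a b ha hb => rw [map_add, smul_add, ha, hb]
  apply hinj
  rw [key, hz, map_zero]

/-- regularity on `(fiberMod)_q` implies regularity on `(N ⊗ κ(p))_q`. -/
theorem isSMulRegular_of_fiberMod (s : S)
    (hs : IsSMulRegular (LocalizedModule q.primeCompl
      (FlatCA.fiberMod (q.comap (algebraMap R S)) S N)) s) :
    s ∈ Sg (R := R) N q := by
  rw [mem_Sg]
  let E := IsLocalizedModule.map q.primeCompl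
    (LocalizedModule.mkLinearMap q.primeCompl (N ⊗[R] (q.comap (algebraMap R S)).ResidueField))
    (LocalizedModule.mkLinearMap q.primeCompl (FlatCA.fiberMod (q.comap (algebraMap R S)) S N))
    (e0 (R := R) (S := S) (q.comap (algebraMap R S)).ResidueField N).symm.toLinearMap
  have hE : Function.Injective E :=
    IsLocalizedModule.map_injective q.primeCompl _ _ _
      (e0 (R := R) (S := S) (q.comap (algebraMap R S)).ResidueField N).symm.injective
  intro a b hab
  apply hE
  apply hs
  show s • E a = s • E b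
  rw [← map_smul, ← map_smul]
  exact congrArg E hab

variable {S' : Type u} [CommRing S'] [Algebra S S']

theorem hcov_of
    (h : ∀ (p : Ideal R) (q : Ideal S) [p.IsPrime] [q.IsPrime] [q.LiesOver p],
      FlatCA.fiberIdeal p q ∈ associatedPrimes (p.Fiber S) (FlatCA.fiberMod p S N) →
      ∃ q' : Ideal S', q'.IsPrime ∧ q'.comap (algebraMap S S') = q)
    (q₁ : Ideal S) (hq₁ : q₁.IsPrime) (hd : Disjoint (q₁ : Set S) (Sg (R := R) N q : Set S)) :
    ∃ q' : Ideal S', q'.IsPrime ∧ q₁ ≤ q'.comap (algebraMap S S') := by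
  classical
  set p := q.comap (algebraMap R S) with hp
  haveI : p.IsPrime := Ideal.comap_isPrime _ _
  haveI : IsNoetherianRing (p.Fiber S) :=
    Algebra.FiniteType.isNoetherianRing p.ResidueField (p.Fiber S)
  haveI : Module.Finite (p.Fiber S) (FlatCA.fiberMod p S N) :=
    inferInstanceAs (Module.Finite (p.Fiber S) ((p.Fiber S) ⊗[S] N))
  haveI : IsScalarTower S (p.Fiber S) (FlatCA.fiberMod p S N) :=
    inferInstanceAs (IsScalarTower S (p.Fiber S) ((p.Fiber S) ⊗[S] N))
  have hfin : (associatedPrimes (p.Fiber S) (FlatCA.fiberMod p S N)).Finite :=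
    associatedPrimes.finite _ _
  let f : Ideal (p.Fiber S) → Ideal S := fun P => P.comap (algebraMap S (p.Fiber S))
  let PP : Finset (Ideal (p.Fiber S)) := hfin.toFinset.filter (fun P => f P ≤ q)
  have hsub : (q₁ : Set S) ⊆ ⋃ P ∈ (PP : Set (Ideal (p.Fiber S))), (f P : Set S) := by
    intro s hs
    have hns : s ∉ Sg (R := R) N q := fun h' => Set.disjoint_left.mp hd hs h'
    have hnr : ¬ IsSMulRegular (LocalizedModule q.primeCompl (FlatCA.fiberMod p S N)) s :=
      fun h' => hns (isSMulRegular_of_fiberMod N q s h')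
    obtain ⟨P, hP, hsP, hPq⟩ := exists_associatedPrime_of_not_isSMulRegular (Fb := p.Fiber S) q
      (FlatCA.fiberMod p S N) s hnr
    simp only [Set.mem_iUnion]
    refine ⟨P, ?_, hsP⟩
    simp only [PP, Finset.coe_filter, Set.mem_ofPred_eq, Set.Finite.mem_toFinset]
    exact ⟨hP, hPq⟩
  have hprime : ∀ P ∈ PP, P ≠ (⊥ : Ideal (p.Fiber S)) → P ≠ ⊥ → (f P).IsPrime := by
    intro P hP _ _
    simp only [PP, Finset.mem_filter, Set.Finite.mem_toFinset] at hP
    haveI : P.IsPrime := hP.1.isPrime
    exact Ideal.comap_isPrime _ _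
  obtain ⟨P, hPmem, hle⟩ := (Ideal.subset_union_prime ⊥ ⊥ hprime).mp hsub
  simp only [PP, Finset.mem_filter, Set.Finite.mem_toFinset] at hPmem
  obtain ⟨hPass, hc⟩ := hPmem
  haveI hPp : P.IsPrime := hPass.isPrime
  set q₀ := P.comap (algebraMap S (p.Fiber S)) with hq₀
  haveI : q₀.IsPrime := Ideal.comap_isPrime _ _
  haveI : q₀.LiesOver p := comap_liesOver p P
  have hfib : FlatCA.fiberIdeal p q₀ = P := fiberIdeal_comap p P
  obtain ⟨q', hq', hcq'⟩ := h p q₀ (by rw [hfib]; exact hPass)
  exact ⟨q', hq', hcq'.symm ▸ hle⟩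

variable [Algebra R S'] [IsScalarTower R S S'] [Module.Flat S S']

theorem rTensor_mk_injective
    (h : ∀ (p : Ideal R) (q : Ideal S) [p.IsPrime] [q.IsPrime] [q.LiesOver p],
      FlatCA.fiberIdeal p q ∈ associatedPrimes (p.Fiber S) (FlatCA.fiberMod p S N) →
      ∃ q' : Ideal S', q'.IsPrime ∧ q'.comap (algebraMap S S') = q)
    (Q : Type u) [AddCommGroup Q] [Module R Q] :
    Function.Injective (((TensorProduct.mk S S' N 1).restrictScalars R).rTensor Q) := by
  rw [injective_iff_map_eq_zero]
  intro y hy
  by_contra hy0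
  set J : Ideal S := (Submodule.span S {y}).annihilator with hJ
  have hJtop : J ≠ ⊤ := by
    intro htop
    apply hy0
    have : (1 : S) ∈ J := by rw [htop]; exact Submodule.mem_top
    have h1 := (Submodule.mem_annihilator_span_singleton _ _).mp this
    rwa [one_smul] at h1
  obtain ⟨q, hqmax, hJq⟩ := Ideal.exists_le_maximal J hJtop
  haveI : q.IsPrime := hqmax.isPrime
  -- `y` is nonzero in the localization at `q`
  set yq : LocalizedModule q.primeCompl N ⊗[R] Q :=
    AlgebraTensorModule.rTensor R Q (LocalizedModule.mkLinearMap q.primeCompl N) y with hyq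
  have hyq0 : yq ≠ 0 := by
    intro h0
    obtain ⟨⟨t, ht⟩, hty⟩ := (IsLocalizedModule.eq_zero_iff q.primeCompl
      (AlgebraTensorModule.rTensor R Q (LocalizedModule.mkLinearMap q.primeCompl N))).mp h0
    apply ht
    apply hJq
    exact (Submodule.mem_annihilator_span_singleton _ _).mpr hty
  -- the localization at `Sg`
  let P := LocalizedModule (Sg (R := R) N q) (N ⊗[R] Q)
  have hSgP : ∀ s ∈ Sg (R := R) N q, ∀ x : P, s • x = 0 → x = 0 := by
    intro s hs x hx
    have hu := IsLocalizedModule.map_units
      (LocalizedModule.mkLinearMap (Sg (R := R) N q) (N ⊗[R] Q)) ⟨s, hs⟩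
    have hinj := ((Module.End.isUnit_iff _).mp hu).injective
    apply hinj
    rw [map_zero]
    exact hx
  have hF := Groth.Agent.Lib.helper3.UnivInjCover.mk_one_injective (S' := S') (Sg (R := R) N q) P
    hSgP (hcov_of N q h)
  have hyP : LocalizedModule.mkLinearMap (Sg (R := R) N q) (N ⊗[R] Q) y ≠ 0 := by
    intro h0
    obtain ⟨⟨s, hs⟩, hsy⟩ := (IsLocalizedModule.eq_zero_iff (Sg (R := R) N q)
      (LocalizedModule.mkLinearMap (Sg (R := R) N q) (N ⊗[R] Q))).mp h0
    have hsyq : s • yq = 0 := by
      rw [hyq, ← map_smul]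
      have : s • y = 0 := hsy
      rw [this, map_zero]
    exact hyq0 (smul_eq_zero_localized_tensor N q s hs Q yq hsyq)
  apply hyP
  apply hF
  rw [map_zero]
  have key : ∀ z : N ⊗[R] Q,
      TensorProduct.mk S S' P 1 (LocalizedModule.mkLinearMap (Sg (R := R) N q) (N ⊗[R] Q) z) =
      (LinearMap.lTensor S' (LocalizedModule.mkLinearMap (Sg (R := R) N q) (N ⊗[R] Q)))
        (AlgebraTensorModule.assoc R S S S' N Q
          ((((TensorProduct.mk S S' N 1).restrictScalars R).rTensor Q) z)) := by
    intro z
    induction z using TensorProduct.induction_on with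
    | zero => simp
    | tmul n q => rfl
    | add a b ha hb => simp only [map_add, ha, hb]
  rw [key, hy, map_zero, map_zero]

end Main

end Groth.Agent.Lib.helper3.UnivInjGlobal
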