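import Mathlib
import Groth.Prelude.Def_FlatCA
import Groth.Agent.Lib.Helper3.UnivInjGlobal2
import Groth.Agent.Lib.Helper3.UnivInjCompl1

/-!
# Associated primes of `N ⊗_R Q` for `N` flat over `R` (helper3)

`S` Noetherian `R`-algebra, `N` an `S`-module flat over `R`, `Q` a finite `R`-module (`R`
Noetherian). Every `q ∈ Ass_S(N ⊗_R Q)` lies over a prime `p` of `R` such that the extension of `q`
to the fibre ring over `p` is an associated prime of the fibre module of `N`.
-/

set_option autoImplicit false
set_option linter.style.haveILetI false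
set_option linter.unusedSectionVars false
universe u

open TensorProduct IsLocalRing
open scoped Pointwise

namespace Groth.Agent.Lib.helper3.UnivInjAss

attribute [local instance] Algebra.TensorProduct.rightAlgebra

section Prime

variable {R S : Type u} [CommRing R] [CommRing S] [Algebra R S] (p : Ideal R) [p.IsPrime]

/-- the extension to the fibre ring of a prime over `p` is prime. -/
theorem fiberIdeal_isPrime (q : Ideal S) [q.IsPrime] [hq : q.LiesOver p] :
    (FlatCA.fiberIdeal p q).IsPrime := by
  let x : PrimeSpectrum.comap (algebraMap R S) ⁻¹' {(⟨p, inferInstance⟩ : PrimeSpectrum R)} :=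
    ⟨⟨q, inferInstance⟩, by
      rw [Set.mem_preimage, Set.mem_singleton_iff]
      apply PrimeSpectrum.ext
      exact (hq.over).symm⟩
  have h1 := (PrimeSpectrum.preimageEquivFiber R S ⟨p, inferInstance⟩).left_inv x
  have h2 : ((PrimeSpectrum.preimageEquivFiber R S ⟨p, inferInstance⟩ x).asIdeal).comap
      (Algebra.TensorProduct.includeRight (R := R) (A := p.ResidueField) (B := S)).toRingHom =
      q := by
    have := congrArg (fun y => y.1.asIdeal) h1
    exact this
  have h3 := Groth.Agent.Lib.helper3.UnivInjGlobal.fiberIdeal_comap (S := S) p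
    (PrimeSpectrum.preimageEquivFiber R S ⟨p, inferInstance⟩ x).asIdeal
  rw [h2] at h3
  rw [h3]
  exact (PrimeSpectrum.preimageEquivFiber R S ⟨p, inferInstance⟩ x).isPrime

end Prime

section Quot

variable {R S : Type u} [CommRing R] [CommRing S] [Algebra R S] [IsNoetherianRing S]
  (N : Type u) [AddCommGroup N] [Module S N] [Module R N] [IsScalarTower R S N] [Module.Flat R N]

theorem quotient_case (p : Ideal R) [p.IsPrime] (q : Ideal S)
    (hq : q ∈ associatedPrimes S (N ⊗[R] (R ⧸ p))) :
    ∃ (_ : q.IsPrime) (_ : q.LiesOver p),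
      FlatCA.fiberIdeal p q ∈ associatedPrimes (p.Fiber S) (FlatCA.fiberMod p S N) := by
  haveI hqp : q.IsPrime := hq.isPrime
  obtain ⟨-, x, hx⟩ := (isAssociatedPrime_iff (I := q)).mp hq
  have hx0 : x ≠ 0 := by
    rintro rfl
    apply hqp.ne_top
    rw [hx, eq_top_iff]
    intro s _
    rw [Submodule.mem_colon_singleton, smul_zero]
    exact Submodule.zero_mem _
  have hmem : ∀ s : S, s ∈ q ↔ s • x = 0 := by
    intro s
    rw [hx, Submodule.mem_colon_singleton, Submodule.mem_bot]
  have hsmul : ∀ (r : R) (z : N ⊗[R] (R ⧸ p)),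
      LinearMap.lTensor N (LinearMap.lsmul R (R ⧸ p) r) z = r • z := by
    intro r z
    induction z using TensorProduct.induction_on with
    | zero => simp
    | tmul n a =>
      rw [LinearMap.lTensor_tmul, TensorProduct.smul_tmul']
      exact (TensorProduct.smul_tmul r n a).symm
    | add a b ha hb => rw [map_add, smul_add, ha, hb]
  have hkill : ∀ r ∈ p, ∀ z : N ⊗[R] (R ⧸ p), r • z = 0 := by
    intro r hr z
    induction z using TensorProduct.induction_on with
    | zero => simp
    | tmul n a =>
      rw [← TensorProduct.tmul_smul]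
      have : r • a = 0 := by
        obtain ⟨a', rfl⟩ := Ideal.Quotient.mk_surjective a
        rw [Algebra.smul_def, Ideal.Quotient.algebraMap_eq, ← map_mul,
          Ideal.Quotient.eq_zero_iff_mem]
        exact Ideal.mul_mem_right _ _ hr
      rw [this, TensorProduct.tmul_zero]
    | add a b ha hb => rw [smul_add, ha, hb, add_zero]
  have hover : q.comap (algebraMap R S) = p := by
    ext r
    rw [Ideal.mem_comap, hmem, algebraMap_smul]
    constructor
    · intro hr
      by_contra hrp
      have hinj0 : Function.Injective (LinearMap.lsmul R (R ⧸ p) r) := by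
        intro a b hab
        have hab' : r • a = r • b := hab
        rw [Algebra.smul_def, Algebra.smul_def] at hab'
        have hne : algebraMap R (R ⧸ p) r ≠ 0 := by
          rwa [Ideal.Quotient.algebraMap_eq, ne_eq, Ideal.Quotient.eq_zero_iff_mem]
        exact mul_left_cancel₀ hne hab'
      have hinj := Module.Flat.lTensor_preserves_injective_linearMap (M := N) _ hinj0
      apply hx0
      apply hinj
      rw [map_zero, hsmul]
      exact hr
    · intro hr
      exact hkill r hr x
  haveI : q.LiesOver p := ⟨hover.symm⟩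
  refine ⟨hqp, inferInstance, ?_⟩
  -- the injection into the fibre
  let f : (R ⧸ p) →ₗ[R] p.ResidueField :=
    (IsScalarTower.toAlgHom R (R ⧸ p) p.ResidueField).toLinearMap
  have hf : Function.Injective f := Ideal.injective_algebraMap_quotient_residueField (I := p)
  let ι : N ⊗[R] (R ⧸ p) →ₗ[S] N ⊗[R] p.ResidueField := AlgebraTensorModule.lTensor S N f
  have hι : Function.Injective ι :=
    Module.Flat.lTensor_preserves_injective_linearMap (M := N) f hf
  set ξ : FlatCA.fiberMod p S N :=
    (Groth.Agent.Lib.helper3.UnivInjGlobal.e0 (R := R) (S := S) p.ResidueField N).symm (ι x) with hξ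
  haveI : IsScalarTower S (p.Fiber S) (FlatCA.fiberMod p S N) :=
    inferInstanceAs (IsScalarTower S (p.Fiber S) ((p.Fiber S) ⊗[S] N))
  have hsξ : ∀ s : S, s • ξ = 0 ↔ s ∈ q := by
    intro s
    have h1 : s • ξ =
        (Groth.Agent.Lib.helper3.UnivInjGlobal.e0 (R := R) (S := S) p.ResidueField N).symm
          (ι (s • x)) := by
      rw [map_smul ι, map_smul]
      rfl
    rw [hmem]
    constructor
    · intro hs
      have h2 : (Groth.Agent.Lib.helper3.UnivInjGlobal.e0 (R := R) (S := S) p.ResidueField N).symm
          (ι (s • x)) =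
          (Groth.Agent.Lib.helper3.UnivInjGlobal.e0 (R := R) (S := S) p.ResidueField N).symm 0 := by
        rw [map_zero]
        exact h1.symm.trans hs
      have h3 := (Groth.Agent.Lib.helper3.UnivInjGlobal.e0 (R := R) (S := S)
        p.ResidueField N).symm.injective h2
      exact hι (h3.trans (map_zero ι).symm)
    · intro hs
      rw [h1, hs, map_zero, map_zero]
      rfl
  haveI hprime : (FlatCA.fiberIdeal p q).IsPrime := fiberIdeal_isPrime p q
  have hcolon : FlatCA.fiberIdeal p q =
      (⊥ : Submodule (p.Fiber S) (FlatCA.fiberMod p S N)).colon {ξ} := by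
    apply le_antisymm
    · unfold FlatCA.fiberIdeal
      rw [Ideal.map_le_iff_le_comap]
      intro s hs
      rw [Ideal.mem_comap, Submodule.mem_colon_singleton, Submodule.mem_bot]
      have : algebraMap S (p.Fiber S) s • ξ = 0 := by
        rw [algebraMap_smul]
        exact (hsξ s).mpr hs
      exact this
    · rw [← Groth.Agent.Lib.helper3.UnivInjGlobal.fiberIdeal_comap (S := S) p
        ((⊥ : Submodule (p.Fiber S) (FlatCA.fiberMod p S N)).colon {ξ})]
      unfold FlatCA.fiberIdeal
      apply Ideal.map_mono
      intro s hs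
      rw [Ideal.mem_comap, Submodule.mem_colon_singleton, Submodule.mem_bot] at hs
      have : algebraMap S (p.Fiber S) s • ξ = 0 := hs
      rw [algebraMap_smul] at this
      exact (hsξ s).mp this
  exact ⟨hprime, ξ, by rw [← hcolon, hprime.radical]⟩

variable [IsNoetherianRing R]

theorem ass_tensor (Q : Type u) [AddCommGroup Q] [Module R Q] [hQ : Module.Finite R Q] :
    ∀ q ∈ associatedPrimes S (N ⊗[R] Q), ∃ (p : Ideal R) (_ : p.IsPrime) (_ : q.IsPrime)
      (_ : q.LiesOver p),
      FlatCA.fiberIdeal p q ∈ associatedPrimes (p.Fiber S) (FlatCA.fiberMod p S N) := by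
  induction hQ using IsNoetherianRing.induction_on_isQuotientEquivQuotientPrime R with
  | subsingleton Q =>
    intro q hq
    rw [associatedPrimes.eq_empty_of_subsingleton] at hq
    exact absurd hq (Set.notMem_empty q)
  | quotient Q p e =>
    intro q hq
    have e' : N ⊗[R] Q ≃ₗ[S] N ⊗[R] (R ⧸ p.1) :=
      AlgebraTensorModule.congr (LinearEquiv.refl S N) e
    rw [LinearEquiv.AssociatedPrimes.eq e'] at hq
    haveI : p.asIdeal.IsPrime := p.2
    obtain ⟨h1, h2, h3⟩ := quotient_case N p.asIdeal q hq
    exact ⟨p.asIdeal, inferInstance, h1, h2, h3⟩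
  | exact Q₁ Q₂ Q₃ f g hf hg hfg h₁ h₃ =>
    intro q hq
    have hinj : Function.Injective (AlgebraTensorModule.lTensor S N f) :=
      Module.Flat.lTensor_preserves_injective_linearMap (M := N) f hf
    have hex : Function.Exact (AlgebraTensorModule.lTensor S N f)
        (AlgebraTensorModule.lTensor S N g) := lTensor_exact N hfg hg
    rcases associatedPrimes.subset_union_of_exact hinj hex hq with h | h
    · exact h₁ q h
    · exact h₃ q h

end Quot

end Groth.Agent.Lib.helper3.UnivInjAss
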