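import Mathlib
import Groth.Prelude.Def_FlatCA
import Groth.Agent.S1203
import Groth.Agent.S0585
import Groth.Agent.S0542

/-!
# Flat finite type algebras with geometrically integral fibres over a Noetherian complete / local
ring are projective modules (helper3; Stacks 05FT-05FZ; towards S1204, S0447)
-/

set_option autoImplicit false
set_option linter.style.haveILetI false
set_option linter.unusedSectionVars false
universe u

open TensorProduct IsLocalRing

namespace Groth.Agent.Lib.helper3.GIProj

/-- Ring form of "geometrically integral fibres": every base change to a field is a domain. -/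
def GIF (R S : Type u) [CommRing R] [CommRing S] [Algebra R S] : Prop :=
  ∀ (K : Type u) [Field K] [Algebra R K], IsDomain (K ⊗[R] S)

section Basic

variable {R S : Type u} [CommRing R] [CommRing S] [Algebra R S]

open AlgebraicGeometry CategoryTheory in
theorem GIF.of_geomIntegralFibres (hgi : FlatCA.GeomIntegralFibres R S) : GIF R S := by
  intro K _ _
  have hpo := CommRingCat.isPushout_tensorProduct R S K
  have hpb := isPullback_SpecMap_of_isPushout _ _ _ _ hpo
  have hint : IsIntegral (Spec (CommRingCat.of (S ⊗[R] K))) :=
    hgi.geometrically_isIntegral (Spec.map (CommRingCat.ofHom (algebraMap R K))) _ _ hpb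
  haveI : IsDomain (S ⊗[R] K) := (affine_isIntegral_iff _).mp hint
  exact (Algebra.TensorProduct.comm R K S).toRingEquiv.injective.isDomain _

theorem GIF.baseChange (h : GIF R S) (R' : Type u) [CommRing R'] [Algebra R R'] :
    GIF R' (R' ⊗[R] S) := by
  intro K _ _
  letI : Algebra R K := ((algebraMap R' K).comp (algebraMap R R')).toAlgebra
  haveI : IsScalarTower R R' K := IsScalarTower.of_algebraMap_eq (fun _ => rfl)
  haveI := h K
  let e : K ⊗[R'] (R' ⊗[R] S) ≃ₐ[K] K ⊗[R] S :=
    Algebra.TensorProduct.cancelBaseChange R R' K K S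
  exact e.toRingEquiv.injective.isDomain _

theorem GIF.of_algEquiv (h : GIF R S) {S' : Type u} [CommRing S'] [Algebra R S']
    (e : S ≃ₐ[R] S') : GIF R S' := by
  intro K _ _
  haveI := h K
  let e' : K ⊗[R] S' ≃ₐ[K] K ⊗[R] S :=
    Algebra.TensorProduct.congr AlgEquiv.refl e.symm
  exact e'.toRingEquiv.injective.isDomain _

theorem GIF.nontrivial (h : GIF R S) (K : Type u) [Field K] [Algebra R K] :
    Nontrivial (K ⊗[R] S) :=
  haveI := h K
  inferInstance

end Basic


section Ass

variable {R S : Type u} [CommRing R] [CommRing S] [Algebra R S]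

attribute [local instance] Algebra.TensorProduct.rightAlgebra

/-- an associated prime of a domain (as a module over itself) is zero. -/
theorem eq_bot_of_mem_associatedPrimes_domain {D : Type u} [CommRing D] [IsDomain D]
    (P : Ideal D) (hP : P ∈ associatedPrimes D D) : P = ⊥ := by
  obtain ⟨hprime, x, hx⟩ := hP
  by_cases hx0 : x = 0
  · exfalso
    have : Submodule.colon (⊥ : Submodule D D) {x} = ⊤ := by
      rw [eq_top_iff]
      intro d _
      rw [Submodule.mem_colon_singleton, hx0, smul_zero]
      exact Submodule.zero_mem _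
    rw [this, Ideal.radical_top] at hx
    exact hprime.ne_top hx
  · have : Submodule.colon (⊥ : Submodule D D) {x} = ⊥ := by
      rw [eq_bot_iff]
      intro d hd
      rw [Submodule.mem_colon_singleton, Submodule.mem_bot, smul_eq_mul] at hd
      rcases mul_eq_zero.mp hd with h | h
      · exact h
      · exact absurd h hx0
    rw [this] at hx
    rw [hx]
    exact Ideal.radical_bot_of_isReduced

/-- the extension to the fibre ring of a fibre-associated prime is zero, when the fibre is a
domain. -/
theorem fiberIdeal_eq_bot (p : Ideal R) [p.IsPrime] [IsDomain (p.Fiber S)] (q : Ideal S)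
    (h : FlatCA.fiberIdeal p q ∈ associatedPrimes (p.Fiber S) (FlatCA.fiberMod p S S)) :
    FlatCA.fiberIdeal p q = ⊥ := by
  let e : FlatCA.fiberMod p S S ≃ₗ[p.Fiber S] p.Fiber S :=
    TensorProduct.AlgebraTensorModule.rid S (p.Fiber S) (p.Fiber S)
  rw [LinearEquiv.AssociatedPrimes.eq e] at h
  exact eq_bot_of_mem_associatedPrimes_domain _ h

/-- if the extension of `q` to the fibre over `p` is zero then `q` is contained in every prime
over `p`. -/
theorem le_of_fiberIdeal_eq_bot (p : Ideal R) [p.IsPrime] (q q' : Ideal S) [q'.IsPrime]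
    [q'.LiesOver p] (h : FlatCA.fiberIdeal p q = ⊥) : q ≤ q' := by
  intro s hs
  have h1 : (Algebra.TensorProduct.includeRight (R := R) (A := p.ResidueField) (B := S)) s = 0 := by
    have : (Algebra.TensorProduct.includeRight (R := R) (A := p.ResidueField) (B := S)) s ∈
        FlatCA.fiberIdeal p q := Ideal.mem_map_of_mem _ hs
    rw [h] at this
    exact this
  let φ : p.Fiber S →ₐ[R] q'.ResidueField :=
    Algebra.TensorProduct.lift
      (Ideal.ResidueField.mapₐ p q' (Algebra.ofId R S) (Ideal.LiesOver.over (p := p) (P := q')))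
      (IsScalarTower.toAlgHom R S q'.ResidueField) (fun _ _ => .all _ _)
  have h2 := congrArg φ h1
  rw [map_zero] at h2
  have h3 : φ ((Algebra.TensorProduct.includeRight (R := R) (A := p.ResidueField) (B := S)) s) =
      algebraMap S q'.ResidueField s := by
    simp [φ]
  rw [h3] at h2
  exact (Ideal.algebraMap_residueField_eq_zero).mp h2

/-- a prime of `S` over a prime `𝔪` with nontrivial fibre. -/
theorem exists_prime_liesOver (m : Ideal R) [m.IsPrime] [Nontrivial (m.Fiber S)] :
    ∃ Q : Ideal S, Q.IsPrime ∧ Q.LiesOver m := by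
  obtain ⟨P, hP⟩ := Ideal.exists_maximal (m.Fiber S)
  haveI : P.IsPrime := hP.isPrime
  refine ⟨P.comap (Algebra.TensorProduct.includeRight (R := R) (A := m.ResidueField)
    (B := S)).toRingHom, Ideal.comap_isPrime _ _, ⟨?_⟩⟩
  have h1 : P.LiesOver m := inferInstance
  have h2 : m = P.under R := h1.over
  refine h2.trans ?_
  rw [Ideal.under, Ideal.under, Ideal.comap_comap]
  congr 1
  ext r
  simp

end Ass

section Complete

variable {R S : Type u} [CommRing R] [CommRing S] [Algebra R S]

/-- **Complete case** (Stacks 05FT + 05FW): over a Noetherian `I`-adically complete ring, a flat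
finite type algebra with geometrically integral fibres which is projective mod `I` is
projective. -/
theorem projective_of_isAdicComplete [IsNoetherianRing R] (I : Ideal R) [IsAdicComplete I R]
    [Algebra.FiniteType R S] [Module.Flat R S] (hgi : GIF R S)
    [Module.Projective (R ⧸ I) (S ⧸ (I • ⊤ : Submodule R S))] : Module.Projective R S := by
  refine Groth.Agent.S1203.result (S := S) I S ?_
  intro p q _ _ _ hass
  haveI : IsDomain (p.Fiber S) := hgi p.ResidueField
  have hbot := fiberIdeal_eq_bot p q hass
  -- a maximal ideal above `p`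
  obtain ⟨m, hm, hpm⟩ := Ideal.exists_le_maximal p (Ideal.IsPrime.ne_top inferInstance)
  haveI : m.IsPrime := hm.isPrime
  have hIm : I ≤ m := by
    refine (IsAdicComplete.le_jacobson_bot I).trans ?_
    exact sInf_le ⟨bot_le, hm⟩
  haveI : Nontrivial (m.Fiber S) := GIF.nontrivial hgi m.ResidueField
  obtain ⟨Q, hQ, hQm⟩ := exists_prime_liesOver (S := S) m
  obtain ⟨P, hPQ, hPprime, hPp⟩ := Ideal.exists_ideal_le_liesOver_of_le (p := p) (q := m) Q hpm
  have hqP : q ≤ P := le_of_fiberIdeal_eq_bot p q P hbot
  intro htop
  have hle : I.map (algebraMap R S) ⊔ q ≤ Q := by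
    refine sup_le ?_ (hqP.trans hPQ)
    rw [Ideal.map_le_iff_le_comap]
    refine hIm.trans ?_
    rw [hQm.over]
  rw [htop, top_le_iff] at hle
  exact hQ.ne_top hle

end Complete

section LocalNoeth

variable {R S : Type u} [CommRing R] [CommRing S] [Algebra R S]

/-- **Noetherian local case**: completion + descent of projectivity. -/
theorem projective_of_noetherian_local [IsNoetherianRing R] [IsLocalRing R]
    [Algebra.FiniteType R S] [Module.Flat R S] (hgi : GIF R S) : Module.Projective R S := by
  set Rh := AdicCompletion (maximalIdeal R) R with hRh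
  haveI : IsNoetherianRing Rh :=
    Groth.Agent.S0542.result R (maximalIdeal R) (maximalIdeal R).fg_of_isNoetherianRing
  haveI : Module.Flat R Rh := AdicCompletion.flat_of_isNoetherian (maximalIdeal R)
  haveI : Module.FaithfullyFlat R Rh := Module.FaithfullyFlat.of_flat_of_isLocalHom
  haveI : IsAdicComplete (maximalIdeal Rh) Rh := inferInstance
  have hgi' : GIF Rh (Rh ⊗[R] S) := hgi.baseChange Rh
  haveI : Module.Projective (Rh ⧸ maximalIdeal Rh)
      ((Rh ⊗[R] S) ⧸ (maximalIdeal Rh • ⊤ : Submodule Rh (Rh ⊗[R] S))) := by
    letI : Field (Rh ⧸ maximalIdeal Rh) := Ideal.Quotient.field (maximalIdeal Rh)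
    exact Module.Projective.of_free
  haveI : Module.Projective Rh (Rh ⊗[R] S) :=
    projective_of_isAdicComplete (maximalIdeal Rh) hgi'
  exact Groth.Agent.S0585.result R Rh S

end LocalNoeth

end Groth.Agent.Lib.helper3.GIProj
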