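import Mathlib
import Groth.Agent.Lib.Helper3.GIProj1
import Groth.Agent.S9158
import Groth.Agent.Lib.Helper3.CplProj1

/-!
# Flat finite type algebras with geometrically integral fibres over a Noetherian ring are
projective (helper3; Stacks 05FX; towards S0447)
-/

set_option autoImplicit false
set_option linter.style.haveILetI false
set_option linter.unusedSectionVars false
universe u

open TensorProduct IsLocalRing

namespace Groth.Agent.Lib.helper3.GIProj

section Nilp

variable {R : Type u} [CommRing R]

/-- a ring is adically complete with respect to a nilpotent ideal. -/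
theorem isAdicComplete_of_isNilpotent (I : Ideal R) (h : IsNilpotent I) : IsAdicComplete I R := by
  obtain ⟨N, hN⟩ := h
  have hzero : ∀ n, N ≤ n → (I ^ n • ⊤ : Submodule R R) = ⊥ := by
    intro n hn
    have : I ^ n = ⊥ := by
      rw [eq_bot_iff, ← Ideal.zero_eq_bot, ← hN]
      exact Ideal.pow_le_pow_right hn
    rw [this]
    simp
  refine { toIsHausdorff := ⟨fun x hx => ?_⟩, toIsPrecomplete := ⟨fun f hf => ?_⟩ }
  · have := hx N
    rw [SModEq.zero, hzero N le_rfl] at this
    exact (Submodule.mem_bot R).mp this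
  · refine ⟨f N, fun n => ?_⟩
    rcases le_total n N with hn | hn
    · exact hf hn
    · have := hf hn
      rw [SModEq, hzero N le_rfl] at this
      have heq : f N = f n := by
        have h2 := (Submodule.Quotient.eq _).mp this
        rw [Submodule.mem_bot, sub_eq_zero] at h2
        exact h2
      rw [heq]

end Nilp

section ProdProj

variable {A : Type u} [CommRing A] (B₁ B₂ : Type u) [CommRing B₁] [CommRing B₂] [Algebra A B₁]
  [Algebra A B₂] (T : Type u) [AddCommGroup T] [Module A T]

/-- projectivity over a product ring of a base change, from projectivity over the factors. -/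
theorem projective_prod_baseChange [Module.Projective B₁ (B₁ ⊗[A] T)]
    [Module.Projective B₂ (B₂ ⊗[A] T)] :
    Module.Projective (B₁ × B₂) ((B₁ × B₂) ⊗[A] T) := by
  -- a free presentation of `T`
  let F := T →₀ A
  let π : F →ₗ[A] T := Finsupp.linearCombination A id
  have hπ : Function.Surjective π := Finsupp.linearCombination_id_surjective A T
  obtain ⟨s₁, hs₁⟩ := Module.projective_lifting_property (π.baseChange B₁) LinearMap.id
    (LinearMap.lTensor_surjective B₁ hπ)
  obtain ⟨s₂, hs₂⟩ := Module.projective_lifting_property (π.baseChange B₂) LinearMap.id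
    (LinearMap.lTensor_surjective B₂ hπ)
  let B := B₁ × B₂
  -- `A`-linear section
  let j₁ : B₁ ⊗[A] F →ₗ[A] B ⊗[A] F :=
    LinearMap.rTensor F (LinearMap.inl A B₁ B₂)
  let j₂ : B₂ ⊗[A] F →ₗ[A] B ⊗[A] F :=
    LinearMap.rTensor F (LinearMap.inr A B₁ B₂)
  let s₀ : T →ₗ[A] B ⊗[A] F :=
    j₁ ∘ₗ (s₁.restrictScalars A) ∘ₗ (TensorProduct.mk A B₁ T 1) +
      j₂ ∘ₗ (s₂.restrictScalars A) ∘ₗ (TensorProduct.mk A B₂ T 1)
  let s : B ⊗[A] T →ₗ[B] B ⊗[A] F := LinearMap.liftBaseChange B s₀
  refine Module.Projective.of_split s (π.baseChange B) ?_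
  apply TensorProduct.AlgebraTensorModule.curry_injective
  ext t
  simp only [TensorProduct.AlgebraTensorModule.curry_apply, LinearMap.restrictScalars_comp,
    TensorProduct.curry_apply, LinearMap.coe_comp, LinearMap.coe_restrictScalars,
    Function.comp_apply, LinearMap.id_coe, id_eq]
  show (π.baseChange B) (s ((1 : B) ⊗ₜ[A] t)) = (1 : B) ⊗ₜ[A] t
  have hs1 : s ((1 : B) ⊗ₜ[A] t) = s₀ t := by
    simp [s]
  rw [hs1]
  -- naturality of `j₁`, `j₂`
  have hn₁ : ∀ z : B₁ ⊗[A] F, (π.baseChange B) (j₁ z) =
      LinearMap.rTensor T (LinearMap.inl A B₁ B₂) ((π.baseChange B₁) z) := by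
    intro z
    induction z using TensorProduct.induction_on with
    | zero => simp
    | tmul b x => simp [j₁]; rfl
    | add x y hx hy => simp only [map_add, hx, hy]
  have hn₂ : ∀ z : B₂ ⊗[A] F, (π.baseChange B) (j₂ z) =
      LinearMap.rTensor T (LinearMap.inr A B₁ B₂) ((π.baseChange B₂) z) := by
    intro z
    induction z using TensorProduct.induction_on with
    | zero => simp
    | tmul b x => simp [j₂]; rfl
    | add x y hx hy => simp only [map_add, hx, hy]
  have h₁ : (π.baseChange B₁) (s₁ ((1 : B₁) ⊗ₜ[A] t)) = (1 : B₁) ⊗ₜ[A] t :=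
    LinearMap.congr_fun hs₁ _
  have h₂ : (π.baseChange B₂) (s₂ ((1 : B₂) ⊗ₜ[A] t)) = (1 : B₂) ⊗ₜ[A] t :=
    LinearMap.congr_fun hs₂ _
  simp only [s₀, LinearMap.add_apply, LinearMap.coe_comp, LinearMap.coe_restrictScalars,
    Function.comp_apply, TensorProduct.mk_apply, map_add, hn₁, hn₂, h₁, h₂,
    LinearMap.rTensor_tmul, LinearMap.inl_apply, LinearMap.inr_apply]
  rw [← TensorProduct.add_tmul]
  congr 1
  ext <;> simp

end ProdProj

section FFlat

variable {A : Type u} [CommRing A] [IsNoetherianRing A]

/-- `A → A_f × Â` (`f`-adic completion) is faithfully flat. -/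
theorem faithfullyFlat_away_prod_completion (f : A) :
    Module.FaithfullyFlat A (Localization.Away f × AdicCompletion (Ideal.span {f}) A) := by
  haveI : Module.Flat A (AdicCompletion (Ideal.span {f}) A) :=
    AdicCompletion.flat_of_isNoetherian _
  haveI : Module.Flat A (Localization.Away f × AdicCompletion (Ideal.span {f}) A) :=
    Groth.Agent.Lib.helper3.CplProj.flat_prod
  refine ⟨fun m hm htop => ?_⟩
  haveI := hm.isPrime
  have h1 : ((1 : Localization.Away f), (1 : AdicCompletion (Ideal.span {f}) A)) ∈
      m • (⊤ : Submodule A (Localization.Away f × AdicCompletion (Ideal.span {f}) A)) := by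
    rw [htop]; trivial
  by_cases hf : f ∈ m
  · -- use the completion
    let ρ : AdicCompletion (Ideal.span {f}) A →ₐ[A] A ⧸ m :=
      (Ideal.Quotient.factorₐ A (show Ideal.span {f} ≤ m by
        rw [Ideal.span_le]; simpa using hf)).comp (AdicCompletion.evalOneₐ (Ideal.span {f}))
    have h2 := Submodule.smul_top_le_comap_smul_top m
      (ρ.toLinearMap ∘ₗ LinearMap.snd A (Localization.Away f)
        (AdicCompletion (Ideal.span {f}) A)) h1
    rw [Submodule.mem_comap] at h2
    have h3 : (m • ⊤ : Submodule A (A ⧸ m)) = ⊥ := by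
      rw [eq_bot_iff]
      intro x hx
      refine Submodule.smul_induction_on hx ?_ ?_
      · intro r hr y _
        obtain ⟨y, rfl⟩ := Ideal.Quotient.mk_surjective y
        rw [Submodule.mem_bot, Algebra.smul_def, Ideal.Quotient.algebraMap_eq, ← map_mul,
          Ideal.Quotient.eq_zero_iff_mem]
        exact Ideal.mul_mem_right _ _ hr
      · intro a b ha hb
        exact Submodule.add_mem _ ha hb
    rw [h3, Submodule.mem_bot] at h2
    have h4 : (1 : A ⧸ m) = 0 := by
      simpa using h2
    exact one_ne_zero h4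
  · -- use the localization
    have h2 := Submodule.smul_top_le_comap_smul_top m
      (LinearMap.fst A (Localization.Away f) (AdicCompletion (Ideal.span {f}) A)) h1
    rw [Submodule.mem_comap, LinearMap.fst_apply, Ideal.smul_top_eq_map] at h2
    have h3 : m.map (algebraMap A (Localization.Away f)) = ⊤ :=
      (Ideal.eq_top_iff_one _).mpr h2
    have hdisj : Disjoint (Submonoid.powers f : Set A) (m : Set A) := by
      rw [Set.disjoint_left]
      rintro x ⟨n, rfl⟩ hx
      exact hf (hm.isPrime.mem_of_pow_mem n hx)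
    exact (IsLocalization.map_algebraMap_ne_top_iff_disjoint (Submonoid.powers f)
      (Localization.Away f) m).mpr hdisj h3

end FFlat

section N1

variable {A T : Type u} [CommRing A] [IsNoetherianRing A] [CommRing T] [Algebra A T]
  [Algebra.FiniteType A T] [Module.Flat A T]

/-- transport of the inductive hypothesis to the form needed by `projective_of_isAdicComplete`. -/
theorem projective_quot_of_H (B : Type u) [CommRing B] [Algebra A B] (J₂ : Ideal B)
    (hH : Module.Projective (B ⧸ J₂) ((B ⧸ J₂) ⊗[A] T)) :
    Module.Projective (B ⧸ J₂) ((B ⊗[A] T) ⧸ (J₂ • ⊤ : Submodule B (B ⊗[A] T))) := by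
  let e1 : (B ⧸ J₂) ⊗[B] (B ⊗[A] T) ≃ₗ[B ⧸ J₂] (B ⧸ J₂) ⊗[A] T :=
    TensorProduct.AlgebraTensorModule.cancelBaseChange A B (B ⧸ J₂) (B ⧸ J₂) T
  let e2 : (B ⧸ J₂) ⊗[B] (B ⊗[A] T) ≃ₗ[B] (B ⊗[A] T) ⧸ (J₂ • ⊤ : Submodule B (B ⊗[A] T)) :=
    TensorProduct.quotTensorEquivQuotSMul (B ⊗[A] T) J₂
  let e2' : (B ⧸ J₂) ⊗[B] (B ⊗[A] T) ≃ₗ[B ⧸ J₂]
      (B ⊗[A] T) ⧸ (J₂ • ⊤ : Submodule B (B ⊗[A] T)) :=
    LinearEquiv.extendScalarsOfSurjective Ideal.Quotient.mk_surjective e2
  exact Module.Projective.of_equiv (e1.symm.trans e2')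

theorem projective_of_forall_quotient (hgi : GIF A T)
    (H : ∀ J : Ideal A, J ≠ ⊥ → ∀ (A'' : Type u) [CommRing A''] [Algebra A A''],
      J ≤ RingHom.ker (algebraMap A A'') → Module.Projective A'' (A'' ⊗[A] T)) :
    Module.Projective A T := by
  have hlid : ∀ (J : Ideal A), Module.Projective (A ⧸ J)
      ((A ⊗[A] T) ⧸ (J • ⊤ : Submodule A (A ⊗[A] T))) →
      Module.Projective (A ⧸ J) (T ⧸ (J • ⊤ : Submodule A T)) := by
    intro J hJ
    have hle : (J • ⊤ : Submodule A (A ⊗[A] T)) ≤
        (J • ⊤ : Submodule A T).comap (TensorProduct.lid A T).toLinearMap :=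
      Submodule.smul_top_le_comap_smul_top J _
    let e : ((A ⊗[A] T) ⧸ (J • ⊤ : Submodule A (A ⊗[A] T))) ≃ₗ[A]
        (T ⧸ (J • ⊤ : Submodule A T)) :=
      Submodule.Quotient.equiv _ _ (TensorProduct.lid A T) (by
        apply le_antisymm
        · rw [Submodule.map_le_iff_le_comap]; exact hle
        · intro x hx
          refine ⟨(TensorProduct.lid A T).symm x, ?_, by simp⟩
          exact Submodule.smul_top_le_comap_smul_top J (TensorProduct.lid A T).symm.toLinearMap hx)
    let e' := LinearEquiv.extendScalarsOfSurjective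
      (Ideal.Quotient.mk_surjective (I := J)) e
    exact Module.Projective.of_equiv e'
  by_cases hred : IsReduced A
  · -- reduced case
    by_cases hsub : Subsingleton A
    · haveI : Subsingleton T := Module.subsingleton A T
      exact Module.Projective.of_free
    · haveI : Nontrivial A := not_subsingleton_iff_nontrivial.mp hsub
      obtain ⟨U, hUo, hUd, hU⟩ := Groth.Agent.S9158.result A T T
      obtain ⟨u, hu⟩ := hUd.nonempty
      obtain ⟨f, hfu, -, hfree, -⟩ := hU u hu
      have hf0 : f ≠ 0 := fun h => hfu (h ▸ u.asIdeal.zero_mem)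
      set J : Ideal A := Ideal.span {f} with hJ
      have hJ0 : J ≠ ⊥ := by
        intro h
        apply hf0
        have : f ∈ J := Ideal.subset_span rfl
        rwa [h, Ideal.mem_bot] at this
      -- the localization
      let B₁ := Localization.Away f
      haveI : Module.Projective B₁ (B₁ ⊗[A] T) := by
        haveI := hfree
        let e := (IsLocalizedModule.isBaseChange (Submonoid.powers f) B₁
          (LocalizedModule.mkLinearMap (Submonoid.powers f) T)).equiv
        exact Module.Projective.of_equiv e.symm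
      -- the completion
      let B₂ := AdicCompletion J A
      haveI : IsNoetherianRing B₂ :=
        Groth.Agent.S0542.result A J (IsNoetherian.noetherian J)
      haveI : Module.Flat A B₂ := AdicCompletion.flat_of_isNoetherian J
      set J₂ : Ideal B₂ := J.map (algebraMap A B₂) with hJ₂
      haveI : IsAdicComplete J₂ B₂ :=
        AdicCompletion.isAdicComplete_self J (IsNoetherian.noetherian J)
      have hker : J ≤ RingHom.ker (algebraMap A (B₂ ⧸ J₂)) := by
        intro a ha
        rw [RingHom.mem_ker, IsScalarTower.algebraMap_apply A B₂ (B₂ ⧸ J₂),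
          Ideal.Quotient.algebraMap_eq, Ideal.Quotient.eq_zero_iff_mem]
        exact Ideal.mem_map_of_mem _ ha
      haveI : Module.Projective (B₂ ⧸ J₂)
          ((B₂ ⊗[A] T) ⧸ (J₂ • ⊤ : Submodule B₂ (B₂ ⊗[A] T))) :=
        projective_quot_of_H B₂ J₂ (H J hJ0 (B₂ ⧸ J₂) hker)
      haveI : Module.Projective B₂ (B₂ ⊗[A] T) :=
        projective_of_isAdicComplete (R := B₂) (S := B₂ ⊗[A] T) J₂ (hgi.baseChange B₂)
      haveI := faithfullyFlat_away_prod_completion f
      haveI := projective_prod_baseChange (A := A) B₁ B₂ T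
      exact Groth.Agent.S0585.result A (B₁ × B₂) T
  · -- non-reduced case
    set J : Ideal A := nilradical A with hJ
    have hJ0 : J ≠ ⊥ := fun h => hred (nilradical_eq_bot_iff.mp h)
    haveI : IsAdicComplete J A :=
      isAdicComplete_of_isNilpotent J (IsNoetherianRing.isNilpotent_nilradical A)
    have hker : J ≤ RingHom.ker (algebraMap A (A ⧸ J)) := by
      rw [Ideal.Quotient.algebraMap_eq, Ideal.mk_ker]
    haveI : Module.Projective (A ⧸ J) (T ⧸ (J • ⊤ : Submodule A T)) :=
      hlid J (projective_quot_of_H A J (H J hJ0 (A ⧸ J) hker))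
    exact projective_of_isAdicComplete J hgi

end N1

section Induction

variable {R S : Type u} [CommRing R] [IsNoetherianRing R] [CommRing S] [Algebra R S]
  [Algebra.FiniteType R S] [Module.Flat R S]

/-- **Noetherian case** (Stacks 05FX). -/
theorem projective_of_noetherian (hgi : GIF R S) : Module.Projective R S := by
  have key : ∀ I : Ideal R, ∀ (A' : Type u) [CommRing A'] [Algebra R A'],
      I ≤ RingHom.ker (algebraMap R A') → Module.Projective A' (A' ⊗[R] S) := by
    intro I
    induction I using IsNoetherian.induction with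
    | hgt I IH =>
      intro A' _ _ hI
      let A := R ⧸ I
      have hA : Module.Projective A (A ⊗[R] S) := by
        apply projective_of_forall_quotient (hgi.baseChange A)
        intro J' hJ' A'' _ _ hker
        letI : Algebra R A'' := ((algebraMap A A'').comp (algebraMap R A)).toAlgebra
        haveI : IsScalarTower R A A'' := IsScalarTower.of_algebraMap_eq (fun _ => rfl)
        set J := J'.comap (Ideal.Quotient.mk I) with hJ
        have hIJ : I < J := by
          refine lt_of_le_of_ne ?_ ?_
          · intro x hx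
            rw [hJ, Ideal.mem_comap, Ideal.Quotient.eq_zero_iff_mem.mpr hx]
            exact J'.zero_mem
          · intro h
            apply hJ'
            have := Ideal.map_comap_of_surjective (Ideal.Quotient.mk I)
              Ideal.Quotient.mk_surjective J'
            rw [← hJ, ← h, Ideal.map_quotient_self] at this
            exact this.symm
        have hker' : J ≤ RingHom.ker (algebraMap R A'') := by
          intro x hx
          rw [RingHom.mem_ker, IsScalarTower.algebraMap_apply R A A'']
          exact hker hx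
        haveI := IH J hIJ A'' hker'
        let e : A'' ⊗[A] (A ⊗[R] S) ≃ₗ[A''] A'' ⊗[R] S :=
          TensorProduct.AlgebraTensorModule.cancelBaseChange R A A'' A'' S
        exact Module.Projective.of_equiv e.symm
      letI : Algebra A A' := (Ideal.Quotient.lift I (algebraMap R A') (fun a ha => hI ha)).toAlgebra
      haveI : IsScalarTower R A A' := IsScalarTower.of_algebraMap_eq (fun _ => rfl)
      haveI := hA
      let e : A' ⊗[A] (A ⊗[R] S) ≃ₗ[A'] A' ⊗[R] S :=
        TensorProduct.AlgebraTensorModule.cancelBaseChange R A A' A' S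
      exact Module.Projective.of_equiv e
  haveI := key ⊥ R bot_le
  exact Module.Projective.of_equiv (TensorProduct.lid R S)

end Induction

end Groth.Agent.Lib.helper3.GIProj
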