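import Mathlib
import Groth.Agent.Lib.Helper8.LocalFlat
import Groth.Agent.Lib.Helper8.MilnorFlat

/-!
# Adic separatedness of `Q ⊗ X` for complete `X` flat modulo powers (helper3; towards S0551)

`A` Noetherian, `J` an ideal, `X` a `J`-adically complete `A`-module such that `X / Jᵏ X` is flat over
`A / Jᵏ` for all `k ≥ 1`.  Then `Q ⊗ X` is `J`-adically separated for every finite `A`-module `Q`
(Stacks 0911/0912, elementwise proof with Cauchy sequences and Artin–Rees).
-/

set_option autoImplicit false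
set_option linter.style.haveILetI false
set_option linter.unusedSectionVars false
universe u

open TensorProduct

namespace Groth.Agent.Lib.helper3.CplHaus

section Basic

variable {A : Type u} [CommRing A] (J : Ideal A)

theorem isPrecomplete_of_surjective {Y Z : Type u} [AddCommGroup Y] [Module A Y] [AddCommGroup Z]
    [Module A Z] (p : Y →ₗ[A] Z) (hp : Function.Surjective p) [IsPrecomplete J Y] :
    IsPrecomplete J Z := by
  rw [← AdicCompletion.of_surjective_iff]
  have h1 : Function.Surjective (AdicCompletion.of J Y) := AdicCompletion.of_surjective J Y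
  have h2 : Function.Surjective (AdicCompletion.map J p) := AdicCompletion.map_surjective J hp
  intro z
  obtain ⟨y', hy'⟩ := h2 z
  obtain ⟨y, rfl⟩ := h1 y'
  exact ⟨p y, by rw [← hy', AdicCompletion.map_of]⟩

theorem isHausdorff_of_injective {Y Z : Type u} [AddCommGroup Y] [Module A Y] [AddCommGroup Z]
    [Module A Z] (e : Z →ₗ[A] Y) (he : Function.Injective e) [IsHausdorff J Y] :
    IsHausdorff J Z := by
  constructor
  intro z hz
  apply he
  rw [map_zero]
  apply IsHausdorff.haus ‹IsHausdorff J Y›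
  intro n
  have h1 := hz n
  rw [SModEq.zero] at h1 ⊢
  exact Submodule.smul_top_le_comap_smul_top (J ^ n) e h1

theorem mem_smul_top_pi_iff {b : ℕ} (X : Type u) [AddCommGroup X] [Module A X] (𝔞 : Ideal A)
    (y : Fin b → X) :
    y ∈ 𝔞 • (⊤ : Submodule A (Fin b → X)) ↔ ∀ i, y i ∈ 𝔞 • (⊤ : Submodule A X) := by
  classical
  constructor
  · intro h i
    exact Submodule.smul_top_le_comap_smul_top 𝔞
      (LinearMap.proj (R := A) (φ := fun _ : Fin b => X) i) h
  · intro h
    have hsum : y = ∑ i, (LinearMap.single A (fun _ : Fin b => X) i) (y i) := by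
      funext j
      simp [Finset.sum_apply, Pi.single_apply]
    rw [hsum]
    refine Submodule.sum_mem _ (fun i _ => ?_)
    exact Submodule.smul_top_le_comap_smul_top 𝔞 (LinearMap.single A (fun _ : Fin b => X) i) (h i)

theorem isHausdorff_pi (b : ℕ) (X : Type u) [AddCommGroup X] [Module A X] [IsHausdorff J X] :
    IsHausdorff J (Fin b → X) := by
  constructor
  intro y hy
  funext i
  apply IsHausdorff.haus ‹IsHausdorff J X›
  intro n
  have h1 := hy n
  rw [SModEq.zero] at h1 ⊢
  exact (mem_smul_top_pi_iff X (J ^ n) y).mp h1 i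

theorem isPrecomplete_pi (b : ℕ) (X : Type u) [AddCommGroup X] [Module A X] [IsPrecomplete J X] :
    IsPrecomplete J (Fin b → X) := by
  constructor
  intro f hf
  have hi : ∀ i : Fin b, ∃ L : X, ∀ n, f n i ≡ L [SMOD (J ^ n • ⊤ : Submodule A X)] := by
    intro i
    apply IsPrecomplete.prec ‹IsPrecomplete J X›
    intro m n hmn
    have h1 := hf hmn
    rw [SModEq.sub_mem] at h1 ⊢
    exact (mem_smul_top_pi_iff X (J ^ m) _).mp h1 i
  choose L hL using hi
  refine ⟨L, fun n => ?_⟩
  rw [SModEq.sub_mem]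
  rw [mem_smul_top_pi_iff]
  intro i
  have := hL i n
  rw [SModEq.sub_mem] at this
  exact this

/-- `(Fin b → A) ⊗ X ≃ (Fin b → X)`. -/
noncomputable def freeTensorEquiv (b : ℕ) (X : Type u) [AddCommGroup X] [Module A X] :
    (Fin b → A) ⊗[A] X ≃ₗ[A] (Fin b → X) :=
  (TensorProduct.comm A (Fin b → A) X).trans (TensorProduct.piScalarRight A A X (Fin b))

theorem isHausdorff_free_tensor (b : ℕ) (X : Type u) [AddCommGroup X] [Module A X]
    [IsHausdorff J X] : IsHausdorff J ((Fin b → A) ⊗[A] X) := by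
  haveI := isHausdorff_pi J b X
  exact isHausdorff_of_injective J (freeTensorEquiv b X).toLinearMap (freeTensorEquiv b X).injective

theorem isPrecomplete_free_tensor (b : ℕ) (X : Type u) [AddCommGroup X] [Module A X]
    [IsPrecomplete J X] : IsPrecomplete J ((Fin b → A) ⊗[A] X) := by
  haveI := isPrecomplete_pi J b X
  exact isPrecomplete_of_surjective J (freeTensorEquiv b X).symm.toLinearMap
    (freeTensorEquiv b X).symm.surjective

theorem isPrecomplete_tensor_of_finite (T X : Type u) [AddCommGroup T] [Module A T]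
    [Module.Finite A T] [AddCommGroup X] [Module A X] [IsPrecomplete J X] :
    IsPrecomplete J (T ⊗[A] X) := by
  obtain ⟨a, π, hπ⟩ := Module.Finite.exists_fin' A T
  haveI := isPrecomplete_free_tensor J a X
  exact isPrecomplete_of_surjective J (π.rTensor X) (LinearMap.rTensor_surjective X hπ)

end Basic

section AR

open Groth.Agent.Lib.helper8.LocalFlat Groth.Agent.Lib.helper8.Mil

variable {A : Type u} [CommRing A] (J : Ideal A)

/-- `(inclusion G ≤ K) ⊗ X` has range in `𝔞 • ⊤` when `G ≤ 𝔞 • K`. -/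
theorem range_inclusion_rTensor_le' {F : Type u} [AddCommGroup F] [Module A F] (X : Type u)
    [AddCommGroup X] [Module A X] (𝔞 : Ideal A) (K G : Submodule A F) (hG : G ≤ K)
    (h : G ≤ 𝔞 • K) (y : G ⊗[A] X) :
    (Submodule.inclusion hG).rTensor X y ∈ 𝔞 • (⊤ : Submodule A (K ⊗[A] X)) := by
  have key : ∀ c ∈ 𝔞 • K, ∃ hc : c ∈ K, ∀ x : X,
      (⟨c, hc⟩ : K) ⊗ₜ[A] x ∈ 𝔞 • (⊤ : Submodule A (K ⊗[A] X)) := by
    intro c hc
    refine Submodule.smul_induction_on hc ?_ ?_
    · intro a ha κ hκ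
      refine ⟨K.smul_mem a hκ, fun x => ?_⟩
      have : (⟨a • κ, K.smul_mem a hκ⟩ : K) = a • (⟨κ, hκ⟩ : K) := rfl
      rw [this, ← TensorProduct.smul_tmul']
      exact Submodule.smul_mem_smul ha Submodule.mem_top
    · rintro c₁ c₂ ⟨hc₁, h₁⟩ ⟨hc₂, h₂⟩
      refine ⟨K.add_mem hc₁ hc₂, fun x => ?_⟩
      have : (⟨c₁ + c₂, K.add_mem hc₁ hc₂⟩ : K) = ⟨c₁, hc₁⟩ + ⟨c₂, hc₂⟩ := rfl
      rw [this, TensorProduct.add_tmul]
      exact Submodule.add_mem _ (h₁ x) (h₂ x)
  induction y using TensorProduct.induction_on with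
  | zero => simp
  | add a b ha hb => rw [map_add]; exact Submodule.add_mem _ ha hb
  | tmul g x =>
    obtain ⟨hc, hx⟩ := key g.1 (h g.2)
    exact hx x

theorem rTensor_mkQ_eq_zero {F : Type u} [AddCommGroup F] [Module A F] (X : Type u)
    [AddCommGroup X] [Module A X] (𝔞 : Ideal A) (w : F ⊗[A] X)
    (hw : w ∈ 𝔞 • (⊤ : Submodule A (F ⊗[A] X))) :
    (𝔞 • (⊤ : Submodule A F)).mkQ.rTensor X w = 0 := by
  refine Submodule.smul_induction_on hw ?_ ?_
  · intro a ha t _
    rw [map_smul]
    have key : ∀ t : F ⊗[A] X, a • (𝔞 • (⊤ : Submodule A F)).mkQ.rTensor X t = 0 := by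
      intro t
      induction t using TensorProduct.induction_on with
      | zero => simp
      | add x y hx hy => rw [map_add, smul_add, hx, hy, add_zero]
      | tmul f x =>
        rw [LinearMap.rTensor_tmul, TensorProduct.smul_tmul', ← map_smul]
        have : (𝔞 • (⊤ : Submodule A F)).mkQ (a • f) = 0 := by
          rw [Submodule.mkQ_apply, Submodule.Quotient.mk_eq_zero]
          exact Submodule.smul_mem_smul ha Submodule.mem_top
        rw [this, TensorProduct.zero_tmul]
    exact key t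
  · intro x y hx hy
    rw [map_add, hx, hy, add_zero]

/-- Artin–Rees + flatness modulo powers. -/
theorem exists_mem_pow_smul_top [IsNoetherianRing A] (X : Type u) [AddCommGroup X] [Module A X]
    (h : ∀ k : ℕ, 0 < k → Module.Flat (A ⧸ J ^ k) ((A ⧸ J ^ k) ⊗[A] X))
    {F : Type u} [AddCommGroup F] [Module A F] [Module.Finite A F] (K : Submodule A F) :
    ∃ c : ℕ, ∀ (m : ℕ) (v : K ⊗[A] X),
      K.subtype.rTensor X v ∈ J ^ (m + c + 1) • (⊤ : Submodule A (F ⊗[A] X)) →
        v ∈ J ^ m • (⊤ : Submodule A (K ⊗[A] X)) := by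
  obtain ⟨c, hc⟩ := Ideal.exists_pow_inf_eq_pow_smul J K
  refine ⟨c, fun m v hv => ?_⟩
  set k := m + c + 1 with hk
  haveI := h k (by omega)
  let G : Submodule A F := J ^ k • ⊤ ⊓ K
  let μ : G →ₗ[A] K := Submodule.inclusion inf_le_right
  let ι : K →ₗ[A] F ⧸ (J ^ k • ⊤ : Submodule A F) := (J ^ k • ⊤ : Submodule A F).mkQ ∘ₗ K.subtype
  have hrange : ∀ κ : K, κ ∈ LinearMap.range μ ↔ κ.1 ∈ (J ^ k • ⊤ : Submodule A F) := by
    intro κ
    constructor
    · rintro ⟨z, rfl⟩
      exact z.2.1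
    · intro hκ
      exact ⟨⟨κ.1, hκ, κ.2⟩, Subtype.ext rfl⟩
  have hle : LinearMap.range μ ≤ LinearMap.ker ι := by
    intro κ hκ
    rw [LinearMap.mem_ker]
    show (J ^ k • ⊤ : Submodule A F).mkQ κ.1 = 0
    rw [Submodule.mkQ_apply, Submodule.Quotient.mk_eq_zero]
    exact (hrange κ).mp hκ
  let g : (K ⧸ LinearMap.range μ) →ₗ[A] F ⧸ (J ^ k • ⊤ : Submodule A F) :=
    (LinearMap.range μ).liftQ ι hle
  have hg : Function.Injective g := by
    rw [injective_iff_map_eq_zero]
    intro z hz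
    obtain ⟨κ, rfl⟩ := Submodule.mkQ_surjective _ z
    rw [Submodule.mkQ_apply, Submodule.liftQ_apply] at hz
    have hz' : (J ^ k • ⊤ : Submodule A F).mkQ κ.1 = 0 := hz
    rw [Submodule.mkQ_apply, Submodule.Quotient.mk_eq_zero] at hz'
    rw [Submodule.mkQ_apply, Submodule.Quotient.mk_eq_zero]
    exact (hrange κ).mpr hz'
  have hQ₁ : ∀ j ∈ J ^ k, ∀ q : K ⧸ LinearMap.range μ, j • q = 0 := by
    intro j hj q
    obtain ⟨κ, rfl⟩ := Submodule.mkQ_surjective _ q
    rw [← map_smul, Submodule.mkQ_apply, Submodule.Quotient.mk_eq_zero, hrange]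
    exact Submodule.smul_mem_smul hj Submodule.mem_top
  have hQ₂ : ∀ j ∈ J ^ k, ∀ q : F ⧸ (J ^ k • ⊤ : Submodule A F), j • q = 0 := by
    intro j hj q
    obtain ⟨f, rfl⟩ := Submodule.mkQ_surjective _ q
    rw [← map_smul, Submodule.mkQ_apply, Submodule.Quotient.mk_eq_zero]
    exact Submodule.smul_mem_smul hj Submodule.mem_top
  have hιv : ι.rTensor X v = 0 := by
    show ((J ^ k • ⊤ : Submodule A F).mkQ ∘ₗ K.subtype).rTensor X v = 0
    rw [LinearMap.rTensor_comp, LinearMap.comp_apply]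
    exact rTensor_mkQ_eq_zero X (J ^ k) _ hv
  obtain ⟨y, rfl⟩ := exists_rTensor_eq_of_chase₁ X μ ι (LinearMap.range μ).mkQ
    LinearMap.id g (LinearMap.exact_map_mkQ_range μ) (Submodule.mkQ_surjective _)
    (by ext κ; rfl) (rTensor_injective_of_torsion (J ^ k) X hQ₁ hQ₂ g hg) v hιv
  have h1 : G ≤ J ^ m • K := by
    have h2 := hc k (by omega)
    have h3 : k - c = m + 1 := by omega
    rw [h3] at h2
    show J ^ k • ⊤ ⊓ K ≤ J ^ m • K
    rw [h2]
    exact Submodule.smul_mono (Ideal.pow_le_pow_right (Nat.le_succ m)) inf_le_right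
  exact range_inclusion_rTensor_le' X (J ^ m) K G inf_le_right h1 y

end AR

section Main

variable {A : Type u} [CommRing A] [IsNoetherianRing A] (J : Ideal A)

/-- **Separatedness of `Q ⊗ X`** for `X` complete and flat modulo powers of `J`. -/
theorem isHausdorff_tensor (X : Type u) [AddCommGroup X] [Module A X] [IsAdicComplete J X]
    (h : ∀ k : ℕ, 0 < k → Module.Flat (A ⧸ J ^ k) ((A ⧸ J ^ k) ⊗[A] X))
    (Q : Type u) [AddCommGroup Q] [Module A Q] [Module.Finite A Q] :
    IsHausdorff J (Q ⊗[A] X) := by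
  obtain ⟨b, π, hπ⟩ := Module.Finite.exists_fin' A Q
  let K : Submodule A (Fin b → A) := LinearMap.ker π
  haveI : IsHausdorff J ((Fin b → A) ⊗[A] X) := isHausdorff_free_tensor J b X
  haveI : IsPrecomplete J (K ⊗[A] X) := isPrecomplete_tensor_of_finite J K X
  obtain ⟨c, hc⟩ := exists_mem_pow_smul_top J X h K
  have hex : Function.Exact (K.subtype.rTensor X) (π.rTensor X) :=
    rTensor_exact X (LinearMap.exact_subtype_ker_map π) hπ
  have hsurj := LinearMap.rTensor_surjective X hπ
  constructor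
  intro z hz
  obtain ⟨w, rfl⟩ := hsurj z
  have h1 : ∀ n, ∃ v : K ⊗[A] X, w - K.subtype.rTensor X v ∈
      J ^ n • (⊤ : Submodule A ((Fin b → A) ⊗[A] X)) := by
    intro n
    have h2 := hz n
    rw [SModEq.zero] at h2
    have h3 : (J ^ n • ⊤ : Submodule A (Q ⊗[A] X)) =
        Submodule.map (π.rTensor X) (J ^ n • ⊤) := by
      rw [Submodule.map_smul'', Submodule.map_top, LinearMap.range_eq_top.mpr hsurj]
    rw [h3] at h2
    obtain ⟨u, hu, hu'⟩ := h2
    have h4 : π.rTensor X (w - u) = 0 := by rw [map_sub, hu', sub_self]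
    obtain ⟨v, hv⟩ := (hex _).mp h4
    refine ⟨v, ?_⟩
    rw [hv, sub_sub_cancel]
    exact hu
  choose v hv using h1
  let v' : ℕ → K ⊗[A] X := fun m => v (m + c + 1)
  have hcauchy : AdicCompletion.IsAdicCauchy J (K ⊗[A] X) v' := by
    rw [AdicCompletion.isAdicCauchy_iff]
    intro m
    rw [SModEq.sub_mem]
    apply hc m
    rw [map_sub]
    have e : K.subtype.rTensor X (v' m) - K.subtype.rTensor X (v' (m + 1)) =
        (w - K.subtype.rTensor X (v' (m + 1))) - (w - K.subtype.rTensor X (v' m)) := by abel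
    rw [e]
    refine Submodule.sub_mem _ ?_ (hv (m + c + 1))
    have := hv (m + 1 + c + 1)
    exact Submodule.smul_mono_left (Ideal.pow_le_pow_right (by omega)) this
  obtain ⟨L, hL⟩ := IsPrecomplete.prec ‹IsPrecomplete J (K ⊗[A] X)› hcauchy
  have hwL : w = K.subtype.rTensor X L := by
    rw [← sub_eq_zero]
    apply IsHausdorff.haus ‹IsHausdorff J ((Fin b → A) ⊗[A] X)›
    intro n
    rw [SModEq.zero]
    have e : w - K.subtype.rTensor X L =
        (w - K.subtype.rTensor X (v' n)) + K.subtype.rTensor X (v' n - L) := by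
      rw [map_sub]; abel
    rw [e]
    refine Submodule.add_mem _ ?_ ?_
    · exact Submodule.smul_mono_left (Ideal.pow_le_pow_right (by omega)) (hv (n + c + 1))
    · have := hL n
      rw [SModEq.sub_mem] at this
      exact Submodule.smul_top_le_comap_smul_top (J ^ n) (K.subtype.rTensor X) this
  rw [hwL]
  exact hex.apply_apply_eq_zero L

end Main

end Groth.Agent.Lib.helper3.CplHaus
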