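import Mathlib
import Groth.Agent.Lib.Helper3.CplHaus1

set_option autoImplicit false
set_option linter.style.haveILetI false
set_option linter.unusedSectionVars false
universe u

open TensorProduct

namespace Groth.Agent.Lib.helper3.CplHaus

section Transfer

theorem isBaseChange_of_bijective {R₁ R₂ : Type u} [CommRing R₁] [CommRing R₂] [Algebra R₁ R₂]
    (hφ : Function.Bijective (algebraMap R₁ R₂)) {M₁ M₂ : Type u} [AddCommGroup M₁] [Module R₁ M₁]
    [AddCommGroup M₂] [Module R₂ M₂] [Module R₁ M₂] [IsScalarTower R₁ R₂ M₂]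
    (g : M₁ →ₗ[R₁] M₂) (hg : Function.Bijective g) : IsBaseChange R₂ g := by
  have hform : ∀ z : R₂ ⊗[R₁] M₁, ∃ m : M₁, z = 1 ⊗ₜ m := by
    intro z
    induction z using TensorProduct.induction_on with
    | zero => exact ⟨0, by simp⟩
    | tmul b m =>
      obtain ⟨a, rfl⟩ := hφ.2 b
      refine ⟨a • m, ?_⟩
      rw [← TensorProduct.smul_tmul, Algebra.smul_def, mul_one]
    | add x y hx hy =>
      obtain ⟨m, rfl⟩ := hx
      obtain ⟨m', rfl⟩ := hy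
      exact ⟨m + m', by rw [tmul_add]⟩
  have key : ∀ m : M₁, (TensorProduct.lift (((Algebra.linearMap R₂ <|
      Module.End R₂ (M₁ →ₗ[R₁] M₂)).flip g).restrictScalars R₁)) ((1 : R₂) ⊗ₜ[R₁] m) = g m := by
    intro m
    simp
  constructor
  · rw [injective_iff_map_eq_zero]
    intro z hz
    obtain ⟨m, rfl⟩ := hform z
    rw [key] at hz
    have h2 : m = 0 := hg.1 (by rw [hz, map_zero])
    rw [h2, tmul_zero]
  · intro n
    obtain ⟨m, rfl⟩ := hg.2 n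
    exact ⟨1 ⊗ₜ m, key m⟩

theorem flat_of_bijective {R₁ R₂ : Type u} [CommRing R₁] [CommRing R₂] [Algebra R₁ R₂]
    (hφ : Function.Bijective (algebraMap R₁ R₂)) {M₁ M₂ : Type u} [AddCommGroup M₁] [Module R₁ M₁]
    [AddCommGroup M₂] [Module R₂ M₂] [Module R₁ M₂] [IsScalarTower R₁ R₂ M₂]
    (g : M₁ →ₗ[R₁] M₂) (hg : Function.Bijective g) [Module.Flat R₁ M₁] : Module.Flat R₂ M₂ :=
  Module.Flat.isBaseChange (R := R₁) (S := R₂) (M := M₁) M₂ (isBaseChange_of_bijective hφ g hg)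

end Transfer

section QuotTransfer

variable {R A : Type u} [CommRing R] [CommRing A] [Algebra R A] (𝔞 : Ideal R) (𝔟 : Ideal A)

/-- transfer of flatness of `M/𝔞M` over `R/𝔞` to `X/𝔟X` over `A/𝔟` when `R/𝔞 ≅ A/𝔟` and
`M/𝔞M ≅ X/𝔟X` compatibly. -/
theorem flat_quot_transfer
    (h1 : 𝔞.map (algebraMap R A) ≤ 𝔟)
    (h2 : ∀ a : A, ∃ r : R, a - algebraMap R A r ∈ 𝔟)
    (h3 : ∀ r : R, algebraMap R A r ∈ 𝔟 → r ∈ 𝔞)
    {M X : Type u} [AddCommGroup M] [Module R M] [AddCommGroup X] [Module A X] [Module R X]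
    [IsScalarTower R A X] (f : M →ₗ[R] X)
    (h4 : ∀ x : X, ∃ m : M, x - f m ∈ 𝔟 • (⊤ : Submodule A X))
    (h5 : ∀ m : M, f m ∈ 𝔟 • (⊤ : Submodule A X) → m ∈ 𝔞 • (⊤ : Submodule R M))
    [Module.Flat (R ⧸ 𝔞) (M ⧸ 𝔞 • (⊤ : Submodule R M))] :
    Module.Flat (A ⧸ 𝔟) (X ⧸ 𝔟 • (⊤ : Submodule A X)) := by
  have hle : 𝔞 ≤ 𝔟.comap (algebraMap R A) := Ideal.map_le_iff_le_comap.mp h1
  let φ : R ⧸ 𝔞 →+* A ⧸ 𝔟 := Ideal.quotientMap 𝔟 (algebraMap R A) hle
  letI : Algebra (R ⧸ 𝔞) (A ⧸ 𝔟) := φ.toAlgebra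
  have hφ : Function.Bijective (algebraMap (R ⧸ 𝔞) (A ⧸ 𝔟)) := by
    constructor
    · rw [injective_iff_map_eq_zero]
      intro r hr
      obtain ⟨r, rfl⟩ := Ideal.Quotient.mk_surjective r
      have h : φ (Ideal.Quotient.mk 𝔞 r) = 0 := hr
      rw [Ideal.quotientMap_mk, Ideal.Quotient.eq_zero_iff_mem] at h
      exact Ideal.Quotient.eq_zero_iff_mem.mpr (h3 r h)
    · intro a
      obtain ⟨a, rfl⟩ := Ideal.Quotient.mk_surjective a
      obtain ⟨r, hr⟩ := h2 a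
      refine ⟨Ideal.Quotient.mk 𝔞 r, ?_⟩
      show φ (Ideal.Quotient.mk 𝔞 r) = _
      rw [Ideal.quotientMap_mk]
      exact (Ideal.Quotient.eq.mpr hr).symm
  letI : Module (R ⧸ 𝔞) (X ⧸ 𝔟 • (⊤ : Submodule A X)) := Module.compHom _ φ
  haveI : IsScalarTower (R ⧸ 𝔞) (A ⧸ 𝔟) (X ⧸ 𝔟 • (⊤ : Submodule A X)) :=
    IsScalarTower.of_algebraMap_smul (fun r y => rfl)
  let g₀ : M →ₗ[R] X ⧸ 𝔟 • (⊤ : Submodule A X) :=
    ((𝔟 • (⊤ : Submodule A X)).mkQ.restrictScalars R) ∘ₗ f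
  have hg₀ : 𝔞 • (⊤ : Submodule R M) ≤ LinearMap.ker g₀ := by
    rw [Submodule.smul_le]
    intro a ha m _
    rw [LinearMap.mem_ker]
    show (𝔟 • (⊤ : Submodule A X)).mkQ (f (a • m)) = 0
    rw [map_smul, ← algebraMap_smul A a (f m), Submodule.mkQ_apply,
      Submodule.Quotient.mk_eq_zero]
    exact Submodule.smul_mem_smul (h1 (Ideal.mem_map_of_mem _ ha)) Submodule.mem_top
  let g' : (M ⧸ 𝔞 • (⊤ : Submodule R M)) →ₗ[R] X ⧸ 𝔟 • (⊤ : Submodule A X) :=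
    (𝔞 • (⊤ : Submodule R M)).liftQ g₀ hg₀
  have hg'mk : ∀ m : M, g' (Submodule.Quotient.mk m) = Submodule.Quotient.mk (f m) := fun m => rfl
  let g : (M ⧸ 𝔞 • (⊤ : Submodule R M)) →ₗ[R ⧸ 𝔞] X ⧸ 𝔟 • (⊤ : Submodule A X) :=
    { toFun := g'
      map_add' := g'.map_add
      map_smul' := by
        intro r y
        obtain ⟨r, rfl⟩ := Ideal.Quotient.mk_surjective r
        obtain ⟨m, rfl⟩ := Submodule.Quotient.mk_surjective _ y
        show g' (Ideal.Quotient.mk 𝔞 r • Submodule.Quotient.mk m) =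
          φ (Ideal.Quotient.mk 𝔞 r) • g' (Submodule.Quotient.mk m)
        have e1 : Ideal.Quotient.mk 𝔞 r • (Submodule.Quotient.mk m : M ⧸ 𝔞 • (⊤ : Submodule R M)) =
            Submodule.Quotient.mk (r • m) := rfl
        rw [e1, hg'mk, hg'mk, Ideal.quotientMap_mk, map_smul, ← algebraMap_smul A r (f m)]
        rfl }
  have hg : Function.Bijective g := by
    constructor
    · rw [injective_iff_map_eq_zero]
      intro y hy
      obtain ⟨m, rfl⟩ := Submodule.Quotient.mk_surjective _ y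
      have h : g' (Submodule.Quotient.mk m) = 0 := hy
      rw [hg'mk, Submodule.Quotient.mk_eq_zero] at h
      exact (Submodule.Quotient.mk_eq_zero _).mpr (h5 m h)
    · intro y
      obtain ⟨x, rfl⟩ := Submodule.Quotient.mk_surjective _ y
      obtain ⟨m, hm⟩ := h4 x
      refine ⟨Submodule.Quotient.mk m, ?_⟩
      show g' (Submodule.Quotient.mk m) = _
      rw [hg'mk]
      exact ((Submodule.Quotient.eq _).mpr hm).symm
  exact flat_of_bijective hφ g hg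

end QuotTransfer

end Groth.Agent.Lib.helper3.CplHaus
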