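import Mathlib
import Groth.Agent.Lib.Helper3.CplHaus2
import Groth.Agent.Lib.Helper19.IdeallySep
import Groth.Agent.S6349
import Groth.Agent.S0542

/-!
# Flatness of the completion (helper3; S0551, Stacks 0AGW)
-/

set_option autoImplicit false
set_option linter.style.haveILetI false
set_option linter.unusedSectionVars false
universe u

open TensorProduct

namespace Groth.Agent.Lib.helper3.CplHaus

section Completion

variable {R : Type u} [CommRing R] (I : Ideal R) (M : Type u) [AddCommGroup M] [Module R M]

theorem mem_pow_smul_top_iff (hI : I.FG) (k : ℕ) (x : AdicCompletion I M) :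
    x ∈ ((I.map (algebraMap R (AdicCompletion I R))) ^ k •
      (⊤ : Submodule (AdicCompletion I R) (AdicCompletion I M))) ↔
      AdicCompletion.eval I M k x = 0 := by
  have h1 := Submodule.restrictScalars_map_smul_eq (R := AdicCompletion I R) (S := R)
    (I ^ k) (⊤ : Submodule (AdicCompletion I R) (AdicCompletion I M))
  rw [Submodule.restrictScalars_top, AdicCompletion.pow_smul_top_eq_ker_eval hI,
    Ideal.map_pow] at h1
  rw [← LinearMap.mem_ker, ← h1, Submodule.restrictScalars_mem]

theorem isAdicComplete_map (hI : I.FG) :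
    IsAdicComplete (I.map (algebraMap R (AdicCompletion I R))) (AdicCompletion I M) := by
  haveI := AdicCompletion.isAdicComplete (M := M) hI
  haveI h1 : IsHausdorff (I.map (algebraMap R (AdicCompletion I R))) (AdicCompletion I M) :=
    IsHausdorff.map_algebraMap_iff.mpr inferInstance
  haveI h2 : IsPrecomplete (I.map (algebraMap R (AdicCompletion I R))) (AdicCompletion I M) :=
    IsPrecomplete.map_algebraMap_iff.mpr inferInstance
  exact { }

theorem flat_quot_pow (hI : I.FG) [Module.Flat (R ⧸ I) (M ⧸ (I • ⊤ : Submodule R M))]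
    (hT : Function.Injective (TensorProduct.lift ((LinearMap.lsmul R M).comp (Submodule.subtype I))))
    (k : ℕ) (hk : 0 < k) :
    Module.Flat (AdicCompletion I R ⧸ (I.map (algebraMap R (AdicCompletion I R))) ^ k)
      ((AdicCompletion I R ⧸ (I.map (algebraMap R (AdicCompletion I R))) ^ k)
        ⊗[AdicCompletion I R] AdicCompletion I M) := by
  -- flatness over `R ⧸ I ^ k`
  haveI : Module.Flat (R ⧸ I) ((R ⧸ I) ⊗[R] M) :=
    Module.Flat.of_linearEquiv
      ((TensorProduct.quotTensorEquivQuotSMul M I).extendScalarsOfSurjective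
        Ideal.Quotient.mk_surjective)
  have htor : Function.Injective ((Submodule.subtype I).rTensor M) := by
    have hcomp : (TensorProduct.lid R M).toLinearMap ∘ₗ (Submodule.subtype I).rTensor M =
        TensorProduct.lift ((LinearMap.lsmul R M).comp (Submodule.subtype I)) := by
      apply TensorProduct.ext'
      intro i m
      simp
    have : Function.Injective ((TensorProduct.lid R M).toLinearMap ∘ₗ
        (Submodule.subtype I).rTensor M) := by rw [hcomp]; exact hT
    exact Function.Injective.of_comp this
  haveI hRk : Module.Flat (R ⧸ I ^ k) ((R ⧸ I ^ k) ⊗[R] M) :=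
    Groth.Agent.S6349.result R I M htor k hk
  haveI : Module.Flat (R ⧸ I ^ k) (M ⧸ (I ^ k • ⊤ : Submodule R M)) :=
    Module.Flat.of_linearEquiv
      ((TensorProduct.quotTensorEquivQuotSMul M (I ^ k)).extendScalarsOfSurjective
        Ideal.Quotient.mk_surjective).symm
  set J := I.map (algebraMap R (AdicCompletion I R)) with hJ
  have hJk : ∀ a : AdicCompletion I R, a ∈ J ^ k ↔ AdicCompletion.eval I R k a = 0 := by
    intro a
    rw [hJ, ← Ideal.map_pow, ← LinearMap.mem_ker, ← AdicCompletion.pow_smul_top_eq_ker_eval hI,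
      Ideal.smul_top_eq_map, Submodule.restrictScalars_mem]
  have hmemI : ∀ r : R, r ∈ (I ^ k • ⊤ : Submodule R R) ↔ r ∈ I ^ k := by
    intro r
    rw [smul_eq_mul, Ideal.mul_top]
  have hflat : Module.Flat (AdicCompletion I R ⧸ J ^ k)
      (AdicCompletion I M ⧸ (J ^ k • ⊤ : Submodule (AdicCompletion I R) (AdicCompletion I M))) := by
    apply flat_quot_transfer (I ^ k) (J ^ k) (le_of_eq (Ideal.map_pow _ _ _)) ?_ ?_
      (AdicCompletion.of I M) ?_ ?_
    · intro a
      obtain ⟨r, hr⟩ := Submodule.mkQ_surjective _ (AdicCompletion.eval I R k a)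
      refine ⟨r, ?_⟩
      rw [hJk, map_sub, AdicCompletion.algebraMap_apply, Algebra.algebraMap_self, RingHom.id_apply,
        AdicCompletion.eval_of, hr, sub_self]
    · intro r hr
      rw [hJk, AdicCompletion.algebraMap_apply, Algebra.algebraMap_self, RingHom.id_apply,
        AdicCompletion.eval_of, Submodule.mkQ_apply, Submodule.Quotient.mk_eq_zero] at hr
      exact (hmemI r).mp hr
    · intro x
      obtain ⟨m, hm⟩ := Submodule.mkQ_surjective _ (AdicCompletion.eval I M k x)
      refine ⟨m, ?_⟩
      rw [mem_pow_smul_top_iff I M hI, map_sub, AdicCompletion.eval_of, hm, sub_self]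
    · intro m hm
      rw [mem_pow_smul_top_iff I M hI, AdicCompletion.eval_of, Submodule.mkQ_apply,
        Submodule.Quotient.mk_eq_zero] at hm
      exact hm
  exact Module.Flat.of_linearEquiv
    ((TensorProduct.quotTensorEquivQuotSMul (AdicCompletion I M) (J ^ k)).extendScalarsOfSurjective
      Ideal.Quotient.mk_surjective)

theorem flat_adicCompletion (hI : I.FG) [IsNoetherianRing (R ⧸ I)]
    [Module.Flat (R ⧸ I) (M ⧸ (I • ⊤ : Submodule R M))]
    (hT : Function.Injective (TensorProduct.lift ((LinearMap.lsmul R M).comp (Submodule.subtype I)))) :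
    Module.Flat (AdicCompletion I R) (AdicCompletion I M) := by
  haveI : IsNoetherianRing (AdicCompletion I R) := Groth.Agent.S0542.result R I hI
  haveI := isAdicComplete_map I M hI
  have h := flat_quot_pow I M hI hT
  exact Groth.Agent.Lib.Helper19.IdeallySep.bourbaki
    (I.map (algebraMap R (AdicCompletion I R))) (AdicCompletion I M)
    (fun 𝔟 => isHausdorff_tensor _ (AdicCompletion I M) h 𝔟) h

end Completion

end Groth.Agent.Lib.helper3.CplHaus
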