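import Mathlib
import Groth.Agent.Lib.Helper3.FlatDescQ
import Groth.Agent.Lib.Helper17.FlatOver2
import Groth.Agent.Lib.Helper16.QCohPullback
/-!
# Noetherian approximation of flat finitely presented modules on affine schemes (helper3)

`exists_spec_model_flat_module` : `f : X ⟶ S` of finite presentation between affine schemes, `F` a
finitely presented quasi-coherent `O_X`-module flat over `S`; then `(f, F)` is the base change of
`(Spec B₀ ⟶ Spec A₀, M₀^~)` with `A₀` of finite type over `ℤ` and `M₀` a finite `B₀`-module flat over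
`A₀`.
-/

set_option autoImplicit false
set_option linter.style.haveILetI false
universe u

open AlgebraicGeometry CategoryTheory Limits TensorProduct

namespace Groth.Agent.Lib.helper3.FlatModelSch

open Groth.Agent.Lib.helper3.FlatDesc Groth.Agent.Lib.helper17.FlatOver1
  Groth.Agent.Lib.helper16.CohFP Groth.Agent.Lib.helper16.QCohPullback Scheme.Modules

/-- a quasi-coherent module on an affine scheme is the pullback along `X ≅ Spec Γ(X, ⊤)` of the
tilde of its global sections. -/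
theorem nonempty_iso_pullback_tilde {X : Scheme.{u}} [IsAffine X] (F : X.Modules)
    [F.IsQuasicoherent] :
    Nonempty ((Scheme.Modules.pullback X.isoSpec.hom).obj
      (tilde (ModuleCat.of Γ(X, ⊤) Γ(F, ⊤))) ≅ F) := by
  have hX : IsAffineOpen (⊤ : X.Opens) := isAffineOpen_top X
  have h1 : X.isoSpec.hom ≫ hX.fromSpec = 𝟙 X := by
    rw [IsAffineOpen.fromSpec_top]
    exact X.isoSpec.hom_inv_id
  let e1 : tilde (ModuleCat.of Γ(X, ⊤) Γ(F, ⊤)) ≅ tilde (secMod F hX) :=
    (tilde.functor _).mapIso (secEquiv F hX).toModuleIso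
  haveI : IsIso (F.restrict hX.fromSpec).fromTildeΓ := inferInstance
  let e2 : tilde (secMod F hX) ≅ F.restrict hX.fromSpec :=
    asIso (F.restrict hX.fromSpec).fromTildeΓ
  let e3 : F.restrict hX.fromSpec ≅ (Scheme.Modules.pullback hX.fromSpec).obj F :=
    (restrictFunctorIsoPullback hX.fromSpec).app F
  exact ⟨(Scheme.Modules.pullback X.isoSpec.hom).mapIso (e1 ≪≫ e2 ≪≫ e3) ≪≫
    (pullbackComp X.isoSpec.hom hX.fromSpec).app F ≪≫ (pullbackCongr h1).app F ≪≫
    (pullbackId X).app F⟩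

/-- **Noetherian approximation of a flat finitely presented module on an affine scheme over an
affine base.** -/
theorem exists_spec_model_flat_module {X S : Scheme.{u}} (f : X ⟶ S) [IsAffine X] [IsAffine S]
    [LocallyOfFinitePresentation f] (F : X.Modules) [F.IsQuasicoherent]
    (hF : SheafOfModules.IsFinitePresentation (R := X.ringCatSheaf) F)
    (hfl : FlatMod.IsFlatOver f F) :
    ∃ (A₀ B₀ : Type u) (_ : CommRing A₀) (_ : CommRing B₀) (_ : Algebra A₀ B₀)
      (M₀ : Type u) (_ : AddCommGroup M₀) (_ : Module B₀ M₀) (_ : Module A₀ M₀)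
      (_ : IsScalarTower A₀ B₀ M₀)
      (t : S ⟶ Spec (CommRingCat.of A₀)) (ψ : X ⟶ Spec (CommRingCat.of B₀)),
      Algebra.FiniteType ℤ A₀ ∧ Algebra.FinitePresentation A₀ B₀ ∧ Module.Finite B₀ M₀ ∧
      Module.Flat A₀ M₀ ∧
      IsPullback ψ f (Spec.map (CommRingCat.ofHom (algebraMap A₀ B₀))) t ∧
      Nonempty ((Scheme.Modules.pullback ψ).obj (tilde (ModuleCat.of B₀ M₀)) ≅ F) := by
  have hUV : (⊤ : X.Opens) ≤ f ⁻¹ᵁ (⊤ : S.Opens) := fun _ _ => trivial
  letI algAB : Algebra Γ(S, ⊤) Γ(X, ⊤) := (f.appLE ⊤ ⊤ hUV).hom.toAlgebra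
  letI := modSecBase f F hUV
  haveI := isScalarTower_sections f F hUV
  haveI : Algebra.FinitePresentation Γ(S, ⊤) Γ(X, ⊤) :=
    f.finitePresentation_appLE (isAffineOpen_top S) (isAffineOpen_top X) hUV
  haveI : Module.FinitePresentation Γ(X, ⊤) Γ(F, ⊤) :=
    fp_sections_of_isFinitePresentation F hF (isAffineOpen_top X)
  haveI : Module.Flat Γ(S, ⊤) Γ(F, ⊤) :=
    (forall_mem_isFlatOverAt_iff f F hUV (isAffineOpen_top X) (isAffineOpen_top S)).mp
      (fun x _ => hfl x)
  obtain ⟨A₀, _, _, _, _, hft, hinj, -, B₀, _, _, algB, _, hfp, hpo, -, M₀, _, _, _, _, hfin, hflat,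
    ⟨ε⟩⟩ := exists_fg_model_flat_module (A := Γ(S, ⊤)) (B := Γ(X, ⊤)) (M := Γ(F, ⊤)) ∅
  have happ : CommRingCat.ofHom (algebraMap Γ(S, ⊤) Γ(X, ⊤)) = f.appTop := by
    ext x
    simp [Scheme.Hom.appLE, Scheme.Hom.appTop, RingHom.algebraMap_toAlgebra]
  have hinst : algB = (algebraMap B₀ Γ(X, ⊤)).toAlgebra := Algebra.algebra_ext _ _ (fun r => rfl)
  let ι : CommRingCat.of A₀ ⟶ Γ(S, ⊤) := CommRingCat.ofHom (algebraMap A₀ Γ(S, ⊤))
  let κ : CommRingCat.of B₀ ⟶ Γ(X, ⊤) := CommRingCat.ofHom (algebraMap B₀ Γ(X, ⊤))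
  have hpush : IsPushout ι (CommRingCat.ofHom (algebraMap A₀ B₀)) f.appTop κ := by
    rw [← happ]
    exact CommRingCat.isPushout_of_isPushout A₀ Γ(S, ⊤) B₀ Γ(X, ⊤)
  have hpb : IsPullback (Spec.map f.appTop) (Spec.map κ) (Spec.map ι)
      (Spec.map (CommRingCat.ofHom (algebraMap A₀ B₀))) :=
    isPullback_SpecMap_of_isPushout _ _ _ _ hpush
  refine ⟨A₀, B₀, inferInstance, inferInstance, inferInstance, M₀, inferInstance, inferInstance,
    inferInstance, inferInstance, S.isoSpec.hom ≫ Spec.map ι, X.isoSpec.hom ≫ Spec.map κ,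
    hft, hfp, hfin, hflat, ?_, ?_⟩
  · refine IsPullback.of_iso hpb.flip X.isoSpec.symm (Iso.refl _) S.isoSpec.symm (Iso.refl _)
      ?_ ?_ ?_ ?_
    · simp
    · simp only [Iso.symm_hom]
      exact Scheme.isoSpec_inv_naturality f
    · simp only [Iso.refl_hom, Category.comp_id, Category.id_comp]
    · simp
  · obtain ⟨e0⟩ := nonempty_iso_pullback_tilde F
    let e1 : (Scheme.Modules.pullback (Spec.map κ)).obj (tilde (ModuleCat.of B₀ M₀)) ≅
        tilde ((ModuleCat.extendScalars κ.hom).obj (ModuleCat.of B₀ M₀)) :=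
      (tildePullbackIso κ).app (ModuleCat.of B₀ M₀)
    rw [hinst] at ε
    let e2 : (ModuleCat.extendScalars κ.hom).obj (ModuleCat.of B₀ M₀) ≅
        ModuleCat.of Γ(X, ⊤) Γ(F, ⊤) :=
      ((extendScalarsEquiv κ.hom (ModuleCat.of B₀ M₀)).trans ε).toModuleIso
    exact ⟨((pullbackComp X.isoSpec.hom (Spec.map κ)).app _).symm ≪≫
      (Scheme.Modules.pullback X.isoSpec.hom).mapIso (e1 ≪≫ (tilde.functor _).mapIso e2) ≪≫ e0⟩

end Groth.Agent.Lib.helper3.FlatModelSch
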