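import Mathlib
import Groth.Agent.Lib.Helper3.FlatModelSch
/-!
# Noetherian approximation of finitely presented modules on affine schemes, no flatness (helper3)

`exists_fg_model_module` : ring-level: `(A, B, M)` with `B` f.p. over `A`, `M` f.p. over `B` is the
base change of `(A₀, B₀, M₀)`, `A₀ ⊆ A` a f.g. `ℤ`-algebra, `B₀` f.p. over `A₀`, `M₀` finite over `B₀`.

`exists_spec_model_module` : scheme-level version for `f : X ⟶ S` of finite presentation between
affine schemes and `F` a finitely presented quasi-coherent `O_X`-module.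
-/

set_option autoImplicit false
set_option linter.style.haveILetI false
universe u

open AlgebraicGeometry CategoryTheory Limits TensorProduct

namespace Groth.Agent.Lib.helper3.ModelSch

open Groth.Agent.Lib.helper3.FlatDesc Groth.Agent.Lib.helper17.FlatOver1
  Groth.Agent.Lib.helper16.CohFP Groth.Agent.Lib.helper16.QCohPullback Scheme.Modules
  Groth.Agent.Lib.helper3.FlatModelSch

theorem exists_fg_model_module {A B M : Type u} [CommRing A] [CommRing B] [Algebra A B]
    [AddCommGroup M] [Module B M] [Module A M] [IsScalarTower A B M]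
    [Algebra.FinitePresentation A B] [Module.FinitePresentation B M] (s : Finset A) :
    ∃ (A₀ : Type u) (_ : CommRing A₀) (_ : Algebra A₀ A) (_ : Algebra A₀ B)
      (_ : IsScalarTower A₀ A B),
      Algebra.FiniteType ℤ A₀ ∧ Function.Injective (algebraMap A₀ A) ∧
      (s : Set A) ⊆ Set.range (algebraMap A₀ A) ∧
    ∃ (B₀ : Type u) (_ : CommRing B₀) (_ : Algebra A₀ B₀) (_ : Algebra B₀ B)
      (_ : IsScalarTower A₀ B₀ B),
      Algebra.FinitePresentation A₀ B₀ ∧ Algebra.IsPushout A₀ A B₀ B ∧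
    ∃ (M₀ : Type u) (_ : AddCommGroup M₀) (_ : Module A₀ M₀) (_ : Module B₀ M₀)
      (_ : IsScalarTower A₀ B₀ M₀),
      Module.Finite B₀ M₀ ∧ Nonempty (B ⊗[B₀] M₀ ≃ₗ[B] M) := by
  obtain ⟨n, d, b, c, π, w, v, hπ, hw, hk, e, he⟩ := exists_presentation (A := A) (B := B) (M := M)
  obtain ⟨R0, hR0, hs, w0, v0, rfl, rfl, hk0⟩ := exists_model_data w v hk s
  set A' : Subalgebra R0 A := ⊥ with hA'
  have hA'fg : A'.FG := Subalgebra.fg_bot
  obtain ⟨hft, algB, towB, hfp, hpo, halg, modM, towM, hfin, hmk, hiso⟩ :=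
    exists_package (M := M) hR0 hk0 π hπ hw e he A' hA'fg
  refine ⟨A', inferInstance, inferInstance, inferInstance, inferInstance, hft,
    Subtype.val_injective, ?_, B0 w0 A', inferInstance, inferInstance, algB, towB, hfp, hpo,
    M0 v0 A', inferInstance, inferInstance, modM, towM, hfin, hiso⟩
  intro x hx
  obtain ⟨y, hy⟩ : x ∈ Set.range (algebraMap R0 A) := ⟨⟨x, hs hx⟩, rfl⟩
  exact ⟨algebraMap R0 A' y, by rw [← IsScalarTower.algebraMap_apply, hy]⟩

/-- **Noetherian approximation of a finitely presented module on an affine scheme over an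
affine base.** -/
theorem exists_spec_model_module {X S : Scheme.{u}} (f : X ⟶ S) [IsAffine X] [IsAffine S]
    [LocallyOfFinitePresentation f] (F : X.Modules) [F.IsQuasicoherent]
    (hF : SheafOfModules.IsFinitePresentation (R := X.ringCatSheaf) F) :
    ∃ (A₀ B₀ : Type u) (_ : CommRing A₀) (_ : CommRing B₀) (_ : Algebra A₀ B₀)
      (M₀ : Type u) (_ : AddCommGroup M₀) (_ : Module B₀ M₀) (_ : Module A₀ M₀)
      (_ : IsScalarTower A₀ B₀ M₀)
      (t : S ⟶ Spec (CommRingCat.of A₀)) (ψ : X ⟶ Spec (CommRingCat.of B₀)),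
      Algebra.FiniteType ℤ A₀ ∧ Algebra.FinitePresentation A₀ B₀ ∧ Module.Finite B₀ M₀ ∧
      IsPullback ψ f (Spec.map (CommRingCat.ofHom (algebraMap A₀ B₀))) t ∧
      Nonempty ((Scheme.Modules.pullback ψ).obj (tilde (ModuleCat.of B₀ M₀)) ≅ F) := by
  have hUV : (⊤ : X.Opens) ≤ f ⁻¹ᵁ (⊤ : S.Opens) := fun _ _ => trivial
  letI algAB : Algebra Γ(S, ⊤) Γ(X, ⊤) := (f.appLE ⊤ ⊤ hUV).hom.toAlgebra
  letI := modSecBase f F hUV
  haveI := isScalarTower_sections f F hUV
  haveI : Algebra.FinitePresentation Γ(S, ⊤) Γ(X, ⊤) :=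
    f.finitePresentation_appLE (isAffineOpen_top S) (isAffineOpen_top X) hUV
  haveI : Module.FinitePresentation Γ(X, ⊤) Γ(F, ⊤) :=
    fp_sections_of_isFinitePresentation F hF (isAffineOpen_top X)
  obtain ⟨A₀, _, _, _, _, hft, hinj, -, B₀, _, _, algB, _, hfp, hpo, M₀, _, _, _, _, hfin,
    ⟨ε⟩⟩ := exists_fg_model_module (A := Γ(S, ⊤)) (B := Γ(X, ⊤)) (M := Γ(F, ⊤)) ∅
  have happ : CommRingCat.ofHom (algebraMap Γ(S, ⊤) Γ(X, ⊤)) = f.appTop := by
    ext x
    simp [Scheme.Hom.appLE, Scheme.Hom.appTop, RingHom.algebraMap_toAlgebra]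
  have hinst : algB = (algebraMap B₀ Γ(X, ⊤)).toAlgebra := Algebra.algebra_ext _ _ (fun r => rfl)
  let ι : CommRingCat.of A₀ ⟶ Γ(S, ⊤) := CommRingCat.ofHom (algebraMap A₀ Γ(S, ⊤))
  let κ : CommRingCat.of B₀ ⟶ Γ(X, ⊤) := CommRingCat.ofHom (algebraMap B₀ Γ(X, ⊤))
  have hpush : IsPushout ι (CommRingCat.ofHom (algebraMap A₀ B₀)) f.appTop κ := by
    rw [← happ]
    exact CommRingCat.isPushout_of_isPushout A₀ Γ(S, ⊤) B₀ Γ(X, ⊤)
  have hpb : IsPullback (Spec.map f.appTop) (Spec.map κ) (Spec.map ι)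
      (Spec.map (CommRingCat.ofHom (algebraMap A₀ B₀))) :=
    isPullback_SpecMap_of_isPushout _ _ _ _ hpush
  refine ⟨A₀, B₀, inferInstance, inferInstance, inferInstance, M₀, inferInstance, inferInstance,
    inferInstance, inferInstance, S.isoSpec.hom ≫ Spec.map ι, X.isoSpec.hom ≫ Spec.map κ,
    hft, hfp, hfin, ?_, ?_⟩
  · refine IsPullback.of_iso hpb.flip X.isoSpec.symm (Iso.refl _) S.isoSpec.symm (Iso.refl _)
      ?_ ?_ ?_ ?_
    · simp
    · simp only [Iso.symm_hom]
      exact Scheme.isoSpec_inv_naturality f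
    · simp only [Iso.refl_hom, Category.comp_id, Category.id_comp]
    · simp
  · obtain ⟨e0⟩ := nonempty_iso_pullback_tilde F
    let e1 : (Scheme.Modules.pullback (Spec.map κ)).obj (tilde (ModuleCat.of B₀ M₀)) ≅
        tilde ((ModuleCat.extendScalars κ.hom).obj (ModuleCat.of B₀ M₀)) :=
      (tildePullbackIso κ).app (ModuleCat.of B₀ M₀)
    rw [hinst] at ε
    let e2 : (ModuleCat.extendScalars κ.hom).obj (ModuleCat.of B₀ M₀) ≅
        ModuleCat.of Γ(X, ⊤) Γ(F, ⊤) :=
      ((extendScalarsEquiv κ.hom (ModuleCat.of B₀ M₀)).trans ε).toModuleIso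
    exact ⟨((pullbackComp X.isoSpec.hom (Spec.map κ)).app _).symm ≪≫
      (Scheme.Modules.pullback X.isoSpec.hom).mapIso (e1 ≪≫ (tilde.functor _).mapIso e2) ≪≫ e0⟩

end Groth.Agent.Lib.helper3.ModelSch
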