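import Mathlib
import Groth.Prelude.Def_FlatCA
import Groth.Agent.S1628

/-!
# Complete dévissage toolkit I (helper3; towards S1253/S1254/S1251)

* `geomIntegralFibres_of_smooth` : smooth + geometrically irreducible fibres ⟹ geometrically
  integral fibres (scheme-level predicates of `FlatCA`).
* `fp_of_finiteType_of_fp` : `R → S` of finite type, `M` an `S`-module finitely presented over `R`
  ⟹ finitely presented over `S`.
* `nonempty_equiv_prod_of_exact` : short exact sequence with projective cokernel splits.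
* `nonempty_equiv_pi` : iterated splittings `X i ≃ F i × X (i+1)` assemble to `X 0 ≃ ∏ F j`.
-/

set_option autoImplicit false
set_option linter.style.haveILetI false
set_option linter.unusedSectionVars false
universe u v w

open TensorProduct

namespace Groth.Agent.Lib.helper3.CDev

open AlgebraicGeometry CategoryTheory in
/-- A smooth ring map with geometrically irreducible fibres has geometrically integral fibres. -/
theorem geomIntegralFibres_of_smooth {R S : Type u} [CommRing R] [CommRing S] [Algebra R S]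
    [Algebra.Smooth R S] (h : FlatCA.GeomIrredFibres R S) : FlatCA.GeomIntegralFibres R S := by
  have hsm : Smooth (Spec.map (CommRingCat.ofHom (algebraMap R S))) :=
    (HasRingHomProperty.Spec_iff (P := @Smooth)).mpr
      (RingHom.smooth_algebraMap.mpr inferInstance)
  haveI : GeometricallyIrreducible (Spec.map (CommRingCat.ofHom (algebraMap R S))) := h
  haveI : GeometricallyReduced (Spec.map (CommRingCat.ofHom (algebraMap R S))) := by
    refine ⟨fun K _ y Z fst snd hpb => ?_⟩
    have hsm' : Smooth snd := MorphismProperty.of_isPullback hpb hsm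
    letI : Z.Over (Spec (CommRingCat.of K)) := ⟨snd⟩
    haveI : Smooth (Z ↘ Spec (CommRingCat.of K)) := hsm'
    have h1 := (Groth.Agent.S1628.result K Z).1
    exact h1.geometrically_isReduced (𝟙 _) (𝟙 Z) snd IsPullback.of_id_fst
  exact GeometricallyIntegral.of_geometricallyReduced_of_geometricallyIrreducible _

section FpUp

/-- Stacks 0561-type statement: if `R → S` is of finite type and the `S`-module `M` is finitely
presented over `R`, then it is finitely presented over `S`. -/
theorem fp_of_finiteType_of_fp {R : Type u} {S : Type v} [CommRing R] [CommRing S] [Algebra R S]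
    [Algebra.FiniteType R S]
    (M : Type w) [AddCommGroup M] [Module R M] [Module S M] [IsScalarTower R S M]
    [Module.FinitePresentation R M] : Module.FinitePresentation S M := by
  classical
  let μ : S ⊗[R] M →ₗ[S] M := LinearMap.liftBaseChange S (LinearMap.id : M →ₗ[R] M)
  have hμ : ∀ s m, μ (s ⊗ₜ m) = s • m := fun s m => by simp [μ]
  have hsurj : Function.Surjective μ := fun m => ⟨1 ⊗ₜ m, by simp [hμ]⟩
  obtain ⟨t, ht⟩ := (Algebra.FiniteType.out : (⊤ : Subalgebra R S).FG)
  obtain ⟨g, hg⟩ := (Module.Finite.fg_top : (⊤ : Submodule R M).FG)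
  let gen : Set (S ⊗[R] M) :=
    (fun p : S × M => p.1 ⊗ₜ[R] p.2 - (1 : S) ⊗ₜ[R] (p.1 • p.2)) '' ((t : Set S) ×ˢ (g : Set M))
  let K' : Submodule S (S ⊗[R] M) := Submodule.span S gen
  have hK'fg : K'.FG :=
    Submodule.fg_span ((t.finite_toSet.prod g.finite_toSet).image _)
  have key1 : ∀ x ∈ t, ∀ m : M, x ⊗ₜ[R] m - (1 : S) ⊗ₜ[R] (x • m) ∈ K' := by
    intro x hx m
    have hm : m ∈ Submodule.span R (g : Set M) := by rw [hg]; trivial
    induction hm using Submodule.span_induction with
    | mem y hy => exact Submodule.subset_span ⟨(x, y), ⟨hx, hy⟩, rfl⟩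
    | zero => simp
    | add a b _ _ ha hb =>
      have : x ⊗ₜ[R] (a + b) - (1 : S) ⊗ₜ[R] (x • (a + b)) =
          (x ⊗ₜ[R] a - 1 ⊗ₜ[R] (x • a)) + (x ⊗ₜ[R] b - 1 ⊗ₜ[R] (x • b)) := by
        rw [tmul_add, smul_add, tmul_add]; abel
      rw [this]
      exact K'.add_mem ha hb
    | smul r a _ ha =>
      have : x ⊗ₜ[R] (r • a) - (1 : S) ⊗ₜ[R] (x • r • a) =
          r • (x ⊗ₜ[R] a - 1 ⊗ₜ[R] (x • a)) := by
        rw [smul_sub, smul_comm x r a, tmul_smul, tmul_smul]
      rw [this, ← algebraMap_smul S r]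
      exact K'.smul_mem _ ha
  let A' : Subalgebra R S :=
    { carrier := {s | ∀ m : M, s ⊗ₜ[R] m - (1 : S) ⊗ₜ[R] (s • m) ∈ K'}
      mul_mem' := by
        intro a b ha hb m
        have : (a * b) ⊗ₜ[R] m - (1 : S) ⊗ₜ[R] ((a * b) • m) =
            a • (b ⊗ₜ[R] m - (1 : S) ⊗ₜ[R] (b • m)) +
              (a ⊗ₜ[R] (b • m) - (1 : S) ⊗ₜ[R] (a • (b • m))) := by
          rw [smul_sub, smul_tmul', smul_tmul', smul_eq_mul, smul_eq_mul, mul_one, mul_smul]
          abel
        rw [this]
        exact K'.add_mem (K'.smul_mem _ (hb m)) (ha (b • m))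
      one_mem' := by
        intro m
        simp
      add_mem' := by
        intro a b ha hb m
        have : (a + b) ⊗ₜ[R] m - (1 : S) ⊗ₜ[R] ((a + b) • m) =
            (a ⊗ₜ[R] m - 1 ⊗ₜ[R] (a • m)) + (b ⊗ₜ[R] m - 1 ⊗ₜ[R] (b • m)) := by
          rw [add_tmul, add_smul, tmul_add]; abel
        rw [this]
        exact K'.add_mem (ha m) (hb m)
      zero_mem' := by
        intro m
        simp
      algebraMap_mem' := by
        intro r m
        have : (algebraMap R S r) ⊗ₜ[R] m - (1 : S) ⊗ₜ[R] ((algebraMap R S r) • m) = 0 := by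
          rw [algebraMap_smul, Algebra.algebraMap_eq_smul_one, smul_tmul, sub_self]
        rw [this]
        exact K'.zero_mem }
  have hA' : A' = ⊤ := by
    rw [eq_top_iff, ← ht]
    exact Algebra.adjoin_le (fun x hx => key1 x hx)
  have key2 : ∀ (s : S) (m : M), s ⊗ₜ[R] m - (1 : S) ⊗ₜ[R] (s • m) ∈ K' := fun s =>
    (show s ∈ A' by rw [hA']; trivial)
  have key3 : ∀ z : S ⊗[R] M, z - (1 : S) ⊗ₜ[R] (μ z) ∈ K' := by
    intro z
    induction z using TensorProduct.induction_on with
    | zero => simp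
    | tmul s m => rw [hμ]; exact key2 s m
    | add a b ha hb =>
      have : a + b - (1 : S) ⊗ₜ[R] (μ (a + b)) =
          (a - (1 : S) ⊗ₜ[R] (μ a)) + (b - (1 : S) ⊗ₜ[R] (μ b)) := by
        rw [map_add, tmul_add]; abel
      rw [this]
      exact K'.add_mem ha hb
  have hker : LinearMap.ker μ = K' := by
    apply le_antisymm
    · intro z hz
      have := key3 z
      rw [LinearMap.mem_ker.mp hz, tmul_zero, sub_zero] at this
      exact this
    · rw [Submodule.span_le]
      rintro _ ⟨⟨s, m⟩, _, rfl⟩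
      simp [hμ]
  exact Module.finitePresentation_of_surjective μ hsurj (hker ▸ hK'fg)

end FpUp

section Split

variable {R : Type u} [CommRing R]

/-- A short exact sequence with projective cokernel splits. -/
theorem nonempty_equiv_prod_of_exact {F M P : Type*} [AddCommGroup F] [AddCommGroup M]
    [AddCommGroup P] [Module R F] [Module R M] [Module R P] [Module.Projective R P]
    (f : F →ₗ[R] M) (g : M →ₗ[R] P) (hf : Function.Injective f) (hg : Function.Surjective g)
    (hex : Function.Exact f g) : Nonempty (M ≃ₗ[R] F × P) := by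
  obtain ⟨l, hl⟩ := Module.projective_lifting_property g LinearMap.id hg
  exact ⟨(hex.splitSurjectiveEquiv hf ⟨l, hl⟩).1⟩

/-- Iterated splitting: `X 0 ≃ F 0 × X 1 ≃ F 0 × F 1 × X 2 ≃ …`. -/
theorem nonempty_equiv_pi (m : ℕ) : ∀ (X F : ℕ → Type v) [∀ i, AddCommGroup (X i)]
    [∀ i, Module R (X i)] [∀ i, AddCommGroup (F i)] [∀ i, Module R (F i)]
    (_ : ∀ i, i + 1 < m + 1 → Nonempty (X i ≃ₗ[R] F i × X (i + 1)))
    (_ : Nonempty (X m ≃ₗ[R] F m)), Nonempty (X 0 ≃ₗ[R] ∀ j : Fin (m + 1), F j) := by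
  induction m with
  | zero =>
    intro X F _ _ _ _ _ hlast
    obtain ⟨e⟩ := hlast
    let e1 : F 0 ≃ₗ[R] (F 0 × ∀ j : Fin 0, F (Fin.succ j : Fin 1)) :=
      (LinearEquiv.prodUnique (R := R) (M := F 0) (M₂ := ∀ j : Fin 0, F (Fin.succ j : Fin 1))).symm
    exact ⟨e.trans (e1.trans (Fin.consLinearEquiv R (fun j : Fin 1 => F j)))⟩
  | succ m ih =>
    intro X F _ _ _ _ hstep hlast
    obtain ⟨e0⟩ := hstep 0 (by omega)
    obtain ⟨e1⟩ := ih (fun i => X (i + 1)) (fun i => F (i + 1))
      (fun i hi => hstep (i + 1) (by omega)) hlast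
    let e2 : (F 0 × X 1) ≃ₗ[R] (F 0 × ∀ j : Fin (m + 1), F ((j : ℕ) + 1)) :=
      LinearEquiv.prodCongr (LinearEquiv.refl R (F 0)) e1
    exact ⟨e0.trans (e2.trans (Fin.consLinearEquiv R (fun j : Fin (m + 2) => F j)))⟩

end Split

end Groth.Agent.Lib.helper3.CDev
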