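import Mathlib

/-!
# Maps of free modules over a local ring which are injective mod `𝔪` are universally injective
(helper3; used by S9011)
-/

set_option autoImplicit false
set_option linter.style.haveILetI false
set_option linter.unusedSectionVars false
universe u

open TensorProduct IsLocalRing

namespace Groth.Agent.Lib.helper3.FreeLocalInj

section Quot

variable {R : Type u} [CommRing R] (I : Ideal R) {A B : Type u} [AddCommGroup A] [Module R A]
  [AddCommGroup B] [Module R B]

/-- injectivity of `(R ⧸ I) ⊗ g` in terms of `I • ⊤`. -/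
theorem lTensor_quot_injective_iff (g : A →ₗ[R] B) :
    Function.Injective (g.lTensor (R ⧸ I)) ↔
      ∀ x : A, g x ∈ I • (⊤ : Submodule R B) → x ∈ I • (⊤ : Submodule R A) := by
  have hle : I • (⊤ : Submodule R A) ≤ (I • (⊤ : Submodule R B)).comap g :=
    Submodule.smul_top_le_comap_smul_top I g
  have nat : (TensorProduct.quotTensorEquivQuotSMul B I).toLinearMap ∘ₗ g.lTensor (R ⧸ I) =
      Submodule.mapQ _ _ g hle ∘ₗ (TensorProduct.quotTensorEquivQuotSMul A I).toLinearMap := by
    refine TensorProduct.ext' (fun r a => ?_)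
    obtain ⟨r, rfl⟩ := Ideal.Quotient.mk_surjective r
    simp only [LinearMap.comp_apply, LinearEquiv.coe_coe, LinearMap.lTensor_tmul,
      TensorProduct.quotTensorEquivQuotSMul_mk_tmul, Submodule.mapQ_apply, map_smul]
  have h1 : Function.Injective (g.lTensor (R ⧸ I)) ↔
      Function.Injective (Submodule.mapQ _ _ g hle) := by
    constructor
    · intro h
      have : Function.Injective (Submodule.mapQ _ _ g hle ∘ₗ
          (TensorProduct.quotTensorEquivQuotSMul A I).toLinearMap) := by
        rw [← nat, LinearMap.coe_comp]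
        exact (LinearEquiv.injective _).comp h
      rw [LinearMap.coe_comp] at this
      intro a b hab
      obtain ⟨a, rfl⟩ := (TensorProduct.quotTensorEquivQuotSMul A I).surjective a
      obtain ⟨b, rfl⟩ := (TensorProduct.quotTensorEquivQuotSMul A I).surjective b
      exact congrArg _ (this hab)
    · intro h
      have : Function.Injective ((TensorProduct.quotTensorEquivQuotSMul B I).toLinearMap ∘ₗ
          g.lTensor (R ⧸ I)) := by
        rw [nat, LinearMap.coe_comp]
        exact h.comp (LinearEquiv.injective _)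
      rw [LinearMap.coe_comp] at this
      exact Function.Injective.of_comp this
  rw [h1, injective_iff_map_eq_zero]
  constructor
  · intro h x hx
    have := h (Submodule.Quotient.mk x) (by
      rw [Submodule.mapQ_apply]; exact (Submodule.Quotient.mk_eq_zero _).mpr hx)
    exact (Submodule.Quotient.mk_eq_zero _).mp this
  · intro h x hx
    obtain ⟨x, rfl⟩ := Submodule.Quotient.mk_surjective _ x
    rw [Submodule.mapQ_apply, Submodule.Quotient.mk_eq_zero] at hx
    exact (Submodule.Quotient.mk_eq_zero _).mpr (h x hx)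

end Quot

section Kappa

variable {R : Type u} [CommRing R] (κ : Type u) [CommRing κ] [Algebra R κ]
  (hs : Function.Surjective (algebraMap R κ))
  {A B : Type u} [AddCommGroup A] [Module R A] [AddCommGroup B] [Module R B]

include hs in
theorem mem_smul_top_of_one_tmul_eq_zero (x : A) (h : (1 : κ) ⊗ₜ[R] x = 0) :
    x ∈ (RingHom.ker (algebraMap R κ)) • (⊤ : Submodule R A) := by
  set J := RingHom.ker (algebraMap R κ) with hJ
  let e : (R ⧸ J) ≃ₐ[R] κ :=
    Ideal.quotientKerAlgEquivOfSurjective (f := Algebra.ofId R κ) hs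
  let e2 : κ ⊗[R] A ≃ₗ[R] (R ⧸ J) ⊗[R] A := LinearEquiv.rTensor A e.symm.toLinearEquiv
  have h2 : e2 ((1 : κ) ⊗ₜ[R] x) = (1 : R ⧸ J) ⊗ₜ[R] x := by
    simp [e2]
  have h3 : TensorProduct.quotTensorEquivQuotSMul A J ((1 : R ⧸ J) ⊗ₜ[R] x) =
      Submodule.Quotient.mk x := by
    have := TensorProduct.quotTensorEquivQuotSMul_mk_tmul (M := A) J 1 x
    rw [one_smul] at this
    exact this
  rw [h, map_zero] at h2
  rw [← h2, map_zero] at h3
  exact (Submodule.Quotient.mk_eq_zero _).mp h3.symm

theorem one_tmul_eq_zero_of_mem_smul_top (x : A)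
    (h : x ∈ (RingHom.ker (algebraMap R κ)) • (⊤ : Submodule R A)) : (1 : κ) ⊗ₜ[R] x = 0 := by
  refine Submodule.smul_induction_on h ?_ ?_
  · intro r hr a _
    rw [← TensorProduct.smul_tmul, Algebra.smul_def, mul_one, (RingHom.mem_ker).mp hr,
      TensorProduct.zero_tmul]
  · intro a b ha hb
    rw [TensorProduct.tmul_add, ha, hb, add_zero]

include hs in
theorem lTensor_injective_of_surjective (g : A →ₗ[R] B)
    (hg : ∀ x : A, g x ∈ (RingHom.ker (algebraMap R κ)) • (⊤ : Submodule R B) →
      x ∈ (RingHom.ker (algebraMap R κ)) • (⊤ : Submodule R A)) :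
    Function.Injective (g.lTensor κ) := by
  rw [injective_iff_map_eq_zero]
  intro z hz
  obtain ⟨a, rfl⟩ := TensorProduct.mk_surjective R A κ hs z
  rw [TensorProduct.mk_apply, LinearMap.lTensor_tmul] at hz
  rw [TensorProduct.mk_apply]
  exact one_tmul_eq_zero_of_mem_smul_top κ a
    (hg a (mem_smul_top_of_one_tmul_eq_zero κ hs (g a) hz))

end Kappa

section Finsupp

variable {R : Type u} [CommRing R] {ι ι' : Type u}

/-- a finitely generated submodule of `ι →₀ R` lies in `supported σ` for a finite `σ`. -/
theorem exists_finset_le_supported (N₀ : Submodule R (ι →₀ R)) (h : N₀.FG) :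
    ∃ σ : Finset ι, N₀ ≤ Finsupp.supported R R (σ : Set ι) := by
  classical
  obtain ⟨T, rfl⟩ := h
  refine ⟨T.biUnion Finsupp.support, ?_⟩
  rw [Submodule.span_le]
  intro p hp
  rw [SetLike.mem_coe, Finsupp.mem_supported]
  intro i hi
  simp only [Finset.coe_biUnion, Set.mem_iUnion]
  exact ⟨p, hp, hi⟩

theorem finite_supported (σ : Finset ι) :
    Module.Finite R (Finsupp.supported R R (σ : Set ι)) :=
  Module.Finite.equiv (Finsupp.supportedEquivFinsupp (R := R) (M := R) (σ : Set ι)).symm

theorem free_supported (σ : Finset ι) :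
    Module.Free R (Finsupp.supported R R (σ : Set ι)) :=
  Module.Free.of_equiv (Finsupp.supportedEquivFinsupp (R := R) (M := R) (σ : Set ι)).symm

variable [IsLocalRing R]

theorem exists_leftInverse_of_finite_free {F F' : Type u} [AddCommGroup F] [Module R F]
    [AddCommGroup F'] [Module R F'] [Module.Finite R F] [Module.Finite R F'] [Module.Free R F']
    (v : F →ₗ[R] F')
    (hv : ∀ y : F, v y ∈ maximalIdeal R • (⊤ : Submodule R F') →
      y ∈ maximalIdeal R • (⊤ : Submodule R F)) :
    ∃ l' : F' →ₗ[R] F, l' ∘ₗ v = LinearMap.id := by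
  have hker : RingHom.ker (algebraMap R (ResidueField R)) = maximalIdeal R := by
    rw [IsLocalRing.ResidueField.algebraMap_eq, IsLocalRing.ker_residue]
  have hsurj : Function.Surjective (algebraMap R (ResidueField R)) := by
    rw [IsLocalRing.ResidueField.algebraMap_eq]
    exact IsLocalRing.residue_surjective
  have hvκ := lTensor_injective_of_surjective (ResidueField R) hsurj v (by rw [hker]; exact hv)
  exact (IsLocalRing.split_injective_iff_lTensor_residueField_injective v).mpr hvκ

theorem eq_zero_core {N N' : Type u} [AddCommGroup N] [Module R N] [AddCommGroup N'] [Module R N']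
    (u : N →ₗ[R] N')
    (hu : ∀ x, u x ∈ maximalIdeal R • (⊤ : Submodule R N') →
      x ∈ maximalIdeal R • (⊤ : Submodule R N))
    (F : Submodule R N) (F' : Submodule R N') [Module.Finite R F] [Module.Finite R F']
    [Module.Free R F'] (π : N →ₗ[R] F) (hπ : π ∘ₗ F.subtype = LinearMap.id)
    (π' : N' →ₗ[R] F') (hπ' : π' ∘ₗ F'.subtype = LinearMap.id) (hFF' : F.map u ≤ F')
    (Q : Type u) [AddCommGroup Q] [Module R Q] (xσ : Q ⊗[R] F)
    (h : u.lTensor Q (F.subtype.lTensor Q xσ) = 0) : xσ = 0 := by
  let v : F →ₗ[R] F' :=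
    LinearMap.codRestrict _ (u ∘ₗ F.subtype) (fun c => hFF' (Submodule.mem_map_of_mem c.2))
  have hv : F'.subtype ∘ₗ v = u ∘ₗ F.subtype := by
    ext c : 1
    rfl
  have hvb : ∀ y : F, v y ∈ maximalIdeal R • (⊤ : Submodule R F') →
      y ∈ maximalIdeal R • (⊤ : Submodule R F) := by
    intro y hy
    have h1 : u (y : N) ∈ maximalIdeal R • (⊤ : Submodule R N') :=
      Submodule.smul_top_le_comap_smul_top (maximalIdeal R) F'.subtype hy
    have h2 := hu _ h1
    have h3 := Submodule.smul_top_le_comap_smul_top (maximalIdeal R) π h2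
    have h4 : π (y : N) = y := LinearMap.congr_fun hπ y
    rw [Submodule.mem_comap, h4] at h3
    exact h3
  obtain ⟨l', hl'⟩ := exists_leftInverse_of_finite_free (F := F) (F' := F') v hvb
  have h4 : F'.subtype.lTensor Q (v.lTensor Q xσ) = 0 := by
    rw [← LinearMap.comp_apply, ← LinearMap.lTensor_comp, hv, LinearMap.lTensor_comp,
      LinearMap.comp_apply, h]
  have h5 : v.lTensor Q xσ = 0 := by
    have := congrArg (π'.lTensor Q) h4
    rwa [← LinearMap.comp_apply, ← LinearMap.lTensor_comp, hπ', LinearMap.lTensor_id,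
      LinearMap.id_apply, map_zero] at this
  have := congrArg (l'.lTensor Q) h5
  rwa [← LinearMap.comp_apply, ← LinearMap.lTensor_comp, hl', LinearMap.lTensor_id,
    LinearMap.id_apply, map_zero] at this

theorem lTensor_injective_finsupp (u : (ι →₀ R) →ₗ[R] (ι' →₀ R))
    (hu : ∀ x, u x ∈ maximalIdeal R • (⊤ : Submodule R (ι' →₀ R)) →
      x ∈ maximalIdeal R • (⊤ : Submodule R (ι →₀ R)))
    (Q : Type u) [AddCommGroup Q] [Module R Q] : Function.Injective (u.lTensor Q) := by
  classical
  rw [injective_iff_map_eq_zero]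
  intro x hx
  obtain ⟨N₀, hN₀, hxN₀⟩ := TensorProduct.exists_finite_submodule_right_of_setFinite {x}
    (Set.finite_singleton x)
  obtain ⟨x₀, hx₀⟩ := hxN₀ (Set.mem_singleton x)
  obtain ⟨σ, hσ⟩ := exists_finset_le_supported N₀ (Module.Finite.iff_fg.mp hN₀)
  haveI hFσfin : Module.Finite R (Finsupp.supported R R (σ : Set ι)) := finite_supported σ
  have hmapfg : ((Finsupp.supported R R (σ : Set ι)).map u).FG :=
    (Module.Finite.iff_fg.mp hFσfin).map u
  obtain ⟨τ, hτ⟩ := exists_finset_le_supported _ hmapfg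
  haveI hFτfin : Module.Finite R (Finsupp.supported R R (τ : Set ι')) := finite_supported τ
  haveI hFτfree : Module.Free R (Finsupp.supported R R (τ : Set ι')) := free_supported τ
  let j : N₀ →ₗ[R] Finsupp.supported R R (σ : Set ι) := Submodule.inclusion hσ
  have hj : (Finsupp.supported R R (σ : Set ι)).subtype ∘ₗ j = N₀.subtype := by
    ext c : 1
    rfl
  have hxσ : (Finsupp.supported R R (σ : Set ι)).subtype.lTensor Q (j.lTensor Q x₀) = x := by
    rw [← LinearMap.comp_apply, ← LinearMap.lTensor_comp, hj, hx₀]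
  have h6 : j.lTensor Q x₀ = 0 :=
    eq_zero_core u hu (Finsupp.supported R R (σ : Set ι)) (Finsupp.supported R R (τ : Set ι'))
      (Finsupp.restrictDom R R (σ : Set ι)) (Finsupp.restrictDom_comp_subtype _)
      (Finsupp.restrictDom R R (τ : Set ι')) (Finsupp.restrictDom_comp_subtype _) hτ Q _
      (by rw [hxσ, hx])
  rw [← hxσ, h6, map_zero]

end Finsupp

section Free

variable {R : Type u} [CommRing R] [IsLocalRing R]

theorem lTensor_injective_of_free {N N' : Type u} [AddCommGroup N] [Module R N]
    [AddCommGroup N'] [Module R N'] [Module.Free R N] [Module.Free R N'] (u : N →ₗ[R] N')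
    (hu : ∀ x, u x ∈ maximalIdeal R • (⊤ : Submodule R N') →
      x ∈ maximalIdeal R • (⊤ : Submodule R N))
    (Q : Type u) [AddCommGroup Q] [Module R Q] : Function.Injective (u.lTensor Q) := by
  let e := (Module.Free.chooseBasis R N).repr
  let e' := (Module.Free.chooseBasis R N').repr
  let u' : (Module.Free.ChooseBasisIndex R N →₀ R) →ₗ[R] (Module.Free.ChooseBasisIndex R N' →₀ R) :=
    e'.toLinearMap ∘ₗ u ∘ₗ e.symm.toLinearMap
  have hu' : ∀ x, u' x ∈ maximalIdeal R • (⊤ : Submodule R _) →
      x ∈ maximalIdeal R • (⊤ : Submodule R _) := by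
    intro x hx
    have h1 := Submodule.smul_top_le_comap_smul_top (maximalIdeal R) e'.symm.toLinearMap hx
    rw [Submodule.mem_comap] at h1
    have h2 : e'.symm.toLinearMap (u' x) = u (e.symm x) := by
      simp [u']
    rw [h2] at h1
    have h3 := Submodule.smul_top_le_comap_smul_top (maximalIdeal R) e.toLinearMap (hu _ h1)
    rw [Submodule.mem_comap] at h3
    simpa using h3
  have h := lTensor_injective_finsupp u' hu' Q
  have hcomp : u = e'.symm.toLinearMap ∘ₗ u' ∘ₗ e.toLinearMap := by
    ext x
    simp [u']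
  rw [hcomp, LinearMap.lTensor_comp, LinearMap.lTensor_comp, LinearMap.coe_comp, LinearMap.coe_comp]
  exact ((LinearEquiv.lTensor Q e'.symm).injective.comp h).comp (LinearEquiv.lTensor Q e).injective

end Free

end Groth.Agent.Lib.helper3.FreeLocalInj
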