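import Mathlib
import Groth.Agent.Lib.Helper3.FreeLocalInj1

/-!
# Maps from a free module to a flat module over a local ring which are injective mod `𝔪`
are universally injective (helper3; used by S1204)
-/

set_option autoImplicit false
set_option linter.style.haveILetI false
set_option linter.unusedSectionVars false
universe u

open TensorProduct IsLocalRing

namespace Groth.Agent.Lib.helper3.FreeFlatInj

open Groth.Agent.Lib.helper3.FreeLocalInj

section Basis

variable {R : Type u} [CommRing R] {F : Type u} [AddCommGroup F] [Module R F]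
  {ι : Type u} [Fintype ι] (b : Module.Basis ι R F)

/-- every element of `Q ⊗ F` is `∑ qᵢ ⊗ bᵢ`. -/
theorem exists_sum_tmul_basis (Q : Type u) [AddCommGroup Q] [Module R Q] (x : Q ⊗[R] F) :
    ∃ q : ι → Q, x = ∑ i, q i ⊗ₜ[R] b i := by
  induction x using TensorProduct.induction_on with
  | zero => exact ⟨0, by simp⟩
  | tmul q f =>
    refine ⟨fun i => b.repr f i • q, ?_⟩
    conv_lhs => rw [← b.sum_repr f]
    rw [TensorProduct.tmul_sum]
    refine Finset.sum_congr rfl (fun i _ => ?_)
    rw [TensorProduct.tmul_smul, TensorProduct.smul_tmul']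
  | add x y hx hy =>
    obtain ⟨q, rfl⟩ := hx
    obtain ⟨q', rfl⟩ := hy
    refine ⟨q + q', ?_⟩
    rw [← Finset.sum_add_distrib]
    refine Finset.sum_congr rfl (fun i _ => ?_)
    rw [Pi.add_apply, TensorProduct.add_tmul]

end Basis

section Local

variable {R : Type u} [CommRing R] [IsLocalRing R]

/-- finite free source, flat target. -/
theorem lTensor_injective_of_basis {F N' : Type u} [AddCommGroup F] [Module R F]
    [AddCommGroup N'] [Module R N'] [Module.Flat R N'] {ι : Type u} [Fintype ι]
    (b : Module.Basis ι R F) (v : F →ₗ[R] N')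
    (hv : ∀ x, v x ∈ maximalIdeal R • (⊤ : Submodule R N') →
      x ∈ maximalIdeal R • (⊤ : Submodule R F))
    (Q : Type u) [AddCommGroup Q] [Module R Q] : Function.Injective (v.lTensor Q) := by
  classical
  rw [injective_iff_map_eq_zero]
  intro x hx
  obtain ⟨q, rfl⟩ := exists_sum_tmul_basis b Q x
  rw [map_sum] at hx
  simp only [LinearMap.lTensor_tmul] at hx
  have hinj : Function.Injective
      (LinearMap.rTensor N' (Submodule.span R (Set.range q)).subtype) :=
    Module.Flat.rTensor_preserves_injective_linearMap _ (Submodule.injective_subtype _)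
  obtain ⟨k, a, y, hay, ham⟩ :=
    TensorProduct.vanishesTrivially_of_sum_tmul_eq_zero_of_rTensor_injective R
      (m := q) (n := fun i => v (b i)) hinj hx
  -- the matrix map
  let A : F →ₗ[R] (Fin k → R) := b.constr R (fun i => (fun j => a i j))
  let Y : (Fin k → R) →ₗ[R] N' := (Pi.basisFun R (Fin k)).constr R y
  have hA : ∀ i, A (b i) = fun j => a i j := fun i => by simp [A]
  have hY : ∀ d : Fin k → R, Y d = ∑ j, d j • y j := by
    intro d
    simp [Y, Module.Basis.constr_apply_fintype]
  have hvYA : v = Y ∘ₗ A := by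
    refine b.ext (fun i => ?_)
    rw [LinearMap.comp_apply, hA, hY]
    exact hay i
  have hAb : ∀ c : F, A c ∈ maximalIdeal R • (⊤ : Submodule R (Fin k → R)) →
      c ∈ maximalIdeal R • (⊤ : Submodule R F) := by
    intro c hc
    apply hv
    have := Submodule.smul_top_le_comap_smul_top (maximalIdeal R) Y hc
    rw [Submodule.mem_comap] at this
    rw [hvYA]
    exact this
  haveI : Module.Finite R F := Module.Finite.of_basis b
  obtain ⟨B, hB⟩ := exists_leftInverse_of_finite_free (F := F) (F' := Fin k → R) A hAb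
  have h0 : A.lTensor Q (∑ i, q i ⊗ₜ[R] b i) = 0 := by
    rw [map_sum]
    simp only [LinearMap.lTensor_tmul, hA]
    have hdec : ∀ i, (fun j => a i j) = ∑ j, a i j • (Pi.basisFun R (Fin k)) j := by
      intro i
      funext j
      simp [Finset.sum_apply, Pi.single_apply]
    have : ∀ i, q i ⊗ₜ[R] (fun j => a i j) =
        ∑ j, (a i j • q i) ⊗ₜ[R] ((Pi.basisFun R (Fin k)) j) := by
      intro i
      conv_lhs => rw [hdec i]
      rw [TensorProduct.tmul_sum]
      refine Finset.sum_congr rfl (fun j _ => ?_)
      rw [TensorProduct.tmul_smul, TensorProduct.smul_tmul']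
    simp_rw [this]
    rw [Finset.sum_comm]
    refine Finset.sum_eq_zero (fun j _ => ?_)
    rw [← TensorProduct.sum_tmul, ham j, TensorProduct.zero_tmul]
  have := congrArg (B.lTensor Q) h0
  rwa [← LinearMap.comp_apply, ← LinearMap.lTensor_comp, hB, LinearMap.lTensor_id,
    LinearMap.id_apply, map_zero] at this

/-- finite free submodule with a retraction, flat target. -/
theorem eq_zero_core_flat {N N' : Type u} [AddCommGroup N] [Module R N] [AddCommGroup N']
    [Module R N'] [Module.Flat R N'] (u : N →ₗ[R] N')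
    (hu : ∀ x, u x ∈ maximalIdeal R • (⊤ : Submodule R N') →
      x ∈ maximalIdeal R • (⊤ : Submodule R N))
    (F : Submodule R N) [Module.Finite R F] [Module.Free R F]
    (π : N →ₗ[R] F) (hπ : π ∘ₗ F.subtype = LinearMap.id)
    (Q : Type u) [AddCommGroup Q] [Module R Q] (xσ : Q ⊗[R] F)
    (h : u.lTensor Q (F.subtype.lTensor Q xσ) = 0) : xσ = 0 := by
  let v : F →ₗ[R] N' := u ∘ₗ F.subtype
  have hvb : ∀ y : F, v y ∈ maximalIdeal R • (⊤ : Submodule R N') →
      y ∈ maximalIdeal R • (⊤ : Submodule R F) := by
    intro y hy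
    have h2 := hu _ hy
    have h3 := Submodule.smul_top_le_comap_smul_top (maximalIdeal R) π h2
    have h4 : π (y : N) = y := LinearMap.congr_fun hπ y
    rw [Submodule.mem_comap] at h3
    change π (y : N) ∈ _ at h3
    rw [h4] at h3
    exact h3
  have hinj := lTensor_injective_of_basis (Module.Free.chooseBasis R F) v hvb Q
  apply hinj
  rw [map_zero, LinearMap.lTensor_comp, LinearMap.comp_apply, h]

theorem lTensor_injective_finsupp_flat {ι : Type u} {N' : Type u} [AddCommGroup N'] [Module R N']
    [Module.Flat R N'] (u : (ι →₀ R) →ₗ[R] N')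
    (hu : ∀ x, u x ∈ maximalIdeal R • (⊤ : Submodule R N') →
      x ∈ maximalIdeal R • (⊤ : Submodule R (ι →₀ R)))
    (Q : Type u) [AddCommGroup Q] [Module R Q] : Function.Injective (u.lTensor Q) := by
  classical
  rw [injective_iff_map_eq_zero]
  intro x hx
  obtain ⟨N₀, hN₀, hxN₀⟩ := TensorProduct.exists_finite_submodule_right_of_setFinite {x}
    (Set.finite_singleton x)
  obtain ⟨x₀, hx₀⟩ := hxN₀ (Set.mem_singleton x)
  obtain ⟨σ, hσ⟩ := exists_finset_le_supported N₀ (Module.Finite.iff_fg.mp hN₀)
  haveI hFσfin : Module.Finite R (Finsupp.supported R R (σ : Set ι)) := finite_supported σ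
  haveI hFσfree : Module.Free R (Finsupp.supported R R (σ : Set ι)) := free_supported σ
  let j : N₀ →ₗ[R] Finsupp.supported R R (σ : Set ι) := Submodule.inclusion hσ
  have hj : (Finsupp.supported R R (σ : Set ι)).subtype ∘ₗ j = N₀.subtype := by
    ext c : 1
    rfl
  have hxσ : (Finsupp.supported R R (σ : Set ι)).subtype.lTensor Q (j.lTensor Q x₀) = x := by
    rw [← LinearMap.comp_apply, ← LinearMap.lTensor_comp, hj, hx₀]
  have h6 : j.lTensor Q x₀ = 0 :=
    eq_zero_core_flat u hu (Finsupp.supported R R (σ : Set ι))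
      (Finsupp.restrictDom R R (σ : Set ι)) (Finsupp.restrictDom_comp_subtype _) Q _
      (by rw [hxσ, hx])
  rw [← hxσ, h6, map_zero]

/-- **Free source, flat target, injective mod `𝔪` ⇒ universally injective.** -/
theorem lTensor_injective_of_free_of_flat {N N' : Type u} [AddCommGroup N] [Module R N]
    [AddCommGroup N'] [Module R N'] [Module.Free R N] [Module.Flat R N'] (u : N →ₗ[R] N')
    (hu : ∀ x, u x ∈ maximalIdeal R • (⊤ : Submodule R N') →
      x ∈ maximalIdeal R • (⊤ : Submodule R N))
    (Q : Type u) [AddCommGroup Q] [Module R Q] : Function.Injective (u.lTensor Q) := by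
  let e := (Module.Free.chooseBasis R N).repr
  let u' : (Module.Free.ChooseBasisIndex R N →₀ R) →ₗ[R] N' := u ∘ₗ e.symm.toLinearMap
  have hu' : ∀ x, u' x ∈ maximalIdeal R • (⊤ : Submodule R N') →
      x ∈ maximalIdeal R • (⊤ : Submodule R _) := by
    intro x hx
    have h3 := Submodule.smul_top_le_comap_smul_top (maximalIdeal R) e.toLinearMap (hu _ hx)
    rw [Submodule.mem_comap] at h3
    simpa using h3
  have h := lTensor_injective_finsupp_flat u' hu' Q
  have hcomp : u = u' ∘ₗ e.toLinearMap := by
    ext x
    simp [u']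
  rw [hcomp, LinearMap.lTensor_comp, LinearMap.coe_comp]
  exact h.comp (LinearEquiv.lTensor Q e).injective

end Local

end Groth.Agent.Lib.helper3.FreeFlatInj
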