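import Mathlib
import Groth.Prelude.Def_FlatCA
import Groth.Agent.Lib.Helper3.FreeFlatInj1
import Groth.Agent.Lib.Helper3.FpLocal1

/-!
# Fibre bases: general lemmas towards S1204 (helper3)
-/

set_option autoImplicit false
set_option linter.style.haveILetI false
set_option linter.unusedSectionVars false
universe u

open TensorProduct IsLocalRing

namespace Groth.Agent.Lib.helper3.FibBasis

section Alpha

variable {S : Type u} [CommRing S] (P : Ideal S) [P.IsPrime] (N : Type u) [AddCommGroup N]
  [Module S N]

/-- elements outside `P` act invertibly on `κ(P) ⊗ N`. -/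
theorem isUnit_algebraMap_end (x : S) (hx : x ∉ P) :
    IsUnit (algebraMap S (Module.End S (P.ResidueField ⊗[S] N)) x) := by
  set u := algebraMap S P.ResidueField x with hu
  have hu0 : u ≠ 0 := fun h => hx ((Ideal.algebraMap_residueField_eq_zero).mp h)
  rw [Module.End.isUnit_iff]
  have hact : ∀ z : P.ResidueField ⊗[S] N, (algebraMap S (Module.End S _) x) z = u • z := by
    intro z
    rw [Module.algebraMap_end_apply, hu, algebraMap_smul]
  constructor
  · intro z z' hzz'
    rw [hact, hact] at hzz'
    exact smul_right_injective _ hu0 hzz'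
  · intro z
    refine ⟨u⁻¹ • z, ?_⟩
    rw [hact, smul_smul, mul_inv_cancel₀ hu0, one_smul]

/-- there is a map from a finite free module inducing an isomorphism on the fibre at `P`. -/
theorem exists_alpha [Module.Finite S N] :
    ∃ (r : ℕ) (α : (Fin r → S) →ₗ[S] N), Function.Bijective (α.baseChange P.ResidueField) := by
  classical
  set κ := P.ResidueField with hκ
  set s : Set (κ ⊗[S] N) := Set.range (TensorProduct.mk S κ N 1) with hs
  have hspan : Submodule.span κ s = ⊤ := by
    rw [eq_top_iff]
    rintro z -
    induction z using TensorProduct.induction_on with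
    | zero => exact Submodule.zero_mem _
    | tmul a n =>
      have : a ⊗ₜ[S] n = a • ((1 : κ) ⊗ₜ[S] n) := by
        rw [TensorProduct.smul_tmul', smul_eq_mul, mul_one]
      rw [this]
      exact Submodule.smul_mem _ _ (Submodule.subset_span ⟨n, rfl⟩)
    | add x y hx hy => exact Submodule.add_mem _ hx hy
  haveI : Module.Finite κ (Submodule.span κ s) := inferInstance
  obtain ⟨f, hfs, hfspan, hfli⟩ := Submodule.exists_fun_fin_finrank_span_eq κ s
  set r := Module.finrank κ (Submodule.span κ s) with hr
  choose x hx using hfs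
  let α : (Fin r → S) →ₗ[S] N := (Pi.basisFun S (Fin r)).constr S x
  refine ⟨r, α, ?_⟩
  have hα : ∀ i, α (Pi.basisFun S (Fin r) i) = x i := fun i => by simp [α]
  let b := (Pi.basisFun S (Fin r)).baseChange κ
  let b' : Module.Basis (Fin r) κ (κ ⊗[S] N) :=
    Module.Basis.mk hfli (by rw [hfspan, hspan])
  have hmap : ∀ i, α.baseChange κ (b i) = b' i := by
    intro i
    rw [Module.Basis.baseChange_apply, LinearMap.baseChange_tmul, hα, Module.Basis.mk_apply,
      ← hx i]
    rfl
  have heq : α.baseChange κ = (b.equiv b' (Equiv.refl _)).toLinearMap := by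
    refine b.ext (fun i => ?_)
    rw [hmap]
    simp
  rw [heq]
  exact (b.equiv b' (Equiv.refl _)).bijective

end Alpha

section Surj

variable {S : Type u} [CommRing S] (P : Ideal S) [P.IsPrime] {N : Type u} [AddCommGroup N]
  [Module S N] [Module.Finite S N] {M : Type u} [AddCommGroup M] [Module S M]

/-- if `α ⊗ κ(P)` is surjective, then `α_P` is surjective (Nakayama). -/
theorem map_surjective_of_baseChange_surjective (α : M →ₗ[S] N)
    (h : Function.Surjective (α.baseChange P.ResidueField)) :
    Function.Surjective (LocalizedModule.map P.primeCompl α) := by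
  set C := N ⧸ LinearMap.range α with hC
  have hsub : Subsingleton (P.ResidueField ⊗[S] C) := by
    refine ⟨fun a b => ?_⟩
    have hz : ∀ z : P.ResidueField ⊗[S] C, z = 0 := by
      intro z
      obtain ⟨y, rfl⟩ := LinearMap.lTensor_surjective P.ResidueField
        (LinearMap.range α).mkQ_surjective z
      obtain ⟨w, rfl⟩ := h y
      induction w using TensorProduct.induction_on with
      | zero => simp
      | tmul a m =>
        rw [LinearMap.baseChange_tmul, LinearMap.lTensor_tmul]
        have : (LinearMap.range α).mkQ (α m) = 0 := by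
          rw [Submodule.mkQ_apply, Submodule.Quotient.mk_eq_zero]
          exact LinearMap.mem_range_self α m
        rw [this, TensorProduct.tmul_zero]
      | add x y hx hy => rw [map_add, map_add, hx, hy, add_zero]
    rw [hz a, hz b]
  have hnot : (⟨P, inferInstance⟩ : PrimeSpectrum S) ∉ Module.support S C := by
    rw [Module.mem_support_iff_nontrivial_residueField_tensorProduct]
    exact not_nontrivial_iff_subsingleton.mpr hsub
  rw [Module.notMem_support_iff] at hnot
  have hex := LocalizedModule.map_exact P.primeCompl α (LinearMap.range α).mkQ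
    (LinearMap.exact_map_mkQ_range α)
  intro y
  have h0 : (IsLocalizedModule.map P.primeCompl (LocalizedModule.mkLinearMap P.primeCompl N)
      (LocalizedModule.mkLinearMap P.primeCompl C)) (LinearMap.range α).mkQ y = 0 :=
    Subsingleton.elim _ _
  obtain ⟨w, hw⟩ := (hex y).mp h0
  exact ⟨w, hw⟩

end Surj


section CokerFlat

variable {R : Type u} [CommRing R] {M₁ M₂ M₃ : Type u} [AddCommGroup M₁] [Module R M₁]
  [AddCommGroup M₂] [Module R M₂] [AddCommGroup M₃] [Module R M₃]

/-- cokernel of a universally injective map into a flat module is flat. -/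
theorem flat_of_exact_of_univInj (f : M₁ →ₗ[R] M₂) (g : M₂ →ₗ[R] M₃)
    (hex : Function.Exact f g) (hg : Function.Surjective g)
    (hf : ∀ I : Ideal R, Function.Injective (f.rTensor (R ⧸ I))) [Module.Flat R M₂] :
    Module.Flat R M₃ := by
  rw [Module.Flat.iff_lTensor_injective']
  intro I
  exact lTensor_injective_of_exact_of_exact_of_rTensor_injective hex hg
    (LinearMap.exact_subtype_mkQ I) (Submodule.mkQ_surjective I) (hf I)
    (Module.Flat.lTensor_preserves_injective_linearMap _ (Submodule.injective_subtype I))

end CokerFlat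

section LocUniv

variable {R S : Type u} [CommRing R] [CommRing S] [Algebra R S] (T : Submonoid S)
  {M M' : Type u} [AddCommGroup M] [Module S M] [Module R M] [IsScalarTower R S M]
  [AddCommGroup M'] [Module S M'] [Module R M'] [IsScalarTower R S M']

/-- localization preserves injectivity after tensoring over the base. -/
theorem rTensor_map_injective (α : M →ₗ[S] M') (Q : Type u) [AddCommGroup Q] [Module R Q]
    (h : Function.Injective ((α.restrictScalars R).rTensor Q)) :
    Function.Injective
      (((LocalizedModule.map T α).restrictScalars R).rTensor Q) := by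
  let f₁ := AlgebraTensorModule.rTensor R Q (LocalizedModule.mkLinearMap T M)
  let f₂ := AlgebraTensorModule.rTensor R Q (LocalizedModule.mkLinearMap T M')
  let A : M ⊗[R] Q →ₗ[S] M' ⊗[R] Q := AlgebraTensorModule.rTensor R Q α
  have hA : Function.Injective A := h
  have h1 := IsLocalizedModule.map_injective T f₁ f₂ A hA
  have h2 : IsLocalizedModule.map T f₁ f₂ A =
      AlgebraTensorModule.rTensor R Q ((LocalizedModule.map T α).restrictScalars S) := by
    apply IsLocalizedModule.linearMap_ext T f₁ f₂
    rw [IsLocalizedModule.map_comp]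
    ext m q
    simp [f₁, f₂, A, LocalizedModule.map_mk]
  rw [h2] at h1
  exact h1

end LocUniv

section Main

variable {R S : Type u} [CommRing R] [IsLocalRing R] [CommRing S] [Algebra R S]
  [hP : ((maximalIdeal R).map (algebraMap R S)).IsPrime]
  (q : Ideal S) [q.IsPrime] [q.LiesOver (maximalIdeal R)]
  {N : Type u} [AddCommGroup N] [Module S N] [Module R N] [IsScalarTower R S N]

include q in
theorem map_le : (maximalIdeal R).map (algebraMap R S) ≤ q := by
  rw [Ideal.map_le_iff_le_comap]
  have := Ideal.LiesOver.over (p := maximalIdeal R) (P := q)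
  rw [this]

/-- membership in `𝔪 • ⊤` for vectors with coordinates in `𝔪S`. -/
theorem mem_smul_top_pi {r : ℕ} (x : Fin r → S)
    (hx : ∀ i, x i ∈ (maximalIdeal R).map (algebraMap R S)) :
    x ∈ maximalIdeal R • (⊤ : Submodule R (Fin r → S)) := by
  classical
  have hsum : x = ∑ i, (LinearMap.single R (fun _ : Fin r => S) i) (x i) := by
    funext j
    simp [Finset.sum_apply, Pi.single_apply]
  rw [hsum]
  refine Submodule.sum_mem _ (fun i _ => ?_)
  have h1 : x i ∈ maximalIdeal R • (⊤ : Submodule R S) := by
    rw [Ideal.smul_top_eq_map]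
    exact hx i
  exact Submodule.smul_top_le_comap_smul_top (maximalIdeal R)
    (LinearMap.single R (fun _ : Fin r => S) i) h1

/-- the key reduction mod `𝔪`. -/
theorem mem_smul_top_of_mk_mem {r : ℕ} (α : (Fin r → S) →ₗ[S] N)
    (hinj : Function.Injective
      (α.baseChange ((maximalIdeal R).map (algebraMap R S)).ResidueField))
    (x : Fin r → S)
    (hx : LocalizedModule.mkLinearMap q.primeCompl N (α x) ∈
      maximalIdeal R • (⊤ : Submodule R (LocalizedModule q.primeCompl N))) :
    x ∈ maximalIdeal R • (⊤ : Submodule R (Fin r → S)) := by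
  set P := (maximalIdeal R).map (algebraMap R S) with hPdef
  set κ := P.ResidueField with hκ
  have hPq : P ≤ q := map_le q
  let ψ : LocalizedModule q.primeCompl N →ₗ[S] κ ⊗[S] N :=
    LocalizedModule.lift q.primeCompl (TensorProduct.mk S κ N 1)
      (fun t => isUnit_algebraMap_end P N t (fun h => t.2 (hPq h)))
  have hψmk : ∀ n : N, ψ (LocalizedModule.mkLinearMap q.primeCompl N n) = (1 : κ) ⊗ₜ[S] n := by
    intro n
    have := LocalizedModule.lift_comp q.primeCompl (TensorProduct.mk S κ N 1)
      (fun t => isUnit_algebraMap_end P N t (fun h => t.2 (hPq h)))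
    exact LinearMap.congr_fun this n
  have hψ0 : ∀ y ∈ maximalIdeal R • (⊤ : Submodule R (LocalizedModule q.primeCompl N)),
      ψ y = 0 := by
    intro y hy
    refine Submodule.smul_induction_on hy ?_ ?_
    · intro m hm y' _
      rw [← algebraMap_smul S m y', map_smul, ← algebraMap_smul κ (algebraMap R S m) (ψ y')]
      have : algebraMap S κ (algebraMap R S m) = 0 :=
        (Ideal.algebraMap_residueField_eq_zero).mpr (Ideal.mem_map_of_mem _ hm)
      rw [this, zero_smul]
    · intro a b ha hb
      rw [map_add, ha, hb, add_zero]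
  have h1 : (1 : κ) ⊗ₜ[S] (α x) = 0 := by
    rw [← hψmk]
    exact hψ0 _ hx
  have h2 : α.baseChange κ ((1 : κ) ⊗ₜ[S] x) = 0 := by
    rw [LinearMap.baseChange_tmul]
    exact h1
  have h3 : (1 : κ) ⊗ₜ[S] x = 0 := hinj (by rw [h2, map_zero])
  apply mem_smul_top_pi
  intro i
  have h4 := congrArg (fun z => TensorProduct.rid S κ
    ((LinearMap.lTensor κ (LinearMap.proj (R := S) (φ := fun _ : Fin r => S) i)) z)) h3
  simp only [LinearMap.lTensor_tmul, LinearMap.proj_apply, TensorProduct.rid_tmul, map_zero] at h4
  rw [Algebra.smul_def, mul_one] at h4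
  exact (Ideal.algebraMap_residueField_eq_zero).mp h4

/-- (1) ⇒ (2), first half: universal injectivity. -/
theorem univInj_of_flatAt [Module.Free R S] {r : ℕ} (α : (Fin r → S) →ₗ[S] N)
    (hinj : Function.Injective
      (α.baseChange ((maximalIdeal R).map (algebraMap R S)).ResidueField))
    (hflat : Module.Flat R (LocalizedModule q.primeCompl N))
    (Q : Type u) [AddCommGroup Q] [Module R Q] :
    Function.Injective ((α.restrictScalars R).lTensor Q) := by
  let u : (Fin r → S) →ₗ[R] LocalizedModule q.primeCompl N :=
    ((LocalizedModule.mkLinearMap q.primeCompl N).restrictScalars R) ∘ₗ (α.restrictScalars R)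
  have hu : ∀ x, u x ∈ maximalIdeal R • (⊤ : Submodule R (LocalizedModule q.primeCompl N)) →
      x ∈ maximalIdeal R • (⊤ : Submodule R (Fin r → S)) :=
    fun x hx => mem_smul_top_of_mk_mem q α hinj x hx
  have h := Groth.Agent.Lib.helper3.FreeFlatInj.lTensor_injective_of_free_of_flat u hu Q
  rw [LinearMap.lTensor_comp, LinearMap.coe_comp] at h
  exact Function.Injective.of_comp h

/-- elements outside `𝔪S` are nonzerodivisors on `S`. -/
theorem eq_zero_of_mul_eq_zero [Module.Free R S] (t : S)
    (ht : t ∉ (maximalIdeal R).map (algebraMap R S)) (s : S) (h : t * s = 0) : s = 0 := by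
  let μ : S →ₗ[R] S := (LinearMap.mulLeft R t)
  have hμ : ∀ x, μ x ∈ maximalIdeal R • (⊤ : Submodule R S) →
      x ∈ maximalIdeal R • (⊤ : Submodule R S) := by
    intro x hx
    rw [Ideal.smul_top_eq_map] at hx ⊢
    have hx' : t * x ∈ (maximalIdeal R).map (algebraMap R S) := hx
    exact (hP.mem_or_mem hx').resolve_left ht
  have hinj := Groth.Agent.Lib.helper3.FreeFlatInj.lTensor_injective_of_free_of_flat μ hμ R
  have h1 : μ.lTensor R ((1 : R) ⊗ₜ[R] s) = 0 := by
    rw [LinearMap.lTensor_tmul]
    show (1 : R) ⊗ₜ[R] (t * s) = 0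
    rw [h, TensorProduct.tmul_zero]
  have h2 : (1 : R) ⊗ₜ[R] s = 0 := hinj (by rw [h1, map_zero])
  have := congrArg (TensorProduct.lid R S) h2
  simpa using this

/-- (4) ⇒ (5): injectivity at `𝔭` implies injectivity at `q`. -/
theorem map_injective_of_map_injective [Module.Free R S] {r : ℕ} (α : (Fin r → S) →ₗ[S] N)
    (hPinj : Function.Injective
      (LocalizedModule.map ((maximalIdeal R).map (algebraMap R S)).primeCompl α)) :
    Function.Injective (LocalizedModule.map q.primeCompl α) := by
  set P := (maximalIdeal R).map (algebraMap R S) with hPdef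
  rw [injective_iff_map_eq_zero]
  intro y hy
  induction y using LocalizedModule.induction_on with
  | h x t =>
    rw [LocalizedModule.map_mk, ← LocalizedModule.zero_mk (1 : q.primeCompl),
      LocalizedModule.mk_eq] at hy
    obtain ⟨u, hu⟩ := hy
    have hu' : α ((u : S) • x) = 0 := by
      rw [map_smul]
      simpa [Submonoid.smul_def] using hu
    have h1 : (LocalizedModule.map P.primeCompl α)
        (LocalizedModule.mk ((u : S) • x) (1 : P.primeCompl)) = 0 := by
      rw [LocalizedModule.map_mk, hu', LocalizedModule.zero_mk]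
    have h2 := hPinj (h1.trans (map_zero _).symm)
    rw [← LocalizedModule.zero_mk (1 : P.primeCompl), LocalizedModule.mk_eq] at h2
    obtain ⟨v, hv⟩ := h2
    have hv' : (v : S) • ((u : S) • x) = 0 := by
      simpa [Submonoid.smul_def] using hv
    have hux : (u : S) • x = 0 := by
      funext i
      have := congrFun hv' i
      simp only [Pi.smul_apply, smul_eq_mul, Pi.zero_apply] at this ⊢
      exact eq_zero_of_mul_eq_zero (v : S) v.2 _ this
    rw [← LocalizedModule.zero_mk (1 : q.primeCompl), LocalizedModule.mk_eq]
    exact ⟨u, by simp [Submonoid.smul_def, hux]⟩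

end Main

end Groth.Agent.Lib.helper3.FibBasis
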