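import Mathlib
import Groth.Prelude.Def_FlatCA
import Groth.Agent.Lib.Helper3.FibreRingBridge
import Groth.Agent.Lib.Helper3.FibreDimBC2
import Groth.Agent.Lib.Helper5.SmoothFibreDim
import Groth.Agent.Lib.Helper18.PullbackStalk
import Groth.Agent.Lib.Helper3.FibBasis1
import Groth.Agent.Lib.Helper3.GIProj1
import Groth.Agent.Lib.Helper3.CDev1

/-!
# One-step dévissage toolkit I (helper3; towards S1285)

* `T p A M` : primes of `A` over `p` containing the annihilator of `M`;
  `supportDim_fiberMod_eq` : the support dimension of the fibre module is `krullDim (T p A M)`.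
* `ringKrullDim_fiber_le` : fibre rings of a smooth map of relative dimension `n` have dim `≤ n`.
* `supportDim_succ_le` : over a domain fibre, a finite module not supported at the generic point
  has fibre support dimension `< dim`.
* `krullDim_T_le` : comparison of `T` along `S ↠ C ⟵ D` (finite).
-/

set_option autoImplicit false
set_option linter.style.haveILetI false
set_option linter.unusedSectionVars false
universe u

open TensorProduct

namespace Groth.Agent.Lib.helper3.OneStep

attribute [local instance] Algebra.TensorProduct.rightAlgebra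

section P1

variable {R : Type u} [CommRing R] (p : Ideal R) [p.IsPrime]
  (A : Type u) [CommRing A] [Algebra R A]
  (M : Type u) [AddCommGroup M] [Module A M]

/-- primes of `A` over `p` containing the annihilator of `M`. -/
def T : Set (PrimeSpectrum A) :=
  {q | q.asIdeal.under R = p ∧ Module.annihilator A M ≤ q.asIdeal}

theorem under_comap_eq (Q : Ideal (p.Fiber A)) [Q.IsPrime] :
    (Q.comap (Algebra.TensorProduct.includeRight (R := R) (A := p.ResidueField)
      (B := A))).under R = p := by
  have h1 : Q.LiesOver p := inferInstance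
  have h2 : p = Q.under R := h1.over
  refine Eq.trans ?_ h2.symm
  rw [Ideal.under, Ideal.under]
  ext r
  simp only [Ideal.mem_comap]
  rw [AlgHom.commutes]

variable [Module R M] [IsScalarTower R A M]

theorem mem_support_fiberMod_iff [Module.Finite A M] (Q : PrimeSpectrum (p.Fiber A)) :
    Q ∈ Module.support (p.Fiber A) (FlatCA.fiberMod p A M) ↔
      Module.annihilator A M ≤ Q.asIdeal.comap
        (Algebra.TensorProduct.includeRight (R := R) (A := p.ResidueField) (B := A)) := by
  have h := Groth.Agent.Lib.Helper18.PullbackStalk.mem_support_baseChange_iff A (p.Fiber A) M Q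
  exact h.trans Module.mem_support_iff_of_finite

theorem supportDim_fiberMod_eq [Module.Finite A M] :
    Module.supportDim (p.Fiber A) (FlatCA.fiberMod p A M) = Order.krullDim ↥(T p A M) := by
  let o := PrimeSpectrum.primesOverOrderIsoFiber R A p
  have hcoe : ∀ Q : PrimeSpectrum (p.Fiber A), ((o.symm Q : p.primesOver A) : Ideal A) =
      Q.asIdeal.comap (Algebra.TensorProduct.includeRight (R := R) (A := p.ResidueField)
        (B := A)) := fun Q => rfl
  unfold Module.supportDim
  apply le_antisymm
  · refine Order.krullDim_le_of_strictMono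
      (fun Q => (⟨⟨Q.1.asIdeal.comap (Algebra.TensorProduct.includeRight (R := R)
        (A := p.ResidueField) (B := A)), inferInstance⟩, under_comap_eq p A Q.1.asIdeal,
        (mem_support_fiberMod_iff p A M Q.1).mp Q.2⟩ : ↥(T p A M))) ?_
    intro Q Q' h
    have h' : o.symm Q.1 < o.symm Q'.1 := o.symm.strictMono h
    exact h'
  · have hmem : ∀ q : ↥(T p A M), o ⟨q.1.asIdeal, q.1.2, ⟨q.2.1.symm⟩⟩ ∈
        Module.support (p.Fiber A) (FlatCA.fiberMod p A M) := by
      intro q
      rw [mem_support_fiberMod_iff, ← hcoe, OrderIso.symm_apply_apply]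
      exact q.2.2
    refine Order.krullDim_le_of_strictMono
      (fun q => (⟨o ⟨q.1.asIdeal, q.1.2, ⟨q.2.1.symm⟩⟩, hmem q⟩ :
        ↥(Module.support (p.Fiber A) (FlatCA.fiberMod p A M)))) ?_
    intro q q' h
    have h' : (⟨q.1.asIdeal, q.1.2, ⟨q.2.1.symm⟩⟩ : p.primesOver A) <
        ⟨q'.1.asIdeal, q'.1.2, ⟨q'.2.1.symm⟩⟩ := h
    exact o.strictMono h'

end P1

section DimF

open AlgebraicGeometry CategoryTheory

variable {R : Type u} [CommRing R] {D : Type u} [CommRing D] [Algebra R D]

theorem localDim_aux (q : PrimeSpectrum D) (p : Ideal R) [p.IsPrime] (h : q.asIdeal.under R = p)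
    (Q : PrimeSpectrum (p.Fiber D))
    (hQ : Q.asIdeal.comap (Algebra.TensorProduct.includeRight.toRingHom) = q.asIdeal) :
    FlatMor.localDim (PrimeSpectrum (p.Fiber D)) Q =
      FlatMor.fibreDimAt (Spec.map (CommRingCat.ofHom (algebraMap R D))) q := by
  subst h
  rw [FibreRingBridge.eq_fibrePoint R D q Q hQ, FibreRingBridge.localDim_fibrePoint]

theorem ringKrullDim_fiber_le (p : Ideal R) [p.IsPrime] (n : ℕ) (h : FlatCA.SmoothRelDim n R D) :
    ringKrullDim (p.Fiber D) ≤ (n : WithBot ℕ∞) := by
  haveI : SmoothOfRelativeDimension n (Spec.map (CommRingCat.ofHom (algebraMap R D))) := h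
  rw [← PrimeSpectrum.topologicalKrullDim_eq_ringKrullDim, FibreDimBC.dim_eq_iSup_localDim]
  apply iSup_le
  intro Q
  have h1 := localDim_aux (R := R) (D := D)
    ⟨Q.asIdeal.comap (Algebra.TensorProduct.includeRight (R := R) (A := p.ResidueField)
      (B := D)).toRingHom, inferInstance⟩ p (under_comap_eq p D Q.asIdeal) Q rfl
  exact le_of_eq (h1.trans
    (Groth.Agent.Lib.helper5.SmoothFibreDim.fibreDimAt_of_smoothOfRelativeDimension n _ _))

theorem algebra_smooth (n : ℕ) (h : FlatCA.SmoothRelDim n R D) : Algebra.Smooth R D := by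
  haveI : SmoothOfRelativeDimension n (Spec.map (CommRingCat.ofHom (algebraMap R D))) := h
  have h1 : Smooth (Spec.map (CommRingCat.ofHom (algebraMap R D))) :=
    SmoothOfRelativeDimension.smooth n _
  have h2 := (HasRingHomProperty.Spec_iff (P := @Smooth)).mp h1
  exact RingHom.smooth_algebraMap.mp h2

theorem isDomain_fiber (p : Ideal R) [p.IsPrime] (n : ℕ) (h : FlatCA.SmoothRelDim n R D)
    (hgi : FlatCA.GeomIrredFibres R D) : IsDomain (p.Fiber D) := by
  haveI := algebra_smooth n h
  exact GIProj.GIF.of_geomIntegralFibres (CDev.geomIntegralFibres_of_smooth hgi) p.ResidueField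

end DimF

end Groth.Agent.Lib.helper3.OneStep
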