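import Mathlib
import Groth.Agent.Lib.Helper3.OneStep1

/-!
# One-step dévissage toolkit II (helper3; towards S1285)
-/

set_option autoImplicit false
set_option linter.style.haveILetI false
set_option linter.unusedSectionVars false
universe u

open TensorProduct

namespace Groth.Agent.Lib.helper3.OneStep

attribute [local instance] Algebra.TensorProduct.rightAlgebra

section Gen

variable {R : Type u} [CommRing R] (p : Ideal R) [p.IsPrime]
  {D : Type u} [CommRing D] [Algebra R D]

theorem liesOver_map [Nontrivial (p.Fiber D)] : (p.map (algebraMap R D)).LiesOver p := by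
  refine ⟨le_antisymm Ideal.le_comap_map ?_⟩
  intro f hf
  by_contra hfr
  let φ : D →+* p.ResidueField ⊗[R] D :=
    (Algebra.TensorProduct.includeRight (R := R) (A := p.ResidueField) (B := D)).toRingHom
  have hle : p.map (algebraMap R D) ≤ RingHom.ker φ := by
    rw [Ideal.map_le_iff_le_comap]
    intro a ha
    show φ (algebraMap R D a) = 0
    have h1 : φ (algebraMap R D a) = (algebraMap R p.ResidueField a) ⊗ₜ[R] (1 : D) := by
      show (1 : p.ResidueField) ⊗ₜ[R] (algebraMap R D a) = _
      rw [Algebra.algebraMap_eq_smul_one, ← TensorProduct.smul_tmul, Algebra.algebraMap_eq_smul_one]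
    rw [h1, Ideal.algebraMap_residueField_eq_zero.mpr ha, TensorProduct.zero_tmul]
  have h0 : φ (algebraMap R D f) = 0 := hle hf
  have h1 : φ (algebraMap R D f) = (algebraMap R p.ResidueField f) ⊗ₜ[R] (1 : D) := by
    show (1 : p.ResidueField) ⊗ₜ[R] (algebraMap R D f) = _
    rw [Algebra.algebraMap_eq_smul_one, ← TensorProduct.smul_tmul, Algebra.algebraMap_eq_smul_one]
  have hne : algebraMap R p.ResidueField f ≠ 0 := fun h =>
    hfr (Ideal.algebraMap_residueField_eq_zero.mp h)
  have h2 : (1 : p.ResidueField ⊗[R] D) = 0 := by
    have h3 : (algebraMap R p.ResidueField f)⁻¹ •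
        ((algebraMap R p.ResidueField f) ⊗ₜ[R] (1 : D)) = 0 := by
      rw [← h1, h0, smul_zero]
    rw [TensorProduct.smul_tmul', smul_eq_mul, inv_mul_cancel₀ hne] at h3
    exact h3
  exact one_ne_zero h2

theorem includeRight_ne_zero (P : Ideal D) [P.IsPrime] [P.LiesOver p] (d : D) (hd : d ∉ P) :
    (Algebra.TensorProduct.includeRight (R := R) (A := p.ResidueField) (B := D)) d ≠ 0 := by
  intro h1
  let φ : p.Fiber D →ₐ[R] P.ResidueField :=
    Algebra.TensorProduct.lift
      (Ideal.ResidueField.mapₐ p P (Algebra.ofId R D) (Ideal.LiesOver.over (p := p) (P := P)))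
      (IsScalarTower.toAlgHom R D P.ResidueField) (fun _ _ => .all _ _)
  have h2 := congrArg φ h1
  rw [map_zero] at h2
  have h3 : φ ((Algebra.TensorProduct.includeRight (R := R) (A := p.ResidueField) (B := D)) d) =
      algebraMap D P.ResidueField d := by
    simp [φ]
  rw [h3] at h2
  exact hd ((Ideal.algebraMap_residueField_eq_zero).mp h2)

variable (M : Type u) [AddCommGroup M] [Module D M] [Module R M] [IsScalarTower R D M]

instance finite_fiberMod [Module.Finite D M] : Module.Finite (p.Fiber D) (FlatCA.fiberMod p D M) :=
  inferInstanceAs (Module.Finite (p.Fiber D) ((p.Fiber D) ⊗[D] M))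

/-- over a domain fibre ring, a finite module whose annihilator is not contained in the prime
`P` (over `p`) has fibre module of support dimension `< dim` of the fibre ring. -/
theorem supportDim_succ_le [IsDomain (p.Fiber D)] [Module.Finite D M]
    (P : Ideal D) [P.IsPrime] [P.LiesOver p] (h : ¬ Module.annihilator D M ≤ P) :
    Module.supportDim (p.Fiber D) (FlatCA.fiberMod p D M) + 1 ≤ ringKrullDim (p.Fiber D) := by
  obtain ⟨d, hdA, hdP⟩ := Set.not_subset.mp h
  set t : p.Fiber D :=
    (Algebra.TensorProduct.includeRight (R := R) (A := p.ResidueField) (B := D)) d with ht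
  have ht0 : t ≠ 0 := includeRight_ne_zero p P d hdP
  have htA : t ∈ Module.annihilator (p.Fiber D) (FlatCA.fiberMod p D M) := by
    rw [Module.mem_annihilator]
    intro z
    have hz : ∀ z : (p.Fiber D) ⊗[D] M, t • z = 0 := by
      intro z
      induction z using TensorProduct.induction_on with
      | zero => exact smul_zero _
      | tmul x m =>
        rw [TensorProduct.smul_tmul', smul_eq_mul, mul_comm]
        have : x * t = d • x := by
          rw [ht, Algebra.smul_def]
          rw [mul_comm]
          rfl
        rw [this, TensorProduct.smul_tmul, (Module.mem_annihilator.mp hdA) m, TensorProduct.tmul_zero]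
      | add x y hx hy => rw [smul_add, hx, hy, add_zero]
    exact hz z
  rw [Module.supportDim_eq_ringKrullDim_quotient_annihilator]
  exact ringKrullDim_succ_le_of_surjective (Ideal.Quotient.mk _) Ideal.Quotient.mk_surjective
    (mem_nonZeroDivisors_of_ne_zero ht0) (Ideal.Quotient.eq_zero_iff_mem.mpr htA)

/-- Nakayama: a finite module with zero fibre at `P` is not supported at `P`. -/
theorem not_annihilator_le_of_subsingleton [Module.Finite D M] (P : Ideal D) [P.IsPrime]
    (h : Subsingleton (P.ResidueField ⊗[D] M)) : ¬ Module.annihilator D M ≤ P := by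
  intro hle
  have h1 : (⟨P, inferInstance⟩ : PrimeSpectrum D) ∈ Module.support D M :=
    Module.mem_support_iff_of_finite.mpr hle
  rw [Module.mem_support_iff_nontrivial_residueField_tensorProduct] at h1
  exact not_subsingleton _ h

end Gen

section Compare

variable {R : Type u} [CommRing R] (p : Ideal R) [p.IsPrime]
  {S C D : Type u} [CommRing S] [CommRing C] [CommRing D] [Algebra R S] [Algebra R C] [Algebra R D]
  [Algebra S C] [Algebra D C] [IsScalarTower R S C] [IsScalarTower R D C]
  (G : Type u) [AddCommGroup G] [Module C G] [Module S G] [Module D G] [IsScalarTower S C G]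
  [IsScalarTower D C G]

theorem krullDim_T_le (hsurj : Function.Surjective (algebraMap S C)) [Algebra.IsIntegral D C] :
    Order.krullDim ↥(T p S G) ≤ Order.krullDim ↥(T p D G) := by
  have hker : ∀ q : ↥(T p S G), RingHom.ker (algebraMap S C) ≤ q.1.asIdeal := by
    intro q s hs
    apply q.2.2
    rw [Module.mem_annihilator]
    intro g
    rw [← algebraMap_smul C s g, (RingHom.mem_ker).mp hs, zero_smul]
  have hprime : ∀ q : ↥(T p S G), (q.1.asIdeal.map (algebraMap S C)).IsPrime := fun q =>
    Ideal.map_isPrime_of_surjective hsurj (hker q)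
  have hcomap : ∀ q : ↥(T p S G), (q.1.asIdeal.map (algebraMap S C)).comap (algebraMap S C) =
      q.1.asIdeal := by
    intro q
    rw [Ideal.comap_map_of_surjective _ hsurj, sup_eq_left]
    exact hker q
  have hprimeD : ∀ q : ↥(T p S G),
      ((q.1.asIdeal.map (algebraMap S C)).comap (algebraMap D C)).IsPrime := fun q => by
    haveI := hprime q
    infer_instance
  have hmem : ∀ q : ↥(T p S G),
      (⟨(q.1.asIdeal.map (algebraMap S C)).comap (algebraMap D C), hprimeD q⟩ :
        PrimeSpectrum D) ∈ T p D G := by
    intro q
    constructor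
    · show ((q.1.asIdeal.map (algebraMap S C)).comap (algebraMap D C)).under R = p
      have h1 : ((q.1.asIdeal.map (algebraMap S C)).comap (algebraMap D C)).under R =
          (q.1.asIdeal.map (algebraMap S C)).under R := by
        rw [Ideal.under, Ideal.under, Ideal.comap_comap, ← IsScalarTower.algebraMap_eq]
      have h2 : (q.1.asIdeal.map (algebraMap S C)).under R = q.1.asIdeal.under R := by
        conv_rhs => rw [← hcomap q]
        rw [Ideal.under, Ideal.under, Ideal.comap_comap, ← IsScalarTower.algebraMap_eq]
      rw [h1, h2]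
      exact q.2.1
    · show Module.annihilator D G ≤ (q.1.asIdeal.map (algebraMap S C)).comap (algebraMap D C)
      intro x hx
      rw [Ideal.mem_comap]
      obtain ⟨s, hs⟩ := hsurj (algebraMap D C x)
      rw [← hs]
      apply Ideal.mem_map_of_mem
      apply q.2.2
      rw [Module.mem_annihilator]
      intro g
      rw [← algebraMap_smul C s g, hs, algebraMap_smul, (Module.mem_annihilator.mp hx) g]
  refine Order.krullDim_le_of_strictMono (fun q => (⟨_, hmem q⟩ : ↥(T p D G))) ?_
  intro q q' h
  have hlt : q.1.asIdeal < q'.1.asIdeal := h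
  have h1 : q.1.asIdeal.map (algebraMap S C) < q'.1.asIdeal.map (algebraMap S C) := by
    refine lt_of_le_of_ne (Ideal.map_mono hlt.le) ?_
    intro heq
    have := hcomap q
    rw [heq, hcomap q'] at this
    exact hlt.ne this.symm
  haveI := hprime q
  exact Ideal.IsIntegral.comap_lt_comap (R := D) h1

end Compare

end Groth.Agent.Lib.helper3.OneStep
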