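import Mathlib
import Groth.Agent.Lib.Helper3.OneStep2

/-!
# One-step dévissage toolkit III (helper3; towards S12231): base change of the fibre support
dimension

* `TJ p A J`, `krullDim_TJ_eq` : primes over `p` containing `J` have the Krull dimension of the fibre
  ring of `A ⧸ J`.
* `ringKrullDim_tensor_field` : `dim (K ⊗[k] F) = dim F` for `F` of finite type over `k`.
* `ringKrullDim_fiber_eq_of_isPushout` : fibre rings of a base change have the same dimension.
* `isPushout_quotient` : pushouts pass to quotients by extended ideals.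
* `supportDim_fiberMod_baseChange` : the fibre support dimension is invariant under base change.
-/

set_option autoImplicit false
set_option linter.style.haveILetI false
set_option linter.unusedSectionVars false
universe u

open TensorProduct

namespace Groth.Agent.Lib.helper3.OneStep

attribute [local instance] Algebra.TensorProduct.rightAlgebra

section TJ

variable {R : Type u} [CommRing R] (p : Ideal R) [p.IsPrime]
  (A : Type u) [CommRing A] [Algebra R A]

/-- primes of `A` over `p` containing the ideal `J`. -/
def TJ (J : Ideal A) : Set (PrimeSpectrum A) :=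
  {q | q.asIdeal.under R = p ∧ J ≤ q.asIdeal}

theorem T_eq_TJ (M : Type u) [AddCommGroup M] [Module A M] :
    T p A M = TJ p A (Module.annihilator A M) := rfl

theorem krullDim_TJ_eq (J : Ideal A) :
    Order.krullDim ↥(TJ p A J) = ringKrullDim (p.Fiber (A ⧸ J)) := by
  let o := PrimeSpectrum.primesOverOrderIsoFiber R (A ⧸ J) p
  have hker : ∀ q : ↥(TJ p A J), RingHom.ker (Ideal.Quotient.mk J) ≤ q.1.asIdeal := fun q => by
    rw [Ideal.mk_ker]; exact q.2.2
  have hprime : ∀ q : ↥(TJ p A J), (q.1.asIdeal.map (Ideal.Quotient.mk J)).IsPrime := fun q =>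
    Ideal.map_isPrime_of_surjective Ideal.Quotient.mk_surjective (hker q)
  have hcomap : ∀ q : ↥(TJ p A J), (q.1.asIdeal.map (Ideal.Quotient.mk J)).comap
      (Ideal.Quotient.mk J) = q.1.asIdeal := by
    intro q
    rw [Ideal.comap_map_of_surjective _ Ideal.Quotient.mk_surjective, sup_eq_left]
    exact hker q
  have hover : ∀ q : ↥(TJ p A J), (q.1.asIdeal.map (Ideal.Quotient.mk J)).LiesOver p := by
    intro q
    refine ⟨?_⟩
    have h1 : (q.1.asIdeal.map (Ideal.Quotient.mk J)).under R =
        ((q.1.asIdeal.map (Ideal.Quotient.mk J)).comap (Ideal.Quotient.mk J)).under R := by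
      rw [Ideal.under, Ideal.under, Ideal.comap_comap]
      rfl
    rw [h1, hcomap q]
    exact q.2.1.symm
  unfold ringKrullDim
  apply le_antisymm
  · refine Order.krullDim_le_of_strictMono
      (fun q => o ⟨q.1.asIdeal.map (Ideal.Quotient.mk J), hprime q, hover q⟩) ?_
    intro q q' h
    apply o.strictMono
    have hlt : q.1.asIdeal < q'.1.asIdeal := h
    show q.1.asIdeal.map (Ideal.Quotient.mk J) < q'.1.asIdeal.map (Ideal.Quotient.mk J)
    refine lt_of_le_of_ne (Ideal.map_mono hlt.le) ?_
    intro heq
    have := hcomap q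
    rw [heq, hcomap q'] at this
    exact hlt.ne this.symm
  · have hprimeQ : ∀ Q : PrimeSpectrum (p.Fiber (A ⧸ J)),
        (((o.symm Q : p.primesOver (A ⧸ J)) : Ideal (A ⧸ J)).comap
          (Ideal.Quotient.mk J)).IsPrime := fun Q => by
      haveI := (o.symm Q).2.1
      infer_instance
    have hmem : ∀ Q : PrimeSpectrum (p.Fiber (A ⧸ J)),
        (⟨((o.symm Q : p.primesOver (A ⧸ J)) : Ideal (A ⧸ J)).comap (Ideal.Quotient.mk J),
          hprimeQ Q⟩ : PrimeSpectrum A) ∈ TJ p A J := by
      intro Q
      constructor
      · show (((o.symm Q : p.primesOver (A ⧸ J)) : Ideal (A ⧸ J)).comap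
          (Ideal.Quotient.mk J)).under R = p
        have h1 := (o.symm Q).2.2.over
        rw [Ideal.under, Ideal.comap_comap]
        exact h1.symm
      · show J ≤ ((o.symm Q : p.primesOver (A ⧸ J)) : Ideal (A ⧸ J)).comap (Ideal.Quotient.mk J)
        intro x hx
        rw [Ideal.mem_comap, Ideal.Quotient.eq_zero_iff_mem.mpr hx]
        exact Ideal.zero_mem _
    refine Order.krullDim_le_of_strictMono (fun Q => (⟨_, hmem Q⟩ : ↥(TJ p A J))) ?_
    intro Q Q' h
    have h' : o.symm Q < o.symm Q' := o.symm.strictMono h
    have h'' : ((o.symm Q : p.primesOver (A ⧸ J)) : Ideal (A ⧸ J)) <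
        ((o.symm Q' : p.primesOver (A ⧸ J)) : Ideal (A ⧸ J)) := h'
    show ((o.symm Q : p.primesOver (A ⧸ J)) : Ideal (A ⧸ J)).comap (Ideal.Quotient.mk J) <
      ((o.symm Q' : p.primesOver (A ⧸ J)) : Ideal (A ⧸ J)).comap (Ideal.Quotient.mk J)
    refine lt_of_le_of_ne (Ideal.comap_mono h''.le) ?_
    intro heq
    exact h''.ne (Ideal.comap_injective_of_surjective _ Ideal.Quotient.mk_surjective heq)

end TJ

section Field

open AlgebraicGeometry CategoryTheory

theorem ringKrullDim_tensor_field (k K F : Type u) [Field k] [Field K] [Algebra k K] [CommRing F]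
    [Algebra k F] [Algebra.FiniteType k F] :
    ringKrullDim (K ⊗[k] F) = ringKrullDim F := by
  have sqT : IsPullback
      (Spec.map (CommRingCat.ofHom
        (Algebra.TensorProduct.includeRight.toRingHom : F →+* K ⊗[k] F)))
      (Spec.map (CommRingCat.ofHom
        (Algebra.TensorProduct.includeLeftRingHom : K →+* K ⊗[k] F)))
      (Spec.map (CommRingCat.ofHom (algebraMap k F)))
      (Spec.map (CommRingCat.ofHom (algebraMap k K))) :=
    (isPullback_SpecMap_of_isPushout _ _ _ _ (CommRingCat.isPushout_tensorProduct k K F)).flip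
  haveI : LocallyOfFiniteType (Spec.map (CommRingCat.ofHom (algebraMap k F))) := by
    rw [HasRingHomProperty.Spec_iff (P := @LocallyOfFiniteType)]
    change (algebraMap k F).FiniteType
    rw [RingHom.finiteType_algebraMap]
    infer_instance
  have h := FibreDimBC.dim_eq_of_isPullback_field _ _ _ sqT
  rw [← PrimeSpectrum.topologicalKrullDim_eq_ringKrullDim,
    ← PrimeSpectrum.topologicalKrullDim_eq_ringKrullDim]
  exact h

end Field

end Groth.Agent.Lib.helper3.OneStep
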