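import Mathlib
import Groth.Agent.Lib.Helper3.OneStep3

/-!
# One-step dévissage toolkit IV (helper3; towards S12231)
-/

set_option autoImplicit false
set_option linter.style.haveILetI false
set_option linter.unusedSectionVars false
universe u

open TensorProduct

namespace Groth.Agent.Lib.helper3.OneStep

attribute [local instance] Algebra.TensorProduct.rightAlgebra

section Pushout

variable (R R' : Type u) [CommRing R] [CommRing R'] [Algebra R R']

instance tower_quot (S S' : Type u) [CommRing S] [CommRing S'] [Algebra R S]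
    [Algebra R S'] [Algebra S S'] [IsScalarTower R S S'] (I : Ideal S) :
    IsScalarTower R (S ⧸ I) (S' ⧸ I.map (algebraMap S S')) := by
  refine IsScalarTower.of_algebraMap_eq (fun r => ?_)
  rw [IsScalarTower.algebraMap_apply R S (S ⧸ I), IsScalarTower.algebraMap_apply R S' (S' ⧸ _),
    IsScalarTower.algebraMap_apply R S S']
  rfl

theorem isPushout_quotient (S S' : Type u) [CommRing S] [CommRing S'] [Algebra R S]
    [Algebra R' S'] [Algebra R S'] [Algebra S S'] [IsScalarTower R R' S'] [IsScalarTower R S S']
    [Algebra.IsPushout R R' S S'] (I : Ideal S) :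
    Algebra.IsPushout R R' (S ⧸ I) (S' ⧸ I.map (algebraMap S S')) := by
  haveI h1 : Algebra.IsPushout R S R' S' := Algebra.IsPushout.symm inferInstance
  apply Algebra.IsPushout.symm
  rw [Algebra.IsPushout.comp_iff R S R' S']
  have h0 : Algebra.IsPushout S (S ⧸ I) S' ((S ⧸ I) ⊗[S] S') := inferInstance
  refine Algebra.IsPushout.of_equiv (h := h0)
    (Algebra.TensorProduct.quotIdealMapEquivQuotTensor S' I).symm ?_
  ext s'
  simp only [RingHom.coe_comp, Function.comp_apply]
  show (Algebra.TensorProduct.quotIdealMapEquivQuotTensor S' I).symm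
    ((1 : S ⧸ I) ⊗ₜ[S] s') = _
  rw [AlgEquiv.symm_apply_eq]
  rfl

variable (p : Ideal R) [p.IsPrime] (p' : Ideal R') [p'.IsPrime] [hp' : p'.LiesOver p]

theorem ringKrullDim_fiber_eq_of_isPushout (B B' : Type u) [CommRing B] [CommRing B']
    [Algebra R B] [Algebra R' B'] [Algebra R B'] [Algebra B B'] [IsScalarTower R R' B']
    [IsScalarTower R B B'] [Algebra.IsPushout R R' B B'] [Algebra.FiniteType R B] :
    ringKrullDim (p'.Fiber B') = ringKrullDim (p.Fiber B) := by
  letI : Algebra p.ResidueField p'.ResidueField :=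
    (Ideal.ResidueField.mapₐ p p' (Algebra.ofId R R') hp'.over).toRingHom.toAlgebra
  haveI : IsScalarTower R p.ResidueField p'.ResidueField := by
    refine IsScalarTower.of_algebraMap_eq (fun r => ?_)
    show algebraMap R p'.ResidueField r =
      (Ideal.ResidueField.mapₐ p p' (Algebra.ofId R R') hp'.over) (algebraMap R p.ResidueField r)
    rw [AlgHom.commutes]
  let e1 : p'.ResidueField ⊗[R'] B' ≃ₐ[R'] p'.ResidueField ⊗[R'] (R' ⊗[R] B) :=
    Algebra.TensorProduct.congr AlgEquiv.refl (Algebra.IsPushout.equiv R R' B B').symm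
  let e2 : p'.ResidueField ⊗[R'] (R' ⊗[R] B) ≃ₐ[p'.ResidueField] p'.ResidueField ⊗[R] B :=
    Algebra.TensorProduct.cancelBaseChange R R' p'.ResidueField p'.ResidueField B
  let e3 : p'.ResidueField ⊗[p.ResidueField] (p.ResidueField ⊗[R] B) ≃ₐ[p'.ResidueField]
      p'.ResidueField ⊗[R] B :=
    Algebra.TensorProduct.cancelBaseChange R p.ResidueField p'.ResidueField p'.ResidueField B
  have h1 : ringKrullDim (p'.Fiber B') = ringKrullDim (p'.ResidueField ⊗[R] B) :=
    (ringKrullDim_eq_of_ringEquiv e1.toRingEquiv).trans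
      (ringKrullDim_eq_of_ringEquiv e2.toRingEquiv)
  have h2 : ringKrullDim (p'.ResidueField ⊗[p.ResidueField] (p.ResidueField ⊗[R] B)) =
      ringKrullDim (p'.ResidueField ⊗[R] B) := ringKrullDim_eq_of_ringEquiv e3.toRingEquiv
  rw [h1, ← h2]
  exact ringKrullDim_tensor_field p.ResidueField p'.ResidueField (p.ResidueField ⊗[R] B)

end Pushout

section Main

variable {R R' : Type u} [CommRing R] [CommRing R'] [Algebra R R']
  (p : Ideal R) [p.IsPrime] (p' : Ideal R') [p'.IsPrime] [hp' : p'.LiesOver p]
  {S S' : Type u} [CommRing S] [CommRing S'] [Algebra R S]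
  [Algebra R' S'] [Algebra R S'] [Algebra S S'] [IsScalarTower R R' S'] [IsScalarTower R S S']
  {N N' : Type u} [AddCommGroup N] [Module S N] [Module R N] [IsScalarTower R S N]
  [Module.Finite S N]
  [AddCommGroup N'] [Module S' N'] [Module R' N'] [IsScalarTower R' S' N']
  [Module S N'] [IsScalarTower S S' N'] (f : N →ₗ[S] N') (hf : IsBaseChange S' f)

include hf in
theorem T_baseChange_eq :
    T p' S' N' = TJ p' S' ((Module.annihilator S N).map (algebraMap S S')) := by
  haveI : Module.Finite S' N' := Module.Finite.equiv hf.equiv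
  ext q'
  refine and_congr_right (fun _ => ?_)
  show Module.annihilator S' N' ≤ q'.asIdeal ↔ _
  rw [← Module.mem_support_iff_of_finite, ← hf.equiv.support_eq,
    Groth.Agent.Lib.Helper18.PullbackStalk.mem_support_baseChange_iff S S' N q',
    Module.mem_support_iff_of_finite, Ideal.map_le_iff_le_comap]
  rfl

include hf in
theorem supportDim_fiberMod_baseChange [Algebra.IsPushout R R' S S'] [Algebra.FiniteType R S] :
    Module.supportDim (p'.Fiber S') (FlatCA.fiberMod p' S' N') =
      Module.supportDim (p.Fiber S) (FlatCA.fiberMod p S N) := by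
  haveI : Module.Finite S' N' := Module.Finite.equiv hf.equiv
  rw [supportDim_fiberMod_eq p' S' N', supportDim_fiberMod_eq p S N, T_baseChange_eq p' f hf,
    T_eq_TJ, krullDim_TJ_eq, krullDim_TJ_eq]
  haveI := isPushout_quotient R R' S S' (Module.annihilator S N)
  exact ringKrullDim_fiber_eq_of_isPushout R R' p p' (S ⧸ Module.annihilator S N)
    (S' ⧸ (Module.annihilator S N).map (algebraMap S S'))

end Main

end Groth.Agent.Lib.helper3.OneStep
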