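import Mathlib
import Groth.Prelude.Def_FlatCA
import Groth.Agent.Lib.Helper3.OneStep4
import Groth.Agent.Lib.Helper3.UnivInjGlobal1
import Groth.Agent.Lib.Helper3.UnivInjAss1
import Groth.Agent.Lib.Helper26.Purity1
import Groth.Agent.Lib.Helper3.FibreDimBC

/-!
# Base change along `R → R'` with `κ(p) → κ(p')` bijective (helper3; towards S12239)

* `exists_mul_sub_mem_map` : for `T' = R' ⊗_R T` and `x : T'` there are `s ∉ p`, `t : T` with
  `s x - t ∈ p' T'`.
* `le_of_under_le`, `eq_of_under_eq` : a prime of `T'` over `p'` is determined by its contraction to `T`.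
-/

set_option autoImplicit false
set_option linter.style.haveILetI false
set_option linter.unusedSectionVars false
universe u

open TensorProduct

namespace Groth.Agent.Lib.helper3.BijRes

section Elem

variable {R R' : Type u} [CommRing R] [CommRing R'] [Algebra R R']
  (p : Ideal R) [p.IsPrime] (p' : Ideal R') [p'.IsPrime] [hp' : p'.LiesOver p]
  (hκ : Function.Surjective (Ideal.ResidueField.mapₐ p p' (Algebra.ofId R R') hp'.over))

theorem algebraMap_residueField_comp (r : R) :
    algebraMap R' p'.ResidueField (algebraMap R R' r) =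
      Ideal.ResidueField.mapₐ p p' (Algebra.ofId R R') hp'.over (algebraMap R p.ResidueField r) := by
  rw [AlgHom.commutes, IsScalarTower.algebraMap_apply R R' p'.ResidueField]

theorem exists_mul_eq_algebraMap (k : p.ResidueField) :
    ∃ s : R, s ∉ p ∧ ∃ a : R, algebraMap R p.ResidueField s * k = algebraMap R p.ResidueField a := by
  obtain ⟨t, rfl⟩ := IsLocalRing.residue_surjective k
  obtain ⟨⟨a, s⟩, rfl⟩ := IsLocalization.mk'_surjective p.primeCompl t
  refine ⟨s.1, s.2, a, ?_⟩
  rw [IsScalarTower.algebraMap_apply R (Localization.AtPrime p) p.ResidueField,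
    IsScalarTower.algebraMap_apply R (Localization.AtPrime p) p.ResidueField a,
    IsLocalRing.ResidueField.algebraMap_eq]
  show IsLocalRing.residue _ _ * IsLocalRing.residue _ _ = _
  rw [← map_mul, IsLocalization.mk'_spec']

include hκ in
theorem exists_mul_sub_mem (r' : R') :
    ∃ s : R, s ∉ p ∧ ∃ a : R, algebraMap R R' s * r' - algebraMap R R' a ∈ p' := by
  obtain ⟨k, hk⟩ := hκ (algebraMap R' p'.ResidueField r')
  obtain ⟨s, hs, a, hsa⟩ := exists_mul_eq_algebraMap p k
  refine ⟨s, hs, a, ?_⟩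
  rw [← Ideal.algebraMap_residueField_eq_zero, map_sub, map_mul, ← hk, sub_eq_zero,
    algebraMap_residueField_comp p p', algebraMap_residueField_comp p p', ← map_mul, hsa]

variable (T T' : Type u) [CommRing T] [CommRing T'] [Algebra R T] [Algebra R' T'] [Algebra R T']
  [Algebra T T'] [IsScalarTower R R' T'] [IsScalarTower R T T'] [Algebra.IsPushout R R' T T']

include hκ in
theorem exists_mul_sub_mem_map (x : T') :
    ∃ s : R, s ∉ p ∧ ∃ t : T,
      algebraMap R T' s * x - algebraMap T T' t ∈ p'.map (algebraMap R' T') := by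
  have hbc : IsBaseChange R' (IsScalarTower.toAlgHom R T T').toLinearMap :=
    (inferInstance : Algebra.IsPushout R R' T T').out
  refine hbc.inductionOn x (motive := fun x => ∃ s : R, s ∉ p ∧ ∃ t : T,
      algebraMap R T' s * x - algebraMap T T' t ∈ p'.map (algebraMap R' T')) ?_ ?_ ?_ ?_
  · exact ⟨1, fun h => (Ideal.ne_top_iff_one p).mp (Ideal.IsPrime.ne_top inferInstance) h, 0, by simp⟩
  · intro t
    refine ⟨1, fun h => (Ideal.ne_top_iff_one p).mp (Ideal.IsPrime.ne_top inferInstance) h, t, ?_⟩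
    have : (IsScalarTower.toAlgHom R T T').toLinearMap t = algebraMap T T' t := rfl
    rw [this, map_one, one_mul, sub_self]
    exact Ideal.zero_mem _
  · rintro r' x ⟨s, hs, t, hst⟩
    obtain ⟨s₀, hs₀, a, hsa⟩ := exists_mul_sub_mem p p' hκ r'
    refine ⟨s₀ * s, fun h => (Ideal.IsPrime.mem_or_mem inferInstance h).elim hs₀ hs, a • t, ?_⟩
    have e : algebraMap R T' (s₀ * s) * (r' • x) - algebraMap T T' (a • t) =
        algebraMap R' T' (algebraMap R R' s₀ * r' - algebraMap R R' a) * (algebraMap R T' s * x) +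
        algebraMap R' T' (algebraMap R R' a) * (algebraMap R T' s * x - algebraMap T T' t) := by
      rw [Algebra.smul_def, Algebra.smul_def, map_mul, map_mul, map_sub, map_mul,
        ← IsScalarTower.algebraMap_apply R T T', ← IsScalarTower.algebraMap_apply R R' T',
        ← IsScalarTower.algebraMap_apply R R' T']
      ring
    rw [e]
    exact Ideal.add_mem _ (Ideal.mul_mem_right _ _ (Ideal.mem_map_of_mem _ hsa))
      (Ideal.mul_mem_left _ _ hst)
  · rintro x₁ x₂ ⟨s₁, hs₁, t₁, h₁⟩ ⟨s₂, hs₂, t₂, h₂⟩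
    refine ⟨s₁ * s₂, fun h => (Ideal.IsPrime.mem_or_mem inferInstance h).elim hs₁ hs₂,
      s₂ • t₁ + s₁ • t₂, ?_⟩
    have e : algebraMap R T' (s₁ * s₂) * (x₁ + x₂) - algebraMap T T' (s₂ • t₁ + s₁ • t₂) =
        algebraMap R T' s₂ * (algebraMap R T' s₁ * x₁ - algebraMap T T' t₁) +
        algebraMap R T' s₁ * (algebraMap R T' s₂ * x₂ - algebraMap T T' t₂) := by
      rw [map_add, Algebra.smul_def, Algebra.smul_def, map_mul, map_mul, map_mul,
        ← IsScalarTower.algebraMap_apply R T T', ← IsScalarTower.algebraMap_apply R T T']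
      ring
    rw [e]
    exact Ideal.add_mem _ (Ideal.mul_mem_left _ _ h₁) (Ideal.mul_mem_left _ _ h₂)

include hκ in
theorem le_of_under_le (q₁ q₂ : Ideal T') [q₁.IsPrime] [q₂.IsPrime]
    (h₁ : q₁.under R' = p') (h₂ : q₂.under R' = p') (h : q₁.under T ≤ q₂.under T) : q₁ ≤ q₂ := by
  intro x hx
  obtain ⟨s, hs, t, hst⟩ := exists_mul_sub_mem_map p p' hκ T T' x
  have hp1 : p'.map (algebraMap R' T') ≤ q₁ := by
    rw [Ideal.map_le_iff_le_comap, ← h₁]
  have hp2 : p'.map (algebraMap R' T') ≤ q₂ := by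
    rw [Ideal.map_le_iff_le_comap, ← h₂]
  have ht1 : algebraMap T T' t ∈ q₁ := by
    have := Ideal.sub_mem _ (Ideal.mul_mem_left q₁ (algebraMap R T' s) hx) (hp1 hst)
    rwa [sub_sub_cancel] at this
  have ht2 : algebraMap T T' t ∈ q₂ := h ht1
  have hsx : algebraMap R T' s * x ∈ q₂ := by
    have := Ideal.add_mem _ (hp2 hst) ht2
    rwa [sub_add_cancel] at this
  refine (Ideal.IsPrime.mem_or_mem inferInstance hsx).resolve_left (fun hs' => hs ?_)
  have : s ∈ (q₂.under R').under R := by
    rw [Ideal.under_under]; exact hs'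
  rw [h₂, ← hp'.over] at this
  exact this

include hκ in
theorem eq_of_under_eq (q₁ q₂ : Ideal T') [q₁.IsPrime] [q₂.IsPrime]
    (h₁ : q₁.under R' = p') (h₂ : q₂.under R' = p') (h : q₁.under T = q₂.under T) : q₁ = q₂ :=
  le_antisymm (le_of_under_le p p' hκ T T' q₁ q₂ h₁ h₂ h.le)
    (le_of_under_le p p' hκ T T' q₂ q₁ h₂ h₁ h.ge)

end Elem

end Groth.Agent.Lib.helper3.BijRes
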