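import Mathlib
import Groth.Agent.Lib.Helper3.BijRes1

/-!
# Fibre rings under base change with bijective residue field map (helper3; towards S12239)

* `exists_fiberEquiv` : ring iso `κ(p) ⊗_R T ≃ κ(p') ⊗_{R'} T'` sending `1 ⊗ t ↦ 1 ⊗ t`.
* `comap_fiberIdeal` : it matches the primes `fiberIdeal p' q'` and `fiberIdeal p (q' ∩ T)`.
* `localDim_support_eq` : equality of local dimensions of the supports of the fibre modules.
-/

set_option autoImplicit false
set_option linter.style.haveILetI false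
set_option linter.unusedSectionVars false
universe u

open TensorProduct

namespace Groth.Agent.Lib.helper3.BijRes

attribute [local instance] Algebra.TensorProduct.rightAlgebra

section Fib

variable {R R' : Type u} [CommRing R] [CommRing R'] [Algebra R R']
  (p : Ideal R) [p.IsPrime] (p' : Ideal R') [p'.IsPrime] [hp' : p'.LiesOver p]
  (hκ : Function.Bijective (Ideal.ResidueField.mapₐ p p' (Algebra.ofId R R') hp'.over))
  (T T' : Type u) [CommRing T] [CommRing T'] [Algebra R T] [Algebra R' T'] [Algebra R T']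
  [Algebra T T'] [IsScalarTower R R' T'] [IsScalarTower R T T'] [Algebra.IsPushout R R' T T']

include hκ in
theorem exists_fiberEquiv : ∃ Ψ : p.Fiber T ≃+* p'.Fiber T',
    ∀ t : T, Ψ ((1 : p.ResidueField) ⊗ₜ[R] t) = (1 : p'.ResidueField) ⊗ₜ[R'] (algebraMap T T' t) := by
  let e1 : p'.ResidueField ⊗[R'] T' ≃ₐ[R'] p'.ResidueField ⊗[R'] (R' ⊗[R] T) :=
    Algebra.TensorProduct.congr AlgEquiv.refl (Algebra.IsPushout.equiv R R' T T').symm
  let e2 : p'.ResidueField ⊗[R'] (R' ⊗[R] T) ≃ₐ[p'.ResidueField] p'.ResidueField ⊗[R] T :=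
    Algebra.TensorProduct.cancelBaseChange R R' p'.ResidueField p'.ResidueField T
  let e3 : p.ResidueField ⊗[R] T ≃ₐ[R] p'.ResidueField ⊗[R] T :=
    Algebra.TensorProduct.congr (AlgEquiv.ofBijective _ hκ) AlgEquiv.refl
  refine ⟨e3.toRingEquiv.trans (e2.symm.toRingEquiv.trans e1.symm.toRingEquiv), fun t => ?_⟩
  show e1.symm (e2.symm (e3 (1 ⊗ₜ t))) = _
  have h3 : e3 ((1 : p.ResidueField) ⊗ₜ[R] t) = (1 : p'.ResidueField) ⊗ₜ[R] t := by
    simp [e3]
  have h1 : e1 ((1 : p'.ResidueField) ⊗ₜ[R'] (algebraMap T T' t)) =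
      (1 : p'.ResidueField) ⊗ₜ[R'] ((1 : R') ⊗ₜ[R] t) := by
    simp [e1, Algebra.IsPushout.equiv_symm_algebraMap_right]
  have h2 : e2 ((1 : p'.ResidueField) ⊗ₜ[R'] ((1 : R') ⊗ₜ[R] t)) =
      (1 : p'.ResidueField) ⊗ₜ[R] t := by
    simp [e2]
  rw [h3, AlgEquiv.symm_apply_eq, AlgEquiv.symm_apply_eq, h1, h2]

end Fib

section C

variable {R R' : Type u} [CommRing R] [CommRing R'] [Algebra R R']
  (p : Ideal R) [p.IsPrime] (p' : Ideal R') [p'.IsPrime] [hp' : p'.LiesOver p]
  {T T' : Type u} [CommRing T] [CommRing T'] [Algebra R T] [Algebra R' T'] [Algebra R T']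
  [Algebra T T'] [IsScalarTower R R' T'] [IsScalarTower R T T']
  (Ψ : p.Fiber T ≃+* p'.Fiber T')
  (hΨ : ∀ t : T, Ψ ((1 : p.ResidueField) ⊗ₜ[R] t) =
    (1 : p'.ResidueField) ⊗ₜ[R'] (algebraMap T T' t))

include hΨ in
theorem comap_comap (Q' : Ideal (p'.Fiber T')) :
    (Q'.comap Ψ.toRingHom).comap
      (Algebra.TensorProduct.includeRight (R := R) (A := p.ResidueField) (B := T)).toRingHom =
    (Q'.comap (Algebra.TensorProduct.includeRight (R := R') (A := p'.ResidueField)
      (B := T')).toRingHom).comap (algebraMap T T') := by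
  ext t
  simp only [Ideal.mem_comap]
  have : Ψ.toRingHom ((Algebra.TensorProduct.includeRight (R := R) (A := p.ResidueField)
      (B := T)).toRingHom t) = (Algebra.TensorProduct.includeRight (R := R')
      (A := p'.ResidueField) (B := T')).toRingHom (algebraMap T T' t) := hΨ t
  rw [this]

include hΨ in
theorem comap_fiberIdeal (q' : Ideal T') [q'.IsPrime] [hq' : q'.LiesOver p'] :
    (FlatCA.fiberIdeal p' q').comap Ψ.toRingHom = FlatCA.fiberIdeal p (q'.under T) := by
  rw [← UnivInjGlobal.fiberIdeal_comap p ((FlatCA.fiberIdeal p' q').comap Ψ.toRingHom),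
    comap_comap p p' Ψ hΨ, Groth.Agent.Lib.helper26.Purity.comap_fiberIdeal p' q']

end C

section Supp

variable {R R' : Type u} [CommRing R] [CommRing R'] [Algebra R R']
  (p : Ideal R) [p.IsPrime] (p' : Ideal R') [p'.IsPrime] [hp' : p'.LiesOver p]
  {S S' : Type u} [CommRing S] [CommRing S'] [Algebra R S]
  [Algebra R' S'] [Algebra R S'] [Algebra S S'] [IsScalarTower R R' S'] [IsScalarTower R S S']
  {N N' : Type u} [AddCommGroup N] [Module S N] [Module R N] [IsScalarTower R S N]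
  [Module.Finite S N]
  [AddCommGroup N'] [Module S' N'] [Module R' N'] [IsScalarTower R' S' N']
  [Module S N'] [IsScalarTower S S' N'] (f : N →ₗ[S] N') (hf : IsBaseChange S' f)
  (Ψ : p.Fiber S ≃+* p'.Fiber S')
  (hΨ : ∀ t : S, Ψ ((1 : p.ResidueField) ⊗ₜ[R] t) =
    (1 : p'.ResidueField) ⊗ₜ[R'] (algebraMap S S' t))

include hf hΨ in
theorem mem_support_iff (Q' : PrimeSpectrum (p'.Fiber S')) :
    Q' ∈ Module.support (p'.Fiber S') (FlatCA.fiberMod p' S' N') ↔
      PrimeSpectrum.homeomorphOfRingEquiv Ψ.symm Q' ∈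
        Module.support (p.Fiber S) (FlatCA.fiberMod p S N) := by
  haveI : Module.Finite S' N' := Module.Finite.equiv hf.equiv
  rw [OneStep.mem_support_fiberMod_iff p' S' N' Q', OneStep.mem_support_fiberMod_iff p S N]
  have h1 : (PrimeSpectrum.homeomorphOfRingEquiv Ψ.symm Q').asIdeal.comap
      (Algebra.TensorProduct.includeRight (R := R) (A := p.ResidueField) (B := S)) =
      (Q'.asIdeal.comap (Algebra.TensorProduct.includeRight (R := R') (A := p'.ResidueField)
      (B := S')).toRingHom).comap (algebraMap S S') := comap_comap p p' Ψ hΨ Q'.asIdeal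
  rw [h1]
  let q' : PrimeSpectrum S' := ⟨Q'.asIdeal.comap (Algebra.TensorProduct.includeRight (R := R')
    (A := p'.ResidueField) (B := S')).toRingHom, inferInstance⟩
  show Module.annihilator S' N' ≤ q'.asIdeal ↔ Module.annihilator S N ≤ q'.asIdeal.comap _
  rw [← Module.mem_support_iff_of_finite, ← hf.equiv.support_eq,
    Groth.Agent.Lib.Helper18.PullbackStalk.mem_support_baseChange_iff S S' N q',
    Module.mem_support_iff_of_finite]
  rfl

include hf hΨ in
theorem localDim_support_eq (ξ' : PrimeSpectrum (p'.Fiber S'))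
    (hξ' : ξ' ∈ Module.support (p'.Fiber S') (FlatCA.fiberMod p' S' N'))
    (ξ : PrimeSpectrum (p.Fiber S))
    (hξ : ξ ∈ Module.support (p.Fiber S) (FlatCA.fiberMod p S N))
    (h : ξ.asIdeal = ξ'.asIdeal.comap Ψ.toRingHom) :
    FlatMor.localDim (Module.support (p'.Fiber S') (FlatCA.fiberMod p' S' N')) ⟨ξ', hξ'⟩ =
      FlatMor.localDim (Module.support (p.Fiber S) (FlatCA.fiberMod p S N)) ⟨ξ, hξ⟩ := by
  let e1 : {x // x ∈ Module.support (p'.Fiber S') (FlatCA.fiberMod p' S' N')} ≃ₜ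
      {x // x ∈ Module.support (p.Fiber S) (FlatCA.fiberMod p S N)} :=
    Homeomorph.subtype (PrimeSpectrum.homeomorphOfRingEquiv Ψ.symm)
      (fun Q' => mem_support_iff p p' f hf Ψ hΨ Q')
  have h2 := FibreDimBC.localDim_homeo e1 ⟨ξ', hξ'⟩
  have h3 : e1 ⟨ξ', hξ'⟩ = ⟨ξ, hξ⟩ := by
    apply Subtype.ext
    apply PrimeSpectrum.ext
    exact h.symm
  rw [h3] at h2
  exact h2

end Supp

end Groth.Agent.Lib.helper3.BijRes
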