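import Mathlib
import Groth.Agent.Lib.Helper3.BijRes2

/-!
# Residue fields under base change with bijective residue field map (helper3; towards S12239)

* `residueField_map_bijective` : for `T' = R' ⊗_R T`, `κ(p) → κ(p')` surjective and `q'` a prime of
  `T'` over `p'` and `q`, the map `κ(q) → κ(q')` is bijective.
* `purelyTranscendental_transfer` : transport of a generating transcendence basis along compatible
  isomorphisms of fields.
* `purelyTranscendental_baseChange`.
-/

set_option autoImplicit false
set_option linter.style.haveILetI false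
set_option linter.unusedSectionVars false
universe u

open TensorProduct

namespace Groth.Agent.Lib.helper3.BijRes

section Res

variable {R R' : Type u} [CommRing R] [CommRing R'] [Algebra R R']
  (p : Ideal R) [p.IsPrime] (p' : Ideal R') [p'.IsPrime] [hp' : p'.LiesOver p]
  (hκ : Function.Surjective (Ideal.ResidueField.mapₐ p p' (Algebra.ofId R R') hp'.over))
  (T T' : Type u) [CommRing T] [CommRing T'] [Algebra R T] [Algebra R' T'] [Algebra R T']
  [Algebra T T'] [IsScalarTower R R' T'] [IsScalarTower R T T'] [Algebra.IsPushout R R' T T']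
  (q : Ideal T) [q.IsPrime] (q' : Ideal T') [q'.IsPrime] [hq : q'.LiesOver q]
  [hq' : q'.LiesOver p']

include hκ hq' in
theorem residueField_map_bijective :
    Function.Bijective (Ideal.ResidueField.mapₐ q q' (Algebra.ofId T T') hq.over) := by
  refine ⟨(Ideal.ResidueField.mapₐ q q' (Algebra.ofId T T') hq.over).toRingHom.injective, ?_⟩
  set τ : q.ResidueField →+* q'.ResidueField :=
    (Ideal.ResidueField.mapₐ q q' (Algebra.ofId T T') hq.over).toRingHom with hτ
  have h1 : ∀ t : T, algebraMap T' q'.ResidueField (algebraMap T T' t) ∈ τ.fieldRange := by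
    intro t
    refine ⟨algebraMap T q.ResidueField t, ?_⟩
    exact (algebraMap_residueField_comp q q' t).symm
  have h2 : ∀ x : T', algebraMap T' q'.ResidueField x ∈ τ.fieldRange := by
    intro x
    obtain ⟨s, hs, t, hst⟩ := exists_mul_sub_mem_map p p' hκ T T' x
    have hle : p'.map (algebraMap R' T') ≤ q' := by
      rw [Ideal.map_le_iff_le_comap, hq'.over]
    have h0 : algebraMap T' q'.ResidueField (algebraMap R T' s * x - algebraMap T T' t) = 0 :=
      Ideal.algebraMap_residueField_eq_zero.mpr (hle hst)
    rw [map_sub, map_mul, sub_eq_zero] at h0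
    have hs' : algebraMap T' q'.ResidueField (algebraMap R T' s) ≠ 0 := by
      rw [ne_eq, Ideal.algebraMap_residueField_eq_zero]
      intro hmem
      apply hs
      have : s ∈ (q'.under R').under R := by
        rw [Ideal.under_under]; exact hmem
      rw [← hq'.over, ← hp'.over] at this
      exact this
    have hsF : algebraMap T' q'.ResidueField (algebraMap R T' s) ∈ τ.fieldRange := by
      rw [IsScalarTower.algebraMap_apply R T T']
      exact h1 _
    have : algebraMap T' q'.ResidueField x =
        (algebraMap T' q'.ResidueField (algebraMap R T' s))⁻¹ *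
          algebraMap T' q'.ResidueField (algebraMap T T' t) := by
      rw [← h0, inv_mul_cancel_left₀ hs']
    rw [this]
    exact mul_mem (inv_mem hsF) (h1 t)
  intro z
  obtain ⟨s, hs, a, hsa⟩ := exists_mul_eq_algebraMap q' z
  have hs' : algebraMap T' q'.ResidueField s ≠ 0 := by
    rwa [ne_eq, Ideal.algebraMap_residueField_eq_zero]
  have hz : z = (algebraMap T' q'.ResidueField s)⁻¹ * algebraMap T' q'.ResidueField a := by
    rw [← hsa, inv_mul_cancel_left₀ hs']
  have hzF : z ∈ τ.fieldRange := by
    rw [hz]
    exact mul_mem (inv_mem (h2 s)) (h2 a)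
  obtain ⟨w, hw⟩ := hzF
  exact ⟨w, hw⟩

end Res

section Field

theorem purelyTranscendental_transfer {k k' K K' : Type u} [Field k] [Field k'] [Field K]
    [Field K'] [Algebra k K] [Algebra k' K'] (σ : k →+* k') (hσ : Function.Surjective σ)
    (τ : K →+* K') (hτ : Function.Bijective τ)
    (h : ∀ a, τ (algebraMap k K a) = algebraMap k' K' (σ a)) {ι : Type u} (x : ι → K)
    (hx : IsTranscendenceBasis k x) (hadj : IntermediateField.adjoin k (Set.range x) = ⊤) :
    IsTranscendenceBasis k' (τ ∘ x) ∧ IntermediateField.adjoin k' (Set.range (τ ∘ x)) = ⊤ := by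
  letI : Algebra k k' := σ.toAlgebra
  letI : Algebra k K' := ((algebraMap k' K').comp σ).toAlgebra
  haveI : IsScalarTower k k' K' := IsScalarTower.of_algebraMap_eq (fun _ => rfl)
  let τₐ : K ≃ₐ[k] K' := AlgEquiv.ofBijective
    { toRingHom := τ, commutes' := fun a => h a } hτ
  have hx' : IsTranscendenceBasis k (τ ∘ x) := τₐ.isTranscendenceBasis hx
  let σe : k ≃+* k' := RingEquiv.ofBijective σ ⟨σ.injective, hσ⟩
  have key : ∀ {ι' : Type u} (y : ι' → K'),
      AlgebraicIndependent k' y ↔ AlgebraicIndependent k y := by
    intro ι' y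
    have := algebraicIndependent_ringHom_iff_of_comp_eq (x := y) σe (RingHom.id K')
      Function.injective_id (by ext a; rfl)
    simpa using this
  refine ⟨⟨(key _).mpr hx'.1, fun s hs hsub => hx'.2 s ((key _).mp hs) hsub⟩, ?_⟩
  rw [eq_top_iff]
  intro z _
  have h1 : z ∈ IntermediateField.adjoin k (Set.range (τ ∘ x)) := by
    rw [Set.range_comp]
    have : IntermediateField.adjoin k (τ '' Set.range x) =
        (IntermediateField.adjoin k (Set.range x)).map τₐ.toAlgHom :=
      (IntermediateField.adjoin_map k (Set.range x) τₐ.toAlgHom).symm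
    rw [this, hadj, IntermediateField.mem_map]
    exact ⟨τₐ.symm z, IntermediateField.mem_top, τₐ.apply_symm_apply z⟩
  have h2 : IntermediateField.adjoin k (Set.range (τ ∘ x)) ≤
      (IntermediateField.adjoin k' (Set.range (τ ∘ x))).restrictScalars k :=
    IntermediateField.adjoin_le_iff.mpr (IntermediateField.subset_adjoin k' _)
  exact h2 h1

end Field

section PT

variable {R R' : Type u} [CommRing R] [CommRing R'] [Algebra R R']
  (p : Ideal R) [p.IsPrime] (p' : Ideal R') [p'.IsPrime] [hp' : p'.LiesOver p]
  (hκ : Function.Surjective (Ideal.ResidueField.mapₐ p p' (Algebra.ofId R R') hp'.over))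
  (D D' : Type u) [CommRing D] [CommRing D'] [Algebra R D] [Algebra R' D'] [Algebra R D']
  [Algebra D D'] [IsScalarTower R R' D'] [IsScalarTower R D D'] [Algebra.IsPushout R R' D D']
  (y : Ideal D) [y.IsPrime] [hy : y.LiesOver p] (y' : Ideal D') [y'.IsPrime] [hyy' : y'.LiesOver y]
  [hy' : y'.LiesOver p']

include hκ in
theorem purelyTranscendental_baseChange (h4 : FlatCA.PurelyTranscendental p y) :
    FlatCA.PurelyTranscendental p' y' := by
  unfold FlatCA.PurelyTranscendental at h4 ⊢
  letI : Algebra p.ResidueField y.ResidueField :=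
    (Ideal.ResidueField.mapₐ p y (Algebra.ofId R D) hy.over).toRingHom.toAlgebra
  letI : Algebra p'.ResidueField y'.ResidueField :=
    (Ideal.ResidueField.mapₐ p' y' (Algebra.ofId R' D') hy'.over).toRingHom.toAlgebra
  obtain ⟨ι, x, hx, hadj⟩ := h4
  have hcompat : ∀ a : p.ResidueField,
      (Ideal.ResidueField.mapₐ y y' (Algebra.ofId D D') hyy'.over).toRingHom
        (algebraMap p.ResidueField y.ResidueField a) =
      algebraMap p'.ResidueField y'.ResidueField
        ((Ideal.ResidueField.mapₐ p p' (Algebra.ofId R R') hp'.over).toRingHom a) := by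
    intro a
    have : ((Ideal.ResidueField.mapₐ y y' (Algebra.ofId D D') hyy'.over).toRingHom.comp
        (Ideal.ResidueField.mapₐ p y (Algebra.ofId R D) hy.over).toRingHom) =
        ((Ideal.ResidueField.mapₐ p' y' (Algebra.ofId R' D') hy'.over).toRingHom.comp
        (Ideal.ResidueField.mapₐ p p' (Algebra.ofId R R') hp'.over).toRingHom) := by
      apply Ideal.ResidueField.ringHom_ext
      ext r
      show (Ideal.ResidueField.mapₐ y y' (Algebra.ofId D D') hyy'.over)
        ((Ideal.ResidueField.mapₐ p y (Algebra.ofId R D) hy.over) (algebraMap R _ r)) =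
        (Ideal.ResidueField.mapₐ p' y' (Algebra.ofId R' D') hy'.over)
        ((Ideal.ResidueField.mapₐ p p' (Algebra.ofId R R') hp'.over) (algebraMap R _ r))
      rw [← algebraMap_residueField_comp p p' r, ← algebraMap_residueField_comp p y r,
        ← algebraMap_residueField_comp y y', ← algebraMap_residueField_comp p' y',
        ← IsScalarTower.algebraMap_apply R D D', ← IsScalarTower.algebraMap_apply R R' D']
    exact RingHom.congr_fun this a
  have := purelyTranscendental_transfer
    (Ideal.ResidueField.mapₐ p p' (Algebra.ofId R R') hp'.over).toRingHom hκ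
    (Ideal.ResidueField.mapₐ y y' (Algebra.ofId D D') hyy'.over).toRingHom
    (residueField_map_bijective p p' hκ D D' y y') hcompat x hx hadj
  exact ⟨ι, _, this.1, this.2⟩

end PT

end Groth.Agent.Lib.helper3.BijRes
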