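import Mathlib
import Groth.Agent.Lib.Helper3.BijRes3

/-!
# More on base change with bijective residue field map (helper3; towards S12244)

* `exists_prime_over` : a prime of `T' = R' ⊗_R T` over a given prime `q` of `T` and over `p'`.
* `isBaseChange_restrictScalars_of_isPushout` : module base change along a pushout square.
* `locDim_baseChange` : the local dimension datum of a complete dévissage at a point base changes.
* `smoothRelDim_baseChange`.
-/

set_option autoImplicit false
set_option linter.style.haveILetI false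
set_option linter.unusedSectionVars false
universe u

open TensorProduct

namespace Groth.Agent.Lib.helper3.BijRes

attribute [local instance] Algebra.TensorProduct.rightAlgebra

section Ex

variable {R R' : Type u} [CommRing R] [CommRing R'] [Algebra R R']
  (p : Ideal R) [p.IsPrime] (p' : Ideal R') [p'.IsPrime] [hp' : p'.LiesOver p]
  (hκ : Function.Bijective (Ideal.ResidueField.mapₐ p p' (Algebra.ofId R R') hp'.over))
  (T T' : Type u) [CommRing T] [CommRing T'] [Algebra R T] [Algebra R' T'] [Algebra R T']
  [Algebra T T'] [IsScalarTower R R' T'] [IsScalarTower R T T'] [Algebra.IsPushout R R' T T']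

include hκ in
theorem exists_prime_over (q : Ideal T) [q.IsPrime] [hq : q.LiesOver p] :
    ∃ q' : Ideal T', q'.IsPrime ∧ q'.LiesOver p' ∧ q'.LiesOver q := by
  obtain ⟨Ψ, hΨ⟩ := exists_fiberEquiv p p' hκ T T'
  haveI := UnivInjAss.fiberIdeal_isPrime p q
  let Q' : Ideal (p'.Fiber T') := (FlatCA.fiberIdeal p q).comap Ψ.symm.toRingHom
  haveI : Q'.IsPrime := Ideal.comap_isPrime _ _
  refine ⟨Q'.comap (Algebra.TensorProduct.includeRight (R := R') (A := p'.ResidueField)
    (B := T')).toRingHom, Ideal.comap_isPrime _ _, UnivInjGlobal.comap_liesOver p' Q', ⟨?_⟩⟩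
  have h1 := comap_comap p p' Ψ hΨ Q'
  have h2 : Q'.comap Ψ.toRingHom = FlatCA.fiberIdeal p q := by
    ext x
    simp only [Q', Ideal.mem_comap]
    have : Ψ.symm.toRingHom (Ψ.toRingHom x) = x := Ψ.symm_apply_apply x
    rw [this]
  rw [h2, Groth.Agent.Lib.helper26.Purity.comap_fiberIdeal p q] at h1
  exact h1

end Ex

section BC

variable (B B' A A' M M' : Type u) [CommRing B] [CommRing B'] [CommRing A] [CommRing A']
  [Algebra B B'] [Algebra B A] [Algebra B' A'] [Algebra A A'] [Algebra B A']
  [IsScalarTower B A A'] [IsScalarTower B B' A'] [Algebra.IsPushout B B' A A']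
  [AddCommGroup M] [Module A M] [Module B M] [IsScalarTower B A M]
  [AddCommGroup M'] [Module A' M'] [Module B' M'] [IsScalarTower B' A' M']
  [Module A M'] [IsScalarTower A A' M'] [Module B M'] [IsScalarTower B B' M']
  [IsScalarTower B A M']

theorem isBaseChange_restrictScalars_of_isPushout (g : M →ₗ[A] M') (hg : IsBaseChange A' g) :
    IsBaseChange B' (g.restrictScalars B) := by
  refine IsBaseChange.of_equiv ((Algebra.IsPushout.cancelBaseChange B B' A A' M).symm ≪≫ₗ
    hg.equiv.restrictScalars B') (fun m => ?_)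
  simp [IsBaseChange.equiv_tmul]

end BC

section Loc

variable {R R' : Type u} [CommRing R] [CommRing R'] [Algebra R R']
  (p : Ideal R) [p.IsPrime] (p' : Ideal R') [p'.IsPrime] [hp' : p'.LiesOver p]
  (hκ : Function.Bijective (Ideal.ResidueField.mapₐ p p' (Algebra.ofId R R') hp'.over))
  (B B' A A' M M' : Type u) [CommRing B] [CommRing B'] [CommRing A] [CommRing A']
  [Algebra R B] [Algebra R' B'] [Algebra R B'] [Algebra B B'] [IsScalarTower R R' B']
  [IsScalarTower R B B'] [Algebra.IsPushout R R' B B']
  [Algebra R A] [Algebra R' A'] [Algebra R A'] [Algebra A A'] [IsScalarTower R R' A']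
  [IsScalarTower R A A'] [Algebra.IsPushout R R' A A']
  [Algebra B A] [Algebra B' A'] [Algebra B A'] [IsScalarTower B A A'] [IsScalarTower B B' A']
  [IsScalarTower R B A] [IsScalarTower R' B' A']
  [AddCommGroup M] [Module A M] [Module B M] [IsScalarTower B A M] [Module R M]
  [IsScalarTower R B M]
  [AddCommGroup M'] [Module A' M'] [Module B' M'] [IsScalarTower B' A' M'] [Module R' M']
  [IsScalarTower R' B' M']
  [Module A M'] [IsScalarTower A A' M'] (g : M →ₗ[A] M') (hg : IsBaseChange A' g)
  [Module.Finite B A] [Module.Finite A M]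
  (qB : Ideal B) [qB.IsPrime] [qB.LiesOver p] (qB' : Ideal B') [qB'.IsPrime] [qB'.LiesOver p']
  [hqq : qB'.LiesOver qB]

include hκ hg hqq in
theorem locDim_baseChange (d : ℕ)
    (hloc : ∃ (x : PrimeSpectrum (p.Fiber B))
      (hx : x ∈ Module.support (p.Fiber B) (FlatCA.fiberMod p B M)),
      x.asIdeal = FlatCA.fiberIdeal p qB ∧
      FlatMor.localDim (Module.support (p.Fiber B) (FlatCA.fiberMod p B M)) ⟨x, hx⟩ = d) :
    ∃ (x : PrimeSpectrum (p'.Fiber B'))
      (hx : x ∈ Module.support (p'.Fiber B') (FlatCA.fiberMod p' B' M')),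
      x.asIdeal = FlatCA.fiberIdeal p' qB' ∧
      FlatMor.localDim (Module.support (p'.Fiber B') (FlatCA.fiberMod p' B' M')) ⟨x, hx⟩ = d := by
  letI : Module B M' := Module.compHom M' (algebraMap B B')
  haveI : IsScalarTower B B' M' := ⟨fun b b' m => by
    show (b • b') • m = algebraMap B B' b • (b' • m)
    rw [Algebra.smul_def, mul_smul]⟩
  haveI : IsScalarTower B A M' := ⟨fun b a m => by
    show (b • a) • m = algebraMap B B' b • (a • m)
    rw [Algebra.smul_def, mul_smul, ← IsScalarTower.algebraMap_smul A' (algebraMap B A b) (a • m),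
      ← IsScalarTower.algebraMap_smul A' (algebraMap B B' b) (a • m),
      ← IsScalarTower.algebraMap_apply B A A', ← IsScalarTower.algebraMap_apply B B' A']⟩
  haveI : IsScalarTower R B' A' := IsScalarTower.of_algebraMap_eq (fun r => by
    rw [IsScalarTower.algebraMap_apply R R' A', IsScalarTower.algebraMap_apply R' B' A',
      ← IsScalarTower.algebraMap_apply R R' B'])
  haveI hRB : Algebra.IsPushout R B R' B' := Algebra.IsPushout.symm inferInstance
  have hBA : Algebra.IsPushout B A B' A' :=
    (Algebra.IsPushout.comp_iff R B R' B').mp (Algebra.IsPushout.symm inferInstance)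
  haveI : Algebra.IsPushout B B' A A' := hBA.symm
  haveI : Module.Finite B M := Module.Finite.trans A M
  have hf : IsBaseChange B' (g.restrictScalars B) :=
    isBaseChange_restrictScalars_of_isPushout B B' A A' M M' g hg
  obtain ⟨ξ, hξ, hξq, hdim⟩ := hloc
  obtain ⟨Ψ, hΨ⟩ := exists_fiberEquiv p p' hκ B B'
  haveI := UnivInjAss.fiberIdeal_isPrime p' qB'
  let ξ' : PrimeSpectrum (p'.Fiber B') := ⟨FlatCA.fiberIdeal p' qB', inferInstance⟩
  have hcomap : ξ.asIdeal = ξ'.asIdeal.comap Ψ.toRingHom := by
    rw [hξq]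
    show _ = (FlatCA.fiberIdeal p' qB').comap Ψ.toRingHom
    rw [comap_fiberIdeal p p' Ψ hΨ qB', ← hqq.over]
  have hξ' : ξ' ∈ Module.support (p'.Fiber B') (FlatCA.fiberMod p' B' M') := by
    rw [mem_support_iff p p' (g.restrictScalars B) hf Ψ hΨ ξ']
    have : PrimeSpectrum.homeomorphOfRingEquiv Ψ.symm ξ' = ξ := by
      apply PrimeSpectrum.ext
      exact hcomap.symm
    rw [this]
    exact hξ
  exact ⟨ξ', hξ', rfl,
    (localDim_support_eq p p' (g.restrictScalars B) hf Ψ hΨ ξ' hξ' ξ hξ hcomap).trans hdim⟩

end Loc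

section Sm

open AlgebraicGeometry CategoryTheory

theorem smoothRelDim_baseChange (n : ℕ) (R R' D D' : Type u) [CommRing R] [CommRing R']
    [CommRing D] [CommRing D'] [Algebra R R'] [Algebra R D] [Algebra R' D'] [Algebra R D']
    [Algebra D D'] [IsScalarTower R R' D'] [IsScalarTower R D D'] [Algebra.IsPushout R R' D D']
    (hsm : FlatCA.SmoothRelDim n R D) : FlatCA.SmoothRelDim n R' D' := by
  have hpo := CommRingCat.isPushout_of_isPushout R R' D D'
  have hpb := AlgebraicGeometry.isPullback_SpecMap_of_isPushout _ _ _ _ hpo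
  haveI := AlgebraicGeometry.smoothOfRelativeDimension_isStableUnderBaseChange n
  exact CategoryTheory.MorphismProperty.of_isPullback hpb.flip hsm

end Sm

end Groth.Agent.Lib.helper3.BijRes
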