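import Mathlib
import Groth.Agent.Lib.Helper3.BijRes4
import Groth.Agent.Lib.Helper3.TopDim
import Groth.Agent.Lib.Helper5.FibreDimLocal

/-!
# Standard shrinkings of one-step dévissages I (helper3; towards S12241, S12242)

* `topologicalKrullDim_support` : `dim Supp M = supportDim M` for a finite module.
* transfer of supports, local dimension and support dimension of fibre modules along a ring map
  of fibre rings `Ψ : κ(p) ⊗ S → κ(p') ⊗ S'` compatible with `S → S'` and inducing an open
  embedding on spectra.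
-/

set_option autoImplicit false
set_option linter.style.haveILetI false
set_option linter.unusedSectionVars false
universe u

open TensorProduct

namespace Groth.Agent.Lib.helper3.Shrink

attribute [local instance] Algebra.TensorProduct.rightAlgebra

theorem topologicalKrullDim_support (A M : Type u) [CommRing A] [AddCommGroup M] [Module A M]
    [Module.Finite A M] :
    topologicalKrullDim ↥(Module.support A M) = Module.supportDim A M := by
  rw [Module.supportDim_eq_ringKrullDim_quotient_annihilator,
    ← PrimeSpectrum.topologicalKrullDim_eq_ringKrullDim]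
  have hemb : Topology.IsClosedEmbedding
      (PrimeSpectrum.comap (Ideal.Quotient.mk (Module.annihilator A M))) :=
    PrimeSpectrum.isClosedEmbedding_comap_of_surjective _ _ Ideal.Quotient.mk_surjective
  have hrange : Set.range (PrimeSpectrum.comap (Ideal.Quotient.mk (Module.annihilator A M))) =
      Module.support A M := by
    rw [_root_.range_comap_of_surjective _ _ Ideal.Quotient.mk_surjective, Ideal.mk_ker,
      Module.support_eq_zeroLocus]
  let e := hemb.isEmbedding.toHomeomorph.trans (Homeomorph.setCongr hrange)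
  exact (IsHomeomorph.topologicalKrullDim_eq e e.isHomeomorph).symm

section Transfer

variable {R R' : Type u} [CommRing R] [CommRing R']
  (p : Ideal R) [p.IsPrime] (p' : Ideal R') [p'.IsPrime]
  {S S' : Type u} [CommRing S] [CommRing S'] [Algebra R S] [Algebra R' S'] [Algebra S S']
  {N N' : Type u} [AddCommGroup N] [Module S N] [Module R N] [IsScalarTower R S N]
  [Module.Finite S N]
  [AddCommGroup N'] [Module S' N'] [Module R' N'] [IsScalarTower R' S' N']
  [Module S N'] [IsScalarTower S S' N'] (f : N →ₗ[S] N') (hf : IsBaseChange S' f)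
  (Ψ : p.Fiber S →+* p'.Fiber S')
  (hΨ : ∀ t : S, Ψ ((1 : p.ResidueField) ⊗ₜ[R] t) =
    (1 : p'.ResidueField) ⊗ₜ[R'] (algebraMap S S' t))

include hΨ in
theorem comap_comap' (Q' : Ideal (p'.Fiber S')) :
    (Q'.comap Ψ).comap
      (Algebra.TensorProduct.includeRight (R := R) (A := p.ResidueField) (B := S)) =
    (Q'.comap (Algebra.TensorProduct.includeRight (R := R') (A := p'.ResidueField)
      (B := S')).toRingHom).comap (algebraMap S S') := by
  ext t
  simp only [Ideal.mem_comap]
  have : Ψ ((Algebra.TensorProduct.includeRight (R := R) (A := p.ResidueField)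
      (B := S)) t) = (Algebra.TensorProduct.includeRight (R := R')
      (A := p'.ResidueField) (B := S')).toRingHom (algebraMap S S' t) := hΨ t
  rw [this]

include hf hΨ in
theorem mem_support_comap_iff (Q' : PrimeSpectrum (p'.Fiber S')) :
    Q' ∈ Module.support (p'.Fiber S') (FlatCA.fiberMod p' S' N') ↔
      PrimeSpectrum.comap Ψ Q' ∈ Module.support (p.Fiber S) (FlatCA.fiberMod p S N) := by
  haveI : Module.Finite S' N' := Module.Finite.equiv hf.equiv
  rw [OneStep.mem_support_fiberMod_iff p' S' N' Q', OneStep.mem_support_fiberMod_iff p S N]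
  have h1 : (PrimeSpectrum.comap Ψ Q').asIdeal.comap
      (Algebra.TensorProduct.includeRight (R := R) (A := p.ResidueField) (B := S)) =
      (Q'.asIdeal.comap (Algebra.TensorProduct.includeRight (R := R') (A := p'.ResidueField)
      (B := S')).toRingHom).comap (algebraMap S S') := comap_comap' p p' Ψ hΨ Q'.asIdeal
  rw [h1]
  let q' : PrimeSpectrum S' := ⟨Q'.asIdeal.comap (Algebra.TensorProduct.includeRight (R := R')
    (A := p'.ResidueField) (B := S')).toRingHom, inferInstance⟩
  show Module.annihilator S' N' ≤ q'.asIdeal ↔ Module.annihilator S N ≤ q'.asIdeal.comap _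
  rw [← Module.mem_support_iff_of_finite, ← hf.equiv.support_eq,
    Groth.Agent.Lib.Helper18.PullbackStalk.mem_support_baseChange_iff S S' N q',
    Module.mem_support_iff_of_finite]
  rfl

/-- the induced map on supports. -/
noncomputable def suppMap : ↥(Module.support (p'.Fiber S') (FlatCA.fiberMod p' S' N')) →
    ↥(Module.support (p.Fiber S) (FlatCA.fiberMod p S N)) :=
  fun Q' => ⟨PrimeSpectrum.comap Ψ Q'.1, (mem_support_comap_iff p p' f hf Ψ hΨ Q'.1).mp Q'.2⟩

theorem isOpenEmbedding_suppMap (hΨo : Topology.IsOpenEmbedding (PrimeSpectrum.comap Ψ)) :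
    Topology.IsOpenEmbedding (suppMap p p' f hf Ψ hΨ) := by
  rw [Topology.isOpenEmbedding_iff]
  constructor
  · exact Topology.IsEmbedding.codRestrict
      (hΨo.isEmbedding.comp Topology.IsEmbedding.subtypeVal) _ _
  · have : Set.range (suppMap p p' f hf Ψ hΨ) =
        Subtype.val ⁻¹' (Set.range (PrimeSpectrum.comap Ψ)) := by
      ext x
      constructor
      · rintro ⟨Q', rfl⟩
        exact ⟨Q'.1, rfl⟩
      · rintro ⟨Q', hQ'⟩
        refine ⟨⟨Q', (mem_support_comap_iff p p' f hf Ψ hΨ Q').mpr ?_⟩, Subtype.ext hQ'⟩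
        rw [hQ']
        exact x.2
    rw [this]
    exact hΨo.isOpen_range.preimage continuous_subtype_val

include hf hΨ in
theorem localDim_support_eq' (hΨo : Topology.IsOpenEmbedding (PrimeSpectrum.comap Ψ))
    (ξ' : PrimeSpectrum (p'.Fiber S'))
    (hξ' : ξ' ∈ Module.support (p'.Fiber S') (FlatCA.fiberMod p' S' N'))
    (ξ : PrimeSpectrum (p.Fiber S))
    (hξ : ξ ∈ Module.support (p.Fiber S) (FlatCA.fiberMod p S N))
    (h : ξ.asIdeal = ξ'.asIdeal.comap Ψ) :
    FlatMor.localDim (Module.support (p'.Fiber S') (FlatCA.fiberMod p' S' N')) ⟨ξ', hξ'⟩ =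
      FlatMor.localDim (Module.support (p.Fiber S) (FlatCA.fiberMod p S N)) ⟨ξ, hξ⟩ := by
  have h2 := Groth.Agent.Lib.helper5.FibreDimLocal.localDim_eq_of_isOpenEmbedding
    (suppMap p p' f hf Ψ hΨ) (isOpenEmbedding_suppMap p p' f hf Ψ hΨ hΨo) ⟨ξ', hξ'⟩
  have h3 : suppMap p p' f hf Ψ hΨ ⟨ξ', hξ'⟩ = ⟨ξ, hξ⟩ := by
    apply Subtype.ext
    apply PrimeSpectrum.ext
    exact h.symm
  rw [h3] at h2
  exact h2

include hf hΨ in
theorem supportDim_eq' (hΨo : Topology.IsOpenEmbedding (PrimeSpectrum.comap Ψ))
    (ξ' : PrimeSpectrum (p'.Fiber S'))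
    (hξ' : ξ' ∈ Module.support (p'.Fiber S') (FlatCA.fiberMod p' S' N'))
    (ξ : PrimeSpectrum (p.Fiber S))
    (hξ : ξ ∈ Module.support (p.Fiber S) (FlatCA.fiberMod p S N))
    (h : ξ.asIdeal = ξ'.asIdeal.comap Ψ) (n : ℕ)
    (hdim : Module.supportDim (p.Fiber S) (FlatCA.fiberMod p S N) = n)
    (hloc : FlatMor.localDim (Module.support (p.Fiber S) (FlatCA.fiberMod p S N)) ⟨ξ, hξ⟩ = n) :
    Module.supportDim (p'.Fiber S') (FlatCA.fiberMod p' S' N') = n := by
  haveI : Module.Finite S' N' := Module.Finite.equiv hf.equiv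
  apply le_antisymm
  · rw [← hdim]
    unfold Module.supportDim
    refine Order.krullDim_le_of_strictMono (suppMap p p' f hf Ψ hΨ) ?_
    have hinj := (isOpenEmbedding_suppMap p p' f hf Ψ hΨ hΨo).injective
    have hmono : Monotone (suppMap p p' f hf Ψ hΨ) := by
      intro a b hab
      exact Ideal.comap_mono hab
    exact hmono.strictMono_of_injective hinj
  · rw [← topologicalKrullDim_support, ← hloc,
      ← localDim_support_eq' p p' f hf Ψ hΨ hΨo ξ' hξ' ξ hξ h]
    exact TopDim.localDim_le_dim _

end Transfer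

end Groth.Agent.Lib.helper3.Shrink
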