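import Mathlib
import Groth.Agent.Lib.Helper3.Shrink1

/-!
# Standard shrinkings of one-step dévissages II (helper3): fibre rings of localizations

* `isPushout_self` : an algebra `T` over a localization `A` of `R` is its own base change.
* `exists_fiberLocalization` : `κ(p) ⊗ S → κ(p) ⊗ S_h` induces an open embedding on spectra.
* `exists_fiberMap` : the combination, to `κ(p') ⊗_{R'} S_h`.
-/

set_option autoImplicit false
set_option linter.style.haveILetI false
set_option linter.unusedSectionVars false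
universe u

open TensorProduct

namespace Groth.Agent.Lib.helper3.Shrink

attribute [local instance] Algebra.TensorProduct.rightAlgebra

theorem isPushout_self {R : Type u} [CommRing R] (M : Submonoid R) (A : Type u) [CommRing A]
    [Algebra R A] [IsLocalization M A] (T : Type u) [CommRing T] [Algebra R T] [Algebra A T]
    [IsScalarTower R A T] : Algebra.IsPushout R A T T := by
  haveI : IsLocalization (Algebra.algebraMapSubmonoid T M) T := by
    apply IsLocalization.of_le_isUnit
    rintro x ⟨m, hm, rfl⟩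
    show IsUnit (algebraMap R T m)
    rw [IsScalarTower.algebraMap_apply R A T]
    exact (IsLocalization.map_units A ⟨m, hm⟩).map _
  exact (Algebra.isPushout_of_isLocalization M A T T).symm

section FibLoc

variable {R : Type u} [CommRing R] (p : Ideal R) [p.IsPrime]
  (S S₁ : Type u) [CommRing S] [CommRing S₁] [Algebra R S] [Algebra R S₁] [Algebra S S₁]
  [IsScalarTower R S S₁] (h : S) [IsLocalization.Away h S₁]

include h in
theorem exists_fiberLocalization : ∃ φ : p.Fiber S →+* p.Fiber S₁,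
    (∀ t : S, φ ((1 : p.ResidueField) ⊗ₜ[R] t) = (1 : p.ResidueField) ⊗ₜ[R] (algebraMap S S₁ t)) ∧
    Topology.IsOpenEmbedding (PrimeSpectrum.comap φ) := by
  let φ : p.ResidueField ⊗[R] S →ₐ[R] p.ResidueField ⊗[R] S₁ :=
    Algebra.TensorProduct.map (AlgHom.id R p.ResidueField) (IsScalarTower.toAlgHom R S S₁)
  have hφ : ∀ (k : p.ResidueField) (t : S), φ (k ⊗ₜ[R] t) = k ⊗ₜ[R] (algebraMap S S₁ t) := by
    intro k t
    simp [φ]
  refine ⟨φ.toRingHom, fun t => hφ 1 t, ?_⟩
  letI : Algebra (p.ResidueField ⊗[R] S) (p.ResidueField ⊗[R] S₁) := φ.toRingHom.toAlgebra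
  letI : Algebra S (p.ResidueField ⊗[R] S₁) :=
    ((algebraMap S₁ (p.ResidueField ⊗[R] S₁)).comp (algebraMap S S₁)).toAlgebra
  haveI : IsScalarTower S S₁ (p.ResidueField ⊗[R] S₁) := IsScalarTower.of_algebraMap_eq (fun _ => rfl)
  haveI : IsScalarTower S (p.ResidueField ⊗[R] S) (p.ResidueField ⊗[R] S₁) :=
    IsScalarTower.of_algebraMap_eq (fun t => by
      show (1 : p.ResidueField) ⊗ₜ[R] (algebraMap S S₁ t) = φ ((1 : p.ResidueField) ⊗ₜ[R] t)
      rw [hφ])
  haveI : IsScalarTower R (p.ResidueField ⊗[R] S) (p.ResidueField ⊗[R] S₁) :=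
    IsScalarTower.of_algebraMap_eq (fun r => by
      show _ = φ (algebraMap R _ r)
      rw [AlgHom.commutes])
  haveI : IsScalarTower p.ResidueField (p.ResidueField ⊗[R] S) (p.ResidueField ⊗[R] S₁) :=
    IsScalarTower.of_algebraMap_eq (fun k => by
      show k ⊗ₜ[R] (1 : S₁) = φ (k ⊗ₜ[R] (1 : S))
      rw [hφ, map_one])
  haveI : IsScalarTower R S (p.ResidueField ⊗[R] S₁) := IsScalarTower.of_algebraMap_eq (fun r => by
    show algebraMap R _ r = (1 : p.ResidueField) ⊗ₜ[R] (algebraMap S S₁ (algebraMap R S r))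
    rw [← IsScalarTower.algebraMap_apply R S S₁, Algebra.TensorProduct.algebraMap_apply,
      Algebra.algebraMap_eq_smul_one r, Algebra.algebraMap_eq_smul_one (A := S₁) r,
      TensorProduct.smul_tmul])
  have h1 : Algebra.IsPushout R S₁ p.ResidueField (p.ResidueField ⊗[R] S₁) := inferInstance
  have h2 : Algebra.IsPushout S S₁ (p.ResidueField ⊗[R] S) (p.ResidueField ⊗[R] S₁) :=
    (Algebra.IsPushout.comp_iff R S p.ResidueField (p.ResidueField ⊗[R] S)).mp h1
  haveI h3 : Algebra.IsPushout S (p.ResidueField ⊗[R] S) S₁ (p.ResidueField ⊗[R] S₁) := h2.symm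
  haveI : IsLocalization (Algebra.algebraMapSubmonoid (p.ResidueField ⊗[R] S)
      (Submonoid.powers h)) (p.ResidueField ⊗[R] S₁) :=
    (Algebra.isLocalization_iff_isPushout (Submonoid.powers h) S₁).mpr h3
  haveI : IsLocalization.Away (algebraMap S (p.ResidueField ⊗[R] S) h)
      (p.ResidueField ⊗[R] S₁) := by
    show IsLocalization (Submonoid.powers _) _
    rw [← Algebra.algebraMapSubmonoid_powers]
    infer_instance
  exact PrimeSpectrum.localization_away_isOpenEmbedding (p.ResidueField ⊗[R] S₁)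
    (algebraMap S (p.ResidueField ⊗[R] S) h)

end FibLoc

section Comb

variable {R R' : Type u} [CommRing R] [CommRing R'] [Algebra R R']
  (p : Ideal R) [p.IsPrime] (p' : Ideal R') [p'.IsPrime] [hp' : p'.LiesOver p]
  (hκ : Function.Bijective (Ideal.ResidueField.mapₐ p p' (Algebra.ofId R R') hp'.over))
  (S S₁ : Type u) [CommRing S] [CommRing S₁] [Algebra R S] [Algebra R S₁] [Algebra S S₁]
  [IsScalarTower R S S₁] (h : S) [IsLocalization.Away h S₁]
  [Algebra R' S₁] [IsScalarTower R R' S₁] (hpo : Algebra.IsPushout R R' S₁ S₁)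

include hκ h hpo in
theorem exists_fiberMap : ∃ Ψ : p.Fiber S →+* p'.Fiber S₁,
    (∀ t : S, Ψ ((1 : p.ResidueField) ⊗ₜ[R] t) =
      (1 : p'.ResidueField) ⊗ₜ[R'] (algebraMap S S₁ t)) ∧
    Topology.IsOpenEmbedding (PrimeSpectrum.comap Ψ) := by
  obtain ⟨φ, hφ, hφo⟩ := exists_fiberLocalization p S S₁ h
  haveI := hpo
  obtain ⟨Ψ₂, hΨ₂⟩ := BijRes.exists_fiberEquiv p p' hκ S₁ S₁
  refine ⟨Ψ₂.toRingHom.comp φ, fun t => ?_, ?_⟩
  · show Ψ₂ (φ ((1 : p.ResidueField) ⊗ₜ[R] t)) = _
    rw [hφ, hΨ₂]
    rfl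
  · have h1 : PrimeSpectrum.comap (Ψ₂.toRingHom.comp φ) =
        PrimeSpectrum.comap φ ∘ PrimeSpectrum.comap Ψ₂.toRingHom := by
      ext x
      rfl
    rw [h1]
    exact hφo.comp
      (PrimeSpectrum.isHomeomorph_comap_of_bijective Ψ₂.bijective).isOpenEmbedding

end Comb

section Loc

variable {R : Type u} [CommRing R] (p : Ideal R) [p.IsPrime] (M : Submonoid R)
  (R' : Type u) [CommRing R'] [Algebra R R'] [IsLocalization M R']
  (hM : Disjoint (M : Set R) (p : Set R))

include hM in
theorem isPrime_map_loc : (p.map (algebraMap R R')).IsPrime :=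
  IsLocalization.isPrime_of_isPrime_disjoint M R' p inferInstance hM

include hM in
theorem liesOver_map_loc : (p.map (algebraMap R R')).LiesOver p :=
  ⟨(IsLocalization.under_map_of_isPrime_disjoint M R' inferInstance hM).symm⟩

include M in
theorem residueField_bijective_loc (p' : Ideal R') [p'.IsPrime] [hp' : p'.LiesOver p] :
    Function.Bijective (Ideal.ResidueField.mapₐ p p' (Algebra.ofId R R') hp'.over) :=
  RingHom.SurjectiveOnStalks.residueFieldMap_bijective
    (RingHom.surjectiveOnStalks_of_isLocalization M R') p p' hp'.over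

end Loc

end Groth.Agent.Lib.helper3.Shrink
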