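import Mathlib
import Groth.Agent.Lib.Helper3.Shrink2

/-!
# Standard shrinkings of one-step dévissages III (helper3): base-independent fields

Abstract setting: `S' = S[1/hX]`, `C' = C[1/hZ]` with `hZ` the image of `hX`, `D' = D[1/hY]`,
`N' = N[1/hX]`, `G' = G[1/hZ]`.
-/

set_option autoImplicit false
set_option linter.style.haveILetI false
set_option linter.unusedSectionVars false
universe u

open TensorProduct

namespace Groth.Agent.Lib.helper3.Shrink

/-- transfer of `IsLocalization.Away` between elements dividing powers of each other. -/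
theorem away_of_dvd_pow {A : Type u} [CommRing A] (a b : A) (T : Type u) [CommRing T] [Algebra A T]
    [IsLocalization.Away a T] (hab : ∃ k c, a ^ k = b * c) (hba : ∃ k c, b ^ k = a * c) :
    IsLocalization.Away b T := by
  obtain ⟨k, c, hk⟩ := hab
  obtain ⟨l, d, hl⟩ := hba
  have hbu : IsUnit (algebraMap A T b) := by
    have h1 : IsUnit (algebraMap A T (a ^ k)) := by
      rw [map_pow]
      exact (IsLocalization.Away.algebraMap_isUnit a).pow k
    rw [hk, map_mul] at h1
    exact isUnit_of_mul_isUnit_left h1
  have hpow : ∀ i : ℕ, ∃ e : A, b ^ (l * i) = a ^ i * e := by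
    intro i
    refine ⟨d ^ i, ?_⟩
    rw [pow_mul, hl, mul_pow]
  refine ⟨?_, ?_, ?_⟩
  · rintro ⟨_, i, rfl⟩
    rw [map_pow]
    exact hbu.pow i
  · intro t
    obtain ⟨⟨x, ⟨_, i, rfl⟩⟩, hx⟩ := IsLocalization.surj (Submonoid.powers a) t
    obtain ⟨e, he⟩ := hpow i
    refine ⟨⟨x * e, ⟨b ^ (l * i), l * i, rfl⟩⟩, ?_⟩
    show t * algebraMap A T (b ^ (l * i)) = algebraMap A T (x * e)
    have hx' : t * algebraMap A T (a ^ i) = algebraMap A T x := hx
    rw [he, map_mul, ← mul_assoc, hx', map_mul]
  · intro x y hxy
    obtain ⟨⟨_, i, rfl⟩, hc⟩ := IsLocalization.exists_of_eq (M := Submonoid.powers a) hxy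
    obtain ⟨e, he⟩ := hpow i
    refine ⟨⟨b ^ (l * i), l * i, rfl⟩, ?_⟩
    show b ^ (l * i) * x = b ^ (l * i) * y
    have hc' : a ^ i * x = a ^ i * y := hc
    rw [he, mul_right_comm, hc', mul_right_comm]

/-- an ideal of a localization is the extension of its contraction. -/
theorem map_under_eq {A : Type u} [CommRing A] (M : Submonoid A) (T : Type u) [CommRing T]
    [Algebra A T] [IsLocalization M T] (J : Ideal T) :
    (J.under A).map (algebraMap A T) = J :=
  IsLocalization.map_under M T J

theorem eq_of_under_eq_loc {A : Type u} [CommRing A] (M : Submonoid A) (T : Type u) [CommRing T]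
    [Algebra A T] [IsLocalization M T] (J₁ J₂ : Ideal T) (h : J₁.under A = J₂.under A) :
    J₁ = J₂ := by
  rw [← map_under_eq M T J₁, ← map_under_eq M T J₂, h]

theorem under_map_away {A : Type u} [CommRing A] (a : A) (T : Type u) [CommRing T]
    [Algebra A T] [IsLocalization.Away a T] (P : Ideal A) [P.IsPrime] (ha : a ∉ P) :
    (P.map (algebraMap A T)).under A = P := by
  refine IsLocalization.under_map_of_isPrime_disjoint (Submonoid.powers a) T inferInstance ?_
  rw [Set.disjoint_left]
  rintro _ ⟨i, rfl⟩ hmem
  exact ha (Ideal.IsPrime.mem_of_pow_mem inferInstance i hmem)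

theorem isPrime_map_away {A : Type u} [CommRing A] (a : A) (T : Type u) [CommRing T]
    [Algebra A T] [IsLocalization.Away a T] (P : Ideal A) [P.IsPrime] (ha : a ∉ P) :
    (P.map (algebraMap A T)).IsPrime := by
  refine IsLocalization.isPrime_of_isPrime_disjoint (Submonoid.powers a) T P inferInstance ?_
  rw [Set.disjoint_left]
  rintro _ ⟨i, rfl⟩ hmem
  exact ha (Ideal.IsPrime.mem_of_pow_mem inferInstance i hmem)

section Fields

variable {S C D : Type u} [CommRing S] [CommRing C] [CommRing D] [Algebra S C] [Algebra D C]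
  (hX : S) (hY : D)
  (S' C' D' : Type u) [CommRing S'] [CommRing C'] [CommRing D']
  [Algebra S S'] [IsLocalization.Away hX S']
  [Algebra C C'] [IsLocalization.Away (algebraMap S C hX) C']
  [Algebra S C'] [IsScalarTower S C C'] [Algebra S' C'] [IsScalarTower S S' C']
  [Algebra D D'] [IsLocalization.Away hY D']
  [Algebra D C'] [IsScalarTower D C C'] [Algebra D' C'] [IsScalarTower D D' C']

include hX in
theorem surjective_loc (hsurj : Function.Surjective (algebraMap S C)) :
    Function.Surjective (algebraMap S' C') := by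
  intro c'
  obtain ⟨c, ⟨_, i, rfl⟩, rfl⟩ :=
    IsLocalization.exists_mk'_eq (Submonoid.powers (algebraMap S C hX)) c'
  obtain ⟨s, rfl⟩ := hsurj c
  refine ⟨IsLocalization.mk' S' s (⟨hX ^ i, i, rfl⟩ : Submonoid.powers hX), ?_⟩
  rw [IsLocalization.eq_mk'_iff_mul_eq]
  show algebraMap S' C' _ * algebraMap C C' (algebraMap S C hX ^ i) = _
  rw [← map_pow, ← IsScalarTower.algebraMap_apply S C C', IsScalarTower.algebraMap_apply S S' C',
    ← map_mul, ← IsScalarTower.algebraMap_apply S C C', IsScalarTower.algebraMap_apply S S' C']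
  congr 1
  exact IsLocalization.mk'_spec S' s (⟨hX ^ i, i, rfl⟩ : Submonoid.powers hX)

include hX in
theorem finitePresentation_loc [Algebra.FinitePresentation S C] :
    Algebra.FinitePresentation S' C' := by
  haveI : Algebra.FinitePresentation C C' :=
    IsLocalization.Away.finitePresentation (algebraMap S C hX)
  haveI : Algebra.FinitePresentation S C' := Algebra.FinitePresentation.trans S C C'
  haveI : Algebra.FinitePresentation S S' := IsLocalization.Away.finitePresentation hX
  haveI : Algebra.FiniteType S S' := inferInstance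
  exact Algebra.FinitePresentation.of_restrict_scalars_finitePresentation S S' C'

include hX hY in
theorem finite_loc [Module.Finite D C]
    (hYZ : ∃ k c, (algebraMap S C hX) ^ k = algebraMap D C hY * c)
    (hZY : ∃ k c, (algebraMap D C hY) ^ k = algebraMap S C hX * c) :
    Module.Finite D' C' := by
  haveI : IsLocalization.Away (algebraMap D C hY) C' :=
    away_of_dvd_pow (algebraMap S C hX) (algebraMap D C hY) C' hYZ hZY
  haveI : IsLocalization (Algebra.algebraMapSubmonoid C (Submonoid.powers hY)) C' := by
    rw [Algebra.algebraMapSubmonoid_powers]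
    infer_instance
  exact Module.Finite.of_isLocalization D C (Submonoid.powers hY)

end Fields

section Mod

variable {S C : Type u} [CommRing S] [CommRing C] [Algebra S C]
  (hX : S)
  (S' C' : Type u) [CommRing S'] [CommRing C']
  [Algebra S S'] [IsLocalization.Away hX S']
  [Algebra C C'] [IsLocalization.Away (algebraMap S C hX) C']
  [Algebra S C'] [IsScalarTower S C C'] [Algebra S' C'] [IsScalarTower S S' C']
  {N G : Type u} [AddCommGroup N] [Module S N] [AddCommGroup G] [Module C G] [Module S G]
  [IsScalarTower S C G]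
  (N' G' : Type u) [AddCommGroup N'] [Module S' N'] [Module S N'] [IsScalarTower S S' N']
  [AddCommGroup G'] [Module C' G'] [Module C G'] [IsScalarTower C C' G']
  [Module S G'] [IsScalarTower S C G'] [Module S' G'] [IsScalarTower S' C' G']
  (fN : N →ₗ[S] N') [IsLocalizedModule (Submonoid.powers hX) fN]
  (fG : G →ₗ[C] G') [IsLocalizedModule (Submonoid.powers (algebraMap S C hX)) fG]

include hX C' fN fG in
theorem nonempty_equiv_loc (e : N ≃ₗ[S] G) : Nonempty (N' ≃ₗ[S'] G') := by
  haveI : IsScalarTower S S' G' := ⟨fun s s' x => by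
    rw [← IsScalarTower.algebraMap_smul C' (s • s') x, ← IsScalarTower.algebraMap_smul C' s' x,
      ← IsScalarTower.algebraMap_smul C s (algebraMap S' C' s' • x),
      ← IsScalarTower.algebraMap_smul C' (algebraMap S C s) (algebraMap S' C' s' • x),
      Algebra.smul_def, map_mul, mul_smul, ← IsScalarTower.algebraMap_apply S S' C',
      ← IsScalarTower.algebraMap_apply S C C']⟩
  haveI : IsLocalizedModule (Submonoid.powers hX) (fG.restrictScalars S) :=
    IsLocalizedModule.restrictScalars_powers hX fG
  haveI : IsLocalizedModule (Submonoid.powers hX) ((fG.restrictScalars S) ∘ₗ e.toLinearMap) :=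
    IsLocalizedModule.of_linearEquiv_right (Submonoid.powers hX) (fG.restrictScalars S) e
  let e' : N' ≃ₗ[S] G' := IsLocalizedModule.linearEquiv (Submonoid.powers hX) fN
    ((fG.restrictScalars S) ∘ₗ e.toLinearMap)
  exact ⟨e'.extendScalarsOfIsLocalization (Submonoid.powers hX) S'⟩

include hX fG in
theorem finite_mod_loc [Module.Finite C G] : Module.Finite C' G' :=
  Module.Finite.of_isLocalizedModule (Submonoid.powers (algebraMap S C hX)) fG

end Mod

end Groth.Agent.Lib.helper3.Shrink
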