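import Mathlib
import Groth.Agent.Lib.Helper3.Shrink3

/-!
# Standard shrinkings of one-step dévissages IV (helper3): primes, fibres, residue fields
-/

set_option autoImplicit false
set_option linter.style.haveILetI false
set_option linter.unusedSectionVars false
universe u

open TensorProduct

namespace Groth.Agent.Lib.helper3.Shrink

attribute [local instance] Algebra.TensorProduct.rightAlgebra

section Primes

variable {A B : Type u} [CommRing A] [CommRing B] [Algebra A B] (a : A) (b : B)
  (A' B' : Type u) [CommRing A'] [CommRing B'] [Algebra A A'] [IsLocalization.Away a A']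
  [Algebra B B'] [IsLocalization.Away b B']
  [Algebra A B'] [IsScalarTower A B B'] [Algebra A' B'] [IsScalarTower A A' B']

include a b in
theorem liesOver_map_map (P : Ideal A) [P.IsPrime] (Q : Ideal B) [Q.IsPrime] [hQP : Q.LiesOver P]
    (ha : a ∉ P) (hb : b ∉ Q) :
    (Q.map (algebraMap B B')).LiesOver (P.map (algebraMap A A')) := by
  constructor
  apply eq_of_under_eq_loc (Submonoid.powers a) A'
  have e1 : ((Q.map (algebraMap B B')).under A').under A = (Q.map (algebraMap B B')).under A :=
    Ideal.under_under _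
  have e2 : (Q.map (algebraMap B B')).under A = ((Q.map (algebraMap B B')).under B).under A :=
    (Ideal.under_under (B := B) _).symm
  rw [e1, e2, under_map_away b B' Q hb, ← hQP.over, under_map_away a A' P ha]

include a b in
theorem unique_over_loc (P : Ideal A) [P.IsPrime] (Q : Ideal B) (ha : a ∉ P)
    (h3 : ∀ (Q₁ : Ideal B) [Q₁.IsPrime], Q₁.LiesOver P → Q₁ = Q)
    (Q₂ : Ideal B') [Q₂.IsPrime] (hQ₂ : Q₂.LiesOver (P.map (algebraMap A A'))) :
    Q₂ = Q.map (algebraMap B B') := by
  haveI : (Q₂.under B).IsPrime := Ideal.IsPrime.under B Q₂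
  have h1 : Q₂.under B = Q := by
    apply h3
    constructor
    have e1 : (Q₂.under B).under A = Q₂.under A := Ideal.under_under _
    have e2 : Q₂.under A = (Q₂.under A').under A := (Ideal.under_under (B := A') _).symm
    rw [e1, e2, ← hQ₂.over, under_map_away a A' P ha]
  rw [← h1, map_under_eq (Submonoid.powers b) B' Q₂]

end Primes

section PT

variable {R R' : Type u} [CommRing R] [CommRing R'] [Algebra R R']
  (p : Ideal R) [p.IsPrime] (p' : Ideal R') [p'.IsPrime] [hp' : p'.LiesOver p]
  (D D' : Type u) [CommRing D] [CommRing D'] [Algebra R D] [Algebra R' D'] [Algebra R D']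
  [Algebra D D'] [IsScalarTower R R' D'] [IsScalarTower R D D']
  (y : Ideal D) [y.IsPrime] [hy : y.LiesOver p] (y' : Ideal D') [y'.IsPrime] [hyy' : y'.LiesOver y]
  [hy' : y'.LiesOver p']

theorem purelyTranscendental_of_bijective
    (hσ : Function.Surjective (Ideal.ResidueField.mapₐ p p' (Algebra.ofId R R') hp'.over))
    (hτ : Function.Bijective (Ideal.ResidueField.mapₐ y y' (Algebra.ofId D D') hyy'.over))
    (h4 : FlatCA.PurelyTranscendental p y) :
    FlatCA.PurelyTranscendental p' y' := by
  unfold FlatCA.PurelyTranscendental at h4 ⊢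
  letI : Algebra p.ResidueField y.ResidueField :=
    (Ideal.ResidueField.mapₐ p y (Algebra.ofId R D) hy.over).toRingHom.toAlgebra
  letI : Algebra p'.ResidueField y'.ResidueField :=
    (Ideal.ResidueField.mapₐ p' y' (Algebra.ofId R' D') hy'.over).toRingHom.toAlgebra
  obtain ⟨ι, x, hx, hadj⟩ := h4
  have hcompat : ∀ a : p.ResidueField,
      (Ideal.ResidueField.mapₐ y y' (Algebra.ofId D D') hyy'.over).toRingHom
        (algebraMap p.ResidueField y.ResidueField a) =
      algebraMap p'.ResidueField y'.ResidueField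
        ((Ideal.ResidueField.mapₐ p p' (Algebra.ofId R R') hp'.over).toRingHom a) := by
    intro a
    have : ((Ideal.ResidueField.mapₐ y y' (Algebra.ofId D D') hyy'.over).toRingHom.comp
        (Ideal.ResidueField.mapₐ p y (Algebra.ofId R D) hy.over).toRingHom) =
        ((Ideal.ResidueField.mapₐ p' y' (Algebra.ofId R' D') hy'.over).toRingHom.comp
        (Ideal.ResidueField.mapₐ p p' (Algebra.ofId R R') hp'.over).toRingHom) := by
      apply Ideal.ResidueField.ringHom_ext
      ext r
      show (Ideal.ResidueField.mapₐ y y' (Algebra.ofId D D') hyy'.over)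
        ((Ideal.ResidueField.mapₐ p y (Algebra.ofId R D) hy.over) (algebraMap R _ r)) =
        (Ideal.ResidueField.mapₐ p' y' (Algebra.ofId R' D') hy'.over)
        ((Ideal.ResidueField.mapₐ p p' (Algebra.ofId R R') hp'.over) (algebraMap R _ r))
      rw [← BijRes.algebraMap_residueField_comp p p' r, ← BijRes.algebraMap_residueField_comp p y r,
        ← BijRes.algebraMap_residueField_comp y y', ← BijRes.algebraMap_residueField_comp p' y',
        ← IsScalarTower.algebraMap_apply R D D', ← IsScalarTower.algebraMap_apply R R' D']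
    exact RingHom.congr_fun this a
  have := BijRes.purelyTranscendental_transfer
    (Ideal.ResidueField.mapₐ p p' (Algebra.ofId R R') hp'.over).toRingHom hσ
    (Ideal.ResidueField.mapₐ y y' (Algebra.ofId D D') hyy'.over).toRingHom hτ hcompat x hx hadj
  exact ⟨ι, _, this.1, this.2⟩

end PT

section Fibre

variable {R R' : Type u} [CommRing R] [CommRing R'] [Algebra R R']
  (p : Ideal R) [p.IsPrime] (p' : Ideal R') [p'.IsPrime] [hp' : p'.LiesOver p]
  (hκ : Function.Bijective (Ideal.ResidueField.mapₐ p p' (Algebra.ofId R R') hp'.over))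
  (S S' : Type u) [CommRing S] [CommRing S'] [Algebra R S] [Algebra R S'] [Algebra S S']
  [IsScalarTower R S S'] (hX : S) [IsLocalization.Away hX S']
  [Algebra R' S'] [IsScalarTower R R' S'] (hpo : Algebra.IsPushout R R' S' S')
  {N N' : Type u} [AddCommGroup N] [Module S N] [Module R N] [IsScalarTower R S N]
  [Module.Finite S N]
  [AddCommGroup N'] [Module S' N'] [Module R' N'] [IsScalarTower R' S' N']
  [Module S N'] [IsScalarTower S S' N'] (fN : N →ₗ[S] N')
  [IsLocalizedModule (Submonoid.powers hX) fN]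
  (q : Ideal S) [q.IsPrime] [q.LiesOver p] (hXq : hX ∉ q)
  [hq' : (q.map (algebraMap S S')).IsPrime] [hq'p : (q.map (algebraMap S S')).LiesOver p']

include hκ hpo hXq fN in
theorem fibre_loc (n : ℕ)
    (hdim : Module.supportDim (p.Fiber S) (FlatCA.fiberMod p S N) = n)
    (h1 : ∃ (ξ : PrimeSpectrum (p.Fiber S))
      (hξ : ξ ∈ Module.support (p.Fiber S) (FlatCA.fiberMod p S N)),
      ξ.asIdeal = FlatCA.fiberIdeal p q ∧
      FlatMor.localDim (Module.support (p.Fiber S) (FlatCA.fiberMod p S N)) ⟨ξ, hξ⟩ = n) :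
    Module.supportDim (p'.Fiber S') (FlatCA.fiberMod p' S' N') = n ∧
    ∃ (ξ' : PrimeSpectrum (p'.Fiber S'))
      (hξ' : ξ' ∈ Module.support (p'.Fiber S') (FlatCA.fiberMod p' S' N')),
      ξ'.asIdeal = FlatCA.fiberIdeal p' (q.map (algebraMap S S')) ∧
      FlatMor.localDim (Module.support (p'.Fiber S') (FlatCA.fiberMod p' S' N')) ⟨ξ', hξ'⟩ = n := by
  obtain ⟨ξ, hξ, hξq, hloc⟩ := h1
  obtain ⟨Ψ, hΨ, hΨo⟩ := exists_fiberMap p p' hκ S S' hX hpo
  have hf : IsBaseChange S' fN := IsLocalizedModule.isBaseChange (Submonoid.powers hX) S' fN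
  haveI := UnivInjAss.fiberIdeal_isPrime p' (q.map (algebraMap S S'))
  let ξ' : PrimeSpectrum (p'.Fiber S') :=
    ⟨FlatCA.fiberIdeal p' (q.map (algebraMap S S')), inferInstance⟩
  have hcomap : ξ.asIdeal = ξ'.asIdeal.comap Ψ := by
    rw [hξq]
    show _ = (FlatCA.fiberIdeal p' (q.map (algebraMap S S'))).comap Ψ
    have h2 := comap_comap' p p' Ψ hΨ (FlatCA.fiberIdeal p' (q.map (algebraMap S S')))
    rw [Groth.Agent.Lib.helper26.Purity.comap_fiberIdeal p' (q.map (algebraMap S S'))] at h2
    have h3 : (q.map (algebraMap S S')).comap (algebraMap S S') = q := under_map_away hX S' q hXq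
    rw [h3] at h2
    rw [← UnivInjGlobal.fiberIdeal_comap p
      ((FlatCA.fiberIdeal p' (q.map (algebraMap S S'))).comap Ψ)]
    congr 1
    exact h2.symm
  have hξ' : ξ' ∈ Module.support (p'.Fiber S') (FlatCA.fiberMod p' S' N') := by
    rw [mem_support_comap_iff p p' fN hf Ψ hΨ ξ']
    have : PrimeSpectrum.comap Ψ ξ' = ξ := by
      apply PrimeSpectrum.ext
      exact hcomap.symm
    rw [this]
    exact hξ
  refine ⟨supportDim_eq' p p' fN hf Ψ hΨ hΨo ξ' hξ' ξ hξ hcomap n hdim hloc, ξ', hξ', rfl, ?_⟩
  exact (localDim_support_eq' p p' fN hf Ψ hΨ hΨo ξ' hξ' ξ hξ hcomap).trans hloc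

end Fibre

section Sch

open AlgebraicGeometry CategoryTheory CategoryTheory.Limits

variable {R : Type u} [CommRing R] (R' : Type u) [CommRing R'] [Algebra R R'] (g : R)
  [IsLocalization.Away g R']
  {D : Type u} [CommRing D] [Algebra R D] (hY : D) (D' : Type u) [CommRing D'] [Algebra D D']
  [IsLocalization.Away hY D'] [Algebra R D'] [IsScalarTower R D D'] [Algebra R' D']
  [IsScalarTower R R' D']

include g hY in
theorem smoothRelDim_loc (n : ℕ) (hsm : FlatCA.SmoothRelDim n R D) :
    FlatCA.SmoothRelDim n R' D' := by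
  have h1 : FlatCA.SmoothRelDim n R D' := by
    have e : Spec.map (CommRingCat.ofHom (algebraMap R D')) =
        Spec.map (CommRingCat.ofHom (algebraMap D D')) ≫
          Spec.map (CommRingCat.ofHom (algebraMap R D)) := by
      rw [← Spec.map_comp, ← CommRingCat.ofHom_comp, ← IsScalarTower.algebraMap_eq]
    haveI : IsOpenImmersion (Spec.map (CommRingCat.ofHom (algebraMap D D'))) :=
      IsOpenImmersion.of_isLocalization hY
    haveI : SmoothOfRelativeDimension n (Spec.map (CommRingCat.ofHom (algebraMap R D))) := hsm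
    have h0 : SmoothOfRelativeDimension (0 + n) (Spec.map (CommRingCat.ofHom (algebraMap D D')) ≫
        Spec.map (CommRingCat.ofHom (algebraMap R D))) := inferInstance
    rw [zero_add] at h0
    show SmoothOfRelativeDimension n _
    rw [e]
    exact h0
  haveI := isPushout_self (Submonoid.powers g) R' D'
  exact BijRes.smoothRelDim_baseChange n R R' D' D' h1

include g hY in
theorem geomIrred_loc (hgi : FlatCA.GeomIrredFibres R D)
    (hsurj : ∀ P' : PrimeSpectrum R', ∃ Q' : PrimeSpectrum D',
      PrimeSpectrum.comap (algebraMap R' D') Q' = P') :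
    FlatCA.GeomIrredFibres R' D' := by
  let fD := Spec.map (CommRingCat.ofHom (algebraMap R D))
  let fR := Spec.map (CommRingCat.ofHom (algebraMap R R'))
  haveI : GeometricallyIrreducible fD := hgi
  haveI : IsOpenImmersion fR := IsOpenImmersion.of_isLocalization g
  let f₀ : Spec (CommRingCat.of D') ⟶ pullback fD fR :=
    pullback.lift (Spec.map (CommRingCat.ofHom (algebraMap D D')))
      (Spec.map (CommRingCat.ofHom (algebraMap R' D'))) (by
        rw [← Spec.map_comp, ← Spec.map_comp, ← CommRingCat.ofHom_comp, ← CommRingCat.ofHom_comp,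
          ← IsScalarTower.algebraMap_eq, ← IsScalarTower.algebraMap_eq])
  haveI : IsOpenImmersion (f₀ ≫ pullback.fst fD fR) := by
    rw [pullback.lift_fst]
    exact IsOpenImmersion.of_isLocalization hY
  haveI : IsOpenImmersion f₀ := IsOpenImmersion.of_comp f₀ (pullback.fst fD fR)
  have e : f₀ ≫ pullback.snd fD fR = Spec.map (CommRingCat.ofHom (algebraMap R' D')) :=
    pullback.lift_snd _ _ _
  haveI : Surjective (f₀ ≫ pullback.snd fD fR) := by
    rw [e]
    refine ⟨fun P' => ?_⟩
    obtain ⟨Q', hQ'⟩ := hsurj P'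
    exact ⟨Q', hQ'⟩
  have : GeometricallyIrreducible (f₀ ≫ pullback.snd fD fR) := inferInstance
  rw [e] at this
  exact this

end Sch

section Surj

variable {R : Type u} [CommRing R] (R' : Type u) [CommRing R'] [Algebra R R'] (g : R)
  [IsLocalization.Away g R']
  {D : Type u} [CommRing D] [Algebra R D] (hY : D) (D' : Type u) [CommRing D'] [Algebra D D']
  [IsLocalization.Away hY D'] [Algebra R D'] [IsScalarTower R D D'] [Algebra R' D']
  [IsScalarTower R R' D']

include g hY in
theorem comap_surjective_loc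
    (hsurj : ∀ P : Ideal R, P.IsPrime → g ∉ P → ∃ Q : Ideal D, Q.IsPrime ∧ hY ∉ Q ∧ Q.under R = P) :
    ∀ P' : PrimeSpectrum R', ∃ Q' : PrimeSpectrum D',
      PrimeSpectrum.comap (algebraMap R' D') Q' = P' := by
  intro P'
  have hgP : g ∉ P'.asIdeal.under R := fun h =>
    P'.2.ne_top (Ideal.eq_top_of_isUnit_mem _ h (IsLocalization.Away.algebraMap_isUnit g))
  obtain ⟨Q, hQ, hYQ, hQP⟩ := hsurj (P'.asIdeal.under R) (Ideal.IsPrime.under R P'.asIdeal) hgP
  haveI := hQ
  haveI := isPrime_map_away hY D' Q hYQ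
  refine ⟨⟨Q.map (algebraMap D D'), inferInstance⟩, PrimeSpectrum.ext ?_⟩
  show (Q.map (algebraMap D D')).comap (algebraMap R' D') = P'.asIdeal
  apply eq_of_under_eq_loc (Submonoid.powers g) R'
  have e1 : ((Q.map (algebraMap D D')).under R').under R = (Q.map (algebraMap D D')).under R :=
    Ideal.under_under _
  have e2 : (Q.map (algebraMap D D')).under R = ((Q.map (algebraMap D D')).under D).under R :=
    (Ideal.under_under (B := D) _).symm
  show ((Q.map (algebraMap D D')).under R').under R = _
  rw [e1, e2, under_map_away hY D' Q hYQ, hQP]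

end Surj

end Groth.Agent.Lib.helper3.Shrink
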