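import Mathlib
import Groth.Agent.Lib.Helper3.Shrink4

/-!
# Standard shrinkings of one-step dévissages V (helper3): the core statement

`shrink_core` : given `g ∉ p`, `hX ∈ S`, `hY ∉ y` with `g` invertible in `S[1/hX]` and `D[1/hY]`,
the image `hZ` of `hX` in `C` and the image of `hY` dividing powers of each other, and
`Spec D[1/hY] → Spec R[1/g]` surjective, the localized data is a one-step dévissage at the point.
-/

set_option autoImplicit false
set_option linter.style.haveILetI false
set_option linter.unusedSectionVars false
universe u

open TensorProduct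

namespace Groth.Agent.Lib.helper3.Shrink

theorem isUnit_of_dvd_pow {A T : Type u} [CommRing A] [CommRing T] [Algebra A T] (a b : A)
    (ha : IsUnit (algebraMap A T a)) (h : ∃ k c, a ^ k = b * c) : IsUnit (algebraMap A T b) := by
  obtain ⟨k, c, hk⟩ := h
  have h1 : IsUnit (algebraMap A T (a ^ k)) := by
    rw [map_pow]
    exact ha.pow k
  rw [hk, map_mul] at h1
  exact isUnit_of_mul_isUnit_left h1

theorem shrink_core
    (R S : Type u) [CommRing R] [CommRing S] [Algebra R S] [Algebra.FiniteType R S]
    (N : Type u) [AddCommGroup N] [Module S N] [Module R N] [IsScalarTower R S N] [Module.Finite S N]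
    (p : Ideal R) [p.IsPrime] (q : Ideal S) [q.IsPrime] [q.LiesOver p]
    (C D G : Type u) [CommRing C] [CommRing D] [Algebra S C] [Algebra R C] [IsScalarTower R S C]
    [Algebra R D] [Algebra D C] [IsScalarTower R D C] [AddCommGroup G] [Module C G] [Module S G]
    [IsScalarTower S C G] (n : ℕ)
    (h : FlatCA.IsOneStepDevissage R S N p C D G n)
    (z : Ideal C) [z.IsPrime] (y : Ideal D) [y.IsPrime] [z.LiesOver q] [z.LiesOver y] [y.LiesOver p]
    (h1 : ∃ (ξ : PrimeSpectrum (p.Fiber S)) (hξ : ξ ∈ Module.support (p.Fiber S) (FlatCA.fiberMod p S N)),
      ξ.asIdeal = FlatCA.fiberIdeal p q ∧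
      FlatMor.localDim (Module.support (p.Fiber S) (FlatCA.fiberMod p S N)) ⟨ξ, hξ⟩ = n)
    (h3 : ∀ (z₁ : Ideal C) [z₁.IsPrime], z₁.LiesOver y → z₁ = z)
    (h4 : FlatCA.PurelyTranscendental p y)
    (g : R) (hg : g ∉ p) (hX : S) (hXq : hX ∉ q) (hY : D) (hYy : hY ∉ y)
    (hZz : algebraMap S C hX ∉ z)
    (hgX : ∃ k s, hX ^ k = algebraMap R S g * s)
    (hgY : ∃ k d, hY ^ k = algebraMap R D g * d)
    (hYZ : ∃ k c, (algebraMap S C hX) ^ k = algebraMap D C hY * c)
    (hZY : ∃ k c, (algebraMap D C hY) ^ k = algebraMap S C hX * c)
    (hsurj : ∀ P : Ideal R, P.IsPrime → g ∉ P →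
      ∃ Q : Ideal D, Q.IsPrime ∧ hY ∉ Q ∧ Q.under R = P) :
      ∃ (_ : Algebra (Localization.Away g) (Localization.Away hX)) (_ : IsScalarTower R (Localization.Away g) (Localization.Away hX))
        (_ : Algebra (Localization.Away g) (Localization.Away (algebraMap S C hX))) (_ : IsScalarTower R (Localization.Away g) (Localization.Away (algebraMap S C hX)))
        (_ : Algebra (Localization.Away g) (Localization.Away hY)) (_ : IsScalarTower R (Localization.Away g) (Localization.Away hY))
        (_ : Algebra (Localization.Away hX) (Localization.Away (algebraMap S C hX))) (_ : IsScalarTower S (Localization.Away hX) (Localization.Away (algebraMap S C hX)))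
        (_ : IsScalarTower (Localization.Away g) (Localization.Away hX) (Localization.Away (algebraMap S C hX)))
        (_ : Algebra (Localization.Away hY) (Localization.Away (algebraMap S C hX))) (_ : IsScalarTower D (Localization.Away hY) (Localization.Away (algebraMap S C hX)))
        (_ : IsScalarTower (Localization.Away g) (Localization.Away hY) (Localization.Away (algebraMap S C hX)))
        (_ : Module (Localization.Away g) (LocalizedModule (Submonoid.powers hX) N)) (_ : IsScalarTower (Localization.Away g) (Localization.Away hX) (LocalizedModule (Submonoid.powers hX) N))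
        (_ : Module (Localization.Away hX) (LocalizedModule (Submonoid.powers (algebraMap S C hX)) G)) (_ : IsScalarTower (Localization.Away hX) (Localization.Away (algebraMap S C hX)) (LocalizedModule (Submonoid.powers (algebraMap S C hX)) G))
        (_ : (Ideal.map (algebraMap R (Localization.Away g)) p).IsPrime) (_ : (Ideal.map (algebraMap D (Localization.Away hY)) y).IsPrime) (_ : (Ideal.map (algebraMap D (Localization.Away hY)) y).LiesOver (Ideal.map (algebraMap R (Localization.Away g)) p)),
        FlatCA.IsOneStepDevissage (Localization.Away g) (Localization.Away hX) (LocalizedModule (Submonoid.powers hX) N) (Ideal.map (algebraMap R (Localization.Away g)) p) (Localization.Away (algebraMap S C hX)) (Localization.Away hY) (LocalizedModule (Submonoid.powers (algebraMap S C hX)) G) n ∧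
        (∃ (ξ : PrimeSpectrum ((Ideal.map (algebraMap R (Localization.Away g)) p).Fiber (Localization.Away hX)))
            (hξ : ξ ∈ Module.support ((Ideal.map (algebraMap R (Localization.Away g)) p).Fiber (Localization.Away hX)) (FlatCA.fiberMod (Ideal.map (algebraMap R (Localization.Away g)) p) (Localization.Away hX) (LocalizedModule (Submonoid.powers hX) N))),
          ξ.asIdeal = FlatCA.fiberIdeal (Ideal.map (algebraMap R (Localization.Away g)) p) (Ideal.map (algebraMap S (Localization.Away hX)) q) ∧
          FlatMor.localDim (Module.support ((Ideal.map (algebraMap R (Localization.Away g)) p).Fiber (Localization.Away hX)) (FlatCA.fiberMod (Ideal.map (algebraMap R (Localization.Away g)) p) (Localization.Away hX) (LocalizedModule (Submonoid.powers hX) N))) ⟨ξ, hξ⟩ = n) ∧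
        (Ideal.map (algebraMap C (Localization.Away (algebraMap S C hX))) z).LiesOver (Ideal.map (algebraMap S (Localization.Away hX)) q) ∧ (Ideal.map (algebraMap C (Localization.Away (algebraMap S C hX))) z).LiesOver (Ideal.map (algebraMap D (Localization.Away hY)) y) ∧
        (∀ (z₂ : Ideal (Localization.Away (algebraMap S C hX))) [z₂.IsPrime], z₂.LiesOver (Ideal.map (algebraMap D (Localization.Away hY)) y) → z₂ = Ideal.map (algebraMap C (Localization.Away (algebraMap S C hX))) z) ∧
        FlatCA.PurelyTranscendental (Ideal.map (algebraMap R (Localization.Away g)) p) (Ideal.map (algebraMap D (Localization.Away hY)) y) := by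
  classical
  obtain ⟨⟨e⟩, hsurjSC, hfp, hfinDC, hfinCG, hsm, hgi, hdim⟩ := h
  haveI := hfp
  haveI := hfinDC
  haveI := hfinCG
  -- units
  have huX : IsUnit (algebraMap S (Localization.Away hX) hX) :=
    IsLocalization.Away.algebraMap_isUnit hX
  have huZ : IsUnit (algebraMap C (Localization.Away (algebraMap S C hX)) (algebraMap S C hX)) :=
    IsLocalization.Away.algebraMap_isUnit _
  have huY : IsUnit (algebraMap D (Localization.Away hY) hY) :=
    IsLocalization.Away.algebraMap_isUnit hY
  have hu1 : IsUnit (algebraMap R (Localization.Away hX) g) := by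
    rw [IsScalarTower.algebraMap_apply R S (Localization.Away hX)]
    exact isUnit_of_dvd_pow hX (algebraMap R S g) huX hgX
  have hu3 : IsUnit (algebraMap R (Localization.Away hY) g) := by
    rw [IsScalarTower.algebraMap_apply R D (Localization.Away hY)]
    exact isUnit_of_dvd_pow hY (algebraMap R D g) huY hgY
  have hu4 : IsUnit (algebraMap S (Localization.Away (algebraMap S C hX)) hX) := by
    rw [IsScalarTower.algebraMap_apply S C (Localization.Away (algebraMap S C hX))]
    exact huZ
  have hu2 : IsUnit (algebraMap R (Localization.Away (algebraMap S C hX)) g) := by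
    rw [IsScalarTower.algebraMap_apply R S (Localization.Away (algebraMap S C hX))]
    exact isUnit_of_dvd_pow (T := Localization.Away (algebraMap S C hX)) hX (algebraMap R S g) hu4 hgX
  have hu5 : IsUnit (algebraMap D (Localization.Away (algebraMap S C hX)) hY) := by
    rw [IsScalarTower.algebraMap_apply D C (Localization.Away (algebraMap S C hX))]
    exact isUnit_of_dvd_pow (algebraMap S C hX) (algebraMap D C hY) huZ hYZ
  -- algebra structures
  letI a1 : Algebra (Localization.Away g) (Localization.Away hX) :=
    (IsLocalization.Away.lift g hu1).toAlgebra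
  haveI t1 : IsScalarTower R (Localization.Away g) (Localization.Away hX) :=
    IsScalarTower.of_algebraMap_eq (fun r => (IsLocalization.Away.lift_eq g hu1 r).symm)
  letI a2 : Algebra (Localization.Away g) (Localization.Away (algebraMap S C hX)) :=
    (IsLocalization.Away.lift g hu2).toAlgebra
  haveI t2 : IsScalarTower R (Localization.Away g) (Localization.Away (algebraMap S C hX)) :=
    IsScalarTower.of_algebraMap_eq (fun r => (IsLocalization.Away.lift_eq g hu2 r).symm)
  letI a3 : Algebra (Localization.Away g) (Localization.Away hY) :=
    (IsLocalization.Away.lift g hu3).toAlgebra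
  haveI t3 : IsScalarTower R (Localization.Away g) (Localization.Away hY) :=
    IsScalarTower.of_algebraMap_eq (fun r => (IsLocalization.Away.lift_eq g hu3 r).symm)
  letI a4 : Algebra (Localization.Away hX) (Localization.Away (algebraMap S C hX)) :=
    (IsLocalization.Away.lift hX hu4).toAlgebra
  haveI t4 : IsScalarTower S (Localization.Away hX) (Localization.Away (algebraMap S C hX)) :=
    IsScalarTower.of_algebraMap_eq (fun r => (IsLocalization.Away.lift_eq hX hu4 r).symm)
  haveI t5 : IsScalarTower (Localization.Away g) (Localization.Away hX)
      (Localization.Away (algebraMap S C hX)) := by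
    refine IsScalarTower.of_algebraMap_eq' ?_
    apply IsLocalization.ringHom_ext (Submonoid.powers g)
    ext r
    simp only [RingHom.coe_comp, Function.comp_apply]
    rw [← IsScalarTower.algebraMap_apply R (Localization.Away g)
        (Localization.Away (algebraMap S C hX)),
      ← IsScalarTower.algebraMap_apply R (Localization.Away g) (Localization.Away hX),
      IsScalarTower.algebraMap_apply R S (Localization.Away hX),
      ← IsScalarTower.algebraMap_apply S (Localization.Away hX)
        (Localization.Away (algebraMap S C hX)),
      ← IsScalarTower.algebraMap_apply R S (Localization.Away (algebraMap S C hX))]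
  letI a6 : Algebra (Localization.Away hY) (Localization.Away (algebraMap S C hX)) :=
    (IsLocalization.Away.lift hY hu5).toAlgebra
  haveI t6 : IsScalarTower D (Localization.Away hY) (Localization.Away (algebraMap S C hX)) :=
    IsScalarTower.of_algebraMap_eq (fun r => (IsLocalization.Away.lift_eq hY hu5 r).symm)
  haveI t7 : IsScalarTower (Localization.Away g) (Localization.Away hY)
      (Localization.Away (algebraMap S C hX)) := by
    refine IsScalarTower.of_algebraMap_eq' ?_
    apply IsLocalization.ringHom_ext (Submonoid.powers g)
    ext r
    simp only [RingHom.coe_comp, Function.comp_apply]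
    rw [← IsScalarTower.algebraMap_apply R (Localization.Away g)
        (Localization.Away (algebraMap S C hX)),
      ← IsScalarTower.algebraMap_apply R (Localization.Away g) (Localization.Away hY),
      IsScalarTower.algebraMap_apply R D (Localization.Away hY),
      ← IsScalarTower.algebraMap_apply D (Localization.Away hY)
        (Localization.Away (algebraMap S C hX)),
      ← IsScalarTower.algebraMap_apply R D (Localization.Away (algebraMap S C hX))]
  letI m1 : Module (Localization.Away g) (LocalizedModule (Submonoid.powers hX) N) :=
    Module.compHom _ (algebraMap (Localization.Away g) (Localization.Away hX))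
  haveI mt1 : IsScalarTower (Localization.Away g) (Localization.Away hX)
      (LocalizedModule (Submonoid.powers hX) N) := ⟨fun r s x => by
    show (r • s) • x = algebraMap (Localization.Away g) (Localization.Away hX) r • (s • x)
    rw [Algebra.smul_def, mul_smul]⟩
  letI m2 : Module (Localization.Away hX)
      (LocalizedModule (Submonoid.powers (algebraMap S C hX)) G) :=
    Module.compHom _ (algebraMap (Localization.Away hX) (Localization.Away (algebraMap S C hX)))
  haveI mt2 : IsScalarTower (Localization.Away hX) (Localization.Away (algebraMap S C hX))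
      (LocalizedModule (Submonoid.powers (algebraMap S C hX)) G) := ⟨fun r s x => by
    show (r • s) • x = algebraMap (Localization.Away hX)
      (Localization.Away (algebraMap S C hX)) r • (s • x)
    rw [Algebra.smul_def, mul_smul]⟩
  haveI hp' : (Ideal.map (algebraMap R (Localization.Away g)) p).IsPrime :=
    isPrime_map_away g _ p hg
  haveI hy' : (Ideal.map (algebraMap D (Localization.Away hY)) y).IsPrime :=
    isPrime_map_away hY _ y hYy
  haveI hyp' : (Ideal.map (algebraMap D (Localization.Away hY)) y).LiesOver
      (Ideal.map (algebraMap R (Localization.Away g)) p) :=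
    liesOver_map_map g hY (Localization.Away g) (Localization.Away hY) p y hg hYy
  refine ⟨a1, t1, a2, t2, a3, t3, a4, t4, t5, a6, t6, t7, m1, mt1, m2, mt2, hp', hy', hyp', ?_⟩
  haveI hpp' : (Ideal.map (algebraMap R (Localization.Away g)) p).LiesOver p :=
    ⟨(under_map_away g _ p hg).symm⟩
  have hκ := residueField_bijective_loc p (Submonoid.powers g) (Localization.Away g)
    (Ideal.map (algebraMap R (Localization.Away g)) p)
  haveI hq' : (Ideal.map (algebraMap S (Localization.Away hX)) q).IsPrime :=
    isPrime_map_away hX _ q hXq
  haveI hqp' : (Ideal.map (algebraMap S (Localization.Away hX)) q).LiesOver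
      (Ideal.map (algebraMap R (Localization.Away g)) p) :=
    liesOver_map_map g hX (Localization.Away g) (Localization.Away hX) p q hg hXq
  have hpo : Algebra.IsPushout R (Localization.Away g) (Localization.Away hX)
      (Localization.Away hX) := isPushout_self (Submonoid.powers g) _ _
  obtain ⟨hdim', hloc'⟩ := fibre_loc p _ hκ S (Localization.Away hX) hX hpo
    (LocalizedModule.mkLinearMap (Submonoid.powers hX) N) q hXq n hdim h1
  have hsurj' := comap_surjective_loc (Localization.Away g) g hY (Localization.Away hY) hsurj
  haveI hyy' : (Ideal.map (algebraMap D (Localization.Away hY)) y).LiesOver y :=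
    ⟨(under_map_away hY _ y hYy).symm⟩
  refine ⟨⟨?_, ?_, ?_, ?_, ?_, ?_, ?_, hdim'⟩, hloc', ?_, ?_, ?_, ?_⟩
  · exact nonempty_equiv_loc hX (Localization.Away hX) (Localization.Away (algebraMap S C hX)) _ _
      (LocalizedModule.mkLinearMap (Submonoid.powers hX) N)
      (LocalizedModule.mkLinearMap (Submonoid.powers (algebraMap S C hX)) G) e
  · exact surjective_loc hX _ _ hsurjSC
  · exact finitePresentation_loc (C := C) hX (Localization.Away hX) (Localization.Away (algebraMap S C hX))
  · exact finite_loc hX hY (Localization.Away (algebraMap S C hX)) (Localization.Away hY) hYZ hZY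
  · exact finite_mod_loc hX (Localization.Away (algebraMap S C hX)) _
      (LocalizedModule.mkLinearMap (Submonoid.powers (algebraMap S C hX)) G)
  · exact smoothRelDim_loc (Localization.Away g) g hY (Localization.Away hY) n hsm
  · exact geomIrred_loc (Localization.Away g) g hY (Localization.Away hY) hgi hsurj'
  · exact liesOver_map_map hX (algebraMap S C hX) _ _ q z hXq hZz
  · exact liesOver_map_map hY (algebraMap S C hX) _ _ y z hYy hZz
  · intro z₂ _ hz₂
    exact unique_over_loc hY (algebraMap S C hX) _ _ y z hYy h3 z₂ hz₂
  · exact purelyTranscendental_of_bijective p _ D (Localization.Away hY) y _ hκ.2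
      (residueField_bijective_loc y (Submonoid.powers hY) (Localization.Away hY) _) h4

end Groth.Agent.Lib.helper3.Shrink
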