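import Mathlib
import Groth.Agent.Lib.Helper3.Shrink5

/-!
# Standard shrinkings of one-step dévissages VI (helper3): choice of the elements
-/

set_option autoImplicit false
set_option linter.style.haveILetI false
set_option linter.unusedSectionVars false
universe u

open TensorProduct

namespace Groth.Agent.Lib.helper3.Shrink

/-- the image of `D(w)` in `Spec R` contains a basic open neighbourhood of `p`. -/
theorem exists_basicOpen_subset_image {R D : Type u} [CommRing R] [CommRing D] [Algebra R D]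
    [Algebra.Smooth R D] (p : Ideal R) [p.IsPrime] (y : Ideal D) [y.IsPrime] [hy : y.LiesOver p]
    (w : D) (hw : w ∉ y) :
    ∃ g : R, g ∉ p ∧ ∀ P : Ideal R, P.IsPrime → g ∉ P →
      ∃ Q : Ideal D, Q.IsPrime ∧ w ∉ Q ∧ Q.under R = P := by
  haveI : Module.Flat R D := inferInstance
  have hopen : IsOpenMap (PrimeSpectrum.comap (algebraMap R D)) :=
    PrimeSpectrum.isOpenMap_comap_of_hasGoingDown_of_finitePresentation
  have hU : IsOpen (PrimeSpectrum.comap (algebraMap R D) '' (PrimeSpectrum.basicOpen w : Set _)) :=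
    hopen _ (PrimeSpectrum.basicOpen w).2
  have hpU : (⟨p, inferInstance⟩ : PrimeSpectrum R) ∈
      PrimeSpectrum.comap (algebraMap R D) '' (PrimeSpectrum.basicOpen w : Set _) := by
    refine ⟨⟨y, inferInstance⟩, hw, ?_⟩
    apply PrimeSpectrum.ext
    exact hy.over.symm
  obtain ⟨_, ⟨g, rfl⟩, hpg, hgU⟩ :=
    PrimeSpectrum.isTopologicalBasis_basic_opens.exists_subset_of_mem_open hpU hU
  refine ⟨g, hpg, fun P hP hgP => ?_⟩
  obtain ⟨Q, hwQ, hQP⟩ := hgU (show (⟨P, hP⟩ : PrimeSpectrum R) ∈ _ from hgP)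
  exact ⟨Q.asIdeal, Q.2, hwQ, congrArg PrimeSpectrum.asIdeal hQP⟩

/-- for a finite map `D → C` with `z` the only prime over `y` and `ū ∉ z`, some `hY₀ ∉ y` has image
in `C` divisible by `ū`. -/
theorem exists_not_mem_dvd {C D : Type u} [CommRing C] [CommRing D] [Algebra D C]
    [Module.Finite D C] (z : Ideal C) [z.IsPrime] (y : Ideal D) [y.IsPrime]
    (h3 : ∀ (z₁ : Ideal C) [z₁.IsPrime], z₁.LiesOver y → z₁ = z) (ū : C) (hū : ū ∉ z) :
    ∃ hY₀ : D, hY₀ ∉ y ∧ ∃ c : C, algebraMap D C hY₀ = ū * c := by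
  haveI : Algebra.IsIntegral D C := Algebra.IsIntegral.of_finite D C
  by_contra hcon
  push Not at hcon
  have hIP : (Ideal.span {ū}).comap (algebraMap D C) ≤ y := by
    intro d hd
    by_contra hdy
    rw [Ideal.mem_comap, Ideal.mem_span_singleton'] at hd
    obtain ⟨c, hc⟩ := hd
    exact hcon d hdy c (by rw [← hc, mul_comm])
  obtain ⟨Q, hQI, hQ, hQy⟩ := Ideal.exists_ideal_over_prime_of_isIntegral y (Ideal.span {ū}) hIP
  haveI := hQ
  have : Q = z := h3 Q ⟨hQy.symm⟩
  apply hū
  rw [← this]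
  exact hQI (Ideal.subset_span rfl)

end Groth.Agent.Lib.helper3.Shrink
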