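import Mathlib
import Groth.Prelude.Def_FlatCA

/-!
# `FlatCA.FlatAt`: elementwise criterion, transfer along flat and integral maps (helper3)

* `map_injective_iff`: the map induced on localized modules by `h` is injective iff every element
  of the kernel of `h` is killed by an element of the submonoid.
* `flatAt_iff_forall_eq_zero`: `N_q` is `R`-flat iff for every injective `u : P → Q` every element
  of the kernel of `N ⊗ u` is killed by some `s ∉ q`.
* `flatAt_of_linearEquiv`.
* `flatAt_tensor_iff`, `flatAt_iff_of_isBaseChange`: for `B → C` flat and `q'` over `q`,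
  `M` is `A`-flat at `q` iff `C ⊗[B] M` is `A`-flat at `q'`.
* `flatAt_iff_forall_liesOver_of_isIntegral`: for `B → C` integral and a `C`-module `N`, `N` is `A`-flat
  at `q` (as a `B`-module) iff it is `A`-flat at every prime `q'` of `C` over `q`.
-/

set_option autoImplicit false
set_option linter.style.haveILetI false
set_option linter.unusedSectionVars false
universe u

open TensorProduct

namespace Groth.Agent.Lib.helper3.FlatAtLib

section General

variable {S : Type*} [CommRing S] (T : Submonoid S) {M M' N N' : Type*}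
  [AddCommGroup M] [Module S M] [AddCommGroup M'] [Module S M']
  [AddCommGroup N] [Module S N] [AddCommGroup N'] [Module S N']
  (f : M →ₗ[S] M') (g : N →ₗ[S] N') [IsLocalizedModule T f] [IsLocalizedModule T g]

theorem map_injective_iff (h : M →ₗ[S] N) :
    Function.Injective (IsLocalizedModule.map T f g h) ↔
      ∀ x : M, h x = 0 → ∃ t : T, t • x = 0 := by
  constructor
  · intro hinj x hx
    have h1 : IsLocalizedModule.map T f g h (f x) = 0 := by
      rw [IsLocalizedModule.map_apply, hx, map_zero]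
    have h2 : f x = 0 := hinj (h1.trans (map_zero _).symm)
    exact (IsLocalizedModule.eq_zero_iff T f).mp h2
  · intro hel
    rw [injective_iff_map_eq_zero]
    intro y hy
    obtain ⟨⟨x, s⟩, rfl⟩ := IsLocalizedModule.mk'_surjective T f y
    simp only [Function.uncurry_apply_pair] at hy ⊢
    rw [IsLocalizedModule.map_mk', IsLocalizedModule.mk'_eq_zero'] at hy
    obtain ⟨t, ht⟩ := hy
    have h3 : h (t • x) = 0 := by
      rw [Submonoid.smul_def, map_smul, ← Submonoid.smul_def, ht]
    obtain ⟨t', ht'⟩ := hel _ h3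
    rw [IsLocalizedModule.mk'_eq_zero']
    exact ⟨t' * t, by rw [mul_smul, ht']⟩

end General

section Elementwise

variable {R S : Type u} [CommRing R] [CommRing S] [Algebra R S]
  (q : Ideal S) [q.IsPrime] (N : Type u) [AddCommGroup N] [Module S N] [Module R N]
  [IsScalarTower R S N]

theorem flatAt_iff_forall_eq_zero :
    FlatCA.FlatAt R q N ↔ ∀ (P Q : Type u) [AddCommGroup P] [AddCommGroup Q] [Module R P]
      [Module R Q] (u : P →ₗ[R] Q), Function.Injective u → ∀ x : N ⊗[R] P,
        u.lTensor N x = 0 → ∃ s : S, s ∉ q ∧ s • x = 0 := by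
  unfold FlatCA.FlatAt
  rw [Module.Flat.iff_lTensor_preserves_injective_linearMap]
  have key : ∀ (P Q : Type u) [AddCommGroup P] [AddCommGroup Q] [Module R P]
      [Module R Q] (u : P →ₗ[R] Q),
      Function.Injective (u.lTensor (LocalizedModule q.primeCompl N)) ↔
        ∀ x : N ⊗[R] P, u.lTensor N x = 0 → ∃ s : S, s ∉ q ∧ s • x = 0 := by
    intro P Q _ _ _ _ u
    let g := LocalizedModule.mkLinearMap q.primeCompl N
    have h1 := IsLocalizedModule.map_lTensor (R := R) S q.primeCompl u g
    have h2 : Function.Injective (u.lTensor (LocalizedModule q.primeCompl N)) ↔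
        Function.Injective (AlgebraTensorModule.lTensor S (LocalizedModule q.primeCompl N) u) :=
      Iff.rfl
    rw [h2, ← h1, map_injective_iff]
    constructor
    · intro h x hx
      obtain ⟨t, ht⟩ := h x hx
      exact ⟨t.1, t.2, ht⟩
    · intro h x hx
      obtain ⟨s, hs, hsx⟩ := h x hx
      exact ⟨⟨s, hs⟩, hsx⟩
  constructor
  · intro h P Q _ _ _ _ u hu
    exact (key P Q u).mp (h u hu)
  · intro h P Q _ _ _ _ u hu
    exact (key P Q u).mpr (h P Q u hu)

end Elementwise

section Equiv

variable {R S : Type u} [CommRing R] [CommRing S] [Algebra R S]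
  (q : Ideal S) [q.IsPrime] {M N : Type u} [AddCommGroup M] [Module S M] [Module R M]
  [IsScalarTower R S M] [AddCommGroup N] [Module S N] [Module R N] [IsScalarTower R S N]

theorem flatAt_of_linearEquiv (e : M ≃ₗ[S] N) (h : FlatCA.FlatAt R q M) :
    FlatCA.FlatAt R q N := by
  unfold FlatCA.FlatAt at h ⊢
  let f := LocalizedModule.mkLinearMap q.primeCompl M
  let g := (LocalizedModule.mkLinearMap q.primeCompl N) ∘ₗ e.toLinearMap
  haveI : IsLocalizedModule q.primeCompl g := IsLocalizedModule.of_linearEquiv_right _ _ e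
  let E : LocalizedModule q.primeCompl M ≃ₗ[S] LocalizedModule q.primeCompl N :=
    IsLocalizedModule.linearEquiv q.primeCompl f g
  exact Module.Flat.of_linearEquiv (E.restrictScalars R).symm

theorem flatAt_congr (e : M ≃ₗ[S] N) : FlatCA.FlatAt R q M ↔ FlatCA.FlatAt R q N :=
  ⟨flatAt_of_linearEquiv q e, flatAt_of_linearEquiv q e.symm⟩

end Equiv

section FlatTransfer

variable {A B C : Type u} [CommRing A] [CommRing B] [CommRing C] [Algebra A B] [Algebra B C]
  [Algebra A C] [IsScalarTower A B C] [Module.Flat B C]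
  (q : Ideal B) [q.IsPrime] (q' : Ideal C) [q'.IsPrime] [q'.LiesOver q]
  (M : Type u) [AddCommGroup M] [Module B M] [Module A M] [IsScalarTower A B M]

theorem not_mem_of_not_mem {s : B} (hs : s ∉ q) : algebraMap B C s ∉ q' := by
  intro h
  apply hs
  rw [Ideal.LiesOver.over (p := q) (P := q')]
  exact h

theorem assoc_comm {P Q : Type u} [AddCommGroup P] [AddCommGroup Q] [Module A P] [Module A Q]
    (u : P →ₗ[A] Q) (y : (C ⊗[B] M) ⊗[A] P) :
    AlgebraTensorModule.assoc A B C C M Q (u.lTensor (C ⊗[B] M) y) =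
      (AlgebraTensorModule.lTensor C C (AlgebraTensorModule.lTensor B M u))
        (AlgebraTensorModule.assoc A B C C M P y) := by
  induction y using TensorProduct.induction_on with
  | zero => simp
  | add a b ha hb => simp only [map_add, ha, hb]
  | tmul z p =>
    induction z using TensorProduct.induction_on with
    | zero => simp
    | add a b ha hb => simp only [TensorProduct.add_tmul, map_add, ha, hb]
    | tmul c m => simp

theorem flatAt_tensor_of_flatAt (h : FlatCA.FlatAt A q M) : FlatCA.FlatAt A q' (C ⊗[B] M) := by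
  rw [flatAt_iff_forall_eq_zero] at h ⊢
  intro P Q _ _ _ _ u hu x hx
  let e₁ := AlgebraTensorModule.assoc A B C C M P
  let e₂ := AlgebraTensorModule.assoc A B C C M Q
  let hh : M ⊗[A] P →ₗ[B] M ⊗[A] Q := AlgebraTensorModule.lTensor B M u
  have h1 : (AlgebraTensorModule.lTensor C C hh) (e₁ x) = 0 := by
    rw [← assoc_comm, hx, map_zero]
  have h2 : e₁ x ∈ LinearMap.ker (AlgebraTensorModule.lTensor C C hh) := h1
  rw [Module.Flat.ker_lTensor_eq] at h2
  obtain ⟨z, hz⟩ := h2
  have key : ∀ z : C ⊗[B] (LinearMap.ker hh), ∃ s : B, s ∉ q ∧ s • z = 0 := by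
    intro z
    induction z using TensorProduct.induction_on with
    | zero => exact ⟨1, (Ideal.ne_top_iff_one q).mp (Ideal.IsPrime.ne_top inferInstance), by simp⟩
    | add a b ha hb =>
      obtain ⟨s₁, hs₁, h₁⟩ := ha
      obtain ⟨s₂, hs₂, h₂⟩ := hb
      refine ⟨s₁ * s₂, fun hmem => ?_, ?_⟩
      · rcases Ideal.IsPrime.mem_or_mem inferInstance hmem with h | h
        · exact hs₁ h
        · exact hs₂ h
      · rw [smul_add, mul_smul s₁ s₂ b, h₂, smul_zero, add_zero, mul_comm, mul_smul, h₁, smul_zero]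
    | tmul c k =>
      have hk : (u.lTensor M) k.1 = 0 := k.2
      obtain ⟨s, hs, hsk⟩ := h P Q u hu k.1 hk
      refine ⟨s, hs, ?_⟩
      have : s • k = 0 := Subtype.ext hsk
      rw [TensorProduct.smul_tmul', TensorProduct.smul_tmul, this, TensorProduct.tmul_zero]
  obtain ⟨s, hs, hsz⟩ := key z
  refine ⟨algebraMap B C s, not_mem_of_not_mem q q' hs, ?_⟩
  apply e₁.injective
  rw [map_smul, map_zero, ← hz, ← map_smul, algebraMap_smul, hsz, map_zero]

theorem flatAt_of_flatAt_tensor (h : FlatCA.FlatAt A q' (C ⊗[B] M)) : FlatCA.FlatAt A q M := by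
  rw [flatAt_iff_forall_eq_zero] at h ⊢
  intro P Q _ _ _ _ u hu x hx
  let e₁ := AlgebraTensorModule.assoc A B C C M P
  let e₂ := AlgebraTensorModule.assoc A B C C M Q
  let hh : M ⊗[A] P →ₗ[B] M ⊗[A] Q := AlgebraTensorModule.lTensor B M u
  let y : (C ⊗[B] M) ⊗[A] P := e₁.symm ((1 : C) ⊗ₜ[B] x)
  have hy : u.lTensor (C ⊗[B] M) y = 0 := by
    apply e₂.injective
    rw [assoc_comm, map_zero]
    show (AlgebraTensorModule.lTensor C C hh) (e₁ (e₁.symm _)) = 0
    rw [LinearEquiv.apply_symm_apply]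
    show (1 : C) ⊗ₜ[B] (hh x) = 0
    have : hh x = 0 := hx
    rw [this, TensorProduct.tmul_zero]
  obtain ⟨t, ht, hty⟩ := h P Q u hu y hy
  have h1 : (t ⊗ₜ[B] x : C ⊗[B] (M ⊗[A] P)) = 0 := by
    have := congrArg e₁ hty
    rw [map_smul, map_zero, LinearEquiv.apply_symm_apply, TensorProduct.smul_tmul', smul_eq_mul,
      mul_one] at this
    exact this
  let φ : B →ₗ[B] M ⊗[A] P := LinearMap.toSpanSingleton B _ x
  let 𝔞 : Ideal B := LinearMap.ker φ
  let ι : (B ⧸ 𝔞) →ₗ[B] M ⊗[A] P := Submodule.liftQ 𝔞 φ le_rfl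
  have hι : Function.Injective ι := by
    rw [← LinearMap.ker_eq_bot]
    exact Submodule.ker_liftQ_eq_bot _ _ _ le_rfl
  have hι' : Function.Injective (ι.lTensor C) :=
    Module.Flat.lTensor_preserves_injective_linearMap ι hι
  have h2 : (ι.lTensor C) (t ⊗ₜ[B] (Ideal.Quotient.mk 𝔞 1)) = 0 := by
    rw [LinearMap.lTensor_tmul]
    have : ι (Ideal.Quotient.mk 𝔞 1) = x := by
      show (Submodule.liftQ 𝔞 φ le_rfl) (Submodule.Quotient.mk 1) = x
      rw [Submodule.liftQ_apply]
      simp [φ]
    rw [this, h1]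
  have h3 : t ⊗ₜ[B] (Ideal.Quotient.mk 𝔞 (1 : B)) = (0 : C ⊗[B] (B ⧸ 𝔞)) :=
    hι' (h2.trans (map_zero _).symm)
  have h4 := congrArg (TensorProduct.tensorQuotEquivQuotSMul C 𝔞) h3
  rw [TensorProduct.tensorQuotEquivQuotSMul_tmul_mk, map_zero, one_smul,
    Submodule.Quotient.mk_eq_zero] at h4
  by_contra hcon
  push Not at hcon
  have hle : ∀ s ∈ 𝔞, s ∈ q := by
    intro s hs
    by_contra hsq
    exact hcon s hsq (by simpa [𝔞, φ] using hs)
  apply ht
  refine Submodule.smul_induction_on h4 ?_ ?_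
  · intro a ha c _
    rw [Algebra.smul_def]
    apply Ideal.mul_mem_right
    have := hle a ha
    rw [Ideal.LiesOver.over (p := q) (P := q')] at this
    exact this
  · intro a b ha hb
    exact Ideal.add_mem _ ha hb

theorem flatAt_tensor_iff : FlatCA.FlatAt A q M ↔ FlatCA.FlatAt A q' (C ⊗[B] M) :=
  ⟨flatAt_tensor_of_flatAt q q' M, flatAt_of_flatAt_tensor q q' M⟩

variable {M} in
theorem flatAt_iff_of_isBaseChange {N : Type u} [AddCommGroup N] [Module C N] [Module B N]
    [IsScalarTower B C N] [Module A N] [IsScalarTower A C N]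
    (g : M →ₗ[B] N) (hg : IsBaseChange C g) :
    FlatCA.FlatAt A q M ↔ FlatCA.FlatAt A q' N :=
  (flatAt_tensor_iff q q' M).trans (flatAt_congr q' hg.equiv)

end FlatTransfer

section Integral

variable {A B C : Type u} [CommRing A] [CommRing B] [CommRing C] [Algebra A B] [Algebra B C]
  [Algebra A C] [IsScalarTower A B C]
  (q : Ideal B) [q.IsPrime]
  (N : Type u) [AddCommGroup N] [Module C N] [Module B N] [IsScalarTower B C N] [Module A N]
  [IsScalarTower A C N] [IsScalarTower A B N]

theorem flatAt_of_flatAt_under (q' : Ideal C) [q'.IsPrime] [q'.LiesOver q]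
    (h : FlatCA.FlatAt A q N) : FlatCA.FlatAt A q' N := by
  rw [flatAt_iff_forall_eq_zero] at h ⊢
  intro P Q _ _ _ _ u hu x hx
  obtain ⟨s, hs, hsx⟩ := h P Q u hu x hx
  refine ⟨algebraMap B C s, fun hmem => hs ?_, ?_⟩
  · rw [Ideal.LiesOver.over (p := q) (P := q')]
    exact hmem
  · rw [algebraMap_smul, hsx]

theorem flatAt_of_forall_liesOver [Algebra.IsIntegral B C]
    (h : ∀ (q' : Ideal C) [q'.IsPrime], q'.LiesOver q → FlatCA.FlatAt A q' N) :
    FlatCA.FlatAt A q N := by
  rw [flatAt_iff_forall_eq_zero]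
  intro P Q _ _ _ _ u hu x hx
  by_contra hcon
  push Not at hcon
  let φ : C →ₗ[C] N ⊗[A] P := LinearMap.toSpanSingleton C _ x
  let 𝔞 : Ideal C := LinearMap.ker φ
  have hle : 𝔞.comap (algebraMap B C) ≤ q := by
    intro s hs
    by_contra hsq
    apply hcon s hsq
    have : algebraMap B C s • x = 0 := by simpa [𝔞, φ] using hs
    rwa [algebraMap_smul] at this
  obtain ⟨Q', hQ'a, hQ'p, hQ'q⟩ := Ideal.exists_ideal_over_prime_of_isIntegral q 𝔞 hle
  haveI := hQ'p
  have hover : Q'.LiesOver q := ⟨hQ'q.symm⟩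
  have h1 := h Q' hover
  rw [flatAt_iff_forall_eq_zero] at h1
  obtain ⟨t, ht, htx⟩ := h1 P Q u hu x hx
  apply ht
  apply hQ'a
  simpa [𝔞, φ] using htx

theorem flatAt_iff_forall_liesOver [Algebra.IsIntegral B C] :
    FlatCA.FlatAt A q N ↔ ∀ (q' : Ideal C) [q'.IsPrime], q'.LiesOver q → FlatCA.FlatAt A q' N :=
  ⟨fun h q' _ hq' => by haveI := hq'; exact flatAt_of_flatAt_under q N q' h,
    flatAt_of_forall_liesOver q N⟩

end Integral

end Groth.Agent.Lib.helper3.FlatAtLib
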