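import Mathlib
import Groth.Agent.Lib.Helper9.GRGen6
import Groth.Agent.Lib.Helper9.NGeom18
import Groth.Agent.S2075

/-!
# Noetherian affine models of flat finitely presented morphisms with geometrically integral fibres
(helper3, on top of helper9's approximation machinery; towards S1204, S0447)
-/

set_option autoImplicit false
set_option linter.style.haveILetI false
set_option backward.isDefEq.respectTransparency false

namespace Groth.Agent.Lib.helper3.GIModel

open AlgebraicGeometry CategoryTheory Limits TopologicalSpace Topology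
open Groth.Agent.Lib.helper9 Groth.Agent.Lib.helper9.FGLimitZ Groth.Agent.Lib.helper9.NGeom
  Groth.Agent.Lib.helper9.GRGen

universe u

/-- **Noetherian approximation: flat with geometrically integral fibres.** -/
theorem exists_affine_model_flat_geomIntegral {X S : Scheme.{u}} (f : X ⟶ S) [IsAffine X]
    [IsAffine S] [LocallyOfFinitePresentation f] [Flat f] [GeometricallyIntegral f] :
    ∃ (X₀ S₀ : Scheme.{u}) (f₀ : X₀ ⟶ S₀) (g : S ⟶ S₀) (g' : X ⟶ X₀), IsAffine X₀ ∧
      IsAffine S₀ ∧ IsPullback g' f f₀ g ∧ Algebra.FiniteType ℤ Γ(S₀, ⊤) ∧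
      LocallyOfFiniteType f₀ ∧ Flat f₀ ∧ GeometricallyIntegral f₀ := by
  set A : Type u := Γ(S, ⊤) with hA
  let e : S ≅ Spec (CommRingCat.of A) := S.isoSpec
  let f' : X ⟶ Spec (CommRingCat.of A) := f ≫ e.hom
  haveI : LocallyOfFinitePresentation f' := by dsimp only [f']; infer_instance
  haveI : IsAffineHom f' := inferInstance
  haveI hfl' : Flat f' := by dsimp only [f']; infer_instance
  have hred' : GeometricallyReduced f' :=
    (MorphismProperty.cancel_right_of_respectsIso @GeometricallyReduced f e.hom).mpr inferInstance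
  have hirr' : GeometricallyIrreducible f' :=
    (MorphismProperty.cancel_right_of_respectsIso @GeometricallyIrreducible f e.hom).mpr
      inferInstance
  have hlim := isLimitSpecCone A
  let f'' : X ⟶ (specCone A).pt := f'
  have h1 : LocallyOfFinitePresentation f'' := (inferInstance : LocallyOfFinitePresentation f')
  have h2 : QuasiCompact f'' := (inferInstance : QuasiCompact f')
  have h3 : QuasiSeparated f'' := (inferInstance : QuasiSeparated f')
  have h4 : IsAffineHom f'' := (inferInstance : IsAffineHom f')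
  have h5 : Flat f'' := hfl'
  have h6 : GeometricallyReduced f'' := hred'
  have h7 : GeometricallyIrreducible f'' := hirr'
  obtain ⟨s, ⟨M⟩⟩ := FPModel.exists_model (D := specDiagram A) (c := specCone A) hlim f''
  haveI : CompactSpace M.X₀ := M.compactSpace_X₀
  haveI : QuasiSeparatedSpace M.X₀ := M.quasiSeparatedSpace_X₀
  -- affine
  obtain ⟨i₁, a₁, h₁⟩ := M.exists_rebase_of_descent @IsAffineHom (fun h => by
    haveI := h
    exact exists_isAffineHom_stageMap (specDiagram A) (specCone A) hlim s M.f₀ (𝟙 _)) h4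
  let M₁ := M.rebase a₁
  haveI : CompactSpace M₁.X₀ := M₁.compactSpace_X₀
  haveI : QuasiSeparatedSpace ↥((specDiagram A).obj i₁) :=
    inferInstanceAs (QuasiSeparatedSpace ↥(Spec (CommRingCat.of (adj A i₁.unop))))
  haveI : QuasiSeparatedSpace M₁.X₀ := M₁.quasiSeparatedSpace_X₀
  -- flat
  obtain ⟨i₂, φ, Xi, Yi, fi, gi, pY, pX, hY, hX, hfl⟩ :=
    Groth.Agent.S2075.result (specDiagram A) (specCone A) hlim i₁ M₁.f₀ (𝟙 _) f'' (𝟙 _)
      ((specCone A).π.app i₁) M₁.g (IsPullback.id_vert ((specCone A).π.app i₁)) M₁.pb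
  have h8 : Flat (stageMap ((specDiagram A).map φ) M₁.f₀ (𝟙 _)) :=
    (stageMap_iff_of_isPullback @Flat hY hX).mpr hfl
  have hY' : IsPullback ((specDiagram A).map φ) (𝟙 ((specDiagram A).obj i₂))
      (𝟙 ((specDiagram A).obj i₁)) ((specDiagram A).map φ) :=
    IsPullback.id_vert ((specDiagram A).map φ)
  have h₂ : Flat (M₁.rebase φ).f₀ := (stageMap_iff_of_isPullback @Flat hY'
    (IsPullback.of_hasPullback ((specDiagram A).map φ) M₁.f₀).flip).mp h8
  let M₂ := M₁.rebase φ
  -- geometrically reduced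
  obtain ⟨i₃, a₃, h₃⟩ := M₂.exists_rebase_of_descent @GeometricallyReduced
    (fun h => exists_geometricallyReduced_stageMap (specDiagram A) (specCone A) hlim i₂ M₂.f₀ h) h6
  let M₃ := M₂.rebase a₃
  -- geometrically irreducible
  obtain ⟨i₄, a₄, h₄⟩ := M₃.exists_rebase_of_descent @GeometricallyIrreducible
    (fun h => exists_geometricallyIrreducible_stageMap (specDiagram A) (specCone A) hlim i₃
      M₃.f₀ h) h7
  let M₄ := M₃.rebase a₄
  haveI hM₂aff : IsAffineHom M₂.f₀ := MorphismProperty.pullback_fst (P := @IsAffineHom) _ _ h₁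
  haveI hM₃aff : IsAffineHom M₃.f₀ := MorphismProperty.pullback_fst (P := @IsAffineHom) _ _ hM₂aff
  haveI hM₄aff : IsAffineHom M₄.f₀ := MorphismProperty.pullback_fst (P := @IsAffineHom) _ _ hM₃aff
  have hM₃fl : Flat M₃.f₀ := MorphismProperty.pullback_fst (P := @Flat) _ _ h₂
  have hM₄fl : Flat M₄.f₀ := MorphismProperty.pullback_fst (P := @Flat) _ _ hM₃fl
  have hM₄red : GeometricallyReduced M₄.f₀ :=
    MorphismProperty.pullback_fst (P := @GeometricallyReduced) _ _ h₃
  haveI : IsAffine ((specDiagram A).obj i₄) :=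
    inferInstanceAs (IsAffine (Spec (CommRingCat.of (adj A i₄.unop))))
  refine ⟨M₄.X₀, (specDiagram A).obj i₄, M₄.f₀, e.hom ≫ (specCone A).π.app i₄, M₄.g, ?_,
    inferInstance, ?_, ?_, ?_, hM₄fl, ?_⟩
  · exact isAffine_of_isAffineHom M₄.f₀
  · have hleft : IsPullback (𝟙 X) f f'' e.hom := IsPullback.of_horiz_isIso ⟨by simp [f'', f']⟩
    have := hleft.paste_horiz M₄.pb
    rwa [Category.id_comp] at this
  · haveI : Algebra.FiniteType ℤ ↥(adj A i₄.unop) :=
      (Subalgebra.fg_iff_finiteType _).mp (Subalgebra.fg_adjoin_finset _)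
    let r : ↥(adj A i₄.unop) ≃+* Γ(Spec (CommRingCat.of ↥(adj A i₄.unop)), ⊤) :=
      (Scheme.ΓSpecIso (CommRingCat.of ↥(adj A i₄.unop))).symm.commRingCatIsoToRingEquiv
    exact Algebra.FiniteType.equiv (inferInstance : Algebra.FiniteType ℤ ↥(adj A i₄.unop))
      r.toIntAlgEquiv
  · exact (inferInstance : LocallyOfFiniteType M₄.f₀)
  · haveI := hM₄red
    haveI := h₄
    exact GeometricallyIntegral.of_geometricallyReduced_of_geometricallyIrreducible M₄.f₀

end Groth.Agent.Lib.helper3.GIModel
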