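import Mathlib
import Groth.Agent.Lib.Helper3.GIModel1
import Groth.Agent.Lib.Helper3.GIProj1

/-!
# Ring-level Noetherian models of flat finitely presented algebras with geometrically integral
fibres (helper3; towards S1204, S0447)
-/

set_option autoImplicit false
set_option linter.style.haveILetI false
set_option linter.unusedSectionVars false

namespace Groth.Agent.Lib.helper3.GIModel

open AlgebraicGeometry CategoryTheory Limits TensorProduct
open Groth.Agent.Lib.helper3.GIProj

universe u

/-- **Ring-level Noetherian model.** -/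
theorem exists_ring_model {R S : Type u} [CommRing R] [CommRing S] [Algebra R S]
    [Algebra.FinitePresentation R S] [Module.Flat R S] (hgi : FlatCA.GeomIntegralFibres R S) :
    ∃ (R₀ A₀ : Type u) (_ : CommRing R₀) (_ : CommRing A₀) (_ : Algebra R₀ A₀)
      (_ : Algebra R₀ R),
      IsNoetherianRing R₀ ∧ Algebra.FiniteType R₀ A₀ ∧ Module.Flat R₀ A₀ ∧ GIF R₀ A₀ ∧
      Nonempty (R ⊗[R₀] A₀ ≃ₐ[R] S) := by
  let f : Spec (CommRingCat.of S) ⟶ Spec (CommRingCat.of R) :=
    Spec.map (CommRingCat.ofHom (algebraMap R S))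
  haveI : LocallyOfFinitePresentation f := by
    rw [HasRingHomProperty.Spec_iff (P := @LocallyOfFinitePresentation)]
    exact (RingHom.finitePresentation_algebraMap).mpr inferInstance
  haveI : Flat f := by
    rw [HasRingHomProperty.Spec_iff (P := @Flat)]
    exact (RingHom.flat_algebraMap_iff).mpr inferInstance
  haveI : GeometricallyIntegral f := hgi
  obtain ⟨X₀, S₀, f₀, g, g', hX₀, hS₀, hpb, hft, hlft, hfl, hgi₀⟩ :=
    exists_affine_model_flat_geomIntegral f
  have hpo := isPushout_appTop_of_isPullback hpb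
  -- transport the bottom row to `R → S`
  have hpo' : IsPushout f₀.appTop (g.appTop ≫ (Scheme.ΓSpecIso (CommRingCat.of R)).hom)
      (g'.appTop ≫ (Scheme.ΓSpecIso (CommRingCat.of S)).hom)
      (CommRingCat.ofHom (algebraMap R S)) := by
    refine hpo.of_iso (Iso.refl _) (Iso.refl _) (Scheme.ΓSpecIso (CommRingCat.of R))
      (Scheme.ΓSpecIso (CommRingCat.of S)) (by simp) (by simp) (by simp) ?_
    exact Scheme.ΓSpecIso_naturality (CommRingCat.ofHom (algebraMap R S))
  let R₀ : Type u := Γ(S₀, ⊤)
  let A₀ : Type u := Γ(X₀, ⊤)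
  letI alg1 : Algebra R₀ A₀ := f₀.appTop.hom.toAlgebra
  letI alg2 : Algebra R₀ R :=
    (g.appTop ≫ (Scheme.ΓSpecIso (CommRingCat.of R)).hom).hom.toAlgebra
  letI alg3 : Algebra A₀ S :=
    (g'.appTop ≫ (Scheme.ΓSpecIso (CommRingCat.of S)).hom).hom.toAlgebra
  letI alg4 : Algebra R₀ S := ((algebraMap R S).comp (algebraMap R₀ R)).toAlgebra
  haveI : IsScalarTower R₀ R S := IsScalarTower.of_algebraMap_eq (fun _ => rfl)
  haveI : IsScalarTower R₀ A₀ S := IsScalarTower.of_algebraMap_eq (fun x => by
    have := congrArg (fun φ => φ.hom x) hpo'.w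
    exact this.symm)
  have hpush : Algebra.IsPushout R₀ R A₀ S :=
    CommRingCat.isPushout_iff_isPushout.mp hpo'.flip
  refine ⟨R₀, A₀, inferInstance, inferInstance, alg1, alg2, ?_, ?_, ?_, ?_, ?_⟩
  · haveI : Algebra.FiniteType ℤ R₀ := hft
    exact Algebra.FiniteType.isNoetherianRing ℤ R₀
  · have := (HasRingHomProperty.iff_of_isAffine (P := @LocallyOfFiniteType) (f := f₀)).mp hlft
    exact this
  · have := (HasRingHomProperty.iff_of_isAffine (P := @Flat) (f := f₀)).mp hfl
    exact this
  · apply GIF.of_geomIntegralFibres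
    show GeometricallyIntegral (Spec.map (CommRingCat.ofHom (algebraMap R₀ A₀)))
    haveI : MorphismProperty.RespectsIso @GeometricallyIntegral.{u} :=
      MorphismProperty.IsStableUnderBaseChange.respectsIso
    have : GeometricallyIntegral (Spec.map f₀.appTop) :=
      (MorphismProperty.arrow_mk_iso_iff @GeometricallyIntegral
        (arrowIsoSpecΓOfIsAffine f₀)).mp hgi₀
    exact this
  · exact ⟨hpush.equiv⟩

end Groth.Agent.Lib.helper3.GIModel
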