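import Mathlib
import Groth.Agent.Lib.Helper3.GIModel2
import Groth.Agent.S0582

/-!
# Flat finitely presented algebras with geometrically integral fibres over a local ring are free
(helper3; Stacks 05FZ local case; towards S1204)
-/

set_option autoImplicit false
set_option linter.style.haveILetI false
set_option linter.unusedSectionVars false

namespace Groth.Agent.Lib.helper3.GIProj

open TensorProduct IsLocalRing
open Groth.Agent.Lib.helper3.GIModel

universe u

theorem projective_of_local {R S : Type u} [CommRing R] [IsLocalRing R] [CommRing S] [Algebra R S]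
    [Algebra.FinitePresentation R S] [Module.Flat R S] (hgi : FlatCA.GeomIntegralFibres R S) :
    Module.Projective R S := by
  obtain ⟨R₀, A₀, _, _, _, _, hN, hft, hfl, hgif, ⟨e⟩⟩ := exists_ring_model hgi
  set p₀ : Ideal R₀ := (maximalIdeal R).comap (algebraMap R₀ R) with hp₀
  haveI : p₀.IsPrime := Ideal.comap_isPrime _ _
  let R₁ := Localization.AtPrime p₀
  haveI : IsNoetherianRing R₁ := IsLocalization.isNoetherianRing p₀.primeCompl R₁ hN
  have hgif₁ : GIF R₁ (R₁ ⊗[R₀] A₀) := hgif.baseChange R₁
  haveI : Module.Projective R₁ (R₁ ⊗[R₀] A₀) := projective_of_noetherian_local hgif₁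
  have hunits : ∀ y : p₀.primeCompl, IsUnit (algebraMap R₀ R y) := by
    intro y
    have hy : (y : R₀) ∉ p₀ := y.2
    have hy' : algebraMap R₀ R y ∉ maximalIdeal R := fun h => hy (Ideal.mem_comap.mpr h)
    exact (IsLocalRing.notMem_maximalIdeal).mp hy'
  letI : Algebra R₁ R := (IsLocalization.lift (M := p₀.primeCompl) (S := R₁) hunits).toAlgebra
  haveI : IsScalarTower R₀ R₁ R := IsScalarTower.of_algebraMap_eq (fun x => by
    show algebraMap R₀ R x = IsLocalization.lift hunits (algebraMap R₀ R₁ x)
    rw [IsLocalization.lift_eq])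
  let e₁ : R ⊗[R₁] (R₁ ⊗[R₀] A₀) ≃ₗ[R] R ⊗[R₀] A₀ :=
    TensorProduct.AlgebraTensorModule.cancelBaseChange R₀ R₁ R R A₀
  exact Module.Projective.of_equiv (e₁.trans e.toLinearEquiv)

theorem free_of_local {R S : Type u} [CommRing R] [IsLocalRing R] [CommRing S] [Algebra R S]
    [Algebra.FinitePresentation R S] [Module.Flat R S] (hgi : FlatCA.GeomIntegralFibres R S) :
    Module.Free R S := by
  haveI := projective_of_local hgi
  exact Groth.Agent.S0582.result R S

end Groth.Agent.Lib.helper3.GIProj
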