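import Mathlib
import Groth.Prelude.Def_FlatCA
import Groth.Agent.Lib.Helper3.CDev1
import Groth.Agent.Lib.Helper3.FlatAtLib1
import Groth.Agent.Lib.Helper3.GIProj2
import Groth.Agent.S1204

/-!
# Complete dévissage toolkit II: the local case (helper3; S1253)
-/

set_option autoImplicit false
set_option linter.style.haveILetI false
set_option linter.unusedSectionVars false
universe u

open TensorProduct

namespace Groth.Agent.Lib.helper3.CDev

open FlatCA IsLocalRing Groth.Agent.Lib.helper3.FlatAtLib

attribute [local instance] FlatCA.CompleteDevissageAt.hqB FlatCA.CompleteDevissageAt.hqA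
  FlatCA.CompleteDevissageAt.overB FlatCA.CompleteDevissageAt.overA

section Towers

variable {R S : Type u} [CommRing R] [CommRing S] [Algebra R S] {N : Type u} [AddCommGroup N]
  [Module S N] {rr : Ideal R} [rr.IsPrime] (D : CompleteDevissage R S N rr)

instance towerRAM (i : ℕ) : IsScalarTower R (D.A i) (D.M i) :=
  IsScalarTower.of_algebraMap_smul (fun r x => by
    rw [IsScalarTower.algebraMap_apply R (D.B i) (D.A i), algebraMap_smul, algebraMap_smul])

instance towerRSM : IsScalarTower R S (D.M 0) :=
  IsScalarTower.of_algebraMap_smul (fun r x => by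
    rw [← algebraMap_smul (D.A 0) (algebraMap R S r) x,
      ← IsScalarTower.algebraMap_apply R S (D.A 0), algebraMap_smul])

instance towerRBM' (i : ℕ) : IsScalarTower R (D.B i) (D.M (i + 1)) :=
  IsScalarTower.of_algebraMap_smul (fun r x => by
    rw [← algebraMap_smul (D.A (i + 1)) (algebraMap R (D.B i) r) x,
      ← IsScalarTower.algebraMap_apply R (D.B i) (D.A (i + 1)), algebraMap_smul])

theorem finite_BM (i : ℕ) (hi : i < D.n) : Module.Finite (D.B i) (D.M i) := by
  haveI := D.finiteBA i hi
  haveI := D.finiteM i hi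
  exact Module.Finite.trans (D.A i) (D.M i)

end Towers

section Local

variable {R S : Type u} [CommRing R] [IsLocalRing R] [CommRing S] [Algebra R S]
  {N : Type u} [AddCommGroup N] [Module S N] [Module R N] [IsScalarTower R S N]
  {q : Ideal S} [q.IsPrime]
  (D : CompleteDevissage R S N (maximalIdeal R))
  (DA : CompleteDevissageAt R S N (maximalIdeal R) q D)

include DA in
theorem flatAt_zero (hflat : FlatAt R q N) : FlatAt R (DA.qB 0) (D.M 0) := by
  have h1 : FlatAt R q (D.M 0) := flatAt_of_linearEquiv q D.isoN hflat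
  haveI : (DA.qA 0).LiesOver q := ⟨DA.q0.symm⟩
  have h2 : FlatAt R (DA.qA 0) (D.M 0) :=
    flatAt_of_flatAt_under (A := R) (B := S) (C := D.A 0) q (D.M 0) (DA.qA 0) h1
  haveI := D.finiteBA 0 D.pos
  haveI : Algebra.IsIntegral (D.B 0) (D.A 0) := Algebra.IsIntegral.of_finite _ _
  apply flatAt_of_forall_liesOver (A := R) (B := D.B 0) (C := D.A 0) (DA.qB 0) (D.M 0)
  intro Q _ hQ
  have := DA.uniq 0 D.pos Q hQ
  subst this
  exact h2

theorem step_main (i : ℕ) (hi : i < D.n) (hflat : FlatAt R (DA.qB i) (D.M i)) :
    UnivInj R ((D.α i).restrictScalars R) ∧ Function.Injective (D.α i) ∧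
      FlatAt R (DA.qB i) (D.M i ⧸ LinearMap.range (D.α i)) := by
  haveI := D.smooth i hi
  haveI : Module.Finite (D.B i) (D.M i) := finite_BM D i hi
  have hgi := geomIntegralFibres_of_smooth (D.geomIrred i hi)
  have h := (Groth.Agent.S1204.result hgi (DA.qB i) (D.M i)).2 (D.r i) (D.α i) (D.fibreIso i hi)
  have h12 := (h.out 0 1).mp hflat
  have h13 := (h.out 0 2).mp hflat
  exact ⟨h12.1, h13.1, h12.2⟩

theorem step_transfer (i : ℕ) (hi : i + 1 < D.n)
    (h1 : FlatAt R (DA.qB i) (D.M i ⧸ LinearMap.range (D.α i))) :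
    FlatAt R (DA.qB (i + 1)) (D.M (i + 1)) := by
  have h2 : FlatAt R (DA.qB i) (D.M (i + 1)) :=
    flatAt_of_linearEquiv (DA.qB i) (D.isoCoker i hi) h1
  haveI : (DA.qA (i + 1)).LiesOver (DA.qB i) := ⟨(DA.qStep i hi).symm⟩
  have h3 : FlatAt R (DA.qA (i + 1)) (D.M (i + 1)) :=
    flatAt_of_flatAt_under (A := R) (B := D.B i) (C := D.A (i + 1)) (DA.qB i) (D.M (i + 1))
      (DA.qA (i + 1)) h2
  haveI := D.finiteBA (i + 1) hi
  haveI : Algebra.IsIntegral (D.B (i + 1)) (D.A (i + 1)) := Algebra.IsIntegral.of_finite _ _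
  apply flatAt_of_forall_liesOver (A := R) (B := D.B (i + 1)) (C := D.A (i + 1)) (DA.qB (i + 1))
    (D.M (i + 1))
  intro Q _ hQ
  have := DA.uniq (i + 1) hi Q hQ
  subst this
  exact h3

include DA in
theorem flatAt_all (hflat : FlatAt R q N) : ∀ i, i < D.n → FlatAt R (DA.qB i) (D.M i) := by
  intro i
  induction i with
  | zero => intro _; exact flatAt_zero D DA hflat
  | succ i ih =>
    intro hi
    exact step_transfer D DA i hi (step_main D DA i (by omega) (ih (by omega))).2.2

include DA in
theorem inj_all (hflat : FlatAt R q N) (i : ℕ) (hi : i < D.n) : Function.Injective (D.α i) :=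
  (step_main D DA i hi (flatAt_all D DA hflat i hi)).2.1

theorem free_B (i : ℕ) (hi : i < D.n) : Module.Free R (D.B i) := by
  haveI := D.smooth i hi
  exact GIProj.free_of_local (geomIntegralFibres_of_smooth (D.geomIrred i hi))

/-- the projection `M i → M (i+1)` of the dévissage. -/
noncomputable def proj (i : ℕ) (hi : i + 1 < D.n) : D.M i →ₗ[D.B i] D.M (i + 1) :=
  (D.isoCoker i hi).toLinearMap ∘ₗ (LinearMap.range (D.α i)).mkQ

theorem proj_surjective (i : ℕ) (hi : i + 1 < D.n) : Function.Surjective (proj D i hi) :=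
  (D.isoCoker i hi).surjective.comp (LinearMap.range (D.α i)).mkQ_surjective

theorem proj_exact (i : ℕ) (hi : i + 1 < D.n) : Function.Exact (D.α i) (proj D i hi) := by
  intro x
  have h := LinearMap.exact_map_mkQ_range (D.α i) x
  rw [← h]
  show (D.isoCoker i hi) ((LinearMap.range (D.α i)).mkQ x) = 0 ↔ _
  exact (D.isoCoker i hi).map_eq_zero_iff

include DA in
theorem fp_proj_aux (hflat : FlatAt R q N) : ∀ k i, i + k + 1 = D.n →
    Module.FinitePresentation (D.B i) (D.M i) ∧ Module.Projective R (D.M i) := by
  intro k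
  induction k with
  | zero =>
    intro i hi
    have hin : i < D.n := by omega
    have hi' : i = D.n - 1 := by omega
    have hinj := inj_all D DA hflat i hin
    have hsurj : Function.Surjective (D.α i) := by
      subst hi'
      exact D.cokerLast
    let e := LinearEquiv.ofBijective (D.α i) ⟨hinj, hsurj⟩
    haveI := free_B D i hin
    exact ⟨Module.FinitePresentation.of_equiv e, Module.Projective.of_equiv (e.restrictScalars R)⟩
  | succ k ih =>
    intro i hi
    have hin : i < D.n := by omega
    have hi1 : i + 1 < D.n := by omega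
    obtain ⟨hfp, hproj⟩ := ih (i + 1) (by omega)
    have hinj := inj_all D DA hflat i hin
    haveI := D.finiteBA (i + 1) hi1
    haveI : Module.FinitePresentation (D.A (i + 1)) (D.M (i + 1)) :=
      fp_of_finiteType_of_fp (R := D.B (i + 1)) (S := D.A (i + 1)) (D.M (i + 1))
    haveI := D.fpBA' i hi1
    haveI : Module.Finite (D.B i) (D.A (i + 1)) :=
      Module.Finite.of_surjective (Algebra.linearMap (D.B i) (D.A (i + 1))) (D.surjBA' i hi1)
    haveI : Module.FinitePresentation (D.B i) (D.A (i + 1)) :=
      Module.FinitePresentation.of_finite_of_finitePresentation _ _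
    haveI : Module.FinitePresentation (D.B i) (D.M (i + 1)) :=
      Module.FinitePresentation.trans (D.B i) (D.M (i + 1)) (D.A (i + 1))
    have hker : LinearMap.ker (proj D i hi1) = LinearMap.range (D.α i) :=
      (LinearMap.exact_iff.mp (proj_exact D i hi1))
    haveI : Module.FinitePresentation (D.B i) (LinearMap.ker (proj D i hi1)) :=
      Module.FinitePresentation.of_equiv
        ((LinearEquiv.ofInjective (D.α i) hinj).trans (LinearEquiv.ofEq _ _ hker.symm))
    refine ⟨Module.finitePresentation_of_ker (proj D i hi1) (proj_surjective D i hi1), ?_⟩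
    haveI := free_B D i hin
    obtain ⟨e⟩ := nonempty_equiv_prod_of_exact ((D.α i).restrictScalars R)
      ((proj D i hi1).restrictScalars R) hinj (proj_surjective D i hi1) (proj_exact D i hi1)
    exact Module.Projective.of_equiv e.symm

include DA in
theorem main (hflat : FlatAt R q N) :
    Module.FinitePresentation S N ∧ Module.Free R N ∧
      Nonempty (N ≃ₗ[R] (∀ i : Fin D.n, Fin (D.r i) → D.B i)) := by
  have hall := fp_proj_aux D DA hflat
  have hpos := D.pos
  have h0 := hall (D.n - 1) 0 (by omega)
  have hfpN : Module.FinitePresentation S N := by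
    haveI := h0.1
    haveI := D.finiteBA 0 D.pos
    haveI : Module.FinitePresentation (D.A 0) (D.M 0) :=
      fp_of_finiteType_of_fp (R := D.B 0) (S := D.A 0) (D.M 0)
    haveI := D.fpSA
    haveI : Module.Finite S (D.A 0) :=
      Module.Finite.of_surjective (Algebra.linearMap S (D.A 0)) D.surjSA
    haveI : Module.FinitePresentation S (D.A 0) :=
      Module.FinitePresentation.of_finite_of_finitePresentation _ _
    haveI : Module.FinitePresentation S (D.M 0) :=
      Module.FinitePresentation.trans S (D.M 0) (D.A 0)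
    exact Module.FinitePresentation.of_equiv D.isoN.symm
  have hiso : Nonempty (N ≃ₗ[R] (∀ i : Fin D.n, Fin (D.r i) → D.B i)) := by
    obtain ⟨m, hm⟩ : ∃ m, D.n = m + 1 := ⟨D.n - 1, by omega⟩
    have hiso' : Nonempty (D.M 0 ≃ₗ[R] ∀ j : Fin (m + 1), Fin (D.r j) → D.B j) := by
      apply nonempty_equiv_pi (R := R) m (fun i => D.M i) (fun i => Fin (D.r i) → D.B i)
      · intro i hi
        have hi1 : i + 1 < D.n := by omega
        haveI := (hall (D.n - 1 - (i + 1)) (i + 1) (by omega)).2
        exact nonempty_equiv_prod_of_exact ((D.α i).restrictScalars R)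
          ((proj D i hi1).restrictScalars R) (inj_all D DA hflat i (by omega))
          (proj_surjective D i hi1) (proj_exact D i hi1)
      · have hm' : m = D.n - 1 := by omega
        subst hm'
        exact ⟨((LinearEquiv.ofBijective (D.α (D.n - 1))
          ⟨inj_all D DA hflat (D.n - 1) (by omega), D.cokerLast⟩).restrictScalars R).symm⟩
    obtain ⟨e⟩ := hiso'
    rw [hm]
    exact ⟨(D.isoN.restrictScalars R).trans e⟩
  refine ⟨hfpN, ?_, hiso⟩
  obtain ⟨e⟩ := hiso
  haveI : ∀ i : Fin D.n, Module.Free R (Fin (D.r i) → D.B i) := fun i => by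
    haveI := free_B D i i.2
    infer_instance
  exact Module.Free.of_equiv e.symm

end Local

end Groth.Agent.Lib.helper3.CDev
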