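import Mathlib
import Groth.Prelude.Def_FlatCA
import Groth.Agent.Lib.Helper3.FlatAtLib1
import Groth.Agent.Lib.Helper3.WEtale2

/-!
# `FlatCA.FlatAt`, part 2: basic opens, étale change of base ring (helper3)

* `flat_localizedModule_iff_forall_eq_zero`: elementwise criterion for `R`-flatness of `T⁻¹N`.
* `flat_away_iff`: `N_g` is `R`-flat iff `N` is `R`-flat at all primes not containing `g`.
* `flat_iff_of_etale`: for `R → R'` étale and an `R'`-module `X`: flat over `R` iff flat over `R'`.
* `flatAt_iff_of_etale`: the same for `FlatAt`.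
-/

set_option autoImplicit false
set_option linter.style.haveILetI false
set_option linter.unusedSectionVars false
universe u

open TensorProduct

namespace Groth.Agent.Lib.helper3.FlatAtLib

section Elementwise

variable {R S : Type u} [CommRing R] [CommRing S] [Algebra R S]
  (T : Submonoid S) (N : Type u) [AddCommGroup N] [Module S N] [Module R N]
  [IsScalarTower R S N]

theorem flat_localizedModule_iff_forall_eq_zero :
    Module.Flat R (LocalizedModule T N) ↔ ∀ (P Q : Type u) [AddCommGroup P] [AddCommGroup Q]
      [Module R P] [Module R Q] (u : P →ₗ[R] Q), Function.Injective u → ∀ x : N ⊗[R] P,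
        u.lTensor N x = 0 → ∃ t : T, t • x = 0 := by
  rw [Module.Flat.iff_lTensor_preserves_injective_linearMap]
  have key : ∀ (P Q : Type u) [AddCommGroup P] [AddCommGroup Q] [Module R P]
      [Module R Q] (u : P →ₗ[R] Q),
      Function.Injective (u.lTensor (LocalizedModule T N)) ↔
        ∀ x : N ⊗[R] P, u.lTensor N x = 0 → ∃ t : T, t • x = 0 := by
    intro P Q _ _ _ _ u
    let g := LocalizedModule.mkLinearMap T N
    have h1 := IsLocalizedModule.map_lTensor (R := R) S T u g
    have h2 : Function.Injective (u.lTensor (LocalizedModule T N)) ↔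
        Function.Injective (AlgebraTensorModule.lTensor S (LocalizedModule T N) u) :=
      Iff.rfl
    rw [h2, ← h1, map_injective_iff]
    rfl
  constructor
  · intro h P Q _ _ _ _ u hu
    exact (key P Q u).mp (h u hu)
  · intro h P Q _ _ _ _ u hu
    exact (key P Q u).mpr (h P Q u hu)

theorem flat_away_iff (g : S) :
    Module.Flat R (LocalizedModule (Submonoid.powers g) N) ↔
      ∀ (P : Ideal S) [P.IsPrime], g ∉ P → FlatCA.FlatAt R P N := by
  constructor
  · intro h P _ hg
    rw [flat_localizedModule_iff_forall_eq_zero] at h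
    rw [flatAt_iff_forall_eq_zero]
    intro P' Q' _ _ _ _ u hu x hx
    obtain ⟨⟨t, n, rfl⟩, ht⟩ := h P' Q' u hu x hx
    exact ⟨g ^ n, fun hmem => hg (Ideal.IsPrime.mem_of_pow_mem inferInstance n hmem), ht⟩
  · intro h
    rw [flat_localizedModule_iff_forall_eq_zero]
    intro P' Q' _ _ _ _ u hu x hx
    let φ : S →ₗ[S] N ⊗[R] P' := LinearMap.toSpanSingleton S _ x
    let 𝔞 : Ideal S := LinearMap.ker φ
    have hrad : g ∈ 𝔞.radical := by
      rw [Ideal.radical_eq_sInf, Ideal.mem_sInf]
      rintro J ⟨hJ, hJp⟩
      by_contra hgJ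
      haveI := hJp
      have h1 := h J hgJ
      rw [flatAt_iff_forall_eq_zero] at h1
      obtain ⟨s, hs, hsx⟩ := h1 P' Q' u hu x hx
      apply hs
      apply hJ
      simpa [𝔞, φ] using hsx
    obtain ⟨n, hn⟩ := hrad
    refine ⟨⟨g ^ n, n, rfl⟩, ?_⟩
    have : g ^ n • x = 0 := by simpa [𝔞, φ] using hn
    exact this

end Elementwise

section Etale

variable {R R' : Type u} [CommRing R] [CommRing R'] [Algebra R R'] [Algebra.Etale R R']

theorem flat_iff_of_etale (X : Type u) [AddCommGroup X] [Module R X] [Module R' X]
    [IsScalarTower R R' X] : Module.Flat R X ↔ Module.Flat R' X := by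
  constructor
  · intro h
    exact Groth.Agent.Lib.helper3.WEtale2.flat_of_flat_lmul'
      (Algebra.WeaklyEtale.flat_lmul' R R') X
  · intro h
    exact Module.Flat.trans R R' X

variable {S : Type u} [CommRing S] [Algebra R S] [Algebra R' S] [IsScalarTower R R' S]
  (q : Ideal S) [q.IsPrime] (N : Type u) [AddCommGroup N] [Module S N] [Module R N]
  [IsScalarTower R S N] [Module R' N] [IsScalarTower R' S N] [IsScalarTower R R' N]

theorem flatAt_iff_of_etale : FlatCA.FlatAt R q N ↔ FlatCA.FlatAt R' q N := by
  unfold FlatCA.FlatAt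
  haveI : IsScalarTower R R' (LocalizedModule q.primeCompl N) :=
    IsScalarTower.of_algebraMap_smul (fun r x => by
      induction x using LocalizedModule.induction_on with
      | h m s =>
        rw [LocalizedModule.smul'_mk, LocalizedModule.smul'_mk, algebraMap_smul])
  exact flat_iff_of_etale _

end Etale

end Groth.Agent.Lib.helper3.FlatAtLib
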