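import Mathlib
import Groth.Agent.Lib.Helper3.FreeFlatInj1
import Groth.Agent.Lib.Helper3.LocCrit2
import Groth.Agent.S0582

/-!
# Universal injectivity at a prime for maps from projective to flat modules (helper3)

`exists_smul_eq_zero`: `R` any ring, `rr` a prime, `u : F → F'` with `F` projective and `F'` flat.
If `u` is "injective modulo `rr` after localizing at `rr`", then for every `R`-module `Q` every
element of the kernel of `Q ⊗ u` is killed by some `f ∉ rr`.
-/

set_option autoImplicit false
set_option linter.style.haveILetI false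
set_option linter.unusedSectionVars false
universe u

open TensorProduct IsLocalRing

namespace Groth.Agent.Lib.helper3.LocUnivInj

section Main

variable {R : Type u} [CommRing R] (rr : Ideal R) [rr.IsPrime]
  {F F' : Type u} [AddCommGroup F] [Module R F] [AddCommGroup F'] [Module R F']
  [Module.Projective R F] [Module.Flat R F'] (u : F →ₗ[R] F')

theorem exists_smul_eq_zero
    (H : ∀ x : F, ∀ f : R, f ∉ rr → f • u x ∈ rr • (⊤ : Submodule R F') →
      ∃ f' : R, f' ∉ rr ∧ f' • x ∈ rr • (⊤ : Submodule R F))
    (Q : Type u) [AddCommGroup Q] [Module R Q] (x : Q ⊗[R] F) (hx : u.lTensor Q x = 0) :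
    ∃ f : R, f ∉ rr ∧ f • x = 0 := by
  let mF := LocalizedModule.mkLinearMap rr.primeCompl F
  let mF' := LocalizedModule.mkLinearMap rr.primeCompl F'
  let mQ := LocalizedModule.mkLinearMap rr.primeCompl Q
  let u₁ : LocalizedModule rr.primeCompl F →ₗ[Localization.AtPrime rr]
      LocalizedModule rr.primeCompl F' := LocalizedModule.map rr.primeCompl u
  have hbcF : IsBaseChange (Localization.AtPrime rr) mF :=
    IsLocalizedModule.isBaseChange rr.primeCompl (Localization.AtPrime rr) mF
  have hbcF' : IsBaseChange (Localization.AtPrime rr) mF' :=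
    IsLocalizedModule.isBaseChange rr.primeCompl (Localization.AtPrime rr) mF'
  haveI : Module.Projective (Localization.AtPrime rr) (LocalizedModule rr.primeCompl F) :=
    Module.Projective.of_equiv hbcF.equiv
  haveI : Module.Free (Localization.AtPrime rr) (LocalizedModule rr.primeCompl F) :=
    Groth.Agent.S0582.result _ _
  haveI : Module.Flat (Localization.AtPrime rr) (LocalizedModule rr.primeCompl F') :=
    Module.Flat.isBaseChange (R := R) (S := Localization.AtPrime rr) (M := F') _ hbcF'
  have hu₁ : ∀ y, u₁ y ∈ maximalIdeal (Localization.AtPrime rr) •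
      (⊤ : Submodule (Localization.AtPrime rr) (LocalizedModule rr.primeCompl F')) →
      y ∈ maximalIdeal (Localization.AtPrime rr) •
        (⊤ : Submodule (Localization.AtPrime rr) (LocalizedModule rr.primeCompl F)) := by
    intro y hy
    induction y using LocalizedModule.induction_on with
    | h x s =>
      rw [← Localization.AtPrime.map_eq_maximalIdeal (I := rr),
        ← Groth.Agent.Lib.helper3.LocCrit.smul_top_iff (R := R) (S := Localization.AtPrime rr)]
        at hy ⊢
      rw [Groth.Agent.Lib.helper3.LocCrit.mem_smul_top_localized]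
      have hmap : u₁ (LocalizedModule.mk x s) = LocalizedModule.mk (u x) s :=
        LocalizedModule.map_mk _ _ _ _
      rw [hmap, Groth.Agent.Lib.helper3.LocCrit.mem_smul_top_localized] at hy
      obtain ⟨t, ht, htu⟩ := hy
      obtain ⟨f', hf', hf'x⟩ := H x t ht htu
      exact ⟨f', hf', hf'x⟩
  have hinj := Groth.Agent.Lib.helper3.FreeFlatInj.lTensor_injective_of_free_of_flat u₁ hu₁
    (LocalizedModule rr.primeCompl Q)
  let eF := hbcF.tensorEquiv (LocalizedModule rr.primeCompl Q)
  let eF' := hbcF'.tensorEquiv (LocalizedModule rr.primeCompl Q)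
  let x' : (LocalizedModule rr.primeCompl Q) ⊗[R] F := (mQ.rTensor F) x
  have h1 : (u.lTensor (LocalizedModule rr.primeCompl Q)) x' = 0 := by
    show (u.lTensor _) ((mQ.rTensor F) x) = 0
    rw [← LinearMap.comp_apply, LinearMap.lTensor_comp_rTensor, ← LinearMap.rTensor_comp_lTensor,
      LinearMap.comp_apply, hx, map_zero]
  have nat : ∀ z, eF' ((u₁.lTensor (LocalizedModule rr.primeCompl Q)) z) =
      (u.lTensor (LocalizedModule rr.primeCompl Q)) (eF z) := by
    intro z
    induction z using TensorProduct.induction_on with
    | zero => simp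
    | add a b ha hb => simp only [map_add, ha, hb]
    | tmul q y =>
      obtain ⟨⟨m, s⟩, rfl⟩ := IsLocalizedModule.mk'_surjective rr.primeCompl mF y
      simp only [Function.uncurry_apply_pair]
      have hy : IsLocalizedModule.mk' mF m s =
          (Localization.mk (1 : R) s : Localization.AtPrime rr) • mF m := by
        rw [← IsLocalizedModule.mk_eq_mk']
        show LocalizedModule.mk m s = _ • LocalizedModule.mk m 1
        rw [LocalizedModule.mk_smul_mk, one_smul, mul_one]
      rw [hy, ← TensorProduct.smul_tmul, LinearMap.lTensor_tmul]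
      have e1 : ∀ (q' : LocalizedModule rr.primeCompl Q) (m' : F), eF (q' ⊗ₜ mF m') = q' ⊗ₜ m' := by
        intro q' m'
        show (AlgebraTensorModule.cancelBaseChange R _ _ _ F)
          ((LinearEquiv.lTensor _ hbcF.equiv.symm) (q' ⊗ₜ mF m')) = _
        rw [LinearEquiv.lTensor_tmul, IsBaseChange.equiv_symm_apply,
          AlgebraTensorModule.cancelBaseChange_tmul, one_smul]
      have e2 : ∀ (q' : LocalizedModule rr.primeCompl Q) (m' : F'),
          eF' (q' ⊗ₜ mF' m') = q' ⊗ₜ m' := by
        intro q' m'
        show (AlgebraTensorModule.cancelBaseChange R _ _ _ F')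
          ((LinearEquiv.lTensor _ hbcF'.equiv.symm) (q' ⊗ₜ mF' m')) = _
        rw [LinearEquiv.lTensor_tmul, IsBaseChange.equiv_symm_apply,
          AlgebraTensorModule.cancelBaseChange_tmul, one_smul]
      have hu₁m : u₁ (mF m) = mF' (u m) := by
        show (LocalizedModule.map rr.primeCompl u) (LocalizedModule.mk m 1) = _
        rw [LocalizedModule.map_mk]
        rfl
      rw [hu₁m, e1, e2, LinearMap.lTensor_tmul]
  have h2 : (u₁.lTensor (LocalizedModule rr.primeCompl Q)) (eF.symm x') = 0 := by
    apply eF'.injective
    rw [nat, LinearEquiv.apply_symm_apply, h1, map_zero]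
  have h3 : eF.symm x' = 0 := hinj (h2.trans (map_zero _).symm)
  have hx' : x' = 0 := by
    have := congrArg eF h3
    rwa [LinearEquiv.apply_symm_apply, map_zero] at this
  have h4 : (AlgebraTensorModule.rTensor R F mQ) x = 0 := hx'
  obtain ⟨t, ht⟩ := (IsLocalizedModule.eq_zero_iff rr.primeCompl
    (AlgebraTensorModule.rTensor R F mQ)).mp h4
  exact ⟨t.1, t.2, ht⟩

end Main

end Groth.Agent.Lib.helper3.LocUnivInj
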