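import Mathlib
import Groth.Agent.Lib.Helper3.GIProj1
import Groth.Agent.Lib.Helper3.LocUnivInj1

/-!
# Flat algebras with geometrically integral fibres: `𝔭B` is prime; universal injectivity of
multiplication by elements outside all `𝔭B` (helper3)
-/

set_option autoImplicit false
set_option linter.style.haveILetI false
set_option linter.unusedSectionVars false
universe u

open TensorProduct IsLocalRing

namespace Groth.Agent.Lib.helper3.GIPrime

open Groth.Agent.Lib.helper3.GIProj

section Prime

variable {A B : Type u} [CommRing A] [CommRing B] [Algebra A B] [Module.Flat A B]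

theorem ker_includeRight (p : Ideal A) [p.IsPrime] :
    RingHom.ker (Algebra.TensorProduct.includeRight :
      B →ₐ[A] p.ResidueField ⊗[A] B).toRingHom = p.map (algebraMap A B) := by
  apply le_antisymm
  · intro b hb
    rw [RingHom.mem_ker] at hb
    have hb' : (1 : p.ResidueField) ⊗ₜ[A] b = 0 := hb
    let j : (A ⧸ p) →ₗ[A] p.ResidueField :=
      (IsScalarTower.toAlgHom A (A ⧸ p) p.ResidueField).toLinearMap
    have hj : Function.Injective j := Ideal.injective_algebraMap_quotient_residueField p
    have hj' : Function.Injective (j.rTensor B) :=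
      Module.Flat.rTensor_preserves_injective_linearMap j hj
    have h1 : (j.rTensor B) ((Ideal.Quotient.mk p 1) ⊗ₜ[A] b) = 0 := by
      rw [LinearMap.rTensor_tmul]
      have : j (Ideal.Quotient.mk p 1) = 1 := by
        show algebraMap (A ⧸ p) p.ResidueField (Ideal.Quotient.mk p 1) = 1
        rw [map_one, map_one]
      rw [this, hb']
    have h2 : (Ideal.Quotient.mk p (1 : A)) ⊗ₜ[A] b = (0 : (A ⧸ p) ⊗[A] B) :=
      hj' (h1.trans (map_zero _).symm)
    have h3 := congrArg (TensorProduct.quotTensorEquivQuotSMul B p) h2
    rw [TensorProduct.quotTensorEquivQuotSMul_mk_tmul, map_zero, one_smul,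
      Submodule.Quotient.mk_eq_zero, Ideal.smul_top_eq_map] at h3
    exact h3
  · rw [Ideal.map_le_iff_le_comap]
    intro a ha
    rw [Ideal.mem_comap, RingHom.mem_ker]
    show (1 : p.ResidueField) ⊗ₜ[A] (algebraMap A B a) = 0
    have h1 : (1 : p.ResidueField) ⊗ₜ[A] (algebraMap A B a) =
        (algebraMap A p.ResidueField a) ⊗ₜ[A] (1 : B) := by
      rw [Algebra.algebraMap_eq_smul_one (A := B) a,
        Algebra.algebraMap_eq_smul_one (A := p.ResidueField) a, TensorProduct.smul_tmul]
    rw [h1, (Ideal.algebraMap_residueField_eq_zero).mpr ha, TensorProduct.zero_tmul]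

theorem map_isPrime (hgi : GIF A B) (p : Ideal A) [p.IsPrime] :
    (p.map (algebraMap A B)).IsPrime := by
  haveI := hgi p.ResidueField
  rw [← ker_includeRight p]
  exact RingHom.ker_isPrime _

end Prime

end Groth.Agent.Lib.helper3.GIPrime
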