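import Mathlib
import Groth.Prelude.Def_FlatCA
import Groth.Agent.Lib.Helper3.FibBasis1
import Groth.Agent.Lib.Helper3.FlatAtLib2
import Groth.Agent.Lib.Helper3.GIPrime1

/-!
# Fibre bases, non-local case (helper3; towards S1205)

* `exists_kill`: a finite module all of whose elements are killed by elements outside a prime `P`
  is killed by a single element outside `P`.
* `exists_quasiInverse`: `α : S^r → N`, `N` finitely presented, `α_P` bijective (elementwise form):
  there are `g ∉ P` and `δ : N → S^r` with `δ ∘ α = g`.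
-/

set_option autoImplicit false
set_option linter.style.haveILetI false
set_option linter.unusedSectionVars false
universe u

open TensorProduct

namespace Groth.Agent.Lib.helper3.FibBasis2

section Kill

variable {S : Type u} [CommRing S] (P : Ideal S) [P.IsPrime]

theorem exists_kill (M : Type u) [AddCommGroup M] [Module S M] [Module.Finite S M]
    (h : ∀ x : M, ∃ t : S, t ∉ P ∧ t • x = 0) : ∃ g : S, g ∉ P ∧ ∀ x : M, g • x = 0 := by
  by_contra hcon
  push Not at hcon
  have hle : Module.annihilator S M ≤ P := by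
    intro g hg
    by_contra hgP
    obtain ⟨x, hx⟩ := hcon g hgP
    exact hx (Module.mem_annihilator.mp hg x)
  have hmem : (⟨P, inferInstance⟩ : PrimeSpectrum S) ∈ Module.support S M := by
    rw [Module.support_eq_zeroLocus]
    exact hle
  obtain ⟨m, hm⟩ := Module.mem_support_iff_exists_annihilator.mp hmem
  obtain ⟨t, ht, htm⟩ := h m
  apply ht
  apply hm
  rw [Submodule.mem_annihilator_span_singleton]
  exact htm

end Kill

section QI

variable {S : Type u} [CommRing S] (P : Ideal S) [P.IsPrime] {N : Type u} [AddCommGroup N]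
  [Module S N] [Module.FinitePresentation S N] {r : ℕ} (α : (Fin r → S) →ₗ[S] N)

theorem exists_quasiInverse
    (hinj : ∀ x, α x = 0 → ∃ t : S, t ∉ P ∧ t • x = 0)
    (hsurj : ∀ n : N, ∃ t : S, t ∉ P ∧ ∃ y, α y = t • n) :
    ∃ g : S, g ∉ P ∧ ∃ δ : N →ₗ[S] (Fin r → S), ∀ x, δ (α x) = g • x := by
  classical
  obtain ⟨k, m, π, ρ, hπ, hex⟩ := Module.FinitePresentation.exists_fin' S N
  -- step a
  obtain ⟨g₁, hg₁, hg₁N⟩ := exists_kill P (N ⧸ LinearMap.range α) (by
    intro x
    obtain ⟨n, rfl⟩ := Submodule.Quotient.mk_surjective _ x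
    obtain ⟨t, ht, y, hy⟩ := hsurj n
    refine ⟨t, ht, ?_⟩
    rw [← Submodule.Quotient.mk_smul, Submodule.Quotient.mk_eq_zero, ← hy]
    exact LinearMap.mem_range_self _ _)
  have hg₁' : ∀ n : N, ∃ y, α y = g₁ • n := by
    intro n
    have := hg₁N (Submodule.Quotient.mk n)
    rw [← Submodule.Quotient.mk_smul, Submodule.Quotient.mk_eq_zero] at this
    exact this
  choose y hy using fun i : Fin k => hg₁' (π (Pi.single i 1))
  let β : (Fin k → S) →ₗ[S] (Fin r → S) := Fintype.linearCombination S y
  have hαβ : α ∘ₗ β = g₁ • π := by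
    apply LinearMap.pi_ext'
    intro i
    ext
    simp only [LinearMap.coe_comp, LinearMap.coe_single, Function.comp_apply,
      LinearMap.smul_apply]
    show α (Fintype.linearCombination S y (Pi.single i 1)) = _
    rw [Fintype.linearCombination_apply_single, one_smul, hy]
  -- step b
  obtain ⟨γ, hγ⟩ := Module.projective_lifting_property π α hπ
  -- step c
  obtain ⟨g₂, hg₂, hg₂K⟩ := exists_kill P (LinearMap.range (β ∘ₗ ρ)) (by
    rintro ⟨x, w, rfl⟩
    have h0 : α ((β ∘ₗ ρ) w) = 0 := by
      have := LinearMap.congr_fun hαβ (ρ w)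
      rw [LinearMap.comp_apply] at this
      rw [LinearMap.comp_apply, this, LinearMap.smul_apply, (hex (ρ w)).mpr ⟨w, rfl⟩, smul_zero]
    obtain ⟨t, ht, htx⟩ := hinj _ h0
    exact ⟨t, ht, Subtype.ext htx⟩)
  have hker : LinearMap.ker π ≤ LinearMap.ker (g₂ • β) := by
    intro z hz
    obtain ⟨w, rfl⟩ := (hex z).mp hz
    have := hg₂K ⟨(β ∘ₗ ρ) w, w, rfl⟩
    rw [LinearMap.mem_ker, LinearMap.smul_apply]
    exact congrArg Subtype.val this
  let δ₀ : N →ₗ[S] (Fin r → S) :=
    (LinearMap.ker π).liftQ (g₂ • β) hker ∘ₗ (π.quotKerEquivOfSurjective hπ).symm.toLinearMap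
  have hδ₀ : ∀ z, δ₀ (π z) = g₂ • β z := by
    intro z
    show (LinearMap.ker π).liftQ (g₂ • β) hker ((π.quotKerEquivOfSurjective hπ).symm (π z)) = _
    rw [LinearMap.quotKerEquivOfSurjective_symm_apply, Submodule.liftQ_apply,
      LinearMap.smul_apply]
  -- step e
  let ε : (Fin r → S) →ₗ[S] (Fin r → S) := β ∘ₗ γ - g₁ • LinearMap.id
  obtain ⟨g₃, hg₃, hg₃K⟩ := exists_kill P (LinearMap.range ε) (by
    rintro ⟨x, w, rfl⟩
    have h0 : α (ε w) = 0 := by
      show α ((β ∘ₗ γ - g₁ • (LinearMap.id : (Fin r → S) →ₗ[S] (Fin r → S))) w) = 0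
      rw [LinearMap.sub_apply, map_sub, LinearMap.comp_apply, LinearMap.smul_apply,
        LinearMap.id_apply, map_smul]
      have h1 := LinearMap.congr_fun hαβ (γ w)
      rw [LinearMap.comp_apply] at h1
      have h2 := LinearMap.congr_fun hγ w
      rw [LinearMap.comp_apply] at h2
      rw [h1, LinearMap.smul_apply, h2, sub_self]
    obtain ⟨t, ht, htx⟩ := hinj _ h0
    exact ⟨t, ht, Subtype.ext htx⟩)
  have hε : ∀ x, g₃ • β (γ x) = g₃ • g₁ • x := by
    intro x
    have := congrArg Subtype.val (hg₃K ⟨ε x, x, rfl⟩)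
    have h1 : g₃ • ε x = 0 := this
    have h2 : ε x = β (γ x) - g₁ • x := rfl
    rw [h2, smul_sub, sub_eq_zero] at h1
    exact h1
  refine ⟨g₁ * g₂ * g₃, ?_, g₃ • δ₀, ?_⟩
  · intro hmem
    rcases Ideal.IsPrime.mem_or_mem inferInstance hmem with h | h
    · rcases Ideal.IsPrime.mem_or_mem inferInstance h with h' | h'
      · exact hg₁ h'
      · exact hg₂ h'
    · exact hg₃ h
  · intro x
    have h2 := LinearMap.congr_fun hγ x
    rw [LinearMap.comp_apply] at h2
    rw [LinearMap.smul_apply, ← h2, hδ₀, smul_comm g₃ g₂, hε, smul_smul, smul_smul]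
    congr 1
    ring

end QI

section Elementwise

variable {R S : Type u} [CommRing R] [CommRing S] [Algebra R S] (T' : Submonoid S)
  {M M' : Type u} [AddCommGroup M] [Module S M] [Module R M] [IsScalarTower R S M]
  [AddCommGroup M'] [Module S M'] [Module R M'] [IsScalarTower R S M']

theorem map_injective_iff' (α : M →ₗ[S] M') :
    Function.Injective (LocalizedModule.map T' α) ↔ ∀ x, α x = 0 → ∃ t : T', t • x = 0 := by
  rw [← Groth.Agent.Lib.helper3.FlatAtLib.map_injective_iff T'
    (LocalizedModule.mkLinearMap T' M) (LocalizedModule.mkLinearMap T' M') α]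
  rfl

theorem map_surjective_iff' (α : M →ₗ[S] M') :
    Function.Surjective (LocalizedModule.map T' α) ↔
      ∀ n : M', ∃ t : T', ∃ y, α y = t • n := by
  constructor
  · intro h n
    obtain ⟨z, hz⟩ := h (LocalizedModule.mk n 1)
    induction z using LocalizedModule.induction_on with
    | h y s =>
      rw [LocalizedModule.map_mk, LocalizedModule.mk_eq] at hz
      obtain ⟨u, hu⟩ := hz
      refine ⟨u * s, (u : S) • y, ?_⟩
      rw [map_smul, mul_smul]
      simpa [Submonoid.smul_def] using hu
  · intro h z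
    induction z using LocalizedModule.induction_on with
    | h n s =>
      obtain ⟨t, y, hy⟩ := h n
      refine ⟨LocalizedModule.mk y (t * s), ?_⟩
      rw [LocalizedModule.map_mk, hy]
      exact LocalizedModule.mk_cancel_common_left t s n

theorem rTensor_map_injective_iff (α : M →ₗ[S] M') (Q : Type u) [AddCommGroup Q] [Module R Q] :
    Function.Injective (((LocalizedModule.map T' α).restrictScalars R).rTensor Q) ↔
      ∀ x : M ⊗[R] Q, (AlgebraTensorModule.rTensor R Q α) x = 0 → ∃ t : T', t • x = 0 := by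
  let f₁ := AlgebraTensorModule.rTensor R Q (LocalizedModule.mkLinearMap T' M)
  let f₂ := AlgebraTensorModule.rTensor R Q (LocalizedModule.mkLinearMap T' M')
  let A : M ⊗[R] Q →ₗ[S] M' ⊗[R] Q := AlgebraTensorModule.rTensor R Q α
  have h2 : IsLocalizedModule.map T' f₁ f₂ A =
      AlgebraTensorModule.rTensor R Q ((LocalizedModule.map T' α).restrictScalars S) := by
    apply IsLocalizedModule.linearMap_ext T' f₁ f₂
    rw [IsLocalizedModule.map_comp]
    ext m q
    simp [f₁, f₂, A, LocalizedModule.map_mk]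
  rw [← Groth.Agent.Lib.helper3.FlatAtLib.map_injective_iff T' f₁ f₂ A, h2]
  rfl

theorem univInj_map_iff (α : M →ₗ[S] M') :
    FlatCA.UnivInj R ((LocalizedModule.map T' α).restrictScalars R) ↔
      ∀ (Q : Type u) [AddCommGroup Q] [Module R Q] (x : M ⊗[R] Q),
        (AlgebraTensorModule.rTensor R Q α) x = 0 → ∃ t : T', t • x = 0 := by
  unfold FlatCA.UnivInj
  constructor
  · intro h Q _ _
    rw [← rTensor_map_injective_iff, ← LinearMap.lTensor_inj_iff_rTensor_inj]
    exact h Q
  · intro h Q _ _
    rw [LinearMap.lTensor_inj_iff_rTensor_inj, rTensor_map_injective_iff]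
    exact h Q

end Elementwise

section Main

variable {R S : Type u} [CommRing R] [CommRing S] [Algebra R S]
  (rr : Ideal R) [rr.IsPrime] [hP : (rr.map (algebraMap R S)).IsPrime]
  {N : Type u} [AddCommGroup N] [Module S N] [Module R N] [IsScalarTower R S N]

/-- membership in `rr • ⊤` for vectors with coordinates in `rr S`. -/
theorem mem_smul_top_pi {r : ℕ} (x : Fin r → S)
    (hx : ∀ i, x i ∈ rr.map (algebraMap R S)) :
    x ∈ rr • (⊤ : Submodule R (Fin r → S)) := by
  classical
  have hsum : x = ∑ i, (LinearMap.single R (fun _ : Fin r => S) i) (x i) := by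
    funext j
    simp [Finset.sum_apply, Pi.single_apply]
  rw [hsum]
  refine Submodule.sum_mem _ (fun i _ => ?_)
  have h1 : x i ∈ rr • (⊤ : Submodule R S) := by
    rw [Ideal.smul_top_eq_map]
    exact hx i
  exact Submodule.smul_top_le_comap_smul_top rr
    (LinearMap.single R (fun _ : Fin r => S) i) h1

theorem coord_mem {r : ℕ} (x : Fin r → S) (hx : x ∈ rr • (⊤ : Submodule R (Fin r → S)))
    (i : Fin r) : x i ∈ rr.map (algebraMap R S) := by
  have h1 := Submodule.smul_top_le_comap_smul_top rr
    (LinearMap.proj (R := R) (φ := fun _ : Fin r => S) i) hx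
  rw [Submodule.mem_comap, Ideal.smul_top_eq_map] at h1
  exact h1

/-- the key reduction mod `rr`, for a submonoid `T'` disjoint from `rr S`. -/
theorem mem_smul_top_of_mk_mem (T' : Submonoid S)
    (hT' : ∀ t ∈ T', t ∉ rr.map (algebraMap R S)) {r : ℕ} (α : (Fin r → S) →ₗ[S] N)
    (hinj : Function.Injective (α.baseChange (rr.map (algebraMap R S)).ResidueField))
    (x : Fin r → S)
    (hx : LocalizedModule.mkLinearMap T' N (α x) ∈
      rr • (⊤ : Submodule R (LocalizedModule T' N))) :
    x ∈ rr • (⊤ : Submodule R (Fin r → S)) := by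
  set P := rr.map (algebraMap R S) with hPdef
  set κ := P.ResidueField with hκ
  let ψ : LocalizedModule T' N →ₗ[S] κ ⊗[S] N :=
    LocalizedModule.lift T' (TensorProduct.mk S κ N 1)
      (fun t => Groth.Agent.Lib.helper3.FibBasis.isUnit_algebraMap_end P N t (hT' t t.2))
  have hψmk : ∀ n : N, ψ (LocalizedModule.mkLinearMap T' N n) = (1 : κ) ⊗ₜ[S] n := by
    intro n
    have := LocalizedModule.lift_comp T' (TensorProduct.mk S κ N 1)
      (fun t => Groth.Agent.Lib.helper3.FibBasis.isUnit_algebraMap_end P N t (hT' t t.2))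
    exact LinearMap.congr_fun this n
  have hψ0 : ∀ y ∈ rr • (⊤ : Submodule R (LocalizedModule T' N)), ψ y = 0 := by
    intro y hy
    refine Submodule.smul_induction_on hy ?_ ?_
    · intro m hm y' _
      rw [← algebraMap_smul S m y', map_smul, ← algebraMap_smul κ (algebraMap R S m) (ψ y')]
      have : algebraMap S κ (algebraMap R S m) = 0 :=
        (Ideal.algebraMap_residueField_eq_zero).mpr (Ideal.mem_map_of_mem _ hm)
      rw [this, zero_smul]
    · intro a b ha hb
      rw [map_add, ha, hb, add_zero]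
  have h1 : (1 : κ) ⊗ₜ[S] (α x) = 0 := by
    rw [← hψmk]
    exact hψ0 _ hx
  have h2 : α.baseChange κ ((1 : κ) ⊗ₜ[S] x) = 0 := by
    rw [LinearMap.baseChange_tmul]
    exact h1
  have h3 : (1 : κ) ⊗ₜ[S] x = 0 := hinj (by rw [h2, map_zero])
  apply mem_smul_top_pi
  intro i
  have h4 := congrArg (fun z => TensorProduct.rid S κ
    ((LinearMap.lTensor κ (LinearMap.proj (R := S) (φ := fun _ : Fin r => S) i)) z)) h3
  simp only [LinearMap.lTensor_tmul, LinearMap.proj_apply, TensorProduct.rid_tmul, map_zero] at h4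
  rw [Algebra.smul_def, mul_one] at h4
  exact (Ideal.algebraMap_residueField_eq_zero).mp h4

/-- (1) ⇒ (3), first half. -/
theorem killKer_of_flat [Module.Projective R S] (T' : Submonoid S)
    (hT' : ∀ t ∈ T', t ∉ rr.map (algebraMap R S)) {r : ℕ} (α : (Fin r → S) →ₗ[S] N)
    (hinj : Function.Injective (α.baseChange (rr.map (algebraMap R S)).ResidueField))
    (hflat : Module.Flat R (LocalizedModule T' N))
    (Q : Type u) [AddCommGroup Q] [Module R Q] (x : Q ⊗[R] (Fin r → S))
    (hx : (α.restrictScalars R).lTensor Q x = 0) : ∃ f : R, f ∉ rr ∧ f • x = 0 := by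
  classical
  haveI : Module.Projective R (Fin r → S) :=
    Module.Projective.of_equiv
      (DFinsupp.linearEquivFunOnFintype (R := R) (M := fun _ : Fin r => S))
  let u : (Fin r → S) →ₗ[R] LocalizedModule T' N :=
    ((LocalizedModule.mkLinearMap T' N).restrictScalars R) ∘ₗ (α.restrictScalars R)
  have H : ∀ x' : Fin r → S, ∀ f : R, f ∉ rr →
      f • u x' ∈ rr • (⊤ : Submodule R (LocalizedModule T' N)) →
      ∃ f' : R, f' ∉ rr ∧ f' • x' ∈ rr • (⊤ : Submodule R (Fin r → S)) := by
    intro x' f hf hmem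
    refine ⟨f, hf, ?_⟩
    apply mem_smul_top_of_mk_mem rr T' hT' α hinj
    have : LocalizedModule.mkLinearMap T' N (α (f • x')) = f • u x' := by
      show _ = f • LocalizedModule.mkLinearMap T' N (α x')
      rw [LinearMap.map_smul_of_tower, LinearMap.map_smul_of_tower]
    rw [this]
    exact hmem
  apply Groth.Agent.Lib.helper3.LocUnivInj.exists_smul_eq_zero rr u H Q x
  show (((LocalizedModule.mkLinearMap T' N).restrictScalars R) ∘ₗ
    (α.restrictScalars R)).lTensor Q x = 0
  rw [LinearMap.lTensor_comp, LinearMap.comp_apply, hx, map_zero]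

/-- elements outside `rr S` are universally nonzerodivisors near `rr`. -/
theorem killKer_smul [Module.Projective R S] [Module.Flat R S]
    (hcomap : ∀ f : R, algebraMap R S f ∈ rr.map (algebraMap R S) → f ∈ rr)
    (g : S) (hg : g ∉ rr.map (algebraMap R S)) {r : ℕ}
    (Q : Type u) [AddCommGroup Q] [Module R Q] (x : Q ⊗[R] (Fin r → S))
    (hx : ((LinearMap.lsmul S (Fin r → S) g).restrictScalars R).lTensor Q x = 0) :
    ∃ f : R, f ∉ rr ∧ f • x = 0 := by
  classical
  haveI : Module.Projective R (Fin r → S) :=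
    Module.Projective.of_equiv
      (DFinsupp.linearEquivFunOnFintype (R := R) (M := fun _ : Fin r => S))
  have H : ∀ x' : Fin r → S, ∀ f : R, f ∉ rr →
      f • ((LinearMap.lsmul S (Fin r → S) g).restrictScalars R) x' ∈
        rr • (⊤ : Submodule R (Fin r → S)) →
      ∃ f' : R, f' ∉ rr ∧ f' • x' ∈ rr • (⊤ : Submodule R (Fin r → S)) := by
    intro x' f hf hmem
    refine ⟨1, (Ideal.ne_top_iff_one rr).mp (Ideal.IsPrime.ne_top inferInstance), ?_⟩
    rw [one_smul]
    apply mem_smul_top_pi
    intro i
    have h1 := coord_mem rr _ hmem i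
    have h2 : (f • ((LinearMap.lsmul S (Fin r → S) g).restrictScalars R) x') i =
        algebraMap R S f * (g * x' i) := by
      show f • (g • x' i) = _
      rw [Algebra.smul_def, smul_eq_mul]
    rw [h2] at h1
    rcases hP.mem_or_mem h1 with h3 | h3
    · exact absurd (hcomap f h3) hf
    · rcases hP.mem_or_mem h3 with h4 | h4
      · exact absurd h4 hg
      · exact h4
  exact Groth.Agent.Lib.helper3.LocUnivInj.exists_smul_eq_zero rr _ H Q x hx

end Main

section Comm

variable {R S : Type u} [CommRing R] [CommRing S] [Algebra R S]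
  {M M' : Type u} [AddCommGroup M] [Module S M] [Module R M] [IsScalarTower R S M]
  [AddCommGroup M'] [Module S M'] [Module R M'] [IsScalarTower R S M']

theorem lTensor_comm (α : M →ₗ[S] M') (Q : Type u) [AddCommGroup Q] [Module R Q]
    (x : M ⊗[R] Q) :
    (α.restrictScalars R).lTensor Q (TensorProduct.comm R M Q x) =
      TensorProduct.comm R M' Q ((AlgebraTensorModule.rTensor R Q α) x) := by
  induction x using TensorProduct.induction_on with
  | zero => simp
  | add a b ha hb => simp only [map_add, ha, hb]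
  | tmul m q => simp

theorem rTensor_comp_apply (α : M →ₗ[S] M') (δ : M' →ₗ[S] M) (g : S)
    (h : ∀ x, δ (α x) = g • x) (Q : Type u) [AddCommGroup Q] [Module R Q] (x : M ⊗[R] Q) :
    (AlgebraTensorModule.rTensor R Q δ) ((AlgebraTensorModule.rTensor R Q α) x) = g • x := by
  induction x using TensorProduct.induction_on with
  | zero => simp
  | add a b ha hb => simp only [map_add, ha, hb, smul_add]
  | tmul m q =>
    simp only [AlgebraTensorModule.rTensor_tmul, h]
    rw [TensorProduct.smul_tmul']

theorem smul_eq_zero_of_comm (f : R) (Q : Type u) [AddCommGroup Q] [Module R Q] (x : M ⊗[R] Q)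
    (h : f • (TensorProduct.comm R M Q x) = 0) : (algebraMap R S f) • x = 0 := by
  rw [algebraMap_smul]
  apply (TensorProduct.comm R M Q).injective
  rw [map_smul, h, map_zero]

end Comm

end Groth.Agent.Lib.helper3.FibBasis2
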