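import Mathlib
import Groth.Agent.Lib.Helper3.GIModel2
import Groth.Agent.Lib.Helper3.GIProj3

/-!
# Flat finitely presented algebras with geometrically integral fibres are projective modules
(helper3; Stacks 05FZ; used by S0447)
-/

set_option autoImplicit false
set_option linter.style.haveILetI false
set_option linter.unusedSectionVars false

namespace Groth.Agent.Lib.helper3.GIProj

open TensorProduct
open Groth.Agent.Lib.helper3.GIModel

universe u

theorem projective_of_geomIntegralFibres {R S : Type u} [CommRing R] [CommRing S] [Algebra R S]
    [Algebra.FinitePresentation R S] [Module.Flat R S] (hgi : FlatCA.GeomIntegralFibres R S) :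
    Module.Projective R S := by
  obtain ⟨R₀, A₀, _, _, _, _, hN, hft, hfl, hgif, ⟨e⟩⟩ := exists_ring_model hgi
  haveI : Module.Projective R₀ A₀ := projective_of_noetherian hgif
  exact Module.Projective.of_equiv e.toLinearEquiv

end Groth.Agent.Lib.helper3.GIProj
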