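import Mathlib
import Groth.Prelude.Def_FlatCA
import Groth.Agent.Lib.Helper3.CDev2
import Groth.Agent.Lib.Helper3.FlatAtLib1
import Groth.Agent.Lib.Helper3.FibBasis2
import Groth.Agent.Lib.Helper3.GIProj4
import Groth.Agent.S1205

/-!
# Complete dévissage toolkit III: the non-local case (helper3; S1254)
-/

set_option autoImplicit false
set_option linter.style.haveILetI false
set_option linter.unusedSectionVars false
universe u

open TensorProduct

namespace Groth.Agent.Lib.helper3.CDev

section Elementwise

variable {R : Type u} [CommRing R]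

/-- elementwise form of "`M_f` is flat over `R`". -/
def FlatE (f : R) (M : Type u) [AddCommGroup M] [Module R M] : Prop :=
  ∀ (P Q : Type u) [AddCommGroup P] [AddCommGroup Q] [Module R P] [Module R Q]
    (u : P →ₗ[R] Q), Function.Injective u → ∀ x : M ⊗[R] P, u.lTensor M x = 0 →
      ∃ k : ℕ, f ^ k • x = 0

theorem flatE_one_of_flat (M : Type u) [AddCommGroup M] [Module R M] [Module.Flat R M] :
    FlatE (1 : R) M := by
  intro P Q _ _ _ _ u hu x hx
  refine ⟨0, ?_⟩
  rw [pow_zero, one_smul]
  exact (Module.Flat.lTensor_preserves_injective_linearMap u hu) (by rw [hx, map_zero])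

theorem FlatE.of_equiv {f : R} {M M' : Type u} [AddCommGroup M] [Module R M] [AddCommGroup M']
    [Module R M'] (e : M ≃ₗ[R] M') (h : FlatE f M) : FlatE f M' := by
  intro P Q _ _ _ _ u hu x hx
  obtain ⟨k, hk⟩ := h P Q u hu ((e.symm.toLinearMap.rTensor P) x) (by
    have : u.lTensor M ((e.symm.toLinearMap.rTensor P) x) =
        (e.symm.toLinearMap.rTensor Q) (u.lTensor M' x) := by
      rw [← LinearMap.comp_apply, ← LinearMap.comp_apply, LinearMap.lTensor_comp_rTensor,
        LinearMap.rTensor_comp_lTensor]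
    rw [this, hx, map_zero])
  refine ⟨k, ?_⟩
  have hinj : Function.Injective (e.symm.toLinearMap.rTensor P) :=
    (TensorProduct.congr e.symm (LinearEquiv.refl R P)).injective
  apply hinj
  rw [map_smul, hk, map_zero]

theorem FlatE.mul_right {f : R} (f' : R) {M : Type u} [AddCommGroup M] [Module R M]
    (h : FlatE f M) : FlatE (f * f') M := by
  intro P Q _ _ _ _ u hu x hx
  obtain ⟨k, hk⟩ := h P Q u hu x hx
  exact ⟨k, by rw [mul_pow, mul_comm, mul_smul, hk, smul_zero]⟩

/-- cokernel of a map which is universally injective after inverting `f'` into a module flat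
after inverting `f` is flat after inverting `f * f'`. -/
theorem flatE_coker (f f' : R) {F M C : Type u} [AddCommGroup F] [AddCommGroup M] [AddCommGroup C]
    [Module R F] [Module R M] [Module R C] (α : F →ₗ[R] M) (g : M →ₗ[R] C)
    (hex : Function.Exact α g) (hg : Function.Surjective g)
    (hα : ∀ (Q : Type u) [AddCommGroup Q] [Module R Q] (x : F ⊗[R] Q),
      α.rTensor Q x = 0 → ∃ k : ℕ, f' ^ k • x = 0)
    (hM : FlatE f M) : FlatE (f * f') C := by
  intro P Q _ _ _ _ u hu x hx
  -- 1. lift x
  obtain ⟨y, rfl⟩ := LinearMap.rTensor_surjective P hg x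
  -- 2.
  have h2 : g.rTensor Q (u.lTensor M y) = 0 := by
    rw [← LinearMap.comp_apply, LinearMap.rTensor_comp_lTensor, ← LinearMap.lTensor_comp_rTensor,
      LinearMap.comp_apply, hx]
  obtain ⟨z, hz⟩ := (rTensor_exact Q hex hg _).mp h2
  -- 3.
  let π : Q →ₗ[R] Q ⧸ LinearMap.range u := (LinearMap.range u).mkQ
  have hπu : π ∘ₗ u = 0 := by
    ext p
    simp [π]
  have h3 : α.rTensor (Q ⧸ LinearMap.range u) (π.lTensor F z) = 0 := by
    rw [← LinearMap.comp_apply, LinearMap.rTensor_comp_lTensor, ← LinearMap.lTensor_comp_rTensor,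
      LinearMap.comp_apply, hz, ← LinearMap.comp_apply, ← LinearMap.lTensor_comp, hπu,
      LinearMap.lTensor_zero, LinearMap.zero_apply]
  obtain ⟨k, hk⟩ := hα _ _ h3
  have hexu : Function.Exact u π := LinearMap.exact_map_mkQ_range u
  have h3' : π.lTensor F (f' ^ k • z) = 0 := by rw [map_smul, hk]
  obtain ⟨w, hw⟩ := (lTensor_exact F hexu (LinearMap.range u).mkQ_surjective _).mp h3'
  -- 4.
  have h4 : u.lTensor M (f' ^ k • y - α.rTensor P w) = 0 := by
    rw [map_sub, map_smul, ← hz, ← LinearMap.comp_apply (u.lTensor M), LinearMap.lTensor_comp_rTensor,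
      ← LinearMap.rTensor_comp_lTensor, LinearMap.comp_apply, hw, map_smul, sub_self]
  obtain ⟨l, hl⟩ := hM P Q u hu _ h4
  -- 5.
  have h5 : g.rTensor P (α.rTensor P w) = 0 := by
    rw [← LinearMap.comp_apply, ← LinearMap.rTensor_comp]
    have : g ∘ₗ α = 0 := by
      ext a
      exact hex.apply_apply_eq_zero a
    rw [this, LinearMap.rTensor_zero, LinearMap.zero_apply]
  have h6 : (f ^ l * f' ^ k) • g.rTensor P y = 0 := by
    have := congrArg (g.rTensor P) hl
    rw [map_smul, map_sub, map_smul, h5, sub_zero, map_zero, smul_smul] at this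
    exact this
  refine ⟨l + k, ?_⟩
  have : (f * f') ^ (l + k) = (f ^ k * f' ^ l) * (f ^ l * f' ^ k) := by ring
  rw [this, mul_smul, h6, smul_zero]

end Elementwise


section NonLocal

open FlatCA Groth.Agent.Lib.helper3.FlatAtLib

variable {R S : Type u} [CommRing R] [CommRing S] [Algebra R S]
  {N : Type u} [AddCommGroup N] [Module S N] [Module R N] [IsScalarTower R S N]
  {rr : Ideal R} [rr.IsPrime] (D : CompleteDevissage R S N rr)

/-- the projection `M i → M (i+1)` of the dévissage (general base). -/
noncomputable def projG (i : ℕ) (hi : i + 1 < D.n) : D.M i →ₗ[D.B i] D.M (i + 1) :=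
  (D.isoCoker i hi).toLinearMap ∘ₗ (LinearMap.range (D.α i)).mkQ

theorem projG_surjective (i : ℕ) (hi : i + 1 < D.n) : Function.Surjective (projG D i hi) :=
  (D.isoCoker i hi).surjective.comp (LinearMap.range (D.α i)).mkQ_surjective

theorem projG_exact (i : ℕ) (hi : i + 1 < D.n) : Function.Exact (D.α i) (projG D i hi) := by
  intro x
  have h := LinearMap.exact_map_mkQ_range (D.α i) x
  rw [← h]
  show (D.isoCoker i hi) ((LinearMap.range (D.α i)).mkQ x) = 0 ↔ _
  exact (D.isoCoker i hi).map_eq_zero_iff

theorem gi_B (i : ℕ) (hi : i < D.n) : FlatCA.GeomIntegralFibres R (D.B i) := by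
  haveI := D.smooth i hi
  exact geomIntegralFibres_of_smooth (D.geomIrred i hi)

theorem liesOver_map (i : ℕ) (hi : i < D.n) : (rr.map (algebraMap R (D.B i))).LiesOver rr := by
  haveI := D.smooth i hi
  have hgif := GIProj.GIF.of_geomIntegralFibres (gi_B D i hi)
  haveI : Nontrivial (rr.ResidueField ⊗[R] D.B i) := GIProj.GIF.nontrivial hgif rr.ResidueField
  refine ⟨le_antisymm Ideal.le_comap_map ?_⟩
  intro f hf
  by_contra hfr
  let φ : D.B i →+* rr.ResidueField ⊗[R] D.B i :=
    (Algebra.TensorProduct.includeRight (R := R) (A := rr.ResidueField) (B := D.B i)).toRingHom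
  have hle : rr.map (algebraMap R (D.B i)) ≤ RingHom.ker φ := by
    rw [Ideal.map_le_iff_le_comap]
    intro a ha
    show φ (algebraMap R (D.B i) a) = 0
    have h1 : φ (algebraMap R (D.B i) a) = (algebraMap R rr.ResidueField a) ⊗ₜ[R] (1 : D.B i) := by
      show (1 : rr.ResidueField) ⊗ₜ[R] (algebraMap R (D.B i) a) = _
      rw [Algebra.algebraMap_eq_smul_one, ← TensorProduct.smul_tmul, Algebra.algebraMap_eq_smul_one]
    rw [h1, Ideal.algebraMap_residueField_eq_zero.mpr ha, TensorProduct.zero_tmul]
  have h0 : φ (algebraMap R (D.B i) f) = 0 := hle hf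
  have h1 : φ (algebraMap R (D.B i) f) = (algebraMap R rr.ResidueField f) ⊗ₜ[R] (1 : D.B i) := by
    show (1 : rr.ResidueField) ⊗ₜ[R] (algebraMap R (D.B i) f) = _
    rw [Algebra.algebraMap_eq_smul_one, ← TensorProduct.smul_tmul, Algebra.algebraMap_eq_smul_one]
  have hne : algebraMap R rr.ResidueField f ≠ 0 := fun h =>
    hfr (Ideal.algebraMap_residueField_eq_zero.mp h)
  have h2 : (1 : rr.ResidueField ⊗[R] D.B i) = 0 := by
    have h3 : (algebraMap R rr.ResidueField f)⁻¹ •
        ((algebraMap R rr.ResidueField f) ⊗ₜ[R] (1 : D.B i)) = 0 := by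
      rw [← h1, h0, smul_zero]
    rw [TensorProduct.smul_tmul', smul_eq_mul, inv_mul_cancel₀ hne] at h3
    exact h3
  exact one_ne_zero h2

theorem fp_all [Algebra.FinitePresentation R S] [Module.FinitePresentation S N] :
    ∀ i, i < D.n → Module.FinitePresentation (D.B i) (D.M i) := by
  intro i
  induction i with
  | zero =>
    intro hi
    haveI : Module.FinitePresentation S (D.M 0) := Module.FinitePresentation.of_equiv D.isoN
    haveI := D.fpSA
    haveI : Module.FinitePresentation (D.A 0) (D.M 0) :=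
      fp_of_finiteType_of_fp (R := S) (S := D.A 0) (D.M 0)
    haveI := D.smooth 0 hi
    haveI : Algebra.FinitePresentation R (D.A 0) := Algebra.FinitePresentation.trans R S (D.A 0)
    haveI : Algebra.FinitePresentation (D.B 0) (D.A 0) :=
      Algebra.FinitePresentation.of_restrict_scalars_finitePresentation R (D.B 0) (D.A 0)
    haveI := D.finiteBA 0 hi
    haveI : Module.FinitePresentation (D.B 0) (D.A 0) :=
      Module.FinitePresentation.of_finite_of_finitePresentation _ _
    exact Module.FinitePresentation.trans (D.B 0) (D.M 0) (D.A 0)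
  | succ i ih =>
    intro hi
    haveI := ih (by omega)
    haveI : Module.FinitePresentation (D.B i) (D.M i ⧸ LinearMap.range (D.α i)) :=
      Module.finitePresentation_of_surjective (LinearMap.range (D.α i)).mkQ
        (LinearMap.range (D.α i)).mkQ_surjective (by
          rw [Submodule.ker_mkQ, LinearMap.range_eq_map]
          exact (Module.Finite.fg_top).map (D.α i))
    haveI : Module.FinitePresentation (D.B i) (D.M (i + 1)) :=
      Module.FinitePresentation.of_equiv (D.isoCoker i hi)
    haveI := D.fpBA' i hi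
    haveI : Module.FinitePresentation (D.A (i + 1)) (D.M (i + 1)) :=
      fp_of_finiteType_of_fp (R := D.B i) (S := D.A (i + 1)) (D.M (i + 1))
    haveI := D.smooth i (by omega)
    haveI := D.smooth (i + 1) hi
    haveI : Algebra.FinitePresentation R (D.A (i + 1)) :=
      Algebra.FinitePresentation.trans R (D.B i) (D.A (i + 1))
    haveI : Algebra.FinitePresentation (D.B (i + 1)) (D.A (i + 1)) :=
      Algebra.FinitePresentation.of_restrict_scalars_finitePresentation R (D.B (i + 1))
        (D.A (i + 1))
    haveI := D.finiteBA (i + 1) hi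
    haveI : Module.FinitePresentation (D.B (i + 1)) (D.A (i + 1)) :=
      Module.FinitePresentation.of_finite_of_finitePresentation _ _
    exact Module.FinitePresentation.trans (D.B (i + 1)) (D.M (i + 1)) (D.A (i + 1))

theorem rTensor_eq {B F M : Type u} [CommRing B] [Algebra R B] [AddCommGroup F] [AddCommGroup M]
    [Module B F] [Module B M] [Module R F] [Module R M] [IsScalarTower R B F] [IsScalarTower R B M]
    (α : F →ₗ[B] M) (Q : Type u) [AddCommGroup Q] [Module R Q] (x : F ⊗[R] Q) :
    (AlgebraTensorModule.rTensor R Q α) x = (α.restrictScalars R).rTensor Q x := by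
  induction x using TensorProduct.induction_on with
  | zero => simp
  | add a b ha hb => simp only [map_add, ha, hb]
  | tmul m q => simp

/-- one application of S1205 at step `i`. -/
theorem exists_univInjE [Algebra.FinitePresentation R S] [Module.FinitePresentation S N]
    (i : ℕ) (hi : i < D.n) (f : R) (hf : f ∉ rr) (hflat : FlatE f (D.M i)) :
    ∃ f' : R, f' ∉ rr ∧ ∀ (Q : Type u) [AddCommGroup Q] [Module R Q]
      (x : (Fin (D.r i) → D.B i) ⊗[R] Q),
        ((D.α i).restrictScalars R).rTensor Q x = 0 → ∃ k : ℕ, f' ^ k • x = 0 := by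
  haveI := D.smooth i hi
  haveI := fp_all D i hi
  haveI := liesOver_map D i hi
  have hFlatAt : FlatAt R (rr.map (algebraMap R (D.B i))) (D.M i) := by
    rw [flatAt_iff_forall_eq_zero]
    intro P Q _ _ _ _ u hu x hx
    obtain ⟨k, hk⟩ := hflat P Q u hu x hx
    refine ⟨algebraMap R (D.B i) (f ^ k), ?_, ?_⟩
    · intro hmem
      have h1 : f ^ k ∈ (rr.map (algebraMap R (D.B i))).comap (algebraMap R (D.B i)) := hmem
      rw [← Ideal.under_def,
        ← Ideal.LiesOver.over (p := rr) (P := rr.map (algebraMap R (D.B i)))] at h1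
      exact hf (Ideal.IsPrime.mem_of_pow_mem inferInstance k h1)
    · rw [algebraMap_smul]
      exact hk
  have h := (Groth.Agent.S1205.result (gi_B D i hi) rr (rr.map (algebraMap R (D.B i)))
    (D.M i)).2 (D.r i) (D.α i) (D.fibreIso i hi)
  obtain ⟨⟨f', hf', hU⟩, -⟩ := (h.out 0 1).mp hFlatAt
  refine ⟨f', hf', ?_⟩
  intro Q _ _ x hx
  rw [FibBasis2.univInj_map_iff] at hU
  obtain ⟨⟨t, k, rfl⟩, ht⟩ := hU Q x (by rw [rTensor_eq]; exact hx)
  refine ⟨k, ?_⟩
  have h2 : ((algebraMap R (D.B i) f') ^ k) • x = 0 := ht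
  rw [← map_pow, algebraMap_smul] at h2
  exact h2

theorem stage1 [Algebra.FinitePresentation R S] [Module.FinitePresentation S N]
    [Module.Flat R N] : ∀ i, i ≤ D.n → ∃ f : R, f ∉ rr ∧ (i < D.n → FlatE f (D.M i)) ∧
      ∀ j, j < i → ∀ x, D.α j x = 0 → ∃ k : ℕ, f ^ k • x = 0 := by
  intro i
  induction i with
  | zero =>
    intro _
    refine ⟨1, ?_, ?_, ?_⟩
    · exact fun h => (Ideal.IsPrime.ne_top inferInstance) ((Ideal.eq_top_iff_one _).mpr h)
    · intro _
      haveI : Module.Flat R (D.M 0) :=
        Module.Flat.of_linearEquiv (D.isoN.restrictScalars R).symm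
      exact flatE_one_of_flat (D.M 0)
    · intro j hj
      omega
  | succ i ih =>
    intro hi
    have hin : i < D.n := by omega
    obtain ⟨f, hf, hflat, hker⟩ := ih (by omega)
    obtain ⟨f', hf', hα⟩ := exists_univInjE D i hin f hf (hflat hin)
    refine ⟨f * f', ?_, ?_, ?_⟩
    · intro h
      rcases Ideal.IsPrime.mem_or_mem inferInstance h with h | h
      · exact hf h
      · exact hf' h
    · intro hi1
      exact flatE_coker f f' ((D.α i).restrictScalars R) ((projG D i hi1).restrictScalars R)
        (projG_exact D i hi1) (projG_surjective D i hi1) hα (hflat hin)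
    · intro j hj x hx
      rcases Nat.lt_succ_iff_lt_or_eq.mp hj with hj' | rfl
      · obtain ⟨k, hk⟩ := hker j hj' x hx
        exact ⟨k, by rw [mul_pow, mul_comm, mul_smul, hk, smul_zero]⟩
      · obtain ⟨k, hk⟩ := hα R (x ⊗ₜ[R] (1 : R)) (by
          rw [LinearMap.rTensor_tmul]
          show (D.α j x) ⊗ₜ[R] (1 : R) = 0
          rw [hx, TensorProduct.zero_tmul])
        refine ⟨k, ?_⟩
        have h1 := congrArg (TensorProduct.rid R (Fin (D.r j) → D.B j)) hk
        rw [map_smul, TensorProduct.rid_tmul, one_smul, map_zero] at h1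
        rw [mul_pow, mul_smul, h1, smul_zero]

end NonLocal

end Groth.Agent.Lib.helper3.CDev
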