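import Mathlib
import Groth.Prelude.Def_FlatCA
import Groth.Agent.Lib.Helper3.CDev3

/-!
# Complete dévissage toolkit IV: localized splitting (helper3; S1254)
-/

set_option autoImplicit false
set_option linter.style.haveILetI false
set_option linter.unusedSectionVars false
universe u

open TensorProduct

namespace Groth.Agent.Lib.helper3.CDev

open AlgebraicGeometry CategoryTheory in
/-- geometric irreducibility of fibres is stable under base change (ring form). -/
theorem geomIrredFibres_baseChange {R B : Type u} [CommRing R] [CommRing B] [Algebra R B]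
    (R' : Type u) [CommRing R'] [Algebra R R'] (h : FlatCA.GeomIrredFibres R B) :
    FlatCA.GeomIrredFibres R' (R' ⊗[R] B) := by
  have hpo := CommRingCat.isPushout_tensorProduct R R' B
  have hpb := isPullback_SpecMap_of_isPushout _ _ _ _ hpo
  exact MorphismProperty.of_isPullback hpb.flip h

section Stage2

open FlatCA

variable {R S : Type u} [CommRing R] [CommRing S] [Algebra R S]
  {N : Type u} [AddCommGroup N] [Module S N] [Module R N] [IsScalarTower R S N]
  {rr : Ideal R} [rr.IsPrime] (D : CompleteDevissage R S N rr)

theorem projective_B (i : ℕ) (hi : i < D.n) : Module.Projective R (D.B i) := by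
  haveI := D.smooth i hi
  exact GIProj.projective_of_geomIntegralFibres (gi_B D i hi)

theorem projective_F (f : R) (i : ℕ) (hi : i < D.n) :
    Module.Projective (Localization (Submonoid.powers f))
      (LocalizedModule (Submonoid.powers f) (Fin (D.r i) → D.B i)) := by
  haveI := projective_B D i hi
  haveI : Module.Projective R (Fin (D.r i) → D.B i) :=
    Module.Projective.of_equiv
      (DFinsupp.linearEquivFunOnFintype (R := R) (M := fun _ : Fin (D.r i) => D.B i))
  infer_instance

/-- the localized maps -/
noncomputable abbrev αf (f : R) (i : ℕ) :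
    LocalizedModule (Submonoid.powers f) (Fin (D.r i) → D.B i) →ₗ[Localization (Submonoid.powers f)]
      LocalizedModule (Submonoid.powers f) (D.M i) :=
  LocalizedModule.map (Submonoid.powers f) ((D.α i).restrictScalars R)

noncomputable abbrev gf (f : R) (i : ℕ) (hi : i + 1 < D.n) :
    LocalizedModule (Submonoid.powers f) (D.M i) →ₗ[Localization (Submonoid.powers f)]
      LocalizedModule (Submonoid.powers f) (D.M (i + 1)) :=
  LocalizedModule.map (Submonoid.powers f) ((projG D i hi).restrictScalars R)

theorem αf_injective (f : R) (i : ℕ)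
    (hker : ∀ x, D.α i x = 0 → ∃ k : ℕ, f ^ k • x = 0) : Function.Injective (αf D f i) := by
  refine (FlatAtLib.map_injective_iff (Submonoid.powers f)
    (LocalizedModule.mkLinearMap (Submonoid.powers f) (Fin (D.r i) → D.B i))
    (LocalizedModule.mkLinearMap (Submonoid.powers f) (D.M i))
    ((D.α i).restrictScalars R)).mpr ?_
  intro x hx
  obtain ⟨k, hk⟩ := hker x hx
  exact ⟨⟨f ^ k, k, rfl⟩, hk⟩

theorem gf_surjective (f : R) (i : ℕ) (hi : i + 1 < D.n) : Function.Surjective (gf D f i hi) :=
  LocalizedModule.map_surjective _ _ (projG_surjective D i hi)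

theorem αf_gf_exact (f : R) (i : ℕ) (hi : i + 1 < D.n) :
    Function.Exact (αf D f i) (gf D f i hi) :=
  LocalizedModule.map_exact (Submonoid.powers f) ((D.α i).restrictScalars R)
    ((projG D i hi).restrictScalars R) (projG_exact D i hi)

theorem αf_last_surjective (f : R) : Function.Surjective (αf D f (D.n - 1)) :=
  LocalizedModule.map_surjective _ _ D.cokerLast

theorem projective_Mf (f : R)
    (hker : ∀ j, j < D.n → ∀ x, D.α j x = 0 → ∃ k : ℕ, f ^ k • x = 0) :
    ∀ k i, i + k + 1 = D.n → Module.Projective (Localization (Submonoid.powers f))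
      (LocalizedModule (Submonoid.powers f) (D.M i)) := by
  intro k
  induction k with
  | zero =>
    intro i hi
    have hin : i < D.n := by omega
    have hi' : i = D.n - 1 := by omega
    have hinj := αf_injective D f i (hker i hin)
    have hsurj : Function.Surjective (αf D f i) := by
      subst hi'
      exact αf_last_surjective D f
    haveI := projective_F D f i hin
    exact Module.Projective.of_equiv (LinearEquiv.ofBijective (αf D f i) ⟨hinj, hsurj⟩)
  | succ k ih =>
    intro i hi
    have hin : i < D.n := by omega
    have hi1 : i + 1 < D.n := by omega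
    haveI := ih (i + 1) (by omega)
    haveI := projective_F D f i hin
    obtain ⟨e⟩ := nonempty_equiv_prod_of_exact (αf D f i) (gf D f i hi1)
      (αf_injective D f i (hker i hin)) (gf_surjective D f i hi1) (αf_gf_exact D f i hi1)
    exact Module.Projective.of_equiv e.symm

/-- conversion of the localized free module. -/
noncomputable def convF (f : R) (i : ℕ) :
    LocalizedModule (Submonoid.powers f) (Fin (D.r i) → D.B i) ≃ₗ[Localization.Away f]
      (Fin (D.r i) → (Localization.Away f ⊗[R] D.B i)) :=
  ((IsLocalizedModule.isBaseChange (Submonoid.powers f) (Localization.Away f)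
    (LocalizedModule.mkLinearMap (Submonoid.powers f) (Fin (D.r i) → D.B i))).equiv).symm.trans
    (TensorProduct.piRight R (Localization.Away f) (Localization.Away f)
      (fun _ : Fin (D.r i) => D.B i))

/-- the localization of `isoN`. -/
noncomputable def convN (f : R) :
    LocalizedModule (Submonoid.powers f) N ≃ₗ[Localization.Away f]
      LocalizedModule (Submonoid.powers f) (D.M 0) := by
  let e : N ≃ₗ[R] D.M 0 := D.isoN.restrictScalars R
  haveI : IsLocalizedModule (Submonoid.powers f)
      ((LocalizedModule.mkLinearMap (Submonoid.powers f) (D.M 0)) ∘ₗ e.toLinearMap) :=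
    IsLocalizedModule.of_linearEquiv_right _ _ e
  exact (IsLocalizedModule.linearEquiv (Submonoid.powers f)
    (LocalizedModule.mkLinearMap (Submonoid.powers f) N)
    ((LocalizedModule.mkLinearMap (Submonoid.powers f) (D.M 0)) ∘ₗ e.toLinearMap)
    ).extendScalarsOfIsLocalization (Submonoid.powers f) (Localization.Away f)

theorem stage2 (f : R)
    (hker : ∀ j, j < D.n → ∀ x, D.α j x = 0 → ∃ k : ℕ, f ^ k • x = 0) :
    Module.Projective (Localization.Away f) (LocalizedModule (Submonoid.powers f) N) ∧
      Nonempty (LocalizedModule (Submonoid.powers f) N ≃ₗ[Localization.Away f]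
        (∀ i : Fin D.n, Fin (D.r i) → (Localization.Away f ⊗[R] D.B i))) := by
  have hpos := D.pos
  have hall := projective_Mf D f hker
  have hiso : Nonempty (LocalizedModule (Submonoid.powers f) N ≃ₗ[Localization.Away f]
      (∀ i : Fin D.n, Fin (D.r i) → (Localization.Away f ⊗[R] D.B i))) := by
    obtain ⟨m, hm⟩ : ∃ m, D.n = m + 1 := ⟨D.n - 1, by omega⟩
    have hiso' : Nonempty (LocalizedModule (Submonoid.powers f) (D.M 0) ≃ₗ[Localization.Away f]
        ∀ j : Fin (m + 1), LocalizedModule (Submonoid.powers f) (Fin (D.r j) → D.B j)) := by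
      apply nonempty_equiv_pi (R := Localization.Away f) m
        (fun i => LocalizedModule (Submonoid.powers f) (D.M i))
        (fun i => LocalizedModule (Submonoid.powers f) (Fin (D.r i) → D.B i))
      · intro i hi
        have hi1 : i + 1 < D.n := by omega
        haveI := hall (D.n - 1 - (i + 1)) (i + 1) (by omega)
        exact nonempty_equiv_prod_of_exact (αf D f i) (gf D f i hi1)
          (αf_injective D f i (hker i (by omega))) (gf_surjective D f i hi1)
          (αf_gf_exact D f i hi1)
      · have hm' : m = D.n - 1 := by omega
        subst hm'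
        exact ⟨(LinearEquiv.ofBijective (αf D f (D.n - 1))
          ⟨αf_injective D f (D.n - 1) (hker _ (by omega)), αf_last_surjective D f⟩).symm⟩
    obtain ⟨e⟩ := hiso'
    rw [hm]
    exact ⟨(convN D f).trans (e.trans (LinearEquiv.piCongrRight fun j => convF D f j))⟩
  refine ⟨?_, hiso⟩
  haveI := hall (D.n - 1) 0 (by omega)
  exact Module.Projective.of_equiv (convN D f).symm

end Stage2

end Groth.Agent.Lib.helper3.CDev
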