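import Mathlib

/-!
# Transfer of fibre bijectivity along base change (helper3; towards S12243/S12246/S12247)

* `bijective_iff_of_isBaseChange` : if `N₁, N₂` are base changes of `M₁, M₂` along `B → C` and
  `β : N₁ → N₂` is compatible with `α : M₁ → M₂`, then `α.baseChange C` is bijective iff `β` is.
* `bijective_baseChange_of_tower` : `B → B'`, `k` a `B`-algebra, `k'` a `B'`-algebra over `k`;
  `M'` the base change of `M`, `α'` compatible with `α` (finite free sources). If `α ⊗ k` is
  bijective then so is `α' ⊗ k'`.
* `bijective_baseChange_residueField` : the same for residue fields of primes `P' over P`.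
-/

set_option autoImplicit false
set_option linter.style.haveILetI false
set_option linter.unusedSectionVars false
universe u

open TensorProduct

namespace Groth.Agent.Lib.helper3.CDevBC

theorem bijective_iff_of_isBaseChange {B C : Type u} [CommRing B] [CommRing C] [Algebra B C]
    {M₁ M₂ N₁ N₂ : Type u} [AddCommGroup M₁] [AddCommGroup M₂] [Module B M₁] [Module B M₂]
    [AddCommGroup N₁] [AddCommGroup N₂] [Module C N₁] [Module C N₂] [Module B N₁] [Module B N₂]
    [IsScalarTower B C N₁] [IsScalarTower B C N₂]
    (f₁ : M₁ →ₗ[B] N₁) (f₂ : M₂ →ₗ[B] N₂) (h₁ : IsBaseChange C f₁) (h₂ : IsBaseChange C f₂)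
    (α : M₁ →ₗ[B] M₂) (β : N₁ →ₗ[C] N₂) (hc : ∀ x, β (f₁ x) = f₂ (α x)) :
    Function.Bijective (α.baseChange C) ↔ Function.Bijective β := by
  have key : ∀ z, β (h₁.equiv z) = h₂.equiv (α.baseChange C z) := by
    intro z
    induction z using TensorProduct.induction_on with
    | zero => simp
    | tmul c x =>
      rw [LinearMap.baseChange_tmul, IsBaseChange.equiv_tmul, IsBaseChange.equiv_tmul, map_smul, hc]
    | add a b ha hb => rw [map_add, map_add, map_add, map_add, ha, hb]
  have key' : (β : N₁ → N₂) ∘ h₁.equiv = h₂.equiv ∘ (α.baseChange C) := funext key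
  rw [← Function.Bijective.of_comp_iff (β : N₁ → N₂) h₁.equiv.bijective, key',
    Function.Bijective.of_comp_iff' h₂.equiv.bijective]

theorem bijective_baseChange_baseChange {k k' : Type u} [CommRing k] [CommRing k'] [Algebra k k']
    {V W : Type u} [AddCommGroup V] [AddCommGroup W] [Module k V] [Module k W]
    (γ : V →ₗ[k] W) (h : Function.Bijective γ) : Function.Bijective (γ.baseChange k') := by
  have := (LinearEquiv.baseChange k k' V W (LinearEquiv.ofBijective γ h)).bijective
  have e : (LinearEquiv.ofBijective γ h).toLinearMap = γ := by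
    ext x
    rfl
  rw [← LinearEquiv.coe_coe, LinearEquiv.coe_baseChange, e] at this
  exact this

theorem bijective_baseChange_of_tower {B B' k k' : Type u} [CommRing B] [CommRing B'] [CommRing k]
    [CommRing k'] [Algebra B B'] [Algebra B k] [Algebra B' k'] [Algebra k k'] [Algebra B k']
    [IsScalarTower B B' k'] [IsScalarTower B k k']
    {M M' : Type u} [AddCommGroup M] [AddCommGroup M'] [Module B M] [Module B' M'] [Module B M']
    [IsScalarTower B B' M'] (g : M →ₗ[B] M') (hg : IsBaseChange B' g)
    {r : ℕ} (α : (Fin r → B) →ₗ[B] M) (α' : (Fin r → B') →ₗ[B'] M')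
    (hα : ∀ v : Fin r → B, α' (fun j => algebraMap B B' (v j)) = g (α v))
    (h : Function.Bijective (α.baseChange k)) : Function.Bijective (α'.baseChange k') := by
  -- step 1 : `α ⊗ k'` is bijective
  have h1 : Function.Bijective ((α.baseChange k).baseChange k') :=
    bijective_baseChange_baseChange _ h
  have h2 : Function.Bijective (α.baseChange k') := by
    refine (bijective_iff_of_isBaseChange (C := k')
      (((TensorProduct.mk k k' (k ⊗[B] (Fin r → B)) 1).restrictScalars B).comp
        (TensorProduct.mk B k (Fin r → B) 1))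
      (((TensorProduct.mk k k' (k ⊗[B] M) 1).restrictScalars B).comp
        (TensorProduct.mk B k M 1))
      (IsBaseChange.comp (TensorProduct.isBaseChange B _ k) (TensorProduct.isBaseChange k _ k'))
      (IsBaseChange.comp (TensorProduct.isBaseChange B _ k) (TensorProduct.isBaseChange k _ k'))
      α ((α.baseChange k).baseChange k') ?_).mpr h1
    intro x
    simp
  -- step 2 : transfer to `α' ⊗ k'`
  have hι : IsBaseChange B' ((Algebra.linearMap B B').compLeft (Fin r)) :=
    (IsBaseChange.linearMap B B').finitePow (Fin r)
  refine (bijective_iff_of_isBaseChange (C := k')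
    (((TensorProduct.mk B' k' (Fin r → B') 1).restrictScalars B).comp
      ((Algebra.linearMap B B').compLeft (Fin r)))
    (((TensorProduct.mk B' k' M' 1).restrictScalars B).comp g)
    (IsBaseChange.comp hι (TensorProduct.isBaseChange B' _ k'))
    (IsBaseChange.comp hg (TensorProduct.isBaseChange B' _ k'))
    α (α'.baseChange k') ?_).mp h2
  intro x
  simp only [LinearMap.coe_comp, LinearMap.coe_restrictScalars, Function.comp_apply,
    TensorProduct.mk_apply, LinearMap.baseChange_tmul]
  congr 1
  exact hα x

theorem bijective_baseChange_residueField {B B' : Type u} [CommRing B] [CommRing B'] [Algebra B B']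
    (P : Ideal B) [P.IsPrime] (P' : Ideal B') [P'.IsPrime] [hP : P'.LiesOver P]
    {M M' : Type u} [AddCommGroup M] [AddCommGroup M'] [Module B M] [Module B' M'] [Module B M']
    [IsScalarTower B B' M'] (g : M →ₗ[B] M') (hg : IsBaseChange B' g)
    {r : ℕ} (α : (Fin r → B) →ₗ[B] M) (α' : (Fin r → B') →ₗ[B'] M')
    (hα : ∀ v : Fin r → B, α' (fun j => algebraMap B B' (v j)) = g (α v))
    (h : Function.Bijective (α.baseChange P.ResidueField)) :
    Function.Bijective (α'.baseChange P'.ResidueField) := by
  letI : Algebra P.ResidueField P'.ResidueField :=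
    (Ideal.ResidueField.mapₐ P P' (Algebra.ofId B B') hP.over).toRingHom.toAlgebra
  haveI : IsScalarTower B P.ResidueField P'.ResidueField :=
    IsScalarTower.of_algebraMap_eq fun x =>
      (AlgHom.commutes (Ideal.ResidueField.mapₐ P P' (Algebra.ofId B B') hP.over) x).symm
  exact bijective_baseChange_of_tower g hg α α' hα h

end Groth.Agent.Lib.helper3.CDevBC
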