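import Mathlib
import Groth.Prelude.Def_FlatCA
import Groth.Agent.Lib.Helper3.CDev1
import Groth.Agent.Lib.Helper3.GIProj1

/-!
# Generic lemmas for transporting complete dévissages (helper3; towards S12243/S12246/S12247)

* `isPrime_map_of_smooth_geomIrred` : for `R → S` smooth with geometrically irreducible fibres,
  `pS` is prime for every prime `p` of `R`.
* `isBaseChange_of_bijective` : a bijective semilinear map over a bijective ring map is a base change.
* `nonempty_quotEquiv_of_coe_eq` : quotients by submodules (over different rings) with the same carrier.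
* `span_range_eq_top` : the image of a base change map spans.
* `nonempty_cokerEquiv_baseChange` : cokernels commute with base change (universal property form).
-/

set_option autoImplicit false
set_option linter.style.haveILetI false
set_option linter.unusedSectionVars false
universe u

open TensorProduct

namespace Groth.Agent.Lib.helper3.CDevBC

open FlatMor

section Prime

variable {R S : Type u} [CommRing R] [CommRing S] [Algebra R S]

theorem isPrime_map_of_smooth_geomIrred [Algebra.Smooth R S] (h : FlatCA.GeomIrredFibres R S)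
    (p : Ideal R) [p.IsPrime] : (p.map (algebraMap R S)).IsPrime := by
  have hgif := GIProj.GIF.of_geomIntegralFibres (CDev.geomIntegralFibres_of_smooth h)
  haveI : IsDomain (p.ResidueField ⊗[R] S) := hgif p.ResidueField
  let φ : S →+* p.ResidueField ⊗[R] S :=
    (Algebra.TensorProduct.includeRight (R := R) (A := p.ResidueField) (B := S)).toRingHom
  have hφ : ∀ s, φ s = (1 : p.ResidueField) ⊗ₜ[R] s := fun s => rfl
  have hker : RingHom.ker φ = p.map (algebraMap R S) := by
    apply le_antisymm
    · intro s hs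
      rw [RingHom.mem_ker, hφ] at hs
      -- injectivity of `(R/p) ⊗ S → κ(p) ⊗ S`
      have hinj : Function.Injective
          ((IsScalarTower.toAlgHom R (R ⧸ p) p.ResidueField).toLinearMap.rTensor S) :=
        Module.Flat.rTensor_preserves_injective_linearMap _
          (Ideal.injective_algebraMap_quotient_residueField p)
      have h0 : ((1 : R ⧸ p) ⊗ₜ[R] s : (R ⧸ p) ⊗[R] S) = 0 := by
        apply hinj
        rw [LinearMap.rTensor_tmul, map_zero]
        simp [hs]
      have h1 := congrArg (TensorProduct.quotTensorEquivQuotSMul S p) h0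
      rw [map_zero] at h1
      have h2 : TensorProduct.quotTensorEquivQuotSMul S p ((1 : R ⧸ p) ⊗ₜ[R] s) =
          Submodule.Quotient.mk s := by
        have := TensorProduct.quotTensorEquivQuotSMul_mk_tmul (M := S) p 1 s
        simpa using this
      rw [h2, Submodule.Quotient.mk_eq_zero, Ideal.smul_top_eq_map] at h1
      exact h1
    · rw [Ideal.map_le_iff_le_comap]
      intro a ha
      rw [Ideal.mem_comap, RingHom.mem_ker, hφ, Algebra.algebraMap_eq_smul_one,
        ← TensorProduct.smul_tmul, Algebra.smul_def, mul_one,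
        Ideal.algebraMap_residueField_eq_zero.mpr ha, TensorProduct.zero_tmul]
  rw [← hker]
  exact RingHom.ker_isPrime φ

end Prime

section Bij

variable {B B' : Type u} [CommRing B] [CommRing B'] [Algebra B B']

theorem isBaseChange_of_bijective (hb : Function.Bijective (algebraMap B B'))
    {M M' : Type u} [AddCommGroup M] [AddCommGroup M'] [Module B M] [Module B' M'] [Module B M']
    [IsScalarTower B B' M'] (g : M →ₗ[B] M') (hg : Function.Bijective g) : IsBaseChange B' g := by
  apply IsBaseChange.of_lift_unique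
  intro Q _ _ _ _ g₀
  let ge := LinearEquiv.ofBijective g hg
  have hsm : ∀ (c : B') (q : Q), ∃ b : B, algebraMap B B' b = c := fun c _ => hb.2 c
  refine ⟨{ toFun := fun m' => g₀ (ge.symm m')
            map_add' := fun x y => by rw [map_add, map_add]
            map_smul' := fun c x => by
              obtain ⟨b, rfl⟩ := hb.2 c
              rw [RingHom.id_apply, algebraMap_smul, algebraMap_smul, map_smul, map_smul] }, ?_, ?_⟩
  · ext m
    show g₀ (ge.symm (g m)) = g₀ m
    congr 1
    exact ge.symm_apply_apply m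
  · intro g'' hg''
    ext m'
    obtain ⟨m, rfl⟩ := hg.2 m'
    show g'' (g m) = g₀ (ge.symm (g m))
    rw [show ge.symm (g m) = m from ge.symm_apply_apply m, ← hg'']
    rfl

theorem span_range_eq_top {M M' : Type u} [AddCommGroup M] [AddCommGroup M'] [Module B M]
    [Module B' M'] [Module B M'] [IsScalarTower B B' M'] (g : M →ₗ[B] M') (hg : IsBaseChange B' g) :
    Submodule.span B' (Set.range g) = ⊤ := by
  rw [eq_top_iff]
  rintro x -
  refine hg.inductionOn x (motive := fun x => x ∈ Submodule.span B' (Set.range g))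
    (Submodule.zero_mem _) (fun m => Submodule.subset_span ⟨m, rfl⟩)
    (fun s n hn => Submodule.smul_mem _ s hn) (fun a b ha hb => Submodule.add_mem _ ha hb)

end Bij

section Quot

theorem nonempty_quotEquiv_of_coe_eq {B B' : Type u} [CommRing B] [CommRing B'] (ρ : B' →+* B)
    {M M₂ : Type u} [AddCommGroup M] [AddCommGroup M₂] [Module B M] [Module B M₂]
    [Module B' M] [Module B' M₂]
    (hM : ∀ (c : B') (m : M), c • m = ρ c • m) (hM₂ : ∀ (c : B') (m : M₂), c • m = ρ c • m)
    (U : Submodule B M) (U' : Submodule B' M) (hU : (U' : Set M) = U) (e : (M ⧸ U) ≃ₗ[B] M₂) :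
    Nonempty ((M ⧸ U') ≃ₗ[B'] M₂) := by
  let φ : M →ₗ[B'] M₂ :=
    { toFun := fun m => e (Submodule.Quotient.mk m)
      map_add' := fun x y => by rw [Submodule.Quotient.mk_add, map_add]
      map_smul' := fun c x => by
        rw [RingHom.id_apply, hM, hM₂, Submodule.Quotient.mk_smul, map_smul] }
  have hmem : ∀ m, m ∈ U' ↔ m ∈ U := fun m => by
    rw [← SetLike.mem_coe, hU, SetLike.mem_coe]
  have hker : LinearMap.ker φ = U' := by
    ext m
    rw [LinearMap.mem_ker, hmem]
    show e (Submodule.Quotient.mk m) = 0 ↔ _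
    rw [e.map_eq_zero_iff, Submodule.Quotient.mk_eq_zero]
  have hsurj : Function.Surjective φ := by
    intro y
    obtain ⟨x, hx⟩ := e.surjective y
    obtain ⟨m, rfl⟩ := Submodule.Quotient.mk_surjective U x
    exact ⟨m, hx⟩
  exact ⟨(Submodule.quotEquivOfEq U' (LinearMap.ker φ) hker.symm).trans
    (φ.quotKerEquivOfSurjective hsurj)⟩

end Quot

section Coker

variable {B B' : Type u} [CommRing B] [CommRing B'] [Algebra B B']
  {M M₂ M' M₂' : Type u} [AddCommGroup M] [AddCommGroup M₂] [AddCommGroup M'] [AddCommGroup M₂']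
  [Module B M] [Module B M₂] [Module B' M'] [Module B' M₂'] [Module B M'] [Module B M₂']
  [IsScalarTower B B' M'] [IsScalarTower B B' M₂']

theorem nonempty_cokerEquiv_baseChange (g : M →ₗ[B] M') (hg : IsBaseChange B' g)
    (g₂ : M₂ →ₗ[B] M₂') (hg₂ : IsBaseChange B' g₂)
    (U : Submodule B M) (e : (M ⧸ U) ≃ₗ[B] M₂) (U' : Submodule B' M')
    (hU' : U' = Submodule.span B' (g '' (U : Set M))) :
    Nonempty ((M' ⧸ U') ≃ₗ[B'] M₂') := by
  -- the map `M' → M₂'`
  let π₀ : M →ₗ[B] M₂' := g₂ ∘ₗ e.toLinearMap ∘ₗ U.mkQ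
  let π' : M' →ₗ[B'] M₂' := hg.lift π₀
  have hπ' : ∀ m, π' (g m) = g₂ (e (Submodule.Quotient.mk m)) := fun m => hg.lift_eq π₀ m
  have hle : U' ≤ LinearMap.ker π' := by
    rw [hU', Submodule.span_le]
    rintro _ ⟨u, hu, rfl⟩
    rw [SetLike.mem_coe, LinearMap.mem_ker, hπ', (Submodule.Quotient.mk_eq_zero U).mpr hu,
      map_zero, map_zero]
  let φ : M' ⧸ U' →ₗ[B'] M₂' := U'.liftQ π' hle
  -- the inverse
  let ψ₁ : M →ₗ[B] M' ⧸ U' := (U'.mkQ.restrictScalars B) ∘ₗ g
  have hψ₁ : U ≤ LinearMap.ker ψ₁ := by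
    intro u hu
    rw [LinearMap.mem_ker]
    show Submodule.Quotient.mk (g u) = 0
    rw [Submodule.Quotient.mk_eq_zero, hU']
    exact Submodule.subset_span ⟨u, hu, rfl⟩
  let ψ₀ : M₂ →ₗ[B] M' ⧸ U' := (U.liftQ ψ₁ hψ₁) ∘ₗ e.symm.toLinearMap
  have hψ₀ : ∀ m, ψ₀ (e (Submodule.Quotient.mk m)) = Submodule.Quotient.mk (g m) := by
    intro m
    show U.liftQ ψ₁ hψ₁ (e.symm (e (Submodule.Quotient.mk m))) = _
    rw [e.symm_apply_apply]
    rfl
  let ψ : M₂' →ₗ[B'] M' ⧸ U' := hg₂.lift ψ₀
  have hψ : ∀ x, ψ (g₂ x) = ψ₀ x := fun x => hg₂.lift_eq ψ₀ x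
  have h1 : φ ∘ₗ ψ = LinearMap.id := by
    apply hg₂.algHom_ext
    intro x
    obtain ⟨y, rfl⟩ := e.surjective x
    obtain ⟨m, rfl⟩ := Submodule.Quotient.mk_surjective U y
    rw [LinearMap.comp_apply, hψ, hψ₀, LinearMap.id_apply]
    show π' (g m) = _
    rw [hπ']
  have h2 : ψ ∘ₗ φ = LinearMap.id := by
    have h3 : (ψ ∘ₗ φ) ∘ₗ U'.mkQ = LinearMap.id ∘ₗ U'.mkQ := by
      apply hg.algHom_ext
      intro m
      rw [LinearMap.comp_apply, LinearMap.comp_apply, LinearMap.comp_apply, LinearMap.id_apply]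
      show ψ (π' (g m)) = Submodule.Quotient.mk (g m)
      rw [hπ', hψ, hψ₀]
    ext x
    exact LinearMap.congr_fun h3 x
  exact ⟨LinearEquiv.ofLinearMap φ ψ h1 h2⟩

end Coker

end Groth.Agent.Lib.helper3.CDevBC
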