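import Mathlib
import Groth.Prelude.Def_FlatCA
import Groth.Agent.Lib.Helper3.CDevBC1
import Groth.Agent.Lib.Helper3.CDevBC2

/-!
# Pre-dévissages (helper3; towards S12243/S12246/S12247)

A `PreDev` is a `FlatCA.CompleteDevissage` in which `p B_i` is only required to be prime for the
genuine indices `i < n`.  `PreDev.toDev` turns it into a complete dévissage with the same `A`, `M`,
`n`, `r`, whose smooth algebras are `BB i = (B i × R) ⧸ K i` where `K i` kills the second factor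
for `i < n` (so `BB i ≅ B i` through `ρ i`) and the first factor for `i ≥ n` (so `BB i ≅ R`).
-/

set_option autoImplicit false
set_option linter.style.haveILetI false
set_option linter.unusedSectionVars false
universe u

open TensorProduct

namespace Groth.Agent.Lib.helper3.CDevBC

open FlatMor FlatCA

open AlgebraicGeometry CategoryTheory in
theorem geomIrred_of_algEquiv {R B B' : Type u} [CommRing R] [CommRing B] [CommRing B']
    [Algebra R B] [Algebra R B'] (e : B ≃ₐ[R] B') (h : GeomIrredFibres R B) :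
    GeomIrredFibres R B' := by
  have h1 : algebraMap R B' = (e : B →+* B').comp (algebraMap R B) := by
    ext r
    exact (e.commutes r).symm
  show GeometricallyIrreducible (Spec.map (CommRingCat.ofHom (algebraMap R B')))
  rw [h1, CommRingCat.ofHom_comp, Spec.map_comp]
  haveI : IsIso (CommRingCat.ofHom (e : B →+* B')) :=
    (e.toRingEquiv.toCommRingCatIso).isIso_hom
  haveI : MorphismProperty.RespectsIso @GeometricallyIrreducible.{u} :=
    MorphismProperty.IsStableUnderBaseChange.respectsIso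
  exact (MorphismProperty.cancel_left_of_respectsIso @GeometricallyIrreducible _ _).mpr h

structure PreDev (R S : Type u) [CommRing R] [CommRing S] [Algebra R S] (N : Type u)
    [AddCommGroup N] [Module S N] (rr : Ideal R) [rr.IsPrime] : Type (u + 1) where
  n : ℕ
  pos : 0 < n
  A : ℕ → Type u
  B : ℕ → Type u
  M : ℕ → Type u
  r : ℕ → ℕ
  [cA : ∀ i, CommRing (A i)] [cB : ∀ i, CommRing (B i)]
  [aRA : ∀ i, Algebra R (A i)] [aRB : ∀ i, Algebra R (B i)]
  [aBA : ∀ i, Algebra (B i) (A i)] [tRBA : ∀ i, IsScalarTower R (B i) (A i)]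
  [aSA : Algebra S (A 0)] [tRSA : IsScalarTower R S (A 0)]
  [aBA' : ∀ i, Algebra (B i) (A (i + 1))] [tRBA' : ∀ i, IsScalarTower R (B i) (A (i + 1))]
  [gM : ∀ i, AddCommGroup (M i)] [mAM : ∀ i, Module (A i) (M i)] [mBM : ∀ i, Module (B i) (M i)]
  [tBAM : ∀ i, IsScalarTower (B i) (A i) (M i)]
  [mRM : ∀ i, Module R (M i)] [tRBM : ∀ i, IsScalarTower R (B i) (M i)]
  [mSM : Module S (M 0)] [tSAM : IsScalarTower S (A 0) (M 0)]
  [mB'M : ∀ i, Module (B i) (M (i + 1))] [tB'AM : ∀ i, IsScalarTower (B i) (A (i + 1)) (M (i + 1))]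
  hp : ∀ i, i < n → (rr.map (algebraMap R (B i))).IsPrime
  α : ∀ i, (Fin (r i) → B i) →ₗ[B i] M i
  surjSA : Function.Surjective (algebraMap S (A 0))
  fpSA : Algebra.FinitePresentation S (A 0)
  surjBA' : ∀ i, i + 1 < n → Function.Surjective (algebraMap (B i) (A (i + 1)))
  fpBA' : ∀ i, i + 1 < n → Algebra.FinitePresentation (B i) (A (i + 1))
  finiteBA : ∀ i, i < n → Module.Finite (B i) (A i)
  smooth : ∀ i, i < n → Algebra.Smooth R (B i)
  geomIrred : ∀ i, i < n → GeomIrredFibres R (B i)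
  finiteM : ∀ i, i < n → Module.Finite (A i) (M i)
  isoN : N ≃ₗ[S] M 0
  isoCoker : ∀ i, i + 1 < n → (M i ⧸ LinearMap.range (α i)) ≃ₗ[B i] M (i + 1)
  fibreIso : ∀ i (h : i < n), haveI := hp i h
    Function.Bijective ((α i).baseChange (rr.map (algebraMap R (B i))).ResidueField)
  cokerLast : Function.Surjective (α (n - 1))

attribute [instance] PreDev.cA PreDev.cB PreDev.aRA PreDev.aRB PreDev.aBA PreDev.tRBA PreDev.aSA
  PreDev.tRSA PreDev.aBA' PreDev.tRBA' PreDev.gM PreDev.mAM PreDev.mBM PreDev.tBAM PreDev.mRM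
  PreDev.tRBM PreDev.mSM PreDev.tSAM PreDev.mB'M PreDev.tB'AM

namespace PreDev

variable {R S : Type u} [CommRing R] [CommRing S] [Algebra R S] {N : Type u}
  [AddCommGroup N] [Module S N] {rr : Ideal R} [rr.IsPrime] (Pd : PreDev R S N rr)

/-- the switch ideal -/
def K (i : ℕ) : Ideal (Pd.B i × R) :=
  if i < Pd.n then Ideal.prod ⊥ ⊤ else Ideal.prod ⊤ ⊥

theorem K_of_lt {i : ℕ} (h : i < Pd.n) : Pd.K i = Ideal.prod ⊥ ⊤ := if_pos h

theorem K_of_not_lt {i : ℕ} (h : ¬ i < Pd.n) : Pd.K i = Ideal.prod ⊤ ⊥ := if_neg h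

/-- the modified smooth algebras -/
def BB (i : ℕ) : Type u := (Pd.B i × R) ⧸ Pd.K i

noncomputable instance instCommRingBB (i : ℕ) : CommRing (Pd.BB i) :=
  inferInstanceAs (CommRing ((Pd.B i × R) ⧸ Pd.K i))

noncomputable instance instAlgebraBB (i : ℕ) : Algebra R (Pd.BB i) :=
  inferInstanceAs (Algebra R ((Pd.B i × R) ⧸ Pd.K i))

/-- the switch map before passing to the quotient -/
noncomputable def ρ₀ (i : ℕ) : Pd.B i × R →ₐ[R] Pd.B i :=
  if i < Pd.n then AlgHom.fst R (Pd.B i) R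
  else (Algebra.ofId R (Pd.B i)).comp (AlgHom.snd R (Pd.B i) R)

theorem ρ₀_of_lt {i : ℕ} (h : i < Pd.n) : Pd.ρ₀ i = AlgHom.fst R (Pd.B i) R := if_pos h

theorem ρ₀_of_not_lt {i : ℕ} (h : ¬ i < Pd.n) :
    Pd.ρ₀ i = (Algebra.ofId R (Pd.B i)).comp (AlgHom.snd R (Pd.B i) R) := if_neg h

theorem K_le_ker (i : ℕ) : ∀ a : Pd.B i × R, a ∈ Pd.K i → Pd.ρ₀ i a = 0 := by
  intro a ha
  by_cases h : i < Pd.n
  · rw [Pd.K_of_lt h, Ideal.mem_prod] at ha
    rw [Pd.ρ₀_of_lt h]
    exact ha.1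
  · rw [Pd.K_of_not_lt h, Ideal.mem_prod] at ha
    rw [Pd.ρ₀_of_not_lt h]
    have h2 : a.2 = 0 := ha.2
    show algebraMap R (Pd.B i) a.2 = 0
    rw [h2, map_zero]

/-- the comparison map `BB i → B i` (an isomorphism for `i < n`). -/
noncomputable def ρ (i : ℕ) : Pd.BB i →ₐ[R] Pd.B i :=
  Ideal.Quotient.liftₐ (Pd.K i) (Pd.ρ₀ i) (Pd.K_le_ker i)

theorem ρ_mk (i : ℕ) (x : Pd.B i × R) :
    Pd.ρ i (Ideal.Quotient.mk (Pd.K i) x : Pd.BB i) = Pd.ρ₀ i x := rfl

theorem ρ_bijective {i : ℕ} (h : i < Pd.n) : Function.Bijective (Pd.ρ i) := by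
  constructor
  · rw [injective_iff_map_eq_zero]
    intro x hx
    obtain ⟨x, rfl⟩ := Ideal.Quotient.mk_surjective (I := Pd.K i) x
    rw [ρ_mk, Pd.ρ₀_of_lt h] at hx
    have hmem : x ∈ Pd.K i := by
      rw [Pd.K_of_lt h, Ideal.mem_prod]
      exact ⟨hx, trivial⟩
    exact (Ideal.Quotient.eq_zero_iff_mem (I := Pd.K i)).mpr hmem
  · intro b
    refine ⟨(Ideal.Quotient.mk (Pd.K i) (b, 0) : Pd.BB i), ?_⟩
    rw [ρ_mk, Pd.ρ₀_of_lt h]
    rfl

/-- the comparison isomorphism for `i < n`. -/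
noncomputable def ρe {i : ℕ} (h : i < Pd.n) : Pd.BB i ≃ₐ[R] Pd.B i :=
  AlgEquiv.ofBijective (Pd.ρ i) (Pd.ρ_bijective h)

theorem ρe_apply {i : ℕ} (h : i < Pd.n) (x : Pd.BB i) : Pd.ρe h x = Pd.ρ i x := rfl

theorem algebraMap_bijective_of_not_lt {i : ℕ} (h : ¬ i < Pd.n) :
    Function.Bijective (algebraMap R (Pd.BB i)) := by
  constructor
  · intro a b hab
    have h1 : Ideal.Quotient.mk (Pd.K i) (algebraMap R (Pd.B i × R) a) =
        Ideal.Quotient.mk (Pd.K i) (algebraMap R (Pd.B i × R) b) := hab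
    rw [Ideal.Quotient.eq, Pd.K_of_not_lt h, Ideal.mem_prod] at h1
    have h2 : a - b = 0 := h1.2
    exact sub_eq_zero.mp h2
  · intro x
    obtain ⟨⟨b, a⟩, rfl⟩ := Ideal.Quotient.mk_surjective (I := Pd.K i) x
    refine ⟨a, ?_⟩
    show Ideal.Quotient.mk (Pd.K i) (algebraMap R (Pd.B i × R) a) = Ideal.Quotient.mk (Pd.K i) (b, a)
    rw [Ideal.Quotient.eq, Pd.K_of_not_lt h, Ideal.mem_prod]
    refine ⟨trivial, ?_⟩
    show a - a ∈ (⊥ : Ideal R)
    rw [sub_self]
    exact Ideal.zero_mem _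

instance hpBB (i : ℕ) : (rr.map (algebraMap R (Pd.BB i))).IsPrime := by
  by_cases h : i < Pd.n
  · haveI := Pd.hp i h
    have key : rr.map (algebraMap R (Pd.BB i)) =
        (rr.map (algebraMap R (Pd.B i))).map ((Pd.ρe h).symm : Pd.B i →+* Pd.BB i) := by
      rw [Ideal.map_map]
      congr 1
      ext r
      exact ((Pd.ρe h).symm.commutes r).symm
    rw [key]
    exact Ideal.map_isPrime_of_equiv (Pd.ρe h).symm.toRingEquiv
  · let e₀ : R ≃+* Pd.BB i :=
      RingEquiv.ofBijective (algebraMap R (Pd.BB i)) (Pd.algebraMap_bijective_of_not_lt h)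
    exact Ideal.map_isPrime_of_equiv e₀

/-! ### pulled back structures -/

noncomputable instance instAlgebraBBA (i : ℕ) : Algebra (Pd.BB i) (Pd.A i) :=
  ((algebraMap (Pd.B i) (Pd.A i)).comp (Pd.ρ i : Pd.BB i →+* Pd.B i)).toAlgebra

theorem algebraMap_BBA (i : ℕ) (b : Pd.BB i) :
    algebraMap (Pd.BB i) (Pd.A i) b = algebraMap (Pd.B i) (Pd.A i) (Pd.ρ i b) := rfl

instance instTowerRBBA (i : ℕ) : IsScalarTower R (Pd.BB i) (Pd.A i) :=
  IsScalarTower.of_algebraMap_eq fun r => by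
    rw [algebraMap_BBA, (Pd.ρ i).commutes, ← IsScalarTower.algebraMap_apply]

noncomputable instance instAlgebraBBA' (i : ℕ) : Algebra (Pd.BB i) (Pd.A (i + 1)) :=
  ((algebraMap (Pd.B i) (Pd.A (i + 1))).comp (Pd.ρ i : Pd.BB i →+* Pd.B i)).toAlgebra

theorem algebraMap_BBA' (i : ℕ) (b : Pd.BB i) :
    algebraMap (Pd.BB i) (Pd.A (i + 1)) b = algebraMap (Pd.B i) (Pd.A (i + 1)) (Pd.ρ i b) := rfl

instance instTowerRBBA' (i : ℕ) : IsScalarTower R (Pd.BB i) (Pd.A (i + 1)) :=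
  IsScalarTower.of_algebraMap_eq fun r => by
    rw [algebraMap_BBA', (Pd.ρ i).commutes, ← IsScalarTower.algebraMap_apply]

noncomputable instance instModuleBBM (i : ℕ) : Module (Pd.BB i) (Pd.M i) :=
  Module.compHom (Pd.M i) (Pd.ρ i : Pd.BB i →+* Pd.B i)

theorem smul_BBM (i : ℕ) (b : Pd.BB i) (m : Pd.M i) : b • m = Pd.ρ i b • m := rfl

instance instTowerBBAM (i : ℕ) : IsScalarTower (Pd.BB i) (Pd.A i) (Pd.M i) :=
  ⟨fun b a m => by
    rw [smul_BBM, Algebra.smul_def, algebraMap_BBA, mul_smul, algebraMap_smul]⟩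

instance instTowerRBBM (i : ℕ) : IsScalarTower R (Pd.BB i) (Pd.M i) :=
  ⟨fun r b m => by
    rw [smul_BBM, smul_BBM, map_smul, smul_assoc]⟩

noncomputable instance instModuleBBM' (i : ℕ) : Module (Pd.BB i) (Pd.M (i + 1)) :=
  Module.compHom (Pd.M (i + 1)) (Pd.ρ i : Pd.BB i →+* Pd.B i)

theorem smul_BBM' (i : ℕ) (b : Pd.BB i) (m : Pd.M (i + 1)) : b • m = Pd.ρ i b • m := rfl

instance instTowerBBAM' (i : ℕ) : IsScalarTower (Pd.BB i) (Pd.A (i + 1)) (Pd.M (i + 1)) :=
  ⟨fun b a m => by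
    rw [smul_BBM', Algebra.smul_def, algebraMap_BBA', mul_smul, algebraMap_smul]⟩

/-- the pulled back maps from finite free modules -/
noncomputable def α' (i : ℕ) : (Fin (Pd.r i) → Pd.BB i) →ₗ[Pd.BB i] Pd.M i where
  toFun v := Pd.α i (fun j => Pd.ρ i (v j))
  map_add' v w := by
    rw [← map_add]
    congr 1
    funext j
    exact map_add _ _ _
  map_smul' c v := by
    rw [RingHom.id_apply, smul_BBM, ← map_smul]
    congr 1
    funext j
    show Pd.ρ i (c * v j) = Pd.ρ i c * Pd.ρ i (v j)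
    exact map_mul _ _ _

theorem α'_apply (i : ℕ) (v : Fin (Pd.r i) → Pd.BB i) :
    Pd.α' i v = Pd.α i (fun j => Pd.ρ i (v j)) := rfl

theorem coe_range_α' {i : ℕ} (h : i < Pd.n) :
    (LinearMap.range (Pd.α' i) : Set (Pd.M i)) = LinearMap.range (Pd.α i) := by
  ext m
  constructor
  · rintro ⟨v, rfl⟩
    exact ⟨_, rfl⟩
  · rintro ⟨v, rfl⟩
    obtain ⟨w, hw⟩ := (Pd.ρ_bijective h).2.comp_left (α := Fin (Pd.r i)) v
    refine ⟨w, ?_⟩
    rw [α'_apply]
    congr 1

theorem coe_span_BB {i : ℕ} (h : i < Pd.n) (s : Set (Pd.M i)) :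
    (Submodule.span (Pd.BB i) s : Set (Pd.M i)) = Submodule.span (Pd.B i) s := by
  ext m
  simp only [SetLike.mem_coe]
  constructor
  · intro hm
    refine Submodule.span_induction (p := fun x _ => x ∈ Submodule.span (Pd.B i) s)
      (fun x hx => Submodule.subset_span hx) (Submodule.zero_mem _)
      (fun x y _ _ hx hy => Submodule.add_mem _ hx hy) (fun c x _ hx => ?_) hm
    rw [smul_BBM]
    exact Submodule.smul_mem _ _ hx
  · intro hm
    refine Submodule.span_induction (p := fun x _ => x ∈ Submodule.span (Pd.BB i) s)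
      (fun x hx => Submodule.subset_span hx) (Submodule.zero_mem _)
      (fun x y _ _ hx hy => Submodule.add_mem _ hx hy) (fun c x _ hx => ?_) hm
    obtain ⟨c', rfl⟩ := (Pd.ρ_bijective h).2 c
    rw [← smul_BBM]
    exact Submodule.smul_mem _ _ hx

theorem fibreIso' {i : ℕ} (h : i < Pd.n) :
    Function.Bijective ((Pd.α' i).baseChange (rr.map (algebraMap R (Pd.BB i))).ResidueField) := by
  haveI := Pd.hp i h
  letI : Algebra (Pd.B i) (Pd.BB i) := ((Pd.ρe h).symm : Pd.B i →+* Pd.BB i).toAlgebra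
  have hb : Function.Bijective (algebraMap (Pd.B i) (Pd.BB i)) := (Pd.ρe h).symm.bijective
  have hρ : ∀ b : Pd.B i, Pd.ρ i (algebraMap (Pd.B i) (Pd.BB i) b) = b :=
    fun b => (Pd.ρe h).apply_symm_apply b
  haveI : IsScalarTower (Pd.B i) (Pd.BB i) (Pd.M i) := ⟨fun b c m => by
    rw [smul_BBM, smul_BBM, Algebra.smul_def, map_mul, hρ, mul_smul]⟩
  haveI : (rr.map (algebraMap R (Pd.BB i))).LiesOver (rr.map (algebraMap R (Pd.B i))) := by
    constructor
    have key : rr.map (algebraMap R (Pd.BB i)) =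
        (rr.map (algebraMap R (Pd.B i))).map (algebraMap (Pd.B i) (Pd.BB i)) := by
      rw [Ideal.map_map]
      congr 1
      ext r
      exact ((Pd.ρe h).symm.commutes r).symm
    rw [key, Ideal.under_def, Ideal.comap_map_of_bijective _ hb]
  refine bijective_baseChange_residueField (rr.map (algebraMap R (Pd.B i)))
    (rr.map (algebraMap R (Pd.BB i))) (LinearMap.id : Pd.M i →ₗ[Pd.B i] Pd.M i)
    (isBaseChange_of_bijective hb _ Function.bijective_id) (Pd.α i) (Pd.α' i) ?_ (Pd.fibreIso i h)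
  intro v
  rw [α'_apply, LinearMap.id_apply]
  congr 1
  funext j
  exact hρ (v j)

/-- the complete dévissage attached to a pre-dévissage. -/
noncomputable def toDev : CompleteDevissage R S N rr where
  n := Pd.n
  pos := Pd.pos
  A := Pd.A
  B := Pd.BB
  M := Pd.M
  r := Pd.r
  α := Pd.α'
  surjSA := Pd.surjSA
  fpSA := Pd.fpSA
  surjBA' := fun i h => (Pd.surjBA' i h).comp (Pd.ρ_bijective (Nat.lt_of_succ_lt h)).2
  fpBA' := fun i h => by
    have h1 : (algebraMap (Pd.B i) (Pd.A (i + 1))).FinitePresentation :=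
      RingHom.finitePresentation_algebraMap.mpr (Pd.fpBA' i h)
    have h2 : (Pd.ρ i : Pd.BB i →+* Pd.B i).FinitePresentation :=
      RingHom.FinitePresentation.of_bijective (Pd.ρ_bijective (Nat.lt_of_succ_lt h))
    exact RingHom.FinitePresentation.comp h1 h2
  finiteBA := fun i h => by
    have h1 : (algebraMap (Pd.B i) (Pd.A i)).Finite :=
      RingHom.finite_algebraMap.mpr (Pd.finiteBA i h)
    have h2 : (Pd.ρ i : Pd.BB i →+* Pd.B i).Finite :=
      RingHom.Finite.of_surjective _ (Pd.ρ_bijective h).2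
    exact RingHom.Finite.comp h1 h2
  smooth := fun i h => by
    haveI := Pd.smooth i h
    exact Algebra.Smooth.of_equiv (Pd.ρe h).symm
  geomIrred := fun i h => geomIrred_of_algEquiv (Pd.ρe h).symm (Pd.geomIrred i h)
  finiteM := Pd.finiteM
  isoN := Pd.isoN
  isoCoker := fun i h => Classical.choice
    (nonempty_quotEquiv_of_coe_eq (Pd.ρ i : Pd.BB i →+* Pd.B i) (fun _ _ => rfl) (fun _ _ => rfl)
      (LinearMap.range (Pd.α i)) (LinearMap.range (Pd.α' i))
      (Pd.coe_range_α' (Nat.lt_of_succ_lt h)) (Pd.isoCoker i h))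
  fibreIso := fun i h => Pd.fibreIso' h
  cokerLast := by
    intro m
    have h : Pd.n - 1 < Pd.n := Nat.sub_one_lt_of_lt Pd.pos
    have h1 : m ∈ (LinearMap.range (Pd.α (Pd.n - 1)) : Set (Pd.M (Pd.n - 1))) := Pd.cokerLast m
    rw [← Pd.coe_range_α' h] at h1
    exact h1

end PreDev

end Groth.Agent.Lib.helper3.CDevBC
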