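import Mathlib

/-!
# Pushout lemmas (helper3; towards S12243)

* `surjective_of_isPushout`, `finitePresentation_of_isPushout`, `finite_of_isPushout`.
* `comap_map_baseChange` : for `B` flat over `R` and `p'` over `p`, `p'(R' ⊗ B) ∩ B = pB`.
-/

set_option autoImplicit false
set_option linter.style.haveILetI false
set_option linter.unusedSectionVars false
universe u

open TensorProduct

namespace Groth.Agent.Lib.helper3.CDevBC

section Push

variable (B B' A A' : Type u) [CommRing B] [CommRing B'] [CommRing A] [CommRing A']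
  [Algebra B B'] [Algebra B A] [Algebra B' A'] [Algebra A A'] [Algebra B A']
  [IsScalarTower B A A'] [IsScalarTower B B' A'] [Algebra.IsPushout B B' A A']

theorem surjective_of_isPushout (h : Function.Surjective (algebraMap B A)) :
    Function.Surjective (algebraMap B' A') := by
  have hbc : IsBaseChange B' (IsScalarTower.toAlgHom B A A').toLinearMap :=
    (inferInstance : Algebra.IsPushout B B' A A').out
  intro x
  refine hbc.inductionOn x (motive := fun x => ∃ b', algebraMap B' A' b' = x) ⟨0, map_zero _⟩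
    ?_ ?_ ?_
  · intro a
    obtain ⟨b, rfl⟩ := h a
    refine ⟨algebraMap B B' b, ?_⟩
    show _ = algebraMap A A' (algebraMap B A b)
    rw [← IsScalarTower.algebraMap_apply, ← IsScalarTower.algebraMap_apply]
  · rintro b' _ ⟨b'', rfl⟩
    exact ⟨b' * b'', by rw [map_mul, Algebra.smul_def]⟩
  · rintro _ _ ⟨a, rfl⟩ ⟨b, rfl⟩
    exact ⟨a + b, map_add _ _ _⟩

theorem finitePresentation_of_isPushout [Algebra.FinitePresentation B A] :
    Algebra.FinitePresentation B' A' :=
  Algebra.FinitePresentation.equiv (Algebra.IsPushout.equiv B B' A A')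

theorem finite_of_isPushout [Module.Finite B A] : Module.Finite B' A' :=
  Module.Finite.equiv (Algebra.IsPushout.equiv B B' A A').toLinearEquiv

end Push

section Flat

variable {R R' B : Type u} [CommRing R] [CommRing R'] [CommRing B] [Algebra R R'] [Algebra R B]

theorem comap_map_baseChange [Module.Flat R B] (p : Ideal R) (p' : Ideal R') [hp : p'.LiesOver p] :
    (p'.map (algebraMap R' (R' ⊗[R] B))).comap
      (Algebra.TensorProduct.includeRight : B →ₐ[R] R' ⊗[R] B).toRingHom =
      p.map (algebraMap R B) := by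
  have hle : p ≤ p'.comap (Algebra.ofId R R') := le_of_eq hp.over
  let ι : R ⧸ p →ₐ[R] R' ⧸ p' := Ideal.quotientMapₐ p' (Algebra.ofId R R') hle
  have hι : Function.Injective ι :=
    Ideal.quotientMap_injective' (H := hle) (le_of_eq hp.over.symm)
  let ψ : R' ⊗[R] B →ₐ[R] (R' ⧸ p') ⊗[R] B :=
    Algebra.TensorProduct.map (Ideal.Quotient.mkₐ R p') (AlgHom.id R B)
  have hψ : p'.map (algebraMap R' (R' ⊗[R] B)) ≤ RingHom.ker ψ.toRingHom := by
    rw [Ideal.map_le_iff_le_comap]
    intro r' hr'
    rw [Ideal.mem_comap, RingHom.mem_ker]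
    show ψ (algebraMap R' (R' ⊗[R] B) r') = 0
    rw [Algebra.TensorProduct.algebraMap_apply]
    show ψ (r' ⊗ₜ[R] (1 : B)) = 0
    rw [Algebra.TensorProduct.map_tmul]
    have : (Ideal.Quotient.mkₐ R p') r' = 0 := Ideal.Quotient.eq_zero_iff_mem.mpr hr'
    rw [this, TensorProduct.zero_tmul]
  apply le_antisymm
  · intro b hb
    rw [Ideal.mem_comap] at hb
    have h0 : ψ ((1 : R') ⊗ₜ[R] b) = 0 := hψ hb
    rw [Algebra.TensorProduct.map_tmul] at h0
    have hinj : Function.Injective (ι.toLinearMap.rTensor B) :=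
      Module.Flat.rTensor_preserves_injective_linearMap _ hι
    have h1 : ((1 : R ⧸ p) ⊗ₜ[R] b : (R ⧸ p) ⊗[R] B) = 0 := by
      apply hinj
      rw [LinearMap.rTensor_tmul, map_zero]
      have h5 : ι.toLinearMap (1 : R ⧸ p) = 1 := map_one ι
      rw [h5]
      simpa using h0
    have h2 := congrArg (TensorProduct.quotTensorEquivQuotSMul B p) h1
    rw [map_zero] at h2
    have h3 : TensorProduct.quotTensorEquivQuotSMul B p ((1 : R ⧸ p) ⊗ₜ[R] b) =
        Submodule.Quotient.mk b := by
      have := TensorProduct.quotTensorEquivQuotSMul_mk_tmul (M := B) p 1 b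
      simpa using this
    rw [h3, Submodule.Quotient.mk_eq_zero, Ideal.smul_top_eq_map] at h2
    exact h2
  · rw [Ideal.map_le_iff_le_comap]
    intro r hr
    rw [Ideal.mem_comap, Ideal.mem_comap]
    have h1 : (Algebra.TensorProduct.includeRight : B →ₐ[R] R' ⊗[R] B).toRingHom
        (algebraMap R B r) = algebraMap R' (R' ⊗[R] B) (algebraMap R R' r) := by
      show (1 : R') ⊗ₜ[R] (algebraMap R B r) = _
      rw [Algebra.TensorProduct.algebraMap_apply, Algebra.algebraMap_eq_smul_one,
        ← TensorProduct.smul_tmul, Algebra.algebraMap_self_apply, Algebra.algebraMap_eq_smul_one]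
    rw [h1]
    refine Ideal.mem_map_of_mem _ ?_
    have : r ∈ p'.under R := hp.over ▸ hr
    exact this

end Flat

end Groth.Agent.Lib.helper3.CDevBC
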