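import Mathlib
import Groth.Prelude.Def_FlatCA
import Groth.Agent.Lib.Helper3.CDevBC3
import Groth.Agent.Lib.Helper3.CDevBC4
import Groth.Agent.Lib.Helper3.CDev4
import Groth.Agent.Lib.Helper3.BijRes4

/-!
# The base-changed families of a complete dévissage (helper3; towards S12243)
-/

set_option autoImplicit false
set_option linter.style.haveILetI false
set_option linter.unusedSectionVars false
universe u

open TensorProduct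

namespace Groth.Agent.Lib.helper3.CDevBC

open FlatMor FlatCA

attribute [local instance] Algebra.TensorProduct.rightAlgebra

section General

theorem isPushout_right (R R' B B' A A' : Type u) [CommRing R] [CommRing R'] [CommRing B]
    [CommRing B'] [CommRing A] [CommRing A'] [Algebra R R']
    [Algebra R B] [Algebra R' B'] [Algebra R B'] [Algebra B B'] [IsScalarTower R R' B']
    [IsScalarTower R B B'] [Algebra.IsPushout R R' B B']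
    [Algebra R A] [Algebra R' A'] [Algebra R A'] [Algebra A A'] [IsScalarTower R R' A']
    [IsScalarTower R A A'] [Algebra.IsPushout R R' A A']
    [Algebra B A] [Algebra B' A'] [Algebra B A'] [IsScalarTower B A A'] [IsScalarTower B B' A']
    [IsScalarTower R B A] [IsScalarTower R' B' A'] : Algebra.IsPushout B B' A A' := by
  haveI : IsScalarTower R B' A' := IsScalarTower.of_algebraMap_eq (fun r => by
    rw [IsScalarTower.algebraMap_apply R R' A', IsScalarTower.algebraMap_apply R' B' A',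
      ← IsScalarTower.algebraMap_apply R R' B'])
  haveI hRB : Algebra.IsPushout R B R' B' := Algebra.IsPushout.symm inferInstance
  have hBA : Algebra.IsPushout B A B' A' :=
    (Algebra.IsPushout.comp_iff R B R' B').mp (Algebra.IsPushout.symm inferInstance)
  exact hBA.symm

end General

namespace BCFam

variable {R S : Type u} [CommRing R] [CommRing S] [Algebra R S] {N : Type u} [AddCommGroup N]
  [Module S N] {p : Ideal R} [p.IsPrime] (𝒟 : CompleteDevissage R S N p)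
  (R' : Type u) [CommRing R'] [Algebra R R']

/-- the base-changed rings carrying the modules -/
abbrev A' (i : ℕ) : Type u := R' ⊗[R] 𝒟.A i

/-- the base-changed smooth algebras -/
abbrev X (i : ℕ) : Type u := R' ⊗[R] 𝒟.B i

/-- `X i → A' i` -/
noncomputable def φ (i : ℕ) : X 𝒟 R' i →ₐ[R'] A' 𝒟 R' i :=
  Algebra.TensorProduct.map (AlgHom.id R' R') (IsScalarTower.toAlgHom R (𝒟.B i) (𝒟.A i))

/-- `X i → A' (i+1)` -/
noncomputable def φ' (i : ℕ) : X 𝒟 R' i →ₐ[R'] A' 𝒟 R' (i + 1) :=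
  Algebra.TensorProduct.map (AlgHom.id R' R') (IsScalarTower.toAlgHom R (𝒟.B i) (𝒟.A (i + 1)))

noncomputable instance instAlgXA (i : ℕ) : Algebra (R' ⊗[R] 𝒟.B i) (R' ⊗[R] 𝒟.A i) :=
  (φ 𝒟 R' i).toRingHom.toAlgebra

theorem algebraMap_XA (i : ℕ) (x : R' ⊗[R] 𝒟.B i) :
    algebraMap (R' ⊗[R] 𝒟.B i) (R' ⊗[R] 𝒟.A i) x = φ 𝒟 R' i x := rfl

instance instTowerRXA (i : ℕ) : IsScalarTower R' (R' ⊗[R] 𝒟.B i) (R' ⊗[R] 𝒟.A i) :=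
  IsScalarTower.of_algebraMap_eq fun r => ((φ 𝒟 R' i).commutes r).symm

noncomputable instance instAlgXA' (i : ℕ) : Algebra (R' ⊗[R] 𝒟.B i) (R' ⊗[R] 𝒟.A (i + 1)) :=
  (φ' 𝒟 R' i).toRingHom.toAlgebra

theorem algebraMap_XA' (i : ℕ) (x : R' ⊗[R] 𝒟.B i) :
    algebraMap (R' ⊗[R] 𝒟.B i) (R' ⊗[R] 𝒟.A (i + 1)) x = φ' 𝒟 R' i x := rfl

instance instTowerRXA' (i : ℕ) : IsScalarTower R' (R' ⊗[R] 𝒟.B i) (R' ⊗[R] 𝒟.A (i + 1)) :=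
  IsScalarTower.of_algebraMap_eq fun r => ((φ' 𝒟 R' i).commutes r).symm

noncomputable instance instAlgBA (i : ℕ) : Algebra (𝒟.B i) (R' ⊗[R] 𝒟.A i) :=
  ((algebraMap (R' ⊗[R] 𝒟.B i) (R' ⊗[R] 𝒟.A i)).comp
    (algebraMap (𝒟.B i) (R' ⊗[R] 𝒟.B i))).toAlgebra

theorem algebraMap_BA (i : ℕ) (b : 𝒟.B i) :
    algebraMap (𝒟.B i) (R' ⊗[R] 𝒟.A i) b = (1 : R') ⊗ₜ[R] algebraMap (𝒟.B i) (𝒟.A i) b := by
  show φ 𝒟 R' i ((1 : R') ⊗ₜ[R] b) = _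
  rw [φ, Algebra.TensorProduct.map_tmul]
  rfl

instance instTowerBXA (i : ℕ) : IsScalarTower (𝒟.B i) (R' ⊗[R] 𝒟.B i) (R' ⊗[R] 𝒟.A i) :=
  IsScalarTower.of_algebraMap_eq fun _ => rfl

instance instTowerBAA (i : ℕ) : IsScalarTower (𝒟.B i) (𝒟.A i) (R' ⊗[R] 𝒟.A i) :=
  IsScalarTower.of_algebraMap_eq fun b => by
    rw [algebraMap_BA]
    rfl

noncomputable instance instAlgBA' (i : ℕ) : Algebra (𝒟.B i) (R' ⊗[R] 𝒟.A (i + 1)) :=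
  ((algebraMap (R' ⊗[R] 𝒟.B i) (R' ⊗[R] 𝒟.A (i + 1))).comp
    (algebraMap (𝒟.B i) (R' ⊗[R] 𝒟.B i))).toAlgebra

theorem algebraMap_BA' (i : ℕ) (b : 𝒟.B i) :
    algebraMap (𝒟.B i) (R' ⊗[R] 𝒟.A (i + 1)) b =
      (1 : R') ⊗ₜ[R] algebraMap (𝒟.B i) (𝒟.A (i + 1)) b := by
  show φ' 𝒟 R' i ((1 : R') ⊗ₜ[R] b) = _
  rw [φ', Algebra.TensorProduct.map_tmul]
  rfl

instance instTowerBXA' (i : ℕ) :
    IsScalarTower (𝒟.B i) (R' ⊗[R] 𝒟.B i) (R' ⊗[R] 𝒟.A (i + 1)) :=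
  IsScalarTower.of_algebraMap_eq fun _ => rfl

instance instTowerBAA' (i : ℕ) : IsScalarTower (𝒟.B i) (𝒟.A (i + 1)) (R' ⊗[R] 𝒟.A (i + 1)) :=
  IsScalarTower.of_algebraMap_eq fun b => by
    rw [algebraMap_BA']
    rfl

instance instPushA (i : ℕ) :
    Algebra.IsPushout (𝒟.B i) (R' ⊗[R] 𝒟.B i) (𝒟.A i) (R' ⊗[R] 𝒟.A i) :=
  isPushout_right R R' (𝒟.B i) (R' ⊗[R] 𝒟.B i) (𝒟.A i) (R' ⊗[R] 𝒟.A i)

instance instPushA' (i : ℕ) :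
    Algebra.IsPushout (𝒟.B i) (R' ⊗[R] 𝒟.B i) (𝒟.A (i + 1)) (R' ⊗[R] 𝒟.A (i + 1)) :=
  isPushout_right R R' (𝒟.B i) (R' ⊗[R] 𝒟.B i) (𝒟.A (i + 1)) (R' ⊗[R] 𝒟.A (i + 1))

/-! ### the modules -/

/-- the base-changed modules -/
def MM (i : ℕ) : Type u := (R' ⊗[R] 𝒟.A i) ⊗[𝒟.A i] 𝒟.M i

noncomputable instance instGrpMM (i : ℕ) : AddCommGroup (MM 𝒟 R' i) :=
  inferInstanceAs (AddCommGroup ((R' ⊗[R] 𝒟.A i) ⊗[𝒟.A i] 𝒟.M i))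

noncomputable instance instModAMM (i : ℕ) : Module (R' ⊗[R] 𝒟.A i) (MM 𝒟 R' i) :=
  inferInstanceAs (Module (R' ⊗[R] 𝒟.A i) ((R' ⊗[R] 𝒟.A i) ⊗[𝒟.A i] 𝒟.M i))

noncomputable instance instModA0MM (i : ℕ) : Module (𝒟.A i) (MM 𝒟 R' i) :=
  inferInstanceAs (Module (𝒟.A i) ((R' ⊗[R] 𝒟.A i) ⊗[𝒟.A i] 𝒟.M i))

instance instTowerAAMM (i : ℕ) : IsScalarTower (𝒟.A i) (R' ⊗[R] 𝒟.A i) (MM 𝒟 R' i) :=
  inferInstanceAs (IsScalarTower (𝒟.A i) (R' ⊗[R] 𝒟.A i) ((R' ⊗[R] 𝒟.A i) ⊗[𝒟.A i] 𝒟.M i))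

/-- the base change maps `M i → MM i` -/
noncomputable def g (i : ℕ) : 𝒟.M i →ₗ[𝒟.A i] MM 𝒟 R' i :=
  TensorProduct.mk (𝒟.A i) (R' ⊗[R] 𝒟.A i) (𝒟.M i) 1

theorem isBaseChange_g (i : ℕ) : IsBaseChange (R' ⊗[R] 𝒟.A i) (g 𝒟 R' i) :=
  TensorProduct.isBaseChange (𝒟.A i) (𝒟.M i) (R' ⊗[R] 𝒟.A i)

noncomputable instance instModXMM (i : ℕ) : Module (R' ⊗[R] 𝒟.B i) (MM 𝒟 R' i) :=
  Module.compHom (MM 𝒟 R' i) (algebraMap (R' ⊗[R] 𝒟.B i) (R' ⊗[R] 𝒟.A i))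

theorem smul_XMM (i : ℕ) (x : R' ⊗[R] 𝒟.B i) (m : MM 𝒟 R' i) :
    x • m = algebraMap (R' ⊗[R] 𝒟.B i) (R' ⊗[R] 𝒟.A i) x • m := rfl

instance instTowerXAMM (i : ℕ) : IsScalarTower (R' ⊗[R] 𝒟.B i) (R' ⊗[R] 𝒟.A i) (MM 𝒟 R' i) :=
  ⟨fun x a m => by rw [smul_XMM, Algebra.smul_def, mul_smul]⟩

noncomputable instance instModRMM (i : ℕ) : Module R' (MM 𝒟 R' i) :=
  Module.compHom (MM 𝒟 R' i) (algebraMap R' (R' ⊗[R] 𝒟.A i))

theorem smul_RMM (i : ℕ) (r : R') (m : MM 𝒟 R' i) :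
    r • m = algebraMap R' (R' ⊗[R] 𝒟.A i) r • m := rfl

instance instTowerRXMM (i : ℕ) : IsScalarTower R' (R' ⊗[R] 𝒟.B i) (MM 𝒟 R' i) :=
  ⟨fun r x m => by
    rw [smul_XMM, smul_RMM, smul_XMM, Algebra.smul_def, map_mul, mul_smul,
      ← IsScalarTower.algebraMap_apply R' (R' ⊗[R] 𝒟.B i) (R' ⊗[R] 𝒟.A i)]⟩

noncomputable instance instModXMM' (i : ℕ) : Module (R' ⊗[R] 𝒟.B i) (MM 𝒟 R' (i + 1)) :=
  Module.compHom (MM 𝒟 R' (i + 1)) (algebraMap (R' ⊗[R] 𝒟.B i) (R' ⊗[R] 𝒟.A (i + 1)))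

theorem smul_XMM' (i : ℕ) (x : R' ⊗[R] 𝒟.B i) (m : MM 𝒟 R' (i + 1)) :
    x • m = algebraMap (R' ⊗[R] 𝒟.B i) (R' ⊗[R] 𝒟.A (i + 1)) x • m := rfl

instance instTowerXAMM' (i : ℕ) :
    IsScalarTower (R' ⊗[R] 𝒟.B i) (R' ⊗[R] 𝒟.A (i + 1)) (MM 𝒟 R' (i + 1)) :=
  ⟨fun x a m => by rw [smul_XMM', Algebra.smul_def, mul_smul]⟩

/-! ### the unprimed smooth algebras acting on the primed modules -/

noncomputable instance instModBMM (i : ℕ) : Module (𝒟.B i) (MM 𝒟 R' i) :=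
  Module.compHom (MM 𝒟 R' i) (algebraMap (𝒟.B i) (R' ⊗[R] 𝒟.B i))

theorem smul_BMM (i : ℕ) (b : 𝒟.B i) (m : MM 𝒟 R' i) :
    b • m = algebraMap (𝒟.B i) (R' ⊗[R] 𝒟.B i) b • m := rfl

instance instTowerBXMM (i : ℕ) : IsScalarTower (𝒟.B i) (R' ⊗[R] 𝒟.B i) (MM 𝒟 R' i) :=
  ⟨fun b x m => by rw [smul_BMM, Algebra.smul_def, mul_smul]⟩

instance instTowerBAMM (i : ℕ) : IsScalarTower (𝒟.B i) (𝒟.A i) (MM 𝒟 R' i) :=
  ⟨fun b a m => by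
    rw [smul_BMM, smul_XMM, ← IsScalarTower.algebraMap_apply (𝒟.B i) (R' ⊗[R] 𝒟.B i),
      IsScalarTower.algebraMap_apply (𝒟.B i) (𝒟.A i) (R' ⊗[R] 𝒟.A i), algebraMap_smul,
      Algebra.smul_def, mul_smul]⟩

noncomputable instance instModBMM' (i : ℕ) : Module (𝒟.B i) (MM 𝒟 R' (i + 1)) :=
  Module.compHom (MM 𝒟 R' (i + 1)) (algebraMap (𝒟.B i) (R' ⊗[R] 𝒟.B i))

theorem smul_BMM' (i : ℕ) (b : 𝒟.B i) (m : MM 𝒟 R' (i + 1)) :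
    b • m = algebraMap (𝒟.B i) (R' ⊗[R] 𝒟.B i) b • m := rfl

instance instTowerBXMM' (i : ℕ) : IsScalarTower (𝒟.B i) (R' ⊗[R] 𝒟.B i) (MM 𝒟 R' (i + 1)) :=
  ⟨fun b x m => by rw [smul_BMM', Algebra.smul_def, mul_smul]⟩

instance instTowerBAMM' (i : ℕ) : IsScalarTower (𝒟.B i) (𝒟.A (i + 1)) (MM 𝒟 R' (i + 1)) :=
  ⟨fun b a m => by
    rw [smul_BMM', smul_XMM', ← IsScalarTower.algebraMap_apply (𝒟.B i) (R' ⊗[R] 𝒟.B i),
      IsScalarTower.algebraMap_apply (𝒟.B i) (𝒟.A (i + 1)) (R' ⊗[R] 𝒟.A (i + 1)), algebraMap_smul,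
      Algebra.smul_def, mul_smul]⟩

/-- `g i` as a base change along `B i → X i`. -/
theorem isBaseChange_g_B (i : ℕ) :
    IsBaseChange (R' ⊗[R] 𝒟.B i) ((g 𝒟 R' i).restrictScalars (𝒟.B i)) :=
  BijRes.isBaseChange_restrictScalars_of_isPushout (𝒟.B i) (R' ⊗[R] 𝒟.B i) (𝒟.A i)
    (R' ⊗[R] 𝒟.A i) (𝒟.M i) (MM 𝒟 R' i) (g 𝒟 R' i) (isBaseChange_g 𝒟 R' i)

/-- `g (i+1)` as a base change along `B i → X i`. -/
theorem isBaseChange_g_B' (i : ℕ) :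
    IsBaseChange (R' ⊗[R] 𝒟.B i) ((g 𝒟 R' (i + 1)).restrictScalars (𝒟.B i)) :=
  BijRes.isBaseChange_restrictScalars_of_isPushout (𝒟.B i) (R' ⊗[R] 𝒟.B i) (𝒟.A (i + 1))
    (R' ⊗[R] 𝒟.A (i + 1)) (𝒟.M (i + 1)) (MM 𝒟 R' (i + 1)) (g 𝒟 R' (i + 1))
    (isBaseChange_g 𝒟 R' (i + 1))


/-! ### the maps from finite free modules -/

/-- the base-changed maps from finite free modules -/
noncomputable def α' (i : ℕ) :
    (Fin (𝒟.r i) → R' ⊗[R] 𝒟.B i) →ₗ[R' ⊗[R] 𝒟.B i] MM 𝒟 R' i :=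
  (Pi.basisFun (R' ⊗[R] 𝒟.B i) (Fin (𝒟.r i))).constr ℕ
    (fun j => g 𝒟 R' i (𝒟.α i (Pi.single j 1)))

theorem α'_apply (i : ℕ) (v : Fin (𝒟.r i) → R' ⊗[R] 𝒟.B i) :
    α' 𝒟 R' i v = ∑ j, v j • g 𝒟 R' i (𝒟.α i (Pi.single j 1)) := by
  simp [α', Module.Basis.constr_apply_fintype]

theorem g_smul_B (i : ℕ) (b : 𝒟.B i) (m : 𝒟.M i) :
    g 𝒟 R' i (b • m) = algebraMap (𝒟.B i) (R' ⊗[R] 𝒟.B i) b • g 𝒟 R' i m :=
  ((g 𝒟 R' i).restrictScalars (𝒟.B i)).map_smul b m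

theorem α'_comp (i : ℕ) (v : Fin (𝒟.r i) → 𝒟.B i) :
    α' 𝒟 R' i (fun j => algebraMap (𝒟.B i) (R' ⊗[R] 𝒟.B i) (v j)) = g 𝒟 R' i (𝒟.α i v) := by
  classical
  have hv : v = ∑ j, v j • (Pi.single j (1 : 𝒟.B i) : Fin (𝒟.r i) → 𝒟.B i) := by
    ext k
    simp [Finset.sum_apply, Pi.single_apply]
  conv_rhs => rw [hv]
  rw [map_sum, map_sum, α'_apply]
  refine Finset.sum_congr rfl fun j _ => ?_
  rw [map_smul, g_smul_B]

theorem range_α' (i : ℕ) : LinearMap.range (α' 𝒟 R' i) =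
    Submodule.span (R' ⊗[R] 𝒟.B i)
      ((((g 𝒟 R' i).restrictScalars (𝒟.B i)) : 𝒟.M i → MM 𝒟 R' i) ''
        (LinearMap.range (𝒟.α i) : Set (𝒟.M i))) := by
  apply le_antisymm
  · rintro _ ⟨v, rfl⟩
    rw [α'_apply]
    refine Submodule.sum_mem _ fun j _ => Submodule.smul_mem _ _ (Submodule.subset_span ?_)
    exact ⟨_, ⟨_, rfl⟩, rfl⟩
  · rw [Submodule.span_le]
    rintro _ ⟨_, ⟨v, rfl⟩, rfl⟩
    exact ⟨_, α'_comp 𝒟 R' i v⟩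

theorem α'_surjective (i : ℕ) (h : Function.Surjective (𝒟.α i)) :
    Function.Surjective (α' 𝒟 R' i) := by
  rw [← LinearMap.range_eq_top, range_α', LinearMap.range_eq_top.mpr h, Submodule.top_coe,
    Set.image_univ]
  exact span_range_eq_top _ (isBaseChange_g_B 𝒟 R' i)

/-! ### the structures over `S'` -/

variable (S' : Type u) [CommRing S'] [Algebra R' S'] [Algebra R S'] [Algebra S S']
  [IsScalarTower R R' S'] [IsScalarTower R S S'] [Algebra.IsPushout R R' S S']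

/-- `S' → A' 0` -/
noncomputable def σ : S' →ₐ[R] R' ⊗[R] 𝒟.A 0 :=
  Algebra.pushoutDesc S' ((Algebra.ofId R' (R' ⊗[R] 𝒟.A 0)).restrictScalars R)
    ((IsScalarTower.toAlgHom R (𝒟.A 0) (R' ⊗[R] 𝒟.A 0)).comp (IsScalarTower.toAlgHom R S (𝒟.A 0)))
    (fun _ _ => mul_comm _ _)

theorem σ_algebraMap_R' (r : R') :
    σ 𝒟 R' S' (algebraMap R' S' r) = algebraMap R' (R' ⊗[R] 𝒟.A 0) r :=
  Algebra.pushoutDesc_left S' _ _ _ r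

theorem σ_algebraMap_S (s : S) :
    σ 𝒟 R' S' (algebraMap S S' s) =
      algebraMap (𝒟.A 0) (R' ⊗[R] 𝒟.A 0) (algebraMap S (𝒟.A 0) s) :=
  Algebra.pushoutDesc_right S' _ _ _ s

noncomputable instance instAlgS'A : Algebra S' (R' ⊗[R] 𝒟.A 0) :=
  (σ 𝒟 R' S').toRingHom.toAlgebra

theorem algebraMap_S'A (x : S') : algebraMap S' (R' ⊗[R] 𝒟.A 0) x = σ 𝒟 R' S' x := rfl

instance instTowerR'S'A : IsScalarTower R' S' (R' ⊗[R] 𝒟.A 0) :=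
  IsScalarTower.of_algebraMap_eq fun r => by
    rw [algebraMap_S'A, σ_algebraMap_R']

noncomputable instance instAlgSA : Algebra S (R' ⊗[R] 𝒟.A 0) :=
  ((algebraMap (𝒟.A 0) (R' ⊗[R] 𝒟.A 0)).comp (algebraMap S (𝒟.A 0))).toAlgebra

instance instTowerSAA : IsScalarTower S (𝒟.A 0) (R' ⊗[R] 𝒟.A 0) :=
  IsScalarTower.of_algebraMap_eq fun _ => rfl

instance instTowerSS'A : IsScalarTower S S' (R' ⊗[R] 𝒟.A 0) :=
  IsScalarTower.of_algebraMap_eq fun s => by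
    rw [algebraMap_S'A, σ_algebraMap_S]
    rfl

instance instPushS : Algebra.IsPushout S S' (𝒟.A 0) (R' ⊗[R] 𝒟.A 0) :=
  isPushout_right R R' S S' (𝒟.A 0) (R' ⊗[R] 𝒟.A 0)

noncomputable instance instModS'MM : Module S' (MM 𝒟 R' 0) :=
  Module.compHom (MM 𝒟 R' 0) (algebraMap S' (R' ⊗[R] 𝒟.A 0))

theorem smul_S'MM (x : S') (m : MM 𝒟 R' 0) :
    x • m = algebraMap S' (R' ⊗[R] 𝒟.A 0) x • m := rfl

instance instTowerS'AMM : IsScalarTower S' (R' ⊗[R] 𝒟.A 0) (MM 𝒟 R' 0) :=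
  ⟨fun x a m => by rw [smul_S'MM, Algebra.smul_def, mul_smul]⟩

noncomputable instance instModSMM : Module S (MM 𝒟 R' 0) :=
  Module.compHom (MM 𝒟 R' 0) (algebraMap S (R' ⊗[R] 𝒟.A 0))

theorem smul_SMM (s : S) (m : MM 𝒟 R' 0) : s • m = algebraMap S (R' ⊗[R] 𝒟.A 0) s • m := rfl

instance instTowerSS'MM : IsScalarTower S S' (MM 𝒟 R' 0) :=
  ⟨fun s x m => by
    rw [smul_SMM, smul_S'MM, smul_S'MM, Algebra.smul_def, map_mul, mul_smul,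
      ← IsScalarTower.algebraMap_apply S S' (R' ⊗[R] 𝒟.A 0)]⟩

instance instTowerSAMM : IsScalarTower S (𝒟.A 0) (MM 𝒟 R' 0) :=
  ⟨fun s a m => by
    rw [smul_SMM, IsScalarTower.algebraMap_apply S (𝒟.A 0) (R' ⊗[R] 𝒟.A 0), algebraMap_smul,
      Algebra.smul_def, mul_smul]⟩

/-- `g 0` as a base change along `S → S'`. -/
theorem isBaseChange_g_S :
    IsBaseChange S' ((g 𝒟 R' 0).restrictScalars S) :=
  BijRes.isBaseChange_restrictScalars_of_isPushout S S' (𝒟.A 0)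
    (R' ⊗[R] 𝒟.A 0) (𝒟.M 0) (MM 𝒟 R' 0) (g 𝒟 R' 0) (isBaseChange_g 𝒟 R' 0)

variable (N' : Type u) [AddCommGroup N'] [Module S' N'] [Module S N'] [IsScalarTower S S' N']
  (f : N →ₗ[S] N') (hf : IsBaseChange S' f)

/-- the identification `N' ≅ MM 0` -/
noncomputable def isoN' : N' ≃ₗ[S'] MM 𝒟 R' 0 :=
  hf.equiv.symm ≪≫ₗ (LinearEquiv.baseChange S S' N (𝒟.M 0) 𝒟.isoN) ≪≫ₗ
    (isBaseChange_g_S 𝒟 R' S').equiv

theorem isoN'_apply (x : N) :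
    isoN' 𝒟 R' S' N' f hf (f x) = g 𝒟 R' 0 (𝒟.isoN x) := by
  rw [isoN', LinearEquiv.trans_apply, LinearEquiv.trans_apply, IsBaseChange.equiv_symm_apply,
    LinearEquiv.baseChange_tmul, IsBaseChange.equiv_tmul, one_smul]
  rfl


/-! ### the pre-dévissage -/

variable (p' : Ideal R') [p'.IsPrime] [hpp : p'.LiesOver p]

theorem hpX (i : ℕ) (h : i < 𝒟.n) : (p'.map (algebraMap R' (R' ⊗[R] 𝒟.B i))).IsPrime := by
  haveI := 𝒟.smooth i h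
  exact isPrime_map_of_smooth_geomIrred
    (CDev.geomIrredFibres_baseChange R' (𝒟.geomIrred i h)) p'

include hpp in
theorem fibreIsoX (i : ℕ) (h : i < 𝒟.n) :
    haveI := hpX 𝒟 R' p' i h
    Function.Bijective ((α' 𝒟 R' i).baseChange
      (p'.map (algebraMap R' (R' ⊗[R] 𝒟.B i))).ResidueField) := by
  haveI := hpX 𝒟 R' p' i h
  haveI := 𝒟.smooth i h
  haveI : (p'.map (algebraMap R' (R' ⊗[R] 𝒟.B i))).LiesOver (p.map (algebraMap R (𝒟.B i))) :=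
    ⟨(comap_map_baseChange (B := 𝒟.B i) p p').symm⟩
  exact bijective_baseChange_residueField (p.map (algebraMap R (𝒟.B i)))
    (p'.map (algebraMap R' (R' ⊗[R] 𝒟.B i))) ((g 𝒟 R' i).restrictScalars (𝒟.B i))
    (isBaseChange_g_B 𝒟 R' i) (𝒟.α i) (α' 𝒟 R' i) (α'_comp 𝒟 R' i) (𝒟.fibreIso i h)

/-- the base-changed pre-dévissage -/
noncomputable def preDev : PreDev R' S' N' p' where
  n := 𝒟.n
  pos := 𝒟.pos
  A := fun i => R' ⊗[R] 𝒟.A i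
  B := fun i => R' ⊗[R] 𝒟.B i
  M := MM 𝒟 R'
  r := 𝒟.r
  hp := hpX 𝒟 R' p'
  α := α' 𝒟 R'
  surjSA := surjective_of_isPushout S S' (𝒟.A 0) (R' ⊗[R] 𝒟.A 0) 𝒟.surjSA
  fpSA := by
    haveI := 𝒟.fpSA
    exact finitePresentation_of_isPushout S S' (𝒟.A 0) (R' ⊗[R] 𝒟.A 0)
  surjBA' := fun i h => surjective_of_isPushout (𝒟.B i) (R' ⊗[R] 𝒟.B i) (𝒟.A (i + 1))
    (R' ⊗[R] 𝒟.A (i + 1)) (𝒟.surjBA' i h)
  fpBA' := fun i h => by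
    haveI := 𝒟.fpBA' i h
    exact finitePresentation_of_isPushout (𝒟.B i) (R' ⊗[R] 𝒟.B i) (𝒟.A (i + 1))
      (R' ⊗[R] 𝒟.A (i + 1))
  finiteBA := fun i h => by
    haveI := 𝒟.finiteBA i h
    exact finite_of_isPushout (𝒟.B i) (R' ⊗[R] 𝒟.B i) (𝒟.A i) (R' ⊗[R] 𝒟.A i)
  smooth := fun i h => by
    haveI := 𝒟.smooth i h
    infer_instance
  geomIrred := fun i h => CDev.geomIrredFibres_baseChange R' (𝒟.geomIrred i h)
  finiteM := fun i h => by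
    haveI := 𝒟.finiteM i h
    exact inferInstanceAs (Module.Finite (R' ⊗[R] 𝒟.A i) ((R' ⊗[R] 𝒟.A i) ⊗[𝒟.A i] 𝒟.M i))
  isoN := isoN' 𝒟 R' S' N' f hf
  isoCoker := fun i h => Classical.choice
    (nonempty_cokerEquiv_baseChange ((g 𝒟 R' i).restrictScalars (𝒟.B i))
      (isBaseChange_g_B 𝒟 R' i) ((g 𝒟 R' (i + 1)).restrictScalars (𝒟.B i))
      (isBaseChange_g_B' 𝒟 R' i) (LinearMap.range (𝒟.α i)) (𝒟.isoCoker i h)
      (LinearMap.range (α' 𝒟 R' i)) (range_α' 𝒟 R' i))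
  fibreIso := fibreIsoX 𝒟 R' p'
  cokerLast := α'_surjective 𝒟 R' (𝒟.n - 1) 𝒟.cokerLast


end BCFam

end Groth.Agent.Lib.helper3.CDevBC
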