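import Mathlib
import Groth.Prelude.Def_FlatCA
import Groth.Agent.Lib.Helper3.CDevBC3

/-!
# Pre-dévissages II: switching the rings `A i` as well (helper3; towards S12246/S12247)

`PreDev.toDev2` : like `PreDev.toDev`, but the rings carrying the modules are replaced too:
`AA i = (A i × TT i) ⧸ KA i` with `TT 0 = R`, `TT (i+1) = BB i`; for `i < n` this is `A i` (through
`π i`), for `i ≥ n` it is `TT i`.  In this way every index of `toDev2` carries primes over `rr`.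
-/

set_option autoImplicit false
set_option linter.style.haveILetI false
set_option linter.unusedSectionVars false
universe u

open TensorProduct

namespace Groth.Agent.Lib.helper3.CDevBC

open FlatMor FlatCA

namespace PreDev

variable {R S : Type u} [CommRing R] [CommRing S] [Algebra R S] {N : Type u}
  [AddCommGroup N] [Module S N] {rr : Ideal R} [rr.IsPrime] (Pd : PreDev R S N rr)

/-- the junk model for the rings carrying the modules -/
def TT : ℕ → Type u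
  | 0 => R
  | (i + 1) => Pd.BB i

noncomputable instance instCommRingTT : ∀ i, CommRing (Pd.TT i)
  | 0 => inferInstanceAs (CommRing R)
  | (i + 1) => inferInstanceAs (CommRing (Pd.BB i))

noncomputable instance instAlgebraTT : ∀ i, Algebra R (Pd.TT i)
  | 0 => inferInstanceAs (Algebra R R)
  | (i + 1) => inferInstanceAs (Algebra R (Pd.BB i))

/-- the map from the junk model to `A i` -/
noncomputable def θ : ∀ i, Pd.TT i →ₐ[R] Pd.A i
  | 0 => Algebra.ofId R (Pd.A 0)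
  | (i + 1) => (IsScalarTower.toAlgHom R (Pd.B i) (Pd.A (i + 1))).comp (Pd.ρ i)

theorem θ_succ (i : ℕ) (x : Pd.BB i) :
    Pd.θ (i + 1) x = algebraMap (Pd.B i) (Pd.A (i + 1)) (Pd.ρ i x) := rfl

/-- the switch ideal for `A` -/
noncomputable def KA (i : ℕ) : Ideal (Pd.A i × Pd.TT i) :=
  if i < Pd.n then Ideal.prod ⊥ ⊤ else Ideal.prod ⊤ ⊥

theorem KA_of_lt {i : ℕ} (h : i < Pd.n) : Pd.KA i = Ideal.prod ⊥ ⊤ := if_pos h

theorem KA_of_not_lt {i : ℕ} (h : ¬ i < Pd.n) : Pd.KA i = Ideal.prod ⊤ ⊥ := if_neg h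

/-- the modified rings carrying the modules -/
def AA (i : ℕ) : Type u := (Pd.A i × Pd.TT i) ⧸ Pd.KA i

noncomputable instance instCommRingAA (i : ℕ) : CommRing (Pd.AA i) :=
  inferInstanceAs (CommRing ((Pd.A i × Pd.TT i) ⧸ Pd.KA i))

noncomputable instance instAlgebraAA (i : ℕ) : Algebra R (Pd.AA i) :=
  inferInstanceAs (Algebra R ((Pd.A i × Pd.TT i) ⧸ Pd.KA i))

/-- the switch map before passing to the quotient -/
noncomputable def π₀ (i : ℕ) : Pd.A i × Pd.TT i →ₐ[R] Pd.A i :=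
  if i < Pd.n then AlgHom.fst R (Pd.A i) (Pd.TT i)
  else (Pd.θ i).comp (AlgHom.snd R (Pd.A i) (Pd.TT i))

theorem π₀_of_lt {i : ℕ} (h : i < Pd.n) : Pd.π₀ i = AlgHom.fst R (Pd.A i) (Pd.TT i) := if_pos h

theorem π₀_of_not_lt {i : ℕ} (h : ¬ i < Pd.n) :
    Pd.π₀ i = (Pd.θ i).comp (AlgHom.snd R (Pd.A i) (Pd.TT i)) := if_neg h

theorem KA_le_ker (i : ℕ) : ∀ a : Pd.A i × Pd.TT i, a ∈ Pd.KA i → Pd.π₀ i a = 0 := by
  intro a ha
  by_cases h : i < Pd.n
  · rw [Pd.KA_of_lt h, Ideal.mem_prod] at ha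
    rw [Pd.π₀_of_lt h]
    exact ha.1
  · rw [Pd.KA_of_not_lt h, Ideal.mem_prod] at ha
    rw [Pd.π₀_of_not_lt h]
    have h2 : a.2 = 0 := ha.2
    show Pd.θ i a.2 = 0
    rw [h2, map_zero]

/-- the comparison map `AA i → A i` (an isomorphism for `i < n`). -/
noncomputable def π (i : ℕ) : Pd.AA i →ₐ[R] Pd.A i :=
  Ideal.Quotient.liftₐ (Pd.KA i) (Pd.π₀ i) (Pd.KA_le_ker i)

theorem π_mk (i : ℕ) (x : Pd.A i × Pd.TT i) :
    Pd.π i (Ideal.Quotient.mk (Pd.KA i) x : Pd.AA i) = Pd.π₀ i x := rfl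

theorem π_bijective {i : ℕ} (h : i < Pd.n) : Function.Bijective (Pd.π i) := by
  constructor
  · rw [injective_iff_map_eq_zero]
    intro x hx
    obtain ⟨x, rfl⟩ := Ideal.Quotient.mk_surjective (I := Pd.KA i) x
    rw [π_mk, Pd.π₀_of_lt h] at hx
    have hmem : x ∈ Pd.KA i := by
      rw [Pd.KA_of_lt h, Ideal.mem_prod]
      exact ⟨hx, trivial⟩
    exact (Ideal.Quotient.eq_zero_iff_mem (I := Pd.KA i)).mpr hmem
  · intro b
    refine ⟨(Ideal.Quotient.mk (Pd.KA i) (b, 0) : Pd.AA i), ?_⟩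
    rw [π_mk, Pd.π₀_of_lt h]
    rfl

/-- the comparison isomorphism for `i < n`. -/
noncomputable def πe {i : ℕ} (h : i < Pd.n) : Pd.AA i ≃ₐ[R] Pd.A i :=
  AlgEquiv.ofBijective (Pd.π i) (Pd.π_bijective h)

theorem πe_apply {i : ℕ} (h : i < Pd.n) (x : Pd.AA i) : Pd.πe h x = Pd.π i x := rfl

/-- the junk projection `AA i → TT i` (an isomorphism for `i ≥ n`). -/
noncomputable def σ {i : ℕ} (h : ¬ i < Pd.n) : Pd.AA i →ₐ[R] Pd.TT i :=
  Ideal.Quotient.liftₐ (Pd.KA i) (AlgHom.snd R (Pd.A i) (Pd.TT i)) (by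
    intro a ha
    rw [Pd.KA_of_not_lt h, Ideal.mem_prod] at ha
    exact ha.2)

theorem σ_mk {i : ℕ} (h : ¬ i < Pd.n) (x : Pd.A i × Pd.TT i) :
    Pd.σ h (Ideal.Quotient.mk (Pd.KA i) x : Pd.AA i) = x.2 := rfl

theorem σ_bijective {i : ℕ} (h : ¬ i < Pd.n) : Function.Bijective (Pd.σ h) := by
  constructor
  · rw [injective_iff_map_eq_zero]
    intro x hx
    obtain ⟨x, rfl⟩ := Ideal.Quotient.mk_surjective (I := Pd.KA i) x
    rw [σ_mk] at hx
    have hmem : x ∈ Pd.KA i := by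
      rw [Pd.KA_of_not_lt h, Ideal.mem_prod]
      exact ⟨trivial, hx⟩
    exact (Ideal.Quotient.eq_zero_iff_mem (I := Pd.KA i)).mpr hmem
  · intro t
    exact ⟨(Ideal.Quotient.mk (Pd.KA i) (0, t) : Pd.AA i), rfl⟩

/-! ### the algebra structures -/

/-- `B i × R → A i × TT i` -/
noncomputable def μ₀ (i : ℕ) : Pd.B i × R →+* Pd.A i × Pd.TT i :=
  RingHom.prodMap (algebraMap (Pd.B i) (Pd.A i)) (algebraMap R (Pd.TT i))

theorem μ₀_K (i : ℕ) : ∀ x : Pd.B i × R, x ∈ Pd.K i →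
    (Ideal.Quotient.mk (Pd.KA i)).comp (Pd.μ₀ i) x = 0 := by
  intro x hx
  rw [RingHom.comp_apply, Ideal.Quotient.eq_zero_iff_mem]
  by_cases h : i < Pd.n
  · rw [Pd.K_of_lt h, Ideal.mem_prod] at hx
    rw [Pd.KA_of_lt h, Ideal.mem_prod]
    refine ⟨?_, trivial⟩
    have h1 : x.1 = 0 := hx.1
    show algebraMap (Pd.B i) (Pd.A i) x.1 ∈ (⊥ : Ideal (Pd.A i))
    rw [h1, map_zero]
    exact Ideal.zero_mem _
  · rw [Pd.K_of_not_lt h, Ideal.mem_prod] at hx
    rw [Pd.KA_of_not_lt h, Ideal.mem_prod]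
    refine ⟨trivial, ?_⟩
    have h2 : x.2 = 0 := hx.2
    show algebraMap R (Pd.TT i) x.2 ∈ (⊥ : Ideal (Pd.TT i))
    rw [h2, map_zero]
    exact Ideal.zero_mem _

/-- `BB i → AA i` -/
noncomputable def μ (i : ℕ) : Pd.BB i →+* Pd.AA i :=
  Ideal.Quotient.lift (Pd.K i) ((Ideal.Quotient.mk (Pd.KA i)).comp (Pd.μ₀ i)) (Pd.μ₀_K i)

theorem μ_mk (i : ℕ) (x : Pd.B i × R) :
    Pd.μ i (Ideal.Quotient.mk (Pd.K i) x : Pd.BB i) =
      (Ideal.Quotient.mk (Pd.KA i) (algebraMap (Pd.B i) (Pd.A i) x.1, algebraMap R (Pd.TT i) x.2) :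
        Pd.AA i) := rfl

theorem π_μ (i : ℕ) (x : Pd.BB i) :
    Pd.π i (Pd.μ i x) = algebraMap (Pd.B i) (Pd.A i) (Pd.ρ i x) := by
  obtain ⟨x, rfl⟩ := Ideal.Quotient.mk_surjective (I := Pd.K i) x
  rw [μ_mk, π_mk, ρ_mk]
  by_cases h : i < Pd.n
  · rw [Pd.π₀_of_lt h, Pd.ρ₀_of_lt h]
    rfl
  · rw [Pd.π₀_of_not_lt h, Pd.ρ₀_of_not_lt h]
    show Pd.θ i (algebraMap R (Pd.TT i) x.2) = algebraMap (Pd.B i) (Pd.A i)
      (algebraMap R (Pd.B i) x.2)
    rw [AlgHom.commutes, ← IsScalarTower.algebraMap_apply]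

theorem μ_algebraMap (i : ℕ) (r : R) :
    Pd.μ i (algebraMap R (Pd.BB i) r) = algebraMap R (Pd.AA i) r := by
  show Pd.μ i (Ideal.Quotient.mk (Pd.K i) (algebraMap R (Pd.B i × R) r) : Pd.BB i) =
    (Ideal.Quotient.mk (Pd.KA i) (algebraMap R (Pd.A i × Pd.TT i) r) : Pd.AA i)
  rw [μ_mk]
  congr 1
  ext
  · show algebraMap (Pd.B i) (Pd.A i) (algebraMap R (Pd.B i) r) = algebraMap R (Pd.A i) r
    rw [← IsScalarTower.algebraMap_apply]
  · rfl

/-- `BB i → AA (i+1)` -/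
noncomputable def μ' (i : ℕ) : Pd.BB i →+* Pd.AA (i + 1) :=
  (Ideal.Quotient.mk (Pd.KA (i + 1))).comp
    (RingHom.prod ((algebraMap (Pd.B i) (Pd.A (i + 1))).comp (Pd.ρ i : Pd.BB i →+* Pd.B i))
      (RingHom.id (Pd.BB i)))

theorem μ'_apply (i : ℕ) (x : Pd.BB i) :
    Pd.μ' i x = (Ideal.Quotient.mk (Pd.KA (i + 1))
      (algebraMap (Pd.B i) (Pd.A (i + 1)) (Pd.ρ i x), x) : Pd.AA (i + 1)) := rfl

theorem π_μ' (i : ℕ) (x : Pd.BB i) :
    Pd.π (i + 1) (Pd.μ' i x) = algebraMap (Pd.B i) (Pd.A (i + 1)) (Pd.ρ i x) := by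
  rw [μ'_apply, π_mk]
  by_cases h : i + 1 < Pd.n
  · rw [Pd.π₀_of_lt h]
    rfl
  · rw [Pd.π₀_of_not_lt h]
    rfl

theorem μ'_algebraMap (i : ℕ) (r : R) :
    Pd.μ' i (algebraMap R (Pd.BB i) r) = algebraMap R (Pd.AA (i + 1)) r := by
  rw [μ'_apply]
  show _ = (Ideal.Quotient.mk (Pd.KA (i + 1)) (algebraMap R (Pd.A (i + 1) × Pd.TT (i + 1)) r) :
    Pd.AA (i + 1))
  congr 1
  ext
  · show algebraMap (Pd.B i) (Pd.A (i + 1)) (Pd.ρ i (algebraMap R (Pd.BB i) r)) =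
      algebraMap R (Pd.A (i + 1)) r
    rw [(Pd.ρ i).commutes, ← IsScalarTower.algebraMap_apply]
  · rfl

noncomputable instance instAlgebraBBAA (i : ℕ) : Algebra (Pd.BB i) (Pd.AA i) := (Pd.μ i).toAlgebra

theorem algebraMap_BBAA (i : ℕ) (x : Pd.BB i) : algebraMap (Pd.BB i) (Pd.AA i) x = Pd.μ i x := rfl

instance instTowerRBBAA (i : ℕ) : IsScalarTower R (Pd.BB i) (Pd.AA i) :=
  IsScalarTower.of_algebraMap_eq fun r => by rw [algebraMap_BBAA, μ_algebraMap]

noncomputable instance instAlgebraBBAA' (i : ℕ) : Algebra (Pd.BB i) (Pd.AA (i + 1)) :=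
  (Pd.μ' i).toAlgebra

theorem algebraMap_BBAA' (i : ℕ) (x : Pd.BB i) :
    algebraMap (Pd.BB i) (Pd.AA (i + 1)) x = Pd.μ' i x := rfl

instance instTowerRBBAA' (i : ℕ) : IsScalarTower R (Pd.BB i) (Pd.AA (i + 1)) :=
  IsScalarTower.of_algebraMap_eq fun r => by rw [algebraMap_BBAA', μ'_algebraMap]

/-- `S → AA 0` -/
noncomputable def ν : S →+* Pd.AA 0 :=
  ((Pd.πe Pd.pos).symm : Pd.A 0 →+* Pd.AA 0).comp (algebraMap S (Pd.A 0))

theorem π_ν (s : S) : Pd.π 0 (Pd.ν s) = algebraMap S (Pd.A 0) s :=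
  (Pd.πe Pd.pos).apply_symm_apply _

noncomputable instance instAlgebraSAA : Algebra S (Pd.AA 0) := Pd.ν.toAlgebra

theorem algebraMap_SAA (s : S) : algebraMap S (Pd.AA 0) s = Pd.ν s := rfl

instance instTowerRSAA : IsScalarTower R S (Pd.AA 0) :=
  IsScalarTower.of_algebraMap_eq fun r => by
    rw [algebraMap_SAA]
    apply (Pd.π_bijective Pd.pos).1
    rw [π_ν, (Pd.π 0).commutes, ← IsScalarTower.algebraMap_apply]

/-! ### the module structures -/

noncomputable instance instModuleAAM (i : ℕ) : Module (Pd.AA i) (Pd.M i) :=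
  Module.compHom (Pd.M i) (Pd.π i : Pd.AA i →+* Pd.A i)

theorem smul_AAM (i : ℕ) (a : Pd.AA i) (m : Pd.M i) : a • m = Pd.π i a • m := rfl

instance instTowerBBAAM (i : ℕ) : IsScalarTower (Pd.BB i) (Pd.AA i) (Pd.M i) :=
  ⟨fun b a m => by
    rw [smul_AAM, smul_BBM, smul_AAM, Algebra.smul_def, map_mul, algebraMap_BBAA, π_μ, mul_smul,
      algebraMap_smul]⟩

instance instTowerSAAM : IsScalarTower S (Pd.AA 0) (Pd.M 0) :=
  ⟨fun s a m => by
    rw [smul_AAM, smul_AAM, Algebra.smul_def, map_mul, algebraMap_SAA, π_ν, mul_smul,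
      algebraMap_smul]⟩

instance instTowerBBAAM' (i : ℕ) : IsScalarTower (Pd.BB i) (Pd.AA (i + 1)) (Pd.M (i + 1)) :=
  ⟨fun b a m => by
    rw [smul_AAM, smul_BBM', smul_AAM, Algebra.smul_def, map_mul, algebraMap_BBAA', π_μ',
      mul_smul, algebraMap_smul]⟩

/-! ### the complete dévissage -/

theorem μ_eq {i : ℕ} (h : i < Pd.n) : Pd.μ i =
    ((Pd.πe h).symm : Pd.A i →+* Pd.AA i).comp
      ((algebraMap (Pd.B i) (Pd.A i)).comp (Pd.ρ i : Pd.BB i →+* Pd.B i)) := by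
  ext x
  apply (Pd.π_bijective h).1
  rw [π_μ]
  exact ((Pd.πe h).apply_symm_apply _).symm

theorem μ'_eq {i : ℕ} (h : i + 1 < Pd.n) : Pd.μ' i =
    ((Pd.πe h).symm : Pd.A (i + 1) →+* Pd.AA (i + 1)).comp
      ((algebraMap (Pd.B i) (Pd.A (i + 1))).comp (Pd.ρ i : Pd.BB i →+* Pd.B i)) := by
  ext x
  apply (Pd.π_bijective h).1
  rw [π_μ']
  exact ((Pd.πe h).apply_symm_apply _).symm

theorem coe_span_AA {i : ℕ} (h : i < Pd.n) (s : Set (Pd.M i)) :
    (Submodule.span (Pd.AA i) s : Set (Pd.M i)) = Submodule.span (Pd.A i) s := by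
  ext m
  simp only [SetLike.mem_coe]
  constructor
  · intro hm
    refine Submodule.span_induction (p := fun x _ => x ∈ Submodule.span (Pd.A i) s)
      (fun x hx => Submodule.subset_span hx) (Submodule.zero_mem _)
      (fun x y _ _ hx hy => Submodule.add_mem _ hx hy) (fun c x _ hx => ?_) hm
    rw [smul_AAM]
    exact Submodule.smul_mem _ _ hx
  · intro hm
    refine Submodule.span_induction (p := fun x _ => x ∈ Submodule.span (Pd.AA i) s)
      (fun x hx => Submodule.subset_span hx) (Submodule.zero_mem _)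
      (fun x y _ _ hx hy => Submodule.add_mem _ hx hy) (fun c x _ hx => ?_) hm
    obtain ⟨c', rfl⟩ := (Pd.π_bijective h).2 c
    rw [← smul_AAM]
    exact Submodule.smul_mem _ _ hx

theorem finiteM_AA {i : ℕ} (h : i < Pd.n) : Module.Finite (Pd.AA i) (Pd.M i) := by
  haveI := Pd.finiteM i h
  obtain ⟨s, hs⟩ := (Module.finite_def (R := Pd.A i) (M := Pd.M i)).mp inferInstance
  refine ⟨⟨s, ?_⟩⟩
  apply SetLike.coe_injective
  rw [Pd.coe_span_AA h, hs]
  rfl

/-- the complete dévissage attached to a pre-dévissage, with both families of rings switched. -/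
noncomputable def toDev2 : CompleteDevissage R S N rr where
  n := Pd.n
  pos := Pd.pos
  A := Pd.AA
  B := Pd.BB
  M := Pd.M
  r := Pd.r
  α := Pd.α'
  surjSA := (Pd.πe Pd.pos).symm.surjective.comp Pd.surjSA
  fpSA := by
    have h1 : (algebraMap S (Pd.A 0)).FinitePresentation :=
      RingHom.finitePresentation_algebraMap.mpr Pd.fpSA
    have h2 : ((Pd.πe Pd.pos).symm : Pd.A 0 →+* Pd.AA 0).FinitePresentation :=
      RingHom.FinitePresentation.of_bijective (Pd.πe Pd.pos).symm.bijective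
    exact RingHom.FinitePresentation.comp h2 h1
  surjBA' := fun i h => by
    show Function.Surjective (Pd.μ' i)
    rw [Pd.μ'_eq h]
    exact (Pd.πe h).symm.surjective.comp
      ((Pd.surjBA' i h).comp (Pd.ρ_bijective (Nat.lt_of_succ_lt h)).2)
  fpBA' := fun i h => by
    have h1 : (algebraMap (Pd.B i) (Pd.A (i + 1))).FinitePresentation :=
      RingHom.finitePresentation_algebraMap.mpr (Pd.fpBA' i h)
    have h2 : (Pd.ρ i : Pd.BB i →+* Pd.B i).FinitePresentation :=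
      RingHom.FinitePresentation.of_bijective (Pd.ρ_bijective (Nat.lt_of_succ_lt h))
    have h3 : ((Pd.πe h).symm : Pd.A (i + 1) →+* Pd.AA (i + 1)).FinitePresentation :=
      RingHom.FinitePresentation.of_bijective (Pd.πe h).symm.bijective
    have h4 : (Pd.μ' i).FinitePresentation := by
      rw [Pd.μ'_eq h]
      exact RingHom.FinitePresentation.comp h3 (RingHom.FinitePresentation.comp h1 h2)
    exact h4
  finiteBA := fun i h => by
    have h1 : (algebraMap (Pd.B i) (Pd.A i)).Finite :=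
      RingHom.finite_algebraMap.mpr (Pd.finiteBA i h)
    have h2 : (Pd.ρ i : Pd.BB i →+* Pd.B i).Finite :=
      RingHom.Finite.of_surjective _ (Pd.ρ_bijective h).2
    have h3 : ((Pd.πe h).symm : Pd.A i →+* Pd.AA i).Finite :=
      RingHom.Finite.of_surjective _ (Pd.πe h).symm.surjective
    have h4 : (Pd.μ i).Finite := by
      rw [Pd.μ_eq h]
      exact RingHom.Finite.comp h3 (RingHom.Finite.comp h1 h2)
    exact h4
  smooth := fun i h => by
    haveI := Pd.smooth i h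
    exact Algebra.Smooth.of_equiv (Pd.ρe h).symm
  geomIrred := fun i h => geomIrred_of_algEquiv (Pd.ρe h).symm (Pd.geomIrred i h)
  finiteM := fun i h => Pd.finiteM_AA h
  isoN := Pd.isoN
  isoCoker := fun i h => Classical.choice
    (nonempty_quotEquiv_of_coe_eq (Pd.ρ i : Pd.BB i →+* Pd.B i) (fun _ _ => rfl) (fun _ _ => rfl)
      (LinearMap.range (Pd.α i)) (LinearMap.range (Pd.α' i))
      (Pd.coe_range_α' (Nat.lt_of_succ_lt h)) (Pd.isoCoker i h))
  fibreIso := fun i h => Pd.fibreIso' h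
  cokerLast := by
    intro m
    have h : Pd.n - 1 < Pd.n := Nat.sub_one_lt_of_lt Pd.pos
    have h1 : m ∈ (LinearMap.range (Pd.α (Pd.n - 1)) : Set (Pd.M (Pd.n - 1))) := Pd.cokerLast m
    rw [← Pd.coe_range_α' h] at h1
    exact h1


end PreDev

end Groth.Agent.Lib.helper3.CDevBC
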