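import Mathlib
import Groth.Prelude.Def_FlatCA
import Groth.Agent.Lib.Helper3.CDevBC6
import Groth.Agent.Lib.Helper3.Shrink4

/-!
# Transport of the point data along an isomorphism of smooth algebras (helper3)

For a bijective `R`-algebra map `ρ : B' → B`:
* `purelyTranscendental_comap`, `smoothRelDim_of_algEquiv`, `locDim_comap`.
-/

set_option autoImplicit false
set_option linter.style.haveILetI false
set_option linter.unusedSectionVars false
universe u

open TensorProduct

namespace Groth.Agent.Lib.helper3.CDevBC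

open FlatMor FlatCA

section Transport

variable {R B B' : Type u} [CommRing R] [CommRing B] [CommRing B'] [Algebra R B] [Algebra R B']
  (ρ : B' →ₐ[R] B)

theorem purelyTranscendental_comap (hρ : Function.Surjective ρ) (rr : Ideal R) [rr.IsPrime]
    (Q : Ideal B) [Q.IsPrime] [hQ : Q.LiesOver rr] (Q' : Ideal B') [Q'.IsPrime]
    [hQ' : Q'.LiesOver rr] (hQQ' : Q' = Q.comap ρ)
    (h : PurelyTranscendental rr Q) : PurelyTranscendental rr Q' := by
  unfold FlatCA.PurelyTranscendental at h ⊢
  letI : Algebra rr.ResidueField Q.ResidueField :=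
    (Ideal.ResidueField.mapₐ rr Q (Algebra.ofId R B) hQ.over).toRingHom.toAlgebra
  letI : Algebra rr.ResidueField Q'.ResidueField :=
    (Ideal.ResidueField.mapₐ rr Q' (Algebra.ofId R B') hQ'.over).toRingHom.toAlgebra
  obtain ⟨ι, x, hx, hadj⟩ := h
  let τ₀ : Q'.ResidueField →ₐ[R] Q.ResidueField := Ideal.ResidueField.mapₐ Q' Q ρ hQQ'
  have hτ₀ : Function.Bijective τ₀ :=
    (RingHom.surjectiveOnStalks_of_surjective (f := (ρ : B' →+* B)) hρ).residueFieldMap_bijective
      Q' Q hQQ'
  let e : Q'.ResidueField ≃+* Q.ResidueField := RingEquiv.ofBijective τ₀ hτ₀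
  have hcomp : (τ₀ : Q'.ResidueField →+* Q.ResidueField).comp
      (Ideal.ResidueField.mapₐ rr Q' (Algebra.ofId R B') hQ'.over).toRingHom =
      (Ideal.ResidueField.mapₐ rr Q (Algebra.ofId R B) hQ.over).toRingHom := by
    apply Ideal.ResidueField.ringHom_ext
    ext r
    show τ₀ ((Ideal.ResidueField.mapₐ rr Q' (Algebra.ofId R B') hQ'.over) (algebraMap R _ r)) =
      (Ideal.ResidueField.mapₐ rr Q (Algebra.ofId R B) hQ.over) (algebraMap R _ r)
    rw [AlgHom.commutes, AlgHom.commutes, AlgHom.commutes]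
  have hcompat : ∀ a : rr.ResidueField,
      (e.symm : Q.ResidueField →+* Q'.ResidueField) (algebraMap rr.ResidueField Q.ResidueField a) =
      algebraMap rr.ResidueField Q'.ResidueField (RingHom.id _ a) := by
    intro a
    rw [RingHom.id_apply]
    apply e.injective
    have h1 : e ((e.symm : Q.ResidueField →+* Q'.ResidueField)
        (algebraMap rr.ResidueField Q.ResidueField a)) =
        algebraMap rr.ResidueField Q.ResidueField a := e.apply_symm_apply _
    rw [h1]
    exact (RingHom.congr_fun hcomp a).symm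
  have := BijRes.purelyTranscendental_transfer (RingHom.id rr.ResidueField)
    Function.surjective_id (e.symm : Q.ResidueField →+* Q'.ResidueField) e.symm.bijective
    hcompat x hx hadj
  exact ⟨ι, _, this.1, this.2⟩

open AlgebraicGeometry CategoryTheory in
theorem smoothRelDim_of_algEquiv (e : B ≃ₐ[R] B') (d : ℕ) (h : SmoothRelDim d R B) :
    SmoothRelDim d R B' := by
  have h1 : algebraMap R B' = (e : B →+* B').comp (algebraMap R B) := by
    ext r
    exact (e.commutes r).symm
  show SmoothOfRelativeDimension d (Spec.map (CommRingCat.ofHom (algebraMap R B')))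
  rw [h1, CommRingCat.ofHom_comp, Spec.map_comp]
  haveI : IsIso (CommRingCat.ofHom (e : B →+* B')) :=
    (e.toRingEquiv.toCommRingCatIso).isIso_hom
  haveI : SmoothOfRelativeDimension d (Spec.map (CommRingCat.ofHom (algebraMap R B))) := h
  have h0 : SmoothOfRelativeDimension (0 + d) (Spec.map (CommRingCat.ofHom (e : B →+* B')) ≫
      Spec.map (CommRingCat.ofHom (algebraMap R B))) := inferInstance
  rw [zero_add] at h0
  exact h0

end Transport

section LocDim

variable {R B B' : Type u} [CommRing R] [CommRing B] [CommRing B'] [Algebra R B] [Algebra R B']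
  (ρ : B' →ₐ[R] B)

theorem locDim_comap (hρ : Function.Bijective ρ) (rr : Ideal R) [rr.IsPrime]
    {M : Type u} [AddCommGroup M] [Module B M] [Module B' M] [Module R M] [IsScalarTower R B M]
    [IsScalarTower R B' M] (hM : ∀ (c : B') (m : M), c • m = ρ c • m) [Module.Finite B M]
    (Q : Ideal B) [Q.IsPrime] [hQ : Q.LiesOver rr] (Q' : Ideal B') [Q'.IsPrime]
    [hQ' : Q'.LiesOver rr] (hQQ' : Q' = Q.comap ρ) (d : ℕ)
    (h : ∃ (x : PrimeSpectrum (rr.Fiber B))
      (hx : x ∈ Module.support (rr.Fiber B) (fiberMod rr B M)),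
      x.asIdeal = fiberIdeal rr Q ∧
      FlatMor.localDim (Module.support (rr.Fiber B) (fiberMod rr B M)) ⟨x, hx⟩ = d) :
    ∃ (x : PrimeSpectrum (rr.Fiber B'))
      (hx : x ∈ Module.support (rr.Fiber B') (fiberMod rr B' M)),
      x.asIdeal = fiberIdeal rr Q' ∧
      FlatMor.localDim (Module.support (rr.Fiber B') (fiberMod rr B' M)) ⟨x, hx⟩ = d := by
  obtain ⟨ξ, hξ, hξq, hloc⟩ := h
  let e : B ≃ₐ[R] B' := (AlgEquiv.ofBijective ρ hρ).symm
  have hρe : ∀ b : B, ρ (e b) = b := fun b => (AlgEquiv.ofBijective ρ hρ).apply_symm_apply b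
  letI : Algebra B B' := (e : B →+* B').toAlgebra
  have halg : ∀ b : B, algebraMap B B' b = e b := fun _ => rfl
  haveI : IsScalarTower B B' M := ⟨fun b c m => by
    rw [hM, hM, Algebra.smul_def, map_mul, halg, hρe, mul_smul]⟩
  have hf : IsBaseChange B' (LinearMap.id : M →ₗ[B] M) :=
    isBaseChange_of_bijective e.bijective _ Function.bijective_id
  let Ψe : rr.Fiber B ≃ₐ[rr.ResidueField] rr.Fiber B' :=
    Algebra.TensorProduct.congr AlgEquiv.refl e
  let Ψ : rr.Fiber B →+* rr.Fiber B' := (Ψe : rr.Fiber B →+* rr.Fiber B')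
  have hΨ : ∀ t : B, Ψ ((1 : rr.ResidueField) ⊗ₜ[R] t) =
      (1 : rr.ResidueField) ⊗ₜ[R] (algebraMap B B' t) := by
    intro t
    show Ψe ((1 : rr.ResidueField) ⊗ₜ[R] t) = _
    simp [Ψe, halg]
  have hΨo : Topology.IsOpenEmbedding (PrimeSpectrum.comap Ψ) :=
    (PrimeSpectrum.isHomeomorph_comap_of_bijective Ψe.bijective).isOpenEmbedding
  haveI := UnivInjAss.fiberIdeal_isPrime rr Q'
  let ξ' : PrimeSpectrum (rr.Fiber B') := ⟨fiberIdeal rr Q', inferInstance⟩
  have hcomap : ξ.asIdeal = ξ'.asIdeal.comap Ψ := by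
    rw [hξq]
    show _ = (fiberIdeal rr Q').comap Ψ
    have h2 := Shrink.comap_comap' rr rr Ψ hΨ (fiberIdeal rr Q')
    rw [Groth.Agent.Lib.helper26.Purity.comap_fiberIdeal rr Q'] at h2
    have h3 : Q'.comap (algebraMap B B') = Q := by
      rw [hQQ']
      ext b
      simp only [Ideal.mem_comap]
      rw [halg, hρe]
    rw [h3] at h2
    rw [← UnivInjGlobal.fiberIdeal_comap rr ((fiberIdeal rr Q').comap Ψ)]
    congr 1
    exact h2.symm
  have hξ' : ξ' ∈ Module.support (rr.Fiber B') (fiberMod rr B' M) := by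
    rw [Shrink.mem_support_comap_iff rr rr (LinearMap.id : M →ₗ[B] M) hf Ψ hΨ ξ']
    have : PrimeSpectrum.comap Ψ ξ' = ξ := by
      apply PrimeSpectrum.ext
      exact hcomap.symm
    rw [this]
    exact hξ
  refine ⟨ξ', hξ', rfl, ?_⟩
  exact (Shrink.localDim_support_eq' rr rr (LinearMap.id : M →ₗ[B] M) hf Ψ hΨ hΨo ξ' hξ' ξ hξ
    hcomap).trans hloc

end LocDim


end Groth.Agent.Lib.helper3.CDevBC
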