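import Mathlib
import Groth.Prelude.Def_FlatCA
import Groth.Agent.Lib.Helper3.CDevBC7

/-!
# Point data on `PreDev.toDev2` (helper3; towards S12246/S12247)

`PreDevAt Pd q` : the data of `FlatCA.CompleteDevissageAt` on the families of a pre-dévissage, only
for the genuine indices.  `PreDevAt.toAt` : the induced `CompleteDevissageAt` on `Pd.toDev2`.
-/

set_option autoImplicit false
set_option linter.style.haveILetI false
set_option linter.unusedSectionVars false
universe u

open TensorProduct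

namespace Groth.Agent.Lib.helper3.CDevBC

open FlatMor FlatCA

section Lies

variable {R S : Type u} [CommRing R] [CommRing S] [Algebra R S]

theorem liesOver_map_of_smooth_geomIrred [Algebra.Smooth R S] (h : FlatCA.GeomIrredFibres R S)
    (p : Ideal R) [p.IsPrime] : (p.map (algebraMap R S)).LiesOver p := by
  have hgif := GIProj.GIF.of_geomIntegralFibres (CDev.geomIntegralFibres_of_smooth h)
  haveI : Nontrivial (p.ResidueField ⊗[R] S) := GIProj.GIF.nontrivial hgif p.ResidueField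
  refine ⟨le_antisymm Ideal.le_comap_map ?_⟩
  intro f hf
  by_contra hfr
  let φ : S →+* p.ResidueField ⊗[R] S :=
    (Algebra.TensorProduct.includeRight (R := R) (A := p.ResidueField) (B := S)).toRingHom
  have hle : p.map (algebraMap R S) ≤ RingHom.ker φ := by
    rw [Ideal.map_le_iff_le_comap]
    intro a ha
    show φ (algebraMap R S a) = 0
    have h1 : φ (algebraMap R S a) = (algebraMap R p.ResidueField a) ⊗ₜ[R] (1 : S) := by
      show (1 : p.ResidueField) ⊗ₜ[R] (algebraMap R S a) = _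
      rw [Algebra.algebraMap_eq_smul_one, ← TensorProduct.smul_tmul, Algebra.algebraMap_eq_smul_one]
    rw [h1, Ideal.algebraMap_residueField_eq_zero.mpr ha, TensorProduct.zero_tmul]
  have h0 : φ (algebraMap R S f) = 0 := hle hf
  have h1 : φ (algebraMap R S f) = (algebraMap R p.ResidueField f) ⊗ₜ[R] (1 : S) := by
    show (1 : p.ResidueField) ⊗ₜ[R] (algebraMap R S f) = _
    rw [Algebra.algebraMap_eq_smul_one, ← TensorProduct.smul_tmul, Algebra.algebraMap_eq_smul_one]
  have hne : algebraMap R p.ResidueField f ≠ 0 := fun h =>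
    hfr (Ideal.algebraMap_residueField_eq_zero.mp h)
  have h2 : (1 : p.ResidueField ⊗[R] S) = 0 := by
    have h3 : (algebraMap R p.ResidueField f)⁻¹ •
        ((algebraMap R p.ResidueField f) ⊗ₜ[R] (1 : S)) = 0 := by
      rw [← h1, h0, smul_zero]
    rw [TensorProduct.smul_tmul', smul_eq_mul, inv_mul_cancel₀ hne] at h3
    exact h3
  exact one_ne_zero h2

theorem eq_of_under_eq_of_bijective (hb : Function.Bijective (algebraMap R S)) (I J : Ideal S)
    (h : I.under R = J.under R) : I = J := by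
  rw [← Ideal.map_comap_of_surjective (algebraMap R S) hb.2 I,
    ← Ideal.map_comap_of_surjective (algebraMap R S) hb.2 J]
  exact congrArg (Ideal.map (algebraMap R S)) h

end Lies

/-- point data on a pre-dévissage (genuine indices only). -/
structure PreDevAt {R S : Type u} [CommRing R] [CommRing S] [Algebra R S] {N : Type u}
    [AddCommGroup N] [Module S N] {rr : Ideal R} [rr.IsPrime] (Pd : PreDev R S N rr)
    (q : Ideal S) [q.IsPrime] where
  qB : ∀ i, Ideal (Pd.B i)
  qA : ∀ i, Ideal (Pd.A i)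
  d : ℕ → ℕ
  hqB : ∀ i, i < Pd.n → (qB i).IsPrime
  hqA : ∀ i, i < Pd.n → (qA i).IsPrime
  overB : ∀ i, i < Pd.n → (qB i).LiesOver rr
  overA : ∀ i, i < Pd.n → (qA i).LiesOver (qB i)
  pureTrans : ∀ i (h : i < Pd.n), haveI := hqB i h; haveI := overB i h
    PurelyTranscendental rr (qB i)
  uniq : ∀ i, i < Pd.n → ∀ (Q : Ideal (Pd.A i)) [Q.IsPrime], Q.LiesOver (qB i) → Q = qA i
  q0 : (qA 0).comap (algebraMap S (Pd.A 0)) = q
  qStep : ∀ i, i + 1 < Pd.n → (qA (i + 1)).comap (algebraMap (Pd.B i) (Pd.A (i + 1))) = qB i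
  relDim : ∀ i, i < Pd.n → SmoothRelDim (d i) R (Pd.B i)
  locDim : ∀ i, i < Pd.n → ∃ (x : PrimeSpectrum (rr.Fiber (Pd.B i)))
    (hx : x ∈ Module.support (rr.Fiber (Pd.B i)) (fiberMod rr (Pd.B i) (Pd.M i))),
    x.asIdeal = fiberIdeal rr (qB i) ∧
    FlatMor.localDim (Module.support (rr.Fiber (Pd.B i)) (fiberMod rr (Pd.B i) (Pd.M i))) ⟨x, hx⟩ =
      d i

namespace PreDev

variable {R S : Type u} [CommRing R] [CommRing S] [Algebra R S] {N : Type u}
  [AddCommGroup N] [Module S N] {rr : Ideal R} [rr.IsPrime] (Pd : PreDev R S N rr)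

/-- the junk primes of `BB i` -/
noncomputable def JB (i : ℕ) : Ideal (Pd.BB i) := rr.map (algebraMap R (Pd.BB i))

instance instPrimeJB (i : ℕ) : (Pd.JB i).IsPrime := Pd.hpBB i

instance instLiesOverJB (i : ℕ) : (Pd.JB i).LiesOver rr := by
  by_cases h : i < Pd.n
  · haveI : Algebra.Smooth R (Pd.BB i) := Pd.toDev2.smooth i h
    have hgi : GeomIrredFibres R (Pd.BB i) := Pd.toDev2.geomIrred i h
    exact liesOver_map_of_smooth_geomIrred (R := R) (S := Pd.BB i) hgi rr
  · constructor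
    exact (Ideal.comap_map_of_bijective _ (Pd.algebraMap_bijective_of_not_lt h)).symm

/-- the junk primes of `TT i` -/
noncomputable def JT : ∀ i, Ideal (Pd.TT i)
  | 0 => rr
  | (i + 1) => Pd.JB i

instance instPrimeJT : ∀ i, (Pd.JT i).IsPrime
  | 0 => inferInstanceAs (rr.IsPrime)
  | (i + 1) => inferInstanceAs ((Pd.JB i).IsPrime)

theorem under_JT : ∀ i, (Pd.JT i).under R = rr
  | 0 => by
    show Ideal.comap (algebraMap R R) rr = rr
    rw [Algebra.algebraMap_self, Ideal.comap_id]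
  | (i + 1) => ((Pd.instLiesOverJB i).over).symm

end PreDev

namespace PreDevAt

variable {R S : Type u} [CommRing R] [CommRing S] [Algebra R S] {N : Type u}
  [AddCommGroup N] [Module S N] {rr : Ideal R} [rr.IsPrime] {Pd : PreDev R S N rr}
  {q : Ideal S} [q.IsPrime] (X : PreDevAt Pd q)

/-- the primes of `BB i` -/
noncomputable def QB (i : ℕ) : Ideal (Pd.BB i) :=
  if i < Pd.n then (X.qB i).comap (Pd.ρ i) else Pd.JB i

/-- the primes of `AA i` -/
noncomputable def QA (i : ℕ) : Ideal (Pd.AA i) :=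
  if h : i < Pd.n then (X.qA i).comap (Pd.π i) else (Pd.JT i).comap (Pd.σ h)

theorem QB_of_lt {i : ℕ} (h : i < Pd.n) : X.QB i = (X.qB i).comap (Pd.ρ i) := if_pos h

theorem QB_of_not_lt {i : ℕ} (h : ¬ i < Pd.n) : X.QB i = Pd.JB i := if_neg h

theorem QA_of_lt {i : ℕ} (h : i < Pd.n) : X.QA i = (X.qA i).comap (Pd.π i) := dif_pos h

theorem QA_of_not_lt {i : ℕ} (h : ¬ i < Pd.n) : X.QA i = (Pd.JT i).comap (Pd.σ h) := dif_neg h

instance instPrimeQB (i : ℕ) : (X.QB i).IsPrime := by
  by_cases h : i < Pd.n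
  · rw [X.QB_of_lt h]
    haveI := X.hqB i h
    infer_instance
  · rw [X.QB_of_not_lt h]
    infer_instance

instance instPrimeQA (i : ℕ) : (X.QA i).IsPrime := by
  by_cases h : i < Pd.n
  · rw [X.QA_of_lt h]
    haveI := X.hqA i h
    infer_instance
  · rw [X.QA_of_not_lt h]
    infer_instance

theorem under_comap_ρ (i : ℕ) (Q : Ideal (Pd.B i)) :
    (Q.comap (Pd.ρ i)).under R = Q.under R := by
  ext r
  simp only [Ideal.under_def, Ideal.mem_comap]
  rw [(Pd.ρ i).commutes]

instance instLiesOverQB (i : ℕ) : (X.QB i).LiesOver rr := by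
  by_cases h : i < Pd.n
  · constructor
    rw [X.QB_of_lt h, under_comap_ρ]
    exact (X.overB i h).over
  · rw [X.QB_of_not_lt h]
    infer_instance

instance instLiesOverQA (i : ℕ) : (X.QA i).LiesOver (X.QB i) := by
  by_cases h : i < Pd.n
  · constructor
    rw [X.QB_of_lt h, X.QA_of_lt h]
    ext x
    simp only [Ideal.under_def, Ideal.mem_comap]
    rw [PreDev.algebraMap_BBAA, PreDev.π_μ, (X.overA i h).over]
    rfl
  · constructor
    apply eq_of_under_eq_of_bijective (Pd.algebraMap_bijective_of_not_lt h)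
    have e1 : ((X.QA i).under (Pd.BB i)).under R = (X.QA i).under R := Ideal.under_under _
    have e2 : (X.QA i).under R = rr := by
      rw [X.QA_of_not_lt h]
      have e4 : ((Pd.JT i).comap (Pd.σ h)).under R = (Pd.JT i).under R := by
        ext r
        simp only [Ideal.under_def, Ideal.mem_comap]
        rw [(Pd.σ h).commutes]
      rw [e4, Pd.under_JT]
    have e3 : (X.QB i).under R = rr := (X.instLiesOverQB i).over.symm
    rw [e3, e1, e2]

theorem uniq_aux {i : ℕ} (h : i < Pd.n) (Q : Ideal (Pd.AA i)) [Q.IsPrime]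
    (hQ : Q.LiesOver (X.QB i)) : Q = X.QA i := by
  haveI := X.hqA i h
  have hQ₀ : (Q.comap ((Pd.πe h).symm : Pd.A i →+* Pd.AA i)).LiesOver (X.qB i) := by
    constructor
    ext b
    obtain ⟨x, rfl⟩ := (Pd.ρ_bijective h).2 b
    simp only [Ideal.under_def, Ideal.mem_comap]
    have h1 : ((Pd.πe h).symm : Pd.A i →+* Pd.AA i) (algebraMap (Pd.B i) (Pd.A i) (Pd.ρ i x)) =
        algebraMap (Pd.BB i) (Pd.AA i) x := by
      rw [PreDev.algebraMap_BBAA, Pd.μ_eq h]
      rfl
    rw [h1]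
    have h2 : x ∈ Q.under (Pd.BB i) ↔ algebraMap (Pd.BB i) (Pd.AA i) x ∈ Q := Iff.rfl
    rw [← h2, ← hQ.over, X.QB_of_lt h]
    rfl
  have h3 := X.uniq i h (Q.comap ((Pd.πe h).symm : Pd.A i →+* Pd.AA i)) hQ₀
  rw [X.QA_of_lt h, ← h3]
  ext a
  simp only [Ideal.mem_comap]
  have h4 : ((Pd.πe h).symm : Pd.A i →+* Pd.AA i) (Pd.π i a) = a :=
    (Pd.πe h).symm_apply_apply a
  rw [h4]

theorem q0_aux : (X.QA 0).comap (algebraMap S (Pd.AA 0)) = q := by
  refine Eq.trans ?_ X.q0
  rw [X.QA_of_lt Pd.pos]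
  ext s
  simp only [Ideal.mem_comap]
  rw [PreDev.algebraMap_SAA, Pd.π_ν]

theorem qStep_aux {i : ℕ} (h : i + 1 < Pd.n) :
    (X.QA (i + 1)).comap (algebraMap (Pd.BB i) (Pd.AA (i + 1))) = X.QB i := by
  rw [X.QA_of_lt h, X.QB_of_lt (Nat.lt_of_succ_lt h)]
  have h1 := X.qStep i h
  ext x
  simp only [Ideal.mem_comap]
  rw [PreDev.algebraMap_BBAA', Pd.π_μ', ← h1]
  rfl

theorem locDim_aux {i : ℕ} (h : i < Pd.n) :
    ∃ (x : PrimeSpectrum (rr.Fiber (Pd.BB i)))
      (hx : x ∈ Module.support (rr.Fiber (Pd.BB i)) (fiberMod rr (Pd.BB i) (Pd.M i))),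
      x.asIdeal = fiberIdeal rr (X.QB i) ∧
      FlatMor.localDim (Module.support (rr.Fiber (Pd.BB i)) (fiberMod rr (Pd.BB i) (Pd.M i)))
        ⟨x, hx⟩ = X.d i := by
  haveI := X.hqB i h
  haveI := X.overB i h
  haveI := Pd.finiteBA i h
  haveI := Pd.finiteM i h
  haveI : Module.Finite (Pd.B i) (Pd.M i) := Module.Finite.trans (Pd.A i) (Pd.M i)
  exact locDim_comap (M := Pd.M i) (Pd.ρ i) (Pd.ρ_bijective h) rr (fun _ _ => rfl) (X.qB i)
    (X.QB i) (X.QB_of_lt h) (X.d i) (X.locDim i h)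

/-- the induced point data on `Pd.toDev2`. -/
noncomputable def toAt : CompleteDevissageAt R S N rr q Pd.toDev2 where
  qB := X.QB
  qA := X.QA
  hqB := X.instPrimeQB
  hqA := X.instPrimeQA
  overB := X.instLiesOverQB
  overA := X.instLiesOverQA
  pureTrans := fun i h => by
    haveI := X.hqB i h
    haveI := X.overB i h
    exact purelyTranscendental_comap (Pd.ρ i) (Pd.ρ_bijective h).2 rr (X.qB i) (X.QB i)
      (X.QB_of_lt h) (X.pureTrans i h)
  uniq := fun i h Q hQp hQ => @uniq_aux _ _ _ _ _ _ _ _ _ _ _ _ _ X i h Q hQp hQ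
  q0 := X.q0_aux
  qStep := fun i h => X.qStep_aux h
  d := X.d
  relDim := fun i h => smoothRelDim_of_algEquiv (Pd.ρe h).symm (X.d i) (X.relDim i h)
  locDim := fun i h => X.locDim_aux h

theorem toAt_d : X.toAt.d = X.d := rfl

theorem toAt_qB {i : ℕ} (h : i < Pd.n) : X.toAt.qB i = (X.qB i).comap (Pd.ρ i) := X.QB_of_lt h

theorem toAt_qA {i : ℕ} (h : i < Pd.n) : X.toAt.qA i = (X.qA i).comap (Pd.π i) := X.QA_of_lt h

end PreDevAt


end Groth.Agent.Lib.helper3.CDevBC
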