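import Mathlib
import Groth.Prelude.Def_FlatCA
import Groth.Agent.Lib.Helper3.CDevBC5
import Groth.Agent.Lib.Helper3.CDevBC8
import Groth.Agent.Lib.Helper3.Shrink5

/-!
# The localized families of a complete dévissage (helper3; towards S12246/S12247)
-/

set_option autoImplicit false
set_option linter.style.haveILetI false
set_option linter.unusedSectionVars false
set_option backward.isDefEq.respectTransparency.types true
universe u

open TensorProduct

namespace Groth.Agent.Lib.helper3.CDevBC

open FlatMor FlatCA

section AwayMap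

variable {A T : Type u} [CommRing A] [CommRing T] [Algebra A T]

/-- the map between localizations away from elements -/
noncomputable def awayMap (x : A) (y : T) (h : ∃ k c, y ^ k = algebraMap A T x * c) :
    Localization.Away x →+* Localization.Away y :=
  IsLocalization.Away.lift x (g := (algebraMap T (Localization.Away y)).comp (algebraMap A T))
    (Shrink.isUnit_of_dvd_pow (T := Localization.Away y) y (algebraMap A T x)
      (IsLocalization.Away.algebraMap_isUnit y) h)

theorem awayMap_algebraMap (x : A) (y : T) (h : ∃ k c, y ^ k = algebraMap A T x * c) (r : A) :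
    awayMap x y h (algebraMap A (Localization.Away x) r) =
      algebraMap T (Localization.Away y) (algebraMap A T r) :=
  IsLocalization.Away.lift_eq x _ r

theorem away_ringHom_ext {x : A} {W : Type u} [CommRing W] (f₁ f₂ : Localization.Away x →+* W)
    (h : ∀ r : A, f₁ (algebraMap A _ r) = f₂ (algebraMap A _ r)) : f₁ = f₂ :=
  IsLocalization.ringHom_ext (Submonoid.powers x) (RingHom.ext h)

end AwayMap

/-- data of a standard shrinking of a complete dévissage -/
structure LocData {R S : Type u} [CommRing R] [CommRing S] [Algebra R S] {N : Type u}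
    [AddCommGroup N] [Module S N] {p : Ideal R} [p.IsPrime] (𝒟 : CompleteDevissage R S N p) where
  g : R
  hX : S
  b : ∀ i, 𝒟.B i
  hgb : ∀ i, ∃ k c, (b i) ^ k = algebraMap R (𝒟.B i) g * c
  hgX : ∃ k c, hX ^ k = algebraMap R S g * c
  hbb : ∀ i, ∃ k c, (algebraMap (𝒟.B (i + 1)) (𝒟.A (i + 1)) (b (i + 1))) ^ k =
    algebraMap (𝒟.B i) (𝒟.A (i + 1)) (b i) * c
  hXb : ∃ k c, (algebraMap (𝒟.B 0) (𝒟.A 0) (b 0)) ^ k = algebraMap S (𝒟.A 0) hX * c
  hbb' : ∀ i, i + 1 < 𝒟.n → ∃ k c, (algebraMap (𝒟.B i) (𝒟.A (i + 1)) (b i)) ^ k =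
    algebraMap (𝒟.B (i + 1)) (𝒟.A (i + 1)) (b (i + 1)) * c
  hbX : ∃ k c, (algebraMap S (𝒟.A 0) hX) ^ k = algebraMap (𝒟.B 0) (𝒟.A 0) (b 0) * c

namespace LocData

variable {R S : Type u} [CommRing R] [CommRing S] [Algebra R S] {N : Type u} [AddCommGroup N]
  [Module S N] {p : Ideal R} [p.IsPrime] {𝒟 : CompleteDevissage R S N p} (L : LocData 𝒟)

/-- the elements of `A i` -/
abbrev a (i : ℕ) : 𝒟.A i := algebraMap (𝒟.B i) (𝒟.A i) (L.b i)

theorem hga (i : ℕ) : ∃ k c, (L.a i) ^ k = algebraMap R (𝒟.A i) L.g * c := by
  obtain ⟨k, c, hk⟩ := L.hgb i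
  refine ⟨k, algebraMap (𝒟.B i) (𝒟.A i) c, ?_⟩
  rw [a, ← map_pow, hk, map_mul, ← IsScalarTower.algebraMap_apply]

theorem hba (i : ℕ) : ∃ k c, (L.a i) ^ k = algebraMap (𝒟.B i) (𝒟.A i) (L.b i) * c :=
  ⟨1, 1, by rw [pow_one, mul_one, a]⟩

/-! ### rings -/

noncomputable instance instAlgRX (i : ℕ) :
    Algebra (Localization.Away L.g) (Localization.Away (L.b i)) :=
  (awayMap L.g (L.b i) (L.hgb i)).toAlgebra

theorem algebraMap_RX (i : ℕ) (x : Localization.Away L.g) :
    algebraMap (Localization.Away L.g) (Localization.Away (L.b i)) x =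
      awayMap L.g (L.b i) (L.hgb i) x := rfl

instance instTowerRRX (i : ℕ) :
    IsScalarTower R (Localization.Away L.g) (Localization.Away (L.b i)) :=
  IsScalarTower.of_algebraMap_eq fun r => by
    rw [algebraMap_RX, awayMap_algebraMap, ← IsScalarTower.algebraMap_apply]

noncomputable instance instAlgRA (i : ℕ) :
    Algebra (Localization.Away L.g) (Localization.Away (L.a i)) :=
  (awayMap L.g (L.a i) (L.hga i)).toAlgebra

theorem algebraMap_RA (i : ℕ) (x : Localization.Away L.g) :
    algebraMap (Localization.Away L.g) (Localization.Away (L.a i)) x =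
      awayMap L.g (L.a i) (L.hga i) x := rfl

instance instTowerRRA (i : ℕ) :
    IsScalarTower R (Localization.Away L.g) (Localization.Away (L.a i)) :=
  IsScalarTower.of_algebraMap_eq fun r => by
    rw [algebraMap_RA, awayMap_algebraMap, ← IsScalarTower.algebraMap_apply]

noncomputable instance instAlgXA (i : ℕ) :
    Algebra (Localization.Away (L.b i)) (Localization.Away (L.a i)) :=
  (awayMap (L.b i) (L.a i) (L.hba i)).toAlgebra

theorem algebraMap_XA (i : ℕ) (x : Localization.Away (L.b i)) :
    algebraMap (Localization.Away (L.b i)) (Localization.Away (L.a i)) x =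
      awayMap (L.b i) (L.a i) (L.hba i) x := rfl

instance instTowerBXA (i : ℕ) :
    IsScalarTower (𝒟.B i) (Localization.Away (L.b i)) (Localization.Away (L.a i)) :=
  IsScalarTower.of_algebraMap_eq fun r => by
    rw [algebraMap_XA, awayMap_algebraMap, ← IsScalarTower.algebraMap_apply]

instance instTowerRXA (i : ℕ) :
    IsScalarTower (Localization.Away L.g) (Localization.Away (L.b i))
      (Localization.Away (L.a i)) := by
  refine IsScalarTower.of_algebraMap_eq' ?_
  apply away_ringHom_ext
  intro r
  rw [RingHom.comp_apply, ← IsScalarTower.algebraMap_apply R (Localization.Away L.g)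
      (Localization.Away (L.a i)),
    ← IsScalarTower.algebraMap_apply R (Localization.Away L.g) (Localization.Away (L.b i)),
    IsScalarTower.algebraMap_apply R (𝒟.B i) (Localization.Away (L.b i)),
    ← IsScalarTower.algebraMap_apply (𝒟.B i) (Localization.Away (L.b i))
      (Localization.Away (L.a i)),
    ← IsScalarTower.algebraMap_apply R (𝒟.B i) (Localization.Away (L.a i))]

noncomputable instance instAlgXA' (i : ℕ) :
    Algebra (Localization.Away (L.b i)) (Localization.Away (L.a (i + 1))) :=
  (awayMap (L.b i) (L.a (i + 1)) (L.hbb i)).toAlgebra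

theorem algebraMap_XA' (i : ℕ) (x : Localization.Away (L.b i)) :
    algebraMap (Localization.Away (L.b i)) (Localization.Away (L.a (i + 1))) x =
      awayMap (L.b i) (L.a (i + 1)) (L.hbb i) x := rfl

instance instTowerBXA' (i : ℕ) :
    IsScalarTower (𝒟.B i) (Localization.Away (L.b i)) (Localization.Away (L.a (i + 1))) :=
  IsScalarTower.of_algebraMap_eq fun r => by
    rw [algebraMap_XA', awayMap_algebraMap, ← IsScalarTower.algebraMap_apply]

instance instTowerRXA' (i : ℕ) :
    IsScalarTower (Localization.Away L.g) (Localization.Away (L.b i))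
      (Localization.Away (L.a (i + 1))) := by
  refine IsScalarTower.of_algebraMap_eq' ?_
  apply away_ringHom_ext
  intro r
  rw [RingHom.comp_apply, ← IsScalarTower.algebraMap_apply R (Localization.Away L.g)
      (Localization.Away (L.a (i + 1))),
    ← IsScalarTower.algebraMap_apply R (Localization.Away L.g) (Localization.Away (L.b i)),
    IsScalarTower.algebraMap_apply R (𝒟.B i) (Localization.Away (L.b i)),
    ← IsScalarTower.algebraMap_apply (𝒟.B i) (Localization.Away (L.b i))
      (Localization.Away (L.a (i + 1))),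
    ← IsScalarTower.algebraMap_apply R (𝒟.B i) (Localization.Away (L.a (i + 1)))]

noncomputable instance instAlgRS : Algebra (Localization.Away L.g) (Localization.Away L.hX) :=
  (awayMap L.g L.hX L.hgX).toAlgebra

theorem algebraMap_RS (x : Localization.Away L.g) :
    algebraMap (Localization.Away L.g) (Localization.Away L.hX) x =
      awayMap L.g L.hX L.hgX x := rfl

instance instTowerRRS : IsScalarTower R (Localization.Away L.g) (Localization.Away L.hX) :=
  IsScalarTower.of_algebraMap_eq fun r => by
    rw [algebraMap_RS, awayMap_algebraMap, ← IsScalarTower.algebraMap_apply]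

noncomputable instance instAlgSA : Algebra (Localization.Away L.hX) (Localization.Away (L.a 0)) :=
  (awayMap L.hX (L.a 0) L.hXb).toAlgebra

theorem algebraMap_SA (x : Localization.Away L.hX) :
    algebraMap (Localization.Away L.hX) (Localization.Away (L.a 0)) x =
      awayMap L.hX (L.a 0) L.hXb x := rfl

instance instTowerSSA : IsScalarTower S (Localization.Away L.hX) (Localization.Away (L.a 0)) :=
  IsScalarTower.of_algebraMap_eq fun r => by
    rw [algebraMap_SA, awayMap_algebraMap, ← IsScalarTower.algebraMap_apply]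

instance instTowerRSA :
    IsScalarTower (Localization.Away L.g) (Localization.Away L.hX) (Localization.Away (L.a 0)) := by
  refine IsScalarTower.of_algebraMap_eq' ?_
  apply away_ringHom_ext
  intro r
  rw [RingHom.comp_apply, ← IsScalarTower.algebraMap_apply R (Localization.Away L.g)
      (Localization.Away (L.a 0)),
    ← IsScalarTower.algebraMap_apply R (Localization.Away L.g) (Localization.Away L.hX),
    IsScalarTower.algebraMap_apply R S (Localization.Away L.hX),
    ← IsScalarTower.algebraMap_apply S (Localization.Away L.hX) (Localization.Away (L.a 0)),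
    ← IsScalarTower.algebraMap_apply R S (Localization.Away (L.a 0))]

end LocData

namespace LocData

variable {R S : Type u} [CommRing R] [CommRing S] [Algebra R S] {N : Type u} [AddCommGroup N]
  [Module S N] {p : Ideal R} [p.IsPrime] {𝒟 : CompleteDevissage R S N p} (L : LocData 𝒟)

/-! ### pushouts -/

instance instPushA (i : ℕ) : Algebra.IsPushout (𝒟.B i) (Localization.Away (L.b i)) (𝒟.A i)
    (Localization.Away (L.a i)) := by
  haveI : IsLocalization (Algebra.algebraMapSubmonoid (𝒟.A i) (Submonoid.powers (L.b i)))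
      (Localization.Away (L.a i)) := by
    rw [Algebra.algebraMapSubmonoid_powers]
    infer_instance
  exact (Algebra.isPushout_of_isLocalization (Submonoid.powers (L.b i))
    (Localization.Away (L.b i)) (𝒟.A i) (Localization.Away (L.a i))).symm

theorem pushA' {i : ℕ} (h : i + 1 < 𝒟.n) :
    Algebra.IsPushout (𝒟.B i) (Localization.Away (L.b i)) (𝒟.A (i + 1))
      (Localization.Away (L.a (i + 1))) := by
  haveI : IsLocalization.Away (algebraMap (𝒟.B i) (𝒟.A (i + 1)) (L.b i))
      (Localization.Away (L.a (i + 1))) :=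
    Shrink.away_of_dvd_pow (L.a (i + 1)) _ _ (L.hbb i) (L.hbb' i h)
  haveI : IsLocalization (Algebra.algebraMapSubmonoid (𝒟.A (i + 1)) (Submonoid.powers (L.b i)))
      (Localization.Away (L.a (i + 1))) := by
    rw [Algebra.algebraMapSubmonoid_powers]
    infer_instance
  exact (Algebra.isPushout_of_isLocalization (Submonoid.powers (L.b i))
    (Localization.Away (L.b i)) (𝒟.A (i + 1)) (Localization.Away (L.a (i + 1)))).symm

theorem pushS : Algebra.IsPushout S (Localization.Away L.hX) (𝒟.A 0)
    (Localization.Away (L.a 0)) := by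
  haveI : IsLocalization.Away (algebraMap S (𝒟.A 0) L.hX) (Localization.Away (L.a 0)) :=
    Shrink.away_of_dvd_pow (L.a 0) _ _ L.hXb L.hbX
  haveI : IsLocalization (Algebra.algebraMapSubmonoid (𝒟.A 0) (Submonoid.powers L.hX))
      (Localization.Away (L.a 0)) := by
    rw [Algebra.algebraMapSubmonoid_powers]
    infer_instance
  exact (Algebra.isPushout_of_isLocalization (Submonoid.powers L.hX)
    (Localization.Away L.hX) (𝒟.A 0) (Localization.Away (L.a 0))).symm

/-! ### the modules -/

/-- the localized modules -/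
def MM (i : ℕ) : Type u := LocalizedModule (Submonoid.powers (L.a i)) (𝒟.M i)

noncomputable instance instGrpMM (i : ℕ) : AddCommGroup (L.MM i) :=
  inferInstanceAs (AddCommGroup (LocalizedModule (Submonoid.powers (L.a i)) (𝒟.M i)))

noncomputable instance instModAMM (i : ℕ) : Module (Localization.Away (L.a i)) (L.MM i) :=
  inferInstanceAs (Module (Localization (Submonoid.powers (L.a i)))
    (LocalizedModule (Submonoid.powers (L.a i)) (𝒟.M i)))

noncomputable instance instModA0MM (i : ℕ) : Module (𝒟.A i) (L.MM i) :=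
  inferInstanceAs (Module (𝒟.A i) (LocalizedModule (Submonoid.powers (L.a i)) (𝒟.M i)))

instance instTowerAAMM (i : ℕ) : IsScalarTower (𝒟.A i) (Localization.Away (L.a i)) (L.MM i) :=
  inferInstanceAs (IsScalarTower (𝒟.A i) (Localization (Submonoid.powers (L.a i)))
    (LocalizedModule (Submonoid.powers (L.a i)) (𝒟.M i)))

/-- the localization maps `M i → MM i` -/
noncomputable def gM (i : ℕ) : 𝒟.M i →ₗ[𝒟.A i] L.MM i :=
  LocalizedModule.mkLinearMap (Submonoid.powers (L.a i)) (𝒟.M i)

instance instLocgM (i : ℕ) : IsLocalizedModule (Submonoid.powers (L.a i)) (L.gM i) :=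
  inferInstanceAs (IsLocalizedModule (Submonoid.powers (L.a i))
    (LocalizedModule.mkLinearMap (Submonoid.powers (L.a i)) (𝒟.M i)))

theorem isBaseChange_gM (i : ℕ) : IsBaseChange (Localization.Away (L.a i)) (L.gM i) :=
  IsLocalizedModule.isBaseChange (Submonoid.powers (L.a i)) (Localization.Away (L.a i)) (L.gM i)

noncomputable instance instModXMM (i : ℕ) : Module (Localization.Away (L.b i)) (L.MM i) :=
  Module.compHom (L.MM i) (algebraMap (Localization.Away (L.b i)) (Localization.Away (L.a i)))

theorem smul_XMM (i : ℕ) (x : Localization.Away (L.b i)) (m : L.MM i) :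
    x • m = algebraMap (Localization.Away (L.b i)) (Localization.Away (L.a i)) x • m := rfl

instance instTowerXAMM (i : ℕ) :
    IsScalarTower (Localization.Away (L.b i)) (Localization.Away (L.a i)) (L.MM i) :=
  ⟨fun x a m => by rw [smul_XMM, Algebra.smul_def, mul_smul]⟩

noncomputable instance instModRMM (i : ℕ) : Module (Localization.Away L.g) (L.MM i) :=
  Module.compHom (L.MM i) (algebraMap (Localization.Away L.g) (Localization.Away (L.a i)))

theorem smul_RMM (i : ℕ) (r : Localization.Away L.g) (m : L.MM i) :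
    r • m = algebraMap (Localization.Away L.g) (Localization.Away (L.a i)) r • m := rfl

instance instTowerRXMM (i : ℕ) :
    IsScalarTower (Localization.Away L.g) (Localization.Away (L.b i)) (L.MM i) :=
  ⟨fun r x m => by
    rw [smul_XMM, smul_RMM, smul_XMM, Algebra.smul_def, map_mul, mul_smul,
      ← IsScalarTower.algebraMap_apply (Localization.Away L.g) (Localization.Away (L.b i))
        (Localization.Away (L.a i))]⟩

noncomputable instance instModXMM' (i : ℕ) : Module (Localization.Away (L.b i)) (L.MM (i + 1)) :=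
  Module.compHom (L.MM (i + 1))
    (algebraMap (Localization.Away (L.b i)) (Localization.Away (L.a (i + 1))))

theorem smul_XMM' (i : ℕ) (x : Localization.Away (L.b i)) (m : L.MM (i + 1)) :
    x • m = algebraMap (Localization.Away (L.b i)) (Localization.Away (L.a (i + 1))) x • m := rfl

instance instTowerXAMM' (i : ℕ) :
    IsScalarTower (Localization.Away (L.b i)) (Localization.Away (L.a (i + 1))) (L.MM (i + 1)) :=
  ⟨fun x a m => by rw [smul_XMM', Algebra.smul_def, mul_smul]⟩

/-! ### the unprimed smooth algebras acting on the primed modules -/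

noncomputable instance instModBMM (i : ℕ) : Module (𝒟.B i) (L.MM i) :=
  Module.compHom (L.MM i) (algebraMap (𝒟.B i) (Localization.Away (L.b i)))

theorem smul_BMM (i : ℕ) (b : 𝒟.B i) (m : L.MM i) :
    b • m = algebraMap (𝒟.B i) (Localization.Away (L.b i)) b • m := rfl

instance instTowerBXMM (i : ℕ) : IsScalarTower (𝒟.B i) (Localization.Away (L.b i)) (L.MM i) :=
  ⟨fun b x m => by rw [smul_BMM, Algebra.smul_def, mul_smul]⟩

instance instTowerBAMM (i : ℕ) : IsScalarTower (𝒟.B i) (𝒟.A i) (L.MM i) :=
  ⟨fun b a m => by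
    rw [smul_BMM, smul_XMM, ← IsScalarTower.algebraMap_apply (𝒟.B i) (Localization.Away (L.b i)),
      IsScalarTower.algebraMap_apply (𝒟.B i) (𝒟.A i) (Localization.Away (L.a i)), algebraMap_smul,
      Algebra.smul_def, mul_smul]⟩

noncomputable instance instModBMM' (i : ℕ) : Module (𝒟.B i) (L.MM (i + 1)) :=
  Module.compHom (L.MM (i + 1)) (algebraMap (𝒟.B i) (Localization.Away (L.b i)))

theorem smul_BMM' (i : ℕ) (b : 𝒟.B i) (m : L.MM (i + 1)) :
    b • m = algebraMap (𝒟.B i) (Localization.Away (L.b i)) b • m := rfl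

instance instTowerBXMM' (i : ℕ) :
    IsScalarTower (𝒟.B i) (Localization.Away (L.b i)) (L.MM (i + 1)) :=
  ⟨fun b x m => by rw [smul_BMM', Algebra.smul_def, mul_smul]⟩

instance instTowerBAMM' (i : ℕ) : IsScalarTower (𝒟.B i) (𝒟.A (i + 1)) (L.MM (i + 1)) :=
  ⟨fun b a m => by
    rw [smul_BMM', smul_XMM', ← IsScalarTower.algebraMap_apply (𝒟.B i) (Localization.Away (L.b i)),
      IsScalarTower.algebraMap_apply (𝒟.B i) (𝒟.A (i + 1)) (Localization.Away (L.a (i + 1))),
      algebraMap_smul, Algebra.smul_def, mul_smul]⟩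

/-- `gM i` as a base change along `B i → X i`. -/
theorem isBaseChange_gM_B (i : ℕ) :
    IsBaseChange (Localization.Away (L.b i)) ((L.gM i).restrictScalars (𝒟.B i)) :=
  BijRes.isBaseChange_restrictScalars_of_isPushout (𝒟.B i) (Localization.Away (L.b i)) (𝒟.A i)
    (Localization.Away (L.a i)) (𝒟.M i) (L.MM i) (L.gM i) (L.isBaseChange_gM i)

/-- `gM (i+1)` as a base change along `B i → X i`. -/
theorem isBaseChange_gM_B' {i : ℕ} (h : i + 1 < 𝒟.n) :
    IsBaseChange (Localization.Away (L.b i)) ((L.gM (i + 1)).restrictScalars (𝒟.B i)) := by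
  haveI := L.pushA' h
  exact BijRes.isBaseChange_restrictScalars_of_isPushout (𝒟.B i) (Localization.Away (L.b i))
    (𝒟.A (i + 1)) (Localization.Away (L.a (i + 1))) (𝒟.M (i + 1)) (L.MM (i + 1)) (L.gM (i + 1))
    (L.isBaseChange_gM (i + 1))

instance instLocgMB (i : ℕ) :
    IsLocalizedModule (Submonoid.powers (L.b i)) ((L.gM i).restrictScalars (𝒟.B i)) :=
  IsLocalizedModule.restrictScalars_powers (L.b i) (L.gM i)

/-! ### the maps from finite free modules -/

/-- the localized maps from finite free modules -/
noncomputable def α' (i : ℕ) :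
    (Fin (𝒟.r i) → Localization.Away (L.b i)) →ₗ[Localization.Away (L.b i)] L.MM i :=
  (Pi.basisFun (Localization.Away (L.b i)) (Fin (𝒟.r i))).constr ℕ
    (fun j => L.gM i (𝒟.α i (Pi.single j 1)))

theorem α'_apply (i : ℕ) (v : Fin (𝒟.r i) → Localization.Away (L.b i)) :
    L.α' i v = ∑ j, v j • L.gM i (𝒟.α i (Pi.single j 1)) := by
  simp [α', Module.Basis.constr_apply_fintype]

theorem gM_smul_B (i : ℕ) (b : 𝒟.B i) (m : 𝒟.M i) :
    L.gM i (b • m) = algebraMap (𝒟.B i) (Localization.Away (L.b i)) b • L.gM i m :=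
  ((L.gM i).restrictScalars (𝒟.B i)).map_smul b m

theorem α'_comp (i : ℕ) (v : Fin (𝒟.r i) → 𝒟.B i) :
    L.α' i (fun j => algebraMap (𝒟.B i) (Localization.Away (L.b i)) (v j)) =
      L.gM i (𝒟.α i v) := by
  classical
  have hv : v = ∑ j, v j • (Pi.single j (1 : 𝒟.B i) : Fin (𝒟.r i) → 𝒟.B i) := by
    ext k
    simp [Finset.sum_apply, Pi.single_apply]
  conv_rhs => rw [hv]
  rw [map_sum, map_sum, α'_apply]
  refine Finset.sum_congr rfl fun j _ => ?_
  rw [map_smul, gM_smul_B]

theorem range_α' (i : ℕ) : LinearMap.range (L.α' i) =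
    Submodule.span (Localization.Away (L.b i))
      ((((L.gM i).restrictScalars (𝒟.B i)) : 𝒟.M i → L.MM i) ''
        (LinearMap.range (𝒟.α i) : Set (𝒟.M i))) := by
  apply le_antisymm
  · rintro _ ⟨v, rfl⟩
    rw [α'_apply]
    refine Submodule.sum_mem _ fun j _ => Submodule.smul_mem _ _ (Submodule.subset_span ?_)
    exact ⟨_, ⟨_, rfl⟩, rfl⟩
  · rw [Submodule.span_le]
    rintro _ ⟨_, ⟨v, rfl⟩, rfl⟩
    exact ⟨_, L.α'_comp i v⟩

theorem α'_surjective (i : ℕ) (h : Function.Surjective (𝒟.α i)) :
    Function.Surjective (L.α' i) := by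
  rw [← LinearMap.range_eq_top, range_α', LinearMap.range_eq_top.mpr h, Submodule.top_coe,
    Set.image_univ]
  exact span_range_eq_top _ (L.isBaseChange_gM_B i)

/-! ### the structures over `S'` -/

noncomputable instance instModS'MM : Module (Localization.Away L.hX) (L.MM 0) :=
  Module.compHom (L.MM 0) (algebraMap (Localization.Away L.hX) (Localization.Away (L.a 0)))

theorem smul_S'MM (x : Localization.Away L.hX) (m : L.MM 0) :
    x • m = algebraMap (Localization.Away L.hX) (Localization.Away (L.a 0)) x • m := rfl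

instance instTowerS'AMM :
    IsScalarTower (Localization.Away L.hX) (Localization.Away (L.a 0)) (L.MM 0) :=
  ⟨fun x a m => by rw [smul_S'MM, Algebra.smul_def, mul_smul]⟩

noncomputable instance instModSMM : Module S (L.MM 0) :=
  Module.compHom (L.MM 0) (algebraMap S (Localization.Away (L.a 0)))

theorem smul_SMM (s : S) (m : L.MM 0) :
    s • m = algebraMap S (Localization.Away (L.a 0)) s • m := rfl

instance instTowerSS'MM : IsScalarTower S (Localization.Away L.hX) (L.MM 0) :=
  ⟨fun s x m => by
    rw [smul_SMM, smul_S'MM, smul_S'MM, Algebra.smul_def, map_mul, mul_smul,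
      ← IsScalarTower.algebraMap_apply S (Localization.Away L.hX) (Localization.Away (L.a 0))]⟩

instance instTowerSAMM : IsScalarTower S (𝒟.A 0) (L.MM 0) :=
  ⟨fun s a m => by
    rw [smul_SMM, IsScalarTower.algebraMap_apply S (𝒟.A 0) (Localization.Away (L.a 0)),
      algebraMap_smul, Algebra.smul_def, mul_smul]⟩

instance instTowerRS'MM :
    IsScalarTower (Localization.Away L.g) (Localization.Away L.hX) (L.MM 0) :=
  ⟨fun r x m => by
    rw [smul_S'MM, smul_RMM, smul_S'MM, Algebra.smul_def, map_mul, mul_smul,
      ← IsScalarTower.algebraMap_apply (Localization.Away L.g) (Localization.Away L.hX)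
        (Localization.Away (L.a 0))]⟩

/-- `gM 0` as a base change along `S → S'`. -/
theorem isBaseChange_gM_S :
    IsBaseChange (Localization.Away L.hX) ((L.gM 0).restrictScalars S) := by
  haveI := L.pushS
  exact BijRes.isBaseChange_restrictScalars_of_isPushout S (Localization.Away L.hX) (𝒟.A 0)
    (Localization.Away (L.a 0)) (𝒟.M 0) (L.MM 0) (L.gM 0) (L.isBaseChange_gM 0)

/-- the localized module `N[1/hX]` -/
abbrev N' : Type u := LocalizedModule (Submonoid.powers L.hX) N

noncomputable instance instModRN' : Module (Localization.Away L.g) L.N' :=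
  Module.compHom L.N' (algebraMap (Localization.Away L.g) (Localization.Away L.hX))

theorem smul_RN' (r : Localization.Away L.g) (m : L.N') :
    r • m = algebraMap (Localization.Away L.g) (Localization.Away L.hX) r • m := rfl

instance instTowerRSN' :
    IsScalarTower (Localization.Away L.g) (Localization.Away L.hX) L.N' :=
  ⟨fun r x m => by rw [smul_RN', Algebra.smul_def, mul_smul]⟩

/-- the identification `N' ≅ MM 0` -/
noncomputable def isoN' : L.N' ≃ₗ[Localization.Away L.hX] L.MM 0 :=
  (IsLocalizedModule.isBaseChange (Submonoid.powers L.hX) (Localization.Away L.hX)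
      (LocalizedModule.mkLinearMap (Submonoid.powers L.hX) N)).equiv.symm ≪≫ₗ
    (LinearEquiv.baseChange S (Localization.Away L.hX) N (𝒟.M 0) 𝒟.isoN) ≪≫ₗ
    L.isBaseChange_gM_S.equiv

theorem isoN'_apply (x : N) :
    L.isoN' (LocalizedModule.mkLinearMap (Submonoid.powers L.hX) N x) = L.gM 0 (𝒟.isoN x) := by
  rw [isoN', LinearEquiv.trans_apply, LinearEquiv.trans_apply, IsBaseChange.equiv_symm_apply,
    LinearEquiv.baseChange_tmul, IsBaseChange.equiv_tmul, one_smul]
  rfl

end LocData


end Groth.Agent.Lib.helper3.CDevBC
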