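import Mathlib
import Groth.Prelude.Def_FlatCA
import Groth.Agent.Lib.Helper3.CDevBC9
import Groth.Agent.Lib.Helper3.Shrink6

/-!
# The localized pre-dévissage (helper3; towards S12246/S12247)
-/

set_option autoImplicit false
set_option linter.style.haveILetI false
set_option linter.unusedSectionVars false
universe u

open TensorProduct

namespace Groth.Agent.Lib.helper3.CDevBC

open FlatMor FlatCA

attribute [local instance] Algebra.TensorProduct.rightAlgebra

theorem smooth_loc {R : Type u} [CommRing R] (R' : Type u) [CommRing R'] [Algebra R R'] (g : R)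
    [IsLocalization.Away g R'] {D : Type u} [CommRing D] [Algebra R D] (hY : D) (D' : Type u)
    [CommRing D'] [Algebra D D'] [IsLocalization.Away hY D'] [Algebra R D'] [IsScalarTower R D D']
    [Algebra R' D'] [IsScalarTower R R' D'] [Algebra.Smooth R D] : Algebra.Smooth R' D' := by
  haveI : Algebra.Smooth D D' := Algebra.Smooth.of_isLocalization_Away hY
  haveI : Algebra.Smooth R D' := Algebra.Smooth.comp R D D'
  haveI hpo : Algebra.IsPushout R R' D' D' := Shrink.isPushout_self (Submonoid.powers g) R' D'
  exact Algebra.Smooth.of_equiv (Algebra.IsPushout.equiv R R' D' D')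

namespace LocData

variable {R S : Type u} [CommRing R] [CommRing S] [Algebra R S] {N : Type u} [AddCommGroup N]
  [Module S N] {p : Ideal R} [p.IsPrime] {𝒟 : CompleteDevissage R S N p} (L : LocData 𝒟)

theorem map_map_X (i : ℕ) :
    (p.map (algebraMap R (Localization.Away L.g))).map
        (algebraMap (Localization.Away L.g) (Localization.Away (L.b i))) =
      (p.map (algebraMap R (𝒟.B i))).map (algebraMap (𝒟.B i) (Localization.Away (L.b i))) := by
  rw [Ideal.map_map, Ideal.map_map, ← IsScalarTower.algebraMap_eq, ← IsScalarTower.algebraMap_eq]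

variable (hbP : ∀ i, i < 𝒟.n → L.b i ∉ p.map (algebraMap R (𝒟.B i)))
  (hs : ∀ i, i < 𝒟.n → ∀ P : Ideal R, P.IsPrime → L.g ∉ P →
    ∃ Q : Ideal (𝒟.B i), Q.IsPrime ∧ L.b i ∉ Q ∧ Q.under R = P)

include hbP in
theorem hpX (i : ℕ) (h : i < 𝒟.n) :
    ((p.map (algebraMap R (Localization.Away L.g))).map
      (algebraMap (Localization.Away L.g) (Localization.Away (L.b i)))).IsPrime := by
  rw [map_map_X]
  exact Shrink.isPrime_map_away (L.b i) _ _ (hbP i h)

include hbP in
theorem liesOverX (i : ℕ) (h : i < 𝒟.n) :
    ((p.map (algebraMap R (Localization.Away L.g))).map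
      (algebraMap (Localization.Away L.g) (Localization.Away (L.b i)))).LiesOver
      (p.map (algebraMap R (𝒟.B i))) := by
  constructor
  rw [map_map_X]
  exact (Shrink.under_map_away (L.b i) _ _ (hbP i h)).symm

include hbP in
theorem fibreIsoX [(p.map (algebraMap R (Localization.Away L.g))).IsPrime] (i : ℕ) (h : i < 𝒟.n) :
    haveI := L.hpX hbP i h
    Function.Bijective ((L.α' i).baseChange
      ((p.map (algebraMap R (Localization.Away L.g))).map
        (algebraMap (Localization.Away L.g) (Localization.Away (L.b i)))).ResidueField) := by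
  haveI := L.hpX hbP i h
  haveI := L.liesOverX hbP i h
  exact bijective_baseChange_residueField (p.map (algebraMap R (𝒟.B i)))
    ((p.map (algebraMap R (Localization.Away L.g))).map
      (algebraMap (Localization.Away L.g) (Localization.Away (L.b i))))
    ((L.gM i).restrictScalars (𝒟.B i))
    (L.isBaseChange_gM_B i) (𝒟.α i) (L.α' i) (L.α'_comp i) (𝒟.fibreIso i h)

/-- the localized pre-dévissage -/
noncomputable def preDev [(p.map (algebraMap R (Localization.Away L.g))).IsPrime] :
    PreDev (Localization.Away L.g) (Localization.Away L.hX) L.N'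
      (p.map (algebraMap R (Localization.Away L.g))) where
  n := 𝒟.n
  pos := 𝒟.pos
  A := fun i => Localization.Away (L.a i)
  B := fun i => Localization.Away (L.b i)
  M := L.MM
  r := 𝒟.r
  hp := L.hpX hbP
  α := L.α'
  surjSA := by
    haveI := L.pushS
    exact surjective_of_isPushout S (Localization.Away L.hX) (𝒟.A 0) (Localization.Away (L.a 0))
      𝒟.surjSA
  fpSA := by
    haveI := L.pushS
    haveI := 𝒟.fpSA
    exact finitePresentation_of_isPushout S (Localization.Away L.hX) (𝒟.A 0)
      (Localization.Away (L.a 0))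
  surjBA' := fun i h => by
    haveI := L.pushA' h
    exact surjective_of_isPushout (𝒟.B i) (Localization.Away (L.b i)) (𝒟.A (i + 1))
      (Localization.Away (L.a (i + 1))) (𝒟.surjBA' i h)
  fpBA' := fun i h => by
    haveI := L.pushA' h
    haveI := 𝒟.fpBA' i h
    exact finitePresentation_of_isPushout (𝒟.B i) (Localization.Away (L.b i)) (𝒟.A (i + 1))
      (Localization.Away (L.a (i + 1)))
  finiteBA := fun i h => by
    haveI := 𝒟.finiteBA i h
    exact finite_of_isPushout (𝒟.B i) (Localization.Away (L.b i)) (𝒟.A i)
      (Localization.Away (L.a i))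
  smooth := fun i h => by
    haveI := 𝒟.smooth i h
    exact smooth_loc (Localization.Away L.g) L.g (L.b i) (Localization.Away (L.b i))
  geomIrred := fun i h =>
    Shrink.geomIrred_loc (Localization.Away L.g) L.g (L.b i) (Localization.Away (L.b i))
      (𝒟.geomIrred i h)
      (Shrink.comap_surjective_loc (Localization.Away L.g) L.g (L.b i)
        (Localization.Away (L.b i)) (hs i h))
  finiteM := fun i h => by
    haveI := 𝒟.finiteM i h
    exact inferInstanceAs (Module.Finite (Localization (Submonoid.powers (L.a i)))
      (LocalizedModule (Submonoid.powers (L.a i)) (𝒟.M i)))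
  isoN := L.isoN'
  isoCoker := fun i h => Classical.choice
    (nonempty_cokerEquiv_baseChange ((L.gM i).restrictScalars (𝒟.B i))
      (L.isBaseChange_gM_B i) ((L.gM (i + 1)).restrictScalars (𝒟.B i))
      (L.isBaseChange_gM_B' h) (LinearMap.range (𝒟.α i)) (𝒟.isoCoker i h)
      (LinearMap.range (L.α' i)) (L.range_α' i))
  fibreIso := L.fibreIsoX hbP
  cokerLast := L.α'_surjective (𝒟.n - 1) 𝒟.cokerLast

end LocData

end Groth.Agent.Lib.helper3.CDevBC
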