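import Mathlib
import Groth.Prelude.Def_FlatCA
import Groth.Agent.Lib.Helper3.CDevBC10

/-!
# The localized point data of a complete dévissage (helper3; towards S12246/S12247)
-/

set_option autoImplicit false
set_option linter.style.haveILetI false
set_option linter.unusedSectionVars false
universe u

open TensorProduct

namespace Groth.Agent.Lib.helper3.Shrink

attribute [local instance] Algebra.TensorProduct.rightAlgebra

section Fibre

variable {R R' : Type u} [CommRing R] [CommRing R'] [Algebra R R']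
  (p : Ideal R) [p.IsPrime] (p' : Ideal R') [p'.IsPrime] [hp' : p'.LiesOver p]
  (hκ : Function.Bijective (Ideal.ResidueField.mapₐ p p' (Algebra.ofId R R') hp'.over))
  (S S' : Type u) [CommRing S] [CommRing S'] [Algebra R S] [Algebra R S'] [Algebra S S']
  [IsScalarTower R S S'] (hX : S) [IsLocalization.Away hX S']
  [Algebra R' S'] [IsScalarTower R R' S'] (hpo : Algebra.IsPushout R R' S' S')
  {N N' : Type u} [AddCommGroup N] [Module S N] [Module R N] [IsScalarTower R S N]
  [Module.Finite S N]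
  [AddCommGroup N'] [Module S' N'] [Module R' N'] [IsScalarTower R' S' N']
  [Module S N'] [IsScalarTower S S' N'] (fN : N →ₗ[S] N')
  [IsLocalizedModule (Submonoid.powers hX) fN]
  (q : Ideal S) [q.IsPrime] [q.LiesOver p] (hXq : hX ∉ q)
  [hq' : (q.map (algebraMap S S')).IsPrime] [hq'p : (q.map (algebraMap S S')).LiesOver p']

include hκ hpo hXq fN in
/-- the local-dimension half of `fibre_loc`, without the global dimension hypothesis. -/
theorem locDim_loc (n : ℕ)
    (h1 : ∃ (ξ : PrimeSpectrum (p.Fiber S))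
      (hξ : ξ ∈ Module.support (p.Fiber S) (FlatCA.fiberMod p S N)),
      ξ.asIdeal = FlatCA.fiberIdeal p q ∧
      FlatMor.localDim (Module.support (p.Fiber S) (FlatCA.fiberMod p S N)) ⟨ξ, hξ⟩ = n) :
    ∃ (ξ' : PrimeSpectrum (p'.Fiber S'))
      (hξ' : ξ' ∈ Module.support (p'.Fiber S') (FlatCA.fiberMod p' S' N')),
      ξ'.asIdeal = FlatCA.fiberIdeal p' (q.map (algebraMap S S')) ∧
      FlatMor.localDim (Module.support (p'.Fiber S') (FlatCA.fiberMod p' S' N')) ⟨ξ', hξ'⟩ = n := by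
  obtain ⟨ξ, hξ, hξq, hloc⟩ := h1
  obtain ⟨Ψ, hΨ, hΨo⟩ := exists_fiberMap p p' hκ S S' hX hpo
  have hf : IsBaseChange S' fN := IsLocalizedModule.isBaseChange (Submonoid.powers hX) S' fN
  haveI := UnivInjAss.fiberIdeal_isPrime p' (q.map (algebraMap S S'))
  let ξ' : PrimeSpectrum (p'.Fiber S') :=
    ⟨FlatCA.fiberIdeal p' (q.map (algebraMap S S')), inferInstance⟩
  have hcomap : ξ.asIdeal = ξ'.asIdeal.comap Ψ := by
    rw [hξq]
    show _ = (FlatCA.fiberIdeal p' (q.map (algebraMap S S'))).comap Ψ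
    have h2 := comap_comap' p p' Ψ hΨ (FlatCA.fiberIdeal p' (q.map (algebraMap S S')))
    rw [Groth.Agent.Lib.helper26.Purity.comap_fiberIdeal p' (q.map (algebraMap S S'))] at h2
    have h3 : (q.map (algebraMap S S')).comap (algebraMap S S') = q := under_map_away hX S' q hXq
    rw [h3] at h2
    rw [← UnivInjGlobal.fiberIdeal_comap p
      ((FlatCA.fiberIdeal p' (q.map (algebraMap S S'))).comap Ψ)]
    congr 1
    exact h2.symm
  have hξ' : ξ' ∈ Module.support (p'.Fiber S') (FlatCA.fiberMod p' S' N') := by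
    rw [mem_support_comap_iff p p' fN hf Ψ hΨ ξ']
    have : PrimeSpectrum.comap Ψ ξ' = ξ := by
      apply PrimeSpectrum.ext
      exact hcomap.symm
    rw [this]
    exact hξ
  refine ⟨ξ', hξ', rfl, ?_⟩
  exact (localDim_support_eq' p p' fN hf Ψ hΨ hΨo ξ' hξ' ξ hξ hcomap).trans hloc

end Fibre

end Groth.Agent.Lib.helper3.Shrink

namespace Groth.Agent.Lib.helper3.CDevBC

open FlatMor FlatCA

attribute [local instance] Algebra.TensorProduct.rightAlgebra

namespace LocData

attribute [local instance] CompleteDevissageAt.hqB CompleteDevissageAt.hqA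
  CompleteDevissageAt.overB CompleteDevissageAt.overA

variable {R S : Type u} [CommRing R] [CommRing S] [Algebra R S] {N : Type u} [AddCommGroup N]
  [Module S N] {p : Ideal R} [p.IsPrime] {𝒟 : CompleteDevissage R S N p} (L : LocData 𝒟)
  {q : Ideal S} [q.IsPrime] (𝒜 : CompleteDevissageAt R S N p q 𝒟)
  (hg : L.g ∉ p) (hXq : L.hX ∉ q) (hb : ∀ i, i < 𝒟.n → L.b i ∉ 𝒜.qB i)

include 𝒜 hb in
theorem hbP_of (i : ℕ) (h : i < 𝒟.n) : L.b i ∉ p.map (algebraMap R (𝒟.B i)) := fun hmem =>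
  hb i h (by
    have h1 : p.map (algebraMap R (𝒟.B i)) ≤ 𝒜.qB i :=
      Ideal.map_le_iff_le_comap.mpr (le_of_eq (𝒜.overB i).over)
    exact h1 hmem)

include hb in
theorem ha_of (i : ℕ) (h : i < 𝒟.n) : L.a i ∉ 𝒜.qA i := fun hmem =>
  hb i h (by
    rw [(𝒜.overA i).over]
    exact hmem)

/-- the localized points of the smooth algebras -/
noncomputable abbrev qB' (i : ℕ) : Ideal (Localization.Away (L.b i)) :=
  (𝒜.qB i).map (algebraMap (𝒟.B i) (Localization.Away (L.b i)))

/-- the localized points of the rings carrying the modules -/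
noncomputable abbrev qA' (i : ℕ) : Ideal (Localization.Away (L.a i)) :=
  (𝒜.qA i).map (algebraMap (𝒟.A i) (Localization.Away (L.a i)))

include hb in
theorem hqB' (i : ℕ) (h : i < 𝒟.n) : (L.qB' 𝒜 i).IsPrime :=
  Shrink.isPrime_map_away (L.b i) _ _ (hb i h)

include hb in
theorem hqA' (i : ℕ) (h : i < 𝒟.n) : (L.qA' 𝒜 i).IsPrime :=
  Shrink.isPrime_map_away (L.a i) _ _ (L.ha_of 𝒜 hb i h)

include hg in
theorem liesOver_p' : (p.map (algebraMap R (Localization.Away L.g))).LiesOver p :=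
  ⟨(Shrink.under_map_away L.g _ p hg).symm⟩

include hg hb in
theorem overB' (i : ℕ) (h : i < 𝒟.n) :
    (L.qB' 𝒜 i).LiesOver (p.map (algebraMap R (Localization.Away L.g))) :=
  Shrink.liesOver_map_map L.g (L.b i) (Localization.Away L.g) (Localization.Away (L.b i)) p
    (𝒜.qB i) hg (hb i h)

include hb in
theorem overA' (i : ℕ) (h : i < 𝒟.n) : (L.qA' 𝒜 i).LiesOver (L.qB' 𝒜 i) :=
  Shrink.liesOver_map_map (L.b i) (L.a i) (Localization.Away (L.b i)) (Localization.Away (L.a i))
    (𝒜.qB i) (𝒜.qA i) (hb i h) (L.ha_of 𝒜 hb i h)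

include hb in
theorem liesOver_qB' (i : ℕ) (h : i < 𝒟.n) : (L.qB' 𝒜 i).LiesOver (𝒜.qB i) :=
  ⟨(Shrink.under_map_away (L.b i) _ _ (hb i h)).symm⟩

include hb in
theorem liesOver_qA' (i : ℕ) (h : i < 𝒟.n) : (L.qA' 𝒜 i).LiesOver (𝒜.qA i) :=
  ⟨(Shrink.under_map_away (L.a i) _ _ (L.ha_of 𝒜 hb i h)).symm⟩

include hg hb in
theorem pureTrans' [(p.map (algebraMap R (Localization.Away L.g))).IsPrime] (i : ℕ)
    (h : i < 𝒟.n) :
    haveI := L.hqB' 𝒜 hb i h
    haveI := L.overB' 𝒜 hg hb i h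
    PurelyTranscendental (p.map (algebraMap R (Localization.Away L.g))) (L.qB' 𝒜 i) := by
  haveI := L.hqB' 𝒜 hb i h
  haveI := L.overB' 𝒜 hg hb i h
  haveI := L.liesOver_p' hg
  haveI := L.liesOver_qB' 𝒜 hb i h
  exact Shrink.purelyTranscendental_of_bijective p (p.map (algebraMap R (Localization.Away L.g)))
    (𝒟.B i) (Localization.Away (L.b i)) (𝒜.qB i) (L.qB' 𝒜 i)
    (Shrink.residueField_bijective_loc p (Submonoid.powers L.g) (Localization.Away L.g) _).2
    (Shrink.residueField_bijective_loc (𝒜.qB i) (Submonoid.powers (L.b i))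
      (Localization.Away (L.b i)) _)
    (𝒜.pureTrans i h)

include hb in
theorem uniq' (i : ℕ) (h : i < 𝒟.n) (Q : Ideal (Localization.Away (L.a i))) (hQp : Q.IsPrime)
    (hQ : Q.LiesOver (L.qB' 𝒜 i)) : Q = L.qA' 𝒜 i :=
  haveI := hQp
  Shrink.unique_over_loc (L.b i) (L.a i) (Localization.Away (L.b i)) (Localization.Away (L.a i))
    (𝒜.qB i) (𝒜.qA i) (hb i h) (𝒜.uniq i h) Q hQ

include hXq hb in
theorem q0' : (L.qA' 𝒜 0).comap (algebraMap (Localization.Away L.hX) (Localization.Away (L.a 0))) =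
    q.map (algebraMap S (Localization.Away L.hX)) := by
  apply Shrink.eq_of_under_eq_loc (Submonoid.powers L.hX) (Localization.Away L.hX)
  have e1 : ((L.qA' 𝒜 0).under (Localization.Away L.hX)).under S = (L.qA' 𝒜 0).under S :=
    Ideal.under_under _
  have e2 : (L.qA' 𝒜 0).under S = ((L.qA' 𝒜 0).under (𝒟.A 0)).under S :=
    (Ideal.under_under (B := 𝒟.A 0) _).symm
  show ((L.qA' 𝒜 0).under (Localization.Away L.hX)).under S = _
  rw [e1, e2, Shrink.under_map_away (L.a 0) _ _ (L.ha_of 𝒜 hb 0 𝒟.pos),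
    Shrink.under_map_away L.hX _ q hXq]
  exact 𝒜.q0

include hb in
theorem qStep' (i : ℕ) (h : i + 1 < 𝒟.n) :
    (L.qA' 𝒜 (i + 1)).comap
      (algebraMap (Localization.Away (L.b i)) (Localization.Away (L.a (i + 1)))) = L.qB' 𝒜 i := by
  apply Shrink.eq_of_under_eq_loc (Submonoid.powers (L.b i)) (Localization.Away (L.b i))
  have e1 : ((L.qA' 𝒜 (i + 1)).under (Localization.Away (L.b i))).under (𝒟.B i) =
      (L.qA' 𝒜 (i + 1)).under (𝒟.B i) := Ideal.under_under _
  have e2 : (L.qA' 𝒜 (i + 1)).under (𝒟.B i) =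
      ((L.qA' 𝒜 (i + 1)).under (𝒟.A (i + 1))).under (𝒟.B i) :=
    (Ideal.under_under (B := 𝒟.A (i + 1)) _).symm
  show ((L.qA' 𝒜 (i + 1)).under (Localization.Away (L.b i))).under (𝒟.B i) = _
  rw [e1, e2, Shrink.under_map_away (L.a (i + 1)) _ _ (L.ha_of 𝒜 hb (i + 1) h),
    Shrink.under_map_away (L.b i) _ _ (hb i (Nat.lt_of_succ_lt h))]
  exact 𝒜.qStep i h

theorem relDim' (i : ℕ) (h : i < 𝒟.n) :
    SmoothRelDim (𝒜.d i) (Localization.Away L.g) (Localization.Away (L.b i)) :=
  Shrink.smoothRelDim_loc (Localization.Away L.g) L.g (L.b i) (Localization.Away (L.b i))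
    (𝒜.d i) (𝒜.relDim i h)

include hg hb in
theorem locDim' [(p.map (algebraMap R (Localization.Away L.g))).IsPrime] (i : ℕ) (h : i < 𝒟.n) :
    ∃ (x : PrimeSpectrum ((p.map (algebraMap R (Localization.Away L.g))).Fiber
        (Localization.Away (L.b i))))
      (hx : x ∈ Module.support ((p.map (algebraMap R (Localization.Away L.g))).Fiber
        (Localization.Away (L.b i)))
        (fiberMod (p.map (algebraMap R (Localization.Away L.g))) (Localization.Away (L.b i))
          (L.MM i))),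
      x.asIdeal = fiberIdeal (p.map (algebraMap R (Localization.Away L.g))) (L.qB' 𝒜 i) ∧
      FlatMor.localDim (Module.support ((p.map (algebraMap R (Localization.Away L.g))).Fiber
        (Localization.Away (L.b i)))
        (fiberMod (p.map (algebraMap R (Localization.Away L.g))) (Localization.Away (L.b i))
          (L.MM i))) ⟨x, hx⟩ = 𝒜.d i := by
  haveI := L.hqB' 𝒜 hb i h
  haveI := L.overB' 𝒜 hg hb i h
  haveI := L.liesOver_p' hg
  haveI : Module.Finite (𝒟.B i) (𝒟.M i) := by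
    haveI := 𝒟.finiteBA i h
    haveI := 𝒟.finiteM i h
    exact Module.Finite.trans (𝒟.A i) (𝒟.M i)
  exact Shrink.locDim_loc p (p.map (algebraMap R (Localization.Away L.g)))
    (Shrink.residueField_bijective_loc p (Submonoid.powers L.g) (Localization.Away L.g) _)
    (𝒟.B i) (Localization.Away (L.b i)) (L.b i)
    (Shrink.isPushout_self (Submonoid.powers L.g) (Localization.Away L.g)
      (Localization.Away (L.b i)))
    ((L.gM i).restrictScalars (𝒟.B i)) (𝒜.qB i) (hb i h) (𝒜.d i) (𝒜.locDim i h)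

variable (hs : ∀ i, i < 𝒟.n → ∀ P : Ideal R, P.IsPrime → L.g ∉ P →
    ∃ Q : Ideal (𝒟.B i), Q.IsPrime ∧ L.b i ∉ Q ∧ Q.under R = P)

/-- the localized point data -/
noncomputable def preDevAt [(p.map (algebraMap R (Localization.Away L.g))).IsPrime]
    [(q.map (algebraMap S (Localization.Away L.hX))).IsPrime] :
    PreDevAt (L.preDev (L.hbP_of 𝒜 hb) hs) (q.map (algebraMap S (Localization.Away L.hX))) where
  qB := L.qB' 𝒜
  qA := L.qA' 𝒜
  d := 𝒜.d
  hqB := L.hqB' 𝒜 hb
  hqA := L.hqA' 𝒜 hb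
  overB := L.overB' 𝒜 hg hb
  overA := L.overA' 𝒜 hb
  pureTrans := L.pureTrans' 𝒜 hg hb
  uniq := fun i h Q hQp hQ => L.uniq' 𝒜 hb i h Q hQp hQ
  q0 := L.q0' 𝒜 hXq hb
  qStep := L.qStep' 𝒜 hb
  relDim := L.relDim' 𝒜
  locDim := L.locDim' 𝒜 hg hb

end LocData

end Groth.Agent.Lib.helper3.CDevBC
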