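import Mathlib
import Groth.Prelude.Def_FlatCA
import Groth.Agent.Lib.Helper3.CDevBC11

/-!
# The localized complete dévissage and its comparison structures (helper3; S12246/S12247)
-/

set_option autoImplicit false
set_option linter.style.haveILetI false
set_option linter.unusedSectionVars false
universe u

open TensorProduct

namespace Groth.Agent.Lib.helper3.CDevBC

open FlatMor FlatCA

namespace PreDev

variable {R S : Type u} [CommRing R] [CommRing S] [Algebra R S] {N : Type u}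
  [AddCommGroup N] [Module S N] {rr : Ideal R} [rr.IsPrime] (Pd : PreDev R S N rr)

theorem π_symm {i : ℕ} (h : i < Pd.n) (x : Pd.A i) : Pd.π i ((Pd.πe h).symm x) = x :=
  (Pd.πe h).apply_symm_apply x

theorem ρ_symm {i : ℕ} (h : i < Pd.n) (x : Pd.B i) : Pd.ρ i ((Pd.ρe h).symm x) = x :=
  (Pd.ρe h).apply_symm_apply x

theorem μ_symm {i : ℕ} (h : i < Pd.n) (x : Pd.B i) :
    Pd.μ i ((Pd.ρe h).symm x) = (Pd.πe h).symm (algebraMap (Pd.B i) (Pd.A i) x) := by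
  rw [Pd.μ_eq h]
  show (Pd.πe h).symm (algebraMap (Pd.B i) (Pd.A i) (Pd.ρ i ((Pd.ρe h).symm x))) = _
  rw [Pd.ρ_symm h]

theorem μ'_symm {i : ℕ} (h : i + 1 < Pd.n) (x : Pd.B i) :
    Pd.μ' i ((Pd.ρe (Nat.lt_of_succ_lt h)).symm x) =
      (Pd.πe h).symm (algebraMap (Pd.B i) (Pd.A (i + 1)) x) := by
  rw [Pd.μ'_eq h]
  show (Pd.πe h).symm (algebraMap (Pd.B i) (Pd.A (i + 1))
    (Pd.ρ i ((Pd.ρe (Nat.lt_of_succ_lt h)).symm x))) = _
  rw [Pd.ρ_symm]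

section Transfer

variable {A₀ : Type u} [CommRing A₀] {i : ℕ} (h : i < Pd.n)

/-- the algebra structure on `AA i` induced by a ring map to `A i` -/
@[reducible] noncomputable def algAA (f : A₀ →+* Pd.A i) : Algebra A₀ (Pd.AA i) :=
  (((Pd.πe h).symm : Pd.A i →+* Pd.AA i).comp f).toAlgebra

/-- the algebra structure on `BB i` induced by a ring map to `B i` -/
@[reducible] noncomputable def algBB (f : A₀ →+* Pd.B i) : Algebra A₀ (Pd.BB i) :=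
  (((Pd.ρe h).symm : Pd.B i →+* Pd.BB i).comp f).toAlgebra

theorem away_AA [Algebra A₀ (Pd.A i)] (a : A₀) [IsLocalization.Away a (Pd.A i)] :
    letI := Pd.algAA h (algebraMap A₀ (Pd.A i))
    IsLocalization.Away a (Pd.AA i) := by
  letI := Pd.algAA h (algebraMap A₀ (Pd.A i))
  let e : Pd.A i ≃ₐ[A₀] Pd.AA i :=
    AlgEquiv.ofRingEquiv (f := (Pd.πe h).symm.toRingEquiv) (fun x => rfl)
  exact IsLocalization.isLocalization_of_algEquiv (Submonoid.powers a) e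

theorem away_BB [Algebra A₀ (Pd.B i)] (a : A₀) [IsLocalization.Away a (Pd.B i)] :
    letI := Pd.algBB h (algebraMap A₀ (Pd.B i))
    IsLocalization.Away a (Pd.BB i) := by
  letI := Pd.algBB h (algebraMap A₀ (Pd.B i))
  let e : Pd.B i ≃ₐ[A₀] Pd.BB i :=
    AlgEquiv.ofRingEquiv (f := (Pd.ρe h).symm.toRingEquiv) (fun x => rfl)
  exact IsLocalization.isLocalization_of_algEquiv (Submonoid.powers a) e

end Transfer

end PreDev


namespace PreDevAt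

variable {R S : Type u} [CommRing R] [CommRing S] [Algebra R S] {N : Type u}
  [AddCommGroup N] [Module S N] {rr : Ideal R} [rr.IsPrime] {Pd : PreDev R S N rr}
  {q : Ideal S} [q.IsPrime] (X : PreDevAt Pd q)

theorem mem_toAt_qA {i : ℕ} (h : i < Pd.n) (y : Pd.toDev2.A i) :
    y ∈ X.toAt.qA i ↔ Pd.π i y ∈ X.qA i := by
  rw [X.toAt_qA h]
  exact Iff.rfl

theorem mem_toAt_qB {i : ℕ} (h : i < Pd.n) (y : Pd.toDev2.B i) :
    y ∈ X.toAt.qB i ↔ Pd.ρ i y ∈ X.qB i := by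
  rw [X.toAt_qB h]
  exact Iff.rfl

end PreDevAt

namespace LocData

attribute [local instance] CompleteDevissageAt.hqB CompleteDevissageAt.hqA
  CompleteDevissageAt.overB CompleteDevissageAt.overA

variable {R S : Type u} [CommRing R] [CommRing S] [Algebra R S] {N : Type u} [AddCommGroup N]
  [Module S N] {p : Ideal R} [p.IsPrime] {𝒟 : CompleteDevissage R S N p} (L : LocData 𝒟)
  {q : Ideal S} [q.IsPrime] (𝒜 : CompleteDevissageAt R S N p q 𝒟)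
  (hg : L.g ∉ p) (hXq : L.hX ∉ q) (hb : ∀ i, i < 𝒟.n → L.b i ∉ 𝒜.qB i)
  (hs : ∀ i, i < 𝒟.n → ∀ P : Ideal R, P.IsPrime → L.g ∉ P →
    ∃ Q : Ideal (𝒟.B i), Q.IsPrime ∧ L.b i ∉ Q ∧ Q.under R = P)

include hg in
theorem isPrime_p' : (p.map (algebraMap R (Localization.Away L.g))).IsPrime :=
  Shrink.isPrime_map_away L.g _ p hg

include hXq in
theorem isPrime_q' : (q.map (algebraMap S (Localization.Away L.hX))).IsPrime :=
  Shrink.isPrime_map_away L.hX _ q hXq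

variable [hp' : (p.map (algebraMap R (Localization.Away L.g))).IsPrime]
  [hq' : (q.map (algebraMap S (Localization.Away L.hX))).IsPrime]

/-- the localized pre-dévissage -/
noncomputable abbrev Pd : PreDev (Localization.Away L.g) (Localization.Away L.hX) L.N'
    (p.map (algebraMap R (Localization.Away L.g))) :=
  L.preDev (L.hbP_of 𝒜 hb) hs

/-- the localized complete dévissage -/
noncomputable def dev' : CompleteDevissage (Localization.Away L.g) (Localization.Away L.hX) L.N'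
    (p.map (algebraMap R (Localization.Away L.g))) :=
  (L.Pd 𝒜 hb hs).toDev2

/-- the localized point data -/
noncomputable def at' : CompleteDevissageAt (Localization.Away L.g) (Localization.Away L.hX) L.N'
    (p.map (algebraMap R (Localization.Away L.g)))
    (q.map (algebraMap S (Localization.Away L.hX))) (L.dev' 𝒜 hb hs) :=
  (L.preDevAt 𝒜 hg hXq hb hs).toAt

/-- `A i → AA i` -/
noncomputable def fA (i : ℕ) (h : i < 𝒟.n) : 𝒟.A i →+* (L.dev' 𝒜 hb hs).A i :=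
  (((L.Pd 𝒜 hb hs).πe h).symm : (L.Pd 𝒜 hb hs).A i →+* (L.Pd 𝒜 hb hs).AA i).comp
    (algebraMap (𝒟.A i) (Localization.Away (L.a i)))

/-- `B i → BB i` -/
noncomputable def fB (i : ℕ) (h : i < 𝒟.n) : 𝒟.B i →+* (L.dev' 𝒜 hb hs).B i :=
  (((L.Pd 𝒜 hb hs).ρe h).symm : (L.Pd 𝒜 hb hs).B i →+* (L.Pd 𝒜 hb hs).BB i).comp
    (algebraMap (𝒟.B i) (Localization.Away (L.b i)))

theorem π_fA (i : ℕ) (h : i < 𝒟.n) (x : 𝒟.A i) :
    (L.Pd 𝒜 hb hs).π i (L.fA 𝒜 hb hs i h x) = algebraMap (𝒟.A i) (Localization.Away (L.a i)) x :=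
  (L.Pd 𝒜 hb hs).π_symm h _

theorem ρ_fB (i : ℕ) (h : i < 𝒟.n) (x : 𝒟.B i) :
    (L.Pd 𝒜 hb hs).ρ i (L.fB 𝒜 hb hs i h x) = algebraMap (𝒟.B i) (Localization.Away (L.b i)) x :=
  (L.Pd 𝒜 hb hs).ρ_symm h _

/-- `aA` -/
@[reducible] noncomputable def aA (i : ℕ) (h : i < 𝒟.n) : Algebra (𝒟.A i) ((L.dev' 𝒜 hb hs).A i) :=
  (L.fA 𝒜 hb hs i h).toAlgebra

/-- `rA` -/
@[reducible] noncomputable def rA (i : ℕ) : Algebra R ((L.dev' 𝒜 hb hs).A i) :=
  ((algebraMap (Localization.Away L.g) ((L.dev' 𝒜 hb hs).A i)).comp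
    (algebraMap R (Localization.Away L.g))).toAlgebra

theorem t1 (i : ℕ) :
    letI := L.rA 𝒜 hb hs i
    IsScalarTower R (Localization.Away L.g) ((L.dev' 𝒜 hb hs).A i) :=
  letI := L.rA 𝒜 hb hs i
  IsScalarTower.of_algebraMap_eq (fun _ => rfl)

theorem t2 (i : ℕ) (h : i < 𝒟.n) :
    letI := L.aA 𝒜 hb hs i h
    letI := L.rA 𝒜 hb hs i
    IsScalarTower R (𝒟.A i) ((L.dev' 𝒜 hb hs).A i) := by
  letI := L.aA 𝒜 hb hs i h
  letI := L.rA 𝒜 hb hs i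
  refine IsScalarTower.of_algebraMap_eq fun r => ?_
  show algebraMap (Localization.Away L.g) ((L.Pd 𝒜 hb hs).AA i)
      (algebraMap R (Localization.Away L.g) r) =
    ((L.Pd 𝒜 hb hs).πe h).symm
      (algebraMap (𝒟.A i) (Localization.Away (L.a i)) (algebraMap R (𝒟.A i) r))
  rw [← IsScalarTower.algebraMap_apply R (𝒟.A i) (Localization.Away (L.a i)),
    IsScalarTower.algebraMap_apply R (Localization.Away L.g) (Localization.Away (L.a i))]
  exact (((L.Pd 𝒜 hb hs).πe h).symm.commutes _).symm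

/-- `aB` -/
@[reducible] noncomputable def aB (i : ℕ) (h : i < 𝒟.n) : Algebra (𝒟.B i) ((L.dev' 𝒜 hb hs).B i) :=
  (L.fB 𝒜 hb hs i h).toAlgebra

/-- `rB` -/
@[reducible] noncomputable def rB (i : ℕ) : Algebra R ((L.dev' 𝒜 hb hs).B i) :=
  ((algebraMap (Localization.Away L.g) ((L.dev' 𝒜 hb hs).B i)).comp
    (algebraMap R (Localization.Away L.g))).toAlgebra

theorem t3 (i : ℕ) :
    letI := L.rB 𝒜 hb hs i
    IsScalarTower R (Localization.Away L.g) ((L.dev' 𝒜 hb hs).B i) :=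
  letI := L.rB 𝒜 hb hs i
  IsScalarTower.of_algebraMap_eq (fun _ => rfl)

theorem t4 (i : ℕ) (h : i < 𝒟.n) :
    letI := L.aB 𝒜 hb hs i h
    letI := L.rB 𝒜 hb hs i
    IsScalarTower R (𝒟.B i) ((L.dev' 𝒜 hb hs).B i) := by
  letI := L.aB 𝒜 hb hs i h
  letI := L.rB 𝒜 hb hs i
  refine IsScalarTower.of_algebraMap_eq fun r => ?_
  show algebraMap (Localization.Away L.g) ((L.Pd 𝒜 hb hs).BB i)
      (algebraMap R (Localization.Away L.g) r) =
    ((L.Pd 𝒜 hb hs).ρe h).symm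
      (algebraMap (𝒟.B i) (Localization.Away (L.b i)) (algebraMap R (𝒟.B i) r))
  rw [← IsScalarTower.algebraMap_apply R (𝒟.B i) (Localization.Away (L.b i)),
    IsScalarTower.algebraMap_apply R (Localization.Away L.g) (Localization.Away (L.b i))]
  exact (((L.Pd 𝒜 hb hs).ρe h).symm.commutes _).symm

/-- `bA` -/
@[reducible] noncomputable def bA (i : ℕ) (h : i < 𝒟.n) : Algebra (𝒟.B i) ((L.dev' 𝒜 hb hs).A i) :=
  ((L.fA 𝒜 hb hs i h).comp (algebraMap (𝒟.B i) (𝒟.A i))).toAlgebra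

theorem t5 (i : ℕ) (h : i < 𝒟.n) :
    letI := L.aA 𝒜 hb hs i h
    letI := L.bA 𝒜 hb hs i h
    IsScalarTower (𝒟.B i) (𝒟.A i) ((L.dev' 𝒜 hb hs).A i) :=
  letI := L.aA 𝒜 hb hs i h
  letI := L.bA 𝒜 hb hs i h
  IsScalarTower.of_algebraMap_eq (fun _ => rfl)

theorem t6 (i : ℕ) (h : i < 𝒟.n) :
    letI := L.aB 𝒜 hb hs i h
    letI := L.bA 𝒜 hb hs i h
    IsScalarTower (𝒟.B i) ((L.dev' 𝒜 hb hs).B i) ((L.dev' 𝒜 hb hs).A i) := by
  letI := L.aB 𝒜 hb hs i h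
  letI := L.bA 𝒜 hb hs i h
  refine IsScalarTower.of_algebraMap_eq fun x => ?_
  show ((L.Pd 𝒜 hb hs).πe h).symm
      (algebraMap (𝒟.A i) (Localization.Away (L.a i)) (algebraMap (𝒟.B i) (𝒟.A i) x)) =
    (L.Pd 𝒜 hb hs).μ i (((L.Pd 𝒜 hb hs).ρe h).symm
      (algebraMap (𝒟.B i) (Localization.Away (L.b i)) x))
  rw [(L.Pd 𝒜 hb hs).μ_symm h]
  congr 1
  rw [← IsScalarTower.algebraMap_apply (𝒟.B i) (𝒟.A i) (Localization.Away (L.a i)),
    IsScalarTower.algebraMap_apply (𝒟.B i) (Localization.Away (L.b i)) (Localization.Away (L.a i))]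
  rfl

/-- `bA'` -/
@[reducible] noncomputable def bA' (i : ℕ) (h : i < 𝒟.n) :
    Algebra (𝒟.B i) ((L.dev' 𝒜 hb hs).A (i + 1)) :=
  ((algebraMap ((L.dev' 𝒜 hb hs).B i) ((L.dev' 𝒜 hb hs).A (i + 1))).comp
    (L.fB 𝒜 hb hs i h)).toAlgebra

theorem t7 (i : ℕ) (h : i < 𝒟.n) :
    letI := L.aB 𝒜 hb hs i h
    letI := L.bA' 𝒜 hb hs i h
    IsScalarTower (𝒟.B i) ((L.dev' 𝒜 hb hs).B i) ((L.dev' 𝒜 hb hs).A (i + 1)) :=
  letI := L.aB 𝒜 hb hs i h
  letI := L.bA' 𝒜 hb hs i h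
  IsScalarTower.of_algebraMap_eq (fun _ => rfl)

/-- `sA` -/
@[reducible] noncomputable def sA : Algebra S ((L.dev' 𝒜 hb hs).A 0) :=
  ((algebraMap (Localization.Away L.hX) ((L.dev' 𝒜 hb hs).A 0)).comp
    (algebraMap S (Localization.Away L.hX))).toAlgebra

theorem t8 :
    letI := L.sA 𝒜 hb hs
    IsScalarTower S (Localization.Away L.hX) ((L.dev' 𝒜 hb hs).A 0) :=
  letI := L.sA 𝒜 hb hs
  IsScalarTower.of_algebraMap_eq (fun _ => rfl)

/-- `mA` -/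
@[reducible] noncomputable def mA (i : ℕ) : Module (𝒟.A i) ((L.dev' 𝒜 hb hs).M i) :=
  L.instModA0MM i

theorem t9 (i : ℕ) (h : i < 𝒟.n) :
    letI := L.aA 𝒜 hb hs i h
    letI := L.mA 𝒜 hb hs i
    IsScalarTower (𝒟.A i) ((L.dev' 𝒜 hb hs).A i) ((L.dev' 𝒜 hb hs).M i) := by
  letI := L.aA 𝒜 hb hs i h
  letI := L.mA 𝒜 hb hs i
  refine ⟨fun a x m => ?_⟩
  let π' : (L.Pd 𝒜 hb hs).AA i →+* Localization.Away (L.a i) :=
    ((L.Pd 𝒜 hb hs).π i : (L.Pd 𝒜 hb hs).AA i →+* (L.Pd 𝒜 hb hs).A i)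
  let m' : L.MM i := m
  show π' (L.fA 𝒜 hb hs i h a * x) • m' = a • (π' x • m')
  have h1 : π' (L.fA 𝒜 hb hs i h a) = algebraMap (𝒟.A i) (Localization.Away (L.a i)) a :=
    L.π_fA 𝒜 hb hs i h a
  have h2 : π' (L.fA 𝒜 hb hs i h a * x) • m' = (π' (L.fA 𝒜 hb hs i h a) * π' x) • m' :=
    congrArg (· • m') (map_mul π' (L.fA 𝒜 hb hs i h a) x)
  refine h2.trans ?_
  rw [h1, mul_smul, algebraMap_smul]

/-- `gM` -/
noncomputable def gM' (i : ℕ) :
    letI := L.mA 𝒜 hb hs i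
    𝒟.M i →ₗ[𝒟.A i] (L.dev' 𝒜 hb hs).M i :=
  L.gM i

theorem towerS0 :
    letI := L.aA 𝒜 hb hs 0 𝒟.pos
    letI := L.sA 𝒜 hb hs
    IsScalarTower S (𝒟.A 0) ((L.dev' 𝒜 hb hs).A 0) := by
  letI := L.aA 𝒜 hb hs 0 𝒟.pos
  letI := L.sA 𝒜 hb hs
  refine IsScalarTower.of_algebraMap_eq fun s => ?_
  show ((L.Pd 𝒜 hb hs).πe 𝒟.pos).symm (algebraMap (Localization.Away L.hX)
      (Localization.Away (L.a 0)) (algebraMap S (Localization.Away L.hX) s)) =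
    ((L.Pd 𝒜 hb hs).πe 𝒟.pos).symm
      (algebraMap (𝒟.A 0) (Localization.Away (L.a 0)) (algebraMap S (𝒟.A 0) s))
  rw [← IsScalarTower.algebraMap_apply S (Localization.Away L.hX) (Localization.Away (L.a 0)),
    ← IsScalarTower.algebraMap_apply S (𝒟.A 0) (Localization.Away (L.a 0))]

theorem isoN_compat (x : N) :
    (L.dev' 𝒜 hb hs).isoN (LocalizedModule.mkLinearMap (Submonoid.powers L.hX) N x) =
      L.gM' 𝒜 hb hs 0 (𝒟.isoN x) :=
  L.isoN'_apply x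

theorem towerStep (i : ℕ) (h : i + 1 < 𝒟.n) :
    letI := L.aA 𝒜 hb hs (i + 1) h
    letI := L.bA' 𝒜 hb hs i (Nat.lt_of_succ_lt h)
    IsScalarTower (𝒟.B i) (𝒟.A (i + 1)) ((L.dev' 𝒜 hb hs).A (i + 1)) := by
  letI := L.aA 𝒜 hb hs (i + 1) h
  letI := L.bA' 𝒜 hb hs i (Nat.lt_of_succ_lt h)
  refine IsScalarTower.of_algebraMap_eq fun x => ?_
  show (L.Pd 𝒜 hb hs).μ' i (((L.Pd 𝒜 hb hs).ρe (Nat.lt_of_succ_lt h)).symm
      (algebraMap (𝒟.B i) (Localization.Away (L.b i)) x)) =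
    ((L.Pd 𝒜 hb hs).πe h).symm
      (algebraMap (𝒟.A (i + 1)) (Localization.Away (L.a (i + 1)))
        (algebraMap (𝒟.B i) (𝒟.A (i + 1)) x))
  rw [(L.Pd 𝒜 hb hs).μ'_symm h]
  congr 1
  rw [← IsScalarTower.algebraMap_apply (𝒟.B i) (𝒟.A (i + 1)) (Localization.Away (L.a (i + 1))),
    IsScalarTower.algebraMap_apply (𝒟.B i) (Localization.Away (L.b i))
      (Localization.Away (L.a (i + 1)))]
  rfl

theorem locA (i : ℕ) (h : i < 𝒟.n) :
    letI := L.aA 𝒜 hb hs i h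
    IsLocalization.Away (L.a i) ((L.dev' 𝒜 hb hs).A i) :=
  by
    letI : Algebra (𝒟.A i) ((L.Pd 𝒜 hb hs).A i) :=
      inferInstanceAs (Algebra (𝒟.A i) (Localization.Away (L.a i)))
    haveI : IsLocalization.Away (L.a i) ((L.Pd 𝒜 hb hs).A i) :=
      inferInstanceAs (IsLocalization.Away (L.a i) (Localization.Away (L.a i)))
    exact (L.Pd 𝒜 hb hs).away_AA h (L.a i)

theorem locB (i : ℕ) (h : i < 𝒟.n) :
    letI := L.aB 𝒜 hb hs i h
    IsLocalization.Away (L.b i) ((L.dev' 𝒜 hb hs).B i) :=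
  by
    letI : Algebra (𝒟.B i) ((L.Pd 𝒜 hb hs).B i) :=
      inferInstanceAs (Algebra (𝒟.B i) (Localization.Away (L.b i)))
    haveI : IsLocalization.Away (L.b i) ((L.Pd 𝒜 hb hs).B i) :=
      inferInstanceAs (IsLocalization.Away (L.b i) (Localization.Away (L.b i)))
    exact (L.Pd 𝒜 hb hs).away_BB h (L.b i)

theorem locM (i : ℕ) :
    letI := L.mA 𝒜 hb hs i
    IsLocalizedModule (Submonoid.powers (L.a i)) (L.gM' 𝒜 hb hs i) :=
  L.instLocgM i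

theorem liesA (i : ℕ) (h : i < 𝒟.n) :
    letI := L.aA 𝒜 hb hs i h
    ((L.at' 𝒜 hg hXq hb hs).qA i).LiesOver (𝒜.qA i) := by
  letI := L.aA 𝒜 hb hs i h
  constructor
  ext x
  have h1 := Shrink.under_map_away (L.a i) (Localization.Away (L.a i)) (𝒜.qA i)
    (L.ha_of 𝒜 hb i h)
  have h2 : x ∈ 𝒜.qA i ↔ algebraMap (𝒟.A i) (Localization.Away (L.a i)) x ∈ L.qA' 𝒜 i := by
    conv_lhs => rw [← h1]
    rfl
  have h3 := (L.preDevAt 𝒜 hg hXq hb hs).mem_toAt_qA h (L.fA 𝒜 hb hs i h x)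
  rw [L.π_fA 𝒜 hb hs i h] at h3
  exact h2.trans h3.symm

theorem liesB (i : ℕ) (h : i < 𝒟.n) :
    letI := L.aB 𝒜 hb hs i h
    ((L.at' 𝒜 hg hXq hb hs).qB i).LiesOver (𝒜.qB i) := by
  letI := L.aB 𝒜 hb hs i h
  constructor
  ext x
  have h1 := Shrink.under_map_away (L.b i) (Localization.Away (L.b i)) (𝒜.qB i) (hb i h)
  have h2 : x ∈ 𝒜.qB i ↔ algebraMap (𝒟.B i) (Localization.Away (L.b i)) x ∈ L.qB' 𝒜 i := by
    conv_lhs => rw [← h1]
    rfl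
  have h3 := (L.preDevAt 𝒜 hg hXq hb hs).mem_toAt_qB h (L.fB 𝒜 hb hs i h x)
  rw [L.ρ_fB 𝒜 hb hs i h] at h3
  exact h2.trans h3.symm

theorem rangeEq (i : ℕ) (h : i < 𝒟.n) :
    LinearMap.range ((L.dev' 𝒜 hb hs).α i) =
      Submodule.span ((L.dev' 𝒜 hb hs).B i)
        ((L.gM' 𝒜 hb hs i) '' (LinearMap.range (𝒟.α i) : Set (𝒟.M i))) := by
  apply SetLike.coe_injective
  have h1 := (L.Pd 𝒜 hb hs).coe_range_α' h
  have h2 := congrArg (fun U : Submodule (Localization.Away (L.b i)) (L.MM i) =>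
    (U : Set (L.MM i))) (L.range_α' i)
  have h3 := (L.Pd 𝒜 hb hs).coe_span_BB h ((L.gM i : 𝒟.M i → L.MM i) ''
    (LinearMap.range (𝒟.α i) : Set (𝒟.M i)))
  exact h1.trans (h2.trans h3.symm)

end LocData

end Groth.Agent.Lib.helper3.CDevBC
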