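import Mathlib
import Groth.Prelude.Def_FlatCA
import Groth.Agent.Lib.Helper3.CDevBC12

/-!
# Choice of the elements of a standard shrinking of a complete dévissage (helper3)
-/

set_option autoImplicit false
set_option linter.style.haveILetI false
set_option linter.unusedSectionVars false
universe u

open TensorProduct

namespace Groth.Agent.Lib.helper3.CDevBC

open FlatMor FlatCA

namespace LocChoice

attribute [local instance] CompleteDevissageAt.hqB CompleteDevissageAt.hqA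
  CompleteDevissageAt.overB CompleteDevissageAt.overA

variable {R S : Type u} [CommRing R] [CommRing S] [Algebra R S] {N : Type u} [AddCommGroup N]
  [Module S N] {p : Ideal R} [p.IsPrime] {q : Ideal S} [q.IsPrime]
  (𝒟 : CompleteDevissage R S N p) (𝒜 : CompleteDevissageAt R S N p q 𝒟)

theorem mem_qA_succ_iff (i : ℕ) (h : i + 1 < 𝒟.n) (x : 𝒟.B i) :
    algebraMap (𝒟.B i) (𝒟.A (i + 1)) x ∈ 𝒜.qA (i + 1) ↔ x ∈ 𝒜.qB i := by
  conv_rhs => rw [← 𝒜.qStep i h]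
  rfl

theorem mem_qA_iff (i : ℕ) (x : 𝒟.B i) :
    algebraMap (𝒟.B i) (𝒟.A i) x ∈ 𝒜.qA i ↔ x ∈ 𝒜.qB i := by
  conv_rhs => rw [(𝒜.overA i).over]
  rfl

theorem mem_qA_zero_iff (x : S) : algebraMap S (𝒟.A 0) x ∈ 𝒜.qA 0 ↔ x ∈ q := by
  conv_rhs => rw [← 𝒜.q0]
  rfl

theorem algebraMap_mem_qB_iff (i : ℕ) (g : R) : algebraMap R (𝒟.B i) g ∈ 𝒜.qB i ↔ g ∈ p := by
  conv_rhs => rw [(𝒜.overB i).over]
  rfl

include 𝒟 𝒜 in
theorem algebraMap_mem_q_iff (g : R) : algebraMap R S g ∈ q ↔ g ∈ p := by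
  rw [← mem_qA_zero_iff 𝒟 𝒜, ← IsScalarTower.algebraMap_apply,
    IsScalarTower.algebraMap_apply R (𝒟.B 0) (𝒟.A 0), mem_qA_iff, algebraMap_mem_qB_iff]

/-- the backward pass -/
theorem backward (d : ∀ i, 𝒟.B i) (hd : ∀ i, i < 𝒟.n → d i ∉ 𝒜.qB i) :
    ∃ β : ∀ i, 𝒟.B i, β (𝒟.n - 1) = d (𝒟.n - 1) ∧
      (∀ i, i < 𝒟.n → β i ∉ 𝒜.qB i ∧ ∃ t, β i = d i * t) ∧
      (∀ i, i + 1 < 𝒟.n → algebraMap (𝒟.B i) (𝒟.A (i + 1)) (β i) =
        algebraMap (𝒟.B i) (𝒟.A (i + 1)) (d i) *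
          algebraMap (𝒟.B (i + 1)) (𝒟.A (i + 1)) (β (i + 1))) := by
  classical
  have key : ∀ j, j ≤ 𝒟.n - 1 → ∃ β : ∀ i, 𝒟.B i, β (𝒟.n - 1) = d (𝒟.n - 1) ∧
      (∀ i, 𝒟.n - 1 - j ≤ i → i < 𝒟.n → β i ∉ 𝒜.qB i ∧ ∃ t, β i = d i * t) ∧
      (∀ i, 𝒟.n - 1 - j ≤ i → i + 1 < 𝒟.n → algebraMap (𝒟.B i) (𝒟.A (i + 1)) (β i) =
        algebraMap (𝒟.B i) (𝒟.A (i + 1)) (d i) *
          algebraMap (𝒟.B (i + 1)) (𝒟.A (i + 1)) (β (i + 1))) := by
    intro j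
    induction j with
    | zero =>
      intro _
      refine ⟨d, rfl, fun i _ hin => ⟨hd i hin, 1, (mul_one _).symm⟩, fun i hi hin => ?_⟩
      omega
    | succ j ih =>
      intro hj
      obtain ⟨β, h1, h2, h3⟩ := ih (by omega)
      obtain ⟨k, hk⟩ : ∃ k, k = 𝒟.n - 1 - (j + 1) := ⟨_, rfl⟩
      have hk1 : 𝒟.n - 1 - j = k + 1 := by omega
      have hkn : k + 1 < 𝒟.n := by omega
      rw [hk1] at h2 h3
      rw [← hk]
      obtain ⟨t₀, ht₀⟩ := 𝒟.surjBA' k hkn (algebraMap (𝒟.B (k + 1)) (𝒟.A (k + 1)) (β (k + 1)))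
      have hne : k ≠ 𝒟.n - 1 := by omega
      have hβk : Function.update β k (d k * t₀) k = d k * t₀ := Function.update_self _ _ _
      have hβne : ∀ i, i ≠ k → Function.update β k (d k * t₀) i = β i :=
        fun i hi => Function.update_of_ne hi _ _
      refine ⟨Function.update β k (d k * t₀), ?_, fun i hi hin => ?_, fun i hi hin => ?_⟩
      · rw [hβne _ hne.symm, h1]
      · rcases Nat.eq_or_lt_of_le hi with rfl | hlt
        · rw [hβk]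
          refine ⟨fun hmem => ?_, t₀, rfl⟩
          rw [← mem_qA_succ_iff 𝒟 𝒜 k hkn, map_mul, ht₀] at hmem
          rcases Ideal.IsPrime.mem_or_mem inferInstance hmem with h4 | h4
          · exact hd k (Nat.lt_of_succ_lt hkn) ((mem_qA_succ_iff 𝒟 𝒜 k hkn _).mp h4)
          · exact (h2 (k + 1) le_rfl hkn).1 ((mem_qA_iff 𝒟 𝒜 (k + 1) _).mp h4)
        · rw [hβne i (by omega)]
          exact h2 i (by omega) hin
      · rcases Nat.eq_or_lt_of_le hi with rfl | hlt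
        · rw [hβk, hβne (k + 1) (by omega), map_mul, ht₀]
        · rw [hβne i (by omega), hβne (i + 1) (by omega)]
          exact h3 i (by omega) hin
  obtain ⟨β, h1, h2, h3⟩ := key (𝒟.n - 1) le_rfl
  refine ⟨β, h1, fun i hin => h2 i (by omega) hin, fun i hin => h3 i (by omega) hin⟩

/-- the forward pass -/
theorem forward (u : S) (hu : u ∉ q) :
    ∃ d : ∀ i, 𝒟.B i, (∀ i, i < 𝒟.n → d i ∉ 𝒜.qB i) ∧
      (∃ c, algebraMap (𝒟.B 0) (𝒟.A 0) (d 0) = algebraMap S (𝒟.A 0) u * c) ∧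
      (∀ i, i + 1 < 𝒟.n → ∃ c, algebraMap (𝒟.B (i + 1)) (𝒟.A (i + 1)) (d (i + 1)) =
        algebraMap (𝒟.B i) (𝒟.A (i + 1)) (d i) * c) := by
  classical
  have key : ∀ k, k + 1 ≤ 𝒟.n → ∃ d : ∀ i, 𝒟.B i, (∀ i, i < k + 1 → d i ∉ 𝒜.qB i) ∧
      (∃ c, algebraMap (𝒟.B 0) (𝒟.A 0) (d 0) = algebraMap S (𝒟.A 0) u * c) ∧
      (∀ i, i + 1 < k + 1 → ∃ c, algebraMap (𝒟.B (i + 1)) (𝒟.A (i + 1)) (d (i + 1)) =
        algebraMap (𝒟.B i) (𝒟.A (i + 1)) (d i) * c) := by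
    intro k
    induction k with
    | zero =>
      intro _
      haveI := 𝒟.finiteBA 0 𝒟.pos
      obtain ⟨y, hy, c, hc⟩ := Shrink.exists_not_mem_dvd (𝒜.qA 0) (𝒜.qB 0) (𝒜.uniq 0 𝒟.pos)
        (algebraMap S (𝒟.A 0) u) (fun h => hu ((mem_qA_zero_iff 𝒟 𝒜 u).mp h))
      refine ⟨Function.update (fun _ => 0) 0 y, fun i hi => ?_, ⟨c, ?_⟩, fun i hi => ?_⟩
      · have : i = 0 := by omega
        subst this
        rw [Function.update_self]
        exact hy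
      · rw [Function.update_self]
        exact hc
      · omega
    | succ k ih =>
      intro hk
      obtain ⟨d, h1, h2, h3⟩ := ih (by omega)
      have hkn : k + 1 < 𝒟.n := by omega
      haveI := 𝒟.finiteBA (k + 1) hkn
      obtain ⟨y, hy, c, hc⟩ := Shrink.exists_not_mem_dvd (𝒜.qA (k + 1)) (𝒜.qB (k + 1))
        (𝒜.uniq (k + 1) hkn) (algebraMap (𝒟.B k) (𝒟.A (k + 1)) (d k))
        (fun h => h1 k (by omega) ((mem_qA_succ_iff 𝒟 𝒜 k hkn _).mp h))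
      have hdk : Function.update d (k + 1) y (k + 1) = y := Function.update_self _ _ _
      have hdne : ∀ i, i ≠ k + 1 → Function.update d (k + 1) y i = d i :=
        fun i hi => Function.update_of_ne hi _ _
      refine ⟨Function.update d (k + 1) y, fun i hi => ?_, ?_, fun i hi => ?_⟩
      · rcases Nat.eq_or_lt_of_le (Nat.lt_succ_iff.mp hi) with rfl | hlt
        · rw [hdk]
          exact hy
        · rw [hdne i (by omega)]
          exact h1 i hlt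
      · rw [hdne 0 (by omega)]
        exact h2
      · rcases Nat.eq_or_lt_of_le (Nat.lt_succ_iff.mp hi) with heq | hlt
        · have : i = k := by omega
          subst this
          rw [hdk, hdne i (by omega)]
          exact ⟨c, hc⟩
        · rw [hdne (i + 1) (by omega), hdne i (by omega)]
          exact h3 i hlt
  obtain ⟨d, h1, h2, h3⟩ := key (𝒟.n - 1) (by have := 𝒟.pos; omega)
  have hn : 𝒟.n - 1 + 1 = 𝒟.n := by have := 𝒟.pos; omega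
  rw [hn] at h1 h3
  exact ⟨d, h1, h2, h3⟩


theorem exists_common (n : ℕ) (Pr : ℕ → R → Prop)
    (hmono : ∀ i g g', Pr i g → Pr i (g * g') ∧ Pr i (g' * g))
    (h : ∀ i, i < n → ∃ g, g ∉ p ∧ Pr i g) : ∃ g, g ∉ p ∧ ∀ i, i < n → Pr i g := by
  induction n with
  | zero =>
    exact ⟨1, fun h1 => (Ideal.IsPrime.ne_top inferInstance) ((Ideal.eq_top_iff_one _).mpr h1),
      fun i hi => absurd hi (Nat.not_lt_zero i)⟩
  | succ n ih =>
    obtain ⟨g₁, hg₁, h1⟩ := ih (fun i hi => h i (Nat.lt_succ_of_lt hi))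
    obtain ⟨g₂, hg₂, h2⟩ := h n (Nat.lt_succ_self n)
    refine ⟨g₁ * g₂, fun hm => ?_, fun i hi => ?_⟩
    · rcases Ideal.IsPrime.mem_or_mem inferInstance hm with h | h
      · exact hg₁ h
      · exact hg₂ h
    · rcases Nat.eq_or_lt_of_le (Nat.lt_succ_iff.mp hi) with rfl | hlt
      · exact (hmono _ g₂ g₁ h2).2
      · exact (hmono _ g₁ g₂ (h1 i hlt)).1

/-- the choice of the localization data -/
theorem exists_locData (d : ∀ i, 𝒟.B i) (hd : ∀ i, i < 𝒟.n → d i ∉ 𝒜.qB i) (u : S) (hu : u ∉ q)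
    (C0 : ∃ c, algebraMap (𝒟.B 0) (𝒟.A 0) (d 0) = algebraMap S (𝒟.A 0) u * c)
    (Ci : ∀ i, i + 1 < 𝒟.n → ∃ c, algebraMap (𝒟.B (i + 1)) (𝒟.A (i + 1)) (d (i + 1)) =
      algebraMap (𝒟.B i) (𝒟.A (i + 1)) (d i) * c) :
    ∃ L : LocData 𝒟, L.g ∉ p ∧ L.hX ∉ q ∧ (∀ i, i < 𝒟.n → L.b i ∉ 𝒜.qB i) ∧
      (∀ i, i < 𝒟.n → ∀ P : Ideal R, P.IsPrime → L.g ∉ P →
        ∃ Q : Ideal (𝒟.B i), Q.IsPrime ∧ L.b i ∉ Q ∧ Q.under R = P) ∧
      (∃ c, L.hX = u * c) ∧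
      L.b (𝒟.n - 1) = d (𝒟.n - 1) * algebraMap R (𝒟.B (𝒟.n - 1)) L.g := by
  classical
  obtain ⟨β, hβ1, hβ2, hβ3⟩ := backward 𝒟 𝒜 d hd
  obtain ⟨g, hg, hgs⟩ := exists_common (p := p) 𝒟.n
    (fun i g => i < 𝒟.n → ∀ P : Ideal R, P.IsPrime → g ∉ P →
      ∃ Q : Ideal (𝒟.B i), Q.IsPrime ∧ β i ∉ Q ∧ Q.under R = P)
    (fun i g g' hP => ⟨fun hi P hPp hgP => hP hi P hPp (fun hm => hgP (Ideal.mul_mem_right _ _ hm)),
      fun hi P hPp hgP => hP hi P hPp (fun hm => hgP (Ideal.mul_mem_left _ _ hm))⟩)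
    (fun i hi => by
      haveI := 𝒟.smooth i hi
      obtain ⟨g, hg, h⟩ := Shrink.exists_basicOpen_subset_image p (𝒜.qB i) (β i) (hβ2 i hi).1
      exact ⟨g, hg, fun _ => h⟩)
  obtain ⟨h₀, hh₀⟩ := 𝒟.surjSA (algebraMap (𝒟.B 0) (𝒟.A 0) (β 0))
  obtain ⟨b, hb_def⟩ : ∃ b : ∀ i, 𝒟.B i,
      b = fun i => if i < 𝒟.n then β i * algebraMap R (𝒟.B i) g else 0 := ⟨_, rfl⟩
  have hb_lt : ∀ i, i < 𝒟.n → b i = β i * algebraMap R (𝒟.B i) g := fun i h => by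
    rw [hb_def]
    exact if_pos h
  have hb_ge : ∀ i, ¬ i < 𝒟.n → b i = 0 := fun i h => by
    rw [hb_def]
    exact if_neg h
  have hγ : ∀ i, algebraMap (𝒟.B i) (𝒟.A i) (algebraMap R (𝒟.B i) g) = algebraMap R (𝒟.A i) g :=
    fun i => (IsScalarTower.algebraMap_apply R (𝒟.B i) (𝒟.A i) g).symm
  have hγ' : ∀ i, algebraMap (𝒟.B i) (𝒟.A (i + 1)) (algebraMap R (𝒟.B i) g) =
      algebraMap R (𝒟.A (i + 1)) g :=
    fun i => (IsScalarTower.algebraMap_apply R (𝒟.B i) (𝒟.A (i + 1)) g).symm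
  have hγS : algebraMap S (𝒟.A 0) (algebraMap R S g) = algebraMap R (𝒟.A 0) g :=
    (IsScalarTower.algebraMap_apply R S (𝒟.A 0) g).symm
  refine ⟨{ g := g
            hX := u * h₀ * algebraMap R S g
            b := b
            hgb := fun i => ?_
            hgX := ⟨1, u * h₀, by rw [pow_one, mul_comm]⟩
            hbb := fun i => ?_
            hXb := ?_
            hbb' := fun i hi => ?_
            hbX := ?_ }, hg, ?_, fun i hi => ?_, fun i hi P hPp hgP => ?_,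
            ⟨h₀ * algebraMap R S g, mul_assoc u h₀ (algebraMap R S g)⟩, ?_⟩
  · -- hgb
    by_cases h : i < 𝒟.n
    · exact ⟨1, β i, by rw [pow_one, hb_lt i h, mul_comm]⟩
    · exact ⟨1, 0, by rw [pow_one, hb_ge i h, mul_zero]⟩
  · -- hbb
    by_cases h : i + 1 < 𝒟.n
    · obtain ⟨t, ht⟩ := (hβ2 (i + 1) h).2
      obtain ⟨c, hc⟩ := Ci i h
      have hx : algebraMap (𝒟.B (i + 1)) (𝒟.A (i + 1)) (β (i + 1)) =
          algebraMap (𝒟.B i) (𝒟.A (i + 1)) (d i) * c *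
            algebraMap (𝒟.B (i + 1)) (𝒟.A (i + 1)) t := by
        rw [ht, map_mul, hc]
      refine ⟨2, c * algebraMap (𝒟.B (i + 1)) (𝒟.A (i + 1)) t * algebraMap R (𝒟.A (i + 1)) g, ?_⟩
      rw [hb_lt (i + 1) h, hb_lt i (Nat.lt_of_succ_lt h), map_mul, map_mul, hγ, hγ', hβ3 i h]
      linear_combination (algebraMap (𝒟.B (i + 1)) (𝒟.A (i + 1)) (β (i + 1)) *
        (algebraMap R (𝒟.A (i + 1)) g) ^ 2) * hx
    · exact ⟨1, 0, by rw [hb_ge (i + 1) h, map_zero, pow_one, mul_zero]⟩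
  · -- hXb
    obtain ⟨t, ht⟩ := (hβ2 0 𝒟.pos).2
    obtain ⟨c, hc⟩ := C0
    have hx : algebraMap (𝒟.B 0) (𝒟.A 0) (β 0) =
        algebraMap S (𝒟.A 0) u * c * algebraMap (𝒟.B 0) (𝒟.A 0) t := by
      rw [ht, map_mul, hc]
    refine ⟨2, c * algebraMap (𝒟.B 0) (𝒟.A 0) t * algebraMap R (𝒟.A 0) g, ?_⟩
    rw [hb_lt 0 𝒟.pos, map_mul, map_mul, map_mul, hγ, hγS, hh₀]
    linear_combination (algebraMap (𝒟.B 0) (𝒟.A 0) (β 0) *
      (algebraMap R (𝒟.A 0) g) ^ 2) * hx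
  · -- hbb'
    refine ⟨1, algebraMap (𝒟.B i) (𝒟.A (i + 1)) (d i), ?_⟩
    rw [hb_lt (i + 1) hi, hb_lt i (Nat.lt_of_succ_lt hi), map_mul, map_mul, hγ, hγ', hβ3 i hi]
    ring
  · -- hbX
    refine ⟨1, algebraMap S (𝒟.A 0) u, ?_⟩
    rw [hb_lt 0 𝒟.pos, map_mul, map_mul, map_mul, hγ, hγS, hh₀]
    ring
  · -- hX ∉ q
    intro hm
    rcases Ideal.IsPrime.mem_or_mem inferInstance hm with h1 | h1
    · rcases Ideal.IsPrime.mem_or_mem inferInstance h1 with h2 | h2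
      · exact hu h2
      · rw [← mem_qA_zero_iff 𝒟 𝒜, hh₀, mem_qA_iff] at h2
        exact (hβ2 0 𝒟.pos).1 h2
    · exact hg ((algebraMap_mem_q_iff 𝒟 𝒜 g).mp h1)
  · -- hb
    show b i ∉ 𝒜.qB i
    rw [hb_lt i hi]
    intro hm
    rcases Ideal.IsPrime.mem_or_mem inferInstance hm with h1 | h1
    · exact (hβ2 i hi).1 h1
    · exact hg ((algebraMap_mem_qB_iff 𝒟 𝒜 i g).mp h1)
  · -- hs
    obtain ⟨Q, hQ, hβQ, hQP⟩ := hgs i hi hi P hPp hgP
    refine ⟨Q, hQ, ?_, hQP⟩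
    show b i ∉ Q
    rw [hb_lt i hi]
    intro hm
    rcases Ideal.IsPrime.mem_or_mem hQ hm with h1 | h1
    · exact hβQ h1
    · apply hgP
      rw [← hQP]
      exact h1
  · -- last
    show b (𝒟.n - 1) = _
    rw [hb_lt (𝒟.n - 1) (Nat.sub_one_lt_of_lt 𝒟.pos), hβ1]

end LocChoice

end Groth.Agent.Lib.helper3.CDevBC
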