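import Mathlib
import Groth.Prelude.Def_FlatCA
import Groth.Agent.Lib.Helper3.FlatAtLib2

/-!
# Flatness along an elementary dévissage (helper3; towards S1250)

`chain₁`: étale localization `(R, S, N) → (R', S', N' ≅ G)` preserves and reflects `FlatAt`.
`chain₂`: closed immersion `S' → C`.
-/

set_option autoImplicit false
set_option linter.style.haveILetI false
set_option linter.unusedSectionVars false
universe u

open TensorProduct

namespace Groth.Agent.Lib.helper3.ElemDev

open Groth.Agent.Lib.helper3.FlatAtLib

section Chain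

variable {R S R' S' : Type u} [CommRing R] [CommRing S] [CommRing R'] [CommRing S']
  [Algebra R S] [Algebra R R'] [Algebra S S'] [Algebra R' S'] [Algebra R S']
  [IsScalarTower R R' S'] [IsScalarTower R S S'] [Algebra.Etale R R'] [Module.Flat S S']
  {N : Type u} [AddCommGroup N] [Module S N] [Module R N] [IsScalarTower R S N]
  {N' : Type u} [AddCommGroup N'] [Module S' N'] [Module S N'] [IsScalarTower S S' N']
  (f : N →ₗ[S] N') (hf : IsBaseChange S' f)
  {G : Type u} [AddCommGroup G] [Module S' G] [Module R' G] [IsScalarTower R' S' G]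
  (iso : N' ≃ₗ[S'] G)
  (Pq : Ideal S) [Pq.IsPrime] (Q' : Ideal S') [Q'.IsPrime] [Q'.LiesOver Pq]

include hf iso in
theorem chain₁ : FlatCA.FlatAt R Pq N ↔ FlatCA.FlatAt R' Q' G := by
  letI mR'N' : Module R' N' := Module.compHom N' (algebraMap R' S')
  haveI : IsScalarTower R' S' N' := IsScalarTower.of_algebraMap_smul (fun r x => rfl)
  letI mRN' : Module R N' := Module.compHom N' (algebraMap R S')
  haveI : IsScalarTower R S' N' := IsScalarTower.of_algebraMap_smul (fun r x => rfl)
  haveI : IsScalarTower R R' N' := IsScalarTower.of_algebraMap_smul (fun r x => by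
    show (algebraMap R' S' (algebraMap R R' r)) • x = (algebraMap R S' r) • x
    rw [← IsScalarTower.algebraMap_apply])
  rw [flatAt_iff_of_isBaseChange (A := R) Pq Q' f hf,
    flatAt_iff_of_etale (R := R) (R' := R') Q' N', flatAt_congr Q' iso]

variable {C : Type u} [CommRing C] [Algebra S' C] [Algebra R' C] [IsScalarTower R' S' C]
  [Module C G] [IsScalarTower S' C G] [IsScalarTower R' C G]
  (hsurj : Function.Surjective (algebraMap S' C)) (Z : Ideal C) [Z.IsPrime] [Z.LiesOver Q']

include hsurj in
theorem chain₂ : FlatCA.FlatAt R' Q' G ↔ FlatCA.FlatAt R' Z G := by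
  constructor
  · intro h
    exact flatAt_of_flatAt_under (A := R') (B := S') (C := C) Q' G Z h
  · intro h
    haveI : Algebra.IsIntegral S' C := Algebra.isIntegral_of_surjective hsurj
    apply flatAt_of_forall_liesOver (A := R') (B := S') (C := C) Q' G
    intro Z' _ hZ'
    have h1 : Z'.comap (algebraMap S' C) = Z.comap (algebraMap S' C) := by
      have e1 : Q' = Z'.comap (algebraMap S' C) := hZ'.over
      have e2 : Q' = Z.comap (algebraMap S' C) := Ideal.LiesOver.over (p := Q') (P := Z)
      rw [← e1, ← e2]
    have h2 : Z' = Z := Ideal.comap_injective_of_surjective _ hsurj h1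
    subst h2
    exact h

end Chain

section Eq

variable {R S : Type u} [CommRing R] [CommRing S] [Algebra R S]
  {N : Type u} [AddCommGroup N] [Module S N] [Module R N] [IsScalarTower R S N]

theorem flatAt_of_eq {q₁ q₂ : Ideal S} [q₁.IsPrime] [q₂.IsPrime] (h : q₁ = q₂)
    (hf : FlatCA.FlatAt R q₁ N) : FlatCA.FlatAt R q₂ N := by
  subst h
  exact hf

end Eq

end Groth.Agent.Lib.helper3.ElemDev
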