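import Mathlib

/-!
# Finite presentation of localized modules: transfer lemmas (helper3; towards S1251)

`FPT A T M` is shorthand (not a definition) for
`Module.FinitePresentation (Localization T) (LocalizedModule T M)`.

* `fp_descent` : faithfully flat descent of finite presentation of modules.
* `fp_compHom_iff` : finite presentation is invariant under a ring isomorphism.
* `fp_localizedModule_iff` (K) : `FPT A T M ↔ Module.FinitePresentation A' M'` for any model
  `(A', M')` of the localization.
* `fp_localizedModule_iff_of_sat` : `FPT` only depends on the saturation of `T`.
-/

set_option autoImplicit false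
set_option linter.style.haveILetI false
set_option linter.unusedSectionVars false
universe u

open TensorProduct

namespace Groth.Agent.Lib.helper3.FpLoc

section Descent

/-- faithfully flat descent of finite presentation of modules. -/
theorem fp_descent (R T M : Type*) [CommRing R] [CommRing T]
    [Algebra R T] [AddCommGroup M] [Module R M] [Module.FaithfullyFlat R T]
    [Module.FinitePresentation T (T ⊗[R] M)] : Module.FinitePresentation R M := by
  haveI : Module.Finite R M := Module.Finite.of_finite_tensorProduct_of_faithfullyFlat T
  obtain ⟨n, g, hg⟩ := Module.Finite.exists_fin' R M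
  rw [← Module.FinitePresentation.fg_ker_iff g hg, ← Module.Finite.iff_fg]
  haveI : Module.Finite T (T ⊗[R] LinearMap.ker g) := by
    haveI : Module.Finite T (LinearMap.ker (AlgebraTensorModule.lTensor T T g)) := by
      rw [Module.Finite.iff_fg]
      refine Module.FinitePresentation.fg_ker (AlgebraTensorModule.lTensor T T g) ?_
      have := LinearMap.lTensor_surjective T hg
      exact this
    exact Module.Finite.equiv (LinearMap.tensorKerEquiv T T g).symm
  exact Module.Finite.of_finite_tensorProduct_of_faithfullyFlat T

end Descent

section CompHom

variable {L A' : Type*} [CommRing L] [CommRing A'] (σ : L ≃+* A')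
  (X : Type*) [AddCommGroup X] [Module A' X]

/-- finite presentation over `A'` implies finite presentation over `L ≃ A'`. -/
theorem fp_compHom_of_fp [Module.FinitePresentation A' X] :
    letI : Module L X := Module.compHom X (σ : L →+* A')
    Module.FinitePresentation L X := by
  letI : Module L X := Module.compHom X (σ : L →+* A')
  letI : Algebra A' L := (σ.symm : A' →+* L).toAlgebra
  haveI : IsScalarTower A' L X := IsScalarTower.of_algebraMap_smul fun a x => by
    change σ (σ.symm a) • x = a • x
    rw [RingEquiv.apply_symm_apply]
  haveI h0 : IsLocalization (⊥ : Submonoid A') A' :=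
    IsLocalization.self (by
      rintro x hx
      rw [Submonoid.mem_bot] at hx
      subst hx
      exact isUnit_one)
  haveI : IsLocalization (⊥ : Submonoid A') L :=
    IsLocalization.isLocalization_of_algEquiv (⊥ : Submonoid A')
      (AlgEquiv.ofRingEquiv (f := σ.symm) (fun x => rfl) : A' ≃ₐ[A'] L)
  haveI := isLocalizedModule_id (⊥ : Submonoid A') X L
  have hbc : IsBaseChange L (LinearMap.id : X →ₗ[A'] X) :=
    (isLocalizedModule_iff_isBaseChange (⊥ : Submonoid A') L _).mp inferInstance
  exact FinitePresentation.of_isBaseChange _ hbc

/-- finite presentation over `L ≃ A'` (acting through the isomorphism) implies finite presentation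
over `A'`. -/
theorem fp_of_fp_compHom
    (h : letI : Module L X := Module.compHom X (σ : L →+* A'); Module.FinitePresentation L X) :
    Module.FinitePresentation A' X := by
  letI mL : Module L X := Module.compHom X (σ : L →+* A')
  haveI : Module.FinitePresentation L X := h
  letI : Algebra L A' := (σ : L →+* A').toAlgebra
  haveI : IsScalarTower L A' X := IsScalarTower.of_algebraMap_smul fun l x => rfl
  haveI h0 : IsLocalization (⊥ : Submonoid L) L :=
    IsLocalization.self (by
      rintro x hx
      rw [Submonoid.mem_bot] at hx
      subst hx
      exact isUnit_one)
  haveI : IsLocalization (⊥ : Submonoid L) A' :=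
    IsLocalization.isLocalization_of_algEquiv (⊥ : Submonoid L)
      (AlgEquiv.ofRingEquiv (f := σ) (fun x => rfl) : L ≃ₐ[L] A')
  haveI := isLocalizedModule_id (⊥ : Submonoid L) X A'
  have hbc : IsBaseChange A' (LinearMap.id : X →ₗ[L] X) :=
    (isLocalizedModule_iff_isBaseChange (⊥ : Submonoid L) A' _).mp inferInstance
  exact FinitePresentation.of_isBaseChange _ hbc

end CompHom

section K

variable {A : Type*} [CommRing A] (T : Submonoid A) {M : Type*} [AddCommGroup M] [Module A M]
  (A' : Type*) [CommRing A'] [Algebra A A'] [IsLocalization T A']
  {M' : Type*} [AddCommGroup M'] [Module A M'] [Module A' M'] [IsScalarTower A A' M']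
  (f : M →ₗ[A] M') [IsLocalizedModule T f]

include f in
/-- **Model independence**: `LocalizedModule T M` is finitely presented over `Localization T` iff
`M'` is finitely presented over `A'`, for any model `(A', M')` of the localization. -/
theorem fp_localizedModule_iff :
    Module.FinitePresentation (Localization T) (LocalizedModule T M) ↔
      Module.FinitePresentation A' M' := by
  let σ : Localization T ≃ₐ[A] A' := IsLocalization.algEquiv T _ _
  letI : Module (Localization T) M' :=
    Module.compHom M' ((σ.toRingEquiv : Localization T ≃+* A') : Localization T →+* A')
  haveI : IsScalarTower A (Localization T) M' := IsScalarTower.of_algebraMap_smul fun a x => by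
    change σ (algebraMap A _ a) • x = a • x
    rw [σ.commutes, algebraMap_smul]
  let e : LocalizedModule T M ≃ₗ[Localization T] M' :=
    (IsLocalizedModule.iso T f).extendScalarsOfIsLocalization T (Localization T)
  constructor
  · intro h
    haveI : Module.FinitePresentation (Localization T) M' := Module.FinitePresentation.of_equiv e
    exact fp_of_fp_compHom σ.toRingEquiv M' inferInstance
  · intro h
    haveI := fp_compHom_of_fp σ.toRingEquiv M'
    exact Module.FinitePresentation.of_equiv e.symm

end K

end Groth.Agent.Lib.helper3.FpLoc
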