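import Mathlib
import Groth.Agent.Lib.Helper3.FpLoc1
import Groth.Agent.Lib.Helper3.CDev1

/-!
# Finite presentation of localized modules: saturation, towers, base change (helper3; S1251)
-/

set_option autoImplicit false
set_option linter.style.haveILetI false
set_option linter.unusedSectionVars false
universe u

open TensorProduct

namespace Groth.Agent.Lib.helper3.FpLoc

section Sat

variable {B : Type*} [CommRing B] {M : Type*} [AddCommGroup M] [Module B M]

/-- enlarging the submonoid inside its saturation does not change finite presentation of the
localization. -/
theorem fp_iff_of_le_of_sat (S₁ S₂ : Submonoid B) (hle : S₁ ≤ S₂)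
    (hsat : ∀ x ∈ S₂, ∃ m : B, m * x ∈ S₁) :
    Module.FinitePresentation (Localization S₁) (LocalizedModule S₁ M) ↔
      Module.FinitePresentation (Localization S₂) (LocalizedModule S₂ M) := by
  haveI : IsLocalization S₂ (Localization S₁) :=
    IsLocalization.of_le_of_exists_dvd S₁ S₂ hle (fun n hn => by
      obtain ⟨m, hm⟩ := hsat n hn
      exact ⟨m * n, hm, Dvd.intro_left m rfl⟩)
  haveI : IsLocalizedModule S₂ (LocalizedModule.mkLinearMap S₁ M) :=
    IsLocalizedModule.of_exists_mul_mem S₁ S₂ hle (fun x => hsat x x.2) _
  exact (fp_localizedModule_iff S₂ (Localization S₁) (LocalizedModule.mkLinearMap S₁ M)).symm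

/-- two submonoids with the same saturation give the same finite presentation condition. -/
theorem fp_iff_of_sat (S₁ S₂ : Submonoid B) (h₁₂ : ∀ x ∈ S₁, ∃ m : B, m * x ∈ S₂)
    (h₂₁ : ∀ x ∈ S₂, ∃ m : B, m * x ∈ S₁) :
    Module.FinitePresentation (Localization S₁) (LocalizedModule S₁ M) ↔
      Module.FinitePresentation (Localization S₂) (LocalizedModule S₂ M) := by
  have key : ∀ (U V : Submonoid B), (∀ x ∈ V, ∃ m : B, m * x ∈ U) →
      ∀ x ∈ U ⊔ V, ∃ m : B, m * x ∈ U := by
    intro U V hVU x hx
    obtain ⟨u, hu, v, hv, rfl⟩ := Submonoid.mem_sup.mp hx
    obtain ⟨m, hm⟩ := hVU v hv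
    exact ⟨m, by rw [mul_left_comm]; exact U.mul_mem hu hm⟩
  rw [fp_iff_of_le_of_sat S₁ (S₁ ⊔ S₂) le_sup_left (key S₁ S₂ h₂₁),
    fp_iff_of_le_of_sat S₂ (S₁ ⊔ S₂) le_sup_right (by
      rw [sup_comm]; exact key S₂ S₁ h₁₂)]

end Sat

section Tower

variable {A B : Type*} [CommRing A] [CommRing B] [Algebra A B] (T : Submonoid A)
  (M : Type*) [AddCommGroup M] [Module A M] [Module B M] [IsScalarTower A B M]

/-- the `B`-localization of `M` at the image of `T` is a model of the `A`-localization at `T`. -/
theorem tower_aux :
    letI : Module (Localization T) (LocalizedModule (Algebra.algebraMapSubmonoid B T) M) :=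
      Module.compHom _ (algebraMap (Localization T)
        (Localization (Algebra.algebraMapSubmonoid B T)))
    Module.FinitePresentation (Localization T) (LocalizedModule T M) ↔
      Module.FinitePresentation (Localization T)
        (LocalizedModule (Algebra.algebraMapSubmonoid B T) M) := by
  letI : Module (Localization T) (LocalizedModule (Algebra.algebraMapSubmonoid B T) M) :=
    Module.compHom _ (algebraMap (Localization T)
      (Localization (Algebra.algebraMapSubmonoid B T)))
  haveI : IsScalarTower A (Localization T)
      (LocalizedModule (Algebra.algebraMapSubmonoid B T) M) :=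
    IsScalarTower.of_algebraMap_smul fun a x => by
      change algebraMap (Localization T) (Localization (Algebra.algebraMapSubmonoid B T))
        (algebraMap A (Localization T) a) • x = a • x
      rw [← IsScalarTower.algebraMap_apply, algebraMap_smul]
  haveI : IsLocalizedModule T
      ((LocalizedModule.mkLinearMap (Algebra.algebraMapSubmonoid B T) M).restrictScalars A) :=
    IsLocalizedModule.restrictScalars T _
  exact fp_localizedModule_iff T (Localization T)
    ((LocalizedModule.mkLinearMap (Algebra.algebraMapSubmonoid B T) M).restrictScalars A)

/-- going up a finite algebra. -/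
theorem fp_up [Module.Finite A B]
    (h : Module.FinitePresentation (Localization T) (LocalizedModule T M)) :
    Module.FinitePresentation (Localization (Algebra.algebraMapSubmonoid B T))
      (LocalizedModule (Algebra.algebraMapSubmonoid B T) M) := by
  letI : Module (Localization T) (LocalizedModule (Algebra.algebraMapSubmonoid B T) M) :=
    Module.compHom _ (algebraMap (Localization T)
      (Localization (Algebra.algebraMapSubmonoid B T)))
  haveI : IsScalarTower (Localization T) (Localization (Algebra.algebraMapSubmonoid B T))
      (LocalizedModule (Algebra.algebraMapSubmonoid B T) M) :=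
    IsScalarTower.of_algebraMap_smul fun a x => rfl
  haveI := (tower_aux (B := B) T M).mp h
  haveI : Module.Finite (Localization T) (Localization (Algebra.algebraMapSubmonoid B T)) :=
    Module.Finite.of_isLocalization A B T
  exact CDev.fp_of_finiteType_of_fp (R := Localization T)
    (S := Localization (Algebra.algebraMapSubmonoid B T)) _

/-- going down a finitely presented (as a module) algebra. -/
theorem fp_down [Module.FinitePresentation A B]
    (h : Module.FinitePresentation (Localization (Algebra.algebraMapSubmonoid B T))
      (LocalizedModule (Algebra.algebraMapSubmonoid B T) M)) :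
    Module.FinitePresentation (Localization T) (LocalizedModule T M) := by
  letI : Module (Localization T) (LocalizedModule (Algebra.algebraMapSubmonoid B T) M) :=
    Module.compHom _ (algebraMap (Localization T)
      (Localization (Algebra.algebraMapSubmonoid B T)))
  haveI : IsScalarTower (Localization T) (Localization (Algebra.algebraMapSubmonoid B T))
      (LocalizedModule (Algebra.algebraMapSubmonoid B T) M) :=
    IsScalarTower.of_algebraMap_smul fun a x => rfl
  haveI := h
  haveI : Module.FinitePresentation (Localization T)
      (Localization (Algebra.algebraMapSubmonoid B T)) :=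
    (fp_localizedModule_iff T (Localization T)
      (IsScalarTower.toAlgHom A B (Localization (Algebra.algebraMapSubmonoid B T))).toLinearMap).mp
      inferInstance
  rw [tower_aux (B := B) T M]
  exact Module.FinitePresentation.trans (Localization T) _
    (Localization (Algebra.algebraMapSubmonoid B T))

end Tower

end Groth.Agent.Lib.helper3.FpLoc
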