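import Mathlib
import Groth.Agent.Lib.Helper3.FpLoc2

/-!
# Finite presentation of localized modules under base change (helper3; S1251)
-/

set_option autoImplicit false
set_option linter.style.haveILetI false
set_option linter.unusedSectionVars false
universe u

open TensorProduct

namespace Groth.Agent.Lib.helper3.FpLoc

section Core

variable {A B L L' : Type*} [CommRing A] [CommRing B] [CommRing L] [CommRing L']
  [Algebra A B] [Algebra A L] [Algebra B L'] [Algebra L L'] [Algebra A L']
  [IsScalarTower A B L'] [IsScalarTower A L L']
  {M M' X X' : Type*} [AddCommGroup M] [Module A M]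
  [AddCommGroup M'] [Module A M'] [Module B M'] [IsScalarTower A B M']
  [AddCommGroup X] [Module A X] [Module L X] [IsScalarTower A L X]
  [AddCommGroup X'] [Module A X'] [Module B X'] [Module L X'] [Module L' X']
  [IsScalarTower A B X'] [IsScalarTower A L' X'] [IsScalarTower B L' X'] [IsScalarTower L L' X']
  [IsScalarTower A L X']

/-- base change in two steps: `M → M' → X'` and `M → X → X'`. -/
theorem exists_isBaseChange (f : M →ₗ[A] M') (hf : IsBaseChange B f) (ι : M →ₗ[A] X)
    (hι : IsBaseChange L ι) (ι' : M' →ₗ[B] X') (hι' : IsBaseChange L' ι') :
    ∃ g : X →ₗ[L] X', IsBaseChange L' g := by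
  have hc : IsBaseChange L' ((ι'.restrictScalars A).comp f) := IsBaseChange.comp hf hι'
  refine ⟨hι.lift ((ι'.restrictScalars A).comp f), ?_⟩
  apply IsBaseChange.of_comp hι
  rw [IsBaseChange.lift_comp]
  exact hc

theorem fp_of_isBaseChange_aux (f : M →ₗ[A] M') (hf : IsBaseChange B f) (ι : M →ₗ[A] X)
    (hι : IsBaseChange L ι) (ι' : M' →ₗ[B] X') (hι' : IsBaseChange L' ι')
    [Module.FinitePresentation L X] : Module.FinitePresentation L' X' := by
  obtain ⟨g, hg⟩ := exists_isBaseChange f hf ι hι ι' hι'
  exact FinitePresentation.of_isBaseChange g hg

theorem fp_of_isBaseChange_descent_aux (f : M →ₗ[A] M') (hf : IsBaseChange B f) (ι : M →ₗ[A] X)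
    (hι : IsBaseChange L ι) (ι' : M' →ₗ[B] X') (hι' : IsBaseChange L' ι')
    [Module.FaithfullyFlat L L'] [Module.FinitePresentation L' X'] :
    Module.FinitePresentation L X := by
  obtain ⟨g, hg⟩ := exists_isBaseChange f hf ι hι ι' hι'
  haveI : Module.FinitePresentation L' (L' ⊗[L] X) := Module.FinitePresentation.of_equiv hg.equiv.symm
  exact fp_descent L L' X

end Core

section BC

variable {A B : Type*} [CommRing A] [CommRing B] [Algebra A B]
  {M M' : Type*} [AddCommGroup M] [Module A M] [AddCommGroup M'] [Module A M'] [Module B M']
  [IsScalarTower A B M']
  (f : M →ₗ[A] M') (hf : IsBaseChange B f) (T : Submonoid A) (T' : Submonoid B)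
  (hu : ∀ t : T, IsUnit (((algebraMap B (Localization T')).comp (algebraMap A B)) t))

/-- induced algebra structure `A_T → B_{T'}` when `T` becomes invertible in `B_{T'}`. -/
@[reducible] noncomputable def bcAlg : Algebra (Localization T) (Localization T') :=
  (IsLocalization.lift (M := T) hu).toAlgebra

theorem bcAlg_tower :
    letI := bcAlg T T' hu
    IsScalarTower A (Localization T) (Localization T') := by
  letI := bcAlg T T' hu
  exact IsScalarTower.of_algebraMap_eq fun a => by
    rw [RingHom.algebraMap_toAlgebra, IsLocalization.lift_eq]
    rfl

include hf hu in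
theorem fp_bc_up (h : Module.FinitePresentation (Localization T) (LocalizedModule T M)) :
    Module.FinitePresentation (Localization T') (LocalizedModule T' M') := by
  letI := bcAlg T T' hu
  haveI := bcAlg_tower T T' hu
  letI : Module (Localization T) (LocalizedModule T' M') :=
    Module.compHom _ (algebraMap (Localization T) (Localization T'))
  haveI : IsScalarTower (Localization T) (Localization T') (LocalizedModule T' M') :=
    IsScalarTower.of_algebraMap_smul fun a x => rfl
  haveI : IsScalarTower A (Localization T) (LocalizedModule T' M') :=
    IsScalarTower.of_algebraMap_smul fun a x => by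
      change algebraMap (Localization T) (Localization T') (algebraMap A (Localization T) a) • x
        = a • x
      rw [← IsScalarTower.algebraMap_apply, algebraMap_smul]
  haveI := h
  exact fp_of_isBaseChange_aux (L := Localization T) (L' := Localization T') f hf
    (LocalizedModule.mkLinearMap T M) (LocalizedModule.isBaseChange T M)
    (LocalizedModule.mkLinearMap T' M') (LocalizedModule.isBaseChange T' M')

include hf in
theorem fp_bc_down
    (hff : letI := bcAlg T T' hu; Module.FaithfullyFlat (Localization T) (Localization T'))
    (h : Module.FinitePresentation (Localization T') (LocalizedModule T' M')) :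
    Module.FinitePresentation (Localization T) (LocalizedModule T M) := by
  letI := bcAlg T T' hu
  haveI := bcAlg_tower T T' hu
  letI : Module (Localization T) (LocalizedModule T' M') :=
    Module.compHom _ (algebraMap (Localization T) (Localization T'))
  haveI : IsScalarTower (Localization T) (Localization T') (LocalizedModule T' M') :=
    IsScalarTower.of_algebraMap_smul fun a x => rfl
  haveI : IsScalarTower A (Localization T) (LocalizedModule T' M') :=
    IsScalarTower.of_algebraMap_smul fun a x => by
      change algebraMap (Localization T) (Localization T') (algebraMap A (Localization T) a) • x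
        = a • x
      rw [← IsScalarTower.algebraMap_apply, algebraMap_smul]
  haveI := h
  haveI := hff
  exact fp_of_isBaseChange_descent_aux (L := Localization T) (L' := Localization T') f hf
    (LocalizedModule.mkLinearMap T M) (LocalizedModule.isBaseChange T M)
    (LocalizedModule.mkLinearMap T' M') (LocalizedModule.isBaseChange T' M')

include hu in
/-- faithful flatness of `A_T → B_{T'}` from flatness of `A → B` and surjectivity on the relevant
primes. -/
theorem bc_faithfullyFlat [Module.Flat A B]
    (hsurj : ∀ (P : Ideal A) [P.IsPrime], Disjoint (T : Set A) (P : Set A) →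
      ∃ (Q : Ideal B) (_ : Q.IsPrime), Disjoint (T' : Set B) (Q : Set B) ∧
        Q.comap (algebraMap A B) = P) :
    letI := bcAlg T T' hu
    Module.FaithfullyFlat (Localization T) (Localization T') := by
  letI := bcAlg T T' hu
  haveI := bcAlg_tower T T' hu
  haveI : Module.Flat A (Localization T') := Module.Flat.trans A B (Localization T')
  haveI : Module.Flat (Localization T) (Localization T') :=
    (Module.flat_iff_of_isLocalization (Localization T) T _).mpr inferInstance
  apply Module.FaithfullyFlat.of_comap_surjective
  intro p'
  have hP : Disjoint (T : Set A)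
      ((p'.asIdeal.comap (algebraMap A (Localization T)) : Ideal A) : Set A) :=
    ((IsLocalization.isPrime_iff_isPrime_disjoint T (Localization T) p'.asIdeal).mp p'.isPrime).2
  obtain ⟨Q, hQ, hQT, hQP⟩ := hsurj (p'.asIdeal.comap (algebraMap A (Localization T))) hP
  have hQ'prime : (Q.map (algebraMap B (Localization T'))).IsPrime :=
    IsLocalization.isPrime_of_isPrime_disjoint T' _ Q hQ hQT
  refine ⟨⟨Q.map (algebraMap B (Localization T')), hQ'prime⟩, ?_⟩
  apply PrimeSpectrum.ext
  change (Q.map (algebraMap B (Localization T'))).comap
    (algebraMap (Localization T) (Localization T')) = p'.asIdeal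
  have h1 : ((Q.map (algebraMap B (Localization T'))).comap
      (algebraMap (Localization T) (Localization T'))).comap (algebraMap A (Localization T)) =
      p'.asIdeal.comap (algebraMap A (Localization T)) := by
    have h2 : Ideal.comap (algebraMap B (Localization T'))
        (Ideal.map (algebraMap B (Localization T')) Q) = Q :=
      IsLocalization.under_map_of_isPrime_disjoint T' _ hQ hQT
    rw [Ideal.comap_comap, ← IsScalarTower.algebraMap_eq,
      IsScalarTower.algebraMap_eq A B (Localization T'), ← Ideal.comap_comap, h2, hQP]
  have h3 : ∀ J : Ideal (Localization T),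
      Ideal.map (algebraMap A (Localization T)) (Ideal.comap (algebraMap A (Localization T)) J)
        = J := fun J => IsLocalization.map_under T (Localization T) J
  have := congrArg (Ideal.map (algebraMap A (Localization T))) h1
  rwa [h3, h3] at this

end BC

end Groth.Agent.Lib.helper3.FpLoc
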