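import Mathlib
import Groth.Agent.Lib.Helper3.RegFib5
import Groth.Agent.Lib.Helper3.FpLocal1

/-!
# Fibrewise nonzerodivisors on flat finitely presented modules are nonzerodivisors
-/

set_option autoImplicit false
set_option linter.style.haveILetI false
set_option linter.unusedSectionVars false

universe u

open TensorProduct IsLocalRing RingTheory.Sequence
open scoped Pointwise

namespace Groth.Agent.Lib.helper3.RegFib

section Fib

variable {A B : Type u} [CommRing A] [CommRing B] [Algebra A B]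
  (M : Type u) [AddCommGroup M] [Module B M] [Module A M] [IsScalarTower A B M]

/-- `(B ⊗ κ) ⊗_B M ≃ M ⊗_A κ`, `B`-linear. -/
noncomputable def eFib (κ : Type u) [CommRing κ] [Algebra A κ] :
    (B ⊗[A] κ) ⊗[B] M ≃ₗ[B] M ⊗[A] κ :=
  (TensorProduct.comm B (B ⊗[A] κ) M) ≪≫ₗ
    (TensorProduct.AlgebraTensorModule.cancelBaseChange A B B M κ)

theorem isSMulRegular_fibre_iff (κ : Type u) [CommRing κ] [Algebra A κ] (a : B) :
    IsSMulRegular ((B ⊗[A] κ) ⊗[B] M) (a ⊗ₜ[A] (1 : κ)) ↔ IsSMulRegular (M ⊗[A] κ) a := by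
  rw [← (eFib M κ).isSMulRegular_congr a]
  have h : ∀ x : (B ⊗[A] κ) ⊗[B] M, (a ⊗ₜ[A] (1 : κ)) • x = a • x := by
    intro x
    rw [← algebraMap_smul (B ⊗[A] κ) a x]
    rfl
  simp only [IsSMulRegular, h]

theorem isNoetherianRing_fibre [Algebra.FiniteType A B] (κ : Type u) [Field κ] [Algebra A κ] :
    IsNoetherianRing (B ⊗[A] κ) := by
  haveI : IsNoetherianRing (κ ⊗[A] B) := Algebra.FiniteType.isNoetherianRing κ (κ ⊗[A] B)
  exact isNoetherianRing_of_ringEquiv (κ ⊗[A] B) (Algebra.TensorProduct.comm A κ B).toRingEquiv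

theorem isSMulRegular_fibre_of_S1 [Algebra.FiniteType A B] (κ : Type u) [Field κ] [Algebra A κ]
    (hS1 : associatedPrimes (B ⊗[A] κ) ((B ⊗[A] κ) ⊗[B] M) ⊆
      (Module.annihilator (B ⊗[A] κ) ((B ⊗[A] κ) ⊗[B] M)).minimalPrimes)
    (a : B)
    (ha : ∀ P ∈ (Module.annihilator (B ⊗[A] κ) ((B ⊗[A] κ) ⊗[B] M)).minimalPrimes,
      a ⊗ₜ[A] (1 : κ) ∉ P) :
    IsSMulRegular ((B ⊗[A] κ) ⊗[B] M) (a ⊗ₜ[A] (1 : κ)) := by
  haveI := isNoetherianRing_fibre (A := A) (B := B) κ
  by_contra h
  have hmem : (a ⊗ₜ[A] (1 : κ)) ∈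
      ({r : B ⊗[A] κ | IsSMulRegular ((B ⊗[A] κ) ⊗[B] M) r}ᶜ : Set (B ⊗[A] κ)) := h
  rw [← biUnion_associatedPrimes_eq_compl_regular (B ⊗[A] κ) ((B ⊗[A] κ) ⊗[B] M)] at hmem
  simp only [Set.mem_iUnion] at hmem
  obtain ⟨P, hP, haP⟩ := hmem
  exact ha P (hS1 hP) haP

theorem isSMulRegular_of_fibres [Algebra.FinitePresentation A B] [Module.FinitePresentation B M]
    [Module.Flat A M] (a : B)
    (ha : ∀ (p : Ideal A) [p.IsPrime], IsSMulRegular (M ⊗[A] p.ResidueField) a) :
    IsSMulRegular M a := by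
  intro x y hxy
  replace hxy : a • x = a • y := hxy
  have hzero : x - y = 0 := by
    apply Module.eq_zero_of_localization_maximal
      (Mₚ := fun (q : Ideal B) _ => LocalizedModule q.primeCompl M)
      (f := fun (q : Ideal B) _ => LocalizedModule.mkLinearMap q.primeCompl M)
    intro q hq
    haveI : q.IsPrime := hq.isPrime
    have hflat : Module.Flat A (LocalizedModule q.primeCompl M) :=
      Groth.Agent.Lib.helper3.FpLocal.flat_localizedModule _ _
    have h0 := ha (q.comap (algebraMap A B))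
    have h1' := IsSMulRegular.of_isLocalizedModule (Localization.AtPrime q) q.primeCompl
      (LocalizedModule.mkLinearMap q.primeCompl (M ⊗[A] (q.comap (algebraMap A B)).ResidueField)) h0
    have h1 : IsSMulRegular
        (LocalizedModule q.primeCompl (M ⊗[A] (q.comap (algebraMap A B)).ResidueField)) a := by
      intro u v huv
      apply h1'
      simpa only [algebraMap_smul] using huv
    have h2 := isSMulRegular_localized q M a hflat h1
    apply h2
    show a • _ = a • (0 : LocalizedModule q.primeCompl M)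
    rw [smul_zero, ← map_smul, smul_sub, hxy, sub_self, map_zero]
  exact sub_eq_zero.mp hzero

end Fib

end Groth.Agent.Lib.helper3.RegFib
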