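import Mathlib
import Groth.Prelude.Def_DRing2
import Groth.Prelude.Def_LCI2
import Groth.Prelude.Def_MoreMor
import Groth.Agent.Lib.Helper3.KosPerf
import Groth.Agent.Lib.Helper3.PCQuot
import Groth.Agent.Lib.Helper23.ExtSc3
import Groth.Agent.Lib.Helper23.TA12
import Groth.Agent.Lib.Helper23.TA11

/-!
# helper3: the quotient by a Koszul-regular ideal is pseudo-coherent of finite tor amplitude;
lci ring maps are perfect
-/

set_option autoImplicit false
universe u
open CategoryTheory CategoryTheory.Limits TensorProduct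

attribute [local instance] HasDerivedCategory.standard

namespace Groth.Agent.Lib.helper3.LciPerf

open Groth.Agent.Lib.helper23.PCohCore Groth.Agent.Lib.helper23.DRingPC
open Groth.Agent.Lib.helper23.TA Groth.Agent.Lib.helper23.ExtSc

variable {P : Type u} [CommRing P]

/-- the single complex of `P ⧸ J`. -/
noncomputable abbrev KJ (J : Ideal P) : DRing.Cx P :=
  (CochainComplex.singleFunctor (ModuleCat.{u} P) 0).obj (ModuleCat.of P (P ⧸ J))

section Local

variable (J : Ideal P) (g : P)

/-- the extension of scalars of `P ⧸ J` to `P_g` is `P_g ⧸ J P_g`. -/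
noncomputable def extendQuotIso :
    (ModuleCat.extendScalars.{u, u, u} (algebraMap P (Localization.Away g))).obj
      (ModuleCat.of P (P ⧸ J)) ≅
    ModuleCat.of (Localization.Away g)
      (Localization.Away g ⧸ J.map (algebraMap P (Localization.Away g))) :=
  ((extendObjEquiv (B := Localization.Away g) (ModuleCat.of P (P ⧸ J))).trans
    (Algebra.TensorProduct.quotIdealMapEquivTensorQuot
      (Localization.Away g) J).symm.toLinearEquiv).toModuleIso

/-- the localized single complex, in the derived category. -/
noncomputable def extendKJIso :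
    DRing.toD (((ModuleCat.extendScalars.{u, u, u}
      (algebraMap P (Localization.Away g))).mapHomologicalComplex (ComplexShape.up ℤ)).obj (KJ J)) ≅
    (DerivedCategory.singleFunctor (ModuleCat.{u} (Localization.Away g)) 0).obj
      (ModuleCat.of (Localization.Away g)
        (Localization.Away g ⧸ J.map (algebraMap P (Localization.Away g)))) :=
  DerivedCategory.Q.mapIso ((HomologicalComplex.singleMapHomologicalComplex
    (ModuleCat.extendScalars.{u, u, u} (algebraMap P (Localization.Away g)))
    (ComplexShape.up ℤ) 0).app (ModuleCat.of P (P ⧸ J))) ≪≫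
  ((DerivedCategory.singleFunctorIsoCompQ (ModuleCat.{u} (Localization.Away g)) 0).app _).symm ≪≫
  (DerivedCategory.singleFunctor (ModuleCat.{u} (Localization.Away g)) 0).mapIso (extendQuotIso J g)

end Local

/-- a finite Zariski cover of `Spec P` by basic opens on which `J` is either the unit ideal or generated
by a Koszul-regular sequence. -/
theorem exists_cover (J : Ideal P) (hJ : LCI.IsKoszulRegularIdeal J) :
    ∃ (r : ℕ) (f : Fin r → P), Ideal.span (Set.range f) = ⊤ ∧ ∀ i, (f i ∈ J ∨
      ∃ l : List (Localization.Away (f i)), LCI.IsKoszulRegularSeq (Localization.Away (f i)) l ∧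
        J.map (algebraMap P (Localization.Away (f i))) = Ideal.span {x | x ∈ l}) := by
  set S : Set P := {g | g ∈ J ∨
      ∃ l : List (Localization.Away g), LCI.IsKoszulRegularSeq (Localization.Away g) l ∧
        J.map (algebraMap P (Localization.Away g)) = Ideal.span {x | x ∈ l}} with hS
  have htop : Ideal.span S = ⊤ := by
    by_contra hne
    obtain ⟨𝔪, hmax, hle⟩ := Ideal.exists_le_maximal _ hne
    haveI := hmax.isPrime
    by_cases hJm : J ≤ 𝔪
    · obtain ⟨g, hg, l, hl1, hl2⟩ := hJ ⟨𝔪, inferInstance⟩ hJm
      exact hg (hle (Ideal.subset_span (Or.inr ⟨l, hl1, hl2⟩)))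
    · obtain ⟨g, hgJ, hg⟩ := Set.not_subset.1 hJm
      exact hg (hle (Ideal.subset_span (Or.inl hgJ)))
  obtain ⟨s', hs', hs'top⟩ := (Ideal.span_eq_top_iff_finite S).1 htop
  refine ⟨s'.card, fun i => (s'.equivFin.symm i : P), ?_, fun i => ?_⟩
  · have : Set.range (fun i => (s'.equivFin.symm i : P)) = (s' : Set P) := by
      ext x
      constructor
      · rintro ⟨i, rfl⟩
        exact (s'.equivFin.symm i).2
      · intro hx
        exact ⟨s'.equivFin ⟨x, hx⟩, by simp⟩
    rw [this]
    exact hs'top
  · exact hs' (s'.equivFin.symm i).2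

/-- the local statement on one member of the cover. -/
theorem local_pc_torAmp (J : Ideal P) (g : P) (hg : g ∈ J ∨
      ∃ l : List (Localization.Away g), LCI.IsKoszulRegularSeq (Localization.Away g) l ∧
        J.map (algebraMap P (Localization.Away g)) = Ideal.span {x | x ∈ l}) :
    ∃ d : ℕ,
      DRing.IsPseudoCoherent' (Localization.Away g)
        ((DerivedCategory.singleFunctor (ModuleCat.{u} (Localization.Away g)) 0).obj
          (ModuleCat.of (Localization.Away g)
            (Localization.Away g ⧸ J.map (algebraMap P (Localization.Away g))))) ∧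
      DRing.HasTorAmplitudeIn (Localization.Away g) (-(d : ℤ)) 0
        ((DerivedCategory.singleFunctor (ModuleCat.{u} (Localization.Away g)) 0).obj
          (ModuleCat.of (Localization.Away g)
            (Localization.Away g ⧸ J.map (algebraMap P (Localization.Away g))))) := by
  rcases hg with hg | ⟨l, hl1, hl2⟩
  · have htop : J.map (algebraMap P (Localization.Away g)) = ⊤ := by
      rw [Ideal.eq_top_iff_one]
      have hu : IsUnit (algebraMap P (Localization.Away g) g) :=
        IsLocalization.Away.algebraMap_isUnit g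
      obtain ⟨u, hu⟩ := hu
      have h1 : algebraMap P (Localization.Away g) g ∈ J.map (algebraMap P (Localization.Away g)) :=
        Ideal.mem_map_of_mem _ hg
      have h2 := Ideal.mul_mem_left _ (↑u⁻¹ : Localization.Away g) h1
      rwa [← hu, Units.inv_mul] at h2
    haveI : Subsingleton
        (Localization.Away g ⧸ J.map (algebraMap P (Localization.Away g))) := by
      rw [htop]
      exact Ideal.Quotient.subsingleton_iff.2 rfl
    have hz : IsZero ((DerivedCategory.singleFunctor (ModuleCat.{u} (Localization.Away g)) 0).obj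
          (ModuleCat.of (Localization.Away g)
            (Localization.Away g ⧸ J.map (algebraMap P (Localization.Away g))))) :=
      (DerivedCategory.singleFunctor _ 0).map_isZero (ModuleCat.isZero_of_subsingleton _)
    refine ⟨0, (isPseudoCoherent'_iff_npc _ _).2 (fun m => NPC.of_isZero (FF _) m hz),
      hasTorAmplitudeIn_of_isZero _ _ hz⟩
  · rw [hl2]
    exact ⟨l.length, Groth.Agent.Lib.helper3.KosPerf.isPseudoCoherent'_quot l hl1,
      Groth.Agent.Lib.helper3.KosPerf.hasTorAmplitudeIn_quot l hl1⟩

/-- **Main**: the quotient by a Koszul-regular ideal is pseudo-coherent and of finite tor amplitude. -/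
theorem pc_and_torAmp_of_isKoszulRegularIdeal (J : Ideal P) (hJ : LCI.IsKoszulRegularIdeal J) :
    DRing.IsPseudoCoherent' P ((DerivedCategory.singleFunctor (ModuleCat.{u} P) 0).obj
      (ModuleCat.of P (P ⧸ J))) ∧
    ∃ d : ℕ, DRing.HasTorAmplitudeIn P (-(d : ℤ)) 0
      ((DerivedCategory.singleFunctor (ModuleCat.{u} P) 0).obj (ModuleCat.of P (P ⧸ J))) := by
  obtain ⟨r, f, hf, hgood⟩ := exists_cover J hJ
  choose d hpc htor using fun i => local_pc_torAmp J (f i) (hgood i)
  have eK : DRing.toD (KJ J) ≅
      (DerivedCategory.singleFunctor (ModuleCat.{u} P) 0).obj (ModuleCat.of P (P ⧸ J)) :=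
    ((DerivedCategory.singleFunctorIsoCompQ (ModuleCat.{u} P) 0).app _).symm
  constructor
  · rw [isPseudoCoherent'_iff_npc]
    intro m
    refine NPC.of_iso (npc_of_localization_away f hf (KJ J) m (fun i => ?_)) eK
    exact NPC.of_iso ((isPseudoCoherent'_iff_npc _ _).1 (hpc i) m) (extendKJIso J (f i)).symm
  · refine ⟨∑ i, d i, hasTorAmplitudeIn_of_iso eK
      (hasTorAmplitudeIn_of_localization_away f hf (KJ J) _ 0 (fun i => ?_))⟩
    refine hasTorAmplitudeIn_of_iso (extendKJIso J (f i)).symm
      (hasTorAmplitudeIn_mono (htor i) ?_ le_rfl)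
    have : d i ≤ ∑ j, d j := Finset.single_le_sum (fun _ _ => Nat.zero_le _) (Finset.mem_univ i)
    omega

/-- **S7070**: lci ring maps are perfect. -/
theorem isPerfectHom_of_isLCI (A B : Type u) [CommRing A] [CommRing B] [Algebra A B]
    (h : LCI.IsLCI A B) : MoreMor.IsPerfectHom A B := by
  obtain ⟨-, n, f, hf, hK⟩ := h
  letI := f.toRingHom.toAlgebra
  haveI : IsScalarTower A (MvPolynomial (Fin n) A) B :=
    IsScalarTower.of_algebraMap_eq' f.comp_algebraMap.symm
  obtain ⟨hpc, d, htor⟩ := pc_and_torAmp_of_isKoszulRegularIdeal (RingHom.ker f.toRingHom) hK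
  have he : LinearMap.ker (Algebra.linearMap (MvPolynomial (Fin n) A) B) =
      RingHom.ker f.toRingHom := by
    ext x
    rfl
  let e : (MvPolynomial (Fin n) A ⧸ RingHom.ker f.toRingHom) ≃ₗ[MvPolynomial (Fin n) A] B :=
    (Submodule.quotEquivOfEq _ _ he.symm).trans
      ((Algebra.linearMap (MvPolynomial (Fin n) A) B).quotKerEquivOfSurjective hf)
  have iso : (DerivedCategory.singleFunctor (ModuleCat.{u} (MvPolynomial (Fin n) A)) 0).obj
      (ModuleCat.of (MvPolynomial (Fin n) A) (MvPolynomial (Fin n) A ⧸ RingHom.ker f.toRingHom)) ≅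
      Dual.inD (MvPolynomial (Fin n) A) B :=
    (DerivedCategory.singleFunctor _ 0).mapIso e.toModuleIso
  refine ⟨⟨n, f, hf, ?_⟩, d, ?_⟩
  · show DRing.IsPseudoCoherent' (MvPolynomial (Fin n) A) (Dual.inD (MvPolynomial (Fin n) A) B)
    rw [isPseudoCoherent'_iff_npc] at hpc ⊢
    exact fun m => (hpc m).of_iso iso
  · have h1 : DRing.HasTorAmplitudeIn (MvPolynomial (Fin n) A) (-(d : ℤ)) 0
        (Dual.inD (MvPolynomial (Fin n) A) B) := hasTorAmplitudeIn_of_iso iso htor
    have hP : DRing.HasTorAmplitudeIn A (-((0 : ℕ) : ℤ)) 0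
        (Dual.inD A (MvPolynomial (Fin n) A)) := by
      simpa using hasTorAmplitudeIn_single_flat (ModuleCat.of A (MvPolynomial (Fin n) A))
        (inferInstanceAs (Module.Flat A (MvPolynomial (Fin n) A))) 0
    have h2 := hasTorAmplitudeIn_restrict (A := A) (B := MvPolynomial (Fin n) A) 0 hP
      (Dual.inD (MvPolynomial (Fin n) A) B) (-(d : ℤ)) 0 h1
    have iso2 : (DRing.restrictD (algebraMap A (MvPolynomial (Fin n) A))).obj
        (Dual.inD (MvPolynomial (Fin n) A) B) ≅ Dual.inD A B :=
      ((ModuleCat.restrictScalars.{u}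
        (algebraMap A (MvPolynomial (Fin n) A))).mapDerivedCategorySingleFunctor 0).app _ ≪≫
        (DerivedCategory.singleFunctor _ 0).mapIso
          (Groth.Agent.Lib.helper3.PCQuot.restrictOfIso (algebraMap A (MvPolynomial (Fin n) A)) B
            (fun a b => (algebraMap_smul (MvPolynomial (Fin n) A) a b).symm)).symm
    have h3 := hasTorAmplitudeIn_of_iso iso2 h2
    simp only [Nat.cast_zero, sub_zero] at h3
    exact (hasTorDimLE_iff_torVan d B).2 ((torVan_iff_hasTorAmplitudeIn d _).2 h3)

end Groth.Agent.Lib.helper3.LciPerf
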