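import Groth.Agent.Lib.Helper3.GammaAdams
import Mathlib.LinearAlgebra.Eigenspace.Basic
import Mathlib.RingTheory.TensorProduct.Basic

/-!
Eigenspaces of the Adams operations on `ℚ ⊗ K` when the γ-filtration is finite (helper3).
-/

set_option autoImplicit false
universe u

namespace Groth.Agent.Lib.helper3.GammaLib

open LambdaRing Finset TensorProduct Polynomial
open Groth.Agent.Lib.helper3.AdamsOp

variable {K : Type u} [CommRing K] [LambdaOps K] (P : PosStructure K)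

/-- the rational span of the image of `F^n` -/
def QFil (n : ℕ) : Submodule ℚ (ℚ ⊗[ℤ] K) :=
  Submodule.span ℚ ((fun x : K => (1 : ℚ) ⊗ₜ[ℤ] x) '' (gammaFiltration P n : Set K))

theorem QFil_antitone {n n' : ℕ} (h : n ≤ n') : QFil P n' ≤ QFil P n :=
  Submodule.span_mono (Set.image_mono (gammaFiltration_antitone P h))

theorem QFil_zero : QFil P 0 = ⊤ := by
  rw [eq_top_iff]
  have key : ∀ v : ℚ ⊗[ℤ] K, v ∈ QFil P 0 := by
    intro v
    induction v using TensorProduct.induction_on with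
    | zero => exact Submodule.zero_mem _
    | tmul q x =>
      have : q ⊗ₜ[ℤ] x = q • ((1 : ℚ) ⊗ₜ[ℤ] x) := by
        rw [TensorProduct.smul_tmul', smul_eq_mul, mul_one]
      rw [this]
      refine Submodule.smul_mem _ _ (Submodule.subset_span ⟨x, ?_, rfl⟩)
      rw [gammaFiltration_zero]
      trivial
    | add a b ha hb => exact Submodule.add_mem _ ha hb
  exact fun v _ => key v

theorem QFil_eq_bot {d : ℕ} (hd : gammaFiltration P (d + 1) = ⊥) {n : ℕ} (hn : d + 1 ≤ n) :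
    QFil P n = ⊥ := by
  rw [eq_bot_iff]
  refine (QFil_antitone P hn).trans ?_
  rw [QFil, hd]
  apply Submodule.span_le.mpr
  rintro _ ⟨x, hx, rfl⟩
  have : x = 0 := hx
  show (1 : ℚ) ⊗ₜ[ℤ] x ∈ _
  rw [this, TensorProduct.tmul_zero]
  exact Submodule.zero_mem _

omit [LambdaOps K] in
theorem natCast_smul_one_tmul (N : ℕ) (x : K) :
    (N : ℚ) • ((1 : ℚ) ⊗ₜ[ℤ] x) = (1 : ℚ) ⊗ₜ[ℤ] ((N : K) * x) := by
  have h1 : (N : ℚ) • ((1 : ℚ) ⊗ₜ[ℤ] x) = ((N : ℤ) • (1 : ℚ)) ⊗ₜ[ℤ] x := by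
    rw [TensorProduct.smul_tmul', smul_eq_mul, mul_one, zsmul_eq_mul, mul_one]
    norm_cast
  rw [h1, TensorProduct.smul_tmul, zsmul_eq_mul]
  norm_cast

section Psi

variable (hK : HasSplitting K P) (j : ℕ) (Ψ : ℚ ⊗[ℤ] K →ₗ[ℚ] ℚ ⊗[ℤ] K)
  (hΨ : ∀ x : K, Ψ (1 ⊗ₜ[ℤ] x) = 1 ⊗ₜ[ℤ] adams P j x)

include hK hΨ

theorem map_sub_mem {n : ℕ} {v : ℚ ⊗[ℤ] K} (hv : v ∈ QFil P n) :
    Ψ v - ((j : ℚ) ^ n) • v ∈ QFil P (n + 1) := by
  induction hv using Submodule.span_induction with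
  | mem v hv =>
    obtain ⟨x, hx, rfl⟩ := hv
    have h1 : ((j : ℚ) ^ n) • ((1 : ℚ) ⊗ₜ[ℤ] x) = (1 : ℚ) ⊗ₜ[ℤ] ((j : K) ^ n * x) := by
      have := natCast_smul_one_tmul (j ^ n) x
      rwa [Nat.cast_pow, Nat.cast_pow] at this
    rw [hΨ, h1, ← TensorProduct.tmul_sub]
    exact Submodule.subset_span ⟨_, adams_sub_pow_mul_mem hK n hx, rfl⟩
  | zero =>
    rw [map_zero, smul_zero, sub_zero]
    exact Submodule.zero_mem _
  | add a b _ _ ha hb =>
    have : Ψ (a + b) - (j : ℚ) ^ n • (a + b) =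
        (Ψ a - (j : ℚ) ^ n • a) + (Ψ b - (j : ℚ) ^ n • b) := by
      rw [map_add, smul_add]; abel
    rw [this]
    exact Submodule.add_mem _ ha hb
  | smul c a _ ha =>
    have : Ψ (c • a) - (j : ℚ) ^ n • (c • a) = c • (Ψ a - (j : ℚ) ^ n • a) := by
      rw [map_smul, smul_sub, smul_comm]
    rw [this]
    exact Submodule.smul_mem _ _ ha

theorem map_mem {n : ℕ} {v : ℚ ⊗[ℤ] K} (hv : v ∈ QFil P n) : Ψ v ∈ QFil P n := by
  have h1 := map_sub_mem P hK j Ψ hΨ hv
  have h2 : Ψ v = (Ψ v - (j : ℚ) ^ n • v) + (j : ℚ) ^ n • v := by abel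
  rw [h2]
  exact Submodule.add_mem _ (QFil_antitone P (Nat.le_succ n) h1) (Submodule.smul_mem _ _ hv)

theorem aeval_mem (p : ℚ[X]) {n : ℕ} {v : ℚ ⊗[ℤ] K} (hv : v ∈ QFil P n) :
    aeval Ψ p v ∈ QFil P n := by
  induction p using Polynomial.induction_on' with
  | add p q hp hq =>
    rw [map_add, LinearMap.add_apply]
    exact Submodule.add_mem _ hp hq
  | monomial k a =>
    rw [Polynomial.aeval_monomial, Module.End.mul_apply, Module.algebraMap_end_apply]
    refine Submodule.smul_mem _ _ ?_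
    induction k with
    | zero => simpa using hv
    | succ k ih =>
      rw [pow_succ', Module.End.mul_apply]
      exact map_mem P hK j Ψ hΨ ih

/-- `Π_{m ≤ n ≤ d} (X - j^n)` -/
noncomputable def prodPoly (j m d : ℕ) : ℚ[X] := ∏ n ∈ Finset.Ico m (d + 1), (X - C ((j : ℚ) ^ n))

theorem aeval_prodPoly_eq_zero {d : ℕ} (hd : gammaFiltration P (d + 1) = ⊥) (m : ℕ)
    {v : ℚ ⊗[ℤ] K} (hv : v ∈ QFil P m) : aeval Ψ (prodPoly j m d) v = 0 := by
  by_cases hm : d + 1 ≤ m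
  · rw [QFil_eq_bot P hd hm] at hv
    rw [(Submodule.mem_bot ℚ).mp hv, map_zero]
  · rw [not_le] at hm
    induction hk : d + 1 - m generalizing m v with
    | zero => omega
    | succ k ih =>
      rw [prodPoly, Finset.prod_eq_prod_Ico_succ_bot hm, mul_comm, map_mul, Module.End.mul_apply]
      have h1 : aeval Ψ (X - C ((j : ℚ) ^ m)) v ∈ QFil P (m + 1) := by
        rw [map_sub, aeval_X, aeval_C, LinearMap.sub_apply, Module.algebraMap_end_apply]
        exact map_sub_mem P hK j Ψ hΨ hv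
      by_cases hm' : d + 1 ≤ m + 1
      · rw [QFil_eq_bot P hd hm'] at h1
        rw [(Submodule.mem_bot ℚ).mp h1, map_zero]
      · exact ih (m + 1) h1 (by omega) (by omega)

omit hK hΨ in
theorem pow_ne_pow (hj : 2 ≤ j) {a b : ℕ} (hab : a ≠ b) : (j : ℚ) ^ a ≠ (j : ℚ) ^ b := by
  intro h
  apply hab
  have : (j ^ a : ℕ) = j ^ b := by exact_mod_cast h
  exact Nat.pow_right_injective hj this

theorem eigenspace_le (hj : 2 ≤ j) (m : ℕ) :
    Module.End.eigenspace Ψ ((j : ℚ) ^ m) ≤ QFil P m := by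
  intro v hv
  rw [Module.End.mem_eigenspace_iff] at hv
  have key : ∀ a : ℕ, a ≤ m → v ∈ QFil P a := by
    intro a
    induction a with
    | zero => intro _; rw [QFil_zero]; trivial
    | succ a ih =>
      intro ha
      have h1 := map_sub_mem P hK j Ψ hΨ (ih (by omega))
      rw [hv, ← sub_smul] at h1
      have hne : (j : ℚ) ^ m - (j : ℚ) ^ a ≠ 0 :=
        sub_ne_zero.mpr (pow_ne_pow j hj (by omega))
      have := Submodule.smul_mem _ ((j : ℚ) ^ m - (j : ℚ) ^ a)⁻¹ h1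
      rwa [smul_smul, inv_mul_cancel₀ hne, one_smul] at this
  exact key m le_rfl

theorem eigenspace_inf_eq_bot {d : ℕ} (hd : gammaFiltration P (d + 1) = ⊥) (hj : 2 ≤ j) (m : ℕ) :
    Module.End.eigenspace Ψ ((j : ℚ) ^ m) ⊓ QFil P (m + 1) = ⊥ := by
  rw [eq_bot_iff]
  rintro v ⟨hv1, hv2⟩
  rw [Submodule.mem_bot]
  by_contra hne
  have hev : Module.End.HasEigenvector Ψ ((j : ℚ) ^ m) v := ⟨hv1, hne⟩
  have h1 := aeval_prodPoly_eq_zero P hK j Ψ hΨ hd (m + 1) hv2
  rw [Module.End.aeval_apply_of_hasEigenvector hev] at h1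
  rcases smul_eq_zero.mp h1 with h | h
  · rw [prodPoly, Polynomial.eval_prod, Finset.prod_eq_zero_iff] at h
    obtain ⟨n, hn, hn0⟩ := h
    rw [Finset.mem_Ico] at hn
    rw [eval_sub, eval_X, eval_C, sub_eq_zero] at hn0
    exact pow_ne_pow j hj (by omega) hn0
  · exact hne h

theorem le_eigenspace_sup {d : ℕ} (hd : gammaFiltration P (d + 1) = ⊥) (hj : 2 ≤ j) (m : ℕ) :
    QFil P m ≤ Module.End.eigenspace Ψ ((j : ℚ) ^ m) ⊔ QFil P (m + 1) := by
  intro v hv
  by_cases hm : d + 1 ≤ m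
  · rw [QFil_eq_bot P hd hm] at hv
    rw [(Submodule.mem_bot ℚ).mp hv]
    exact Submodule.zero_mem _
  rw [not_le] at hm
  have hcop : IsCoprime (X - C ((j : ℚ) ^ m)) (prodPoly j (m + 1) d) := by
    rw [prodPoly]
    apply IsCoprime.prod_right
    intro n hn
    rw [Finset.mem_Ico] at hn
    apply Polynomial.isCoprime_X_sub_C_of_isUnit_sub
    exact (sub_ne_zero.mpr (pow_ne_pow j hj (by omega))).isUnit
  obtain ⟨α, β, hαβ⟩ := hcop
  have h1 : v = aeval Ψ (β * prodPoly j (m + 1) d) v + aeval Ψ (α * (X - C ((j : ℚ) ^ m))) v := by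
    rw [← LinearMap.add_apply, ← map_add, add_comm (β * prodPoly j (m + 1) d), hαβ, map_one,
      Module.End.one_apply]
  rw [h1]
  refine Submodule.add_mem_sup ?_ ?_
  · rw [Module.End.mem_eigenspace_iff]
    have hp : prodPoly j m d = (X - C ((j : ℚ) ^ m)) * prodPoly j (m + 1) d := by
      rw [prodPoly, Finset.prod_eq_prod_Ico_succ_bot hm, prodPoly]
    have hgen : ∀ (r : ℚ[X]) (w : ℚ ⊗[ℤ] K), aeval Ψ ((X - C ((j : ℚ) ^ m)) * r) w =
        Ψ (aeval Ψ r w) - (j : ℚ) ^ m • aeval Ψ r w := by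
      intro r w
      rw [map_mul, Module.End.mul_apply, map_sub, aeval_X, aeval_C, LinearMap.sub_apply,
        Module.algebraMap_end_apply]
    have e : β * prodPoly j m d = (X - C ((j : ℚ) ^ m)) * (β * prodPoly j (m + 1) d) := by
      rw [hp]; ring
    have h3 : aeval Ψ (β * prodPoly j m d) v = 0 := by
      rw [map_mul, Module.End.mul_apply, aeval_prodPoly_eq_zero P hK j Ψ hΨ hd m hv, map_zero]
    rw [e, hgen] at h3
    exact sub_eq_zero.mp h3
  · rw [map_mul, Module.End.mul_apply]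
    apply aeval_mem P hK j Ψ hΨ
    rw [map_sub, aeval_X, aeval_C, LinearMap.sub_apply, Module.algebraMap_end_apply]
    exact map_sub_mem P hK j Ψ hΨ hv

end Psi

end Groth.Agent.Lib.helper3.GammaLib
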