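import Groth.Prelude.Def_LambdaSp
import Mathlib.Algebra.Algebra.Rat

/-!
Adams operations of a pre-λ-ring via the logarithmic derivative: Newton's identities (helper3).
-/

set_option autoImplicit false
universe u

namespace Groth.Agent.Lib.helper3.AdamsOp

open PowerSeries LambdaRing Finset

variable {K : Type u} [CommRing K]

section
variable [LambdaOps K]

theorem coeff_lamSeries (k : ℕ) (x : K) : coeff k (lamSeries x) = LambdaOps.lam k x := by
  rw [lamSeries, coeff_mk]

theorem constantCoeff_lamSeries (x : K) : constantCoeff (lamSeries x) = 1 := by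
  rw [← PowerSeries.coeff_zero_eq_constantCoeff_apply, coeff_lamSeries, LambdaOps.lam_zero]

theorem lamSeries_mul_invOfUnit (x : K) : lamSeries x * (lamSeries x).invOfUnit 1 = 1 :=
  PowerSeries.mul_invOfUnit _ 1 (by rw [constantCoeff_lamSeries]; rfl)

theorem derivative_lamSeries (x : K) :
    d⁄dX K (lamSeries x) = lamSeries x * logDerivSeries x := by
  rw [logDerivSeries, mul_left_comm, lamSeries_mul_invOfUnit, mul_one]

theorem coeff_logDerivSeries (k : ℕ) (x : K) :
    coeff k (logDerivSeries x) = (-1) ^ k * adamsOp (k + 1) x := by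
  rw [adamsOp, ← mul_assoc, ← mul_pow]
  simp

/-- Newton's identity `(n+1) λ^{n+1}(x) = Σ_{i ≤ n} (-1)^{n-i} λ^i(x) ψ^{n-i+1}(x)`. -/
theorem newton (x : K) (n : ℕ) :
    LambdaOps.lam (n + 1) x * ((n : K) + 1) =
      ∑ i ∈ range (n + 1), LambdaOps.lam i x * ((-1) ^ (n - i) * adamsOp (n - i + 1) x) := by
  have h := congrArg (coeff n) (derivative_lamSeries x)
  rw [coeff_derivative, coeff_lamSeries, PowerSeries.coeff_mul,
    Finset.Nat.sum_antidiagonal_eq_sum_range_succ_mk] at h
  rw [h]
  refine Finset.sum_congr rfl fun i _ => ?_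
  rw [coeff_lamSeries, coeff_logDerivSeries]

/-- Newton's identity solved for `ψ^{n+1}`. -/
theorem newton' (x : K) (n : ℕ) :
    (-1) ^ n * adamsOp (n + 1) x = LambdaOps.lam (n + 1) x * ((n : K) + 1) -
      ∑ i ∈ range n, LambdaOps.lam (i + 1) x *
        ((-1) ^ (n - (i + 1)) * adamsOp (n - (i + 1) + 1) x) := by
  rw [newton, Finset.sum_range_succ', LambdaOps.lam_zero, one_mul, Nat.sub_zero]
  ring

end

theorem isUnit_natCast_succ [Algebra ℚ K] (n : ℕ) : IsUnit ((n : K) + 1) := by
  have h : IsUnit (algebraMap ℚ K ((n : ℚ) + 1)) :=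
    (IsUnit.mk0 ((n : ℚ) + 1) (by positivity)).map (algebraMap ℚ K)
  rwa [map_add, map_natCast, map_one] at h

/-- Uniqueness of solutions of `H' = H G` with given constant coefficient, over a `ℚ`-algebra. -/
theorem ode_unique [Algebra ℚ K] (G H₁ H₂ : K⟦X⟧) (h₁ : d⁄dX K H₁ = H₁ * G)
    (h₂ : d⁄dX K H₂ = H₂ * G) (hc : coeff 0 H₁ = coeff 0 H₂) : H₁ = H₂ := by
  ext n
  induction n using Nat.strong_induction_on with
  | _ n ih =>
    rcases n with _ | n
    · exact hc
    · have e₁ := congrArg (coeff n) h₁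
      have e₂ := congrArg (coeff n) h₂
      rw [coeff_derivative, PowerSeries.coeff_mul,
        Finset.Nat.sum_antidiagonal_eq_sum_range_succ_mk] at e₁ e₂
      have : coeff (n + 1) H₁ * ((n : K) + 1) = coeff (n + 1) H₂ * ((n : K) + 1) := by
        rw [e₁, e₂]
        refine Finset.sum_congr rfl fun i hi => ?_
        rw [ih i (by have := Finset.mem_range.mp hi; omega)]
      exact (isUnit_natCast_succ n).mul_left_injective this

end Groth.Agent.Lib.helper3.AdamsOp
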