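import Groth.Agent.Lib.Helper3.AdamsOp

/-!
Pre-λ-structures on a `ℚ`-algebra from additive Adams operations (helper3).
-/

set_option autoImplicit false
universe u

namespace Groth.Agent.Lib.helper3.AdamsOp

open PowerSeries LambdaRing Finset

variable {K : Type u} [CommRing K]

theorem lambdaOps_ext (L₁ L₂ : LambdaOps K)
    (h : ∀ n x, @LambdaOps.lam K _ L₁ n x = @LambdaOps.lam K _ L₂ n x) : L₁ = L₂ := by
  obtain ⟨l1, _, _, _⟩ := L₁
  obtain ⟨l2, _, _, _⟩ := L₂
  have : l1 = l2 := funext₂ h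
  subst this
  rfl

variable [Algebra ℚ K]

/-- the inverse of `n + 1` in a `ℚ`-algebra -/
noncomputable def invSucc (K : Type u) [CommRing K] [Algebra ℚ K] (n : ℕ) : K :=
  algebraMap ℚ K (((n : ℚ) + 1)⁻¹)

theorem invSucc_mul (n : ℕ) : invSucc K n * ((n : K) + 1) = 1 := by
  have h : ((n : K) + 1) = algebraMap ℚ K ((n : ℚ) + 1) := by
    rw [map_add, map_natCast, map_one]
  rw [h, invSucc, ← map_mul, inv_mul_cancel₀ (by positivity), map_one]

/-- the λ-operations determined by Newton's identities from the `ψ^k` -/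
noncomputable def lamRec (ψ : ℕ → K → K) (x : K) : ℕ → K
  | 0 => 1
  | n + 1 => invSucc K n *
      ∑ i : Fin (n + 1), lamRec ψ x i.1 * ((-1) ^ (n - i.1) * ψ (n - i.1 + 1) x)
termination_by n => n
decreasing_by exact i.2

theorem lamRec_zero (ψ : ℕ → K → K) (x : K) : lamRec ψ x 0 = 1 := by
  rw [lamRec]

theorem lamRec_succ (ψ : ℕ → K → K) (x : K) (n : ℕ) :
    lamRec ψ x (n + 1) * ((n : K) + 1) =
      ∑ i ∈ range (n + 1), lamRec ψ x i * ((-1) ^ (n - i) * ψ (n - i + 1) x) := by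
  rw [lamRec, mul_comm, ← mul_assoc, mul_comm _ (invSucc K n), invSucc_mul, one_mul,
    Fin.sum_univ_eq_sum_range (fun i => lamRec ψ x i * ((-1) ^ (n - i) * ψ (n - i + 1) x))]

/-- the series `F_x = Σ λ^n(x) t^n` -/
noncomputable def FSer (ψ : ℕ → K → K) (x : K) : K⟦X⟧ := PowerSeries.mk (lamRec ψ x)

/-- the series `G_x = Σ (-1)^j ψ^{j+1}(x) t^j` -/
noncomputable def GSer (ψ : ℕ → K → K) (x : K) : K⟦X⟧ :=
  PowerSeries.mk fun j => (-1) ^ j * ψ (j + 1) x

theorem derivative_FSer (ψ : ℕ → K → K) (x : K) :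
    d⁄dX K (FSer ψ x) = FSer ψ x * GSer ψ x := by
  ext n
  rw [coeff_derivative, PowerSeries.coeff_mul, Finset.Nat.sum_antidiagonal_eq_sum_range_succ_mk,
    FSer, coeff_mk, lamRec_succ]
  refine Finset.sum_congr rfl fun i _ => ?_
  rw [coeff_mk, GSer, coeff_mk]

theorem coeff_zero_FSer (ψ : ℕ → K → K) (x : K) : coeff 0 (FSer ψ x) = 1 := by
  rw [FSer, coeff_mk, lamRec_zero]

omit [Algebra ℚ K] in
theorem GSer_add (ψ : ℕ → K →+ K) (x y : K) :
    GSer (fun k => ψ k) (x + y) = GSer (fun k => ψ k) x + GSer (fun k => ψ k) y := by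
  ext j
  simp only [GSer, coeff_mk, map_add]
  ring

theorem FSer_add (ψ : ℕ → K →+ K) (x y : K) :
    FSer (fun k => ψ k) (x + y) = FSer (fun k => ψ k) x * FSer (fun k => ψ k) y := by
  apply ode_unique (GSer (fun k => ψ k) (x + y))
  · exact derivative_FSer _ _
  · rw [Derivation.leibniz, derivative_FSer, derivative_FSer, GSer_add, smul_eq_mul, smul_eq_mul]
    ring
  · rw [coeff_zero_FSer, PowerSeries.coeff_mul]
    simp [coeff_zero_FSer]

set_option warn.classDefReducibility false in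
/-- the pre-λ-structure with Adams operations `ψ` -/
noncomputable def lamOfAdams (ψ : ℕ → K →+ K) (hψ : ψ 1 = AddMonoidHom.id K) : LambdaOps K where
  lam n x := lamRec (fun k => ψ k) x n
  lam_zero x := lamRec_zero _ x
  lam_one x := by
    have h := lamRec_succ (fun k => ψ k) x 0
    simp only [Nat.cast_zero, zero_add, mul_one, Finset.range_one, Finset.sum_singleton,
      Nat.sub_zero, pow_zero, one_mul, lamRec_zero] at h
    rw [h, hψ]
    rfl
  lam_add k x y := by
    have h := congrArg (coeff k) (FSer_add ψ x y)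
    rw [PowerSeries.coeff_mul, Finset.Nat.sum_antidiagonal_eq_sum_range_succ_mk] at h
    simpa [FSer, coeff_mk] using h

theorem lamSeries_lamOfAdams (ψ : ℕ → K →+ K) (hψ : ψ 1 = AddMonoidHom.id K) (x : K) :
    @lamSeries K _ (lamOfAdams ψ hψ) x = FSer (fun k => ψ k) x := rfl

/-- a pre-λ-structure whose Adams operations are the `ψ^k` has `λ_t(x) = F_x` -/
theorem lamSeries_eq_FSer (L : LambdaOps K) (ψ : ℕ → K → K)
    (h : ∀ k : ℕ, 1 ≤ k → ∀ x : K, @adamsOp K _ L k x = ψ k x) (x : K) :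
    @lamSeries K _ L x = FSer ψ x := by
  apply ode_unique (GSer ψ x)
  · rw [@derivative_lamSeries K _ L x]
    congr 1
    ext k
    rw [@coeff_logDerivSeries K _ L k x, h (k + 1) (by omega), GSer, coeff_mk]
  · exact derivative_FSer _ _
  · rw [@coeff_lamSeries K _ L, @LambdaOps.lam_zero K _ L, coeff_zero_FSer]

theorem adamsOp_lamOfAdams (ψ : ℕ → K →+ K) (hψ : ψ 1 = AddMonoidHom.id K) (k : ℕ) (hk : 1 ≤ k)
    (x : K) : @adamsOp K _ (lamOfAdams ψ hψ) k x = ψ k x := by
  obtain ⟨k, rfl⟩ := Nat.exists_eq_add_of_le' hk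
  letI : LambdaOps K := lamOfAdams ψ hψ
  have h1 : lamSeries x * logDerivSeries x = lamSeries x * GSer (fun k => ψ k) x := by
    rw [← derivative_lamSeries, lamSeries_lamOfAdams ψ hψ x, derivative_FSer]
  have h2 : logDerivSeries x = GSer (fun k => ψ k) x := by
    have := congrArg (fun z => (lamSeries x).invOfUnit 1 * z) h1
    simp only [← mul_assoc] at this
    rwa [mul_comm ((lamSeries x).invOfUnit 1), lamSeries_mul_invOfUnit, one_mul, one_mul] at this
  have h3 := congrArg (coeff k) h2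
  rw [coeff_logDerivSeries, GSer, coeff_mk] at h3
  exact (isUnit_one.neg.pow k).mul_left_cancel h3

end Groth.Agent.Lib.helper3.AdamsOp
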