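import Groth.Agent.Lib.Helper3.AdamsOp

/-!
Adams operations: additivity, line elements, λ-homomorphisms, comparison of `adams P` with
`adamsOp` (helper3).
-/

set_option autoImplicit false
universe u

namespace Groth.Agent.Lib.helper3.AdamsOp

open PowerSeries LambdaRing Finset

variable {K : Type u} [CommRing K] [LambdaOps K]

theorem lamSeries_add (x y : K) : lamSeries (x + y) = lamSeries x * lamSeries y := by
  ext k
  rw [PowerSeries.coeff_mul, coeff_lamSeries, LambdaOps.lam_add,
    Finset.Nat.sum_antidiagonal_eq_sum_range_succ_mk]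
  simp only [coeff_lamSeries]

theorem eq_of_mul_eq_one {R : Type*} [CommRing R] {a b c : R} (h1 : a * b = 1) (h2 : a * c = 1) :
    b = c := by
  calc b = b * (a * c) := by rw [h2, mul_one]
    _ = (a * b) * c := by ring
    _ = c := by rw [h1, one_mul]

theorem invOfUnit_lamSeries_add (x y : K) :
    (lamSeries (x + y)).invOfUnit 1 = (lamSeries x).invOfUnit 1 * (lamSeries y).invOfUnit 1 := by
  apply eq_of_mul_eq_one (lamSeries_mul_invOfUnit (x + y))
  rw [lamSeries_add]
  calc lamSeries x * lamSeries y * ((lamSeries x).invOfUnit 1 * (lamSeries y).invOfUnit 1)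
      = (lamSeries x * (lamSeries x).invOfUnit 1) * (lamSeries y * (lamSeries y).invOfUnit 1) := by
        ring
    _ = 1 := by rw [lamSeries_mul_invOfUnit, lamSeries_mul_invOfUnit, mul_one]

theorem logDerivSeries_add (x y : K) :
    logDerivSeries (x + y) = logDerivSeries x + logDerivSeries y := by
  rw [logDerivSeries, invOfUnit_lamSeries_add, lamSeries_add, Derivation.leibniz, smul_eq_mul,
    smul_eq_mul, logDerivSeries, logDerivSeries]
  calc (lamSeries x * (d⁄dX K) (lamSeries y) + lamSeries y * (d⁄dX K) (lamSeries x)) *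
        ((lamSeries x).invOfUnit 1 * (lamSeries y).invOfUnit 1)
      = (d⁄dX K) (lamSeries x) * (lamSeries x).invOfUnit 1 *
          (lamSeries y * (lamSeries y).invOfUnit 1) +
        (d⁄dX K) (lamSeries y) * (lamSeries y).invOfUnit 1 *
          (lamSeries x * (lamSeries x).invOfUnit 1) := by ring
    _ = _ := by rw [lamSeries_mul_invOfUnit, lamSeries_mul_invOfUnit, mul_one, mul_one]

theorem adamsOp_add (k : ℕ) (x y : K) : adamsOp k (x + y) = adamsOp k x + adamsOp k y := by
  rcases k with _ | k
  · simp [adamsOp]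
  · simp only [adamsOp, logDerivSeries_add, map_add, mul_add]

theorem adamsOp_zero_right (k : ℕ) : adamsOp k (0 : K) = 0 := by
  have h := adamsOp_add k (0 : K) 0
  rw [add_zero] at h
  exact left_eq_add.mp h

theorem adamsOp_neg (k : ℕ) (x : K) : adamsOp k (-x) = -adamsOp k x := by
  have h := adamsOp_add k x (-x)
  rw [add_neg_cancel, adamsOp_zero_right] at h
  exact (neg_eq_of_add_eq_zero_right h.symm).symm

theorem adamsOp_sub (k : ℕ) (x y : K) : adamsOp k (x - y) = adamsOp k x - adamsOp k y := by
  rw [sub_eq_add_neg, adamsOp_add, adamsOp_neg, ← sub_eq_add_neg]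

theorem adamsOp_one_left (x : K) : adamsOp 1 x = x := by
  have h := newton' x 0
  simpa [LambdaOps.lam_one] using h

/-- `ψ^k(u) = u^k` when `λ^i(u) = 0` for `i ≥ 2`. -/
theorem adamsOp_of_lam_eq_zero (u : K) (hu : ∀ i : ℕ, 2 ≤ i → LambdaOps.lam i u = 0) (k : ℕ) :
    adamsOp (k + 1) u = u ^ (k + 1) := by
  induction k with
  | zero => rw [adamsOp_one_left, zero_add, pow_one]
  | succ k ih =>
    have h := newton' u (k + 1)
    rw [hu (k + 1 + 1) (by omega), zero_mul, zero_sub, Finset.sum_range_succ'] at h
    have hz : ∑ i ∈ range k, LambdaOps.lam (i + 1 + 1) u *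
        ((-1) ^ (k + 1 - (i + 1 + 1)) * adamsOp (k + 1 - (i + 1 + 1) + 1) u) = 0 := by
      refine Finset.sum_eq_zero fun i _ => ?_
      rw [hu (i + 1 + 1) (by omega), zero_mul]
    rw [hz, zero_add, LambdaOps.lam_one] at h
    simp only [zero_add, Nat.add_sub_cancel] at h
    rw [ih] at h
    have h2 : (-1 : K) ^ (k + 1) * adamsOp (k + 1 + 1) u = (-1 : K) ^ (k + 1) * u ^ (k + 1 + 1) := by
      rw [h]; ring
    exact (isUnit_one.neg.pow (k + 1)).mul_left_cancel h2

/-- Adams operations commute with λ-homomorphisms -/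
theorem adamsOp_map {K' : Type*} [CommRing K'] [LambdaOps K'] (f : K →+* K')
    (hf : ∀ (i : ℕ) (x : K), f (LambdaOps.lam i x) = LambdaOps.lam i (f x)) (k : ℕ) (x : K) :
    f (adamsOp k x) = adamsOp k (f x) := by
  rcases k with _ | k
  · simp [adamsOp]
  · induction k using Nat.strong_induction_on generalizing x with
    | _ k ih =>
      have h1 := congrArg f (newton' x k)
      have h2 := newton' (f x) k
      rw [map_mul, map_pow, map_neg, map_one, map_sub, map_mul, map_add, map_natCast, map_one,
        map_sum, hf] at h1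
      have hsum : ∑ i ∈ Finset.range k, f (LambdaOps.lam (i + 1) x *
          ((-1) ^ (k - (i + 1)) * adamsOp (k - (i + 1) + 1) x)) =
          ∑ i ∈ Finset.range k, LambdaOps.lam (i + 1) (f x) *
            ((-1) ^ (k - (i + 1)) * adamsOp (k - (i + 1) + 1) (f x)) := by
        refine Finset.sum_congr rfl fun i hi => ?_
        have hi' := Finset.mem_range.mp hi
        rw [map_mul, map_mul, map_pow, map_neg, map_one, hf, ih _ (by omega)]
      rw [hsum, ← h2] at h1
      exact (isUnit_one.neg.pow k).mul_left_cancel h1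

section Pos

variable (P : PosStructure K)

theorem rescale_invOfUnit_lamSeries (x : K) :
    (rescale (-1 : K) (lamSeries x)).invOfUnit 1 = rescale (-1 : K) ((lamSeries x).invOfUnit 1) := by
  have hc : constantCoeff (rescale (-1 : K) (lamSeries x)) = 1 := by
    rw [← PowerSeries.coeff_zero_eq_constantCoeff_apply, coeff_rescale, coeff_lamSeries,
      LambdaOps.lam_zero, pow_zero, mul_one]
  have h1 : rescale (-1 : K) (lamSeries x) * (rescale (-1 : K) (lamSeries x)).invOfUnit 1 = 1 :=
    PowerSeries.mul_invOfUnit _ 1 (by rw [hc]; rfl)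
  apply eq_of_mul_eq_one h1
  rw [← map_mul, lamSeries_mul_invOfUnit, map_one]

omit [LambdaOps K] in
theorem derivative_rescale_neg_one (F : K⟦X⟧) :
    d⁄dX K (rescale (-1 : K) F) = -rescale (-1 : K) (d⁄dX K F) := by
  ext n
  rw [coeff_derivative, coeff_rescale, map_neg, coeff_rescale, coeff_derivative, pow_succ]
  ring

theorem adamsSeries_eq (x : K) :
    adamsSeries P x = C (P.aug x : K) + X * rescale (-1 : K) (logDerivSeries x) := by
  rw [adamsSeries, rescale_invOfUnit_lamSeries, derivative_rescale_neg_one, logDerivSeries, map_mul]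
  ring

theorem adams_succ (k : ℕ) (x : K) : adams P (k + 1) x = adamsOp (k + 1) x := by
  rw [adams, adamsSeries_eq, map_add, coeff_succ_X_mul, coeff_rescale, adamsOp, coeff_C,
    if_neg (Nat.succ_ne_zero k), zero_add]

theorem adams_zero (x : K) : adams P 0 x = (P.aug x : K) := by
  rw [adams, adamsSeries_eq, map_add, coeff_zero_X_mul, add_zero, coeff_zero_C]

theorem adams_add (k : ℕ) (x y : K) : adams P k (x + y) = adams P k x + adams P k y := by
  rcases k with _ | k
  · simp only [adams_zero, map_add, Int.cast_add]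
  · simp only [adams_succ, adamsOp_add]

theorem adams_zero_right (k : ℕ) : adams P k (0 : K) = 0 := by
  have h := adams_add P k (0 : K) 0
  rw [add_zero] at h
  exact left_eq_add.mp h

theorem adams_neg (k : ℕ) (x : K) : adams P k (-x) = -adams P k x := by
  have h := adams_add P k x (-x)
  rw [add_neg_cancel, adams_zero_right] at h
  exact (neg_eq_of_add_eq_zero_right h.symm).symm

theorem adams_sub (k : ℕ) (x y : K) : adams P k (x - y) = adams P k x - adams P k y := by
  rw [sub_eq_add_neg, adams_add, adams_neg, ← sub_eq_add_neg]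

theorem adams_line {u : K} (hu : P.IsLine u) (k : ℕ) : adams P k u = u ^ k := by
  rcases k with _ | k
  · rw [adams_zero, hu.2, Int.cast_one, pow_zero]
  · rw [adams_succ]
    exact adamsOp_of_lam_eq_zero u
      (fun i hi => P.lam_eq_zero u hu.1 i (by rw [hu.2]; exact_mod_cast hi)) k

theorem adams_multiset_sum (s : Multiset K) (hs : ∀ u ∈ s, P.IsLine u) (k : ℕ) :
    adams P k s.sum = (s.map (· ^ k)).sum := by
  induction s using Multiset.induction_on with
  | empty => simp [adams_zero_right]
  | cons a s ih =>
    rw [Multiset.sum_cons, adams_add, adams_line P (hs a (Multiset.mem_cons_self a s)),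
      ih fun u hu => hs u (Multiset.mem_cons_of_mem hu), Multiset.map_cons, Multiset.sum_cons]

theorem adams_map {K' : Type u} [CommRing K'] [LambdaOps K'] (P' : PosStructure K')
    (f : K →+* K') (hf : IsExtension P P' f) (k : ℕ) (x : K) :
    f (adams P k x) = adams P' k (f x) := by
  rcases k with _ | k
  · rw [adams_zero, adams_zero, hf.aug_comp, map_intCast]
  · rw [adams_succ, adams_succ]
    exact adamsOp_map f hf.isLambdaHom (k + 1) x

end Pos

end Groth.Agent.Lib.helper3.AdamsOp
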