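import Groth.Agent.Lib.Helper3.AdamsPos

/-!
The splitting principle for λ-rings with positive structure; Adams operations are ring
homomorphisms and compose multiplicatively (helper3).
-/

set_option autoImplicit false
universe u

namespace Groth.Agent.Lib.helper3.AdamsOp

open PowerSeries LambdaRing Finset

variable {K : Type u} [CommRing K] [LambdaOps K]

theorem isLine_one' (P : PosStructure K) : P.IsLine (1 : K) := by
  refine ⟨?_, map_one _⟩
  have h := P.natCast_mem 1 Nat.one_pos
  rwa [Nat.cast_one] at h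

theorem isLine_mul' (P : PosStructure K) {a b : K} (ha : P.IsLine a) (hb : P.IsLine b) :
    P.IsLine (a * b) :=
  ⟨P.mul_mem a b ha.1 hb.1, by rw [map_mul, ha.2, hb.2, mul_one]⟩

theorem isLine_pow' (P : PosStructure K) {a : K} (ha : P.IsLine a) (n : ℕ) :
    P.IsLine (a ^ n) := by
  induction n with
  | zero => rw [pow_zero]; exact isLine_one' P
  | succ n ih => rw [pow_succ]; exact isLine_mul' P ih ha

section Ext

variable {K' K'' : Type u} [CommRing K'] [LambdaOps K'] [CommRing K''] [LambdaOps K'']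
  {P : PosStructure K} {P' : PosStructure K'} {P'' : PosStructure K''}

theorem isExtension_comp {f : K →+* K'} {g : K' →+* K''}
    (hf : IsExtension P P' f) (hg : IsExtension P' P'' g) : IsExtension P P'' (g.comp f) where
  isLambdaHom i x := by
    rw [RingHom.comp_apply, hf.isLambdaHom, hg.isLambdaHom, RingHom.comp_apply]
  injective := hg.injective.comp hf.injective
  aug_comp x := by rw [RingHom.comp_apply, hg.aug_comp, hf.aug_comp]
  pos_subset e he := hg.pos_subset _ (hf.pos_subset e he)

theorem isLine_map {f : K →+* K'} (hf : IsExtension P P' f) {u : K} (hu : P.IsLine u) :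
    P'.IsLine (f u) :=
  ⟨hf.pos_subset u hu.1, by rw [hf.aug_comp, hu.2]⟩

end Ext

/-- a splitting of one positive element -/
theorem exists_splitting (P : PosStructure K) (hK : HasSplitting K P) (e : K) (he : e ∈ P.pos) :
    ∃ (L : PosLambdaRing.{u}) (_ : HasSplitting L.carrier L.posStr) (f : K →+* L.carrier),
      IsExtension P L.posStr f ∧
      ∃ s : Multiset L.carrier, (∀ u ∈ s, L.posStr.IsLine u) ∧ s.sum = f e := by
  obtain ⟨C, hKC, hC⟩ := hK
  obtain ⟨L', hL', f, hf, s, hs, hsum⟩ := hC ⟨K, P⟩ hKC e he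
  exact ⟨L', ⟨C, hL', hC⟩, f, hf, s, hs, hsum⟩

/-- a simultaneous splitting of two positive elements -/
theorem exists_splitting₂ (P : PosStructure K) (hK : HasSplitting K P) (e d : K)
    (he : e ∈ P.pos) (hd : d ∈ P.pos) :
    ∃ (L : PosLambdaRing.{u}) (_ : HasSplitting L.carrier L.posStr) (f : K →+* L.carrier),
      IsExtension P L.posStr f ∧
      ∃ s t : Multiset L.carrier, (∀ u ∈ s, L.posStr.IsLine u) ∧ (∀ u ∈ t, L.posStr.IsLine u) ∧
        s.sum = f e ∧ t.sum = f d := by
  obtain ⟨L₁, h₁, f₁, hf₁, s₁, hs₁, hsum₁⟩ := exists_splitting P hK e he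
  obtain ⟨L₂, h₂, f₂, hf₂, t, ht, hsum₂⟩ :=
    exists_splitting L₁.posStr h₁ (f₁ d) (hf₁.pos_subset d hd)
  refine ⟨L₂, h₂, f₂.comp f₁, isExtension_comp hf₁ hf₂, s₁.map f₂, t, ?_, ht, ?_, hsum₂⟩
  · intro u hu
    rw [Multiset.mem_map] at hu
    obtain ⟨v, hv, rfl⟩ := hu
    exact isLine_map hf₂ (hs₁ v hv)
  · rw [RingHom.comp_apply, ← hsum₁, map_multiset_sum]

variable (P : PosStructure K)

theorem adams_line_mul_sum {a : K} (ha : P.IsLine a) (t : Multiset K) (ht : ∀ u ∈ t, P.IsLine u)
    (k : ℕ) : adams P k (a * t.sum) = a ^ k * (t.map (· ^ k)).sum := by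
  have h1 : a * t.sum = (t.map (fun v => a * v)).sum := by
    rw [Multiset.sum_map_mul_left, Multiset.map_id']
  have h2 : a ^ k * (t.map (· ^ k)).sum = (t.map (fun v => a ^ k * v ^ k)).sum := by
    rw [Multiset.sum_map_mul_left]
  rw [h1, h2, adams_multiset_sum P _ (by
    intro u hu
    rw [Multiset.mem_map] at hu
    obtain ⟨v, hv, rfl⟩ := hu
    exact isLine_mul' P ha (ht v hv)), Multiset.map_map]
  congr 1
  refine Multiset.map_congr rfl fun v _ => ?_
  simp only [Function.comp_apply, mul_pow]

theorem adams_sum_mul_sum (s t : Multiset K) (hs : ∀ u ∈ s, P.IsLine u)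
    (ht : ∀ u ∈ t, P.IsLine u) (k : ℕ) :
    adams P k (s.sum * t.sum) = (s.map (· ^ k)).sum * (t.map (· ^ k)).sum := by
  induction s using Multiset.induction_on with
  | empty => simp [adams_zero_right]
  | cons a s ih =>
    rw [Multiset.sum_cons, add_mul, adams_add,
      adams_line_mul_sum P (hs a (Multiset.mem_cons_self a s)) t ht,
      ih fun u hu => hs u (Multiset.mem_cons_of_mem hu), Multiset.map_cons, Multiset.sum_cons,
      add_mul]

variable (hK : HasSplitting K P)
include hK

theorem adams_mul_pos (k : ℕ) {e d : K} (he : e ∈ P.pos) (hd : d ∈ P.pos) :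
    adams P k (e * d) = adams P k e * adams P k d := by
  obtain ⟨L, _, f, hf, s, t, hs, ht, hse, htd⟩ := exists_splitting₂ P hK e d he hd
  apply hf.injective
  rw [adams_map P L.posStr f hf, map_mul, map_mul, adams_map P L.posStr f hf,
    adams_map P L.posStr f hf, ← hse, ← htd, adams_sum_mul_sum L.posStr s t hs ht,
    adams_multiset_sum L.posStr s hs, adams_multiset_sum L.posStr t ht]

theorem adams_mul (k : ℕ) (x y : K) : adams P k (x * y) = adams P k x * adams P k y := by
  obtain ⟨e₁, e₂, he₁, he₂, rfl⟩ := P.exists_sub x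
  obtain ⟨d₁, d₂, hd₁, hd₂, rfl⟩ := P.exists_sub y
  have h : (e₁ - e₂) * (d₁ - d₂) = e₁ * d₁ - e₁ * d₂ - (e₂ * d₁ - e₂ * d₂) := by ring
  rw [h, adams_sub, adams_sub, adams_sub, adams_sub, adams_sub, adams_mul_pos P hK k he₁ hd₁,
    adams_mul_pos P hK k he₁ hd₂, adams_mul_pos P hK k he₂ hd₁, adams_mul_pos P hK k he₂ hd₂]
  ring

omit hK in
theorem adams_one (k : ℕ) : adams P k (1 : K) = 1 := by
  rw [adams_line P (isLine_one' P), one_pow]

/-- the Adams operation `ψ^k` as a ring homomorphism -/
noncomputable def adamsHom (k : ℕ) : K →+* K where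
  toFun := adams P k
  map_one' := adams_one P k
  map_mul' := adams_mul P hK k
  map_zero' := adams_zero_right P k
  map_add' := adams_add P k

theorem adams_adams (i j : ℕ) (x : K) : adams P i (adams P j x) = adams P (i * j) x := by
  obtain ⟨e₁, e₂, he₁, he₂, rfl⟩ := P.exists_sub x
  have key : ∀ e ∈ P.pos, adams P i (adams P j e) = adams P (i * j) e := by
    intro e he
    obtain ⟨L, _, f, hf, s, hs, hse⟩ := exists_splitting P hK e he
    apply hf.injective
    rw [adams_map P L.posStr f hf, adams_map P L.posStr f hf, adams_map P L.posStr f hf, ← hse,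
      adams_multiset_sum L.posStr s hs, adams_multiset_sum L.posStr s hs,
      adams_multiset_sum L.posStr _ (by
        intro u hu
        rw [Multiset.mem_map] at hu
        obtain ⟨v, hv, rfl⟩ := hu
        exact isLine_pow' L.posStr (hs v hv) j), Multiset.map_map]
    congr 1
    refine Multiset.map_congr rfl fun v _ => ?_
    simp only [Function.comp_apply, ← pow_mul, mul_comm]
  rw [adams_sub, adams_sub, adams_sub, key e₁ he₁, key e₂ he₂]

end Groth.Agent.Lib.helper3.AdamsOp
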