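import Mathlib
import Groth.Agent.LibPS29
import Groth.Prelude.Def_CAlgX

/-!
Power series rings in finitely many variables over a field `L` which is formally smooth over `R`
are formally smooth over `R` for the adic topology of the maximal ideal (helper3; uses helper29's
evaluation of power series at nilpotent elements).
-/

set_option autoImplicit false
universe u

namespace Groth.Agent.Lib.helper3.AdicPS

open MvPowerSeries Groth.Agent.LibPS29

theorem X_mem_maximalIdeal {L : Type u} [Field L] {n : ℕ} (i : Fin n) :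
    (X i : MvPowerSeries (Fin n) L) ∈ IsLocalRing.maximalIdeal (MvPowerSeries (Fin n) L) := by
  rw [IsLocalRing.mem_maximalIdeal, mem_nonunits_iff]
  intro h
  have := MvPowerSeries.isUnit_iff_constantCoeff.mp h
  rw [MvPowerSeries.constantCoeff_X] at this
  exact not_isUnit_zero this

theorem adic_of_formallySmooth (R : Type u) [CommRing R] (L : Type u) [Field L] [Algebra R L]
    [Algebra.FormallySmooth R L] (n : ℕ) :
    CAlgX.IsAdicFormallySmooth R (MvPowerSeries (Fin n) L)
      (IsLocalRing.maximalIdeal (MvPowerSeries (Fin n) L)) := by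
  intro A _ _ J hJ ψ ⟨k, hk⟩
  let ψ₀ : L →ₐ[R] A ⧸ J := ψ.comp (IsScalarTower.toAlgHom R L (MvPowerSeries (Fin n) L))
  have hnil : IsNilpotent J := ⟨2, hJ⟩
  let χ₀ : L →ₐ[R] A := Algebra.FormallySmooth.lift J hnil ψ₀
  have hχ₀ : ∀ l, Ideal.Quotient.mk J (χ₀ l) = ψ₀ l :=
    fun l => Algebra.FormallySmooth.mk_lift J hnil ψ₀ l
  letI : Algebra L A := χ₀.toRingHom.toAlgebra
  haveI : IsScalarTower R L A := IsScalarTower.of_algebraMap_eq (fun r => (χ₀.commutes r).symm)
  have hcomm : ∀ l : L, ψ (algebraMap L (MvPowerSeries (Fin n) L) l) =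
      algebraMap L (A ⧸ J) l := by
    intro l
    have h1 : algebraMap L (A ⧸ J) l = Ideal.Quotient.mk J (χ₀ l) := rfl
    rw [h1, hχ₀]
    rfl
  let ψL : MvPowerSeries (Fin n) L →ₐ[L] A ⧸ J :=
    { ψ.toRingHom with commutes' := hcomm }
  have hψL : ∀ s, ψL s = ψ s := fun _ => rfl
  choose a ha using fun i : Fin n => Ideal.Quotient.mk_surjective (I := J) (ψ (X i))
  have hak : ∀ i, a i ^ k ∈ J := by
    intro i
    rw [← Ideal.Quotient.eq_zero_iff_mem, map_pow, ha, ← map_pow]
    exact hk _ (Ideal.pow_mem_pow (X_mem_maximalIdeal i) k)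
  have hz : ∀ i, a i ^ (2 * k + 1 + 1) = 0 := by
    intro i
    have h1 : a i ^ k * a i ^ k ∈ J ^ 2 := by
      rw [pow_two]
      exact Ideal.mul_mem_mul (hak i) (hak i)
    rw [hJ, Ideal.mem_bot] at h1
    have : a i ^ (2 * k + 1 + 1) = (a i ^ k * a i ^ k) * a i ^ 2 := by ring
    rw [this, h1, zero_mul]
  let χL : MvPowerSeries (Fin n) L →ₐ[L] A := ev a (2 * k + 1) hz
  refine ⟨χL.restrictScalars R, ?_⟩
  have hz' : ∀ i, (fun j => Ideal.Quotient.mk J (a j)) i ^ (2 * k + 1 + 1) = 0 := by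
    intro i
    simp only
    rw [← map_pow, hz, map_zero]
  have e1 : (Ideal.Quotient.mkₐ L J).comp χL = ev _ (2 * k + 1) hz' := by
    apply algHom_eq_ev
    intro i
    simp only [AlgHom.comp_apply, χL]
    rw [ev_X a (2 * k + 1) (by omega) hz i]
    rfl
  have e2 : ψL = ev _ (2 * k + 1) hz' := by
    apply algHom_eq_ev
    intro i
    rw [hψL, ← ha i]
  ext s
  have := congrArg (fun f : MvPowerSeries (Fin n) L →ₐ[L] A ⧸ J => f s) (e1.trans e2.symm)
  exact this

end Groth.Agent.Lib.helper3.AdicPS
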