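import Groth.Agent.Lib.Helper3.SpecialLib5
import Mathlib.RingTheory.Flat.TorsionFree
import Mathlib.RingTheory.TensorProduct.Basic

/-!
A binomial ring with its binomial λ-structure is a λ-ring in the strict sense, by embedding it
into its rationalisation (helper3).
-/

set_option autoImplicit false
universe u

namespace Groth.Agent.Lib.helper3.Special

open MvPolynomial Finset LambdaRing TensorProduct
open Groth.Agent.Lib.helper3.AdamsOp

/-- specialness descends along injective λ-homomorphisms -/
theorem isSpecial_of_injective {K K' : Type u} [CommRing K] [LambdaOps K] [CommRing K']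
    [LambdaOps K'] (f : K →+* K') (hf : Function.Injective f)
    (hlam : ∀ (n : ℕ) (x : K), f (LambdaOps.lam n x) = LambdaOps.lam n (f x))
    (h : IsSpecial K') : IsSpecial K := by
  have hae : ∀ {σ : Type} (w : σ → K) (p : MvPolynomial σ ℤ),
      f (aeval w p) = aeval (fun i => f (w i)) p := by
    intro σ w p
    induction p using MvPolynomial.induction_on with
    | C a => simp
    | add p q hp hq => rw [map_add, map_add, map_add, hp, hq]
    | mul_X p i hp => rw [map_mul, map_mul, map_mul, hp, aeval_X, aeval_X]
  refine ⟨fun n hn => ?_, fun n P hP x y => ?_, fun i j Q hQ x => ?_⟩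
  · apply hf
    rw [hlam, map_one, map_zero]
    exact h.lam_one_eq_zero n hn
  · apply hf
    rw [hlam, map_mul, h.lam_mul n P hP, hae]
    congr 2
    funext k
    rcases k with k | k
    · simp only [Sum.elim_inl]; rw [hlam]
    · simp only [Sum.elim_inr]; rw [hlam]
  · apply hf
    rw [hlam, hlam, h.lam_lam i j Q hQ, hae]
    congr 2
    funext k
    rw [hlam]

section Binom

variable {K : Type u} [CommRing K] [BinomialRing K]

/-- the alternating partial sums of the binomial coefficients -/
theorem sum_neg_one_pow_choose (x : K) (n : ℕ) :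
    ∑ i ∈ range (n + 1), (-1 : K) ^ (n - i) * Ring.choose x i = Ring.choose (x - 1) n := by
  induction n with
  | zero => simp
  | succ n ih =>
    rw [Finset.sum_range_succ, Nat.sub_self, pow_zero, one_mul]
    have h1 : ∑ i ∈ range (n + 1), (-1 : K) ^ (n + 1 - i) * Ring.choose x i =
        -∑ i ∈ range (n + 1), (-1 : K) ^ (n - i) * Ring.choose x i := by
      rw [← Finset.sum_neg_distrib]
      refine Finset.sum_congr rfl fun i hi => ?_
      have hi' := Finset.mem_range.mp hi
      rw [show n + 1 - i = (n - i) + 1 by omega, pow_succ]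
      ring
    rw [h1, ih]
    have h2 := Ring.choose_succ_succ (x - 1) n
    rw [sub_add_cancel] at h2
    rw [h2]; ring

/-- Newton's recursion for the binomial coefficients -/
theorem choose_newton (x : K) (n : ℕ) :
    Ring.choose x (n + 1) * ((n : K) + 1) =
      ∑ i ∈ range (n + 1), Ring.choose x i * ((-1) ^ (n - i) * x) := by
  have h1 := Ring.choose_smul_choose x (show 1 ≤ n + 1 by omega)
  rw [Nat.choose_one_right, Ring.choose_one_right, Nat.add_sub_cancel, Nat.cast_one, nsmul_eq_mul,
    Nat.cast_add, Nat.cast_one] at h1
  rw [mul_comm, h1, ← sum_neg_one_pow_choose x n, Finset.mul_sum]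
  refine Finset.sum_congr rfl fun i _ => ?_
  ring

omit [BinomialRing K] in
theorem flat_int [IsAddTorsionFree K] : Module.Flat ℤ K := by
  rw [Module.Flat.flat_iff_torsion_eq_bot_of_isBezout, eq_bot_iff]
  rintro m ⟨⟨r, hr⟩, h⟩
  have hr0 : r ≠ 0 := nonZeroDivisors.ne_zero hr
  have h' : r • m = 0 := h
  rw [Submodule.mem_bot]
  exact (IsAddTorsionFree.zsmul_eq_zero_iff_right hr0).mp h'

end Binom

end Groth.Agent.Lib.helper3.Special
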