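import Groth.Agent.Lib.Helper3.SpecialLib
import Mathlib.RingTheory.PowerSeries.Binomial
import Mathlib.RingTheory.PowerSeries.Substitution
import Mathlib.RingTheory.PowerSeries.Derivative

/-!
Binomial powers `F^κ = Σ_j C(κ,j) (F - 1)^j` of power series with constant coefficient `1`, for
`κ` in a binomial ring: the differential equation and the Newton recursion (helper3).
-/

set_option autoImplicit false
universe u v

namespace Groth.Agent.Lib.helper3.BinomPow

open PowerSeries Finset
open Groth.Agent.Lib.helper3.Special

variable {K : Type u} [CommRing K] [BinomialRing K] {R : Type v} [CommRing R] [Algebra K R]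

theorem succ_mul_choose (κ : K) (n : ℕ) :
    ((n : K) + 1) * Ring.choose κ (n + 1) = κ * Ring.choose (κ - 1) n := by
  have h1 := Ring.choose_add_smul_choose (κ - 1) n 1
  rw [Nat.choose_one_right, Nat.cast_one, sub_add_cancel, Ring.choose_one_right, nsmul_eq_mul] at h1
  push_cast at h1
  exact h1

theorem choose_rec (κ : K) (n : ℕ) :
    ((n : K) + 1) * Ring.choose κ (n + 1) + (n : K) * Ring.choose κ n = κ * Ring.choose κ n := by
  rcases n with _ | n
  · simp
  · have h1 := succ_mul_choose κ (n + 1)
    have h2 := succ_mul_choose κ n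
    have h3 := Ring.choose_succ_succ (κ - 1) n
    rw [sub_add_cancel] at h3
    push_cast at h1 h2 ⊢
    rw [h1, h2, h3]; ring

/-- `(1 + X) · d/dX (1+X)^κ = κ (1+X)^κ` -/
theorem one_add_X_mul_derivative_binomialSeries (κ : K) :
    (1 + X) * d⁄dX R (binomialSeries R κ) = C (algebraMap K R κ) * binomialSeries R κ := by
  ext n
  rw [add_mul, one_mul, map_add, coeff_derivative, coeff_C_mul, binomialSeries_coeff,
    binomialSeries_coeff]
  rcases n with _ | n
  · rw [coeff_zero_X_mul, add_zero]
    simp [Algebra.algebraMap_eq_smul_one]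
  · rw [coeff_succ_X_mul, coeff_derivative, binomialSeries_coeff]
    have h := congrArg (algebraMap K R) (choose_rec κ (n + 1))
    simp only [map_add, map_mul, map_natCast, map_one] at h
    simp only [← Algebra.algebraMap_eq_smul_one]
    push_cast at h ⊢
    rw [← h]; ring

/-- `(1 + f) · d/dX (1+f)^κ = κ (1+f)^κ f'` -/
theorem one_add_mul_derivative_subst (κ : K) (f : R⟦X⟧) (hf : constantCoeff f = 0) :
    (1 + f) * d⁄dX R ((binomialSeries R κ).subst f) =
      C (algebraMap K R κ) * (binomialSeries R κ).subst f * d⁄dX R f := by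
  have hs : HasSubst f := HasSubst.of_constantCoeff_zero' hf
  rw [derivative_subst hs, ← mul_assoc]
  congr 1
  have h := congrArg (fun G => G.subst f) (one_add_X_mul_derivative_binomialSeries (R := R) κ)
  simp only [subst_mul hs, subst_add hs, subst_X hs] at h
  have h1 : (1 : R⟦X⟧).subst f = 1 := by
    rw [← map_one (C (R := R)), subst_C, map_one]; rfl
  have h2 : (C (algebraMap K R κ) : R⟦X⟧).subst f = C (algebraMap K R κ) := by
    rw [subst_C]; rfl
  rw [h1, h2] at h
  exact h

variable [Algebra ℚ R]

/-- the Newton recursion for `κ s` gives the `κ`-th binomial power of the series for `s` -/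
theorem FS_smul (κ : K) (s : ℕ → R) :
    FS (fun k => algebraMap K R κ * s k) = (binomialSeries R κ).subst (FS s - 1) := by
  have hf : constantCoeff (FS s - 1) = 0 := by
    rw [map_sub, ← coeff_zero_eq_constantCoeff_apply, coeff_zero_FS, map_one, sub_self]
  have hs : HasSubst (FS s - 1) := HasSubst.of_constantCoeff_zero' hf
  ext n
  rw [FS, coeff_mk]
  symm
  apply coeff_eq_LRec_of_ode
  · rw [coeff_subst' hs, finsum_eq_single _ 0]
    · simp
    · intro d hd
      rw [coeff_zero_eq_constantCoeff_apply, map_pow, hf, zero_pow hd, smul_zero]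
  · have h := one_add_mul_derivative_subst κ (FS s - 1) hf
    rw [add_sub_cancel, map_sub, derivative_one, sub_zero, derivative_FS] at h
    have hu : IsUnit (FS s) := by
      rw [isUnit_iff_constantCoeff, ← coeff_zero_eq_constantCoeff_apply, coeff_zero_FS]
      exact isUnit_one
    apply hu.mul_left_cancel
    rw [h]
    have hG : GS (fun k => algebraMap K R κ * s k) = C (algebraMap K R κ) * GS s := by
      ext j
      rw [GS, coeff_mk, coeff_C_mul, GS, coeff_mk]; ring
    rw [hG]; ring

end Groth.Agent.Lib.helper3.BinomPow
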