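import Groth.Agent.Lib.Helper3.AdamsPos2
import Groth.Prelude.Def_KRR

/-!
λ-operations, `λ_{-1}` and Bott's cannibalistic class of a sum of line elements;
`ψ^j(λ_{-1}(e)) = λ_{-1}(e) θ^j(e)` (helper3).
-/

set_option autoImplicit false
universe v

namespace Groth.Agent.Lib.helper3.AdamsOp

open PowerSeries LambdaRing Finset KRR

variable {K : Type v} [CommRing K] [LambdaOps K]

theorem lamSeries_zero : lamSeries (0 : K) = 1 := by
  have h := lamSeries_add (0 : K) 0
  rw [add_zero] at h
  have hu : IsUnit (lamSeries (0 : K)) := by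
    rw [PowerSeries.isUnit_iff_constantCoeff, constantCoeff_lamSeries]
    exact isUnit_one
  have h2 : lamSeries (0 : K) * 1 = lamSeries (0 : K) * lamSeries (0 : K) := by
    rw [mul_one, ← h]
  exact (hu.mul_left_cancel h2).symm

theorem lamSeries_sum {ι : Type*} (s : Finset ι) (y : ι → K) :
    lamSeries (∑ i ∈ s, y i) = ∏ i ∈ s, lamSeries (y i) := by
  classical
  induction s using Finset.induction_on with
  | empty => simp [lamSeries_zero]
  | insert j s hj ih => rw [Finset.sum_insert hj, Finset.prod_insert hj, lamSeries_add, ih]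

theorem lamSeries_of_lam_eq_zero (y : K) (hy : ∀ j : ℕ, 2 ≤ j → LambdaOps.lam j y = 0) :
    lamSeries y = 1 + C y * X := by
  ext k
  rw [coeff_lamSeries, map_add, coeff_one, coeff_C_mul, coeff_X]
  rcases Nat.lt_or_ge k 2 with hk | hk
  · interval_cases k
    · simp [LambdaOps.lam_zero]
    · simp [LambdaOps.lam_one]
  · rw [hy k hk, if_neg (by omega), if_neg (by omega), mul_zero, add_zero]

omit [LambdaOps K] in
theorem coeff_prod_one_add {n : ℕ} (a : Fin n → K) (k : ℕ) :
    coeff k (∏ i : Fin n, (1 + C (a i) * X : K⟦X⟧)) =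
      ∑ s ∈ (univ : Finset (Fin n)).powersetCard k, ∏ i ∈ s, a i := by
  classical
  rw [Finset.prod_one_add, map_sum, Finset.powersetCard_eq_filter, Finset.sum_filter]
  refine Finset.sum_congr rfl fun t _ => ?_
  rw [Finset.prod_mul_distrib, Finset.prod_const, ← map_prod, coeff_C_mul, coeff_X_pow]
  split_ifs with h1 h2 h2
  · rw [mul_one]
  · exact absurd h1.symm h2
  · exact absurd h2.symm h1
  · rw [mul_zero]

section Fin

variable (P : PosStructure K) {n : ℕ} (v : Fin n → K) (hv : ∀ i, P.IsLine (v i))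

include hv

theorem lamSeries_sum_lines :
    lamSeries (∑ i, v i) = ∏ i : Fin n, (1 + C (v i) * X : K⟦X⟧) := by
  rw [lamSeries_sum]
  refine Finset.prod_congr rfl fun i _ => ?_
  exact lamSeries_of_lam_eq_zero (v i)
    (fun j hj => P.lam_eq_zero (v i) (hv i).1 j (by rw [(hv i).2]; exact_mod_cast hj))

theorem lam_sum_lines (k : ℕ) :
    LambdaOps.lam k (∑ i, v i) = ∑ s ∈ (univ : Finset (Fin n)).powersetCard k, ∏ i ∈ s, v i := by
  rw [← coeff_lamSeries, lamSeries_sum_lines P v hv, coeff_prod_one_add]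

theorem lam_sum_lines_eq_aeval (k : ℕ) :
    LambdaOps.lam k (∑ i, v i) = MvPolynomial.aeval v (MvPolynomial.esymm (Fin n) ℤ k) := by
  rw [lam_sum_lines P v hv, MvPolynomial.esymm, map_sum]
  refine Finset.sum_congr rfl fun s _ => ?_
  rw [map_prod]
  refine Finset.prod_congr rfl fun i _ => ?_
  rw [MvPolynomial.aeval_X]

theorem aug_sum_lines : P.aug (∑ i, v i) = n := by
  rw [map_sum, Finset.sum_congr rfl (fun i _ => (hv i).2)]
  simp

theorem toNat_aug_sum_lines : (P.aug (∑ i, v i)).toNat = n := by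
  rw [aug_sum_lines P v hv]; omega

theorem lamAlt_sum_lines : lamAlt P (∑ i, v i) = ∏ i, (1 - v i) := by
  classical
  rw [lamAlt, toNat_aug_sum_lines P v hv]
  have h1 : ∏ i : Fin n, (1 - v i) = ∏ i : Fin n, (1 + -v i) := by
    refine Finset.prod_congr rfl fun i _ => ?_
    ring
  rw [h1, Finset.prod_one_add, Finset.sum_powerset, Finset.card_univ, Fintype.card_fin]
  refine Finset.sum_congr rfl fun k _ => ?_
  rw [lam_sum_lines P v hv, Finset.mul_sum]
  refine Finset.sum_congr rfl fun t ht => ?_
  rw [Finset.prod_neg, (Finset.mem_powersetCard.mp ht).2]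

end Fin

/-- unfolding `bott` when the augmentation is known -/
theorem bott_eq_of_toNat (P : PosStructure K) (j : ℕ) (e : K) (n : ℕ)
    (hn : (P.aug e).toNat = n) :
    bott P j e = MvPolynomial.aeval (fun i : Fin n => LambdaOps.lam (i.1 + 1) e) (bottPoly j n) := by
  subst hn
  rfl

theorem aeval_esymm_bottPoly (j n : ℕ) :
    MvPolynomial.aeval (fun i : Fin n => MvPolynomial.esymm (Fin n) ℤ (i.1 + 1)) (bottPoly j n) =
      bottSym j n := by
  have h := (MvPolynomial.esymmAlgEquiv (Fin n) ℤ (Fintype.card_fin n)).apply_symm_apply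
    ⟨bottSym j n, bottSym_isSymmetric j n⟩
  have h2 := congrArg Subtype.val h
  rw [MvPolynomial.esymmAlgEquiv_apply, MvPolynomial.esymmAlgHom_apply] at h2
  exact h2

theorem bott_sum_lines (P : PosStructure K) {n : ℕ} (v : Fin n → K) (hv : ∀ i, P.IsLine (v i))
    (j : ℕ) : bott P j (∑ i, v i) = ∏ i, ∑ k ∈ range j, v i ^ k := by
  rw [bott_eq_of_toNat P j _ n (toNat_aug_sum_lines P v hv)]
  have h1 : (fun i : Fin n => LambdaOps.lam (i.1 + 1) (∑ i, v i)) =
      fun i : Fin n => MvPolynomial.aeval v (MvPolynomial.esymm (Fin n) ℤ (i.1 + 1)) := by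
    funext i
    exact lam_sum_lines_eq_aeval P v hv _
  rw [h1, ← MvPolynomial.comp_aeval_apply, aeval_esymm_bottPoly, bottSym, map_prod]
  refine Finset.prod_congr rfl fun i _ => ?_
  rw [map_sum]
  refine Finset.sum_congr rfl fun k _ => ?_
  rw [map_pow, MvPolynomial.aeval_X]

/-- the main identity for a sum of line elements -/
theorem adams_lamAlt_sum_lines (P : PosStructure K) (hK : HasSplitting K P) {n : ℕ}
    (v : Fin n → K) (hv : ∀ i, P.IsLine (v i)) (j : ℕ) :
    adams P j (lamAlt P (∑ i, v i)) = lamAlt P (∑ i, v i) * bott P j (∑ i, v i) := by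
  rw [lamAlt_sum_lines P v hv, bott_sum_lines P v hv, ← Finset.prod_mul_distrib]
  have h := map_prod (adamsHom P hK j) (fun i => 1 - v i) Finset.univ
  have h' : adams P j (∏ i, (1 - v i)) = ∏ i, adams P j (1 - v i) := h
  rw [h']
  refine Finset.prod_congr rfl fun i _ => ?_
  rw [adams_sub, adams_one, adams_line P (hv i), mul_neg_geom_sum]

omit [LambdaOps K] in
/-- a ring homomorphism commutes with evaluation of integer polynomials -/
theorem map_aeval_int {L : Type*} [CommRing L] {σ : Type*} (g : K →+* L) (w : σ → K)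
    (p : MvPolynomial σ ℤ) :
    g (MvPolynomial.aeval w p) = MvPolynomial.aeval (fun i => g (w i)) p := by
  induction p using MvPolynomial.induction_on with
  | C a => simp
  | add p q hp hq => rw [map_add, map_add, map_add, hp, hq]
  | mul_X p i hp => rw [map_mul, map_mul, map_mul, hp, MvPolynomial.aeval_X, MvPolynomial.aeval_X]

/-- every multiset of line elements is a family indexed by `Fin n` -/
theorem exists_fin_family (P : PosStructure K) (s : Multiset K) (hs : ∀ u ∈ s, P.IsLine u) :
    ∃ (n : ℕ) (v : Fin n → K), (∀ i, P.IsLine (v i)) ∧ ∑ i, v i = s.sum := by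
  refine ⟨s.toList.length, s.toList.get, fun i => hs _ ?_, ?_⟩
  · rw [← Multiset.mem_toList]
    exact List.get_mem _ _
  · have h1 : s.sum = s.toList.sum := by
      conv_lhs => rw [← Multiset.coe_toList s]
      rfl
    rw [h1, ← List.sum_ofFn, List.ofFn_get]

theorem adams_lamAlt_eq_mul_bott (P : PosStructure K) (hK : HasSplitting K P) (e : K)
    (he : e ∈ P.pos) (j : ℕ) :
    adams P j (lamAlt P e) = lamAlt P e * bott P j e := by
  obtain ⟨L, hL, g, hg, s, hs, hse⟩ := exists_splitting P hK e he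
  obtain ⟨n, v, hv, hvs⟩ := exists_fin_family L.posStr s hs
  have hge : g e = ∑ i, v i := by rw [hvs, hse]
  have hn : (P.aug e).toNat = n := by
    rw [← hg.aug_comp, hge]
    exact toNat_aug_sum_lines L.posStr v hv
  have hlamAlt : g (lamAlt P e) = lamAlt L.posStr (∑ i, v i) := by
    rw [lamAlt, lamAlt, toNat_aug_sum_lines L.posStr v hv, hn, map_sum]
    refine Finset.sum_congr rfl fun i _ => ?_
    rw [map_mul, map_pow, map_neg, map_one, hg.isLambdaHom, hge]
  have hbott : g (bott P j e) = bott L.posStr j (∑ i, v i) := by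
    rw [bott_eq_of_toNat P j e n hn,
      bott_eq_of_toNat L.posStr j _ n (toNat_aug_sum_lines L.posStr v hv), map_aeval_int]
    have hfun : (fun i : Fin n => g (LambdaOps.lam (i.1 + 1) e)) =
        fun i : Fin n => LambdaOps.lam (i.1 + 1) (∑ i, v i) := by
      funext i
      rw [hg.isLambdaHom, hge]
    rw [hfun]
  apply hg.injective
  rw [adams_map P L.posStr g hg, map_mul, hlamAlt, hbott]
  exact adams_lamAlt_sum_lines L.posStr hL v hv j

end Groth.Agent.Lib.helper3.AdamsOp
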