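import Mathlib
import Groth.Agent.Lib.Helper3.EquidimStalk
import Groth.Agent.Lib.Helper3.FTFieldRing
import Groth.Agent.Lib.Helper3.FibreChev
import Groth.Agent.Lib.Helper3.ValFlatDim
import Groth.Agent.Lib.Helper3.QFinRing2
/-!
# Dimension of the closed fibre of a flat local homomorphism, essentially of finite type (helper3)

* `exists_height_trdeg` : in a finite type algebra `F` over a field, for a prime `Q`:
  `trdeg (F/Q') ≤ ht Q + trdeg (F/Q)` for all primes `Q' ≤ Q`, with equality for some `Q'`;
* `td_eq_trdeg_quotient_quotient` : the residue transcendence degree at a prime over a maximal ideal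
  `p`, computed in `S/pS` over `R/p`;
* `algebraicIndependent_of_flat` : a family of a flat algebra over a local ring which is
  algebraically independent modulo a prime over the maximal ideal is algebraically independent.
-/

set_option autoImplicit false
set_option linter.style.haveILetI false
set_option linter.unusedSectionVars false
universe u
open Function

namespace Groth.Agent.Lib.helper3.FlatFibDim

open Groth.Agent.Lib.helper3.DimIneq Groth.Agent.Lib.helper3.FTField
  Groth.Agent.Lib.helper3.FibreParam

/-- Finite type algebra over a field: `trdeg (F/Q') ≤ ht Q + trdeg (F/Q)` for primes `Q' ≤ Q`, with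
equality for some `Q'`. -/
theorem exists_height_trdeg (k : Type u) [Field k] {F : Type u} [CommRing F] [Algebra k F]
    [Algebra.FiniteType k F] (Q : Ideal F) [Q.IsPrime] :
    ∃ d e : ℕ, Q.height = d ∧ Algebra.trdeg k (F ⧸ Q) = e ∧
      (∀ Q' : Ideal F, Q'.IsPrime → Q' ≤ Q →
        Algebra.trdeg k (F ⧸ Q') ≤ ((d + e : ℕ) : Cardinal.{u})) ∧
      ∃ Q₀ : Ideal F, Q₀.IsPrime ∧ Q₀ ≤ Q ∧ Algebra.trdeg k (F ⧸ Q₀) = ((d + e : ℕ) : Cardinal.{u}) := by
  haveI : IsNoetherianRing F := Algebra.FiniteType.isNoetherianRing k F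
  obtain ⟨e, he⟩ := exists_nat_trdeg_quotient k Q
  have hfin : Q.height ≠ ⊤ := Ideal.height_ne_top_of_isPrime
  obtain ⟨d, hd⟩ := ENat.ne_top_iff_exists.mp hfin
  refine ⟨d, e, hd.symm, he, ?_, ?_⟩
  · intro Q' hQ' hle
    have key := height_map_add_trdeg k Q' Q hle
    rw [he] at key
    rw [← key]
    have h1 := FTField.height_map_le Q' Q hle
    rw [← hd] at h1
    have h2 : (Q.map (Ideal.Quotient.mk Q')).height ≠ ⊤ := ne_top_of_le_ne_top (by simp) h1
    obtain ⟨d', hd'⟩ := ENat.ne_top_iff_exists.mp h2
    rw [← hd'] at h1 ⊢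
    have h3 : d' ≤ d := by exact_mod_cast h1
    push_cast
    gcongr
  · obtain ⟨Q₀, hQ₀min, hQ₀le, hQ₀ht⟩ := exists_minimalPrimes_height_map_eq Q
    haveI : Q₀.IsPrime := hQ₀min.1.1
    refine ⟨Q₀, inferInstance, hQ₀le, ?_⟩
    have key := height_map_add_trdeg k Q₀ Q hQ₀le
    rw [hQ₀ht, ← hd, he] at key
    rw [← key]
    push_cast
    rfl

section bridge

variable {R S : Type u} [CommRing R] [CommRing S] [Algebra R S] (p : Ideal R)

/-- the residue transcendence degree at a prime `q'` over `p`, computed in `S/pS` over `R/p`. -/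
theorem td_eq_trdeg_quotient_quotient (q' : Ideal S) [q'.IsPrime]
    (hq' : q'.comap (algebraMap R S) = p) :
    td (Ideal.quotientMap q' (algebraMap R S) le_rfl) =
      Algebra.trdeg (R ⧸ p) ((S ⧸ p.map (algebraMap R S)) ⧸
        q'.map (Ideal.Quotient.mk (p.map (algebraMap R S)))) := by
  have hle : p.map (algebraMap R S) ≤ q' := by
    rw [Ideal.map_le_iff_le_comap, hq']
  haveI hQ'p := map_mk_isPrime (p.map (algebraMap R S)) q' hle
  haveI : IsDomain ((S ⧸ p.map (algebraMap R S)) ⧸
      q'.map (Ideal.Quotient.mk (p.map (algebraMap R S)))) := Ideal.Quotient.isDomain _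
  haveI : p.IsPrime := by rw [← hq']; exact Ideal.comap_isPrime _ _
  haveI : Nontrivial (R ⧸ p) := Ideal.Quotient.nontrivial_iff.mpr (Ideal.IsPrime.ne_top inferInstance)
  rw [← td_quotientMap_congr_ideal (algebraMap R S) q' p hq', ← td_algebraMap]
  refine td_eq_of_square (Ideal.quotientMap q' (algebraMap R S) (le_of_eq hq'.symm))
    (Ideal.quotientMap (q'.map (Ideal.Quotient.mk (p.map (algebraMap R S))))
      (Ideal.Quotient.mk (p.map (algebraMap R S))) Ideal.le_comap_map)
    (RingHom.id (R ⧸ p)) (algebraMap (R ⧸ p) _) ?_ ?_ ?_ ?_ ?_ ?_ ?_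
  · apply Ideal.Quotient.ringHom_ext
    ext a
    rfl
  · exact Ideal.quotientMap_injective' (le_of_eq hq')
  · apply Ideal.quotientMap_injective'
    rw [comap_map_mk _ _ hle]
  · exact injective_id
  · rw [injective_iff_map_eq_zero]
    intro x hx
    obtain ⟨a, rfl⟩ := Ideal.Quotient.mk_surjective x
    have h1 : Ideal.Quotient.mk (q'.map (Ideal.Quotient.mk (p.map (algebraMap R S))))
        (Ideal.Quotient.mk (p.map (algebraMap R S)) (algebraMap R S a)) = 0 := hx
    rw [Ideal.Quotient.eq_zero_iff_mem] at h1
    have h2 : algebraMap R S a ∈ (q'.map (Ideal.Quotient.mk (p.map (algebraMap R S)))).comap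
        (Ideal.Quotient.mk (p.map (algebraMap R S))) := h1
    rw [comap_map_mk _ _ hle] at h2
    rw [Ideal.Quotient.eq_zero_iff_mem, ← hq']
    exact h2
  · apply isAlgebraic_of_surjective
    exact Ideal.quotientMap_surjective Ideal.Quotient.mk_surjective
  · apply isAlgebraic_of_surjective
    exact surjective_id

end bridge

section flat

open Groth.Agent.Lib.helper3.QFinRing2

/-- **Algebraic independence from flatness.** `A` local, `B` a flat `A`-algebra receiving `C`, `q₀`
a prime of `C` over the maximal ideal containing the preimage of `𝔪 B`. A family of `C` that is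
algebraically independent modulo `q₀` is algebraically independent over `A` in `B`. -/
theorem algebraicIndependent_of_flat {A C B : Type u} [CommRing A] [IsLocalRing A] [CommRing C]
    [CommRing B] [Algebra A C] [Algebra C B] [Algebra A B] [IsScalarTower A C B] [Module.Flat A B]
    (q₀ : Ideal C) [q₀.IsPrime] (hq₀ : q₀.comap (algebraMap A C) = IsLocalRing.maximalIdeal A)
    (H : ∀ c : C, algebraMap C B c ∈ (IsLocalRing.maximalIdeal A).map (algebraMap A B) → c ∈ q₀)
    (r : ℕ) (a : Fin r → C)
    (ha : @AlgebraicIndependent _ (A ⧸ q₀.comap (algebraMap A C)) (C ⧸ q₀)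
      (fun i => Ideal.Quotient.mk q₀ (a i)) _ _
      (Ideal.quotientMap q₀ (algebraMap A C) le_rfl).toAlgebra) :
    AlgebraicIndependent A (fun i => algebraMap C B (a i)) := by
  classical
  set m := IsLocalRing.maximalIdeal A with hm
  set ψ : MvPolynomial (Fin r) A →ₐ[A] C := MvPolynomial.aeval a with hψ
  have hcomap := comap_aeval_eq m q₀ hq₀ r r le_rfl a
    (by
      have : (fun i : Fin r => Ideal.Quotient.mk q₀ (a (Fin.castLE le_rfl i))) =
          fun i => Ideal.Quotient.mk q₀ (a i) := by
        funext i; simp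
      rw [this]; exact ha)
    (fun i hi => absurd i.2 (not_lt.mpr hi))
  have hempty : (Set.range fun i : {i : Fin r // r ≤ (i : ℕ)} =>
      (MvPolynomial.X (i : Fin r) : MvPolynomial (Fin r) A)) = ∅ := by
    rw [Set.range_eq_empty_iff]
    exact ⟨fun i => absurd i.1.2 (not_lt.mpr i.2)⟩
  rw [hempty, Ideal.span_empty, sup_bot_eq] at hcomap
  have hprim : ∀ P : MvPolynomial (Fin r) A, ψ P ∈ q₀ → ∀ β, P.coeff β ∈ m := by
    intro P hP
    have h1 : P ∈ q₀.comap (MvPolynomial.aeval (R := A) a).toRingHom := hP
    rw [hcomap] at h1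
    exact MvPolynomial.mem_map_C_iff.mp h1
  -- the monomials
  let φ : C →ₐ[A] B := IsScalarTower.toAlgHom A C B
  let v : ULift.{u} (Fin r →₀ ℕ) → B :=
    fun β => φ (ψ (MvPolynomial.monomial β.down 1))
  have hv : LinearIndependent A v := by
    apply Module.IsLocalRing.linearIndependent_of_flat
    rw [linearIndependent_iff']
    intro s g hg i hi
    choose c hc using fun j => IsLocalRing.residue_surjective (g j)
    set P : MvPolynomial (Fin r) A := ∑ j ∈ s, MvPolynomial.monomial j.down (c j) with hP
    have h1 : TensorProduct.mk A (A ⧸ m) B 1 (φ (ψ P)) = 0 := by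
      refine Eq.trans ?_ hg
      rw [hP, map_sum, map_sum, map_sum]
      apply Finset.sum_congr rfl
      intro j hj
      have e1 : MvPolynomial.monomial j.down (c j) =
          c j • MvPolynomial.monomial j.down (1 : A) := by
        rw [MvPolynomial.smul_monomial, smul_eq_mul, mul_one]
      rw [e1, map_smul, map_smul, map_smul, ← hc j]
      exact (algebraMap_smul (A ⧸ m) (c j) _).symm
    have h2 : algebraMap C B (ψ P) ∈ m.map (algebraMap A B) := by
      have h3 : φ (ψ P) ∈ LinearMap.ker (TensorProduct.mk A (A ⧸ m) B 1) := h1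
      rw [LinearMap.ker_tensorProductMk, Ideal.smul_top_eq_map] at h3
      exact h3
    have h3 := hprim P (H _ h2) i.down
    have h4 : P.coeff i.down = c i := by
      rw [hP, MvPolynomial.coeff_sum]
      simp only [MvPolynomial.coeff_monomial]
      rw [Finset.sum_eq_single i]
      · simp
      · intro j hj hne
        rw [if_neg]
        intro h
        exact hne (ULift.down_injective h)
      · intro h
        exact absurd hi h
    rw [h4] at h3
    rw [← hc i]
    exact (IsLocalRing.residue_eq_zero_iff _).mpr h3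
  -- conclude
  have hv' : LinearIndependent A (fun β : Fin r →₀ ℕ => v ⟨β⟩) :=
    hv.comp (fun β => (⟨β⟩ : ULift.{u} (Fin r →₀ ℕ))) ULift.up_injective
  rw [algebraicIndependent_iff_injective_aeval]
  have hcomp : (MvPolynomial.aeval (R := A) fun i => algebraMap C B (a i)) = φ.comp ψ := by
    apply MvPolynomial.algHom_ext
    intro i
    simp [φ, hψ]
  rw [hcomp]
  have hconstr : (φ.comp ψ).toLinearMap =
      (MvPolynomial.basisMonomials (Fin r) A).constr A (fun β : Fin r →₀ ℕ => v ⟨β⟩) := by
    apply (MvPolynomial.basisMonomials (Fin r) A).ext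
    intro β
    rw [Module.Basis.constr_basis]
    simp [v]
  have hinj := (MvPolynomial.basisMonomials (Fin r) A).injective_constr_of_linearIndependent
    (R₂ := A) hv'
  rw [← hconstr] at hinj
  exact hinj

end flat

end Groth.Agent.Lib.helper3.FlatFibDim
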