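import Mathlib
import Groth.Agent.Lib.Helper3.FlatFibDim1
import Groth.Agent.Lib.Helper3.DimIneqGen
import Groth.Agent.Lib.Helper3.DimIneqLoc
/-!
# Dimension of the closed fibre of a flat local homomorphism, essentially of finite type (helper3)

* `td_quotientMap_bot` : `td` at the zero ideal of a domain is the transcendence degree;
* `core` : `A` a local domain, `C` a finite type `A`-algebra and a domain containing `A`, `q` a prime
  of `C` over the maximal ideal with `C_q` flat over `A`:
  `ht(q/𝔪C) + trdeg (κ(q)/κ(𝔪)) = trdeg_A C`;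
* `main` : `A → B` an injective flat local homomorphism of local domains, essentially of finite
  type: `dim (B/𝔪B) + trdeg (κ(B)/κ(A)) = trdeg_A B`.
-/

set_option autoImplicit false
set_option linter.style.haveILetI false
set_option linter.unusedSectionVars false
universe u
open Function

namespace Groth.Agent.Lib.helper3.FlatFibDim

open Groth.Agent.Lib.helper3.DimIneq Groth.Agent.Lib.helper3.FTField
  Groth.Agent.Lib.helper3.FibreParam Groth.Agent.Lib.helper3.ValFlatDim

theorem trdeg_quotient_congr (k : Type u) [CommRing k] {F : Type u} [CommRing F] [Algebra k F]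
    {I J : Ideal F} (h : I = J) : Algebra.trdeg k (F ⧸ I) = Algebra.trdeg k (F ⧸ J) := by
  subst h; rfl

/-- `td` at the zero ideal of a domain. -/
theorem td_quotientMap_bot {A C : Type u} [CommRing A] [CommRing C] [IsDomain C] [Algebra A C]
    [FaithfulSMul A C] :
    td (Ideal.quotientMap (⊥ : Ideal C) (algebraMap A C) le_rfl) = Algebra.trdeg A C := by
  haveI : IsDomain (C ⧸ (⊥ : Ideal C)) := Ideal.Quotient.isDomain ⊥
  have hinj : Injective (algebraMap A C) := FaithfulSMul.algebraMap_injective A C
  haveI : Nontrivial A := RingHom.domain_nontrivial (algebraMap A C)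
  rw [← td_algebraMap]
  symm
  refine td_eq_of_square (algebraMap A C) (Ideal.Quotient.mk (⊥ : Ideal C))
    (Ideal.Quotient.mk ((⊥ : Ideal C).comap (algebraMap A C)))
    (Ideal.quotientMap (⊥ : Ideal C) (algebraMap A C) le_rfl) ?_ hinj ?_ ?_ ?_ ?_ ?_
  · ext a; rfl
  · rw [RingHom.injective_iff_ker_eq_bot, Ideal.mk_ker]
  · rw [RingHom.injective_iff_ker_eq_bot, Ideal.mk_ker]
    exact Ideal.comap_bot_of_injective _ hinj
  · exact Ideal.quotientMap_injective
  · exact isAlgebraic_of_surjective _ Ideal.Quotient.mk_surjective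
  · exact isAlgebraic_of_surjective _ Ideal.Quotient.mk_surjective

/-- **Core.** -/
theorem core {A C B : Type u} [CommRing A] [IsDomain A] [IsLocalRing A] [CommRing C] [IsDomain C]
    [CommRing B] [Algebra A C] [Algebra.FiniteType A C] [FaithfulSMul A C]
    [Algebra C B] [Algebra A B] [IsScalarTower A C B] [Module.Flat A B]
    (q : Ideal C) [q.IsPrime] [IsLocalization.AtPrime B q]
    (hq : q.comap (algebraMap A C) = IsLocalRing.maximalIdeal A) :
    ∃ d e : ℕ,
      (q.map (Ideal.Quotient.mk ((IsLocalRing.maximalIdeal A).map (algebraMap A C)))).height = d ∧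
      td (Ideal.quotientMap q (algebraMap A C) le_rfl) = e ∧
      Algebra.trdeg A C = ((d + e : ℕ) : Cardinal.{u}) := by
  set m := IsLocalRing.maximalIdeal A with hm
  set mC := m.map (algebraMap A C) with hmC
  letI : Field (A ⧸ m) := Ideal.Quotient.field m
  haveI : Algebra.FiniteType A (C ⧸ mC) := inferInstance
  haveI : Algebra.FiniteType (A ⧸ m) (C ⧸ mC) :=
    Algebra.FiniteType.of_restrictScalars_finiteType A (A ⧸ m) (C ⧸ mC)
  have hle : mC ≤ q := by rw [hmC, Ideal.map_le_iff_le_comap, hq]
  haveI hQp := map_mk_isPrime mC q hle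
  obtain ⟨d, e, hd, he, hub, Q₀, hQ₀p, hQ₀le, hQ₀td⟩ :=
    exists_height_trdeg (A ⧸ m) (q.map (Ideal.Quotient.mk mC))
  refine ⟨d, e, hd, ?_, ?_⟩
  · rw [td_eq_trdeg_quotient_quotient m q hq]; exact he
  apply le_antisymm
  · -- Chevalley
    have H : ∀ q' : Ideal C, q'.IsPrime → q' ≤ q →
        q'.comap (algebraMap A C) = q.comap (algebraMap A C) →
        td (Ideal.quotientMap q' (algebraMap A C) le_rfl) ≤ ((d + e : ℕ) : Cardinal.{u}) := by
      intro q' hq'p hq'le hq'c
      have hq'm : q'.comap (algebraMap A C) = m := hq'c.trans hq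
      have hle' : mC ≤ q' := by rw [hmC, Ideal.map_le_iff_le_comap, hq'm]
      rw [td_eq_trdeg_quotient_quotient m q' hq'm]
      exact hub _ (map_mk_isPrime mC q' hle') (Ideal.map_mono hq'le)
    obtain ⟨r, hr, Hr⟩ := exists_notMem_forall_td_le q (d + e) H
    have hr0 : r ∉ (⊥ : Ideal C) := by
      intro h0
      rw [Ideal.mem_bot] at h0
      exact hr (h0 ▸ q.zero_mem)
    have := Hr ⊥ hr0
    rwa [td_quotientMap_bot] at this
  · -- flatness
    set q₀ := Q₀.comap (Ideal.Quotient.mk mC) with hq₀def
    haveI : q₀.IsPrime := Ideal.comap_isPrime _ _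
    have hq₀le : q₀ ≤ q := by
      have := Ideal.comap_mono (f := Ideal.Quotient.mk mC) hQ₀le
      rwa [comap_map_mk mC q hle] at this
    have hmCq₀ : mC ≤ q₀ := by
      intro x hx
      rw [hq₀def, Ideal.mem_comap, Ideal.Quotient.eq_zero_iff_mem.mpr hx]
      exact Q₀.zero_mem
    have hq₀ : q₀.comap (algebraMap A C) = m := by
      symm
      apply (IsLocalRing.maximalIdeal.isMaximal A).eq_of_le
      · exact Ideal.IsPrime.ne_top (Ideal.comap_isPrime _ _)
      · exact Ideal.map_le_iff_le_comap.mp hmCq₀
    have hmap : q₀.map (Ideal.Quotient.mk mC) = Q₀ :=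
      Ideal.map_comap_of_surjective _ Ideal.Quotient.mk_surjective Q₀
    have htd : td (Ideal.quotientMap q₀ (algebraMap A C) le_rfl) = ((d + e : ℕ) : Cardinal.{u}) := by
      rw [td_eq_trdeg_quotient_quotient m q₀ hq₀, trdeg_quotient_congr (A ⧸ m) hmap]
      exact hQ₀td
    obtain ⟨a, ha⟩ := exists_algebraicIndependent_lift q₀ (d + e) htd
    have HH : ∀ c : C, algebraMap C B c ∈ m.map (algebraMap A B) → c ∈ q₀ := by
      intro c hc
      have e1 : m.map (algebraMap A B) = mC.map (algebraMap C B) := by
        rw [hmC, Ideal.map_map, ← IsScalarTower.algebraMap_eq]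
      rw [e1, IsLocalization.mem_map_algebraMap_iff q.primeCompl B] at hc
      obtain ⟨⟨i, s⟩, his⟩ := hc
      rw [← map_mul, IsLocalization.eq_iff_exists q.primeCompl B] at his
      obtain ⟨t, ht⟩ := his
      have h1 : (t : C) * (c * (s : C)) ∈ q₀ := by
        rw [ht]
        exact q₀.mul_mem_left _ (hmCq₀ i.2)
      have hnot : ∀ u : q.primeCompl, (u : C) ∉ q₀ := fun u hu => u.2 (hq₀le hu)
      have h2 := (Ideal.IsPrime.mem_or_mem inferInstance h1).resolve_left (hnot t)
      exact (Ideal.IsPrime.mem_or_mem inferInstance h2).resolve_right (hnot s)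
    have hind := algebraicIndependent_of_flat (B := B) q₀ hq₀ HH (d + e) a ha
    have hind' : AlgebraicIndependent A a :=
      AlgebraicIndependent.of_comp (IsScalarTower.toAlgHom A C B) hind
    haveI : Nontrivial A := inferInstance
    have h3 := hind'.lift_cardinalMk_le_trdeg
    simpa using h3

/-- **Main.** `A → B` an injective flat local homomorphism of local domains, essentially of finite
type: `dim (B/𝔪B) + trdeg (κ(B)/κ(A)) = trdeg_A B`. -/
theorem main {A B : Type u} [CommRing A] [CommRing B] [IsDomain A] [IsDomain B] [IsLocalRing A]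
    [IsLocalRing B] [Algebra A B] [IsLocalHom (algebraMap A B)] [FaithfulSMul A B]
    [Algebra.EssFiniteType A B] [Module.Flat A B] :
    ∃ d e : ℕ,
      ringKrullDim (B ⧸ Ideal.map (algebraMap A B) (IsLocalRing.maximalIdeal A)) = d ∧
      Algebra.trdeg (IsLocalRing.ResidueField A) (IsLocalRing.ResidueField B) = e ∧
      Algebra.trdeg A B = (d + e : ℕ) := by
  let C := Algebra.EssFiniteType.subalgebra A B
  set m := IsLocalRing.maximalIdeal A with hm
  set n := IsLocalRing.maximalIdeal B with hn
  have hinjAB : Injective (algebraMap A B) := FaithfulSMul.algebraMap_injective A B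
  have hinjAC : Injective (algebraMap A C) := by
    intro x y hxy
    apply hinjAB
    rw [IsScalarTower.algebraMap_apply A C B, IsScalarTower.algebraMap_apply A C B, hxy]
  haveI : FaithfulSMul A C := (faithfulSMul_iff_algebraMap_injective A C).mpr hinjAC
  set q : Ideal C := n.comap (algebraMap C B) with hq
  haveI : q.IsPrime := Ideal.comap_isPrime _ _
  have hsub : Algebra.EssFiniteType.submonoid A B = q.primeCompl := by
    ext c
    change IsUnit (algebraMap C B c) ↔ ¬ (algebraMap C B c ∈ n)
    rw [hn, IsLocalRing.mem_maximalIdeal, mem_nonunits_iff, not_not]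
  haveI : IsLocalization.AtPrime B q := by
    have h1 : IsLocalization (Algebra.EssFiniteType.submonoid A B) B := inferInstance
    rw [hsub] at h1
    exact h1
  have hqm : q.comap (algebraMap A C) = m := by
    rw [hq, Ideal.comap_comap, ← IsScalarTower.algebraMap_eq, hn, hm]
    exact IsLocalRing.maximalIdeal_comap (algebraMap A B)
  obtain ⟨d, e, hd, he, htr⟩ := core (B := B) q hqm
  set mC := m.map (algebraMap A C) with hmC
  have hle : mC ≤ q := by rw [hmC, Ideal.map_le_iff_le_comap, hqm]
  refine ⟨d, e, ?_, ?_, ?_⟩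
  · have e1 : m.map (algebraMap A B) = mC.map (algebraMap C B) := by
      rw [hmC, Ideal.map_map, ← IsScalarTower.algebraMap_eq]
    rw [ringKrullDim_quotient_congr e1, ringKrullDim_quotient_map_eq_height q mC hle, hd]
    rfl
  · rw [← he, ← td_algebraMap]
    symm
    refine td_eq_of_square (Ideal.quotientMap q (algebraMap A C) le_rfl)
      (Ideal.quotientMap n (algebraMap C B) le_rfl)
      (Ideal.quotientMap m (RingHom.id A) (le_of_eq hqm))
      (algebraMap (IsLocalRing.ResidueField A) (IsLocalRing.ResidueField B)) ?_ ?_ ?_ ?_ ?_ ?_ ?_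
    · apply Ideal.Quotient.ringHom_ext
      ext a
      change Ideal.Quotient.mk n (algebraMap C B (algebraMap A C a)) =
        Ideal.Quotient.mk n (algebraMap A B a)
      rw [← IsScalarTower.algebraMap_apply]
    · exact Ideal.quotientMap_injective
    · exact Ideal.quotientMap_injective
    · exact Ideal.quotientMap_injective' (le_of_eq hqm.symm)
    · exact (algebraMap (IsLocalRing.ResidueField A) (IsLocalRing.ResidueField B)).injective
    · exact isAlgebraic_quotientMap_of_isLocalization q.primeCompl n q le_rfl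
    · apply isAlgebraic_of_surjective
      exact Ideal.quotientMap_surjective (fun x => ⟨x, rfl⟩)
  · rw [← htr, ← td_algebraMap, ← td_algebraMap]
    symm
    haveI : Algebra.IsAlgebraic C B := IsLocalization.isAlgebraic B q.primeCompl
    refine td_eq_of_square (algebraMap A C) (algebraMap C B) (RingHom.id A) (algebraMap A B)
      ?_ hinjAC ?_ injective_id hinjAB ?_ ?_
    · ext a
      simp [← IsScalarTower.algebraMap_apply]
    · have hM : q.primeCompl ≤ nonZeroDivisors C := by
        intro x hx
        exact mem_nonZeroDivisors_of_ne_zero (fun h0 => hx (h0 ▸ q.zero_mem))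
      exact IsLocalization.injective B hM
    · exact isAlgebraic_toAlgebra_algebraMap
    · exact isAlgebraic_of_surjective _ surjective_id

end Groth.Agent.Lib.helper3.FlatFibDim
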