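import Mathlib
import Groth.Agent.Lib.Helper3.PruferDimFn

/-!
# The dimension function of a finite type algebra over a Prüfer domain, II (helper3)

* `covBy_bot_iff_td` : in the generic fibre of an injective finite type map of domains, a nonzero
  prime `Q` over `(0)` covers `(0)` iff `trdeg` drops by exactly one;
* heights of primes in a Prüfer domain.
-/

set_option autoImplicit false
universe u
open Function

namespace Groth.Agent.Lib.helper3.PruferDimFn

open Groth.Agent.Lib.helper3 Groth.Agent.Lib.helper3.DimIneq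

theorem covBy_bot_iff_td {A B : Type u} [CommRing A] [CommRing B] [IsDomain A] [IsDomain B]
    (φ : A →+* B) (hinj : Injective φ) (hφ : φ.FiniteType) (Q : Ideal B) [Q.IsPrime] (hQ : Q ≠ ⊥)
    (hQA : Q.comap φ = ⊥) :
    (∀ P' : Ideal B, P'.IsPrime → P' ≤ Q → P' = ⊥ ∨ P' = Q) ↔
      td φ = td ((Ideal.Quotient.mk Q).comp φ) + 1 := by
  let M := nonZeroDivisors A
  let K := FractionRing A
  let BK := Localization (M.map φ)
  have hM : M.map φ ≤ nonZeroDivisors B := by
    rintro _ ⟨a, ha, rfl⟩
    exact mem_nonZeroDivisors_of_ne_zero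
      ((map_ne_zero_iff _ hinj).mpr (nonZeroDivisors.ne_zero ha))
  haveI : IsDomain BK := IsLocalization.isDomain_localization hM
  let ψ : K →+* BK := IsLocalization.map BK φ (Submonoid.le_comap_map M)
  have hψft : ψ.FiniteType := RingHom.finiteType_localizationPreserves φ M K BK hφ
  have hsq : (algebraMap B BK).comp φ = ψ.comp (algebraMap A K) := (IsLocalization.map_comp _).symm
  have htd : td φ = td ψ := by
    refine td_eq_of_square φ (algebraMap B BK) (algebraMap A K) ψ hsq hinj
      (IsLocalization.injective BK hM) (IsFractionRing.injective A K) ψ.injective ?_ ?_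
    · haveI : Algebra.IsAlgebraic B BK := IsLocalization.isAlgebraic BK (M.map φ)
      exact isAlgebraic_toAlgebra_algebraMap
    · haveI : Algebra.IsAlgebraic A K := IsLocalization.isAlgebraic K M
      exact isAlgebraic_toAlgebra_algebraMap
  have hdisj' : ∀ P' : Ideal B, P' ≤ Q → Disjoint ((M.map φ : Submonoid B) : Set B) (P' : Set B) := by
    intro P' hP'
    rw [Set.disjoint_left]
    rintro _ ⟨a, ha, rfl⟩ haQ
    have : a ∈ Q.comap φ := hP' haQ
    rw [hQA, Ideal.mem_bot] at this
    exact nonZeroDivisors.ne_zero ha this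
  have hdisj := hdisj' Q le_rfl
  set QK : Ideal BK := Q.map (algebraMap B BK) with hQK
  haveI hQKp : QK.IsPrime := IsLocalization.isPrime_of_isPrime_disjoint (M.map φ) BK Q inferInstance hdisj
  have hcomap : QK.comap (algebraMap B BK) = Q :=
    IsLocalization.under_map_of_isPrime_disjoint (M.map φ) BK inferInstance hdisj
  have hQKne : QK ≠ ⊥ := by
    intro h0
    rw [h0, ← RingHom.ker_eq_comap_bot,
      (RingHom.injective_iff_ker_eq_bot _).mp (IsLocalization.injective BK hM)] at hcomap
    exact hQ hcomap.symm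
  haveI : IsDomain (BK ⧸ QK) := Ideal.Quotient.isDomain QK
  haveI : IsDomain (B ⧸ Q) := Ideal.Quotient.isDomain Q
  have hβ : ∀ b : B, algebraMap (B ⧸ Q) (BK ⧸ QK) (Ideal.Quotient.mk Q b) =
      Ideal.Quotient.mk QK (algebraMap B BK b) := fun b => rfl
  have htd2 : td ((Ideal.Quotient.mk Q).comp φ) = td ((Ideal.Quotient.mk QK).comp ψ) := by
    refine td_eq_of_square ((Ideal.Quotient.mk Q).comp φ) (algebraMap (B ⧸ Q) (BK ⧸ QK))
      (algebraMap A K) ((Ideal.Quotient.mk QK).comp ψ) ?_ ?_ ?_ (IsFractionRing.injective A K)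
      (RingHom.injective _) ?_ ?_
    · ext a
      have := congrArg (fun f => Ideal.Quotient.mk QK (f a)) hsq
      simp only [RingHom.comp_apply] at this ⊢
      rw [hβ]
      exact this
    · rw [RingHom.injective_iff_ker_eq_bot, ← RingHom.comap_ker, Ideal.mk_ker]
      exact hQA
    · rw [RingHom.injective_iff_ker_eq_bot, eq_bot_iff]
      intro z hz
      obtain ⟨b, rfl⟩ := Ideal.Quotient.mk_surjective z
      rw [RingHom.mem_ker] at hz
      have h1 : Ideal.Quotient.mk QK (algebraMap B BK b) = 0 := by
        rw [← hβ]; exact hz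
      rw [Ideal.Quotient.eq_zero_iff_mem] at h1
      have h2 : b ∈ QK.comap (algebraMap B BK) := h1
      rw [hcomap] at h2
      rw [Ideal.mem_bot, Ideal.Quotient.eq_zero_iff_mem]
      exact h2
    · haveI : Algebra.IsAlgebraic (B ⧸ Q) (BK ⧸ QK) :=
        IsLocalization.isAlgebraic (BK ⧸ QK) (Algebra.algebraMapSubmonoid (B ⧸ Q) (M.map φ))
      exact isAlgebraic_toAlgebra_algebraMap
    · haveI : Algebra.IsAlgebraic A K := IsLocalization.isAlgebraic K M
      exact isAlgebraic_toAlgebra_algebraMap
  rw [htd, htd2]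
  letI := ψ.toAlgebra
  haveI : Algebra.FiniteType K BK := hψft
  have key := Groth.Agent.Lib.helper26.DimFormula.height_add_trdeg_quotient K BK QK
  obtain ⟨n, hn⟩ := Groth.Agent.Lib.helper26.DimFormula.exists_nat_trdeg K BK
  obtain ⟨n', hn'⟩ := Groth.Agent.Lib.helper26.DimFormula.exists_nat_trdeg K (BK ⧸ QK)
  have h1 : td ψ = n := by rw [← hn, ← td_algebraMap]
  have h2 : td ((Ideal.Quotient.mk QK).comp ψ) = n' := by rw [← hn', ← td_algebraMap]
  rw [h1, h2]
  rw [hn, hn'] at key
  have hpos : 1 ≤ QK.height := by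
    rw [Order.one_le_iff_ne_zero, Ne, Ideal.height_eq_zero_iff_eq_bot]
    exact hQKne
  have hfin : QK.height ≠ ⊤ := by
    haveI : IsNoetherianRing BK := Algebra.FiniteType.isNoetherianRing K BK
    exact Ideal.height_ne_top_of_isPrime
  obtain ⟨h, hh⟩ := ENat.ne_top_iff_exists.mp hfin
  rw [← hh] at key hpos
  have hpos' : 1 ≤ h := by exact_mod_cast hpos
  have key' : h + n' = n := by
    have : ((h + n' : ℕ) : Cardinal.{u}) = (n : Cardinal.{u}) := by
      rw [← key]; simp
    exact_mod_cast this
  -- covering iff height one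
  have hcov : (∀ P' : Ideal B, P'.IsPrime → P' ≤ Q → P' = ⊥ ∨ P' = Q) ↔ h = 1 := by
    constructor
    · intro hc
      have hle : QK.height ≤ ((1 : ℕ) : ℕ∞) := by
        rw [Ideal.height_le_iff]
        intro J hJ hJQ
        haveI := hJ
        have hJ' : J.comap (algebraMap B BK) ≤ Q := by
          rw [← hcomap]; exact Ideal.comap_mono hJQ.le
        rcases hc _ (Ideal.comap_isPrime _ _) hJ' with h0 | h0
        · have : J = ⊥ := by
            rw [← IsLocalization.map_under (M.map φ) BK J]
            change Ideal.map (algebraMap B BK) (Ideal.comap (algebraMap B BK) J) = ⊥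
            rw [h0, Ideal.map_bot]
          rw [this, Ideal.height_bot]
          exact_mod_cast Nat.zero_lt_one
        · exfalso
          have : J = QK := by
            rw [← IsLocalization.map_under (M.map φ) BK J]
            change Ideal.map (algebraMap B BK) (Ideal.comap (algebraMap B BK) J) = QK
            rw [h0]
          exact hJQ.ne this
      rw [← hh] at hle
      have : h ≤ 1 := by exact_mod_cast hle
      omega
    · intro h1' P' hP' hP'Q
      haveI := hP'
      by_contra hcon
      push Not at hcon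
      obtain ⟨hne0, hneQ⟩ := hcon
      have hd := hdisj' P' hP'Q
      set PK : Ideal BK := P'.map (algebraMap B BK) with hPK
      haveI hPKp : PK.IsPrime :=
        IsLocalization.isPrime_of_isPrime_disjoint (M.map φ) BK P' inferInstance hd
      have hPc : PK.comap (algebraMap B BK) = P' :=
        IsLocalization.under_map_of_isPrime_disjoint (M.map φ) BK inferInstance hd
      have hPKne : PK ≠ ⊥ := by
        intro h0
        rw [h0, ← RingHom.ker_eq_comap_bot,
          (RingHom.injective_iff_ker_eq_bot _).mp (IsLocalization.injective BK hM)] at hPc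
        exact hne0 hPc.symm
      have hPKQ : PK < QK := by
        refine lt_of_le_of_ne (Ideal.map_mono hP'Q) (fun he => hneQ ?_)
        rw [← hPc, he, hcomap]
      have h3 := Ideal.height_add_one_le_of_lt_of_isPrime hPKQ
      rw [← hh, h1'] at h3
      have h4 : PK.height = 0 := by
        have : PK.height + 1 ≤ 0 + 1 := by simpa using h3
        have := (ENat.add_le_add_iff_right (by simp : (1 : ℕ∞) ≠ ⊤)).mp this
        exact le_antisymm this bot_le
      rw [Ideal.height_eq_zero_iff_eq_bot] at h4
      exact hPKne h4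
  rw [hcov]
  constructor
  · intro h1'
    subst h1'
    rw [← key']
    push_cast
    ring
  · intro hnn
    have : n = n' + 1 := by exact_mod_cast hnn
    omega

/-- in a fibre of a finite type ring map, `Q` covers `P` iff `trdeg` drops by exactly one. -/
theorem covBy_iff_td_of_same_fibre {A B : Type u} [CommRing A] [CommRing B] (φ : A →+* B)
    (hφ : φ.FiniteType) (P Q : Ideal B) [P.IsPrime] [Q.IsPrime] (hlt : P < Q)
    (hp : P.comap φ = Q.comap φ) :
    (∀ P' : Ideal B, P'.IsPrime → P ≤ P' → P' ≤ Q → P' = P ∨ P' = Q) ↔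
      td (Ideal.quotientMap P φ le_rfl) = td (Ideal.quotientMap Q φ le_rfl) + 1 := by
  haveI : IsDomain (B ⧸ P) := Ideal.Quotient.isDomain P
  haveI : IsDomain (A ⧸ P.comap φ) := Ideal.Quotient.isDomain _
  have hsurj : Surjective (Ideal.Quotient.mk P) := Ideal.Quotient.mk_surjective
  set φ1 := Ideal.quotientMap P φ le_rfl with hφ1
  have hφ1inj : Injective φ1 := Ideal.quotientMap_injective
  have hφ1ft : φ1.FiniteType := by
    have h1 : (φ1.comp (Ideal.Quotient.mk (P.comap φ))).FiniteType := by
      have : φ1.comp (Ideal.Quotient.mk (P.comap φ)) = (Ideal.Quotient.mk P).comp φ := by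
        ext a; rfl
      rw [this]
      exact (RingHom.FiniteType.of_surjective _ Ideal.Quotient.mk_surjective).comp hφ
    exact RingHom.FiniteType.of_comp_finiteType h1
  set Qb : Ideal (B ⧸ P) := Q.map (Ideal.Quotient.mk P) with hQbdef
  haveI hQp : Qb.IsPrime := by
    apply Ideal.map_isPrime_of_surjective hsurj
    rw [Ideal.mk_ker]; exact hlt.le
  have hQc : Qb.comap (Ideal.Quotient.mk P) = Q := by
    rw [hQbdef, Ideal.comap_map_of_surjective _ hsurj, ← RingHom.ker_eq_comap_bot, Ideal.mk_ker]
    exact sup_eq_left.mpr hlt.le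
  have hbotc : (⊥ : Ideal (B ⧸ P)).comap (Ideal.Quotient.mk P) = P := by
    rw [← RingHom.ker_eq_comap_bot, Ideal.mk_ker]
  have hQne : Qb ≠ ⊥ := by
    intro h0
    rw [h0, hbotc] at hQc
    exact hlt.ne hQc
  have hQA : Qb.comap φ1 = ⊥ := by
    rw [eq_bot_iff]
    intro z hz
    obtain ⟨a, rfl⟩ := Ideal.Quotient.mk_surjective z
    have h1 : Ideal.Quotient.mk P (φ a) ∈ Qb := hz
    have h2 : φ a ∈ Qb.comap (Ideal.Quotient.mk P) := h1
    rw [hQc] at h2
    have h3 : a ∈ Q.comap φ := h2
    rw [← hp] at h3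
    rw [Ideal.mem_bot, Ideal.Quotient.eq_zero_iff_mem]
    exact h3
  have key := covBy_bot_iff_td φ1 hφ1inj hφ1ft Qb hQne hQA
  have htdQ : td (Ideal.quotientMap Q φ le_rfl) = td ((Ideal.Quotient.mk Qb).comp φ1) := by
    haveI : IsDomain ((B ⧸ P) ⧸ Qb) := Ideal.Quotient.isDomain Qb
    haveI : Nontrivial (A ⧸ Q.comap φ) :=
      Ideal.Quotient.nontrivial_iff.mpr (Ideal.IsPrime.ne_top inferInstance)
    haveI : Nontrivial (B ⧸ Q) :=
      Ideal.Quotient.nontrivial_iff.mpr (Ideal.IsPrime.ne_top inferInstance)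
    refine td_eq_of_square (Ideal.quotientMap Q φ le_rfl)
      (Ideal.quotientMap Qb (Ideal.Quotient.mk P) (le_of_eq hQc.symm))
      (Ideal.quotientMap (P.comap φ) (RingHom.id A) (le_of_eq hp.symm))
      ((Ideal.Quotient.mk Qb).comp φ1) ?_ Ideal.quotientMap_injective ?_ ?_ ?_ ?_ ?_
    · ext a; rfl
    · exact Ideal.quotientMap_injective' (le_of_eq hQc)
    · exact Ideal.quotientMap_injective' (le_of_eq hp)
    · rw [RingHom.injective_iff_ker_eq_bot, ← RingHom.comap_ker, Ideal.mk_ker]
      exact hQA
    · apply isAlgebraic_of_surjective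
      exact Ideal.quotientMap_surjective hsurj
    · apply isAlgebraic_of_surjective
      exact Ideal.quotientMap_surjective surjective_id
  rw [htdQ, ← key]
  constructor
  · intro hc Pb hPb hPbQ
    haveI := hPb
    have h1 : P ≤ Pb.comap (Ideal.Quotient.mk P) :=
      le_of_eq_of_le hbotc.symm (Ideal.comap_mono bot_le)
    have h2 : Pb.comap (Ideal.Quotient.mk P) ≤ Q := by
      rw [← hQc]; exact Ideal.comap_mono hPbQ
    rcases hc _ (Ideal.comap_isPrime _ _) h1 h2 with h | h
    · left
      rw [← Ideal.map_comap_of_surjective _ hsurj Pb, h, Ideal.map_quotient_self]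
    · right
      rw [← Ideal.map_comap_of_surjective _ hsurj Pb, h]
  · intro hc P' hP' hPP' hP'Q
    haveI := hP'
    have hP'c : (P'.map (Ideal.Quotient.mk P)).comap (Ideal.Quotient.mk P) = P' := by
      rw [Ideal.comap_map_of_surjective _ hsurj, ← RingHom.ker_eq_comap_bot, Ideal.mk_ker]
      exact sup_eq_left.mpr hPP'
    have hP'p : (P'.map (Ideal.Quotient.mk P)).IsPrime := by
      apply Ideal.map_isPrime_of_surjective hsurj
      rw [Ideal.mk_ker]; exact hPP'
    rcases hc _ hP'p (Ideal.map_mono hP'Q) with h | h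
    · left
      rw [← hP'c, h, hbotc]
    · right
      rw [← hP'c, h, hQc]

end Groth.Agent.Lib.helper3.PruferDimFn
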