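import Mathlib
import Groth.Agent.Lib.Helper3.PruferDimFn2

/-!
# The dimension function of a finite type algebra over a Prüfer domain, III (helper3; = S14735)
-/

set_option autoImplicit false
universe u
open Function

namespace Groth.Agent.Lib.helper3.PruferDimFn

open Groth.Agent.Lib.helper3 Groth.Agent.Lib.helper3.DimIneq

section heights

variable {R : Type u} [CommRing R] [IsDomain R]

theorem le_total_of_le
    (hR : ∀ (p : Ideal R) [p.IsPrime], ValuationRing (Localization.AtPrime p))
    (q p₁ p₂ : Ideal R) [q.IsPrime] [p₁.IsPrime] [p₂.IsPrime]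
    (h₁ : p₁ ≤ q) (h₂ : p₂ ≤ q) : p₁ ≤ p₂ ∨ p₂ ≤ p₁ := by
  haveI := hR q
  have hd : ∀ p : Ideal R, p ≤ q → Disjoint (q.primeCompl : Set R) (p : Set R) :=
    fun p hp => Set.disjoint_left.mpr (fun x hx hx' => hx (hp hx'))
  have hc : ∀ (p : Ideal R) [p.IsPrime], p ≤ q →
      (p.map (algebraMap R (Localization.AtPrime q))).comap
        (algebraMap R (Localization.AtPrime q)) = p :=
    fun p _ hp => IsLocalization.under_map_of_isPrime_disjoint q.primeCompl
      (Localization.AtPrime q) inferInstance (hd p hp)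
  rcases (ValuationRing.le_total_ideal (A := Localization.AtPrime q)).total
    (p₁.map (algebraMap R (Localization.AtPrime q)))
    (p₂.map (algebraMap R (Localization.AtPrime q))) with h | h
  · left
    rw [← hc p₁ h₁, ← hc p₂ h₂]
    exact Ideal.comap_mono h
  · right
    rw [← hc p₁ h₁, ← hc p₂ h₂]
    exact Ideal.comap_mono h

theorem height_ne_top_of_dim (hdim : ringKrullDim R < ⊤) (p : Ideal R) [p.IsPrime] :
    p.height ≠ ⊤ := by
  intro h
  have h1 := Ideal.height_le_ringKrullDim_of_isPrime (I := p)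
  rw [h] at h1
  exact absurd (lt_of_le_of_lt h1 hdim) (lt_irrefl _)

theorem height_eq_succ_of_covBy
    (hR : ∀ (p : Ideal R) [p.IsPrime], ValuationRing (Localization.AtPrime p))
    (hdim : ringKrullDim R < ⊤) (p q : Ideal R) [p.IsPrime] [q.IsPrime] (hpq : p < q)
    (hcov : ∀ p' : Ideal R, p'.IsPrime → p < p' → ¬ p' < q) : q.height = p.height + 1 := by
  apply le_antisymm ?_ (Ideal.height_add_one_le_of_lt_of_isPrime hpq)
  obtain ⟨n, hn⟩ := ENat.ne_top_iff_exists.mp (height_ne_top_of_dim hdim p)
  rw [← hn]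
  have : ((n : ℕ∞) + 1) = ((n + 1 : ℕ) : ℕ∞) := by push_cast; rfl
  rw [this, Ideal.height_le_iff]
  intro p'' hp'' hp''q
  haveI := hp''
  rcases le_total_of_le hR q p'' p hp''q.le hpq.le with h | h
  · have := Ideal.height_mono h
    rw [← hn] at this
    exact lt_of_le_of_lt this (by exact_mod_cast Nat.lt_succ_self n)
  · rcases eq_or_lt_of_le h with h' | h'
    · rw [← h', ← hn]
      exact_mod_cast Nat.lt_succ_self n
    · exact absurd hp''q (hcov p'' hp'' h')

end heights

section main

variable {R : Type u} [CommRing R] [IsDomain R] {S : Type u} [CommRing S] [Algebra R S]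

theorem exists_nat_td_quotientMap [Algebra.FiniteType R S] (q : Ideal S) [q.IsPrime] :
    ∃ n : ℕ, td (Ideal.quotientMap q (algebraMap R S) le_rfl) = n := by
  have hft : (algebraMap R S).FiniteType := RingHom.finiteType_algebraMap.mpr inferInstance
  have h1 : ((Ideal.quotientMap q (algebraMap R S) le_rfl).comp
      (Ideal.Quotient.mk (q.comap (algebraMap R S)))).FiniteType := by
    have : (Ideal.quotientMap q (algebraMap R S) le_rfl).comp
        (Ideal.Quotient.mk (q.comap (algebraMap R S))) =
        (Ideal.Quotient.mk q).comp (algebraMap R S) := by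
      ext a; rfl
    rw [this]
    exact (RingHom.FiniteType.of_surjective _ Ideal.Quotient.mk_surjective).comp hft
  have h2 : (Ideal.quotientMap q (algebraMap R S) le_rfl).FiniteType :=
    RingHom.FiniteType.of_comp_finiteType h1
  letI := (Ideal.quotientMap q (algebraMap R S) le_rfl).toAlgebra
  haveI : Algebra.FiniteType (R ⧸ q.comap (algebraMap R S)) (S ⧸ q) := h2
  haveI : IsDomain (R ⧸ q.comap (algebraMap R S)) := Ideal.Quotient.isDomain _
  exact Cardinal.lt_aleph0.mp (_root_.trdeg_lt_aleph0_of_finiteType)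

theorem trdeg_quotient_eq_td (Q : Ideal S) [Q.IsPrime] :
    Algebra.trdeg (R ⧸ Q.under R) (S ⧸ Q) =
      td (Ideal.quotientMap Q (algebraMap R S) le_rfl) := by
  unfold td
  congr 1

/-- the numerical core of the dimension function over a Prüfer domain. -/
theorem core
    (hR : ∀ (p : Ideal R) [p.IsPrime], ValuationRing (Localization.AtPrime p))
    (hdim : ringKrullDim R < ⊤) [Algebra.FiniteType R S]
    (P Q : Ideal S) [P.IsPrime] [Q.IsPrime] (hPQ : P < Q)
    (nP nQ hp hq : ℕ)
    (hnP : td (Ideal.quotientMap P (algebraMap R S) le_rfl) = nP)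
    (hnQ : td (Ideal.quotientMap Q (algebraMap R S) le_rfl) = nQ)
    (hhp : (P.comap (algebraMap R S)).height = hp)
    (hhq : (Q.comap (algebraMap R S)).height = hq) :
    ((nQ : ℤ) - hq < (nP : ℤ) - hp) ∧
      ((∀ P' : Ideal S, P'.IsPrime → P < P' → ¬ P' < Q) ↔ (nP : ℤ) - hp = (nQ : ℤ) - hq + 1) := by
  have hft : (algebraMap R S).FiniteType := RingHom.finiteType_algebraMap.mpr inferInstance
  have hle : nQ ≤ nP := by
    have := td_quotientMap_le_of_le hR P Q hPQ.le
    rw [hnP, hnQ] at this
    exact_mod_cast this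
  have hpq : P.comap (algebraMap R S) ≤ Q.comap (algebraMap R S) := Ideal.comap_mono hPQ.le
  -- strictness in a fibre
  have hstrict : ∀ (P₁ P₂ : Ideal S) [P₁.IsPrime] [P₂.IsPrime] (n₁ n₂ : ℕ),
      td (Ideal.quotientMap P₁ (algebraMap R S) le_rfl) = n₁ →
      td (Ideal.quotientMap P₂ (algebraMap R S) le_rfl) = n₂ → P₁ < P₂ →
      P₁.comap (algebraMap R S) = P₂.comap (algebraMap R S) → n₂ < n₁ := by
    intro P₁ P₂ _ _ n₁ n₂ h₁ h₂ hlt hc
    have := td_quotientMap_lt (algebraMap R S) hft P₁ P₂ hlt hc
    rw [h₁, h₂] at this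
    exact_mod_cast this
  rcases eq_or_lt_of_le hpq with heq | hlt
  · -- same fibre
    have hh : hp = hq := by
      have : (hp : ℕ∞) = hq := by rw [← hhp, ← hhq, heq]
      exact_mod_cast this
    have hs := hstrict P Q nP nQ hnP hnQ hPQ heq
    refine ⟨by omega, ?_⟩
    have key := covBy_iff_td_of_same_fibre (algebraMap R S) hft P Q hPQ heq
    rw [hnP, hnQ] at key
    have key' : (∀ P' : Ideal S, P'.IsPrime → P ≤ P' → P' ≤ Q → P' = P ∨ P' = Q) ↔
        nP = nQ + 1 := by
      rw [key]
      constructor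
      · intro h; exact_mod_cast h
      · intro h; exact_mod_cast h
    constructor
    · intro hc
      have : nP = nQ + 1 := by
        rw [← key']
        intro P' hP' h1 h2
        by_contra hcon
        push Not at hcon
        exact hc P' hP' (lt_of_le_of_ne h1 (Ne.symm hcon.1)) (lt_of_le_of_ne h2 hcon.2)
      omega
    · intro h P' hP' h1 h2
      have : nP = nQ + 1 := by omega
      rcases key'.mpr this P' hP' h1.le h2.le with h3 | h3
      · exact h1.ne h3.symm
      · exact h2.ne h3
  · -- different fibres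
    haveI : (P.comap (algebraMap R S)).IsPrime := Ideal.comap_isPrime _ _
    haveI : (Q.comap (algebraMap R S)).IsPrime := Ideal.comap_isPrime _ _
    have hh : hp < hq := by
      have h1 := Ideal.height_add_one_le_of_lt_of_isPrime hlt
      rw [hhp, hhq] at h1
      have : hp + 1 ≤ hq := by exact_mod_cast h1
      omega
    refine ⟨by omega, ?_⟩
    constructor
    · intro hc
      -- no prime strictly between the contractions
      have hcovR : ∀ p' : Ideal R, p'.IsPrime → P.comap (algebraMap R S) < p' →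
          ¬ p' < Q.comap (algebraMap R S) := by
        intro p' hp' h1 h2
        haveI := hp'
        obtain ⟨P', hP', hPP', hP'Q, hP'c⟩ := exists_between_liesOver hR P Q hPQ.le p' h1.le h2.le
        have hne1 : P ≠ P' := by
          intro h; rw [← h] at hP'c; exact h1.ne hP'c
        have hne2 : P' ≠ Q := by
          intro h; rw [h] at hP'c; exact h2.ne hP'c.symm
        exact hc P' hP' (lt_of_le_of_ne hPP' hne1) (lt_of_le_of_ne hP'Q hne2)
      have hht := height_eq_succ_of_covBy hR hdim _ _ hlt hcovR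
      rw [hhp, hhq] at hht
      have hht' : hq = hp + 1 := by exact_mod_cast hht
      -- equality of trdeg
      have hnn : nP = nQ := by
        by_contra hne
        have hmax : ∀ Q' : Ideal S, Q'.IsPrime → P ≤ Q' → Q' ≤ Q →
            Q'.comap (algebraMap R S) = Q.comap (algebraMap R S) → Q' = Q := by
          intro Q' hQ' h1 h2 h3
          by_contra hcon
          have hne1 : P ≠ Q' := by
            intro h; rw [← h] at h3; exact hlt.ne h3
          exact hc Q' hQ' (lt_of_le_of_ne h1 hne1) (lt_of_le_of_ne h2 hcon)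
        have := td_quotientMap_eq_of_maximal' hR P Q hPQ.le hmax
        rw [hnP, hnQ] at this
        exact hne (by exact_mod_cast this.symm)
      omega
    · intro h P' hP' h1 h2
      haveI := hP'
      have hnn : nP = nQ ∧ hq = hp + 1 := by omega
      obtain ⟨nP', hnP'⟩ := exists_nat_td_quotientMap (R := R) P'
      have hle1 : nP' ≤ nP := by
        have := td_quotientMap_le_of_le hR P P' h1.le
        rw [hnP, hnP'] at this
        exact_mod_cast this
      have hle2 : nQ ≤ nP' := by
        have := td_quotientMap_le_of_le hR P' Q h2.le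
        rw [hnP', hnQ] at this
        exact_mod_cast this
      have hc1 : P.comap (algebraMap R S) ≤ P'.comap (algebraMap R S) := Ideal.comap_mono h1.le
      have hc2 : P'.comap (algebraMap R S) ≤ Q.comap (algebraMap R S) := Ideal.comap_mono h2.le
      haveI : (P'.comap (algebraMap R S)).IsPrime := Ideal.comap_isPrime _ _
      rcases eq_or_lt_of_le hc1 with e1 | l1
      · have := hstrict P P' nP nP' hnP hnP' h1 e1
        omega
      · rcases eq_or_lt_of_le hc2 with e2 | l2
        · have := hstrict P' Q nP' nQ hnP' hnQ h2 e2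
          omega
        · obtain ⟨hp', hhp'⟩ := ENat.ne_top_iff_exists.mp
            (height_ne_top_of_dim hdim (P'.comap (algebraMap R S)))
          have a1 := Ideal.height_add_one_le_of_lt_of_isPrime l1
          have a2 := Ideal.height_add_one_le_of_lt_of_isPrime l2
          rw [hhp, ← hhp'] at a1
          rw [hhq, ← hhp'] at a2
          have a1' : hp + 1 ≤ hp' := by exact_mod_cast a1
          have a2' : hp' + 1 ≤ hq := by exact_mod_cast a2
          omega

/-- **S14735.** -/
theorem dimension_function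
    (hR : ∀ (p : Ideal R) [p.IsPrime], ValuationRing (Localization.AtPrime p))
    (hdim : ringKrullDim R < ⊤) [Algebra.FiniteType R S]
    (P Q : Ideal S) [P.IsPrime] [Q.IsPrime] (hPQ : P < Q) :
    ((Cardinal.toNat (Algebra.trdeg (R ⧸ Q.under R) (S ⧸ Q)) : ℤ) - ((Q.under R).height.toNat : ℤ)
        < (Cardinal.toNat (Algebra.trdeg (R ⧸ P.under R) (S ⧸ P)) : ℤ) - ((P.under R).height.toNat : ℤ)) ∧
      ((⟨P, inferInstance⟩ : PrimeSpectrum S) ⋖ ⟨Q, inferInstance⟩ ↔ (Cardinal.toNat (Algebra.trdeg (R ⧸ P.under R) (S ⧸ P)) : ℤ) - ((P.under R).height.toNat : ℤ)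
        = (Cardinal.toNat (Algebra.trdeg (R ⧸ Q.under R) (S ⧸ Q)) : ℤ) - ((Q.under R).height.toNat : ℤ) + 1) := by
  obtain ⟨nP, hnP⟩ := exists_nat_td_quotientMap (R := R) P
  obtain ⟨nQ, hnQ⟩ := exists_nat_td_quotientMap (R := R) Q
  haveI : (P.comap (algebraMap R S)).IsPrime := Ideal.comap_isPrime _ _
  haveI : (Q.comap (algebraMap R S)).IsPrime := Ideal.comap_isPrime _ _
  obtain ⟨hp, hhp⟩ := ENat.ne_top_iff_exists.mp
    (height_ne_top_of_dim hdim (P.comap (algebraMap R S)))
  obtain ⟨hq, hhq⟩ := ENat.ne_top_iff_exists.mp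
    (height_ne_top_of_dim hdim (Q.comap (algebraMap R S)))
  have h := core hR hdim P Q hPQ nP nQ hp hq hnP hnQ hhp.symm hhq.symm
  rw [trdeg_quotient_eq_td, trdeg_quotient_eq_td, hnP, hnQ]
  rw [Ideal.under_def, Ideal.under_def, ← hhp, ← hhq]
  simp only [Cardinal.toNat_natCast, ENat.toNat_natCast]
  refine ⟨h.1, ?_⟩
  rw [← h.2]
  constructor
  · intro hc P' hP' h1 h2
    exact hc.2 (c := ⟨P', hP'⟩) h1 h2
  · intro hc
    exact ⟨hPQ, fun c h1 h2 => hc c.asIdeal c.isPrime h1 h2⟩

end main

end Groth.Agent.Lib.helper3.PruferDimFn
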