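import Mathlib
import Groth.Agent.Lib.Helper3.FlatFibDim2
import Groth.Agent.Lib.Helper3.PruferDimFn3
/-!
# Horizontal primes through a hypersurface, Noetherian base (helper3; towards S1404)

* `td_quotientMap_quotient` : residue transcendence degrees of `R/𝔭 → S/P` at a prime `Q̄` are those
  of `R → S` at the preimage of `Q̄`;
* `exists_prime_horizontal_noeth` : `A` a Noetherian domain, `C ⊇ A` a domain of finite type of
  transcendence degree `n`, `q` a prime, `g ∈ q` such that all generizations of `q` in its fibre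
  containing `g` have residue transcendence degree `≤ n - 1`. Then there is a prime `P ∋ g` inside
  `q` with `P ∩ A = 0`.
-/

set_option autoImplicit false
set_option linter.style.haveILetI false
set_option linter.unusedSectionVars false
universe u
open Function

namespace Groth.Agent.Lib.helper3.HorizPrime

open Groth.Agent.Lib.helper3.DimIneq Groth.Agent.Lib.helper3.FTField
  Groth.Agent.Lib.helper3.FibreParam Groth.Agent.Lib.helper3.FlatFibDim
  Groth.Agent.Lib.helper3.PruferDimFn

section bridge

variable {R S : Type u} [CommRing R] [CommRing S] (φ : R →+* S) (P : Ideal S) [P.IsPrime]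

/-- residue transcendence degrees of `R/𝔭 → S/P`. -/
theorem td_quotientMap_quotient (Qb : Ideal (S ⧸ P)) [Qb.IsPrime] :
    td (Ideal.quotientMap Qb (Ideal.quotientMap P φ le_rfl) le_rfl) =
      td (Ideal.quotientMap (Qb.comap (Ideal.Quotient.mk P)) φ le_rfl) := by
  set φb := Ideal.quotientMap P φ le_rfl with hφb
  set Q := Qb.comap (Ideal.Quotient.mk P) with hQ
  haveI : Q.IsPrime := Ideal.comap_isPrime _ _
  haveI : IsDomain ((S ⧸ P) ⧸ Qb) := Ideal.Quotient.isDomain _
  have hcomm : φb.comp (Ideal.Quotient.mk (P.comap φ)) = (Ideal.Quotient.mk P).comp φ := by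
    ext a; rfl
  have hle : Q.comap φ ≤ (Qb.comap φb).comap (Ideal.Quotient.mk (P.comap φ)) := by
    intro a ha
    simp only [Ideal.mem_comap] at ha ⊢
    have := RingHom.congr_fun hcomm a
    simp only [RingHom.comp_apply] at this
    rw [this]
    exact ha
  have hge : (Qb.comap φb).comap (Ideal.Quotient.mk (P.comap φ)) ≤ Q.comap φ := by
    intro a ha
    simp only [Ideal.mem_comap] at ha ⊢
    have := RingHom.congr_fun hcomm a
    simp only [RingHom.comp_apply] at this
    rw [this] at ha
    exact ha
  symm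
  refine td_eq_of_square (Ideal.quotientMap Q φ le_rfl)
    (Ideal.quotientMap Qb (Ideal.Quotient.mk P) le_rfl)
    (Ideal.quotientMap (Qb.comap φb) (Ideal.Quotient.mk (P.comap φ)) hle)
    (Ideal.quotientMap Qb φb le_rfl) ?_ ?_ ?_ ?_ ?_ ?_ ?_
  · apply Ideal.Quotient.ringHom_ext
    ext a
    rfl
  · exact Ideal.quotientMap_injective
  · exact Ideal.quotientMap_injective
  · exact Ideal.quotientMap_injective' hge
  · exact Ideal.quotientMap_injective
  · apply isAlgebraic_of_surjective
    exact Ideal.quotientMap_surjective Ideal.Quotient.mk_surjective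
  · haveI : (Qb.comap φb).IsPrime := Ideal.comap_isPrime _ _
    haveI : (Q.comap φ).IsPrime := Ideal.comap_isPrime _ _
    haveI : Nontrivial (R ⧸ Q.comap φ) :=
      Ideal.Quotient.nontrivial_iff.mpr (Ideal.IsPrime.ne_top inferInstance)
    apply isAlgebraic_of_surjective
    exact Ideal.quotientMap_surjective Ideal.Quotient.mk_surjective

end bridge

/-- **Horizontal primes through a hypersurface, Noetherian base.** -/
theorem exists_prime_horizontal_noeth {A C : Type u} [CommRing A] [IsDomain A] [IsNoetherianRing A]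
    [CommRing C] [IsDomain C] [Algebra A C] [Algebra.FiniteType A C] [FaithfulSMul A C]
    (q : Ideal C) [q.IsPrime] (g : C) (hg : g ∈ q) (n : ℕ) (hn : Algebra.trdeg A C = n)
    (H2 : ∀ Q : Ideal C, Q.IsPrime → Q ≤ q →
      Q.comap (algebraMap A C) = q.comap (algebraMap A C) → g ∈ Q →
      td (Ideal.quotientMap Q (algebraMap A C) le_rfl) + 1 ≤ (n : Cardinal.{u})) :
    ∃ P : Ideal C, P.IsPrime ∧ g ∈ P ∧ P ≤ q ∧ P.comap (algebraMap A C) = ⊥ := by
  haveI : IsNoetherianRing C := Algebra.FiniteType.isNoetherianRing A C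
  have hinj : Injective (algebraMap A C) := FaithfulSMul.algebraMap_injective A C
  obtain ⟨P, hPmin, hPq⟩ := Ideal.exists_minimalPrimes_le (I := Ideal.span {g}) (J := q)
    (by rw [Ideal.span_le]; simpa using hg)
  haveI hPp : P.IsPrime := hPmin.1.1
  have hgP : g ∈ P := hPmin.1.2 (Ideal.subset_span rfl)
  have hht : P.height ≤ 1 :=
    Ideal.height_le_one_of_isPrincipal_of_mem_minimalPrimes (Ideal.span {g}) P hPmin
  by_cases h𝔭 : P.comap (algebraMap A C) = ⊥
  · exact ⟨P, hPp, hgP, hPq, h𝔭⟩
  exfalso
  -- `P` is minimal over `𝔭 C`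
  have hclaim : ∀ Q : Ideal C, Q.IsPrime → Q ≤ P →
      Q.comap (algebraMap A C) = P.comap (algebraMap A C) → Q = P := by
    intro Q hQ hQP hQc
    by_contra hne
    have hlt : Q < P := lt_of_le_of_ne hQP hne
    have h1 : Q.height < P.height := Ideal.height_strict_mono_of_isPrime_of_isPrime hlt
    have h2 : Q.height = 0 := by
      have : Q.height < 1 := lt_of_lt_of_le h1 hht
      exact Order.lt_one_iff.mp this
    rw [Ideal.height_eq_zero_iff_eq_bot] at h2
    apply h𝔭
    rw [← hQc, h2]
    exact Ideal.comap_bot_of_injective _ hinj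
  -- (i) Chevalley at `P`
  obtain ⟨NP, hNP⟩ := exists_nat_td_quotientMap (R := A) P
  have hn_le : (n : Cardinal.{u}) ≤ (NP : Cardinal.{u}) := by
    obtain ⟨r, hr, Hr⟩ := exists_notMem_forall_td_le (R := A) P NP (by
      intro Q hQ hQP hQc
      rw [td_quotientMap_congr_prime _ _ _ (hclaim Q hQ hQP hQc), hNP])
    have hr0 : r ∉ (⊥ : Ideal C) := by
      intro h0
      rw [Ideal.mem_bot] at h0
      exact hr (h0 ▸ P.zero_mem)
    have := Hr ⊥ hr0
    rwa [td_quotientMap_bot, hn] at this
  -- (ii) Chevalley for `A/𝔭 → C/P`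
  set φb := Ideal.quotientMap P (algebraMap A C) le_rfl with hφb
  have hφbft : φb.FiniteType := by
    have h1 : (φb.comp (Ideal.Quotient.mk (P.comap (algebraMap A C)))).FiniteType := by
      have : φb.comp (Ideal.Quotient.mk (P.comap (algebraMap A C))) =
          (Ideal.Quotient.mk P).comp (algebraMap A C) := by
        ext a; rfl
      rw [this]
      exact (RingHom.FiniteType.of_surjective _ Ideal.Quotient.mk_surjective).comp
        (RingHom.finiteType_algebraMap.mpr inferInstance)
    exact RingHom.FiniteType.of_comp_finiteType h1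
  letI algb : Algebra (A ⧸ P.comap (algebraMap A C)) (C ⧸ P) := φb.toAlgebra
  haveI : Algebra.FiniteType (A ⧸ P.comap (algebraMap A C)) (C ⧸ P) := hφbft
  haveI hqbp := map_mk_isPrime P q hPq
  have hn1 : 1 ≤ n := by
    have := H2 q inferInstance le_rfl rfl hg
    have h3 : (1 : Cardinal.{u}) ≤ (n : Cardinal.{u}) := le_trans le_add_self this
    exact_mod_cast h3
  have hNP_le : (NP : Cardinal.{u}) + 1 ≤ (n : Cardinal.{u}) := by
    obtain ⟨r, hr, Hr⟩ := exists_notMem_forall_td_le (R := A ⧸ P.comap (algebraMap A C))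
      (q.map (Ideal.Quotient.mk P)) (n - 1) (by
      intro Qb hQb hQbq hQbc
      haveI := hQb
      change td (Ideal.quotientMap Qb φb le_rfl) ≤ _
      rw [hφb, td_quotientMap_quotient (algebraMap A C) P Qb]
      set Q := Qb.comap (Ideal.Quotient.mk P) with hQ
      haveI : Q.IsPrime := Ideal.comap_isPrime _ _
      have hPQ : P ≤ Q := by
        intro x hx
        rw [hQ, Ideal.mem_comap, Ideal.Quotient.eq_zero_iff_mem.mpr hx]
        exact Qb.zero_mem
      have hQq : Q ≤ q := by
        have := Ideal.comap_mono (f := Ideal.Quotient.mk P) hQbq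
        rwa [comap_map_mk P q hPq] at this
      have hQc : Q.comap (algebraMap A C) = q.comap (algebraMap A C) := by
        have h1 : (Qb.comap φb).comap (Ideal.Quotient.mk (P.comap (algebraMap A C))) =
            ((q.map (Ideal.Quotient.mk P)).comap φb).comap
              (Ideal.Quotient.mk (P.comap (algebraMap A C))) := by
          have : Qb.comap (algebraMap (A ⧸ P.comap (algebraMap A C)) (C ⧸ P)) =
              (q.map (Ideal.Quotient.mk P)).comap
                (algebraMap (A ⧸ P.comap (algebraMap A C)) (C ⧸ P)) := hQbc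
          exact congrArg _ this
        have hcomm : φb.comp (Ideal.Quotient.mk (P.comap (algebraMap A C))) =
            (Ideal.Quotient.mk P).comp (algebraMap A C) := by
          ext a; rfl
        rw [Ideal.comap_comap, Ideal.comap_comap, hcomm, ← Ideal.comap_comap,
          ← Ideal.comap_comap, comap_map_mk P q hPq] at h1
        exact h1
      have h2 := H2 Q inferInstance hQq hQc (hPQ hgP)
      have h3 : ((n - 1 : ℕ) : Cardinal.{u}) + 1 = (n : Cardinal.{u}) := by
        have : (n - 1) + 1 = n := Nat.sub_add_cancel hn1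
        exact_mod_cast this
      rw [← h3] at h2
      exact (Cardinal.add_one_le_add_one_iff).mp h2)
    have hr0 : r ∉ (⊥ : Ideal (C ⧸ P)) := by
      intro h0
      rw [Ideal.mem_bot] at h0
      exact hr (h0 ▸ (q.map (Ideal.Quotient.mk P)).zero_mem)
    haveI : IsDomain (C ⧸ P) := Ideal.Quotient.isDomain P
    have h4 := Hr ⊥ hr0
    change td (Ideal.quotientMap (⊥ : Ideal (C ⧸ P)) φb le_rfl) ≤ _ at h4
    rw [hφb, td_quotientMap_quotient (algebraMap A C) P ⊥] at h4
    have h5 : (⊥ : Ideal (C ⧸ P)).comap (Ideal.Quotient.mk P) = P := by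
      rw [← RingHom.ker_eq_comap_bot, Ideal.mk_ker]
    rw [td_quotientMap_congr_prime _ _ _ h5, hNP] at h4
    have h3 : ((n - 1 : ℕ) : Cardinal.{u}) + 1 = (n : Cardinal.{u}) := by
      have : (n - 1) + 1 = n := Nat.sub_add_cancel hn1
      exact_mod_cast this
    rw [← h3]
    exact add_le_add_left h4 1
  have : (NP : Cardinal.{u}) + 1 ≤ (NP : Cardinal.{u}) := hNP_le.trans hn_le
  have h6 : NP + 1 ≤ NP := by exact_mod_cast this
  omega

end Groth.Agent.Lib.helper3.HorizPrime
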