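import Mathlib
import Groth.Agent.Lib.Helper3.HorizPrime1
import Groth.Agent.Lib.Helper5.TrdegBaseChange
import Groth.Agent.Lib.Helper5.FlatMinimalPrimes
/-!
# Transfer of primes along a base change of the residue field (helper3; towards S1404)

`transfer` : a commutative square `A₀ → A`, `C₀ → C` of rings, residue fields `k₀ → k`, a prime
`Q₀` of `C₀` in the fibre over `k₀` with `E₀ = C₀/Q₀`, and a ring homomorphism
`ψ : C → k ⊗[k₀] E₀` compatible with everything (the fibre of `C` over `k` is the base change of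
the fibre of `C₀` over `k₀` "along `Q₀`"). Then every prime `q` of `C` over `k` whose contraction
contains `Q₀` has a generization `Q` in the fibre, still containing `Q₀`, with the same residue
transcendence degree as `Q₀`.
-/

set_option autoImplicit false
set_option linter.style.haveILetI false
set_option linter.unusedSectionVars false
universe u
open Function TensorProduct

namespace Groth.Agent.Lib.helper3.HorizPrime

open Groth.Agent.Lib.helper3.DimIneq Groth.Agent.Lib.helper3.FTField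
  Groth.Agent.Lib.helper3.FibreParam Groth.Agent.Lib.helper3.FlatFibDim

attribute [local instance] Algebra.TensorProduct.rightAlgebra in
theorem flat_right' {k S K : Type u} [CommRing k] [CommRing S] [Algebra k S] [CommRing K]
    [Algebra k K] [Module.Flat k K] : Module.Flat S (K ⊗[k] S) := by
  have h : (algebraMap k K).Flat := RingHom.flat_algebraMap_iff.mpr inferInstance
  have := RingHom.Flat.isStableUnderBaseChange (R := k) (S := K) (R' := S) (S' := K ⊗[k] S) h
  exact RingHom.flat_algebraMap_iff.mp this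

/-- minimal primes of `k ⊗[k₀] E₀` for a domain `E₀` of finite type over `k₀`: they contract to
zero and have the transcendence degree of `E₀`. -/
theorem trdeg_quotient_minimalPrimes {k₀ k E₀ : Type u} [Field k₀] [Field k] [CommRing E₀]
    [IsDomain E₀] [Algebra k₀ k] [Algebra k₀ E₀] [Algebra.FiniteType k₀ E₀]
    (P : Ideal (k ⊗[k₀] E₀)) (hP : P ∈ minimalPrimes (k ⊗[k₀] E₀)) :
    Algebra.trdeg k ((k ⊗[k₀] E₀) ⧸ P) = Algebra.trdeg k₀ E₀ := by
  haveI : P.IsPrime := hP.1.1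
  have hp : P.comap (Algebra.TensorProduct.includeRight.toRingHom : E₀ →+* k ⊗[k₀] E₀) = ⊥ := by
    letI := Algebra.TensorProduct.rightAlgebra (R := k₀) (A := k) (B := E₀)
    haveI : Module.Flat E₀ (k ⊗[k₀] E₀) := flat_right'
    haveI : Algebra.HasGoingDown E₀ (k ⊗[k₀] E₀) := Algebra.HasGoingDown.of_flat
    have h1 := Groth.Agent.Lib.helper5.FlatMinPrimes.under_mem_minimalPrimes (A := E₀) hP
    rw [IsDomain.minimalPrimes_eq_singleton_bot, Set.mem_singleton_iff] at h1
    exact h1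
  haveI : (⊥ : Ideal E₀).IsPrime := Ideal.isPrime_bot
  rw [Groth.Agent.Lib.helper5.TrdegBC.trdeg_quotient_eq P hP ⊥ hp]
  exact (AlgEquiv.quotientBot k₀ E₀).trdeg_eq

section transfer

variable {A₀ A C₀ C k₀ k E₀ : Type u} [CommRing A₀] [CommRing A] [CommRing C₀] [CommRing C]
  [IsDomain C] [Field k₀] [Field k] [CommRing E₀] [IsDomain E₀]
  [Algebra A₀ C₀] [Algebra A C] [Algebra k₀ k] [Algebra k₀ E₀] [Algebra.FiniteType k₀ E₀]

theorem transfer (ι : A₀ →+* A) (ιC : C₀ →+* C) (ρ₀ : A₀ →+* k₀) (ρ : A →+* k) (ε : C₀ →+* E₀)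
    (hρ₀ : Surjective ρ₀) (hρ : Surjective ρ) (hε : Surjective ε)
    (hsq : ιC.comp (algebraMap A₀ C₀) = (algebraMap A C).comp ι)
    (hk : (algebraMap k₀ k).comp ρ₀ = ρ.comp ι)
    (hE : (algebraMap k₀ E₀).comp ρ₀ = ε.comp (algebraMap A₀ C₀))
    (hgen : Algebra.adjoin A (Set.range ιC) = ⊤)
    (ψ : C →+* k ⊗[k₀] E₀)
    (hψA : ψ.comp (algebraMap A C) = (algebraMap k (k ⊗[k₀] E₀)).comp ρ)
    (hψC : ψ.comp ιC =
      (Algebra.TensorProduct.includeRight : E₀ →ₐ[k₀] k ⊗[k₀] E₀).toRingHom.comp ε)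
    (q : Ideal C) [q.IsPrime] (hq : q.comap (algebraMap A C) = RingHom.ker ρ)
    (Q₀ : Ideal C₀) [Q₀.IsPrime] (hker : RingHom.ker ε = Q₀) (hQ₀q : Q₀ ≤ q.comap ιC) :
    ∃ Q : Ideal C, Q.IsPrime ∧ Q ≤ q ∧ Q.comap (algebraMap A C) = RingHom.ker ρ ∧
      Q₀ ≤ Q.comap ιC ∧
      td (Ideal.quotientMap Q₀ (algebraMap A₀ C₀) le_rfl) =
        td (Ideal.quotientMap Q (algebraMap A C) le_rfl) := by
  have hψA' : ∀ a, ψ (algebraMap A C a) = algebraMap k (k ⊗[k₀] E₀) (ρ a) :=
    fun a => RingHom.congr_fun hψA a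
  have hψC' : ∀ c, ψ (ιC c) = (1 : k) ⊗ₜ[k₀] ε c := fun c => RingHom.congr_fun hψC c
  -- the map `θ : k ⊗ E₀ → C/q`
  let f₁ : k →+* C ⧸ q := RingHom.liftOfSurjective ρ hρ
    ⟨(Ideal.Quotient.mk q).comp (algebraMap A C), by
      intro a ha
      rw [← hq, Ideal.mem_comap] at ha
      rw [RingHom.mem_ker, RingHom.comp_apply]
      exact Ideal.Quotient.eq_zero_iff_mem.mpr ha⟩
  have hf₁ : ∀ a, f₁ (ρ a) = Ideal.Quotient.mk q (algebraMap A C a) := fun a =>
    RingHom.liftOfRightInverse_comp_apply _ _ _ _ a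
  let g₁ : E₀ →+* C ⧸ q := RingHom.liftOfSurjective ε hε
    ⟨(Ideal.Quotient.mk q).comp ιC, by
      intro c hc
      rw [hker] at hc
      rw [RingHom.mem_ker, RingHom.comp_apply]
      exact Ideal.Quotient.eq_zero_iff_mem.mpr (hQ₀q hc)⟩
  have hg₁ : ∀ c, g₁ (ε c) = Ideal.Quotient.mk q (ιC c) := fun c =>
    RingHom.liftOfRightInverse_comp_apply _ _ _ _ c
  letI algk₀ : Algebra k₀ (C ⧸ q) := (f₁.comp (algebraMap k₀ k)).toAlgebra
  let f₁' : k →ₐ[k₀] C ⧸ q := { f₁ with commutes' := fun x => rfl }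
  let g₁' : E₀ →ₐ[k₀] C ⧸ q := { g₁ with
    commutes' := by
      intro x
      obtain ⟨a₀, rfl⟩ := hρ₀ x
      change g₁ (algebraMap k₀ E₀ (ρ₀ a₀)) = f₁ (algebraMap k₀ k (ρ₀ a₀))
      have e1 : algebraMap k₀ E₀ (ρ₀ a₀) = ε (algebraMap A₀ C₀ a₀) := RingHom.congr_fun hE a₀
      have e2 : algebraMap k₀ k (ρ₀ a₀) = ρ (ι a₀) := RingHom.congr_fun hk a₀
      have e3 : ιC (algebraMap A₀ C₀ a₀) = algebraMap A C (ι a₀) := RingHom.congr_fun hsq a₀
      rw [e1, e2, hg₁, hf₁, e3] }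
  let θ : k ⊗[k₀] E₀ →ₐ[k₀] C ⧸ q := Algebra.TensorProduct.productMap f₁' g₁'
  have hθ : ∀ (x : k) (y : E₀), θ (x ⊗ₜ y) = f₁ x * g₁ y := fun x y =>
    Algebra.TensorProduct.productMap_apply_tmul f₁' g₁' x y
  -- `θ ∘ ψ = mk q`
  let φ₁ : C →ₐ[A] C ⧸ q :=
    { (θ.toRingHom.comp ψ) with
      commutes' := by
        intro a
        change θ (ψ (algebraMap A C a)) = _
        rw [hψA' a, Algebra.TensorProduct.algebraMap_apply, hθ, Algebra.algebraMap_self_apply,
          hf₁, map_one, mul_one]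
        rfl }
  have hφ : φ₁ = Ideal.Quotient.mkₐ A q := by
    apply AlgHom.ext_of_adjoin_eq_top hgen
    rintro _ ⟨c₀, rfl⟩
    change θ (ψ (ιC c₀)) = Ideal.Quotient.mk q (ιC c₀)
    rw [hψC', hθ, map_one, one_mul, hg₁]
  have hθψ : ∀ c, θ (ψ c) = Ideal.Quotient.mk q c := fun c => AlgHom.congr_fun hφ c
  -- the prime `q̃`
  set qt : Ideal (k ⊗[k₀] E₀) := RingHom.ker θ.toRingHom with hqt
  haveI : qt.IsPrime := RingHom.ker_isPrime _
  have hqtc : qt.comap ψ = q := by
    ext c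
    rw [Ideal.mem_comap, hqt, RingHom.mem_ker]
    change θ (ψ c) = 0 ↔ _
    rw [hθψ, Ideal.Quotient.eq_zero_iff_mem]
  obtain ⟨P, hPmin, hPle⟩ := Ideal.exists_minimalPrimes_le (I := ⊥) (J := qt) bot_le
  haveI hPp : P.IsPrime := hPmin.1.1
  have htr := trdeg_quotient_minimalPrimes P hPmin
  -- surjectivity of `ψ`
  have hψsurj : Surjective ψ := by
    intro t
    induction t using TensorProduct.induction_on with
    | zero => exact ⟨0, map_zero _⟩
    | tmul x y =>
      obtain ⟨a, rfl⟩ := hρ x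
      obtain ⟨c₀, rfl⟩ := hε y
      refine ⟨algebraMap A C a * ιC c₀, ?_⟩
      rw [map_mul, hψA', hψC', Algebra.TensorProduct.algebraMap_apply,
        Algebra.TensorProduct.tmul_mul_tmul, Algebra.algebraMap_self_apply, mul_one, one_mul]
    | add x y hx hy =>
      obtain ⟨a, rfl⟩ := hx
      obtain ⟨b, rfl⟩ := hy
      exact ⟨a + b, map_add _ _ _⟩
  set Q : Ideal C := P.comap ψ with hQ
  haveI hQp : Q.IsPrime := Ideal.comap_isPrime _ _
  have hQq : Q ≤ q := by
    rw [← hqtc]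
    exact Ideal.comap_mono hPle
  have hQA : Q.comap (algebraMap A C) = RingHom.ker ρ := by
    apply le_antisymm
    · rw [← hq]
      exact Ideal.comap_mono hQq
    · intro a ha
      rw [RingHom.mem_ker] at ha
      rw [Ideal.mem_comap, hQ, Ideal.mem_comap, hψA', ha, map_zero]
      exact P.zero_mem
  have hQ₀Q : Q₀ ≤ Q.comap ιC := by
    intro c hc
    rw [← hker, RingHom.mem_ker] at hc
    rw [Ideal.mem_comap, hQ, Ideal.mem_comap, hψC', hc, TensorProduct.tmul_zero]
    exact P.zero_mem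
  refine ⟨Q, hQp, hQq, hQA, hQ₀Q, ?_⟩
  -- (i)
  have h1 : td (Ideal.quotientMap Q₀ (algebraMap A₀ C₀) le_rfl) = td (algebraMap k₀ E₀) := by
    have hγ0 : ∀ a₀ ∈ Q₀.comap (algebraMap A₀ C₀), ρ₀ a₀ = 0 := by
      intro a₀ ha₀
      rw [Ideal.mem_comap, ← hker, RingHom.mem_ker] at ha₀
      have e1 : algebraMap k₀ E₀ (ρ₀ a₀) = ε (algebraMap A₀ C₀ a₀) := RingHom.congr_fun hE a₀
      rw [ha₀] at e1
      exact (map_eq_zero_iff _ (algebraMap k₀ E₀).injective).mp e1
    have hβ0 : ∀ c ∈ Q₀, ε c = 0 := by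
      intro c hc
      rw [← hker] at hc
      exact hc
    haveI : (Q₀.comap (algebraMap A₀ C₀)).IsPrime := Ideal.comap_isPrime _ _
    haveI : Nontrivial (A₀ ⧸ Q₀.comap (algebraMap A₀ C₀)) :=
      Ideal.Quotient.nontrivial_iff.mpr (Ideal.IsPrime.ne_top inferInstance)
    haveI : Nontrivial (C₀ ⧸ Q₀) :=
      Ideal.Quotient.nontrivial_iff.mpr (Ideal.IsPrime.ne_top inferInstance)
    refine td_eq_of_square (Ideal.quotientMap Q₀ (algebraMap A₀ C₀) le_rfl)
      (Ideal.Quotient.lift Q₀ ε hβ0) (Ideal.Quotient.lift _ ρ₀ hγ0) (algebraMap k₀ E₀)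
      ?_ ?_ ?_ ?_ ?_ ?_ ?_
    · apply Ideal.Quotient.ringHom_ext
      ext a₀
      exact (RingHom.congr_fun hE a₀).symm
    · exact Ideal.quotientMap_injective
    · apply RingHom.lift_injective_of_ker_le_ideal
      rw [hker]
    · apply RingHom.lift_injective_of_ker_le_ideal
      intro a₀ ha₀
      rw [RingHom.mem_ker] at ha₀
      rw [Ideal.mem_comap, ← hker, RingHom.mem_ker]
      have e1 : algebraMap k₀ E₀ (ρ₀ a₀) = ε (algebraMap A₀ C₀ a₀) := RingHom.congr_fun hE a₀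
      rw [← e1, ha₀, map_zero]
    · exact (algebraMap k₀ E₀).injective
    · apply isAlgebraic_of_surjective
      exact Ideal.Quotient.lift_surjective_of_surjective _ _ hε
    · apply isAlgebraic_of_surjective
      exact Ideal.Quotient.lift_surjective_of_surjective _ _ hρ₀
  -- (ii)
  have h2 : td (Ideal.quotientMap Q (algebraMap A C) le_rfl) =
      td (algebraMap k ((k ⊗[k₀] E₀) ⧸ P)) := by
    have hγ0 : ∀ a ∈ Q.comap (algebraMap A C), ρ a = 0 := by
      intro a ha
      rw [hQA] at ha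
      exact ha
    haveI : (Q.comap (algebraMap A C)).IsPrime := Ideal.comap_isPrime _ _
    haveI : Nontrivial (A ⧸ Q.comap (algebraMap A C)) :=
      Ideal.Quotient.nontrivial_iff.mpr (Ideal.IsPrime.ne_top inferInstance)
    haveI : Nontrivial (C ⧸ Q) :=
      Ideal.Quotient.nontrivial_iff.mpr (Ideal.IsPrime.ne_top inferInstance)
    haveI : IsDomain ((k ⊗[k₀] E₀) ⧸ P) := Ideal.Quotient.isDomain P
    refine td_eq_of_square (Ideal.quotientMap Q (algebraMap A C) le_rfl)
      (Ideal.quotientMap P ψ le_rfl) (Ideal.Quotient.lift _ ρ hγ0)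
      (algebraMap k ((k ⊗[k₀] E₀) ⧸ P)) ?_ ?_ ?_ ?_ ?_ ?_ ?_
    · apply Ideal.Quotient.ringHom_ext
      ext a
      change Ideal.Quotient.mk P (ψ (algebraMap A C a)) = _
      rw [hψA']
      rfl
    · exact Ideal.quotientMap_injective
    · exact Ideal.quotientMap_injective
    · apply RingHom.lift_injective_of_ker_le_ideal
      rw [hQA]
    · exact (algebraMap k ((k ⊗[k₀] E₀) ⧸ P)).injective
    · apply isAlgebraic_of_surjective
      exact Ideal.quotientMap_surjective hψsurj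
    · apply isAlgebraic_of_surjective
      exact Ideal.Quotient.lift_surjective_of_surjective _ _ hρ
  rw [h1, h2, td_algebraMap, td_algebraMap, htr]

end transfer

end Groth.Agent.Lib.helper3.HorizPrime
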