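import Mathlib
import Groth.Agent.Lib.Helper3.HorizPrime2
/-!
# Noetherian local approximation of a local domain (helper3; towards S1404)

* `exists_noeth_local_approx` : a local domain is the union of its Noetherian local subdomains
  (local inclusions), each containing a prescribed finite set;
* `trdeg_le_of_adjoin_eq_top` : transcendence degrees can only go up when descending to a subring.
-/

set_option autoImplicit false
set_option linter.style.haveILetI false
set_option linter.unusedSectionVars false
universe u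
open Function

namespace Groth.Agent.Lib.helper3.HorizPrime

theorem exists_noeth_local_approx (A : Type u) [CommRing A] [IsDomain A] [IsLocalRing A]
    (T : Finset A) :
    ∃ (A₀ : Type u) (_ : CommRing A₀) (_ : IsDomain A₀) (_ : IsNoetherianRing A₀)
      (_ : IsLocalRing A₀) (ι : A₀ →+* A), Injective ι ∧ IsLocalHom ι ∧
        (↑T : Set A) ⊆ Set.range ι := by
  classical
  let A₁ : Subalgebra ℤ A := Algebra.adjoin ℤ (T : Set A)
  haveI : Algebra.FiniteType ℤ A₁ := Algebra.FiniteType.adjoin_of_finite T.finite_toSet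
  haveI : IsNoetherianRing A₁ := Algebra.FiniteType.isNoetherianRing ℤ A₁
  let j : A₁ →+* A := A₁.val.toRingHom
  have hj : Injective j := Subtype.val_injective
  let m₁ : Ideal A₁ := (IsLocalRing.maximalIdeal A).comap j
  haveI : m₁.IsPrime := Ideal.comap_isPrime _ _
  have hunit : ∀ y : m₁.primeCompl, IsUnit (j y) := by
    intro y
    have h1 : (y : A₁) ∉ m₁ := y.2
    by_contra h
    exact h1 ((IsLocalRing.mem_maximalIdeal _).mpr h)
  let A₀ := Localization.AtPrime m₁
  let ι : A₀ →+* A := IsLocalization.lift (M := m₁.primeCompl) (g := j) hunit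
  have hι : Injective ι := by
    rw [injective_iff_map_eq_zero]
    intro z hz
    obtain ⟨x, s, rfl⟩ := IsLocalization.exists_mk'_eq m₁.primeCompl z
    rw [IsLocalization.lift_mk', Units.mul_left_eq_zero] at hz
    have hx : x = 0 := hj (by rw [hz, map_zero])
    rw [hx, IsLocalization.mk'_zero]
  haveI : IsDomain A₀ := hι.isDomain ι
  have hloc : IsLocalHom ι := by
    refine ⟨fun z hz => ?_⟩
    obtain ⟨x, s, rfl⟩ := IsLocalization.exists_mk'_eq m₁.primeCompl z
    have hx : IsUnit (j x) := by
      have h1 : IsLocalization.mk' A₀ x s * algebraMap A₁ A₀ s = algebraMap A₁ A₀ x :=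
        IsLocalization.mk'_spec _ _ _
      have h2 := congrArg ι h1
      rw [map_mul, IsLocalization.lift_eq, IsLocalization.lift_eq] at h2
      rw [← h2]
      exact hz.mul (hunit s)
    rw [IsLocalization.AtPrime.isUnit_mk'_iff]
    intro hxm
    exact (IsLocalRing.mem_maximalIdeal _).mp hxm hx
  refine ⟨A₀, inferInstance, inferInstance,
    IsLocalization.isNoetherianRing m₁.primeCompl A₀ inferInstance, inferInstance, ι, hι, hloc, ?_⟩
  intro t ht
  refine ⟨algebraMap A₁ A₀ ⟨t, Algebra.subset_adjoin ht⟩, ?_⟩
  exact IsLocalization.lift_eq hunit _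

theorem trdeg_le_of_adjoin_eq_top {A₀ A C₀ C : Type u} [CommRing A₀] [CommRing A] [CommRing C₀]
    [CommRing C] [IsDomain C] [Algebra A₀ C₀] [Algebra A C] (ι : A₀ →+* A) (ιC : C₀ →+* C)
    (hι : Injective ι) (hAC : Injective (algebraMap A C))
    (hsq : ιC.comp (algebraMap A₀ C₀) = (algebraMap A C).comp ι)
    (hgen : Algebra.adjoin A (Set.range ιC) = ⊤) :
    Algebra.trdeg A C ≤ Algebra.trdeg A₀ C₀ := by
  haveI : Nontrivial A := RingHom.domain_nontrivial (algebraMap A C)
  haveI : Nontrivial A₀ := RingHom.domain_nontrivial ι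
  haveI : Algebra.IsAlgebraic (Algebra.adjoin A (Set.range ιC)) C := by
    refine ⟨fun c => ?_⟩
    have hc : c ∈ Algebra.adjoin A (Set.range ιC) := by rw [hgen]; exact Algebra.mem_top
    exact isAlgebraic_algebraMap (R := Algebra.adjoin A (Set.range ιC)) (A := C) ⟨c, hc⟩
  obtain ⟨u, -, hut, hu⟩ := exists_isTranscendenceBasis_between (R := A) (∅ : Set C)
    (Set.range ιC) (Set.empty_subset _) (by
      rw [AlgebraicIndepOn]
      exact algebraicIndependent_empty_type_iff.mpr hAC)
  rw [← hu.cardinalMk_eq_trdeg]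
  have hex : ∀ i : u, ∃ c₀ : C₀, ιC c₀ = i := fun i => hut i.2
  choose v hv using hex
  have hind : AlgebraicIndependent A₀ v := by
    apply AlgebraicIndependent.of_ringHom_of_comp_eq (f := ι) (g := ιC) _ hι hsq.symm
    have : (ιC ∘ v) = ((↑) : u → C) := funext hv
    rw [this]
    exact hu.1
  exact hind.cardinalMk_le_trdeg

end Groth.Agent.Lib.helper3.HorizPrime
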