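import Mathlib
import Groth.Agent.Lib.Helper3.HorizPrime3
/-!
# Horizontal primes through a hypersurface, general local base (helper3; towards S1404)

`exists_prime_horizontal` : `A` a local domain (not necessarily Noetherian), `C ⊇ A` a domain of
finite type of transcendence degree `n`, `q` a prime over the maximal ideal, `g ∈ q` such that all
generizations of `q` in its fibre containing `g` have residue transcendence degree `≤ n - 1`.
Then there is a prime `P ∋ g` inside `q` with `P ∩ A = 0`.  Proof by Noetherian approximation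
(`exists_noeth_local_approx`, `transfer`) from `exists_prime_horizontal_noeth`.
-/

set_option autoImplicit false
set_option linter.style.haveILetI false
set_option linter.unusedSectionVars false
set_option maxHeartbeats 1600000
universe u
open Function TensorProduct

namespace Groth.Agent.Lib.helper3.HorizPrime

open Groth.Agent.Lib.helper3.DimIneq Groth.Agent.Lib.helper3.FTField
  Groth.Agent.Lib.helper3.FibreParam Groth.Agent.Lib.helper3.FlatFibDim

/-- `transfer`, with the map `ψ` produced from a universal property of the closed fibre. -/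
theorem H2_transfer {A₀ A C₀ C : Type u} [CommRing A₀] [IsLocalRing A₀] [CommRing A]
    [IsLocalRing A] [CommRing C₀] [CommRing C] [IsDomain C] [Algebra A₀ C₀] [Algebra A C]
    [Algebra.FiniteType A₀ C₀] (ι : A₀ →+* A) [IsLocalHom ι] (ιC : C₀ →+* C)
    (hsq : ιC.comp (algebraMap A₀ C₀) = (algebraMap A C).comp ι)
    (hgen : Algebra.adjoin A (Set.range ιC) = ⊤)
    (hUP : ∀ (T : Type u) [CommRing T] (φA : A →+* T) (φC : C₀ →+* T),
      φA.comp ι = φC.comp (algebraMap A₀ C₀) →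
      (∀ a ∈ IsLocalRing.maximalIdeal A, φA a = 0) →
      ∃ ψ : C →+* T, ψ.comp (algebraMap A C) = φA ∧ ψ.comp ιC = φC)
    (q : Ideal C) [q.IsPrime] (hqm : q.comap (algebraMap A C) = IsLocalRing.maximalIdeal A)
    (Q₀ : Ideal C₀) [Q₀.IsPrime]
    (hQ₀m : Q₀.comap (algebraMap A₀ C₀) = IsLocalRing.maximalIdeal A₀)
    (hQ₀q : Q₀ ≤ q.comap ιC) :
    ∃ Q : Ideal C, Q.IsPrime ∧ Q ≤ q ∧
      Q.comap (algebraMap A C) = IsLocalRing.maximalIdeal A ∧ Q₀ ≤ Q.comap ιC ∧
      td (Ideal.quotientMap Q₀ (algebraMap A₀ C₀) le_rfl) =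
        td (Ideal.quotientMap Q (algebraMap A C) le_rfl) := by
  letI algk : Algebra (IsLocalRing.ResidueField A₀) (IsLocalRing.ResidueField A) :=
    (IsLocalRing.ResidueField.map ι).toAlgebra
  have hE0 : ∀ a₀ ∈ IsLocalRing.maximalIdeal A₀,
      ((Ideal.Quotient.mk Q₀).comp (algebraMap A₀ C₀)) a₀ = 0 := by
    intro a₀ ha₀
    rw [← hQ₀m, Ideal.mem_comap] at ha₀
    exact Ideal.Quotient.eq_zero_iff_mem.mpr ha₀
  letI algE : Algebra (IsLocalRing.ResidueField A₀) (C₀ ⧸ Q₀) :=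
    (Ideal.Quotient.lift (IsLocalRing.maximalIdeal A₀)
      ((Ideal.Quotient.mk Q₀).comp (algebraMap A₀ C₀)) hE0).toAlgebra
  have hE : (algebraMap (IsLocalRing.ResidueField A₀) (C₀ ⧸ Q₀)).comp (IsLocalRing.residue A₀) =
      (Ideal.Quotient.mk Q₀).comp (algebraMap A₀ C₀) := by
    ext x; rfl
  haveI : Algebra.FiniteType (IsLocalRing.ResidueField A₀) (C₀ ⧸ Q₀) := by
    have h1 : ((algebraMap (IsLocalRing.ResidueField A₀) (C₀ ⧸ Q₀)).comp
        (IsLocalRing.residue A₀)).FiniteType := by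
      rw [hE]
      exact (RingHom.FiniteType.of_surjective _ Ideal.Quotient.mk_surjective).comp
        (RingHom.finiteType_algebraMap.mpr inferInstance)
    exact RingHom.FiniteType.of_comp_finiteType h1
  haveI : IsDomain (C₀ ⧸ Q₀) := Ideal.Quotient.isDomain Q₀
  have hk : (algebraMap (IsLocalRing.ResidueField A₀) (IsLocalRing.ResidueField A)).comp
      (IsLocalRing.residue A₀) = (IsLocalRing.residue A).comp ι := rfl
  obtain ⟨ψ, hψA, hψC⟩ := hUP
    (IsLocalRing.ResidueField A ⊗[IsLocalRing.ResidueField A₀] (C₀ ⧸ Q₀))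
    ((algebraMap (IsLocalRing.ResidueField A)
      (IsLocalRing.ResidueField A ⊗[IsLocalRing.ResidueField A₀] (C₀ ⧸ Q₀))).comp
      (IsLocalRing.residue A))
    ((Algebra.TensorProduct.includeRight : (C₀ ⧸ Q₀) →ₐ[IsLocalRing.ResidueField A₀]
      IsLocalRing.ResidueField A ⊗[IsLocalRing.ResidueField A₀] (C₀ ⧸ Q₀)).toRingHom.comp
      (Ideal.Quotient.mk Q₀))
    (by
      ext x
      change algebraMap (IsLocalRing.ResidueField A) _ (IsLocalRing.residue A (ι x)) =
        (1 : IsLocalRing.ResidueField A) ⊗ₜ[IsLocalRing.ResidueField A₀]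
          (algebraMap (IsLocalRing.ResidueField A₀) (C₀ ⧸ Q₀) (IsLocalRing.residue A₀ x))
      rw [Algebra.TensorProduct.algebraMap_apply, Algebra.algebraMap_self_apply]
      have e1 : IsLocalRing.residue A (ι x) =
        algebraMap (IsLocalRing.ResidueField A₀) (IsLocalRing.ResidueField A)
          (IsLocalRing.residue A₀ x) := rfl
      rw [e1, Algebra.algebraMap_eq_smul_one, Algebra.algebraMap_eq_smul_one (A := C₀ ⧸ Q₀),
        TensorProduct.smul_tmul])
    (by
      intro a ha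
      rw [RingHom.comp_apply, (IsLocalRing.residue_eq_zero_iff a).mpr ha, map_zero])
  obtain ⟨Q, hQp, hQq, hQA, hQ₀Q, htd⟩ := transfer ι ιC (IsLocalRing.residue A₀)
    (IsLocalRing.residue A) (Ideal.Quotient.mk Q₀) IsLocalRing.residue_surjective
    IsLocalRing.residue_surjective Ideal.Quotient.mk_surjective hsq hk hE hgen ψ hψA hψC q
    (by rw [hqm, IsLocalRing.ker_residue]) Q₀ Ideal.mk_ker hQ₀q
  exact ⟨Q, hQp, hQq, by rw [hQA, IsLocalRing.ker_residue], hQ₀Q, htd⟩

theorem exists_prime_horizontal {A C : Type u} [CommRing A] [IsDomain A] [IsLocalRing A]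
    [CommRing C] [IsDomain C] [Algebra A C] [Algebra.FiniteType A C] [FaithfulSMul A C]
    (q : Ideal C) [q.IsPrime] (hqm : q.comap (algebraMap A C) = IsLocalRing.maximalIdeal A)
    (g : C) (hg : g ∈ q) (n : ℕ) (hn : Algebra.trdeg A C = n)
    (H2 : ∀ Q : Ideal C, Q.IsPrime → Q ≤ q →
      Q.comap (algebraMap A C) = q.comap (algebraMap A C) → g ∈ Q →
      td (Ideal.quotientMap Q (algebraMap A C) le_rfl) + 1 ≤ (n : Cardinal.{u})) :
    ∃ P : Ideal C, P.IsPrime ∧ g ∈ P ∧ P ≤ q ∧ P.comap (algebraMap A C) = ⊥ := by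
  classical
  have hAC : Injective (algebraMap A C) := FaithfulSMul.algebraMap_injective A C
  set M : Submonoid C := Algebra.algebraMapSubmonoid C (nonZeroDivisors A) ⊔ q.primeCompl with hM
  by_cases hdisj : Disjoint ((Ideal.span {g} : Ideal C) : Set C) (M : Set C)
  · obtain ⟨P, hPp, hgP, hPM⟩ := Ideal.exists_le_prime_disjoint (Ideal.span {g}) M hdisj
    refine ⟨P, hPp, hgP (Ideal.subset_span rfl), ?_, ?_⟩
    · intro x hx
      by_contra hxq
      exact Set.disjoint_left.mp hPM hx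
        (Submonoid.mem_sup_right (show x ∈ q.primeCompl from hxq))
    · rw [eq_bot_iff]
      intro a ha
      rw [Ideal.mem_bot]
      by_contra ha0
      have : algebraMap A C a ∈ M :=
        Submonoid.mem_sup_left ⟨a, mem_nonZeroDivisors_of_ne_zero ha0, rfl⟩
      exact Set.disjoint_left.mp hPM ha this
  rw [Set.not_disjoint_iff] at hdisj
  obtain ⟨x, hxg, hxM⟩ := hdisj
  obtain ⟨c, rfl⟩ := Ideal.mem_span_singleton'.mp hxg
  obtain ⟨y, ⟨a, ha, rfl⟩, s, hs, hys⟩ := Submonoid.mem_sup.mp hxM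
  have ha0 : a ≠ 0 := nonZeroDivisors.ne_zero ha
  have hsq' : s ∉ q := hs
  exfalso
  obtain ⟨r, π, hπ⟩ := Algebra.FiniteType.iff_quotient_mvPolynomial''.mp
    (inferInstance : Algebra.FiniteType A C)
  obtain ⟨G, hG⟩ := hπ g
  obtain ⟨Sg, hSg⟩ := hπ s
  obtain ⟨Cc, hCc⟩ := hπ c
  set k := IsLocalRing.ResidueField A with hk_def
  set ρX : MvPolynomial (Fin r) A →+* MvPolynomial (Fin r) k :=
    MvPolynomial.map (IsLocalRing.residue A) with hρX
  have hρXs : Surjective ρX := MvPolynomial.map_surjective _ IsLocalRing.residue_surjective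
  set I : Ideal (MvPolynomial (Fin r) A) := RingHom.ker π.toRingHom with hI
  obtain ⟨sgen, hsgen⟩ :=
    (inferInstance : IsNoetherianRing (MvPolynomial (Fin r) k)).noetherian (I.map ρX)
  have hsgen' : Ideal.span (sgen : Set (MvPolynomial (Fin r) k)) = I.map ρX := hsgen
  have h1 : ∀ t ∈ sgen, ∃ f, f ∈ I ∧ ρX f = t := by
    intro t ht
    have : t ∈ I.map ρX := by rw [← hsgen']; exact Ideal.subset_span ht
    exact (Ideal.mem_map_iff_of_surjective ρX hρXs).mp this
  choose! Φ hΦI hΦ using h1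
  set ΦS : Finset (MvPolynomial (Fin r) A) := sgen.image Φ with hΦS
  have hΦSI : ∀ p ∈ ΦS, p ∈ I := by
    intro p hp
    rw [hΦS, Finset.mem_image] at hp
    obtain ⟨t, ht, rfl⟩ := hp
    exact hΦI t ht
  have hFIB : ∀ f ∈ I, ∃ f' ∈ Ideal.span (ΦS : Set (MvPolynomial (Fin r) A)), ρX f' = ρX f := by
    intro f hf
    have h2 : ρX f ∈ I.map ρX := Ideal.mem_map_of_mem _ hf
    have h3 : I.map ρX = (Ideal.span (ΦS : Set (MvPolynomial (Fin r) A))).map ρX := by
      rw [Ideal.map_span, ← hsgen']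
      congr 1
      ext t
      simp only [hΦS, Finset.coe_image, Set.mem_image, Finset.mem_coe]
      constructor
      · intro ht
        exact ⟨Φ t, ⟨t, ht, rfl⟩, hΦ t ht⟩
      · rintro ⟨_, ⟨t', ht', rfl⟩, rfl⟩
        rw [hΦ t' ht']
        exact ht'
    rw [h3] at h2
    exact (Ideal.mem_map_iff_of_surjective ρX hρXs).mp h2
  set Polys : Finset (MvPolynomial (Fin r) A) := insert G (insert Sg (insert Cc ΦS)) with hPolys
  set Tset : Finset A := insert a (Polys.biUnion (fun p => p.coeffs)) with hTset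
  obtain ⟨A₀, instCR, instDom, instNoeth, instLoc, ι, hι, hιloc, hT⟩ :=
    exists_noeth_local_approx A Tset
  haveI := hιloc
  set ιX : MvPolynomial (Fin r) A₀ →+* MvPolynomial (Fin r) A := MvPolynomial.map ι with hιX
  have hrange : ∀ p ∈ Polys, ∃ p₀, ιX p₀ = p := by
    intro p hp
    have : p ∈ Set.range (MvPolynomial.map ι) := by
      rw [MvPolynomial.mem_range_map_iff_coeffs_subset]
      intro x hx
      apply hT
      rw [Finset.mem_coe] at hx ⊢
      exact Finset.mem_insert_of_mem (Finset.mem_biUnion.mpr ⟨p, hp, hx⟩)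
    exact this
  obtain ⟨a₀, ha₀⟩ : ∃ a₀, ι a₀ = a := hT (Finset.mem_coe.mpr (Finset.mem_insert_self _ _))
  obtain ⟨G₀, hG₀⟩ := hrange G (by simp [hPolys])
  obtain ⟨S₀, hS₀⟩ := hrange Sg (by simp [hPolys])
  obtain ⟨Cc₀, hCc₀⟩ := hrange Cc (by simp [hPolys])
  set π₀ : MvPolynomial (Fin r) A₀ →+* C := π.toRingHom.comp ιX with hπ₀
  set I₀ : Ideal (MvPolynomial (Fin r) A₀) := RingHom.ker π₀ with hI₀
  haveI : I₀.IsPrime := RingHom.ker_isPrime π₀
  let C₀ := MvPolynomial (Fin r) A₀ ⧸ I₀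
  let ιC : C₀ →+* C := RingHom.kerLift π₀
  have hιC : Injective ιC := RingHom.kerLift_injective π₀
  have hιCmk : ∀ p₀, ιC (Ideal.Quotient.mk I₀ p₀) = π (ιX p₀) := fun p₀ =>
    RingHom.kerLift_mk π₀ p₀
  haveI : IsDomain C₀ := Ideal.Quotient.isDomain I₀
  haveI : Algebra.FiniteType A₀ C₀ := inferInstance
  have hsq : ιC.comp (algebraMap A₀ C₀) = (algebraMap A C).comp ι := by
    ext x
    change ιC (Ideal.Quotient.mk I₀ (MvPolynomial.C x)) = algebraMap A C (ι x)
    rw [hιCmk, hιX, MvPolynomial.map_C, ← MvPolynomial.algebraMap_eq, π.commutes]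
  have hA₀C₀ : Injective (algebraMap A₀ C₀) := by
    have : Injective (ιC ∘ (algebraMap A₀ C₀)) := by
      have h := hAC.comp hι
      have e : (ιC ∘ (algebraMap A₀ C₀)) = (algebraMap A C) ∘ ι := by
        funext x
        exact RingHom.congr_fun hsq x
      rw [e]
      exact h
    exact Injective.of_comp this
  haveI : FaithfulSMul A₀ C₀ := (faithfulSMul_iff_algebraMap_injective A₀ C₀).mpr hA₀C₀
  have hgen : Algebra.adjoin A (Set.range ιC) = ⊤ := by
    rw [eq_top_iff]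
    have h1 : (⊤ : Subalgebra A C) = (Algebra.adjoin A
        (Set.range (MvPolynomial.X : Fin r → MvPolynomial (Fin r) A))).map π := by
      rw [MvPolynomial.adjoin_range_X, Algebra.map_top, (AlgHom.range_eq_top π).mpr hπ]
    rw [h1, AlgHom.map_adjoin]
    apply Algebra.adjoin_mono
    rintro _ ⟨_, ⟨i, rfl⟩, rfl⟩
    exact ⟨Ideal.Quotient.mk I₀ (MvPolynomial.X i), by rw [hιCmk, hιX, MvPolynomial.map_X]⟩
  set q₀ : Ideal C₀ := q.comap ιC with hq₀
  haveI : q₀.IsPrime := Ideal.comap_isPrime _ _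
  set g₀ : C₀ := Ideal.Quotient.mk I₀ G₀ with hg₀
  have hιg₀ : ιC g₀ = g := by rw [hg₀, hιCmk, hG₀, hG]
  have hg₀q : g₀ ∈ q₀ := by rw [hq₀, Ideal.mem_comap, hιg₀]; exact hg
  have hq₀m : q₀.comap (algebraMap A₀ C₀) = IsLocalRing.maximalIdeal A₀ := by
    rw [hq₀, Ideal.comap_comap, hsq, ← Ideal.comap_comap, hqm]
    exact IsLocalRing.maximalIdeal_comap ι
  obtain ⟨n₀, hn₀⟩ := Cardinal.lt_aleph0.mp
    (trdeg_lt_aleph0_of_finiteType (R := A₀) (S := C₀))
  have hnn₀ : n ≤ n₀ := by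
    have := trdeg_le_of_adjoin_eq_top ι ιC hι hAC hsq hgen
    rw [hn, hn₀] at this
    exact_mod_cast this
  have hUP : ∀ (T : Type u) [CommRing T] (φA : A →+* T) (φC : C₀ →+* T),
      φA.comp ι = φC.comp (algebraMap A₀ C₀) →
      (∀ a ∈ IsLocalRing.maximalIdeal A, φA a = 0) →
      ∃ ψ : C →+* T, ψ.comp (algebraMap A C) = φA ∧ ψ.comp ιC = φC := by
    intro T _ φA φC hcomp hkill
    let φk : k →+* T := Ideal.Quotient.lift (IsLocalRing.maximalIdeal A) φA hkill
    have hφk : ∀ a, φk (IsLocalRing.residue A a) = φA a := fun a => Ideal.Quotient.lift_mk _ _ _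
    let ψ'' : MvPolynomial (Fin r) k →+* T :=
      MvPolynomial.eval₂Hom φk (fun i => φC (Ideal.Quotient.mk I₀ (MvPolynomial.X i)))
    let ψ' : MvPolynomial (Fin r) A →+* T := ψ''.comp ρX
    have hψ'C : ∀ a, ψ' (MvPolynomial.C a) = φA a := by
      intro a
      change ψ'' (ρX (MvPolynomial.C a)) = _
      rw [hρX, MvPolynomial.map_C]
      exact (MvPolynomial.eval₂Hom_C _ _ _).trans (hφk a)
    have hψ'X : ∀ i, ψ' (MvPolynomial.X i) = φC (Ideal.Quotient.mk I₀ (MvPolynomial.X i)) := by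
      intro i
      change ψ'' (ρX (MvPolynomial.X i)) = _
      rw [hρX, MvPolynomial.map_X]
      exact MvPolynomial.eval₂Hom_X' _ _ _
    have hψ'ιX : ∀ p₀, ψ' (ιX p₀) = φC (Ideal.Quotient.mk I₀ p₀) := by
      intro p₀
      have : ψ'.comp ιX = φC.comp (Ideal.Quotient.mk I₀) := by
        apply MvPolynomial.ringHom_ext
        · intro x
          change ψ' (ιX (MvPolynomial.C x)) = φC (algebraMap A₀ C₀ x)
          rw [hιX, MvPolynomial.map_C, hψ'C]
          exact RingHom.congr_fun hcomp x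
        · intro i
          change ψ' (ιX (MvPolynomial.X i)) = φC (Ideal.Quotient.mk I₀ (MvPolynomial.X i))
          rw [hιX, MvPolynomial.map_X, hψ'X]
      exact RingHom.congr_fun this p₀
    have hkerψ' : RingHom.ker π.toRingHom ≤ RingHom.ker ψ' := by
      intro f hf
      obtain ⟨f', hf', hff'⟩ := hFIB f hf
      rw [RingHom.mem_ker]
      change ψ'' (ρX f) = 0
      rw [← hff']
      change ψ' f' = 0
      have hle : Ideal.span (ΦS : Set (MvPolynomial (Fin r) A)) ≤ RingHom.ker ψ' := by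
        rw [Ideal.span_le]
        intro p hp
        have hpP : p ∈ Polys := by
          rw [hPolys]
          exact Finset.mem_insert_of_mem (Finset.mem_insert_of_mem (Finset.mem_insert_of_mem hp))
        obtain ⟨p₀, rfl⟩ := hrange p hpP
        have hp₀ : p₀ ∈ I₀ := hΦSI _ hp
        rw [SetLike.mem_coe, RingHom.mem_ker, hψ'ιX, Ideal.Quotient.eq_zero_iff_mem.mpr hp₀,
          map_zero]
      exact hle hf'
    let ψ : C →+* T := RingHom.liftOfSurjective π.toRingHom hπ ⟨ψ', hkerψ'⟩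
    have hψπ : ∀ p, ψ (π p) = ψ' p := fun p =>
      RingHom.liftOfRightInverse_comp_apply _ _ _ _ p
    refine ⟨ψ, ?_, ?_⟩
    · ext a
      change ψ (algebraMap A C a) = _
      rw [← π.commutes a, hψπ, MvPolynomial.algebraMap_eq, hψ'C]
    · refine RingHom.ext fun c₀ => ?_
      obtain ⟨p₀, rfl⟩ := Ideal.Quotient.mk_surjective c₀
      change ψ (ιC (Ideal.Quotient.mk I₀ p₀)) = φC (Ideal.Quotient.mk I₀ p₀)
      rw [hιCmk, hψπ, hψ'ιX]
  have H2₀ : ∀ Q₀ : Ideal C₀, Q₀.IsPrime → Q₀ ≤ q₀ →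
      Q₀.comap (algebraMap A₀ C₀) = q₀.comap (algebraMap A₀ C₀) → g₀ ∈ Q₀ →
      td (R := A₀ ⧸ Q₀.comap (algebraMap A₀ C₀)) (S := C₀ ⧸ Q₀)
        (Ideal.quotientMap Q₀ (algebraMap A₀ C₀) le_rfl) + 1 ≤ (n₀ : Cardinal.{u}) := by
    intro Q₀ hQ₀p hQ₀le hQ₀c hgQ₀
    haveI := hQ₀p
    have hQ₀m : Q₀.comap (algebraMap A₀ C₀) = IsLocalRing.maximalIdeal A₀ := hQ₀c.trans hq₀m
    obtain ⟨Q, hQp, hQq, hQA, hQ₀Q, htd⟩ := H2_transfer ι ιC hsq hgen hUP q hqm Q₀ hQ₀m hQ₀le
    have hgQ : g ∈ Q := by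
      have := hQ₀Q hgQ₀
      rwa [Ideal.mem_comap, hιg₀] at this
    have h3 := H2 Q hQp hQq (by rw [hQA, hqm]) hgQ
    rw [htd]
    refine le_trans h3 ?_
    exact_mod_cast hnn₀
  obtain ⟨P₀, hP₀p, hgP₀, hP₀q, hP₀A⟩ := exists_prime_horizontal_noeth q₀ g₀ hg₀q n₀ hn₀ H2₀
  have hrel : algebraMap A₀ C₀ a₀ * Ideal.Quotient.mk I₀ S₀ = Ideal.Quotient.mk I₀ Cc₀ * g₀ := by
    apply hιC
    rw [map_mul, map_mul, hιg₀, hιCmk, hιCmk, hS₀, hCc₀, hSg, hCc, ← hys]
    congr 1
    have := RingHom.congr_fun hsq a₀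
    rw [RingHom.comp_apply, RingHom.comp_apply, ha₀] at this
    exact this
  have h1 : algebraMap A₀ C₀ a₀ * Ideal.Quotient.mk I₀ S₀ ∈ P₀ := by
    rw [hrel]
    exact P₀.mul_mem_left _ hgP₀
  have h2 : Ideal.Quotient.mk I₀ S₀ ∉ P₀ := by
    intro h
    have := hP₀q h
    rw [hq₀, Ideal.mem_comap, hιCmk, hS₀, hSg] at this
    exact hsq' this
  have h3 := (hP₀p.mem_or_mem h1).resolve_right h2
  have h4 : a₀ ∈ P₀.comap (algebraMap A₀ C₀) := h3
  rw [hP₀A, Ideal.mem_bot] at h4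
  exact ha0 (by rw [← ha₀, h4, map_zero])

end Groth.Agent.Lib.helper3.HorizPrime
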