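import Mathlib
import Groth.Agent.Lib.Helper3.HorizPrime4
import Groth.Agent.Lib.Helper3.DimIneqLoc
import Groth.Agent.Lib.Helper3.EquidimStalk
/-!
# `A → B/gB` is injective for horizontal `g` (helper3; = S1404)

`main` : `A → B` an injective local homomorphism of local domains, essentially of finite type,
with `dim (B/𝔪B) + trdeg κ(B)/κ(A) = trdeg_A B`; `g ∈ 𝔪_B` in no minimal prime of `𝔪_A B`.
Then `A → B/gB` is injective.
-/

set_option autoImplicit false
set_option linter.style.haveILetI false
set_option linter.unusedSectionVars false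
universe u
open Function

namespace Groth.Agent.Lib.helper3.HorizPrime

open Groth.Agent.Lib.helper3.DimIneq Groth.Agent.Lib.helper3.FTField
  Groth.Agent.Lib.helper3.FibreParam Groth.Agent.Lib.helper3.FlatFibDim

theorem H2_of_fibre {A C : Type u} [CommRing A] [IsLocalRing A] [CommRing C] [Algebra A C]
    [Algebra.FiniteType A C] (q : Ideal C) [q.IsPrime]
    (hqm : q.comap (algebraMap A C) = IsLocalRing.maximalIdeal A) (g : C) (d e : ℕ)
    (hd : (q.map (Ideal.Quotient.mk
      ((IsLocalRing.maximalIdeal A).map (algebraMap A C)))).height = d)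
    (he : td (Ideal.quotientMap q (algebraMap A C) le_rfl) = e)
    (hmin : ∀ Q₁ ∈ ((IsLocalRing.maximalIdeal A).map (algebraMap A C)).minimalPrimes,
      Q₁ ≤ q → g ∉ Q₁) :
    ∀ Q : Ideal C, Q.IsPrime → Q ≤ q →
      Q.comap (algebraMap A C) = q.comap (algebraMap A C) → g ∈ Q →
      td (Ideal.quotientMap Q (algebraMap A C) le_rfl) + 1 ≤ ((d + e : ℕ) : Cardinal.{u}) := by
  intro Q hQp hQq hQc hgQ
  haveI := hQp
  set m := IsLocalRing.maximalIdeal A with hm
  set mC := m.map (algebraMap A C) with hmC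
  letI : Field (A ⧸ m) := Ideal.Quotient.field m
  haveI : Algebra.FiniteType A (C ⧸ mC) := inferInstance
  haveI : Algebra.FiniteType (A ⧸ m) (C ⧸ mC) :=
    Algebra.FiniteType.of_restrictScalars_finiteType A (A ⧸ m) (C ⧸ mC)
  have hQm : Q.comap (algebraMap A C) = m := hQc.trans hqm
  have hleq : mC ≤ q := by rw [hmC, Ideal.map_le_iff_le_comap, hqm]
  have hleQ : mC ≤ Q := by rw [hmC, Ideal.map_le_iff_le_comap, hQm]
  haveI hqb := map_mk_isPrime mC q hleq
  haveI hQb := map_mk_isPrime mC Q hleQ
  set qb := q.map (Ideal.Quotient.mk mC) with hqb_def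
  set Qb := Q.map (Ideal.Quotient.mk mC) with hQb_def
  have hQbqb : Qb ≤ qb := Ideal.map_mono hQq
  obtain ⟨Pb, hPbmin, hPbQb⟩ := Ideal.exists_minimalPrimes_le (I := ⊥) (J := Qb) bot_le
  haveI hPbp : Pb.IsPrime := hPbmin.1.1
  have hne : Pb ≠ Qb := by
    intro h
    have h1 : Q ∈ mC.minimalPrimes := by
      rw [Ideal.minimalPrimes_eq_comap]
      exact ⟨Qb, h ▸ hPbmin, comap_map_mk mC Q hleQ⟩
    exact hmin Q h1 hQq hgQ
  have e1 := height_map_add_trdeg (A ⧸ m) Qb qb hQbqb
  have e2 := height_map_add_trdeg (A ⧸ m) Pb Qb hPbQb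
  have e3 := height_map_add_trdeg (A ⧸ m) Pb qb (hPbQb.trans hQbqb)
  have e4 := height_map_le Pb qb (hPbQb.trans hQbqb)
  haveI hQPp := map_mk_isPrime Pb Qb hPbQb
  haveI : IsNoetherianRing (C ⧸ mC) := Algebra.FiniteType.isNoetherianRing (A ⧸ m) (C ⧸ mC)
  haveI : IsDomain ((C ⧸ mC) ⧸ Pb) := Ideal.Quotient.isDomain Pb
  have e5 : 1 ≤ (Qb.map (Ideal.Quotient.mk Pb)).height := by
    have hlt : (⊥ : Ideal ((C ⧸ mC) ⧸ Pb)) < Qb.map (Ideal.Quotient.mk Pb) := by
      rw [bot_lt_iff_ne_bot]
      intro h0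
      apply hne
      have := comap_map_mk Pb Qb hPbQb
      rw [h0, ← RingHom.ker_eq_comap_bot, Ideal.mk_ker] at this
      exact this
    haveI : (⊥ : Ideal ((C ⧸ mC) ⧸ Pb)).IsPrime := Ideal.isPrime_bot
    have := Ideal.height_strict_mono_of_isPrime_of_isPrime hlt
    exact Order.one_le_iff_pos.mpr (pos_of_gt this)
  have he' : Algebra.trdeg (A ⧸ m) ((C ⧸ mC) ⧸ qb) = e := by
    rw [← td_eq_trdeg_quotient_quotient m q hqm]; exact he
  rw [td_eq_trdeg_quotient_quotient m Q hQm]
  rw [hd] at e4
  -- finiteness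
  have h3fin : (qb.map (Ideal.Quotient.mk Pb)).height ≠ ⊤ := ne_top_of_le_ne_top (by simp) e4
  obtain ⟨h3, hh3⟩ := ENat.ne_top_iff_exists.mp h3fin
  rw [← hh3] at e3 e4
  have h3d : h3 ≤ d := by exact_mod_cast e4
  obtain ⟨tQ, htQ⟩ := exists_nat_trdeg_quotient (A ⧸ m) Qb
  rw [he'] at e3
  rw [htQ, ← e3] at e2
  rw [htQ]
  have h2fin : (Qb.map (Ideal.Quotient.mk Pb)).height ≠ ⊤ := by
    intro htop
    rw [htop] at e2
    simp at e2
    have h1 : ((h3 + e : ℕ) : Cardinal.{u}) < Cardinal.aleph0 := Cardinal.natCast_lt_aleph0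
    rw [Nat.cast_add, ← e2] at h1
    exact lt_irrefl _ h1
  obtain ⟨h2, hh2⟩ := ENat.ne_top_iff_exists.mp h2fin
  rw [← hh2] at e2 e5
  have h21 : 1 ≤ h2 := by exact_mod_cast e5
  have e2' : h2 + tQ = h3 + e := by exact_mod_cast e2
  have : tQ + 1 ≤ d + e := by omega
  exact_mod_cast this

/-- **Main (= S1404).** -/
theorem main {A B : Type u} [CommRing A] [CommRing B] [IsDomain A] [IsDomain B] [IsLocalRing A]
    [IsLocalRing B] [Algebra A B] [IsLocalHom (algebraMap A B)] [FaithfulSMul A B]
    [Algebra.EssFiniteType A B] (g : B) (hg : g ∈ IsLocalRing.maximalIdeal B)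
    (hmin : ∀ q ∈ (Ideal.map (algebraMap A B) (IsLocalRing.maximalIdeal A)).minimalPrimes, g ∉ q)
    (d e : ℕ)
    (hd : ringKrullDim (B ⧸ Ideal.map (algebraMap A B) (IsLocalRing.maximalIdeal A)) = d)
    (he : Algebra.trdeg (IsLocalRing.ResidueField A) (IsLocalRing.ResidueField B) = e)
    (hsum : Algebra.trdeg A B = (d + e : ℕ)) :
    Function.Injective (algebraMap A (B ⧸ Ideal.span {g})) := by
  let C := Algebra.EssFiniteType.subalgebra A B
  set m := IsLocalRing.maximalIdeal A with hm
  set n := IsLocalRing.maximalIdeal B with hn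
  have hinjAB : Injective (algebraMap A B) := FaithfulSMul.algebraMap_injective A B
  have hinjAC : Injective (algebraMap A C) := by
    intro x y hxy
    apply hinjAB
    rw [IsScalarTower.algebraMap_apply A C B, IsScalarTower.algebraMap_apply A C B, hxy]
  haveI : FaithfulSMul A C := (faithfulSMul_iff_algebraMap_injective A C).mpr hinjAC
  set q : Ideal C := n.comap (algebraMap C B) with hq
  haveI : q.IsPrime := Ideal.comap_isPrime _ _
  have hsub : Algebra.EssFiniteType.submonoid A B = q.primeCompl := by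
    ext c
    change IsUnit (algebraMap C B c) ↔ ¬ (algebraMap C B c ∈ n)
    rw [hn, IsLocalRing.mem_maximalIdeal, mem_nonunits_iff, not_not]
  haveI : IsLocalization.AtPrime B q := by
    have h1 : IsLocalization (Algebra.EssFiniteType.submonoid A B) B := inferInstance
    rw [hsub] at h1
    exact h1
  have hqm : q.comap (algebraMap A C) = m := by
    rw [hq, Ideal.comap_comap, ← IsScalarTower.algebraMap_eq, hn, hm]
    exact IsLocalRing.maximalIdeal_comap (algebraMap A B)
  set mC := m.map (algebraMap A C) with hmC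
  have hle : mC ≤ q := by rw [hmC, Ideal.map_le_iff_le_comap, hqm]
  have e1 : m.map (algebraMap A B) = mC.map (algebraMap C B) := by
    rw [hmC, Ideal.map_map, ← IsScalarTower.algebraMap_eq]
  have hM : q.primeCompl ≤ nonZeroDivisors C := by
    intro x hx
    exact mem_nonZeroDivisors_of_ne_zero (fun h0 => hx (h0 ▸ q.zero_mem))
  have hinjCB : Injective (algebraMap C B) := IsLocalization.injective B hM
  have hd' : (q.map (Ideal.Quotient.mk mC)).height = d := by
    have h := hd
    rw [ringKrullDim_quotient_congr e1, ringKrullDim_quotient_map_eq_height q mC hle] at h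
    exact_mod_cast h
  have he' : td (Ideal.quotientMap q (algebraMap A C) le_rfl) = e := by
    rw [← he, ← td_algebraMap]
    refine td_eq_of_square (Ideal.quotientMap q (algebraMap A C) le_rfl)
      (Ideal.quotientMap n (algebraMap C B) le_rfl)
      (Ideal.quotientMap m (RingHom.id A) (le_of_eq hqm))
      (algebraMap (IsLocalRing.ResidueField A) (IsLocalRing.ResidueField B)) ?_ ?_ ?_ ?_ ?_ ?_ ?_
    · apply Ideal.Quotient.ringHom_ext
      ext a
      change Ideal.Quotient.mk n (algebraMap C B (algebraMap A C a)) =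
        Ideal.Quotient.mk n (algebraMap A B a)
      rw [← IsScalarTower.algebraMap_apply]
    · exact Ideal.quotientMap_injective
    · exact Ideal.quotientMap_injective
    · exact Ideal.quotientMap_injective' (le_of_eq hqm.symm)
    · exact (algebraMap (IsLocalRing.ResidueField A) (IsLocalRing.ResidueField B)).injective
    · exact isAlgebraic_quotientMap_of_isLocalization q.primeCompl n q le_rfl
    · apply isAlgebraic_of_surjective
      exact Ideal.quotientMap_surjective (fun x => ⟨x, rfl⟩)
  have hsum' : Algebra.trdeg A C = ((d + e : ℕ) : Cardinal.{u}) := by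
    rw [← hsum, ← td_algebraMap, ← td_algebraMap]
    haveI : Algebra.IsAlgebraic C B := IsLocalization.isAlgebraic B q.primeCompl
    refine td_eq_of_square (algebraMap A C) (algebraMap C B) (RingHom.id A) (algebraMap A B)
      ?_ hinjAC hinjCB injective_id hinjAB ?_ ?_
    · ext a
      simp [← IsScalarTower.algebraMap_apply]
    · exact isAlgebraic_toAlgebra_algebraMap
    · exact isAlgebraic_of_surjective _ surjective_id
  -- the element `g`
  obtain ⟨g', s, hgs⟩ := IsLocalization.exists_mk'_eq q.primeCompl g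
  have hgs' : g * algebraMap C B s = algebraMap C B g' := by
    rw [← hgs]
    exact IsLocalization.mk'_spec _ _ _
  have hunit : IsUnit (algebraMap C B s) := IsLocalization.map_units B s
  have hg'q : g' ∈ q := by
    change algebraMap C B g' ∈ n
    rw [← hgs']
    exact n.mul_mem_right _ hg
  have hmin' : ∀ Q₁ ∈ mC.minimalPrimes, Q₁ ≤ q → g' ∉ Q₁ := by
    intro Q₁ hQ₁ hQ₁q hg'Q₁
    haveI hQ₁p : Q₁.IsPrime := hQ₁.1.1
    have hdisj : Disjoint (q.primeCompl : Set C) (Q₁ : Set C) := by
      rw [Set.disjoint_left]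
      intro x hx hxQ
      exact hx (hQ₁q hxQ)
    have hcm : (Q₁.map (algebraMap C B)).comap (algebraMap C B) = Q₁ :=
      IsLocalization.under_map_of_isPrime_disjoint q.primeCompl B hQ₁p hdisj
    have hmem : Q₁.map (algebraMap C B) ∈ (m.map (algebraMap A B)).minimalPrimes := by
      rw [e1, IsLocalization.minimalPrimes_map q.primeCompl B mC]
      change (Q₁.map (algebraMap C B)).comap (algebraMap C B) ∈ mC.minimalPrimes
      rw [hcm]
      exact hQ₁
    apply hmin _ hmem
    have h1 : algebraMap C B g' ∈ Q₁.map (algebraMap C B) := Ideal.mem_map_of_mem _ hg'Q₁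
    rw [← hgs'] at h1
    exact (Ideal.mul_unit_mem_iff_mem _ hunit).mp h1
  have H2 := H2_of_fibre q hqm g' d e hd' he' hmin'
  obtain ⟨P, hPp, hgP, hPq, hPA⟩ := exists_prime_horizontal q hqm g' hg'q (d + e) hsum' H2
  rw [injective_iff_map_eq_zero]
  intro a ha
  have h1 : algebraMap A B a ∈ Ideal.span {g} := by
    rw [IsScalarTower.algebraMap_apply A B (B ⧸ Ideal.span {g})] at ha
    exact Ideal.Quotient.eq_zero_iff_mem.mp ha
  obtain ⟨b, hb⟩ := Ideal.mem_span_singleton'.mp h1
  obtain ⟨c, t, hct⟩ := IsLocalization.exists_mk'_eq q.primeCompl b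
  have h2 : algebraMap C B (algebraMap A C a * t * s) = algebraMap C B (c * g') := by
    rw [map_mul, map_mul, map_mul, ← IsScalarTower.algebraMap_apply, ← hb, ← hgs', ← hct]
    have := IsLocalization.mk'_spec B c t
    rw [← this]
    ring
  have h3 := hinjCB h2
  have h4 : algebraMap A C a * t * s ∈ P := by
    rw [h3]
    exact P.mul_mem_left _ hgP
  have hnot : ∀ u : q.primeCompl, (u : C) ∉ P := fun u hu => u.2 (hPq hu)
  have h5 := (hPp.mem_or_mem h4).resolve_right (hnot s)
  have h6 := (hPp.mem_or_mem h5).resolve_right (hnot t)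
  have h7 : a ∈ P.comap (algebraMap A C) := h6
  rw [hPA, Ideal.mem_bot] at h7
  exact h7

end Groth.Agent.Lib.helper3.HorizPrime
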