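import Mathlib
import Groth.Agent.Lib.Helper3.HorizPrime5
import Groth.Agent.Lib.Helper3.DimIneqStrict
/-!
# Horizontal primes avoiding a given element (helper3; towards S1374)

* `exists_prime_avoiding_of_infinite` : counting height-one primes of the generic fibre: if for
  infinitely many `a ∈ R` there is a horizontal prime through `h + a` inside `q`, then for some `a`
  there is such a prime not containing a prescribed `g ≠ 0`.
-/

set_option autoImplicit false
set_option linter.style.haveILetI false
set_option linter.unusedSectionVars false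
universe u
open Function

namespace Groth.Agent.Lib.helper3.HorizPrime

open Groth.Agent.Lib.helper3.DimIneq Groth.Agent.Lib.helper3.FTField
  Groth.Agent.Lib.helper3.FibreParam Groth.Agent.Lib.helper3.FlatFibDim

theorem exists_prime_avoiding_of_infinite {R B : Type u} [CommRing R] [IsDomain R] [CommRing B]
    [IsDomain B] [Algebra R B] [Algebra.FiniteType R B] [FaithfulSMul R B] (h g : B) (hg : g ≠ 0)
    (q : Ideal B) (Sa : Set R) (hS : Sa.Infinite)
    (H : ∀ a ∈ Sa, ∃ P : Ideal B, P.IsPrime ∧ h + algebraMap R B a ∈ P ∧ P ≤ q ∧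
      P.comap (algebraMap R B) = ⊥) :
    ∃ a ∈ Sa, ∃ P : Ideal B, P.IsPrime ∧ h + algebraMap R B a ∈ P ∧ P ≤ q ∧
      P.comap (algebraMap R B) = ⊥ ∧ g ∉ P := by
  classical
  by_contra hcon
  push Not at hcon
  choose! P hPp hhP hPq hPA using H
  have hinjRB : Injective (algebraMap R B) := FaithfulSMul.algebraMap_injective R B
  let M : Submonoid B := (nonZeroDivisors R).map (algebraMap R B)
  let K := FractionRing R
  let BK := Localization M
  have hM : M ≤ nonZeroDivisors B := by
    rintro _ ⟨a, ha, rfl⟩
    exact mem_nonZeroDivisors_of_ne_zero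
      ((map_ne_zero_iff _ hinjRB).mpr (nonZeroDivisors.ne_zero ha))
  haveI : IsDomain BK := IsLocalization.isDomain_localization hM
  let ψ : K →+* BK := IsLocalization.map BK (algebraMap R B)
    (Submonoid.le_comap_map (nonZeroDivisors R))
  have hψft : ψ.FiniteType := RingHom.finiteType_localizationPreserves (algebraMap R B)
    (nonZeroDivisors R) K BK (RingHom.finiteType_algebraMap.mpr inferInstance)
  haveI : IsNoetherianRing BK := by
    letI := ψ.toAlgebra
    haveI : Algebra.FiniteType K BK := hψft
    exact Algebra.FiniteType.isNoetherianRing K BK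
  have hinj : Injective (algebraMap B BK) := IsLocalization.injective BK hM
  have hdisj : ∀ Q : Ideal B, Q.comap (algebraMap R B) = ⊥ → Disjoint (M : Set B) (Q : Set B) := by
    intro Q hQ
    rw [Set.disjoint_left]
    rintro _ ⟨a, ha, rfl⟩ haQ
    have : a ∈ Q.comap (algebraMap R B) := haQ
    rw [hQ, Ideal.mem_bot] at this
    exact nonZeroDivisors.ne_zero ha this
  -- the minimal primes `Mn a`
  have hex : ∀ a ∈ Sa, ∃ Mn : Ideal BK,
      Mn ∈ (Ideal.span {algebraMap B BK (h + algebraMap R B a)}).minimalPrimes ∧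
      Mn ≤ (P a).map (algebraMap B BK) := by
    intro a ha
    haveI : ((P a).map (algebraMap B BK)).IsPrime :=
      IsLocalization.isPrime_of_isPrime_disjoint M BK _ (hPp a ha) (hdisj _ (hPA a ha))
    apply Ideal.exists_minimalPrimes_le
    rw [Ideal.span_le, Set.singleton_subset_iff]
    exact Ideal.mem_map_of_mem _ (hhP a ha)
  choose! Mn hMnmin hMnle using hex
  have hMnp : ∀ a ∈ Sa, (Mn a).IsPrime := fun a ha => (hMnmin a ha).1.1
  have hMnx : ∀ a ∈ Sa, algebraMap B BK (h + algebraMap R B a) ∈ Mn a := fun a ha =>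
    (hMnmin a ha).1.2 (Ideal.subset_span rfl)
  have hMncomap : ∀ a ∈ Sa, (Mn a).comap (algebraMap B BK) ≤ P a := by
    intro a ha
    have h1 := Ideal.comap_mono (f := algebraMap B BK) (hMnle a ha)
    have h2 : ((P a).map (algebraMap B BK)).comap (algebraMap B BK) = P a :=
      IsLocalization.under_map_of_isPrime_disjoint M BK (hPp a ha) (hdisj _ (hPA a ha))
    rwa [h2] at h1
  have hgMn : ∀ a ∈ Sa, algebraMap B BK g ∈ Mn a := by
    intro a ha
    haveI := hMnp a ha
    have hp : ((Mn a).comap (algebraMap B BK)).IsPrime := Ideal.comap_isPrime _ _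
    have hA : ((Mn a).comap (algebraMap B BK)).comap (algebraMap R B) = ⊥ := by
      rw [eq_bot_iff, ← hPA a ha]
      exact Ideal.comap_mono (hMncomap a ha)
    exact hcon a ha _ hp (hMnx a ha) ((hMncomap a ha).trans (hPq a ha)) hA
  have hg' : algebraMap B BK g ≠ 0 := (map_ne_zero_iff _ hinj).mpr hg
  have hmem : ∀ a ∈ Sa, Mn a ∈ (Ideal.span {algebraMap B BK g}).minimalPrimes := by
    intro a ha
    haveI := hMnp a ha
    have hht : (Mn a).height ≤ 1 :=
      Ideal.height_le_one_of_isPrincipal_of_mem_minimalPrimes _ _ (hMnmin a ha)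
    refine ⟨⟨inferInstance, ?_⟩, ?_⟩
    · rw [Ideal.span_le, Set.singleton_subset_iff]
      exact hgMn a ha
    · intro Q' hQ' hQ'le
      haveI := hQ'.1
      by_contra hnot
      have hlt : Q' < Mn a := lt_of_le_of_ne hQ'le (fun h => hnot (h ▸ le_rfl))
      have h1 : Q'.height < (Mn a).height := Ideal.height_strict_mono_of_isPrime_of_isPrime hlt
      have h2 : Q'.height = 0 := by
        have : Q'.height < 1 := lt_of_lt_of_le h1 hht
        exact Order.lt_one_iff.mp this
      rw [Ideal.height_eq_zero_iff_eq_bot] at h2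
      have : algebraMap B BK g ∈ Q' := hQ'.2 (Ideal.subset_span rfl)
      rw [h2, Ideal.mem_bot] at this
      exact hg' this
  have hfin : (Ideal.span {algebraMap B BK g}).minimalPrimes.Finite :=
    Ideal.finite_minimalPrimes_of_isNoetherianRing _ _
  obtain ⟨a, ha, b, hb, hab, hMab⟩ := hS.exists_ne_map_eq_of_mapsTo (f := Mn) hmem hfin
  apply hab
  haveI := hMnp a ha
  have h1 := hMnx a ha
  have h2 := hMnx b hb
  rw [← hMab] at h2
  have h3 : algebraMap B BK (algebraMap R B (a - b)) ∈ Mn a := by
    have := (Mn a).sub_mem h1 h2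
    rw [← map_sub] at this
    have e : h + algebraMap R B a - (h + algebraMap R B b) = algebraMap R B (a - b) := by
      rw [map_sub]; ring
    rwa [e] at this
  have h4 : a - b ∈ (P a).comap (algebraMap R B) := hMncomap a ha h3
  rw [hPA a ha, Ideal.mem_bot] at h4
  exact sub_eq_zero.mp h4

end Groth.Agent.Lib.helper3.HorizPrime
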