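import Mathlib
import Groth.Agent.Lib.Helper3.HorizPrime6
/-!
# Horizontal primes avoiding a given element, flat case (helper3; towards S1374)

`exists_prime_horizontal_avoiding_flat` : `V` a local domain which is not a field, `B ⊇ V` a flat
domain of finite type of transcendence degree `d ≥ 1`, `q` a prime over `𝔪_V` with residue field
algebraic over `κ(V)`, `g ≠ 0`.  Then there is a nonzero prime `q₂ ≤ q` with `q₂ ∩ V = 0`, `g ∉ q₂`.
-/

set_option autoImplicit false
set_option linter.style.haveILetI false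
set_option linter.unusedSectionVars false
universe u
open Function

namespace Groth.Agent.Lib.helper3.HorizPrime

open Groth.Agent.Lib.helper3.DimIneq Groth.Agent.Lib.helper3.FTField
  Groth.Agent.Lib.helper3.FibreParam Groth.Agent.Lib.helper3.FlatFibDim

theorem exists_prime_horizontal_avoiding_flat {V B : Type u} [CommRing V] [IsDomain V]
    [IsLocalRing V] [CommRing B] [IsDomain B] [Algebra V B] [Algebra.FiniteType V B]
    [FaithfulSMul V B] [Module.Flat V B] (hV : ¬ IsField V) (q : Ideal B) [q.IsPrime]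
    (hqm : q.comap (algebraMap V B) = IsLocalRing.maximalIdeal V)
    (hqtd : td (Ideal.quotientMap q (algebraMap V B) le_rfl) = 0)
    (d : ℕ) (hd : Algebra.trdeg V B = d) (hd1 : 1 ≤ d) (g : B) (hg : g ≠ 0) :
    ∃ q₂ : Ideal B, q₂.IsPrime ∧ q₂ ≠ ⊥ ∧ q₂ ≤ q ∧ q₂.comap (algebraMap V B) = ⊥ ∧ g ∉ q₂ := by
  classical
  haveI : Module.Flat V (Localization.AtPrime q) := Module.Flat.trans V B (Localization.AtPrime q)
  obtain ⟨d', e', hd', he', hsum⟩ := core (B := Localization.AtPrime q) q hqm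
  have he0 : e' = 0 := by
    rw [hqtd] at he'
    exact_mod_cast he'.symm
  have hdd : d' = d := by
    rw [hd, he0] at hsum
    have : d = d' + 0 := by exact_mod_cast hsum
    omega
  subst hdd
  subst he0
  set m := IsLocalRing.maximalIdeal V with hm
  set mC := m.map (algebraMap V B) with hmC
  letI : Field (V ⧸ m) := Ideal.Quotient.field m
  haveI : Algebra.FiniteType V (B ⧸ mC) := inferInstance
  haveI : Algebra.FiniteType (V ⧸ m) (B ⧸ mC) :=
    Algebra.FiniteType.of_restrictScalars_finiteType V (V ⧸ m) (B ⧸ mC)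
  haveI : IsNoetherianRing (B ⧸ mC) := Algebra.FiniteType.isNoetherianRing (V ⧸ m) (B ⧸ mC)
  have hleq : mC ≤ q := by rw [hmC, Ideal.map_le_iff_le_comap, hqm]
  haveI hqb := map_mk_isPrime mC q hleq
  set qb := q.map (Ideal.Quotient.mk mC) with hqb_def
  -- prime avoidance
  have hfin : (minimalPrimes (B ⧸ mC)).Finite := minimalPrimes.finite_of_isNoetherianRing _
  have hav : ∃ hb ∈ qb, ∀ Pm ∈ minimalPrimes (B ⧸ mC), hb ∉ Pm := by
    by_contra hcon
    push Not at hcon
    have hsub : (qb : Set (B ⧸ mC)) ⊆ ⋃ Pm ∈ (↑hfin.toFinset : Set (Ideal (B ⧸ mC))), (Pm : Set (B ⧸ mC)) := by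
      intro x hx
      obtain ⟨Pm, hPm, hxPm⟩ := hcon x hx
      simp only [Set.mem_iUnion]
      exact ⟨Pm, by simpa using hPm, hxPm⟩
    rw [Ideal.subset_union_prime (f := fun Pm : Ideal (B ⧸ mC) => Pm) ⊥ ⊥ (by
      intro Pm hPm _ _
      rw [Set.Finite.mem_toFinset] at hPm
      exact hPm.1.1)] at hsub
    obtain ⟨Pm, hPm, hle⟩ := hsub
    rw [Set.Finite.mem_toFinset] at hPm
    have hge : Pm ≤ qb := hPm.2 ⟨hqb, bot_le⟩ hle
    have heq : qb = Pm := le_antisymm hle hge
    have h0 : qb.height = 0 := by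
      rw [Ideal.height_eq_zero_iff, heq]
      exact hPm
    rw [hd'] at h0
    have : d' = 0 := by exact_mod_cast h0
    omega
  obtain ⟨hb, hbq, hbmin⟩ := hav
  obtain ⟨h, hhq, rfl⟩ := (Ideal.mem_map_iff_of_surjective _ Ideal.Quotient.mk_surjective).mp hbq
  obtain ⟨Pm₀, hPm₀, -⟩ := Ideal.exists_minimalPrimes_le (I := ⊥) (J := qb) bot_le
  -- infinitely many `a`
  have hmne : m ≠ ⊥ := fun h0 => hV (IsLocalRing.isField_iff_maximalIdeal_eq.mpr h0)
  obtain ⟨a₀, ha₀m, ha₀0⟩ := Submodule.exists_mem_ne_zero_of_ne_bot hmne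
  have ha₀u : ¬ IsUnit a₀ := (IsLocalRing.mem_maximalIdeal a₀).mp ha₀m
  have hSinf : (m : Set V).Infinite := by
    apply Set.infinite_of_injective_forall_mem (f := fun n : ℕ => a₀ ^ (n + 1))
    · intro i j hij
      have := pow_injective_of_not_isUnit ha₀u ha₀0 hij
      omega
    · intro n
      exact Ideal.pow_mem_of_mem m ha₀m (n + 1) (Nat.succ_pos n)
  have hmk0 : ∀ a ∈ m, Ideal.Quotient.mk mC (algebraMap V B a) = 0 := by
    intro a ha
    exact Ideal.Quotient.eq_zero_iff_mem.mpr (Ideal.mem_map_of_mem _ ha)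
  have H : ∀ a ∈ (m : Set V), ∃ P : Ideal B, P.IsPrime ∧ h + algebraMap V B a ∈ P ∧ P ≤ q ∧
      P.comap (algebraMap V B) = ⊥ := by
    intro a ha
    have hmin : ∀ Q₁ ∈ mC.minimalPrimes, Q₁ ≤ q → h + algebraMap V B a ∉ Q₁ := by
      intro Q₁ hQ₁ _ hmem
      rw [Ideal.minimalPrimes_eq_comap] at hQ₁
      obtain ⟨Pm, hPm, rfl⟩ := hQ₁
      rw [Ideal.mem_comap, map_add, hmk0 a ha, add_zero] at hmem
      exact hbmin Pm hPm hmem
    have H2 := H2_of_fibre q hqm (h + algebraMap V B a) d' 0 hd' he' hmin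
    have haq : algebraMap V B a ∈ q := by
      have : a ∈ q.comap (algebraMap V B) := by rw [hqm]; exact ha
      exact this
    obtain ⟨P, hPp, hgP, hPq, hPA⟩ := exists_prime_horizontal q hqm (h + algebraMap V B a)
      (q.add_mem hhq haq) (d' + 0) hsum H2
    exact ⟨P, hPp, hgP, hPq, hPA⟩
  obtain ⟨a, ha, P, hPp, hhP, hPq, hPA, hgP⟩ :=
    exists_prime_avoiding_of_infinite h g hg q (m : Set V) hSinf H
  refine ⟨P, hPp, ?_, hPq, hPA, hgP⟩
  intro hP0
  rw [hP0, Ideal.mem_bot] at hhP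
  apply hbmin Pm₀ hPm₀
  have : Ideal.Quotient.mk mC h = 0 := by
    have h1 := congrArg (Ideal.Quotient.mk mC) hhP
    rwa [map_add, hmk0 a ha, add_zero, map_zero] at h1
  rw [this]
  exact Pm₀.zero_mem

end Groth.Agent.Lib.helper3.HorizPrime
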