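import Mathlib
import Groth.Agent.Lib.Helper3.HorizPrime7
import Groth.Agent.Lib.Helper12.ChevExt1
import Groth.Agent.Lib.Helper3.ValFibreDimEq
/-!
# A flat model over a valuation ring dominating the base (helper3; towards S1374)
-/

set_option autoImplicit false
set_option linter.style.haveILetI false
set_option linter.unusedSectionVars false
set_option maxHeartbeats 1000000
universe u
open Function

namespace Groth.Agent.Lib.helper3.HorizPrime

open Groth.Agent.Lib.helper3.DimIneq Groth.Agent.Lib.helper3.FTField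
  Groth.Agent.Lib.helper3.FibreParam Groth.Agent.Lib.helper3.FlatFibDim

/-- transfer of `td = 0` along embeddings into a common algebraic overring. -/
theorem td_eq_zero_of_embeds {R S R' S' Ω : Type u} [CommRing R] [CommRing S] [NoZeroDivisors S]
    [CommRing R'] [CommRing S'] [CommRing Ω] [IsDomain Ω]
    (α : R →+* S) (α' : R' →+* S') (γ : R →+* R') (θ : S →+* Ω) (θ' : S' →+* Ω)
    (hγ : Injective γ) (hθ' : Injective θ')
    (hcomm : (θ'.comp α').comp γ = θ.comp α) (hα : td α = 0)
    (hθ : @Algebra.IsAlgebraic S Ω _ _ θ.toAlgebra) : td α' = 0 := by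
  letI a1 : Algebra R S := α.toAlgebra
  letI a2 : Algebra S Ω := θ.toAlgebra
  letI a3 : Algebra R Ω := (θ.comp α).toAlgebra
  haveI : IsScalarTower R S Ω := IsScalarTower.of_algebraMap_eq (fun x => rfl)
  haveI h1 : Algebra.IsAlgebraic R S := trdeg_eq_zero_iff.mp hα
  haveI h2 : Algebra.IsAlgebraic S Ω := hθ
  haveI h3 : Algebra.IsAlgebraic R Ω := Algebra.IsAlgebraic.trans R S Ω
  letI a4 : Algebra R R' := γ.toAlgebra
  letI a5 : Algebra R' Ω := (θ'.comp α').toAlgebra
  haveI : IsScalarTower R R' Ω := IsScalarTower.of_algebraMap_eq (fun x => by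
    change (θ.comp α) x = (θ'.comp α') (γ x)
    rw [← hcomm]; rfl)
  haveI h4 : Algebra.IsAlgebraic R' Ω := Algebra.IsAlgebraic.extendScalars (R := R) hγ
  letI a6 : Algebra R' S' := α'.toAlgebra
  letI a7 : Algebra S' Ω := θ'.toAlgebra
  haveI : IsScalarTower R' S' Ω := IsScalarTower.of_algebraMap_eq (fun x => rfl)
  haveI h5 : Algebra.IsAlgebraic R' S' := Algebra.IsAlgebraic.tower_bot_of_injective (A := Ω) hθ'
  exact trdeg_eq_zero

/-- residue transcendence degree zero for the kernel of a place extending an algebraic place. -/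
theorem td_ker_eq_zero {A B V B' Ω : Type u} [CommRing A] [CommRing B] [CommRing V] [CommRing B']
    [CommRing Ω] [IsDomain Ω] [Algebra A B] [Algebra V B'] (jA : A →+* V) (ιB : B →+* B')
    (hsq : ιB.comp (algebraMap A B) = (algebraMap V B').comp jA) (q : Ideal B) [q.IsPrime]
    (θ : B ⧸ q →+* Ω) (hθinj : Injective θ)
    (hθalg : @Algebra.IsAlgebraic (B ⧸ q) Ω _ _ θ.toAlgebra) (G : B' →+* Ω)
    (hG : ∀ b, G (ιB b) = θ (Ideal.Quotient.mk q b))
    (hqtd : td (Ideal.quotientMap q (algebraMap A B) le_rfl) = 0) :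
    td (Ideal.quotientMap (RingHom.ker G) (algebraMap V B') le_rfl) = 0 := by
  haveI : IsDomain (B ⧸ q) := Ideal.Quotient.isDomain q
  have hq''B : (RingHom.ker G).comap ιB = q := by
    ext b
    rw [Ideal.mem_comap, RingHom.mem_ker, hG, map_eq_zero_iff _ hθinj,
      Ideal.Quotient.eq_zero_iff_mem]
  have hle' : q.comap (algebraMap A B) ≤ ((RingHom.ker G).comap (algebraMap V B')).comap jA := by
    intro a ha
    rw [Ideal.mem_comap, Ideal.mem_comap]
    have h1 : algebraMap V B' (jA a) = ιB (algebraMap A B a) := (RingHom.congr_fun hsq a).symm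
    rw [h1, ← Ideal.mem_comap, hq''B]
    exact ha
  have hge' : ((RingHom.ker G).comap (algebraMap V B')).comap jA ≤ q.comap (algebraMap A B) := by
    intro a ha
    rw [Ideal.mem_comap, Ideal.mem_comap] at ha
    have h1 : algebraMap V B' (jA a) = ιB (algebraMap A B a) := (RingHom.congr_fun hsq a).symm
    rw [h1, ← Ideal.mem_comap, hq''B] at ha
    exact ha
  refine td_eq_zero_of_embeds (Ideal.quotientMap q (algebraMap A B) le_rfl)
    (Ideal.quotientMap (RingHom.ker G) (algebraMap V B') le_rfl)
    (Ideal.quotientMap ((RingHom.ker G).comap (algebraMap V B')) jA hle') θ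
    (RingHom.kerLift G) (Ideal.quotientMap_injective' hge')
    (RingHom.kerLift_injective _) ?_ hqtd hθalg
  apply Ideal.Quotient.ringHom_ext
  ext a
  change G (algebraMap V B' (jA a)) = θ (Ideal.Quotient.mk q (algebraMap A B a))
  have h1 : algebraMap V B' (jA a) = ιB (algebraMap A B a) := (RingHom.congr_fun hsq a).symm
  rw [h1, hG]

theorem exists_valuation_model {A B : Type u} [CommRing A] [IsDomain A]
    [CommRing B] [IsDomain B] [Algebra A B] [Algebra.FiniteType A B] [FaithfulSMul A B]
    (q : Ideal B) [q.IsPrime]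
    (hqtd : td (Ideal.quotientMap q (algebraMap A B) le_rfl) = 0) :
    ∃ (V : Type u) (_ : CommRing V) (_ : IsDomain V) (_ : ValuationRing V)
      (B' : Type u) (_ : CommRing B') (_ : IsDomain B') (_ : Algebra V B')
      (_ : Algebra.FiniteType V B') (jA : A →+* V) (ιB : B →+* B') (q'' : Ideal B'),
      Injective jA ∧ Injective ιB ∧ Injective (algebraMap V B') ∧
      ιB.comp (algebraMap A B) = (algebraMap V B').comp jA ∧
      q''.IsPrime ∧ q''.comap ιB = q ∧
      q''.comap (algebraMap V B') = IsLocalRing.maximalIdeal V ∧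
      td (Ideal.quotientMap q'' (algebraMap V B') le_rfl) = 0 ∧
      Algebra.trdeg V B' = Algebra.trdeg A B ∧
      ∀ y : B', y ≠ 0 → ∃ b₁ b₂ : B, b₂ ≠ 0 ∧ y * ιB b₂ = ιB b₁ := by
  classical
  have hinjAB : Injective (algebraMap A B) := FaithfulSMul.algebraMap_injective A B
  let L := FractionRing B
  let K := FractionRing A
  have hinjBL : Injective (algebraMap B L) := IsFractionRing.injective B L
  haveI : FaithfulSMul A L := by
    rw [faithfulSMul_iff_algebraMap_injective, IsScalarTower.algebraMap_eq A B L]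
    exact hinjBL.comp hinjAB
  letI algKL : Algebra K L := FractionRing.liftAlgebra A L
  haveI : IsScalarTower A K L := FractionRing.isScalarTower_liftAlgebra A L
  -- the place
  let Ω := AlgebraicClosure (FractionRing (B ⧸ q))
  have hθinj : Injective (algebraMap (B ⧸ q) Ω) := by
    rw [IsScalarTower.algebraMap_eq (B ⧸ q) (FractionRing (B ⧸ q)) Ω]
    exact (algebraMap (FractionRing (B ⧸ q)) Ω).injective.comp
      (IsFractionRing.injective (B ⧸ q) (FractionRing (B ⧸ q)))
  let f₀ : B →+* Ω := (algebraMap (B ⧸ q) Ω).comp (Ideal.Quotient.mk q)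
  have hf₀ker : ∀ b, f₀ b = 0 ↔ b ∈ q := by
    intro b
    change algebraMap (B ⧸ q) Ω (Ideal.Quotient.mk q b) = 0 ↔ _
    rw [map_eq_zero_iff _ hθinj, Ideal.Quotient.eq_zero_iff_mem]
  let B₀ : Subring L := (algebraMap B L).range
  let e₀ : B ≃+* B₀ := RingEquiv.ofBijective (algebraMap B L).rangeRestrict
    ⟨fun x y hxy => hinjBL (congrArg Subtype.val hxy), (algebraMap B L).rangeRestrict_surjective⟩
  let f₀' : B₀ →+* Ω := f₀.comp e₀.symm.toRingHom
  obtain ⟨W, hle, gW, hgW, hker⟩ :=
    Groth.Agent.Lib.helper12.ChevExt.exists_valuationSubring_extending B₀ f₀'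
  have hBW : ∀ b : B, algebraMap B L b ∈ W := fun b => hle ⟨b, rfl⟩
  have hgWB : ∀ b : B, gW ⟨algebraMap B L b, hBW b⟩ = f₀ b := by
    intro b
    have h1 := hgW ⟨algebraMap B L b, ⟨b, rfl⟩⟩
    rw [h1]
    change f₀ (e₀.symm ⟨algebraMap B L b, ⟨b, rfl⟩⟩) = f₀ b
    congr 1
    rw [RingEquiv.symm_apply_eq]
    rfl
  let V : ValuationSubring K := W.comap (algebraMap K L)
  have hAK_L : ∀ a : A, algebraMap K L (algebraMap A K a) = algebraMap B L (algebraMap A B a) := by
    intro a
    rw [← IsScalarTower.algebraMap_apply A K L, ← IsScalarTower.algebraMap_apply A B L]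
  have hAV : ∀ a : A, algebraMap A K a ∈ V := by
    intro a
    change algebraMap K L (algebraMap A K a) ∈ W
    rw [hAK_L]
    exact hBW _
  let jA : A →+* V := (algebraMap A K).codRestrict V hAV
  have hjA : Injective jA := by
    intro x y hxy
    apply IsFractionRing.injective A K
    exact congrArg Subtype.val hxy
  let φV : V →+* L := (algebraMap K L).comp V.subtype
  have hφV : Injective φV := (algebraMap K L).injective.comp Subtype.val_injective
  have hφVW : ∀ v : V, φV v ∈ W := fun v => v.2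
  letI algVL : Algebra V L := φV.toAlgebra
  obtain ⟨s, hs⟩ := (Algebra.FiniteType.out : (⊤ : Subalgebra A B).FG)
  let B' : Subalgebra V L := Algebra.adjoin V ((algebraMap B L) '' (s : Set B))
  haveI : Algebra.FiniteType V B' := by
    rw [← Subalgebra.fg_iff_finiteType]
    exact ⟨s.image (algebraMap B L), by rw [Finset.coe_image]⟩
  have hBB' : ∀ b : B, algebraMap B L b ∈ B' := by
    intro b
    have hb : b ∈ Algebra.adjoin A (s : Set B) := by rw [hs]; exact Algebra.mem_top
    induction hb using Algebra.adjoin_induction with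
    | mem x hx => exact Algebra.subset_adjoin ⟨x, hx, rfl⟩
    | algebraMap a =>
      have : algebraMap B L (algebraMap A B a) = algebraMap V L (jA a) := by
        rw [← hAK_L]; rfl
      rw [this]
      exact Subalgebra.algebraMap_mem B' _
    | add x y _ _ hx hy => rw [map_add]; exact B'.add_mem hx hy
    | mul x y _ _ hx hy => rw [map_mul]; exact B'.mul_mem hx hy
  let ιB : B →+* B' := (algebraMap B L).codRestrict B' hBB'
  have hιB : Injective ιB := fun x y hxy => hinjBL (congrArg Subtype.val hxy)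
  have hB'W : ∀ y : B', (y : L) ∈ W := by
    intro y
    have : B' ≤ ({ W.toSubring with algebraMap_mem' := fun v => hφVW v } : Subalgebra V L) := by
      apply Algebra.adjoin_le
      rintro _ ⟨b, _, rfl⟩
      exact hBW b
    exact this y.2
  let ιW : B' →+* W := (B'.val.toRingHom).codRestrict W hB'W
  let q'' : Ideal B' := RingHom.ker (gW.comp ιW)
  haveI : q''.IsPrime := RingHom.ker_isPrime _
  have hιWιB : ∀ b : B, gW (ιW (ιB b)) = f₀ b := fun b => hgWB b
  have hsq : ιB.comp (algebraMap A B) = (algebraMap V B').comp jA := by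
    ext a
    change algebraMap B L (algebraMap A B a) = algebraMap K L (algebraMap A K a)
    rw [hAK_L]
  have hinjVB' : Injective (algebraMap V B') := by
    intro v w hvw
    apply hφV
    exact congrArg Subtype.val hvw
  have hq''B : q''.comap ιB = q := by
    ext b
    rw [Ideal.mem_comap, RingHom.mem_ker, RingHom.comp_apply, hιWιB, hf₀ker]
  let jV : V →+* W := φV.codRestrict W hφVW
  have hjV : ∀ v : V, ιW (algebraMap V B' v) = jV v := fun v => rfl
  have hunit : ∀ v : V, IsUnit (jV v) → IsUnit v := by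
    intro v hu
    have hv0 : (v : K) ≠ 0 := by
      intro h0
      have : jV v = 0 := by
        apply Subtype.ext
        change algebraMap K L (v : K) = 0
        rw [h0, map_zero]
      rw [this] at hu
      exact not_isUnit_zero hu
    obtain ⟨u, hu'⟩ := hu
    have h1 : algebraMap K L (v : K) * ((u⁻¹ : Wˣ) : W) = 1 := by
      have h2 : (u : W) * ((u⁻¹ : Wˣ) : W) = 1 := Units.mul_inv u
      rw [hu'] at h2
      exact congrArg Subtype.val h2
    have hxV : (v : K)⁻¹ ∈ V := by
      change algebraMap K L ((v : K)⁻¹) ∈ W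
      have h3 : algebraMap K L ((v : K)⁻¹) = (((u⁻¹ : Wˣ) : W) : L) := by
        rw [map_inv₀]
        exact inv_eq_of_mul_eq_one_right h1
      rw [h3]
      exact Subtype.mem _
    apply IsUnit.of_mul_eq_one (⟨(v : K)⁻¹, hxV⟩ : V)
    apply Subtype.ext
    change (v : K) * (v : K)⁻¹ = 1
    exact mul_inv_cancel₀ hv0
  have hq''V : q''.comap (algebraMap V B') = IsLocalRing.maximalIdeal V := by
    ext v
    rw [Ideal.mem_comap, RingHom.mem_ker, RingHom.comp_apply, hjV, ← RingHom.mem_ker, hker,
      IsLocalRing.mem_maximalIdeal, IsLocalRing.mem_maximalIdeal, mem_nonunits_iff,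
      mem_nonunits_iff, not_iff_not]
    exact ⟨hunit v, fun h => h.map jV⟩
  have hfrac : ∀ y : B', ∃ b₁ b₂ : B, b₂ ≠ 0 ∧ y * ιB b₂ = ιB b₁ := by
    intro y
    obtain ⟨b₁, b₂, hb⟩ := IsLocalization.exists_mk'_eq (nonZeroDivisors B) (y : L)
    refine ⟨b₁, b₂, nonZeroDivisors.ne_zero b₂.2, ?_⟩
    apply Subtype.ext
    change (y : L) * algebraMap B L b₂ = algebraMap B L b₁
    rw [← hb]
    exact IsLocalization.mk'_spec _ _ _
  have hfracV : ∀ y : V, ∃ a c : A, a ≠ 0 ∧ jA a * y = jA c := by
    intro y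
    obtain ⟨c, a, hb⟩ := IsLocalization.exists_mk'_eq (nonZeroDivisors A) (y : K)
    refine ⟨a, c, nonZeroDivisors.ne_zero a.2, ?_⟩
    apply Subtype.ext
    change algebraMap A K a * (y : K) = algebraMap A K c
    rw [← hb, mul_comm]
    exact IsLocalization.mk'_spec _ _ _
  have htr : Algebra.trdeg V B' = Algebra.trdeg A B := by
    rw [← td_algebraMap, ← td_algebraMap]
    symm
    refine td_eq_of_square (algebraMap A B) ιB jA (algebraMap V B') hsq hinjAB hιB hjA hinjVB'
      ?_ ?_
    · apply isAlgebraic_of_forall_exists_mul_eq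
      intro y
      obtain ⟨b₁, b₂, hb₂, hb⟩ := hfrac y
      exact ⟨b₂, b₁, hb₂, by rw [mul_comm]; exact hb⟩
    · exact isAlgebraic_of_forall_exists_mul_eq jA hfracV
  have hθalg : @Algebra.IsAlgebraic (B ⧸ q) Ω _ _ (algebraMap (B ⧸ q) Ω).toAlgebra := by
    haveI : Algebra.IsAlgebraic (B ⧸ q) (FractionRing (B ⧸ q)) :=
      IsLocalization.isAlgebraic (FractionRing (B ⧸ q)) (nonZeroDivisors (B ⧸ q))
    haveI : Algebra.IsAlgebraic (FractionRing (B ⧸ q)) Ω := AlgebraicClosure.isAlgebraic _
    haveI : Algebra.IsAlgebraic (B ⧸ q) Ω :=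
      Algebra.IsAlgebraic.trans (B ⧸ q) (FractionRing (B ⧸ q)) Ω
    exact isAlgebraic_toAlgebra_algebraMap
  have htd := td_ker_eq_zero jA ιB hsq q (algebraMap (B ⧸ q) Ω) hθinj hθalg (gW.comp ιW)
    hιWιB hqtd
  exact ⟨V, inferInstance, inferInstance, inferInstance, B', inferInstance, inferInstance,
    inferInstance, inferInstance, jA, ιB, q'', hjA, hιB, hinjVB', hsq, inferInstance, hq''B,
    hq''V, htd, htr, fun y _ => hfrac y⟩

end Groth.Agent.Lib.helper3.HorizPrime
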