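import Mathlib
import Groth.Agent.Lib.Helper3.HorizPrime8
import Groth.Agent.Lib.Helper3.DimIneqStrict
/-!
# Closed points of the generic fibre specializing to a given closed point of a fibre
(helper3; ring-level core of S1374)

* `exists_prime_horizontal_avoiding` : `A` a domain, `B ⊇ A` a domain of finite
  type with `trdeg ≥ 1`, `q` a prime with `q ∩ A ≠ 0` closed in its fibre, `g ≠ 0`: there is a
  nonzero prime `q₂ ≤ q` with `q₂ ∩ A = 0`, `g ∉ q₂`.
* `exists_prime_closed_generic` : under the same hypotheses (any `trdeg`), there is a prime `Q ≤ q`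
  with `Q ∩ A = 0`, closed in the generic fibre (`td = 0`), `g ∉ Q`.
-/

set_option autoImplicit false
set_option linter.style.haveILetI false
set_option linter.unusedSectionVars false
universe u
open Function

namespace Groth.Agent.Lib.helper3.HorizPrime

open Groth.Agent.Lib.helper3.DimIneq Groth.Agent.Lib.helper3.FTField
  Groth.Agent.Lib.helper3.FibreParam Groth.Agent.Lib.helper3.FlatFibDim

/-- residue transcendence degrees for `R → S → S/P`. -/
theorem td_quotientMap_comp_mk {R S : Type u} [CommRing R] [CommRing S] (φ : R →+* S)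
    (P : Ideal S) (Qb : Ideal (S ⧸ P)) [Qb.IsPrime] :
    td (Ideal.quotientMap Qb ((Ideal.Quotient.mk P).comp φ) le_rfl) =
      td (Ideal.quotientMap (Qb.comap (Ideal.Quotient.mk P)) φ le_rfl) := by
  haveI : IsDomain ((S ⧸ P) ⧸ Qb) := Ideal.Quotient.isDomain _
  haveI : (Qb.comap (Ideal.Quotient.mk P)).IsPrime := Ideal.comap_isPrime _ _
  haveI : ((Qb.comap (Ideal.Quotient.mk P)).comap φ).IsPrime := Ideal.comap_isPrime _ _
  haveI : Nontrivial (S ⧸ Qb.comap (Ideal.Quotient.mk P)) :=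
    Ideal.Quotient.nontrivial_iff.mpr (Ideal.IsPrime.ne_top inferInstance)
  haveI : Nontrivial (R ⧸ (Qb.comap (Ideal.Quotient.mk P)).comap φ) :=
    Ideal.Quotient.nontrivial_iff.mpr (Ideal.IsPrime.ne_top inferInstance)
  symm
  refine td_eq_of_square (Ideal.quotientMap (Qb.comap (Ideal.Quotient.mk P)) φ le_rfl)
    (Ideal.quotientMap Qb (Ideal.Quotient.mk P) le_rfl)
    (Ideal.quotientMap (Qb.comap ((Ideal.Quotient.mk P).comp φ)) (RingHom.id R) (le_of_eq rfl))
    (Ideal.quotientMap Qb ((Ideal.Quotient.mk P).comp φ) le_rfl) ?_ ?_ ?_ ?_ ?_ ?_ ?_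
  · apply Ideal.Quotient.ringHom_ext
    ext a
    rfl
  · exact Ideal.quotientMap_injective
  · exact Ideal.quotientMap_injective
  · exact Ideal.quotientMap_injective' (le_of_eq rfl)
  · exact Ideal.quotientMap_injective
  · apply isAlgebraic_of_surjective
    exact Ideal.quotientMap_surjective Ideal.Quotient.mk_surjective
  · apply isAlgebraic_of_surjective
    exact Ideal.quotientMap_surjective (fun x => ⟨x, rfl⟩)

theorem exists_prime_horizontal_avoiding {A B : Type u} [CommRing A] [IsDomain A]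
    [CommRing B] [IsDomain B] [Algebra A B] [Algebra.FiniteType A B] [FaithfulSMul A B]
    (q : Ideal B) [q.IsPrime] (hqp : q.comap (algebraMap A B) ≠ ⊥)
    (hqtd : td (Ideal.quotientMap q (algebraMap A B) le_rfl) = 0)
    (d : ℕ) (hd : Algebra.trdeg A B = d) (hd1 : 1 ≤ d) (g : B) (hg : g ≠ 0) :
    ∃ q₂ : Ideal B, q₂.IsPrime ∧ q₂ ≠ ⊥ ∧ q₂ ≤ q ∧ q₂.comap (algebraMap A B) = ⊥ ∧ g ∉ q₂ := by
  obtain ⟨V, iV1, iV2, iV3, B', iB1, iB2, iB3, iB4, jA, ιB, q'', hjA, hιB, hVB', hsq, hq''p,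
    hq''B, hq''V, htd, htr, hfrac⟩ := exists_valuation_model q hqtd
  haveI := hq''p
  haveI : FaithfulSMul V B' := (faithfulSMul_iff_algebraMap_injective V B').mpr hVB'
  haveI : Module.Flat V B' := ValFibreDimEq.flat_of_injective hVB'
  have hcompat : ∀ a : A, algebraMap V B' (jA a) = ιB (algebraMap A B a) := fun a =>
    (RingHom.congr_fun hsq a).symm
  have hV : ¬ IsField V := by
    intro hf
    have hm0 : IsLocalRing.maximalIdeal V = ⊥ := IsLocalRing.isField_iff_maximalIdeal_eq.mp hf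
    obtain ⟨a, ha, ha0⟩ := Submodule.exists_mem_ne_zero_of_ne_bot hqp
    apply ha0
    apply hjA
    rw [map_zero]
    have h1 : jA a ∈ IsLocalRing.maximalIdeal V := by
      rw [← hq''V, Ideal.mem_comap, hcompat, ← Ideal.mem_comap, hq''B]
      exact ha
    rw [hm0, Ideal.mem_bot] at h1
    exact h1
  obtain ⟨q₂', hq₂'p, hq₂'ne, hq₂'le, hq₂'V, hgq₂'⟩ :=
    exists_prime_horizontal_avoiding_flat hV q'' hq''V htd d (htr.trans hd) hd1 (ιB g)
      ((map_ne_zero_iff _ hιB).mpr hg)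
  haveI := hq₂'p
  refine ⟨q₂'.comap ιB, Ideal.comap_isPrime _ _, ?_, ?_, ?_, hgq₂'⟩
  · -- nonzero
    obtain ⟨y, hyq, hy0⟩ := Submodule.exists_mem_ne_zero_of_ne_bot hq₂'ne
    obtain ⟨b₁, b₂, hb₂, hb⟩ := hfrac y hy0
    intro h0
    have h1 : b₁ ∈ q₂'.comap ιB := by
      rw [Ideal.mem_comap, ← hb]
      exact q₂'.mul_mem_right _ hyq
    rw [h0, Ideal.mem_bot] at h1
    rw [h1, map_zero] at hb
    rcases mul_eq_zero.mp hb with h | h
    · exact hy0 h
    · exact hb₂ ((map_eq_zero_iff _ hιB).mp h)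
  · rw [← hq''B]
    exact Ideal.comap_mono hq₂'le
  · rw [eq_bot_iff]
    intro a ha
    rw [Ideal.mem_bot]
    apply hjA
    rw [map_zero]
    have h1 : jA a ∈ q₂'.comap (algebraMap V B') := by
      rw [Ideal.mem_comap, hcompat]
      exact ha
    rw [hq₂'V, Ideal.mem_bot] at h1
    exact h1

theorem exists_prime_closed_generic_aux {A : Type u} [CommRing A] [IsDomain A] :
    ∀ (d : ℕ) (B : Type u) [CommRing B] [IsDomain B] [Algebra A B] [Algebra.FiniteType A B]
      [FaithfulSMul A B] (q : Ideal B) [q.IsPrime],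
      q.comap (algebraMap A B) ≠ ⊥ →
      td (Ideal.quotientMap q (algebraMap A B) le_rfl) = 0 →
      Algebra.trdeg A B = d → ∀ g : B, g ≠ 0 →
      ∃ Q : Ideal B, Q.IsPrime ∧ Q ≤ q ∧ Q.comap (algebraMap A B) = ⊥ ∧
        td (Ideal.quotientMap Q (algebraMap A B) le_rfl) = 0 ∧ g ∉ Q := by
  intro d
  induction d using Nat.strong_induction_on with
  | _ d ih =>
    intro B _ _ _ _ _ q _ hqm hqtd hd g hg
    have hinj : Injective (algebraMap A B) := FaithfulSMul.algebraMap_injective A B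
    rcases Nat.eq_zero_or_pos d with hd0 | hd1
    · refine ⟨⊥, Ideal.isPrime_bot, bot_le, Ideal.comap_bot_of_injective _ hinj, ?_, ?_⟩
      · rw [td_quotientMap_bot, hd, hd0]
        simp
      · rwa [Ideal.mem_bot]
    obtain ⟨q₂, hq₂p, hq₂ne, hq₂le, hq₂A, hgq₂⟩ :=
      exists_prime_horizontal_avoiding q hqm hqtd d hd hd1 g hg
    haveI := hq₂p
    haveI : IsDomain (B ⧸ q₂) := Ideal.Quotient.isDomain q₂
    have hinj₁ : Injective (algebraMap A (B ⧸ q₂)) := by
      rw [injective_iff_map_eq_zero]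
      intro a ha
      have h1 : algebraMap A B a ∈ q₂ := Ideal.Quotient.eq_zero_iff_mem.mp ha
      have h2 : a ∈ q₂.comap (algebraMap A B) := h1
      rw [hq₂A, Ideal.mem_bot] at h2
      exact h2
    haveI : FaithfulSMul A (B ⧸ q₂) := (faithfulSMul_iff_algebraMap_injective A (B ⧸ q₂)).mpr hinj₁
    haveI hq₁p := map_mk_isPrime q₂ q hq₂le
    set q₁ := q.map (Ideal.Quotient.mk q₂) with hq₁
    have hq₁c : q₁.comap (Ideal.Quotient.mk q₂) = q := comap_map_mk q₂ q hq₂le
    have halg : algebraMap A (B ⧸ q₂) = (Ideal.Quotient.mk q₂).comp (algebraMap A B) := rfl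
    have hq₁m : q₁.comap (algebraMap A (B ⧸ q₂)) ≠ ⊥ := by
      rw [halg, ← Ideal.comap_comap, hq₁c]
      exact hqm
    have hbridge : ∀ (Qb : Ideal (B ⧸ q₂)) [Qb.IsPrime],
        td (Ideal.quotientMap Qb (algebraMap A (B ⧸ q₂)) le_rfl) =
          td (Ideal.quotientMap (Qb.comap (Ideal.Quotient.mk q₂)) (algebraMap A B) le_rfl) := by
      intro Qb _
      exact td_quotientMap_comp_mk (algebraMap A B) q₂ Qb
    have hq₁td : td (Ideal.quotientMap q₁ (algebraMap A (B ⧸ q₂)) le_rfl) = 0 := by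
      rw [hbridge q₁, td_quotientMap_congr_prime _ _ _ hq₁c]
      exact hqtd
    have hlt := td_quotient_lt (algebraMap A B) hinj
      (RingHom.finiteType_algebraMap.mpr inferInstance) q₂ hq₂ne hq₂A
    rw [← halg, td_algebraMap, td_algebraMap, hd] at hlt
    obtain ⟨d₁, hd₁⟩ := Cardinal.lt_aleph0.mp (lt_trans hlt (Cardinal.natCast_lt_aleph0))
    have hd₁lt : d₁ < d := by
      rw [hd₁] at hlt
      exact_mod_cast hlt
    have hg₁ : Ideal.Quotient.mk q₂ g ≠ 0 := by
      intro h0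
      exact hgq₂ (Ideal.Quotient.eq_zero_iff_mem.mp h0)
    obtain ⟨Q₁, hQ₁p, hQ₁le, hQ₁A, hQ₁td, hgQ₁⟩ :=
      ih d₁ hd₁lt (B ⧸ q₂) q₁ hq₁m hq₁td hd₁ (Ideal.Quotient.mk q₂ g) hg₁
    haveI := hQ₁p
    refine ⟨Q₁.comap (Ideal.Quotient.mk q₂), Ideal.comap_isPrime _ _, ?_, ?_, ?_, hgQ₁⟩
    · rw [← hq₁c]
      exact Ideal.comap_mono hQ₁le
    · rw [Ideal.comap_comap, ← halg]
      exact hQ₁A
    · rw [← hbridge Q₁]
      exact hQ₁td

theorem exists_prime_closed_generic {A B : Type u} [CommRing A] [IsDomain A]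
    [CommRing B] [IsDomain B] [Algebra A B] [Algebra.FiniteType A B] [FaithfulSMul A B]
    (q : Ideal B) [q.IsPrime] (hqm : q.comap (algebraMap A B) ≠ ⊥)
    (hqtd : td (Ideal.quotientMap q (algebraMap A B) le_rfl) = 0) (g : B) (hg : g ≠ 0) :
    ∃ Q : Ideal B, Q.IsPrime ∧ Q ≤ q ∧ Q.comap (algebraMap A B) = ⊥ ∧
      td (Ideal.quotientMap Q (algebraMap A B) le_rfl) = 0 ∧ g ∉ Q := by
  obtain ⟨d, hd⟩ := Cardinal.lt_aleph0.mp (trdeg_lt_aleph0_of_finiteType (R := A) (S := B))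
  exact exists_prime_closed_generic_aux d B q hqm hqtd hd g hg

end Groth.Agent.Lib.helper3.HorizPrime
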