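import Mathlib
import Groth.Agent.Lib.Helper3.HorizPrime9
/-!
# Ring-level form of S1374 for an arbitrary ring map of finite type (helper3)
-/

set_option autoImplicit false
set_option linter.style.haveILetI false
set_option linter.unusedSectionVars false
universe u
open Function

namespace Groth.Agent.Lib.helper3.HorizPrime

open Groth.Agent.Lib.helper3.DimIneq Groth.Agent.Lib.helper3.FTField
  Groth.Agent.Lib.helper3.FibreParam Groth.Agent.Lib.helper3.FlatFibDim

theorem exists_prime_between_closed_generic {R T : Type u} [CommRing R] [CommRing T] (ψ : R →+* T)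
    (hψ : ψ.FiniteType) (P P' : Ideal T) [P.IsPrime] [P'.IsPrime] (hPP' : P ≤ P')
    (hne : P.comap ψ ≠ P'.comap ψ) (htd : td (Ideal.quotientMap P' ψ le_rfl) = 0)
    (g₀ : T) (hg₀ : g₀ ∉ P) :
    ∃ Q₀ : Ideal T, Q₀.IsPrime ∧ P ≤ Q₀ ∧ Q₀ ≤ P' ∧ Q₀.comap ψ = P.comap ψ ∧
      td (Ideal.quotientMap Q₀ ψ le_rfl) = 0 ∧ g₀ ∉ Q₀ := by
  haveI : (P.comap ψ).IsPrime := Ideal.comap_isPrime _ _
  haveI : IsDomain (R ⧸ P.comap ψ) := Ideal.Quotient.isDomain _
  haveI : IsDomain (T ⧸ P) := Ideal.Quotient.isDomain _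
  letI alg : Algebra (R ⧸ P.comap ψ) (T ⧸ P) := (Ideal.quotientMap P ψ le_rfl).toAlgebra
  have halg : algebraMap (R ⧸ P.comap ψ) (T ⧸ P) = Ideal.quotientMap P ψ le_rfl := rfl
  haveI : FaithfulSMul (R ⧸ P.comap ψ) (T ⧸ P) := by
    rw [faithfulSMul_iff_algebraMap_injective, halg]
    exact Ideal.quotientMap_injective
  haveI : Algebra.FiniteType (R ⧸ P.comap ψ) (T ⧸ P) := by
    have h1 : ((Ideal.quotientMap P ψ le_rfl).comp (Ideal.Quotient.mk (P.comap ψ))).FiniteType := by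
      have : (Ideal.quotientMap P ψ le_rfl).comp (Ideal.Quotient.mk (P.comap ψ)) =
          (Ideal.Quotient.mk P).comp ψ := by
        ext a; rfl
      rw [this]
      exact (RingHom.FiniteType.of_surjective _ Ideal.Quotient.mk_surjective).comp hψ
    exact RingHom.FiniteType.of_comp_finiteType h1
  haveI hqp := map_mk_isPrime P P' hPP'
  set q := P'.map (Ideal.Quotient.mk P) with hq
  have hqc : q.comap (Ideal.Quotient.mk P) = P' := comap_map_mk P P' hPP'
  have hcle : P.comap ψ ≤ P'.comap ψ := Ideal.comap_mono hPP'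
  have hqne : q.comap (algebraMap (R ⧸ P.comap ψ) (T ⧸ P)) ≠ ⊥ := by
    obtain ⟨r, hr', hr⟩ := SetLike.exists_of_lt (lt_of_le_of_ne hcle hne)
    intro h0
    have h1 : Ideal.Quotient.mk (P.comap ψ) r ∈
        q.comap (algebraMap (R ⧸ P.comap ψ) (T ⧸ P)) := by
      rw [Ideal.mem_comap, halg]
      change Ideal.Quotient.mk P (ψ r) ∈ q
      exact Ideal.mem_map_of_mem _ hr'
    rw [h0, Ideal.mem_bot, Ideal.Quotient.eq_zero_iff_mem] at h1
    exact hr h1
  have hqtd : td (Ideal.quotientMap q (algebraMap (R ⧸ P.comap ψ) (T ⧸ P)) le_rfl) = 0 := by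
    rw [td_quotientMap_congr_hom _ _ halg q, td_quotientMap_quotient ψ P q,
      td_quotientMap_congr_prime _ _ _ hqc]
    exact htd
  have hg : Ideal.Quotient.mk P g₀ ≠ 0 := by
    intro h0
    exact hg₀ (Ideal.Quotient.eq_zero_iff_mem.mp h0)
  obtain ⟨Q, hQp, hQq, hQA, hQtd, hgQ⟩ :=
    exists_prime_closed_generic q hqne hqtd (Ideal.Quotient.mk P g₀) hg
  haveI := hQp
  refine ⟨Q.comap (Ideal.Quotient.mk P), Ideal.comap_isPrime _ _, ?_, ?_, ?_, ?_, hgQ⟩
  · intro t ht
    rw [Ideal.mem_comap, Ideal.Quotient.eq_zero_iff_mem.mpr ht]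
    exact Q.zero_mem
  · rw [← hqc]
    exact Ideal.comap_mono hQq
  · apply le_antisymm
    · intro r hr
      have h1 : Ideal.Quotient.mk (P.comap ψ) r ∈
          Q.comap (algebraMap (R ⧸ P.comap ψ) (T ⧸ P)) := hr
      rw [hQA, Ideal.mem_bot, Ideal.Quotient.eq_zero_iff_mem] at h1
      exact h1
    · apply Ideal.comap_mono
      intro t ht
      rw [Ideal.mem_comap, Ideal.Quotient.eq_zero_iff_mem.mpr ht]
      exact Q.zero_mem
  · rw [← td_quotientMap_quotient ψ P Q, ← td_quotientMap_congr_hom _ _ halg Q]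
    exact hQtd

end Groth.Agent.Lib.helper3.HorizPrime
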