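import Mathlib
import Groth.Agent.Lib.Helper3.FTFieldClosureDim

/-!
# A prime-avoidance step for quasi-finite closed subschemes (helper3)

`exists_prime_between`: `B` Noetherian, `P ⊆ M` primes, ideals `I, J ⊄ P`, and a prime `Q` with
`P ⊆ Q ⊊ M`, `I ⊆ Q`. Then there is a prime `P ⊊ P' ⊆ M` with `I, J ⊄ P'`.
-/

set_option autoImplicit false
universe u

namespace Groth.Agent.Lib.helper3.QFinClosed

open Groth.Agent.Lib.helper3.FTField

variable {B : Type u} [CommRing B] [IsNoetherianRing B]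

/-- no prime strictly between `q0` and `q1` when `ht (q1 / q0) = 1`. -/
theorem eq_of_height_map_eq_one (q0 q1 Q : Ideal B) [q0.IsPrime] [q1.IsPrime] [Q.IsPrime]
    (h0 : q0 ≤ Q) (h1 : Q ≤ q1) (hne : Q ≠ q0) (h01 : q0 ≤ q1)
    (hht : (q1.map (Ideal.Quotient.mk q0)).height = 1) : Q = q1 := by
  haveI : IsDomain (B ⧸ q0) := Ideal.Quotient.isDomain q0
  haveI := map_mk_isPrime q0 Q h0
  haveI := map_mk_isPrime q0 q1 h01
  by_contra hQ
  have hlt : Q.map (Ideal.Quotient.mk q0) < q1.map (Ideal.Quotient.mk q0) := by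
    refine lt_of_le_of_ne (Ideal.map_mono h1) fun heq => hQ ?_
    rw [← comap_map_mk q0 Q h0, heq, comap_map_mk q0 q1 h01]
  have h2 := Ideal.height_strict_mono_of_isPrime_of_isPrime hlt
  rw [hht, Order.lt_one_iff, Ideal.height_eq_zero_iff_eq_bot] at h2
  apply hne
  have h3 := comap_map_mk q0 Q h0
  rw [h2, ← RingHom.ker_eq_comap_bot, Ideal.mk_ker] at h3
  exact h3.symm

theorem exists_prime_between (P M : Ideal B) [P.IsPrime] [M.IsPrime] (I J : Ideal B)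
    (hIP : ¬ I ≤ P) (hJP : ¬ J ≤ P)
    (Q : Ideal B) [Q.IsPrime] (hPQ : P ≤ Q) (hQM : Q ≤ M) (hQne : Q ≠ M) (hIQ : I ≤ Q) :
    ∃ P' : Ideal B, P'.IsPrime ∧ P ≤ P' ∧ P' ≠ P ∧ P' ≤ M ∧ ¬ I ≤ P' ∧ ¬ J ≤ P' := by
  classical
  have hPM : P ≤ M := hPQ.trans hQM
  have hfinI : (P ⊔ I).minimalPrimes.Finite := Ideal.finite_minimalPrimes_of_isNoetherianRing B _
  have hfinJ : (P ⊔ J).minimalPrimes.Finite := Ideal.finite_minimalPrimes_of_isNoetherianRing B _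
  set T : Set (Ideal B) := {q | q ∈ (P ⊔ I).minimalPrimes ∪ (P ⊔ J).minimalPrimes ∧ q ≤ M ∧ q ≠ M}
    with hT
  have hTfin : T.Finite := (hfinI.union hfinJ).subset fun q hq => hq.1
  have hTprime : ∀ q ∈ T, q.IsPrime := by
    rintro q ⟨hq | hq, -, -⟩
    · exact hq.1.1
    · exact hq.1.1
  have hMnotI : M ∉ (P ⊔ I).minimalPrimes := by
    intro hM
    have h1 : M ≤ Q := hM.2 ⟨inferInstance, sup_le hPQ hIQ⟩ hQM
    exact hQne (le_antisymm hQM h1)
  -- a minimal prime over `P ⊔ I` below `Q`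
  obtain ⟨Q', hQ'min, hQ'Q⟩ := Ideal.exists_minimalPrimes_le (sup_le hPQ hIQ : P ⊔ I ≤ Q)
  haveI hQ'prime : Q'.IsPrime := hQ'min.1.1
  have hPQ' : P ≤ Q' := le_sup_left.trans hQ'min.1.2
  have hIQ' : I ≤ Q' := le_sup_right.trans hQ'min.1.2
  have hQ'M : Q' ≤ M := hQ'Q.trans hQM
  have hQ'neM : Q' ≠ M := fun h => hMnotI (h ▸ hQ'min)
  have hQ'neP : Q' ≠ P := fun h => hIP (h ▸ hIQ')
  have hQ'T : Q' ∈ T := ⟨Or.inl hQ'min, hQ'M, hQ'neM⟩
  -- prime avoidance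
  obtain ⟨g, hgM, hgT⟩ : ∃ g ∈ M, ∀ q ∈ T, g ∉ q := by
    by_contra hcon
    push Not at hcon
    have hsub : (M : Set B) ⊆ ⋃ q ∈ (↑hTfin.toFinset : Set (Ideal B)), (id q : Ideal B) := by
      intro g hg
      obtain ⟨q, hqT, hgq⟩ := hcon g hg
      exact Set.mem_iUnion₂.mpr ⟨q, by simpa using hqT, hgq⟩
    rw [Ideal.subset_union_prime (R := B) (s := hTfin.toFinset) (f := id) Q' Q'
      (fun q hq _ _ => hTprime q (by simpa using hq))] at hsub
    obtain ⟨q, hq, hMq⟩ := hsub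
    have hqT : q ∈ T := by simpa using hq
    exact hqT.2.2 (le_antisymm hqT.2.1 hMq)
  have hgP : g ∉ P := fun h => hgT Q' hQ'T (hPQ' h)
  obtain ⟨P', hP'prime, hPP', hP'M, hgP', hht⟩ :=
    exists_prime_height_map_eq_one P M hPM g hgM hgP
  haveI := hP'prime
  refine ⟨P', hP'prime, hPP', fun h => hgP (h ▸ hgP'), hP'M, ?_, ?_⟩
  · intro hIP'
    obtain ⟨q, hqmin, hqP'⟩ := Ideal.exists_minimalPrimes_le (sup_le hPP' hIP' : P ⊔ I ≤ P')
    haveI : q.IsPrime := hqmin.1.1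
    have hPq : P ≤ q := le_sup_left.trans hqmin.1.2
    have hIq : I ≤ q := le_sup_right.trans hqmin.1.2
    have hqneP : q ≠ P := fun h => hIP (h ▸ hIq)
    have hqP'eq : q = P' := eq_of_height_map_eq_one P P' q hPq hqP' hqneP hPP' hht
    by_cases hqM : q = M
    · exact hMnotI (hqM ▸ hqmin)
    · exact hgT q ⟨Or.inl hqmin, hqP'eq ▸ hP'M, hqM⟩ (hqP'eq ▸ hgP')
  · intro hJP'
    obtain ⟨q, hqmin, hqP'⟩ := Ideal.exists_minimalPrimes_le (sup_le hPP' hJP' : P ⊔ J ≤ P')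
    haveI : q.IsPrime := hqmin.1.1
    have hPq : P ≤ q := le_sup_left.trans hqmin.1.2
    have hJq : J ≤ q := le_sup_right.trans hqmin.1.2
    have hqneP : q ≠ P := fun h => hJP (h ▸ hJq)
    have hqP'eq : q = P' := eq_of_height_map_eq_one P P' q hPq hqP' hqneP hPP' hht
    by_cases hqM : q = M
    · -- then `ht (M / P) = 1`, but `P < Q' < M`
      have hP'M' : P' = M := hqP'eq.symm.trans hqM
      rw [hP'M'] at hht
      exact hQ'neM (eq_of_height_map_eq_one P M Q' hPQ' hQ'M hQ'neP hPM hht)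
    · exact hgT q ⟨Or.inr hqmin, hqP'eq ▸ hP'M, hqM⟩ (hqP'eq ▸ hgP')

end Groth.Agent.Lib.helper3.QFinClosed
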