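import Mathlib
import Groth.Agent.Lib.Helper3.QFinClosedRing
import Groth.Agent.Lib.Helper3.DimIneqSch
import Groth.Agent.Lib.Helper3.QFinTop
import Groth.Agent.Lib.Helper28.QCClosure

/-!
# Quasi-finite closed subschemes through a point meeting an open (helper3)

EGA IV 14.5.x / Stacks-type statement: `f : X ⟶ S` l.f.t., `S` locally Noetherian, `x` closed in
its fibre, `x' ∈ U` a generization of `x` outside the fibre. Then there is `z ∈ U`, `z ⤳ x`,
`f z ≠ f x`, such that `closure {z} ⟶ S` is quasi-finite at `x`.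
-/

set_option autoImplicit false
universe u
open CategoryTheory AlgebraicGeometry

namespace Groth.Agent.Lib.helper3.QFinClosed

open Groth.Agent.Lib.helper3.DimIneq Groth.Agent.Lib.helper3.QFinTop

variable {X S : Scheme.{u}} (f : X ⟶ S) [LocallyOfFiniteType f] [IsLocallyNoetherian S]

/-- the point `z`. -/
theorem exists_point (x : X) (U : X.Opens) (x' : X) (hx'U : x' ∈ U) (hx'x : x' ⤳ x)
    (hfx' : f x' ≠ f x) :
    ∃ z : X, z ∈ U ∧ z ⤳ x ∧ f z ≠ f x ∧
      ∀ t : X, z ⤳ t → t ⤳ x → f t = f x → t = x := by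
  haveI : IsLocallyNoetherian X := LocallyOfFiniteType.isLocallyNoetherian f
  obtain ⟨_, ⟨V, hV : IsAffineOpen V, rfl⟩, hsV, -⟩ :=
    S.isBasis_affineOpens.exists_subset_of_mem_open (Set.mem_univ (f x)) isOpen_univ
  obtain ⟨_, ⟨W, hW : IsAffineOpen W, rfl⟩, hxW, hWV⟩ :=
    X.isBasis_affineOpens.exists_subset_of_mem_open
      (show x ∈ (f ⁻¹ᵁ V : Set X) from hsV) (f ⁻¹ᵁ V).isOpen
  have e : W ≤ f ⁻¹ᵁ V := hWV
  haveI : IsNoetherianRing Γ(X, W) := IsLocallyNoetherian.component_noetherian ⟨W, hW⟩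
  have hgenW : ∀ y : X, y ⤳ x → y ∈ W := fun y hy => hy.mem_open W.isOpen hxW
  set φ := f.appLE V W e with hφ
  set I : Ideal Γ(X, W) := (hV.primeIdealOf ⟨f x, hsV⟩).asIdeal.map φ.hom with hI
  set Cset : Set (PrimeSpectrum Γ(X, W)) := {p | hW.fromSpec p ∉ U} with hCset
  set J : Ideal Γ(X, W) := PrimeSpectrum.vanishingIdeal Cset with hJ
  -- characterization of `I ≤ P_y`
  have hIiff : ∀ (y : X) (hy : y ⤳ x),
      I ≤ (hW.primeIdealOf ⟨y, hgenW y hy⟩).asIdeal ↔ f y = f x := by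
    intro y hy
    have hyW := hgenW y hy
    have hcomap := IsAffineOpen.comap_primeIdealOf_appLE V hV W hW e hyW
    rw [hI, Ideal.map_le_iff_le_comap]
    have h1 : (hW.primeIdealOf ⟨y, hyW⟩).asIdeal.comap φ.hom =
        (hV.primeIdealOf ⟨f y, e hyW⟩).asIdeal := congrArg PrimeSpectrum.asIdeal hcomap
    rw [h1, ← specializes_iff_primeIdealOf_le hV (f x) (f y) hsV (e hyW)]
    constructor
    · intro hsp
      exact ((hy.map f.continuous).antisymm hsp).eq
    · intro heq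
      rw [heq]
  -- characterization of `J ≤ P_y`
  have hJiff : ∀ (y : X) (hyW : y ∈ W),
      J ≤ (hW.primeIdealOf ⟨y, hyW⟩).asIdeal ↔ y ∉ U := by
    intro y hyW
    have hclosed : IsClosed Cset := by
      exact (U.isOpen.isClosed_compl).preimage hW.fromSpec.continuous
    have h0 : PrimeSpectrum.zeroLocus (J : Set Γ(X, W)) = Cset := by
      rw [hJ, PrimeSpectrum.zeroLocus_vanishingIdeal_eq_closure]
      exact hclosed.closure_eq
    have h1 : hW.primeIdealOf ⟨y, hyW⟩ ∈ PrimeSpectrum.zeroLocus (J : Set Γ(X, W)) ↔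
        hW.fromSpec (hW.primeIdealOf ⟨y, hyW⟩) ∉ U := by
      rw [h0]; rfl
    rw [hW.fromSpec_primeIdealOf ⟨y, hyW⟩] at h1
    exact h1
  -- the set of candidate primes
  set 𝒮 : Set (Ideal Γ(X, W)) := {P | ∃ (z : X) (hz : z ⤳ x), z ∈ U ∧ f z ≠ f x ∧
    P = (hW.primeIdealOf ⟨z, hgenW z hz⟩).asIdeal} with h𝒮
  have hne : 𝒮.Nonempty := ⟨_, x', hx'x, hx'U, hfx', rfl⟩
  obtain ⟨P, ⟨z, hzx, hzU, hfz, rfl⟩, hPmax⟩ :=
    (set_has_maximal_iff_noetherian (R := Γ(X, W)) (M := Γ(X, W))).mpr inferInstance 𝒮 hne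
  refine ⟨z, hzU, hzx, hfz, ?_⟩
  intro t hzt htx hft
  by_contra htne
  have hzW := hgenW z hzx
  have htW := hgenW t htx
  have h1 : (hW.primeIdealOf ⟨z, hzW⟩).asIdeal ≤ (hW.primeIdealOf ⟨t, htW⟩).asIdeal :=
    (specializes_iff_primeIdealOf_le hW z t hzW htW).mp hzt
  have h2 : (hW.primeIdealOf ⟨t, htW⟩).asIdeal ≤ (hW.primeIdealOf ⟨x, hxW⟩).asIdeal :=
    (specializes_iff_primeIdealOf_le hW t x htW hxW).mp htx
  have h3 : (hW.primeIdealOf ⟨t, htW⟩).asIdeal ≠ (hW.primeIdealOf ⟨x, hxW⟩).asIdeal := by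
    intro heq
    apply htne
    have h4 : hW.primeIdealOf ⟨t, htW⟩ = hW.primeIdealOf ⟨x, hxW⟩ := PrimeSpectrum.ext heq
    have h5 := congrArg hW.fromSpec h4
    rw [hW.fromSpec_primeIdealOf, hW.fromSpec_primeIdealOf] at h5
    exact h5
  obtain ⟨P', hP'prime, hPP', hP'ne, hP'M, hIP', hJP'⟩ :=
    exists_prime_between (hW.primeIdealOf ⟨z, hzW⟩).asIdeal (hW.primeIdealOf ⟨x, hxW⟩).asIdeal I J
      (fun h => hfz ((hIiff z hzx).mp h)) (fun h => (hJiff z hzW).mp h hzU)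
      (hW.primeIdealOf ⟨t, htW⟩).asIdeal h1 h2 h3 ((hIiff t htx).mpr hft)
  haveI := hP'prime
  obtain ⟨z', hz'W, hz'P⟩ := exists_point_of_prime hW P'
  have hz'x : z' ⤳ x := by
    rw [specializes_iff_primeIdealOf_le hW z' x hz'W hxW, hz'P]
    exact hP'M
  have hmem : P' ∈ 𝒮 := by
    refine ⟨z', hz'x, ?_, ?_, hz'P.symm⟩
    · by_contra hnot
      exact hJP' (hz'P ▸ (hJiff z' hz'W).mpr hnot)
    · intro heq
      exact hIP' (hz'P ▸ (hIiff z' hz'x).mpr heq)
  exact hPmax P' hmem (lt_of_le_of_ne hPP' (Ne.symm hP'ne))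

/-- closedness in the fibre, in terms of specialization. -/
theorem eq_of_specializes_of_isClosed (x : X)
    (hcl : IsClosed (Subtype.val ⁻¹' {x} : Set ↑(f ⁻¹' {f x}))) (x'' : X) (hfx : f x'' = f x)
    (hsp : x ⤳ x'') : x'' = x := by
  have h1 : (⟨x, Set.mem_preimage.mpr rfl⟩ : ↑(f ⁻¹' {f x})) ⤳
      (⟨x'', Set.mem_preimage.mpr hfx⟩ : ↑(f ⁻¹' {f x})) :=
    (Topology.IsInducing.subtypeVal.specializes_iff).mp hsp
  have h2 := h1.mem_closed hcl rfl
  exact h2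

/-- EGA-type statement (= S1411). -/
theorem exists_closed_subscheme (x : X)
    (hcl : IsClosed (Subtype.val ⁻¹' {x} : Set ↑(f ⁻¹' {f x}))) (U : X.Opens)
    (hx' : ∃ x' : X, x' ∈ U ∧ x' ⤳ x ∧ f x' ≠ f x) :
    ∃ (I : X.IdealSheafData) (z₀ x₀ : ↑I.subscheme), I.subschemeι x₀ = x ∧
      (I.subschemeι ≫ f).QuasiFiniteAt x₀ ∧
      I.subschemeι z₀ ∈ U ∧ I.subschemeι z₀ ⤳ x ∧ f (I.subschemeι z₀) ≠ f x := by
  obtain ⟨x', hx'U, hx'x, hfx'⟩ := hx'
  obtain ⟨z, hzU, hzx, hfz, hmax⟩ := exists_point f x U x' hx'U hx'x hfx'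
  set Zc : TopologicalSpace.Closeds X := ⟨closure {z}, isClosed_closure⟩ with hZc
  set I := Scheme.IdealSheafData.vanishingIdeal Zc with hI
  set ι := I.subschemeι with hι
  have hr : Set.range ι = closure {z} := by
    rw [hι, Scheme.IdealSheafData.range_subschemeι,
      Scheme.IdealSheafData.coe_support_vanishingIdeal]
    rfl
  obtain ⟨z₀, hz₀⟩ : z ∈ Set.range ι := by rw [hr]; exact subset_closure rfl
  obtain ⟨x₀, hx₀⟩ : x ∈ Set.range ι := by
    rw [hr, ← specializes_iff_mem_closure]; exact hzx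
  have hinj : Function.Injective ι := ι.isEmbedding.injective
  have hspι : ∀ a b : I.subscheme, ι a ⤳ ι b ↔ a ⤳ b :=
    fun a b => ι.isEmbedding.isInducing.specializes_iff
  have hzall : ∀ a : I.subscheme, z ⤳ ι a := by
    intro a
    rw [specializes_iff_mem_closure, ← hr]
    exact ⟨a, rfl⟩
  refine ⟨I, z₀, x₀, hx₀, ?_, ?_, ?_, ?_⟩
  · haveI : LocallyOfFiniteType (ι ≫ f) := inferInstance
    refine quasiFiniteAt_of_forall_specializes (ι ≫ f) x₀ ?_ ?_
    · intro a hfa hsp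
      apply hinj
      rw [hx₀]
      refine hmax (ι a) (hzall a) ?_ ?_
      · rw [← hx₀]; exact (hspι a x₀).mpr hsp
      · have : f (ι a) = f (ι x₀) := hfa
        rw [this, hx₀]
    · intro a hfa hsp
      apply hinj
      rw [hx₀]
      refine eq_of_specializes_of_isClosed f x hcl (ι a) ?_ ?_
      · have : f (ι a) = f (ι x₀) := hfa
        rw [this, hx₀]
      · rw [← hx₀]; exact (hspι x₀ a).mpr hsp
  · change ι z₀ ∈ U
    rw [hz₀]; exact hzU
  · change ι z₀ ⤳ x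
    rw [hz₀]; exact hzx
  · change f (ι z₀) ≠ f x
    rw [hz₀]; exact hfz

/-- variant with `x ∈ closure U`, `U` disjoint from the fibre (= S9779). -/
theorem exists_closed_subscheme_of_mem_closure (x : X)
    (hcl : IsClosed (Subtype.val ⁻¹' {x} : Set ↑(f ⁻¹' {f x}))) (U : X.Opens)
    (hU : ∀ x' ∈ U, f x' ≠ f x) (hxU : x ∈ closure (U : Set ↑X)) :
    ∃ (I : X.IdealSheafData) (z₀ x₀ : ↑I.subscheme), I.subschemeι x₀ = x ∧
      (I.subschemeι ≫ f).QuasiFiniteAt x₀ ∧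
      I.subschemeι z₀ ∈ U ∧ I.subschemeι z₀ ⤳ x ∧ f (I.subschemeι z₀) ≠ f x := by
  haveI : IsLocallyNoetherian X := LocallyOfFiniteType.isLocallyNoetherian f
  haveI : QuasiCompact U.ι := inferInstance
  have hy : x ∈ closure (U.ι '' (Set.univ : Set U)) := by
    rw [Set.image_univ, Scheme.Opens.range_ι]; exact hxU
  obtain ⟨w, -, hw⟩ := Groth.Agent.Lib.helper28.QCClosure.exists_specializes_of_mem_closure_image
    U.ι Set.univ isClosed_univ x hy
  have hwU : U.ι w ∈ U := by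
    have : U.ι w ∈ Set.range U.ι := ⟨w, rfl⟩
    rw [Scheme.Opens.range_ι] at this
    exact this
  exact exists_closed_subscheme f x hcl U ⟨U.ι w, hwU, hw, hU _ hwU⟩

end Groth.Agent.Lib.helper3.QFinClosed
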