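import Mathlib
import Groth.Agent.Lib.Helper3.HorizPrime10
import Groth.Agent.Lib.Helper3.QuasiSection
import Groth.Agent.Lib.Helper3.SecCompDim2
import Groth.Agent.Lib.Helper3.QFinClosed
import Groth.Agent.Lib.Helper3.DimIneqSch
import Groth.Agent.Lib.Helper3.FibreChev
/-!
# Closed points of a fibre between a specialization are dense (helper3; = S1374)

`f : X ⟶ S` locally of finite type, `x ⤳ x'` with `x'` closed in its fibre and `f x ≠ f x'`.
Then the points `x₁` of the fibre through `x`, closed in that fibre, with `x ⤳ x₁ ⤳ x'`, are dense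
in `closure {x} ∩ f ⁻¹ {f x}`.
-/

set_option autoImplicit false
set_option linter.style.haveILetI false
set_option linter.unusedSectionVars false
universe u
open CategoryTheory AlgebraicGeometry Function TopologicalSpace Topology

namespace Groth.Agent.Lib.helper3.ClosedGenDense

open Groth.Agent.Lib.helper3.DimIneq Groth.Agent.Lib.helper3.HorizPrime
  Groth.Agent.Lib.helper3.FibreParam

variable {X S : Scheme.{u}} (f : X ⟶ S) [LocallyOfFiniteType f]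

theorem exists_point (x x' : X) (hsp : x ⤳ x') (hne : f x ≠ f x')
    (hcl : ∀ y : X, f y = f x' → x' ⤳ y → y = x') (U : X.Opens) (hxU : x ∈ U) :
    ∃ x₁ : X, x₁ ∈ U ∧ f x₁ = f x ∧ td (f.residueFieldMap x₁).hom = 0 ∧ x ⤳ x₁ ∧ x₁ ⤳ x' := by
  obtain ⟨_, ⟨V, hV : IsAffineOpen V, rfl⟩, hsV, -⟩ :=
    S.isBasis_affineOpens.exists_subset_of_mem_open (Set.mem_univ (f x')) isOpen_univ
  obtain ⟨_, ⟨W, hW : IsAffineOpen W, rfl⟩, hx'W, hWV⟩ :=
    X.isBasis_affineOpens.exists_subset_of_mem_open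
      (show x' ∈ (f ⁻¹ᵁ V : Set X) from hsV) (f ⁻¹ᵁ V).isOpen
  have e : W ≤ f ⁻¹ᵁ V := hWV
  have hxW : x ∈ W := hsp.mem_open W.isOpen hx'W
  set ψ := (f.appLE V W e).hom with hψ
  have hψft : ψ.FiniteType := LocallyOfFiniteType.finiteType_appLE f hV hW e
  have hcomap : ∀ (y : X) (hy : y ∈ W), (hW.primeIdealOf ⟨y, hy⟩).asIdeal.comap ψ =
      (hV.primeIdealOf ⟨f y, e hy⟩).asIdeal := by
    intro y hy
    have := IsAffineOpen.comap_primeIdealOf_appLE (f := f) (x := y) V hV W hW e hy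
    exact congrArg PrimeSpectrum.asIdeal this
  have hinjV : ∀ (s s' : S) (hs : s ∈ V) (hs' : s' ∈ V),
      (hV.primeIdealOf ⟨s, hs⟩).asIdeal = (hV.primeIdealOf ⟨s', hs'⟩).asIdeal → s = s' := by
    intro s s' hs hs' h
    have h4 : hV.primeIdealOf ⟨s, hs⟩ = hV.primeIdealOf ⟨s', hs'⟩ := PrimeSpectrum.ext h
    have h5 := congrArg hV.fromSpec h4
    rw [hV.fromSpec_primeIdealOf, hV.fromSpec_primeIdealOf] at h5
    exact h5
  set Px := (hW.primeIdealOf ⟨x, hxW⟩).asIdeal with hPx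
  set Px' := (hW.primeIdealOf ⟨x', hx'W⟩).asIdeal with hPx'
  have hPle : Px ≤ Px' := (specializes_iff_primeIdealOf_le hW x x' hxW hx'W).mp hsp
  have hpne : Px.comap ψ ≠ Px'.comap ψ := by
    intro h
    rw [hPx, hPx', hcomap x hxW, hcomap x' hx'W] at h
    exact hne (hinjV _ _ _ _ h)
  have htd' : td (Ideal.quotientMap Px' ψ le_rfl) = 0 := by
    rw [hPx', td_quotientMap_eq f hV hW e x' hx'W]
    exact QuasiSection.td_eq_zero_of_closed_in_fibre f x' hcl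
  -- the ideal of the complement of `U`
  set Cset : Set (PrimeSpectrum Γ(X, W)) := {p | hW.fromSpec p ∉ U} with hCset
  set J : Ideal Γ(X, W) := PrimeSpectrum.vanishingIdeal Cset with hJ
  have hJiff : ∀ (y : X) (hyW : y ∈ W),
      J ≤ (hW.primeIdealOf ⟨y, hyW⟩).asIdeal ↔ y ∉ U := by
    intro y hyW
    have hclosed : IsClosed Cset := (U.isOpen.isClosed_compl).preimage hW.fromSpec.continuous
    have h0 : PrimeSpectrum.zeroLocus (J : Set Γ(X, W)) = Cset := by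
      rw [hJ, PrimeSpectrum.zeroLocus_vanishingIdeal_eq_closure]
      exact hclosed.closure_eq
    have h1 : hW.primeIdealOf ⟨y, hyW⟩ ∈ PrimeSpectrum.zeroLocus (J : Set Γ(X, W)) ↔
        hW.fromSpec (hW.primeIdealOf ⟨y, hyW⟩) ∉ U := by
      rw [h0]; rfl
    rw [hW.fromSpec_primeIdealOf ⟨y, hyW⟩] at h1
    exact h1
  have hJx : ¬ J ≤ Px := fun h => (hJiff x hxW).mp h hxU
  obtain ⟨g₀, hg₀J, hg₀⟩ := SetLike.not_le_iff_exists.mp hJx
  obtain ⟨Q₀, hQ₀p, hPQ₀, hQ₀P', hQ₀c, hQ₀td, hgQ₀⟩ :=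
    exists_prime_between_closed_generic ψ hψft Px Px' hPle hpne htd' g₀ hg₀
  haveI := hQ₀p
  obtain ⟨x₁, hx₁W, hx₁Q⟩ := exists_point_of_prime hW Q₀
  have hxx₁ : x ⤳ x₁ := by
    rw [specializes_iff_primeIdealOf_le hW x x₁ hxW hx₁W, hx₁Q]
    exact hPQ₀
  have hx₁x' : x₁ ⤳ x' := by
    rw [specializes_iff_primeIdealOf_le hW x₁ x' hx₁W hx'W, hx₁Q]
    exact hQ₀P'
  refine ⟨x₁, ?_, ?_, ?_, hxx₁, hx₁x'⟩
  · by_contra hx₁U
    have := (hJiff x₁ hx₁W).mpr hx₁U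
    rw [hx₁Q] at this
    exact hgQ₀ (this hg₀J)
  · apply hinjV _ _ (e hx₁W) (e hxW)
    rw [← hcomap x₁ hx₁W, ← hcomap x hxW, hx₁Q, hQ₀c]
  · rw [← td_quotientMap_eq f hV hW e x₁ hx₁W, td_quotientMap_congr_prime _ _ _ hx₁Q]
    exact hQ₀td

/-- **S1374.** -/
theorem main (x x' : X) (hsp : x ⤳ x') (hne : f x ≠ f x')
    (hcl : IsClosed (Subtype.val ⁻¹' {x'} : Set ↑(f ⁻¹' {f x'}))) :
    Dense (Subtype.val ⁻¹' {x₁ : ↑X | f x₁ = f x ∧
        IsClosed (Subtype.val ⁻¹' {x₁} : Set ↑(f ⁻¹' {f x})) ∧ x ⤳ x₁ ∧ x₁ ⤳ x'} :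
      Set ↑(closure {x} ∩ f ⁻¹' {f x})) := by
  have hcl' : ∀ y : X, f y = f x' → x' ⤳ y → y = x' := by
    intro y hy hsp'
    have h1 : (⟨x', Set.mem_preimage.mpr rfl⟩ : ↑(f ⁻¹' {f x'})) ⤳
        (⟨y, Set.mem_preimage.mpr hy⟩ : ↑(f ⁻¹' {f x'})) :=
      (Topology.IsInducing.subtypeVal.specializes_iff).mp hsp'
    have h2 := h1.mem_closed hcl rfl
    exact h2
  rw [dense_iff_inter_open]
  rintro O hO ⟨z, hzO⟩
  obtain ⟨O', hO', rfl⟩ := isOpen_induced_iff.mp hO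
  have hzcl : (z : X) ∈ closure {x} := z.2.1
  have hxz : x ⤳ (z : X) := specializes_iff_mem_closure.mpr hzcl
  have hxO' : x ∈ O' := hxz.mem_open hO' hzO
  obtain ⟨x₁, hx₁O, hfx₁, htd₁, hxx₁, hx₁x'⟩ :=
    exists_point f x x' hsp hne hcl' ⟨O', hO'⟩ hxO'
  have hx₁mem : x₁ ∈ closure {x} ∩ f ⁻¹' {f x} :=
    ⟨specializes_iff_mem_closure.mp hxx₁, hfx₁⟩
  refine ⟨⟨x₁, hx₁mem⟩, hx₁O, hfx₁, ?_, hxx₁, hx₁x'⟩
  -- closedness in the fibre
  have hsing : (Subtype.val ⁻¹' {x₁} : Set ↑(f ⁻¹' {f x})) = {⟨x₁, hfx₁⟩} := by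
    ext y
    simp only [Set.mem_preimage, Set.mem_singleton_iff]
    exact ⟨fun h => Subtype.ext h, fun h => congrArg Subtype.val h⟩
  rw [hsing]
  apply isClosed_singleton_of_forall_specializes
  intro y hy
  have hy' : x₁ ⤳ (y : X) := (Topology.IsInducing.subtypeVal.specializes_iff).mpr hy
  by_contra hyne
  have hyne' : x₁ ≠ (y : X) := fun h => hyne (Subtype.ext h.symm)
  have hfy : f x₁ = f (y : X) := hfx₁.trans y.2.symm
  have hlt := SecCompDim.td_lt_of_specializes_of_ne f (y : X) x₁ hy' hfy hyne'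
  rw [htd₁] at hlt
  exact not_lt_zero hlt

end Groth.Agent.Lib.helper3.ClosedGenDense
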