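import Mathlib
import Groth.Prelude

set_option maxHeartbeats 400000
set_option autoImplicit false

open CategoryTheory CategoryTheory.Limits AlgebraicGeometry

universe u

namespace Groth.Agent.Lib.helper3.ClosureProd

/-- density of the preimage of `A` in the reduced closed subscheme on `closure A`. -/
theorem dense_preimage_of_range_eq_closure {X' X : Scheme.{u}} (i : X' ⟶ X) [IsClosedImmersion i]
    (A : Set X) (hi : Set.range i = closure A) : closure (i ⁻¹' A) = Set.univ := by
  have hemb : Topology.IsInducing i := i.isEmbedding.isInducing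
  rw [hemb.closure_eq_preimage_closure_image]
  have : i '' (i ⁻¹' A) = A := by
    rw [Set.image_preimage_eq_inter_range, hi]
    exact Set.inter_eq_left.mpr subset_closure
  rw [this, ← hi]
  ext x
  simp

theorem closure_prod_eq {S X Y : Scheme.{u}} (f : X ⟶ S) (g : Y ⟶ S) [IsIntegral S]
    [Subsingleton S] (A : Set X) (B : Set Y) :
    closure ((pullback.fst f g) ⁻¹' A ∩ (pullback.snd f g) ⁻¹' B) =
      (pullback.fst f g) ⁻¹' closure A ∩ (pullback.snd f g) ⁻¹' closure B := by
  apply subset_antisymm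
  · apply closure_minimal
    · exact Set.inter_subset_inter (Set.preimage_mono subset_closure)
        (Set.preimage_mono subset_closure)
    · exact (isClosed_closure.preimage (pullback.fst f g).continuous).inter
        (isClosed_closure.preimage (pullback.snd f g).continuous)
  · rintro z ⟨hzA, hzB⟩
    -- the reduced closed subscheme on `closure B`
    let WB : TopologicalSpace.Closeds Y := ⟨closure B, isClosed_closure⟩
    let iB := (Scheme.IdealSheafData.vanishingIdeal WB).subschemeι
    have hiB : Set.range iB = closure B := by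
      rw [Scheme.IdealSheafData.range_subschemeι,
        Scheme.IdealSheafData.coe_support_vanishingIdeal]
      rfl
    have hdB : closure (iB ⁻¹' B) = Set.univ := dense_preimage_of_range_eq_closure iB B hiB
    rw [mem_closure_iff]
    intro W hW hzW
    -- step 1
    let m₁ := pullback.map f (iB ≫ g) f g (𝟙 X) iB (𝟙 S) (by simp) (by simp)
    have hm₁ : Set.range m₁ = pullback.fst f g ⁻¹' Set.range (𝟙 X : X ⟶ X) ∩
        pullback.snd f g ⁻¹' Set.range iB := Scheme.Pullback.range_map ..
    have hz₁ : z ∈ Set.range m₁ := by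
      rw [hm₁]
      refine ⟨⟨pullback.fst f g z, by simp⟩, ?_⟩
      rw [hiB]; exact hzB
    obtain ⟨z₁, rfl⟩ := hz₁
    have hopen₁ : IsOpenMap (pullback.fst f (iB ≫ g)) :=
      (pullback.fst f (iB ≫ g)).isOpenMap
    have hW₁ : IsOpen (m₁ ⁻¹' W) := hW.preimage m₁.continuous
    have em₁f : m₁ ≫ pullback.fst f g = pullback.fst f (iB ≫ g) :=
      (pullback.lift_fst _ _ _).trans (Category.comp_id _)
    have em₁s : m₁ ≫ pullback.snd f g = pullback.snd f (iB ≫ g) ≫ iB :=
      pullback.lift_snd _ _ _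
    have hfst₁ : pullback.fst f (iB ≫ g) z₁ = pullback.fst f g (m₁ z₁) := by
      rw [← Scheme.Hom.comp_apply, em₁f]
    have h1 : pullback.fst f (iB ≫ g) z₁ ∈ closure A := by rw [hfst₁]; exact hzA
    obtain ⟨a, ⟨w₁, hw₁W, rfl⟩, haA⟩ :=
      mem_closure_iff.mp h1 _ (hopen₁ _ hW₁) ⟨z₁, hzW, rfl⟩
    -- step 2
    let a := pullback.fst f (iB ≫ g) w₁
    let pt := X.fromSpecResidueField a
    let n := pullback.map (pt ≫ f) (iB ≫ g) f g pt iB (𝟙 S) (by simp) (by simp)
    have enf : n ≫ pullback.fst f g = pullback.fst (pt ≫ f) (iB ≫ g) ≫ pt :=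
      pullback.lift_fst _ _ _
    have ens : n ≫ pullback.snd f g = pullback.snd (pt ≫ f) (iB ≫ g) ≫ iB :=
      pullback.lift_snd _ _ _
    have hn : Set.range n = pullback.fst f g ⁻¹' Set.range pt ∩
        pullback.snd f g ⁻¹' Set.range iB := Scheme.Pullback.range_map ..
    have hptr : Set.range pt = {a} := Scheme.range_fromSpecResidueField a
    have hw₁n : m₁ w₁ ∈ Set.range n := by
      rw [hn, hptr]
      refine ⟨?_, ?_⟩
      · show pullback.fst f g (m₁ w₁) = a
        rw [← Scheme.Hom.comp_apply, em₁f]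
      · refine ⟨pullback.snd f (iB ≫ g) w₁, ?_⟩
        show iB (pullback.snd f (iB ≫ g) w₁) = pullback.snd f g (m₁ w₁)
        rw [← Scheme.Hom.comp_apply, ← Scheme.Hom.comp_apply, em₁s]
    obtain ⟨w₂, hw₂⟩ := hw₁n
    have hopen₂ : IsOpenMap (pullback.snd (pt ≫ f) (iB ≫ g)) :=
      (pullback.snd (pt ≫ f) (iB ≫ g)).isOpenMap
    have hW₂ : IsOpen (n ⁻¹' W) := hW.preimage n.continuous
    have h2 : pullback.snd (pt ≫ f) (iB ≫ g) w₂ ∈ closure (iB ⁻¹' B) := by
      rw [hdB]; trivial
    obtain ⟨b, ⟨w₃, hw₃W, rfl⟩, hbB⟩ :=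
      mem_closure_iff.mp h2 _ (hopen₂ _ hW₂) ⟨w₂, by
        show n w₂ ∈ W
        rw [hw₂]; exact hw₁W, rfl⟩
    refine ⟨n w₃, hw₃W, ?_, ?_⟩
    · show pullback.fst f g (n w₃) ∈ A
      have : pullback.fst f g (n w₃) ∈ Set.range pt := by
        refine ⟨pullback.fst (pt ≫ f) (iB ≫ g) w₃, ?_⟩
        rw [← Scheme.Hom.comp_apply, ← Scheme.Hom.comp_apply, enf]
      rw [hptr] at this
      rw [this]
      exact haA
    · show pullback.snd f g (n w₃) ∈ B
      have : pullback.snd f g (n w₃) = iB (pullback.snd (pt ≫ f) (iB ≫ g) w₃) := by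
        rw [← Scheme.Hom.comp_apply, ← Scheme.Hom.comp_apply, ens]
      rw [this]
      exact hbB

end Groth.Agent.Lib.helper3.ClosureProd
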