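import Mathlib
import Groth.Agent.Lib.Helper3.GIPrime1
import Groth.Agent.Lib.Helper3.GIProj4
import Groth.Agent.Lib.Helper3.UnivInjCompl1

/-!
# Universal injectivity of `B → B^` for the `I`-adic completion along a section (helper3; S17619)
-/

set_option autoImplicit false
set_option linter.style.haveILetI false
set_option linter.unusedSectionVars false
universe u

open TensorProduct IsLocalRing

namespace Groth.Agent.Lib.helper3.ComplUnivInj

open Groth.Agent.Lib.helper3.GIProj

section MulLeft

variable {A B : Type u} [CommRing A] [CommRing B] [Algebra A B] [Module.Flat A B]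
  [Module.Projective A B]

/-- multiplication by an element `b` with `u b = 1`, for a retraction `u : B → A`, is universally
injective over `A` when `B` has geometrically integral fibres. -/
theorem mulLeft_lTensor_eq_zero (hgi : GIF A B) (u : B →ₐ[A] A) (b : B) (hb : u b = 1)
    (Q : Type u) [AddCommGroup Q] [Module A Q] (x : Q ⊗[A] B)
    (hx : (LinearMap.mulLeft A b).lTensor Q x = 0) : x = 0 := by
  let φ : A →ₗ[A] Q ⊗[A] B := LinearMap.toSpanSingleton A _ x
  let 𝔞 : Ideal A := LinearMap.ker φ
  by_contra hx0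
  have hne : 𝔞 ≠ ⊤ := by
    intro h
    apply hx0
    have : (1 : A) ∈ 𝔞 := by rw [h]; trivial
    simpa [𝔞, φ] using this
  obtain ⟨m, hm, hle⟩ := Ideal.exists_le_maximal 𝔞 hne
  haveI : m.IsPrime := hm.isPrime
  haveI hP : (m.map (algebraMap A B)).IsPrime := Groth.Agent.Lib.helper3.GIPrime.map_isPrime hgi m
  have hu : ∀ y ∈ m.map (algebraMap A B), u y ∈ m := by
    have : m.map (algebraMap A B) ≤ m.comap u.toRingHom := by
      rw [Ideal.map_le_iff_le_comap]
      intro a ha
      rw [Ideal.mem_comap, Ideal.mem_comap]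
      show u (algebraMap A B a) ∈ m
      rw [AlgHom.commutes]
      exact ha
    exact fun y hy => this hy
  have H : ∀ x' : B, ∀ f : A, f ∉ m → f • (LinearMap.mulLeft A b) x' ∈ m • (⊤ : Submodule A B) →
      ∃ f' : A, f' ∉ m ∧ f' • x' ∈ m • (⊤ : Submodule A B) := by
    intro x' f hf hmem
    refine ⟨1, (Ideal.ne_top_iff_one m).mp hm.ne_top, ?_⟩
    rw [one_smul]
    rw [Ideal.smul_top_eq_map] at hmem ⊢
    have h1 : algebraMap A B f * (b * x') ∈ m.map (algebraMap A B) := by
      have : f • (LinearMap.mulLeft A b) x' = algebraMap A B f * (b * x') := by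
        rw [Algebra.smul_def]; rfl
      rw [← this]
      exact hmem
    rcases hP.mem_or_mem h1 with h2 | h2
    · exfalso
      apply hf
      have := hu _ h2
      rwa [AlgHom.commutes] at this
    · rcases hP.mem_or_mem h2 with h3 | h3
      · exfalso
        have := hu _ h3
        rw [hb] at this
        exact (Ideal.ne_top_iff_one m).mp hm.ne_top this
      · exact h3
  obtain ⟨f, hf, hfx⟩ := Groth.Agent.Lib.helper3.LocUnivInj.exists_smul_eq_zero m
    (LinearMap.mulLeft A b) H Q x hx
  apply hf
  apply hle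
  simpa [𝔞, φ] using hfx

end MulLeft

section Compl

variable {A B Bh : Type u} [CommRing A] [CommRing B] [Algebra A B] [CommRing Bh] [Algebra B Bh]
  [Algebra A Bh] [IsScalarTower A B Bh] (I : Ideal B)

theorem mem_pow_smul_top (n : ℕ)
    (hq : Function.Bijective (Ideal.quotientMap ((I ^ n).map (algebraMap B Bh))
      (algebraMap B Bh) Ideal.le_comap_map))
    (Q : Type u) [AddCommGroup Q] [Module A Q] (x : B ⊗[A] Q)
    (hx : ((IsScalarTower.toAlgHom A B Bh).toLinearMap.rTensor Q) x = 0) :
    x ∈ (I ^ n) • (⊤ : Submodule B (B ⊗[A] Q)) := by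
  let J : Ideal Bh := (I ^ n).map (algebraMap B Bh)
  let qm : (B ⧸ I ^ n) →ₐ[A] (Bh ⧸ J) :=
    Ideal.quotientMapₐ J (IsScalarTower.toAlgHom A B Bh) Ideal.le_comap_map
  have hqm : Function.Bijective qm := hq
  let e : (B ⧸ I ^ n) ≃ₐ[A] (Bh ⧸ J) := AlgEquiv.ofBijective qm hqm
  let π : Bh →ₗ[A] (B ⧸ I ^ n) := e.symm.toLinearMap ∘ₗ (Ideal.Quotient.mkₐ A J).toLinearMap
  let g : B →ₗ[A] (B ⧸ I ^ n) := (Ideal.Quotient.mkₐ A (I ^ n)).toLinearMap
  have hπ : π ∘ₗ (IsScalarTower.toAlgHom A B Bh).toLinearMap = g := by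
    ext b
    show e.symm (Ideal.Quotient.mk J (algebraMap B Bh b)) = Ideal.Quotient.mk (I ^ n) b
    rw [AlgEquiv.symm_apply_eq]
    rfl
  have h1 : (g.rTensor Q) x = 0 := by
    rw [← hπ, LinearMap.rTensor_comp, LinearMap.comp_apply, hx, map_zero]
  let N : Submodule A B := (I ^ n).restrictScalars A
  have hex : Function.Exact N.subtype g := by
    intro b
    constructor
    · intro hb
      have : b ∈ I ^ n := Ideal.Quotient.eq_zero_iff_mem.mp hb
      exact ⟨⟨b, this⟩, rfl⟩
    · rintro ⟨⟨b', hb'⟩, rfl⟩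
      exact Ideal.Quotient.eq_zero_iff_mem.mpr hb'
  have hsurj : Function.Surjective g := Ideal.Quotient.mk_surjective
  have hex' := rTensor_exact Q hex hsurj
  have key : ∀ z : N ⊗[A] Q, (N.subtype.rTensor Q) z ∈
      (I ^ n) • (⊤ : Submodule B (B ⊗[A] Q)) := by
    intro z
    induction z using TensorProduct.induction_on with
    | zero => simp
    | add a b ha hb => rw [map_add]; exact Submodule.add_mem _ ha hb
    | tmul i q =>
      rw [LinearMap.rTensor_tmul]
      have : ((N.subtype i) ⊗ₜ[A] q : B ⊗[A] Q) = (i : B) • ((1 : B) ⊗ₜ[A] q) := by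
        rw [TensorProduct.smul_tmul', smul_eq_mul, mul_one]
        rfl
      rw [this]
      exact Submodule.smul_mem_smul i.2 Submodule.mem_top
  obtain ⟨z, hz⟩ := (hex' x).mp h1
  rw [← hz]
  exact key z

end Compl

section Main

theorem univInj (A : Type u) [CommRing A]
    [IsNoetherianRing A] (B : Type u) [CommRing B] [Algebra A B] [Algebra.Smooth A B]
    (hfib : FlatCA.GeomIntegralFibres A B) (u : B →ₐ[A] A)
    (Bh : Type u) [CommRing Bh] [Algebra B Bh] [Algebra A Bh] [IsScalarTower A B Bh]
    (hq : ∀ n : ℕ, Function.Bijective (Ideal.quotientMap ((RingHom.ker u ^ n).map (algebraMap B Bh))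
      (algebraMap B Bh) Ideal.le_comap_map)) :
    FlatCA.UnivInj A (IsScalarTower.toAlgHom A B Bh).toLinearMap := by
  haveI : Module.Flat A B := inferInstance
  haveI : Algebra.FinitePresentation A B := inferInstance
  haveI : Module.Projective A B := projective_of_geomIntegralFibres hfib
  have hgi := GIF.of_geomIntegralFibres hfib
  haveI : IsNoetherianRing B := Algebra.FiniteType.isNoetherianRing A B
  intro Q _ _
  apply Groth.Agent.Lib.helper3.UnivInjCompl.lTensor_injective_of_forall_fg
  intro Q _ _ hQ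
  rw [LinearMap.lTensor_inj_iff_rTensor_inj, injective_iff_map_eq_zero]
  intro x hx
  have h1 : x ∈ ⨅ n : ℕ, (RingHom.ker u) ^ n • (⊤ : Submodule B (B ⊗[A] Q)) := by
    rw [Submodule.mem_iInf]
    intro n
    exact mem_pow_smul_top _ n (hq n) Q x hx
  haveI : Module.Finite B (B ⊗[A] Q) := inferInstance
  obtain ⟨⟨r, hr⟩, hrx⟩ := (Ideal.mem_iInf_smul_pow_eq_bot_iff _ x).mp h1
  have h2 : (1 - r) • x = 0 := by
    have h3 : r • x = x := hrx
    have h4 : (1 - r) • x = (1 : B) • x - r • x := sub_smul (1 : B) r x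
    rw [h4, one_smul, h3, sub_self]
  have hb : u (1 - r) = 1 := by
    rw [map_sub, map_one, (RingHom.mem_ker).mp hr, sub_zero]
  let y := TensorProduct.comm A B Q x
  have hcomm : ∀ z : B ⊗[A] Q, (LinearMap.mulLeft A (1 - r)).lTensor Q
      (TensorProduct.comm A B Q z) = TensorProduct.comm A B Q ((1 - r) • z) := by
    intro z
    induction z using TensorProduct.induction_on with
    | zero => simp
    | add a b ha hb => simp only [map_add, smul_add, ha, hb]
    | tmul b q =>
      rw [TensorProduct.comm_tmul, LinearMap.lTensor_tmul, TensorProduct.smul_tmul',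
        TensorProduct.comm_tmul]
      rfl
  have hy : (LinearMap.mulLeft A (1 - r)).lTensor Q y = 0 := by
    show (LinearMap.mulLeft A (1 - r)).lTensor Q (TensorProduct.comm A B Q x) = 0
    rw [hcomm, h2, map_zero]
  have := mulLeft_lTensor_eq_zero hgi u (1 - r) hb Q y hy
  exact (TensorProduct.comm A B Q).injective (this.trans (map_zero _).symm)

end Main

end Groth.Agent.Lib.helper3.ComplUnivInj
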