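import Mathlib
import Groth.Agent.Lib.Helper26.DenseFP1

set_option autoImplicit false
set_option linter.style.haveILetI false
set_option linter.unusedSectionVars false

universe u

namespace Groth.Agent.Lib.helper3.DenseAlg

theorem fp_core {P B Bg : Type u} [CommRing P] [CommRing B] [CommRing Bg]
    [Algebra P B] (g : P) [Algebra B Bg]
    [IsLocalization.Away (algebraMap P B g) Bg] [Algebra (Localization.Away g) Bg] [Algebra P Bg]
    [IsScalarTower P B Bg] [IsScalarTower P (Localization.Away g) Bg]
    [Module.FinitePresentation (Localization.Away g) Bg] :
    Module.FinitePresentation (Localization.Away g)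
      (LocalizedModule (Submonoid.powers g) B) := by
  haveI h2 : IsLocalizedModule (Submonoid.powers g)
      ((Algebra.linearMap B Bg).restrictScalars P) :=
    IsLocalizedModule.restrictScalars_powers g _
  let e := IsLocalizedModule.iso (Submonoid.powers g) ((Algebra.linearMap B Bg).restrictScalars P)
  let e' := LinearEquiv.extendScalarsOfIsLocalization (Submonoid.powers g)
    (Localization.Away g) e
  exact Module.FinitePresentation.of_equiv e'.symm

/-- If `P → B` is surjective, `P` is a finitely presented `A`-algebra and `B_g` is a finitely
presented `A`-algebra, then the localization `B_g` of the `P`-module `B` is a finitely presented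
`P_g`-module. -/
theorem fp_module_of_fp_algebra_loc {A P B : Type u} [CommRing A] [CommRing P] [CommRing B]
    [Algebra A P] [Algebra P B] [Algebra A B] [IsScalarTower A P B]
    [Algebra.FinitePresentation A P] (hsurj : Function.Surjective (algebraMap P B)) (g : P)
    (hfp : Algebra.FinitePresentation A (Localization.Away (algebraMap P B g))) :
    Module.FinitePresentation (Localization.Away g)
      (LocalizedModule (Submonoid.powers g) B) := by
  let ψ : Localization.Away g →ₐ[A] Localization.Away (algebraMap P B g) :=
    Localization.awayMapₐ (IsScalarTower.toAlgHom A P B) g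
  have hψsurj : Function.Surjective ψ :=
    IsLocalization.Away.mapₐ_surjective_of_surjective (R := A) (Aₚ := Localization.Away g)
      (Bₚ := Localization.Away ((IsScalarTower.toAlgHom A P B) g))
      (f := IsScalarTower.toAlgHom A P B) g hsurj
  letI algPgBg : Algebra (Localization.Away g) (Localization.Away (algebraMap P B g)) :=
    ψ.toRingHom.toAlgebra
  haveI : Algebra.FinitePresentation P (Localization.Away g) :=
    IsLocalization.Away.finitePresentation g
  haveI : Algebra.FinitePresentation A (Localization.Away g) :=
    Algebra.FinitePresentation.trans A P (Localization.Away g)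
  have hker : (RingHom.ker ψ.toRingHom).FG :=
    Algebra.FinitePresentation.ker_fG_of_surjective ψ hψsurj
  haveI hfpBg : Module.FinitePresentation (Localization.Away g)
      (Localization.Away (algebraMap P B g)) := by
    refine Module.finitePresentation_of_surjective
      (Algebra.linearMap (Localization.Away g) (Localization.Away (algebraMap P B g))) hψsurj ?_
    have : LinearMap.ker (Algebra.linearMap (Localization.Away g)
        (Localization.Away (algebraMap P B g))) = RingHom.ker ψ.toRingHom := by
      ext x
      rfl
    rw [this]
    exact hker
  haveI tw : IsScalarTower P (Localization.Away g) (Localization.Away (algebraMap P B g)) := by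
    refine IsScalarTower.of_algebraMap_eq fun x => ?_
    change algebraMap B (Localization.Away (algebraMap P B g)) (algebraMap P B x) =
      ψ (algebraMap P (Localization.Away g) x)
    change _ = IsLocalization.Away.map (Localization.Away g)
      (Localization.Away ((IsScalarTower.toAlgHom A P B) g))
      (IsScalarTower.toAlgHom A P B).toRingHom g (algebraMap P (Localization.Away g) x)
    rw [IsLocalization.Away.map, IsLocalization.map_eq]
    rfl
  exact fp_core (P := P) (B := B) (Bg := Localization.Away (algebraMap P B g)) g

/-- algebra version of `DenseFP.finitePresentation_of_dense`. -/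
theorem algebra_fp_of_dense {A B : Type u} [CommRing A] [CommRing B] [Algebra A B]
    [Algebra.FiniteType A B] [Module.Flat A B] {n : ℕ} (f : Fin n → A)
    (hdense : Function.Injective (RingHom.pi (fun i => algebraMap A (Localization.Away (f i)))))
    (hfp : ∀ i, Algebra.FinitePresentation A (Localization.Away (algebraMap A B (f i)))) :
    Algebra.FinitePresentation A B := by
  obtain ⟨m, π, hπ⟩ := Algebra.FiniteType.iff_quotient_mvPolynomial''.mp
    (inferInstance : Algebra.FiniteType A B)
  letI algPB : Algebra (MvPolynomial (Fin m) A) B := π.toRingHom.toAlgebra
  haveI tw : IsScalarTower A (MvPolynomial (Fin m) A) B :=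
    IsScalarTower.of_algebraMap_eq fun r => (π.commutes r).symm
  have hsurj : Function.Surjective (algebraMap (MvPolynomial (Fin m) A) B) := hπ
  haveI : Module.Finite (MvPolynomial (Fin m) A) B :=
    Module.Finite.of_surjective (Algebra.linearMap (MvPolynomial (Fin m) A) B) hsurj
  have hfp' : ∀ i, Module.FinitePresentation
      (Localization.Away (algebraMap A (MvPolynomial (Fin m) A) (f i)))
      (LocalizedModule (Submonoid.powers (algebraMap A (MvPolynomial (Fin m) A) (f i))) B) := by
    intro i
    apply fp_module_of_fp_algebra_loc (A := A) hsurj
    have := hfp i
    rwa [IsScalarTower.algebraMap_apply A (MvPolynomial (Fin m) A) B] at this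
  have hM : Module.FinitePresentation (MvPolynomial (Fin m) A) B :=
    Groth.Agent.Lib.helper26.DenseFP.finitePresentation_of_dense
      (A := A) (B := MvPolynomial (Fin m) A) B f hdense hfp'
  have hker := Module.FinitePresentation.fg_ker
    (Algebra.linearMap (MvPolynomial (Fin m) A) B) hsurj
  refine ⟨m, π, hπ, ?_⟩
  have : LinearMap.ker (Algebra.linearMap (MvPolynomial (Fin m) A) B) =
      RingHom.ker π.toRingHom := by
    ext x
    rfl
  rw [this] at hker
  exact hker

end Groth.Agent.Lib.helper3.DenseAlg
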