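import Mathlib
import Groth.Agent.Lib.Helper3.DenseAlg1

set_option autoImplicit false
set_option linter.style.haveILetI false
set_option linter.unusedSectionVars false

universe u

namespace Groth.Agent.Lib.helper3.DenseAlg

/-- wrapper with a finite index type, elementwise density, and arbitrary models of the
localizations. -/
theorem algebra_fp_of_dense' {A B : Type u} [CommRing A] [CommRing B] [Algebra A B]
    [Algebra.FiniteType A B] [Module.Flat A B] {ι : Type*} [Finite ι] (f : ι → A)
    (hdense : ∀ a : A, (∀ i, ∃ k : ℕ, f i ^ k * a = 0) → a = 0)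
    (Bi : ι → Type u) [∀ i, CommRing (Bi i)] [∀ i, Algebra B (Bi i)] [∀ i, Algebra A (Bi i)]
    [∀ i, IsScalarTower A B (Bi i)] [∀ i, IsLocalization.Away (algebraMap A B (f i)) (Bi i)]
    (hfp : ∀ i, Algebra.FinitePresentation A (Bi i)) : Algebra.FinitePresentation A B := by
  obtain ⟨n, ⟨σ⟩⟩ := Finite.exists_equiv_fin ι
  refine algebra_fp_of_dense (A := A) (B := B) (fun j : Fin n => f (σ.symm j)) ?_ ?_
  · rw [injective_iff_map_eq_zero]
    intro a ha
    apply hdense
    intro i
    have h1 : algebraMap A (Localization.Away (f (σ.symm (σ i)))) a = 0 := congrFun ha (σ i)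
    rw [σ.symm_apply_apply] at h1
    obtain ⟨⟨_, k, rfl⟩, hk⟩ :=
      (IsLocalization.map_eq_zero_iff (Submonoid.powers (f i)) _ a).mp h1
    exact ⟨k, hk⟩
  · intro j
    let e : Localization.Away (algebraMap A B (f (σ.symm j))) ≃ₐ[B] Bi (σ.symm j) :=
      IsLocalization.algEquiv (Submonoid.powers (algebraMap A B (f (σ.symm j)))) _ _
    haveI := hfp (σ.symm j)
    exact Algebra.FinitePresentation.equiv (e.restrictScalars A).symm

end Groth.Agent.Lib.helper3.DenseAlg
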