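import Mathlib
import Groth.Agent.Lib.Helper3.DenseAlg2

set_option autoImplicit false
set_option linter.style.haveILetI false
set_option linter.unusedSectionVars false

universe u

open AlgebraicGeometry CategoryTheory TopologicalSpace

namespace Groth.Agent.Lib.helper3.DenseAlg

theorem fp_appLE_of_restrict {X S : Scheme.{u}} (f : X ⟶ S) (U : S.Opens)
    [LocallyOfFinitePresentation (f ∣_ U)] {W' : S.Opens} (hW' : IsAffineOpen W')
    (hW'U : W' ≤ U) {V' : X.Opens} (hV' : IsAffineOpen V') (e : V' ≤ f ⁻¹ᵁ W') :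
    (f.appLE W' V' e).hom.FinitePresentation := by
  have hV'U : V' ≤ f ⁻¹ᵁ U := e.trans (f.preimage_mono hW'U)
  have himg1 : U.ι ''ᵁ (U.ι ⁻¹ᵁ W') = W' := by
    rw [Scheme.Hom.image_preimage_eq_opensRange_inf, Scheme.Opens.opensRange_ι]
    exact inf_eq_right.mpr hW'U
  have himg2 : (f ⁻¹ᵁ U).ι ''ᵁ ((f ⁻¹ᵁ U).ι ⁻¹ᵁ V') = V' := by
    rw [Scheme.Hom.image_preimage_eq_opensRange_inf, Scheme.Opens.opensRange_ι]
    exact inf_eq_right.mpr hV'U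
  have hA1 : IsAffineOpen (U.ι ⁻¹ᵁ W') := by
    rw [← Scheme.Hom.isAffineOpen_iff_of_isOpenImmersion U.ι, himg1]
    exact hW'
  have hA2 : IsAffineOpen ((f ⁻¹ᵁ U).ι ⁻¹ᵁ V') := by
    rw [← Scheme.Hom.isAffineOpen_iff_of_isOpenImmersion (f ⁻¹ᵁ U).ι, himg2]
    exact hV'
  have e' : (f ⁻¹ᵁ U).ι ⁻¹ᵁ V' ≤ (f ∣_ U) ⁻¹ᵁ (U.ι ⁻¹ᵁ W') := by
    rintro ⟨x, hx⟩ hxV
    have : (f ∣_ U) ⟨x, hx⟩ = ⟨f x, hx⟩ := by
      apply Subtype.ext
      exact morphismRestrict_base_coe f U ⟨x, hx⟩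
    show (f ∣_ U) ⟨x, hx⟩ ∈ U.ι ⁻¹ᵁ W'
    rw [this]
    exact e hxV
  have h := (f ∣_ U).finitePresentation_appLE hA1 hA2 e'
  rw [morphismRestrict_appLE] at h
  exact (f.appLE_congr _ himg1 himg2 (fun φ => φ.hom.FinitePresentation)).mp h

end Groth.Agent.Lib.helper3.DenseAlg
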