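import Mathlib
import Groth.Agent.Lib.Helper3.DenseAlg3

set_option autoImplicit false
set_option linter.style.haveILetI false
set_option linter.unusedSectionVars false

universe u

open AlgebraicGeometry CategoryTheory TopologicalSpace

namespace Groth.Agent.Lib.helper3.DenseAlg

/-- a section killed by a power of `a` vanishes on `D(a)`. -/
theorem res_basicOpen_eq_zero {S : Scheme.{u}} {W : S.Opens} (a a₀ : Γ(S, W)) (k : ℕ)
    (h : a ^ k * a₀ = 0) :
    (S.presheaf.map (homOfLE (S.basicOpen_le a)).op).hom a₀ = 0 := by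
  have hu : IsUnit ((S.presheaf.map (homOfLE (S.basicOpen_le a)).op).hom a) :=
    S.toRingedSpace.isUnit_res_basicOpen a
  have h' := congrArg (S.presheaf.map (homOfLE (S.basicOpen_le a)).op).hom h
  rw [map_mul, map_pow, map_zero] at h'
  exact (hu.pow k).mul_right_eq_zero.mp h'

theorem eq_zero_of_locally {S : Scheme.{u}} {O : S.Opens} (s : Γ(S, O))
    (h : ∀ x ∈ O, ∃ (V : S.Opens) (hV : V ≤ O), x ∈ V ∧
      (S.presheaf.map (homOfLE hV).op).hom s = 0) : s = 0 := by
  refine S.IsSheaf.section_ext fun x hx => ?_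
  obtain ⟨V, hV, hxV, hs⟩ := h x hx
  refine ⟨V, hV, hxV, ?_⟩
  rw [map_zero]
  exact hs

/-- S0451 -/
theorem lfp_of_dense {X S : Scheme.{u}} (f : X ⟶ S) [LocallyOfFiniteType f] [Flat f]
    (U : S.Opens) [QuasiCompact U.ι] [IsSchemeTheoreticallyDominant U.ι]
    [LocallyOfFinitePresentation (f ∣_ U)] : LocallyOfFinitePresentation f := by
  constructor
  intro W hW V hV e
  classical
  have hK : IsCompact ((U ⊓ W : S.Opens) : Set S) := by
    have h1 : IsCompact (U.ι ⁻¹' (W : Set S)) :=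
      QuasiCompact.isCompact_preimage (f := U.ι) _ W.isOpen hW.isCompact
    have h2 := h1.image U.ι.continuous
    rw [Set.image_preimage_eq_inter_range, Scheme.Opens.range_ι, Set.inter_comm] at h2
    exact h2
  have hex : ∀ x : ↥(U ⊓ W : S.Opens), ∃ a : Γ(S, W),
      S.basicOpen a ≤ U ⊓ W ∧ x.1 ∈ S.basicOpen a := fun x =>
    hW.exists_basicOpen_le (V := U ⊓ W) x x.2.2
  choose a ha hxa using hex
  obtain ⟨t, ht⟩ := hK.elim_finite_subcover
    (fun x : ↥(U ⊓ W : S.Opens) => ((S.basicOpen (a x) : S.Opens) : Set S))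
    (fun x => (S.basicOpen (a x)).isOpen)
    (fun y hy => Set.mem_iUnion.mpr ⟨⟨y, hy⟩, hxa ⟨y, hy⟩⟩)
  letI alg : Algebra Γ(S, W) Γ(X, V) := (f.appLE W V e).hom.toAlgebra
  haveI : Algebra.FiniteType Γ(S, W) Γ(X, V) := f.finiteType_appLE hW hV e
  haveI : Module.Flat Γ(S, W) Γ(X, V) := f.flat_appLE hW hV e
  -- density
  have hdense : ∀ a₀ : Γ(S, W), (∀ i : t, ∃ k : ℕ, a i.1 ^ k * a₀ = 0) → a₀ = 0 := by
    intro a₀ h
    apply U.ι.app_injective W
    rw [map_zero, Scheme.Opens.ι_app]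
    refine eq_zero_of_locally (O := U.ι ''ᵁ U.ι ⁻¹ᵁ W) _ fun x hx => ?_
    have hxUW : x ∈ ((U ⊓ W : S.Opens) : Set S) := by
      obtain ⟨y, hy, rfl⟩ := hx
      exact ⟨y.2, hy⟩
    obtain ⟨i, hi⟩ := Set.mem_iUnion.mp (ht hxUW)
    obtain ⟨hit, hxi⟩ := Set.mem_iUnion.mp hi
    have hle : S.basicOpen (a i) ≤ U.ι ''ᵁ U.ι ⁻¹ᵁ W := by
      rw [Scheme.Hom.image_preimage_eq_opensRange_inf, Scheme.Opens.opensRange_ι]
      exact ha i
    refine ⟨S.basicOpen (a i), hle, hxi, ?_⟩
    obtain ⟨k, hk⟩ := h ⟨i, hit⟩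
    have hcomp : ∀ (O : S.Opens) (h1 : O ≤ W) (h2 : S.basicOpen (a i) ≤ O),
        (S.presheaf.map (homOfLE h2).op).hom ((S.presheaf.map (homOfLE h1).op).hom a₀) = 0 := by
      intro O h1 h2
      rw [← RingHom.comp_apply, ← CommRingCat.hom_comp, ← Functor.map_comp]
      exact res_basicOpen_eq_zero (a i) a₀ k hk
    exact hcomp _ _ hle
  -- the localizations
  have hVU : ∀ i : t, X.basicOpen ((f.appLE W V e).hom (a i.1)) ≤ f ⁻¹ᵁ (S.basicOpen (a i.1)) := by
    intro i
    rw [Scheme.basicOpen_appLE]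
    exact inf_le_right
  letI algA : ∀ i : t, Algebra Γ(S, W) Γ(X, X.basicOpen ((f.appLE W V e).hom (a i.1))) :=
    fun i => ((algebraMap Γ(X, V) Γ(X, X.basicOpen ((f.appLE W V e).hom (a i.1)))).comp
      (f.appLE W V e).hom).toAlgebra
  haveI : ∀ i : t, IsScalarTower Γ(S, W) Γ(X, V)
      Γ(X, X.basicOpen ((f.appLE W V e).hom (a i.1))) :=
    fun i => IsScalarTower.of_algebraMap_eq (fun x => rfl)
  haveI : ∀ i : t, IsLocalization.Away (algebraMap Γ(S, W) Γ(X, V) (a i.1))
      Γ(X, X.basicOpen ((f.appLE W V e).hom (a i.1))) :=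
    fun i => hV.isLocalization_basicOpen _
  have hfp : ∀ i : t, Algebra.FinitePresentation Γ(S, W)
      Γ(X, X.basicOpen ((f.appLE W V e).hom (a i.1))) := by
    intro i
    have h1 : (f.appLE (S.basicOpen (a i.1))
        (X.basicOpen ((f.appLE W V e).hom (a i.1))) (hVU i)).hom.FinitePresentation :=
      fp_appLE_of_restrict f U (hW.basicOpen (a i.1)) ((ha i.1).trans inf_le_left)
        (hV.basicOpen _) (hVU i)
    haveI : IsLocalization.Away (a i.1) Γ(S, S.basicOpen (a i.1)) :=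
      hW.isLocalization_basicOpen (a i.1)
    have h2 : (algebraMap Γ(S, W) Γ(S, S.basicOpen (a i.1))).FinitePresentation :=
      RingHom.finitePresentation_algebraMap.mpr
        (IsLocalization.Away.finitePresentation (a i.1))
    have h3 := h1.comp h2
    have heq : (f.appLE (S.basicOpen (a i.1))
        (X.basicOpen ((f.appLE W V e).hom (a i.1))) (hVU i)).hom.comp
          (algebraMap Γ(S, W) Γ(S, S.basicOpen (a i.1))) =
        (algebraMap Γ(X, V) Γ(X, X.basicOpen ((f.appLE W V e).hom (a i.1)))).comp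
          (f.appLE W V e).hom := by
      change (f.appLE (S.basicOpen (a i.1))
        (X.basicOpen ((f.appLE W V e).hom (a i.1))) (hVU i)).hom.comp
          (S.presheaf.map (homOfLE (S.basicOpen_le (a i.1))).op).hom =
        (X.presheaf.map (homOfLE (X.basicOpen_le _)).op).hom.comp (f.appLE W V e).hom
      rw [← CommRingCat.hom_comp, ← CommRingCat.hom_comp, Scheme.Hom.map_appLE,
        Scheme.Hom.appLE_map]
    rw [heq] at h3
    exact h3
  have key : Algebra.FinitePresentation Γ(S, W) Γ(X, V) :=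
    algebra_fp_of_dense' (A := Γ(S, W)) (B := Γ(X, V)) (ι := t) (fun i => a i.1) hdense
      (fun i => Γ(X, X.basicOpen ((f.appLE W V e).hom (a i.1)))) hfp
  exact key

end Groth.Agent.Lib.helper3.DenseAlg
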