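import Mathlib
import Groth.Agent.Lib.Helper3.DenseAlg4

set_option autoImplicit false
set_option linter.style.haveILetI false
set_option linter.unusedSectionVars false

universe u

open AlgebraicGeometry CategoryTheory TopologicalSpace Limits

namespace Groth.Agent.Lib.helper3.DenseAlg

/-- S0449 -/
theorem isOpenImmersion_of_iso_dense {X S : Scheme.{u}} (f : X ⟶ S) [IsSeparated f]
    [LocallyOfFiniteType f] [Flat f] (U : S.Opens) [QuasiCompact U.ι]
    [IsSchemeTheoreticallyDominant U.ι] [IsIso (f ∣_ U)] : IsOpenImmersion f := by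
  haveI : LocallyOfFinitePresentation (f ∣_ U) := inferInstance
  haveI : LocallyOfFinitePresentation f := lfp_of_dense f U
  suffices Mono f from IsOpenImmersion.of_flat_of_mono f
  rw [← pullback.isIso_diagonal_iff, IsClosedImmersion.isIso_iff_ker_eq_bot]
  let h : pullback f f ⟶ S := pullback.fst f f ≫ f
  haveI : Flat h := inferInstance
  let j : (h ⁻¹ᵁ U).toScheme ⟶ pullback f f := (h ⁻¹ᵁ U).ι
  haveI : IsSchemeTheoreticallyDominant j :=
    IsSchemeTheoreticallyDominant.of_isPullback (isPullback_morphismRestrict h U)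
  have hmem : ∀ z : (h ⁻¹ᵁ U).toScheme, h (j z) ∈ U := fun z => z.2
  have hr1 : Set.range (j ≫ pullback.fst f f) ⊆ Set.range (f ⁻¹ᵁ U).ι := by
    rintro _ ⟨z, rfl⟩
    rw [Scheme.Opens.range_ι]
    show f ((j ≫ pullback.fst f f) z) ∈ U
    rw [← Scheme.Hom.comp_apply, Category.assoc]
    exact hmem z
  have hr2 : Set.range (j ≫ pullback.snd f f) ⊆ Set.range (f ⁻¹ᵁ U).ι := by
    rintro _ ⟨z, rfl⟩
    rw [Scheme.Opens.range_ι]
    show f ((j ≫ pullback.snd f f) z) ∈ U
    rw [← Scheme.Hom.comp_apply, Category.assoc, ← pullback.condition]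
    exact hmem z
  have hfs : j ≫ pullback.fst f f = j ≫ pullback.snd f f := by
    have h12 : IsOpenImmersion.lift (f ⁻¹ᵁ U).ι (j ≫ pullback.fst f f) hr1 =
        IsOpenImmersion.lift (f ⁻¹ᵁ U).ι (j ≫ pullback.snd f f) hr2 := by
      rw [← cancel_mono (f ∣_ U), ← cancel_mono U.ι]
      simp only [Category.assoc, morphismRestrict_ι]
      rw [IsOpenImmersion.lift_fac_assoc, IsOpenImmersion.lift_fac_assoc, Category.assoc,
        Category.assoc, pullback.condition]
    calc j ≫ pullback.fst f f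
        = IsOpenImmersion.lift (f ⁻¹ᵁ U).ι (j ≫ pullback.fst f f) hr1 ≫ (f ⁻¹ᵁ U).ι :=
          (IsOpenImmersion.lift_fac _ _ _).symm
      _ = IsOpenImmersion.lift (f ⁻¹ᵁ U).ι (j ≫ pullback.snd f f) hr2 ≫ (f ⁻¹ᵁ U).ι := by
          rw [h12]
      _ = j ≫ pullback.snd f f := IsOpenImmersion.lift_fac _ _ _
  have hj : (j ≫ pullback.fst f f) ≫ pullback.diagonal f = j := by
    apply pullback.hom_ext
    · simp
    · simp [hfs]
  have hle : (pullback.diagonal f).ker ≤ j.ker := by
    have := Scheme.Hom.le_ker_comp (j ≫ pullback.fst f f) (pullback.diagonal f)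
    rwa [hj] at this
  rw [j.ker_eq_bot] at hle
  exact le_bot_iff.mp hle

end Groth.Agent.Lib.helper3.DenseAlg
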