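import Groth.Agent.Lib.Helper3.InvSplit

/-!
The determinant `det : (K,+) → Kˣ` of a λ-ring with positive structure (as a relation) and the
fact that it kills `F²` of the γ-filtration (helper3).
-/

set_option autoImplicit false
universe u

namespace Groth.Agent.Lib.helper3.GammaLib

open LambdaRing Finset
open Groth.Agent.Lib.helper3.AdamsOp

variable {K : Type u} [CommRing K] [LambdaOps K] (P : PosStructure K)

/-- the determinant (top exterior power) of a positive element -/
def top (e : K) : K := LambdaOps.lam (P.aug e).toNat e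

theorem toNat_aug_add {e g : K} (he : e ∈ P.pos) (hg : g ∈ P.pos) :
    (P.aug (e + g)).toNat = (P.aug e).toNat + (P.aug g).toNat := by
  have h1 := P.aug_pos e he
  have h2 := P.aug_pos g hg
  rw [map_add]; omega

theorem top_add {e g : K} (he : e ∈ P.pos) (hg : g ∈ P.pos) :
    top P (e + g) = top P e * top P g := by
  have h1 := P.aug_pos e he
  have h2 := P.aug_pos g hg
  rw [top, toNat_aug_add P he hg, LambdaOps.lam_add, Finset.sum_eq_single (P.aug e).toNat]
  · rw [Nat.add_sub_cancel_left]; rfl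
  · intro i hi hne
    rw [Finset.mem_range] at hi
    rcases Nat.lt_or_gt_of_ne hne with h | h
    · have : LambdaOps.lam ((P.aug e).toNat + (P.aug g).toNat - i) g = 0 := by
        apply P.lam_eq_zero g hg
        omega
      rw [this, mul_zero]
    · have : LambdaOps.lam i e = 0 := by
        apply P.lam_eq_zero e he
        omega
      rw [this, zero_mul]
  · intro h
    exfalso; apply h
    rw [Finset.mem_range]; omega

theorem isUnit_top {e : K} (he : e ∈ P.pos) : IsUnit (top P e) := P.isUnit_lam e he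

theorem top_line {w : K} (hw : P.IsLine w) : top P w = w := by
  rw [top, hw.2]
  exact LambdaOps.lam_one w

theorem top_one : top P 1 = 1 := top_line P (isLine_one' P)

theorem map_top {K' : Type u} [CommRing K'] [LambdaOps K'] {P' : PosStructure K'} {f : K →+* K'}
    (hf : IsExtension P P' f) (e : K) : f (top P e) = top P' (f e) := by
  rw [top, top, hf.isLambdaHom, hf.aug_comp]

theorem top_sum_lines {n : ℕ} (v : Fin n → K) (hv : ∀ i, P.IsLine (v i)) :
    top P (∑ i, v i) = ∏ i, v i := by
  rw [top, toNat_aug_sum_lines P v hv]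
  exact lam_top_sum_lines v hv

theorem top_line_mul (hK : HasSplitting K P) {a e : K} (ha : P.IsLine a) (he : e ∈ P.pos) :
    top P (a * e) = a ^ (P.aug e).toNat * top P e := by
  obtain ⟨L, hL, f, hf, s, hs, hse⟩ := exists_splitting P hK e he
  obtain ⟨m, v, hv, hvs⟩ := exists_fin_family L.posStr s hs
  have hfe : f e = ∑ i, v i := by rw [hvs, hse]
  have hn : (P.aug e).toNat = m := by
    rw [← hf.aug_comp, hfe]
    exact toNat_aug_sum_lines L.posStr v hv
  have hfa : L.posStr.IsLine (f a) := isLine_map hf ha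
  apply hf.injective
  rw [map_top P hf, map_mul, map_mul, map_pow, map_top P hf, hfe, Finset.mul_sum,
    top_sum_lines L.posStr (fun i => f a * v i) (fun i => isLine_mul' L.posStr hfa (hv i)),
    top_sum_lines L.posStr v hv, Finset.prod_mul_distrib, Finset.prod_const, Finset.card_univ,
    Fintype.card_fin, hn]

/-- `u` is the determinant of `x` -/
def IsDet (x u : K) : Prop :=
  ∃ e f, e ∈ P.pos ∧ f ∈ P.pos ∧ x = e - f ∧ u * top P f = top P e

variable {P}

theorem IsDet.unique {x u u' : K} (h : IsDet P x u) (h' : IsDet P x u') : u = u' := by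
  obtain ⟨e, f, he, hf, hx, hu⟩ := h
  obtain ⟨e', f', he', hf', hx', hu'⟩ := h'
  have h1 : e + f' = e' + f := by
    have : e - f = e' - f' := hx.symm.trans hx'
    linear_combination this
  have h2 : top P e * top P f' = top P e' * top P f := by
    rw [← top_add P he hf', ← top_add P he' hf, h1]
  have h3 : u * (top P f * top P f') = u' * (top P f * top P f') := by
    calc u * (top P f * top P f') = (u * top P f) * top P f' := by ring
      _ = top P e * top P f' := by rw [hu]
      _ = top P e' * top P f := h2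
      _ = (u' * top P f') * top P f := by rw [hu']
      _ = u' * (top P f * top P f') := by ring
  exact ((isUnit_top P hf).mul (isUnit_top P hf')).mul_left_injective h3

theorem isDet_exists (x : K) : ∃ u, IsDet P x u := by
  obtain ⟨e, f, he, hf, hx⟩ := P.exists_sub x
  obtain ⟨w, hw⟩ := isUnit_top P hf
  refine ⟨top P e * (w⁻¹ : Kˣ), e, f, he, hf, hx, ?_⟩
  rw [← hw, mul_assoc, Units.inv_mul, mul_one]

theorem IsDet.sub {x y u : K} (hx : IsDet P x u) (hy : IsDet P y u) : IsDet P (x - y) 1 := by
  obtain ⟨e, f, he, hf, hx, hu⟩ := hx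
  obtain ⟨e', f', he', hf', hy, hu'⟩ := hy
  refine ⟨e + f', f + e', P.add_mem _ _ he hf', P.add_mem _ _ hf he', ?_, ?_⟩
  · rw [hx, hy]; ring
  · rw [one_mul, top_add P hf he', top_add P he hf', ← hu, ← hu']
    ring

theorem IsDet.add {x y u v : K} (hx : IsDet P x u) (hy : IsDet P y v) :
    IsDet P (x + y) (u * v) := by
  obtain ⟨e, f, he, hf, hx, hu⟩ := hx
  obtain ⟨e', f', he', hf', hy, hv⟩ := hy
  refine ⟨e + e', f + f', P.add_mem _ _ he he', P.add_mem _ _ hf hf', ?_, ?_⟩
  · rw [hx, hy]; ring
  · rw [top_add P hf hf', top_add P he he', ← hu, ← hv]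
    ring

theorem isDet_zero : IsDet P (0 : K) 1 := by
  have h1 := (isLine_one' P).1
  exact ⟨1, 1, h1, h1, (sub_self 1).symm, one_mul _⟩

theorem isDet_line_sub_one {w : K} (hw : P.IsLine w) : IsDet P (w - 1) w :=
  ⟨w, 1, hw.1, (isLine_one' P).1, rfl, by rw [top_one, mul_one, top_line P hw]⟩

theorem IsDet.map {K' : Type u} [CommRing K'] [LambdaOps K'] {P' : PosStructure K'} {f : K →+* K'}
    (hf : IsExtension P P' f) {x u : K} (h : IsDet P x u) : IsDet P' (f x) (f u) := by
  obtain ⟨e, g, he, hg, hx, hu⟩ := h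
  refine ⟨f e, f g, hf.pos_subset e he, hf.pos_subset g hg, by rw [hx, map_sub], ?_⟩
  rw [← map_top P hf, ← map_top P hf, ← map_mul, hu]

theorem isDet_of_map {K' : Type u} [CommRing K'] [LambdaOps K'] {P' : PosStructure K'}
    {f : K →+* K'} (hf : IsExtension P P' f) {x : K} (h : IsDet P' (f x) 1) : IsDet P x 1 := by
  obtain ⟨u, hu⟩ := isDet_exists (P := P) x
  have h1 := (hu.map hf).unique h
  have h2 : u = 1 := hf.injective (by rw [h1, map_one])
  rwa [h2] at hu

variable (P)

/-- the elements `y` such that `det` kills the ideal generated by `y` -/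
def Kill : Set K := {y | ∀ e ∈ P.pos, IsDet P (e * y) 1}

variable {P}

theorem kill_zero : (0 : K) ∈ Kill P := by
  intro e _
  rw [mul_zero]
  exact isDet_zero

theorem kill_add {y y' : K} (hy : y ∈ Kill P) (hy' : y' ∈ Kill P) : y + y' ∈ Kill P := by
  intro e he
  have := (hy e he).add (hy' e he)
  rwa [mul_one, ← mul_add] at this

theorem kill_neg {y : K} (hy : y ∈ Kill P) : -y ∈ Kill P := by
  intro e he
  have := (isDet_zero (P := P)).sub (hy e he)
  rwa [zero_sub, ← mul_neg] at this

theorem kill_sub {y y' : K} (hy : y ∈ Kill P) (hy' : y' ∈ Kill P) : y - y' ∈ Kill P := by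
  rw [sub_eq_add_neg]
  exact kill_add hy (kill_neg hy')

theorem kill_mul_left (a : K) {y : K} (hy : y ∈ Kill P) : a * y ∈ Kill P := by
  intro e he
  obtain ⟨e₁, e₂, he₁, he₂, rfl⟩ := P.exists_sub a
  have h1 := hy (e * e₁) (P.mul_mem _ _ he he₁)
  have h2 := hy (e * e₂) (P.mul_mem _ _ he he₂)
  have := h1.sub h2
  have e3 : e * ((e₁ - e₂) * y) = e * e₁ * y - e * e₂ * y := by ring
  rwa [e3]

theorem kill_mul_right (a : K) {y : K} (hy : y ∈ Kill P) : y * a ∈ Kill P := by
  rw [mul_comm]; exact kill_mul_left a hy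

theorem kill_sum {ι : Type*} (T : Finset ι) (y : ι → K) (h : ∀ i ∈ T, y i ∈ Kill P) :
    ∑ i ∈ T, y i ∈ Kill P := by
  classical
  induction T using Finset.induction_on with
  | empty => rw [Finset.sum_empty]; exact kill_zero
  | insert a T ha ih =>
    rw [Finset.sum_insert ha]
    exact kill_add (h a (Finset.mem_insert_self a T)) (ih fun i hi => h i (Finset.mem_insert_of_mem hi))

theorem kill_of_map {K' : Type u} [CommRing K'] [LambdaOps K'] {P' : PosStructure K'}
    {f : K →+* K'} (hf : IsExtension P P' f) {y : K} (h : f y ∈ Kill P') : y ∈ Kill P := by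
  intro e he
  apply isDet_of_map hf
  rw [map_mul]
  exact h (f e) (hf.pos_subset e he)

theorem kill_line_line (hK : HasSplitting K P) {a b : K} (ha : P.IsLine a) (hb : P.IsLine b) :
    (a - 1) * (b - 1) ∈ Kill P := by
  intro e he
  have hab := isLine_mul' P ha hb
  refine ⟨(a * b) * e + e, a * e + b * e,
    P.add_mem _ _ (P.mul_mem _ _ hab.1 he) he,
    P.add_mem _ _ (P.mul_mem _ _ ha.1 he) (P.mul_mem _ _ hb.1 he), by ring, ?_⟩
  rw [one_mul, top_add P (P.mul_mem _ _ ha.1 he) (P.mul_mem _ _ hb.1 he),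
    top_add P (P.mul_mem _ _ hab.1 he) he, top_line_mul P hK ha he, top_line_mul P hK hb he,
    top_line_mul P hK hab he, mul_pow]
  ring

/-- `e - ε(e)` becomes a sum of `v_i - 1` in a splitting extension -/
theorem kill_pos_pos (hK : HasSplitting K P) {e g : K} (he : e ∈ P.pos) (hg : g ∈ P.pos) :
    (e - ((P.aug e).toNat : K)) * (g - ((P.aug g).toNat : K)) ∈ Kill P := by
  obtain ⟨L, hL, f, hf, s, t, hs, ht, hse, htg⟩ := exists_splitting₂ P hK e g he hg
  obtain ⟨m, v, hv, hvs⟩ := exists_fin_family L.posStr s hs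
  obtain ⟨m', w, hw, hwt⟩ := exists_fin_family L.posStr t ht
  have hfe : f e = ∑ i, v i := by rw [hvs, hse]
  have hfg : f g = ∑ i, w i := by rw [hwt, htg]
  have hn : (P.aug e).toNat = m := by
    rw [← hf.aug_comp, hfe]
    exact toNat_aug_sum_lines L.posStr v hv
  have hn' : (P.aug g).toNat = m' := by
    rw [← hf.aug_comp, hfg]
    exact toNat_aug_sum_lines L.posStr w hw
  apply kill_of_map hf
  have h1 : f (e - ((P.aug e).toNat : K)) = ∑ i, (v i - 1) := by
    rw [map_sub, map_natCast, hfe, hn, Finset.sum_sub_distrib]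
    simp
  have h2 : f (g - ((P.aug g).toNat : K)) = ∑ i, (w i - 1) := by
    rw [map_sub, map_natCast, hfg, hn', Finset.sum_sub_distrib]
    simp
  rw [map_mul, h1, h2, Finset.sum_mul_sum]
  refine kill_sum _ _ fun i _ => kill_sum _ _ fun j _ => ?_
  exact kill_line_line hL (hv i) (hw j)

theorem exists_pos_sub_of_aug {x : K} (hx : P.aug x = 0) :
    ∃ e g, e ∈ P.pos ∧ g ∈ P.pos ∧
      x = (e - ((P.aug e).toNat : K)) - (g - ((P.aug g).toNat : K)) := by
  obtain ⟨e₁, e₂, he₁, he₂, rfl⟩ := P.exists_sub x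
  have h1 := P.aug_pos e₁ he₁
  have h2 := P.aug_pos e₂ he₂
  have haug : (P.aug e₁).toNat = (P.aug e₂).toNat := by
    rw [map_sub] at hx
    omega
  refine ⟨e₁, e₂, he₁, he₂, ?_⟩
  rw [haug]; ring

theorem kill_mul_of_aug (hK : HasSplitting K P) {x y : K} (hx : P.aug x = 0) (hy : P.aug y = 0) :
    x * y ∈ Kill P := by
  obtain ⟨e, g, he, hg, rfl⟩ := exists_pos_sub_of_aug hx
  obtain ⟨e', g', he', hg', rfl⟩ := exists_pos_sub_of_aug hy
  have e1 : ((e - ((P.aug e).toNat : K)) - (g - ((P.aug g).toNat : K))) *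
      ((e' - ((P.aug e').toNat : K)) - (g' - ((P.aug g').toNat : K))) =
      ((e - ((P.aug e).toNat : K)) * (e' - ((P.aug e').toNat : K)) -
        (e - ((P.aug e).toNat : K)) * (g' - ((P.aug g').toNat : K))) -
      ((g - ((P.aug g).toNat : K)) * (e' - ((P.aug e').toNat : K)) -
        (g - ((P.aug g).toNat : K)) * (g' - ((P.aug g').toNat : K))) := by ring
  rw [e1]
  exact kill_sub (kill_sub (kill_pos_pos hK he he') (kill_pos_pos hK he hg'))
    (kill_sub (kill_pos_pos hK hg he') (kill_pos_pos hK hg hg'))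

variable (P)

/-- the good elements: augmentation zero, all `γ^r`, `r ≥ 1`, of augmentation zero, and all
`γ^r`, `r ≥ 2`, killed by `det` -/
def Good (y : K) : Prop :=
  P.aug y = 0 ∧ (∀ r : ℕ, 1 ≤ r → P.aug (gamma r y) = 0) ∧ ∀ r : ℕ, 2 ≤ r → gamma r y ∈ Kill P

variable {P}

theorem Good.add (hK : HasSplitting K P) {y y' : K} (hy : Good P y) (hy' : Good P y') :
    Good P (y + y') := by
  refine ⟨by rw [map_add, hy.1, hy'.1, add_zero], fun r hr => ?_, fun r hr => ?_⟩
  · rw [Groth.Agent.S3289.result, map_sum]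
    refine Finset.sum_eq_zero fun i hi => ?_
    rw [Finset.mem_range] at hi
    rw [map_mul]
    rcases Nat.eq_zero_or_pos i with h0 | h0
    · rw [hy'.2.1 (r - i) (by omega), mul_zero]
    · rw [hy.2.1 i h0, zero_mul]
  · rw [Groth.Agent.S3289.result]
    refine kill_sum _ _ fun i hi => ?_
    rw [Finset.mem_range] at hi
    rcases Nat.eq_zero_or_pos i with h0 | h0
    · subst h0
      rw [gamma_zero_left, one_mul, Nat.sub_zero]
      exact hy'.2.2 r hr
    · rcases Nat.eq_zero_or_pos (r - i) with h1 | h1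
      · rw [h1, gamma_zero_left, mul_one]
        have : i = r := by omega
        rw [this]
        exact hy.2.2 r hr
      · exact kill_mul_of_aug hK (hy.2.1 i h0) (hy'.2.1 (r - i) h1)

theorem Good.neg (hK : HasSplitting K P) {y : K} (hy : Good P y) : Good P (-y) := by
  have haug : ∀ r : ℕ, 1 ≤ r → P.aug (gamma r (-y)) = 0 := by
    intro r hr
    rw [gamma_neg_rec y r hr, map_neg, map_sum, neg_eq_zero]
    refine Finset.sum_eq_zero fun c _ => ?_
    rw [map_mul, hy.2.1 (c + 1) (by omega), zero_mul]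
  refine ⟨by rw [map_neg, hy.1, neg_zero], haug, fun r hr => ?_⟩
  rw [gamma_neg_rec y r (by omega)]
  apply kill_neg
  refine kill_sum _ _ fun c hc => ?_
  rw [Finset.mem_range] at hc
  rcases Nat.eq_zero_or_pos (r - (c + 1)) with h1 | h1
  · rw [h1, gamma_zero_left, mul_one]
    have : c + 1 = r := by omega
    rw [this]
    exact hy.2.2 r hr
  · exact kill_mul_of_aug hK (hy.2.1 (c + 1) (by omega)) (haug _ h1)

theorem good_pos_sub (hK : HasSplitting K P) {e : K} (he : e ∈ P.pos) :
    Good P (e - ((P.aug e).toNat : K)) := by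
  have hpos := P.aug_pos e he
  obtain ⟨L, hL, f, hf, s, hs, hse⟩ := exists_splitting P hK e he
  obtain ⟨m, v, hv, hvs⟩ := exists_fin_family L.posStr s hs
  have hfe : f e = ∑ i, v i := by rw [hvs, hse]
  have hn : (P.aug e).toNat = m := by
    rw [← hf.aug_comp, hfe]
    exact toNat_aug_sum_lines L.posStr v hv
  have haug : P.aug (e - ((P.aug e).toNat : K)) = 0 := by
    rw [map_sub, map_natCast]
    omega
  have h1L : ∀ k : ℕ, 2 ≤ k → LambdaOps.lam k (1 : L.carrier) = 0 := by
    intro k hk
    exact L.posStr.lam_eq_zero 1 (isLine_one' L.posStr).1 k (by rw [map_one]; exact_mod_cast hk)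
  have hvy : ∀ (i : Fin m) (k : ℕ), 2 ≤ k → LambdaOps.lam k (v i) = 0 := by
    intro i k hk
    exact L.posStr.lam_eq_zero (v i) (hv i).1 k (by rw [(hv i).2]; exact_mod_cast hk)
  have hfgam : ∀ r : ℕ, f (gamma r (e - ((P.aug e).toNat : K))) =
      ∑ t ∈ (univ : Finset (Fin m)).powersetCard r, ∏ i ∈ t, (v i - 1) := by
    intro r
    rw [map_gamma f hf.isLambdaHom, map_sub, map_natCast, hfe, hn,
      Groth.Agent.S8651.result L.carrier h1L m v hvy r]
  refine ⟨haug, fun r hr => ?_, fun r hr => ?_⟩
  · rw [← hf.aug_comp, hfgam, map_sum]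
    refine Finset.sum_eq_zero fun t ht => ?_
    rw [Finset.mem_powersetCard] at ht
    have hne : t.Nonempty := by
      rw [← Finset.card_pos]; omega
    obtain ⟨i, hi⟩ := hne
    rw [map_prod]
    refine Finset.prod_eq_zero hi ?_
    rw [map_sub, (hv i).2, map_one, sub_self]
  · apply kill_of_map hf
    rw [hfgam]
    refine kill_sum _ _ fun t ht => ?_
    rw [Finset.mem_powersetCard] at ht
    have hcard : 1 < t.card := by omega
    obtain ⟨a, ha, b, hb, hab⟩ := Finset.one_lt_card.mp hcard
    classical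
    have hb' : b ∈ t.erase a := Finset.mem_erase.mpr ⟨hab.symm, hb⟩
    rw [← Finset.mul_prod_erase t _ ha, ← Finset.mul_prod_erase (t.erase a) _ hb', ← mul_assoc]
    exact kill_mul_right _ (kill_line_line hL (hv a) (hv b))

theorem good_of_aug (hK : HasSplitting K P) {x : K} (hx : P.aug x = 0) : Good P x := by
  obtain ⟨e, g, he, hg, rfl⟩ := exists_pos_sub_of_aug hx
  rw [sub_eq_add_neg]
  exact (good_pos_sub hK he).add hK ((good_pos_sub hK hg).neg hK)

/-- γ-monomials of weight `≥ 1` have augmentation zero, those of weight `≥ 2` are killed by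
`det` -/
theorem list_prod_good (hK : HasSplitting K P) (l : List (ℕ × K)) (hl : ∀ p ∈ l, P.aug p.2 = 0) :
    (1 ≤ (l.map Prod.fst).sum → P.aug (l.map fun p => gamma p.1 p.2).prod = 0) ∧
    (2 ≤ (l.map Prod.fst).sum → (l.map fun p => gamma p.1 p.2).prod ∈ Kill P) := by
  induction l with
  | nil => simp
  | cons p l ih =>
    have hp := good_of_aug hK (hl p List.mem_cons_self)
    obtain ⟨ih1, ih2⟩ := ih fun q hq => hl q (List.mem_cons_of_mem _ hq)
    simp only [List.map_cons, List.prod_cons, List.sum_cons]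
    constructor
    · intro h
      rw [map_mul]
      rcases Nat.eq_zero_or_pos p.1 with h0 | h0
      · rw [ih1 (by omega), mul_zero]
      · rw [hp.2.1 p.1 h0, zero_mul]
    · intro h
      rcases Nat.lt_or_ge p.1 2 with h2 | h2
      · rcases Nat.eq_zero_or_pos p.1 with h0 | h0
        · rw [h0, gamma_zero_left, one_mul]
          exact ih2 (by omega)
        · exact kill_mul_of_aug hK (hp.2.1 p.1 h0) (ih1 (by omega))
      · exact kill_mul_right _ (hp.2.2 p.1 h2)

theorem filtration_two_le_kill (hK : HasSplitting K P) {y : K} (hy : y ∈ gammaFiltration P 2) :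
    y ∈ Kill P := by
  rw [gammaFiltration, if_neg (by norm_num)] at hy
  induction hy using AddSubgroup.closure_induction with
  | mem y hy =>
    obtain ⟨l, hl, hsum, rfl⟩ := hy
    exact (list_prod_good hK l hl).2 hsum
  | zero => exact kill_zero
  | add a b _ _ ha hb => exact kill_add ha hb
  | neg a _ ha => exact kill_neg ha

theorem filtration_one_le_aug (hK : HasSplitting K P) {y : K} (hy : y ∈ gammaFiltration P 1) :
    P.aug y = 0 := by
  rw [gammaFiltration, if_neg (by norm_num)] at hy
  induction hy using AddSubgroup.closure_induction with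
  | mem y hy =>
    obtain ⟨l, hl, hsum, rfl⟩ := hy
    exact (list_prod_good hK l hl).1 hsum
  | zero => exact map_zero _
  | add a b _ _ ha hb => rw [map_add, ha, hb, add_zero]
  | neg a _ ha => rw [map_neg, ha, neg_zero]

/-- a line element congruent to `1` modulo `F²` is `1` -/
theorem line_eq_one_of_sub_mem (hK : HasSplitting K P) {w : K} (hw : P.IsLine w)
    (h : w - 1 ∈ gammaFiltration P 2) : w = 1 := by
  have h1 := filtration_two_le_kill hK h 1 (isLine_one' P).1
  rw [one_mul] at h1
  exact (isDet_line_sub_one hw).unique h1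

end Groth.Agent.Lib.helper3.GammaLib
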