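import Mathlib
import Groth.Agent.Lib.Helper3.DimBetween
/-!
# Helper library (helper3): Krull's height bound relative to a prime.

`height_map_le_of_mem_minimalPrimes` : for `φ : A → B` with `B` Noetherian, primes `q0 ≤ Q` of `B`
with `Q` minimal over `q0 + pB` and lying over `p`: `ht(Q/q0) ≤ ht(p/p0)`, `p0 = q0 ∩ A`.
-/

set_option autoImplicit false
universe u
open Function

namespace Groth.Agent.Lib.helper3.DimIneq

theorem height_map_le_of_mem_minimalPrimes {A B : Type u} [CommRing A] [CommRing B]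
    [IsNoetherianRing A]
    [IsNoetherianRing B] (φ : A →+* B) (q0 Q : Ideal B) [q0.IsPrime] [Q.IsPrime] (p : Ideal A)
    [p.IsPrime] (hQ : Q ∈ (q0 ⊔ p.map φ).minimalPrimes) (hQp : Q.comap φ = p) :
    (Q.map (Ideal.Quotient.mk q0)).height ≤
      (p.map (Ideal.Quotient.mk (q0.comap φ))).height := by
  have hq0Q : q0 ≤ Q := le_sup_left.trans hQ.1.2
  have hp0p : q0.comap φ ≤ p := by rw [← hQp]; exact Ideal.comap_mono hq0Q
  have hsurj : Surjective (Ideal.Quotient.mk q0) := Ideal.Quotient.mk_surjective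
  have hsurjA : Surjective (Ideal.Quotient.mk (q0.comap φ)) := Ideal.Quotient.mk_surjective
  set φ' := Ideal.quotientMap q0 φ le_rfl with hφ'
  have hcomm : φ'.comp (Ideal.Quotient.mk (q0.comap φ)) = (Ideal.Quotient.mk q0).comp φ := by
    ext a; rfl
  set Q' : Ideal (B ⧸ q0) := Q.map (Ideal.Quotient.mk q0) with hQ'def
  haveI hQ'p : Q'.IsPrime := by
    apply Ideal.map_isPrime_of_surjective hsurj
    rw [Ideal.mk_ker]; exact hq0Q
  have hQ'c : Q'.comap (Ideal.Quotient.mk q0) = Q := by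
    rw [hQ'def, Ideal.comap_map_of_surjective _ hsurj, ← RingHom.ker_eq_comap_bot, Ideal.mk_ker]
    exact sup_eq_left.mpr hq0Q
  set p' : Ideal (A ⧸ q0.comap φ) := p.map (Ideal.Quotient.mk (q0.comap φ)) with hp'def
  haveI hp'p : p'.IsPrime := by
    apply Ideal.map_isPrime_of_surjective hsurjA
    rw [Ideal.mk_ker]; exact hp0p
  have hP'c : (Q'.comap φ').comap (Ideal.Quotient.mk (q0.comap φ)) = p := by
    rw [Ideal.comap_comap, hcomm, ← Ideal.comap_comap, hQ'c, hQp]
  have hP'map : p' = Q'.comap φ' := by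
    rw [hp'def, ← hP'c, Ideal.map_comap_of_surjective _ hsurjA]
  letI := φ'.toAlgebra
  haveI : Q'.LiesOver p' := ⟨hP'map⟩
  have key := Ideal.height_le_height_add_of_liesOver p' Q'
  suffices h0 : (Q'.map (Ideal.Quotient.mk (p'.map (algebraMap (A ⧸ q0.comap φ) (B ⧸ q0))))).height
      = 0 by
    rw [h0, add_zero] at key
    exact key
  -- the composite surjection
  set J : Ideal (B ⧸ q0) := p'.map (algebraMap (A ⧸ q0.comap φ) (B ⧸ q0)) with hJ
  set g : B →+* (B ⧸ q0) ⧸ J := (Ideal.Quotient.mk J).comp (Ideal.Quotient.mk q0) with hg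
  have hgsurj : Surjective g := Ideal.Quotient.mk_surjective.comp hsurj
  have hJ' : J = (p.map φ).map (Ideal.Quotient.mk q0) := by
    rw [hJ, hp'def, Ideal.map_map]
    change p.map (φ'.comp (Ideal.Quotient.mk (q0.comap φ))) = _
    rw [hcomm, ← Ideal.map_map]
  have hker : (⊥ : Ideal ((B ⧸ q0) ⧸ J)).comap g = q0 ⊔ p.map φ := by
    rw [hg, ← Ideal.comap_comap, ← RingHom.ker_eq_comap_bot, Ideal.mk_ker, hJ',
      Ideal.comap_map_of_surjective _ hsurj, ← RingHom.ker_eq_comap_bot, Ideal.mk_ker, sup_comm]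
  rw [← hker, Ideal.comap_minimalPrimes_eq_of_surjective hgsurj] at hQ
  obtain ⟨M, hM, hMQ⟩ := hQ
  have hMeq : M = Q'.map (Ideal.Quotient.mk J) := by
    rw [hQ'def, Ideal.map_map, ← hMQ]
    exact (Ideal.map_comap_of_surjective g hgsurj M).symm
  haveI : M.IsPrime := hM.1.1
  rw [← hMeq]
  exact Ideal.height_eq_zero_iff.mpr hM

end Groth.Agent.Lib.helper3.DimIneq
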