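import Mathlib
import Groth.Prelude.Def_EGA43
import Groth.Agent.S0402
import Groth.Agent.S0403
import Groth.Agent.Lib.Helper3.OpenAtComp
/-!
# Helper library (helper3): EGA IV 14.2.x — a dominating component through a maximal point `ζ` of a
fibre at which `dim O_{Y,f ζ} ≤ dim O_{X,ζ}` (generalises `exists_dominating_component`, where this
inequality came from openness of `f` at `ζ`).
-/

set_option autoImplicit false
universe u
open CategoryTheory AlgebraicGeometry Function TopologicalSpace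

namespace Groth.Agent.Lib.helper3.DomComp

open Groth.Agent.Lib.helper3.DimIneq Groth.Agent.Lib.helper3.FTField
  Groth.Agent.Lib.helper3.FibreField Groth.Agent.Lib.helper3.DimFibre
  Groth.Agent.Lib.helper3.RelDim Groth.Agent.Lib.helper3.EquidimAt
  Groth.Agent.Lib.helper3.QFinTop Groth.Agent.Lib.helper3.EquidimIrr
  Groth.Agent.Lib.helper3.OpenAtDim

theorem exists_dominating_component_of_dim_le {X Y : Scheme.{u}} [IsLocallyNoetherian Y] [IrreducibleSpace Y]
    (f : X ⟶ Y) [LocallyOfFiniteType f] (ζ : X)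
    (hdim : ringKrullDim (Y.presheaf.stalk (f ζ)) ≤ ringKrullDim (X.presheaf.stalk ζ)) (hmax : ∀ z' : X, z' ⤳ ζ → f z' = f ζ → z' = ζ) :
    ∃ (ξ' : X) (N : ℕ), closure ({ξ'} : Set X) ∈ irreducibleComponents X ∧ ξ' ⤳ ζ ∧
      f ξ' = genericPoint Y ∧ td (f.residueFieldMap ξ').hom = (N : Cardinal.{u}) ∧
      td (f.residueFieldMap ζ).hom = (N : Cardinal.{u}) := by
  haveI hXN : IsLocallyNoetherian X := LocallyOfFiniteType.isLocallyNoetherian f
  obtain ⟨V, hV, hyV, -⟩ := exists_isAffineOpen_mem_and_subset (x := f ζ) (U := ⊤) trivial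
  obtain ⟨U, hU, hζU, e⟩ := exists_isAffineOpen_mem_and_subset (x := ζ) (U := f ⁻¹ᵁ V) hyV
  haveI : IsNoetherianRing Γ(Y, V) := IsLocallyNoetherian.component_noetherian ⟨V, hV⟩
  haveI : IsNoetherianRing Γ(X, U) := IsLocallyNoetherian.component_noetherian ⟨U, hU⟩
  obtain ⟨q0, hq0min, hq0le, hht⟩ :=
    exists_minimalPrimes_height_map_eq (hU.primeIdealOf ⟨ζ, hζU⟩).asIdeal
  haveI := hq0min.1.1
  obtain ⟨ξ', hξ'U, rfl⟩ := exists_point_of_prime hU q0
  have hξ'c := closure_mem_irreducibleComponents hU ξ' hξ'U hq0min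
  have hsp : ξ' ⤳ ζ := (specializes_iff_primeIdealOf_le hU ξ' ζ hξ'U hζU).mpr hq0le
  have hξ'max : ∀ ω : X, ω ⤳ ξ' → ω = ξ' := fun ω h =>
    eq_of_specializes_of_closure_mem_irreducibleComponents ξ' hξ'c ω h
  obtain ⟨N, b, hN, -, -⟩ := fibreDimAt_eq_add f ζ
  obtain ⟨E, b', hE, -, -⟩ := fibreDimAt_eq_add f ξ'
  have hfdζ := fibreDimAt_eq_td_of_forall f ζ hmax N hN
  have hfdξ := fibreDimAt_eq_td_of_forall f ξ' (fun x' h _ => hξ'max x' h) E hE
  have hEN : E ≤ N := by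
    have hopen' := Groth.Agent.S0402.result f N
    have hζ' : ζ ∈ {x : X | FlatMor.fibreDimAt f x ≤ (N : WithBot ℕ∞)} := by
      rw [Set.mem_ofPred_eq, hfdζ]
    have := hsp.mem_open hopen' hζ'
    rw [Set.mem_ofPred_eq, hfdξ] at this
    exact_mod_cast this
  have hp0p : (hV.primeIdealOf ⟨f ξ', e hξ'U⟩).asIdeal ≤ (hV.primeIdealOf ⟨f ζ, e hζU⟩).asIdeal :=
    (specializes_iff_primeIdealOf_le hV _ _ (e hξ'U) (e hζU)).mp (hsp.map f.continuous)
  have key := dimension_inequality_specializes f hV hU e ξ' ζ hξ'U hζU hq0le N E hN hE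
  rw [hht] at key
  have hcore : (hV.primeIdealOf ⟨f ζ, e hζU⟩).asIdeal.height ≤
      (hU.primeIdealOf ⟨ζ, hζU⟩).asIdeal.height := by
    rw [ringKrullDim_stalk_eq_height hU ζ hζU, ringKrullDim_stalk_eq_height hV (f ζ) (e hζU)] at hdim
    exact_mod_cast hdim
  have h2 := Groth.Agent.Lib.helper3.DimIneq.height_map_le _ _ hp0p
  obtain ⟨a, ha⟩ := ENat.ne_top_iff_exists.mp
    (Ideal.height_ne_top_of_isPrime (I := (hU.primeIdealOf ⟨ζ, hζU⟩).asIdeal))
  obtain ⟨b0, hb0⟩ := ENat.ne_top_iff_exists.mp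
    (Ideal.height_ne_top_of_isPrime (I := (hV.primeIdealOf ⟨f ζ, e hζU⟩).asIdeal))
  haveI := map_mk_isPrime _ _ hp0p
  obtain ⟨c, hc⟩ := ENat.ne_top_iff_exists.mp
    (Ideal.height_ne_top_of_isPrime (I := (hV.primeIdealOf ⟨f ζ, e hζU⟩).asIdeal.map
      (Ideal.Quotient.mk (hV.primeIdealOf ⟨f ξ', e hξ'U⟩).asIdeal)))
  obtain ⟨d0, hd0⟩ := ENat.ne_top_iff_exists.mp
    (Ideal.height_ne_top_of_isPrime (I := (hV.primeIdealOf ⟨f ξ', e hξ'U⟩).asIdeal))
  have hadd := height_add_height_map_le _ _ hp0p c hc.symm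
  rw [← ha, ← hc] at key
  rw [← hb0, ← ha] at hcore
  rw [← hc, ← hb0] at h2
  rw [← hd0, ← hb0] at hadd
  have key' : a + N ≤ c + E := by exact_mod_cast key
  have hcore' : b0 ≤ a := by exact_mod_cast hcore
  have h2' : c ≤ b0 := by exact_mod_cast h2
  have hadd' : d0 + c ≤ b0 := by exact_mod_cast hadd
  have hEN' : E = N := by omega
  have hd00 : d0 = 0 := by omega
  have hmin : (hV.primeIdealOf ⟨f ξ', e hξ'U⟩).asIdeal ∈ minimalPrimes Γ(Y, V) := by
    apply Ideal.height_eq_zero_iff.mp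
    rw [← hd0, hd00]; rfl
  refine ⟨ξ', N, hξ'c, hsp, eq_genericPoint_of_mem_minimalPrimes hV (f ξ') (e hξ'U) hmin, ?_, hN⟩
  rw [hE, hEN']


/-- `E(y) ⊆ E(η)` when `dim O_{Y,y} ≤ dim O_{X,z}` at all maximal points `z` of `X_y`. -/
theorem exists_component_generic_fibre_of_dim_le {X Y : Scheme.{u}} [IrreducibleSpace Y]
    [IsLocallyNoetherian Y] (f : X ⟶ Y) [LocallyOfFiniteType f] (y : Y)
    (h : ∀ z : X, f z = y → (∀ z' : X, z' ⤳ z → f z' = f z → z' = z) →
      ringKrullDim (Y.presheaf.stalk (f z)) ≤ ringKrullDim (X.presheaf.stalk z))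
    (Z : Set ↥(f.fiber y)) (hZ : Z ∈ irreducibleComponents ↥(f.fiber y)) :
    ∃ Z' ∈ irreducibleComponents ↥(f.fiber (genericPoint Y)),
      topologicalKrullDim ↥Z' = topologicalKrullDim ↥Z := by
  obtain ⟨ζ, hζ⟩ := QuasiSober.sober hZ.1 (isClosed_of_mem_irreducibleComponents Z hZ)
  have hZζ : closure ({ζ} : Set (f.fiber y)) = Z := hζ.def
  subst hZζ
  have hfζ : f (f.fiberι y ζ) = y := fiberι_mem f y ζ
  have hmax := fibre_maximal_of_closure_mem f y ζ hZ
  obtain ⟨ξ', N, hξ'c, hsp, hfξ', htdξ', htdζ⟩ :=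
    exists_dominating_component_of_dim_le f (f.fiberι y ζ) (h _ hfζ hmax) hmax
  have hmem : ξ' ∈ Set.range (f.fiberι (genericPoint Y)) := by
    rw [f.range_fiberι (genericPoint Y)]; exact hfξ'
  obtain ⟨ξt, rfl⟩ := hmem
  refine ⟨closure {ξt}, closure_mem_of_fibre_maximal f _ ξt (fun t' ht' _ =>
    eq_of_specializes_of_closure_mem_irreducibleComponents _ hξ'c t' ht'), ?_⟩
  rw [dim_closure_fibre_point f _ ξt N htdξ', dim_closure_fibre_point f y ζ N htdζ]

theorem dim_fibre_le_generic_of_dim_le {X Y : Scheme.{u}} [IrreducibleSpace Y]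
    [IsLocallyNoetherian Y] (f : X ⟶ Y) [LocallyOfFiniteType f] (y : Y)
    (h : ∀ z : X, f z = y → (∀ z' : X, z' ⤳ z → f z' = f z → z' = z) →
      ringKrullDim (Y.presheaf.stalk (f z)) ≤ ringKrullDim (X.presheaf.stalk z)) :
    topologicalKrullDim ↥(f.fiber y) ≤ topologicalKrullDim ↥(f.fiber (genericPoint Y)) := by
  rw [Groth.Agent.S0403.dim_le_iff_localDim]
  intro zt
  have hfz : f (f.fiberι y zt) = y := fiberι_mem f y zt
  rw [Groth.Agent.S0403.localDim_fiber_eq f y (f.fiberι y zt) hfz zt rfl]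
  obtain ⟨z, N, hzx, hfz', hzmax, htdz, hfd⟩ := exists_maximal_fibre_point f (f.fiberι y zt)
  rw [hfd]
  have hmem : z ∈ Set.range (f.fiberι y) := by
    rw [f.range_fiberι y]; exact hfz'.trans hfz
  obtain ⟨ζ, rfl⟩ := hmem
  have hcomp := closure_mem_of_fibre_maximal f y ζ hzmax
  obtain ⟨Z', hZ', hdim⟩ := exists_component_generic_fibre_of_dim_le f y h _ hcomp
  rw [dim_closure_fibre_point f y ζ N htdz] at hdim
  rw [← hdim]
  exact topologicalKrullDim_subspace_le _ Z'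

/-- EGA IV 14.2.x (= S4958; universal catenarity and quasi-compactness are not needed). -/
theorem components_dims_subset_generic {X Y : Scheme.{u}} [IrreducibleSpace Y]
    [IsLocallyNoetherian Y] (f : X ⟶ Y) [LocallyOfFiniteType f] (y : Y)
    (hb : ∀ z : X, f.base z = y → (∀ z' : X, f.base z' = y → z ∈ closure {z'} → z' = z) →
      ringKrullDim (X.presheaf.stalk z) = ringKrullDim (Y.presheaf.stalk y)) :
    (fun Z : Set ↥(f.fiber y) => topologicalKrullDim ↥Z) '' irreducibleComponents ↥(f.fiber y) ⊆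
      (fun Z : Set ↥(f.fiber (genericPoint Y)) => topologicalKrullDim ↥Z) ''
        irreducibleComponents ↥(f.fiber (genericPoint Y)) ∧
      topologicalKrullDim ↥(f.fiber y) ≤ topologicalKrullDim ↥(f.fiber (genericPoint Y)) := by
  have h : ∀ z : X, f z = y → (∀ z' : X, z' ⤳ z → f z' = f z → z' = z) →
      ringKrullDim (Y.presheaf.stalk (f z)) ≤ ringKrullDim (X.presheaf.stalk z) := by
    intro z hz hmax
    have := hb z hz (fun z' hz' hcl => hmax z' (specializes_iff_mem_closure.mpr hcl) (hz'.trans hz.symm))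
    subst hz
    exact le_of_eq this.symm
  refine ⟨?_, dim_fibre_le_generic_of_dim_le f y h⟩
  rintro _ ⟨Z, hZ, rfl⟩
  obtain ⟨Z', hZ', hdim⟩ := exists_component_generic_fibre_of_dim_le f y h Z hZ
  exact ⟨Z', hZ', hdim⟩

end Groth.Agent.Lib.helper3.DomComp
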