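import Mathlib
import Groth.Agent.Lib.Helper26.WeakAssFin4
import Groth.Agent.Lib.Helper3.ValFp4
import Groth.Agent.Lib.Helper3.FlatAtLib2

set_option autoImplicit false
set_option linter.style.haveILetI false
set_option linter.unusedSectionVars false

universe u

open TensorProduct

namespace Groth.Agent.Lib.helper3.DomFlat

/-- a domain has at most one weakly associated prime. -/
theorem weakAss_finite_of_isDomain (R : Type u) [CommRing R] [IsDomain R] :
    (FlatCA.weakAss R R).Finite := by
  refine Set.Finite.subset (Set.finite_singleton (⊥ : Ideal R)) ?_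
  rintro p ⟨m, hm⟩
  rw [Set.mem_singleton_iff]
  by_cases hm0 : m = 0
  · exfalso
    subst hm0
    have htop : (Submodule.span R {(0 : R)}).annihilator = ⊤ := by
      rw [Submodule.span_zero_singleton, Submodule.annihilator_bot]
    rw [htop, Ideal.minimalPrimes_top] at hm
    exact hm
  · have hbot : (Submodule.span R {m}).annihilator = ⊥ := by
      rw [eq_bot_iff]
      intro a ha
      rw [Submodule.mem_annihilator_span_singleton, smul_eq_mul] at ha
      rcases mul_eq_zero.mp ha with h | h
      · exact h
      · exact absurd h hm0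
    rw [hbot] at hm
    have hbotmem : (⊥ : Ideal R) ∈ (⊥ : Ideal R).minimalPrimes := by
      refine ⟨⟨Ideal.isPrime_bot, le_rfl⟩, fun q _ _ => bot_le⟩
    exact le_antisymm (hm.2 hbotmem.1 bot_le) bot_le

section

variable {R S : Type u} [CommRing R] [CommRing S] [Algebra R S]
  (N : Type u) [AddCommGroup N] [Module S N] [Module R N] [IsScalarTower R S N]

theorem flatAt_of_flat [Module.Flat R N] (q : Ideal S) [q.IsPrime] : FlatCA.FlatAt R q N := by
  rw [Groth.Agent.Lib.helper3.FlatAtLib.flatAt_iff_forall_eq_zero]
  intro P Q _ _ _ _ u hu x hx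
  have h0 : x = 0 :=
    (Module.Flat.lTensor_preserves_injective_linearMap (M := N) u hu) (by rw [hx, map_zero])
  exact ⟨1, fun h => (Ideal.IsPrime.ne_top inferInstance) ((Ideal.eq_top_iff_one q).mpr h),
    by rw [h0, smul_zero]⟩

/-- S0428 -/
theorem isOpen_flat_locus [IsDomain R] [Algebra.FiniteType R S] [Module.Finite S N] :
    IsOpen {q : PrimeSpectrum S | Module.Flat R (LocalizedModule q.asIdeal.primeCompl N)} := by
  have hR := weakAss_finite_of_isDomain R
  rw [isOpen_iff_forall_mem_open]
  intro q hq
  obtain ⟨g, hgq, hflatg, -⟩ :=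
    Groth.Agent.Lib.helper26.WeakAssFin.exists_relfp_flat_away hR N q.asIdeal hq
  refine ⟨PrimeSpectrum.basicOpen g, ?_, (PrimeSpectrum.basicOpen g).isOpen, hgq⟩
  intro q' hq'
  exact (Groth.Agent.Lib.helper3.FlatAtLib.flat_away_iff (R := R) (N := N) g).mp hflatg
    q'.asIdeal hq'

/-- S0405 -/
theorem finitePresentation_of_flat [IsDomain R] [Algebra.FiniteType R S] [Module.Finite S N]
    [Module.Flat R N] : Module.FinitePresentation S N := by
  have hR := weakAss_finite_of_isDomain R
  have key : ∀ q : PrimeSpectrum S, ∃ g : S, g ∉ q.asIdeal ∧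
      Module.FinitePresentation (Localization.Away g)
        (LocalizedModule (Submonoid.powers g) N) := by
    intro q
    obtain ⟨g, hgq, -, n, φ, hφ, hfp⟩ :=
      Groth.Agent.Lib.helper26.WeakAssFin.exists_relfp_flat_away hR N q.asIdeal
        (flatAt_of_flat N q.asIdeal)
    refine ⟨g, hgq, ?_⟩
    letI : Algebra (MvPolynomial (Fin n) R) (Localization.Away g) := φ.toRingHom.toAlgebra
    letI : Module (MvPolynomial (Fin n) R) (LocalizedModule (Submonoid.powers g) N) :=
      Module.compHom _ φ.toRingHom
    haveI : IsScalarTower (MvPolynomial (Fin n) R) (Localization.Away g)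
        (LocalizedModule (Submonoid.powers g) N) :=
      IsScalarTower.of_algebraMap_smul fun _ _ => rfl
    haveI : Module.FinitePresentation (MvPolynomial (Fin n) R)
        (LocalizedModule (Submonoid.powers g) N) := hfp
    exact Groth.Agent.Lib.helper3.ValFp.finitePresentation_of_restrictScalars_surjective
      (P := MvPolynomial (Fin n) R) (C := Localization.Away g) hφ
  choose g hg hfp using key
  refine Module.FinitePresentation.of_localizationSpan (Set.range g) ?_ ?_
  · by_contra hne
    obtain ⟨m, hm, hle⟩ := Ideal.exists_le_maximal _ hne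
    exact hg ⟨m, hm.isPrime⟩ (hle (Ideal.subset_span ⟨⟨m, hm.isPrime⟩, rfl⟩))
  · rintro ⟨_, q, rfl⟩
    exact hfp q

end

/-- S0406 -/
theorem algebra_finitePresentation_of_flat {R S : Type u} [CommRing R] [CommRing S] [Algebra R S]
    [IsDomain R] [Algebra.FiniteType R S] [Module.Flat R S] : Algebra.FinitePresentation R S := by
  have hR := weakAss_finite_of_isDomain R
  have key : ∀ q : PrimeSpectrum S, ∃ g : S, g ∉ q.asIdeal ∧
      Algebra.FinitePresentation R (Localization.Away g) := by
    intro q
    haveI : Module.Flat R (Localization.AtPrime q.asIdeal) :=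
      Module.Flat.trans R S (Localization.AtPrime q.asIdeal)
    obtain ⟨g, hgq, hfp, -⟩ :=
      Groth.Agent.Lib.helper26.WeakAssFin.exists_fp_flat_away_alg hR q.asIdeal inferInstance
    exact ⟨g, hgq, hfp⟩
  choose g hg hfp using key
  refine Algebra.FinitePresentation.of_span_eq_top_target (Set.range g) ?_ ?_
  · by_contra hne
    obtain ⟨m, hm, hle⟩ := Ideal.exists_le_maximal _ hne
    exact hg ⟨m, hm.isPrime⟩ (hle (Ideal.subset_span ⟨⟨m, hm.isPrime⟩, rfl⟩))
  · rintro _ ⟨q, rfl⟩
    exact hfp q

end Groth.Agent.Lib.helper3.DomFlat
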