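import Mathlib
import Groth.Agent.Lib.Helper3.DomFlat1

set_option autoImplicit false
set_option linter.style.haveILetI false
set_option linter.unusedSectionVars false

universe u

open TensorProduct

namespace Groth.Agent.Lib.helper3.DomFlat

section

variable {R S : Type u} [CommRing R] [CommRing S] [Algebra R S]
  (N : Type u) [AddCommGroup N] [Module S N] [Module R N] [IsScalarTower R S N]

theorem finitePresentation_of_flat_of_weakAss [Algebra.FinitePresentation R S]
    (hR : (FlatCA.weakAss R R).Finite) [Module.Finite S N]
    [Module.Flat R N] : Module.FinitePresentation S N := by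
  have key : ∀ q : PrimeSpectrum S, ∃ g : S, g ∉ q.asIdeal ∧
      Module.FinitePresentation (Localization.Away g)
        (LocalizedModule (Submonoid.powers g) N) := by
    intro q
    obtain ⟨g, hgq, hfp, -⟩ :=
      Groth.Agent.Lib.helper26.WeakAssFin.exists_fp_flat_away hR N q.asIdeal
        (flatAt_of_flat N q.asIdeal)
    exact ⟨g, hgq, hfp⟩
  choose g hg hfp using key
  refine Module.FinitePresentation.of_localizationSpan (Set.range g) ?_ ?_
  · by_contra hne
    obtain ⟨m, hm, hle⟩ := Ideal.exists_le_maximal _ hne
    exact hg ⟨m, hm.isPrime⟩ (hle (Ideal.subset_span ⟨⟨m, hm.isPrime⟩, rfl⟩))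
  · rintro ⟨_, q, rfl⟩
    exact hfp q

/-- S12214 -/
theorem fp_flat_away [Algebra.FinitePresentation R S]
    (hR : (FlatCA.weakAss R R).Finite) [Module.Finite S N]
    (g : S) (hg : ∀ (q : Ideal S) [q.IsPrime], g ∉ q → FlatCA.FlatAt R q N) :
    Module.FinitePresentation (Localization.Away g) (LocalizedModule (Submonoid.powers g) N) ∧
      Module.Flat R (LocalizedModule (Submonoid.powers g) N) := by
  have hflat : Module.Flat R (LocalizedModule (Submonoid.powers g) N) :=
    (Groth.Agent.Lib.helper3.FlatAtLib.flat_away_iff (R := R) (N := N) g).mpr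
      (fun q _ hq => hg q hq)
  refine ⟨?_, hflat⟩
  haveI : Algebra.FinitePresentation S (Localization.Away g) :=
    IsLocalization.Away.finitePresentation g
  haveI : Algebra.FinitePresentation R (Localization.Away g) :=
    Algebra.FinitePresentation.trans R S (Localization.Away g)
  exact finitePresentation_of_flat_of_weakAss (R := R) (S := Localization.Away g)
    (LocalizedModule (Submonoid.powers g) N) hR

end

end Groth.Agent.Lib.helper3.DomFlat
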