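import Mathlib
import Groth.Agent.Lib.Helper3.DomFlat2

set_option autoImplicit false
set_option linter.style.haveILetI false
set_option linter.unusedSectionVars false

universe u

open AlgebraicGeometry CategoryTheory

namespace Groth.Agent.Lib.helper3.DomFlat

theorem ringHom_finitePresentation_of_flat {R B : Type u} [CommRing R] [CommRing B] [IsDomain R]
    (φ : R →+* B) (hft : φ.FiniteType) (hfl : φ.Flat) : φ.FinitePresentation := by
  algebraize [φ]
  have : Algebra.FinitePresentation R B := algebra_finitePresentation_of_flat
  exact this

/-- S0429 -/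
theorem lfp_of_flat_integral {X S : Scheme.{u}} (f : X ⟶ S) [IsIntegral S] [Flat f]
    [LocallyOfFiniteType f] : LocallyOfFinitePresentation f := by
  constructor
  intro U hU V hV e
  by_cases hne : Nonempty U
  · haveI := hne
    exact ringHom_finitePresentation_of_flat _ (f.finiteType_appLE hU hV e)
      (f.flat_appLE hU hV e)
  · have hUe : U = ⊥ := by
      rw [not_nonempty_iff] at hne
      ext x
      simp only [TopologicalSpace.Opens.coe_bot, Set.mem_empty_iff_false, iff_false]
      exact fun hx => hne.false ⟨x, hx⟩
    have hVe : V = ⊥ := by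
      rw [eq_bot_iff]
      refine e.trans ?_
      rw [hUe]
      exact le_of_eq (by simp)
    subst hVe
    haveI : Subsingleton Γ(X, (⊥ : X.Opens)) := inferInstance
    refine RingHom.FinitePresentation.of_surjective _ (fun b => ⟨0, Subsingleton.elim _ _⟩) ?_
    have : RingHom.ker (f.appLE U ⊥ e).hom = ⊤ := by
      rw [Ideal.eq_top_iff_one, RingHom.mem_ker]
      exact Subsingleton.elim _ _
    rw [this]
    exact ⟨{1}, by simp⟩

end Groth.Agent.Lib.helper3.DomFlat
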