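import Groth.Agent.Lib.Helper3.LamPoly2

/-!
Ideals of the split λ-ring stable under the Adams operations are stable under the `λ^i`, `γ^i`,
`i ≥ 1` (helper3).
-/

set_option autoImplicit false
universe u

namespace Groth.Agent.Lib.helper3.LamPoly

open MvPolynomial Finset LambdaRing
open Groth.Agent.Lib.helper3.AdamsOp Groth.Agent.Lib.helper3.Special
open Groth.Agent.Lib.helper3.GammaLib Groth.Agent.Lib.helper3.GammaFil

section LRecIdeal

variable {R : Type u} [CommRing R] [Algebra ℚ R]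

theorem LRec_mem (I : Ideal R) (s : ℕ → R) (hs : ∀ k : ℕ, 1 ≤ k → s k ∈ I) (n : ℕ) (hn : 1 ≤ n) :
    LRec s n ∈ I := by
  obtain ⟨n, rfl⟩ := Nat.exists_eq_add_of_le' hn
  have h := LRec_succ s n
  obtain ⟨u, hu⟩ := isUnit_natCast_succ (K := R) n
  have h2 : LRec s (n + 1) = (∑ i ∈ range (n + 1), LRec s i * ((-1) ^ (n - i) * s (n - i + 1))) *
      (u⁻¹ : Rˣ) := by
    rw [← h, ← hu, mul_assoc, Units.mul_inv, mul_one]
  rw [h2]
  apply Ideal.mul_mem_right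
  refine Ideal.sum_mem _ fun i _ => ?_
  apply Ideal.mul_mem_left
  apply Ideal.mul_mem_left
  exact hs _ (by omega)

end LRecIdeal

variable {σ : Type u}

set_option warn.classDefReducibility false in
attribute [local instance] lamOps

theorem lam_mem_of_psi_stable (I : Ideal (MvPolynomial σ ℚ))
    (hI : ∀ k : ℕ, 1 ≤ k → ∀ z ∈ I, psi σ k z ∈ I) {z : MvPolynomial σ ℚ} (hz : z ∈ I) (i : ℕ)
    (hi : 1 ≤ i) : LambdaOps.lam i z ∈ I := by
  rw [lam_eq_LRec]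
  apply LRec_mem I _ _ i hi
  intro k hk
  rw [adamsOp_eq σ k hk]
  exact hI k hk z hz

theorem gamma_mem_of_psi_stable (I : Ideal (MvPolynomial σ ℚ))
    (hI : ∀ k : ℕ, 1 ≤ k → ∀ z ∈ I, psi σ k z ∈ I) {z : MvPolynomial σ ℚ} (hz : z ∈ I) (i : ℕ)
    (hi : 1 ≤ i) : gamma i z ∈ I := by
  rw [gamma, if_neg (by omega)]
  refine Ideal.sum_mem _ fun j _ => ?_
  apply Ideal.mul_mem_left
  split_ifs with hj
  · exact Ideal.zero_mem _
  · exact lam_mem_of_psi_stable I hI hz j (by omega)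

theorem psi_mem_idealOfVars (k : ℕ) {z : MvPolynomial σ ℚ} (hz : z ∈ idealOfVars σ ℚ) :
    psi σ k z ∈ idealOfVars σ ℚ := by
  have h : Ideal.map (psi σ k : MvPolynomial σ ℚ →+* MvPolynomial σ ℚ) (idealOfVars σ ℚ) ≤
      idealOfVars σ ℚ := by
    rw [idealOfVars, Ideal.map_span, Ideal.span_le]
    rintro _ ⟨_, ⟨a, rfl⟩, rfl⟩
    show psi σ k (X a) ∈ _
    rw [psi_X]
    have h := mul_geom_sum (1 + X a : MvPolynomial σ ℚ) k
    rw [add_sub_cancel_left] at h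
    rw [← h]
    exact Ideal.mul_mem_right _ _ (Ideal.subset_span ⟨a, rfl⟩)
  exact h (Ideal.mem_map_of_mem _ hz)

theorem psi_mem_pow (k m : ℕ) {z : MvPolynomial σ ℚ} (hz : z ∈ idealOfVars σ ℚ ^ m) :
    psi σ k z ∈ idealOfVars σ ℚ ^ m := by
  have h : Ideal.map (psi σ k : MvPolynomial σ ℚ →+* MvPolynomial σ ℚ) (idealOfVars σ ℚ ^ m) ≤
      idealOfVars σ ℚ ^ m := by
    rw [Ideal.map_pow]
    apply Ideal.pow_right_mono
    rw [Ideal.map_le_iff_le_comap]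
    intro z hz
    exact psi_mem_idealOfVars k hz
  exact h (Ideal.mem_map_of_mem _ hz)

/-- `γ^i` preserves `(u)^m` for `i ≥ 1` -/
theorem gamma_mem_pow {m : ℕ} {z : MvPolynomial σ ℚ} (hz : z ∈ idealOfVars σ ℚ ^ m) (i : ℕ)
    (hi : 1 ≤ i) : gamma i z ∈ idealOfVars σ ℚ ^ m :=
  gamma_mem_of_psi_stable _ (fun k _ z hz => psi_mem_pow k m hz) hz i hi

end Groth.Agent.Lib.helper3.LamPoly
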