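import Groth.Agent.Lib.Helper3.SpecialLib3

/-!
A pre-λ-ring over `ℚ` whose Adams operations are ring homomorphisms composing multiplicatively
is a λ-ring in the strict sense (helper3).
-/

set_option autoImplicit false
universe u

namespace Groth.Agent.Lib.helper3.Special

open MvPolynomial Finset LambdaRing
open Groth.Agent.Lib.helper3.AdamsOp

section General

variable {K : Type u} [CommRing K] [LambdaOps K] [Algebra ℚ K]

theorem lam_eq_LRec (x : K) (n : ℕ) : LambdaOps.lam n x = LRec (fun k => adamsOp k x) n := by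
  have h := lamSeries_eq_FSer (inferInstance : LambdaOps K) (fun k x => adamsOp k x)
    (fun _ _ _ => rfl) x
  have h2 := congrArg (PowerSeries.coeff n) h
  rw [coeff_lamSeries, FSer, PowerSeries.coeff_mk, lamRec_eq_LRec] at h2
  exact h2

/-- `λ^n(1) = 0` for `n ≥ 2` when `ψ^k(1) = 1` -/
theorem lam_one_eq_zero_of_adams (h1 : ∀ k : ℕ, 1 ≤ k → adamsOp k (1 : K) = 1) (n : ℕ)
    (hn : 2 ≤ n) : LambdaOps.lam n (1 : K) = 0 := by
  rw [lam_eq_LRec]
  have hc : LRec (fun k => adamsOp k (1 : K)) n =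
      LRec (fun k => ∑ v ∈ (Finset.univ : Finset Unit), (fun _ => (1 : K)) v ^ k) n := by
    apply LRec_congr
    intro k hk _
    rw [h1 k hk]
    simp
  rw [hc, LRec_psum, Finset.powersetCard_eq_empty.mpr (by rw [Finset.card_univ, Fintype.card_unit]; omega), Finset.sum_empty]

end General

section Mul

variable (n : ℕ)

/-- `ℚ[X_1..X_n, Y_1..Y_n]` -/
local notation "AQ" => MvPolynomial (Fin n ⊕ Fin n) ℚ

/-- the polynomial computing `λ^n(xy)` through the Adams operations -/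
noncomputable def cpoly : AQ :=
  LRec (fun k => rename Sum.inl (npoly n k) * rename Sum.inr (npoly n k)) n

theorem rename_esymm_eq {σ τ : Type*} [Fintype σ] (f : σ → τ) (m : ℕ) :
    rename f (esymm σ ℚ m) =
      ∑ t ∈ (Finset.univ : Finset σ).powersetCard m, ∏ i ∈ t, (X (f i) : MvPolynomial τ ℚ) := by
  rw [esymm, map_sum]
  refine Finset.sum_congr rfl fun t _ => ?_
  rw [map_prod]
  refine Finset.prod_congr rfl fun i _ => ?_
  rw [rename_X]

theorem phiR_rename_inl_npoly (k : ℕ) (hk : 1 ≤ k) :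
    phiR ℚ n (rename Sum.inl (npoly n k)) = ∑ a : Fin n, (X (Sum.inl a) : AQ) ^ k := by
  rw [phiR, aeval_rename]
  have hfun : (Sum.elim (fun k : Fin n => rename Sum.inl (esymm (Fin n) ℚ ((k : ℕ) + 1)))
      (fun k : Fin n => rename Sum.inr (esymm (Fin n) ℚ ((k : ℕ) + 1))) ∘ Sum.inl :
        Fin n → AQ) =
      fun i : Fin n => ∑ t ∈ (Finset.univ : Finset (Fin n)).powersetCard ((i : ℕ) + 1),
        ∏ v ∈ t, (X (Sum.inl v) : AQ) := by
    funext i
    simp only [Function.comp_apply, Sum.elim_inl]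
    exact rename_esymm_eq Sum.inl _
  rw [hfun]
  exact aeval_npoly_esymm (Finset.univ : Finset (Fin n)) (fun v => (X (Sum.inl v) : AQ))
    (by simp) k hk

theorem phiR_rename_inr_npoly (k : ℕ) (hk : 1 ≤ k) :
    phiR ℚ n (rename Sum.inr (npoly n k)) = ∑ b : Fin n, (X (Sum.inr b) : AQ) ^ k := by
  rw [phiR, aeval_rename]
  have hfun : (Sum.elim (fun k : Fin n => rename Sum.inl (esymm (Fin n) ℚ ((k : ℕ) + 1)))
      (fun k : Fin n => rename Sum.inr (esymm (Fin n) ℚ ((k : ℕ) + 1))) ∘ Sum.inr :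
        Fin n → AQ) =
      fun i : Fin n => ∑ t ∈ (Finset.univ : Finset (Fin n)).powersetCard ((i : ℕ) + 1),
        ∏ v ∈ t, (X (Sum.inr v) : AQ) := by
    funext i
    simp only [Function.comp_apply, Sum.elim_inr]
    exact rename_esymm_eq Sum.inr _
  rw [hfun]
  exact aeval_npoly_esymm (Finset.univ : Finset (Fin n)) (fun v => (X (Sum.inr v) : AQ))
    (by simp) k hk

theorem phiR_cpoly :
    phiR ℚ n (cpoly n) = ∑ t ∈ (Finset.univ : Finset (Fin n × Fin n)).powersetCard n,
      ∏ ab ∈ t, (X (Sum.inl ab.1) * X (Sum.inr ab.2) : AQ) := by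
  rw [cpoly, ← LRec_psum]
  have h := map_LRec ((phiR ℚ n : AQ →ₐ[ℚ] AQ) : AQ →+* AQ)
    (fun k => rename Sum.inl (npoly n k) * rename Sum.inr (npoly n k)) n
  rw [RingHom.coe_coe] at h
  rw [h]
  apply LRec_congr
  intro k hk _
  rw [map_mul, phiR_rename_inl_npoly n k hk, phiR_rename_inr_npoly n k hk,
    Finset.sum_mul_sum, ← Finset.sum_product', Finset.univ_product_univ]
  refine Finset.sum_congr rfl fun ab _ => ?_
  rw [mul_pow]

/-- `phiR ℚ` of the image of an integral polynomial -/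
theorem phiR_map (P : MvPolynomial (Fin n ⊕ Fin n) ℤ) :
    phiR ℚ n (map (Int.castRingHom ℚ) P) =
      map (Int.castRingHom ℚ)
        (aeval (Sum.elim (fun k : Fin n => rename Sum.inl (esymm (Fin n) ℤ ((k : ℕ) + 1)))
          (fun k : Fin n => rename Sum.inr (esymm (Fin n) ℤ ((k : ℕ) + 1)))) P) := by
  induction P using MvPolynomial.induction_on with
  | C r =>
    rw [map_C, ← algebraMap_eq, AlgHom.commutes, ← algebraMap_eq, AlgHom.commutes, algebraMap_eq,
      algebraMap_eq, map_C]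
  | add p q hp hq => simp only [map_add, hp, hq]
  | mul_X p i hp =>
    rw [map_mul, map_mul, hp, map_mul, map_mul]
    congr 1
    rcases i with k | k
    · rw [map_X, phiR, aeval_X, aeval_X, Sum.elim_inl, Sum.elim_inl, map_rename, map_esymm]
    · rw [map_X, phiR, aeval_X, aeval_X, Sum.elim_inr, Sum.elim_inr, map_rename, map_esymm]

theorem map_mulGen :
    map (Int.castRingHom ℚ) (mulGen n n) =
      ∑ t ∈ (Finset.univ : Finset (Fin n × Fin n)).powersetCard n,
        ∏ ab ∈ t, (X (Sum.inl ab.1) * X (Sum.inr ab.2) : AQ) := by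
  rw [mulGen, Finset.esymm_map_val, map_sum]
  refine Finset.sum_congr rfl fun t _ => ?_
  rw [map_prod]
  refine Finset.prod_congr rfl fun ab _ => ?_
  rw [map_mul, map_X, map_X]

theorem cpoly_eq (P : MvPolynomial (Fin n ⊕ Fin n) ℤ) (hP : IsMulPoly n P) :
    cpoly n = map (Int.castRingHom ℚ) P := by
  apply phiR_injective ℚ n
  rw [phiR_cpoly, phiR_map, hP.1, map_mulGen]

variable {n}
variable {K : Type u} [CommRing K] [LambdaOps K] [Algebra ℚ K]

theorem aeval_cpoly
    (hmul : ∀ k : ℕ, 1 ≤ k → ∀ x y : K, adamsOp k (x * y) = adamsOp k x * adamsOp k y) (x y : K) :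
    aeval (Sum.elim (fun k : Fin n => LambdaOps.lam ((k : ℕ) + 1) x)
      (fun k : Fin n => LambdaOps.lam ((k : ℕ) + 1) y)) (cpoly n) = LambdaOps.lam n (x * y) := by
  rw [lam_eq_LRec, cpoly]
  set ev : AQ →ₐ[ℚ] K := aeval (Sum.elim (fun k : Fin n => LambdaOps.lam ((k : ℕ) + 1) x)
      (fun k : Fin n => LambdaOps.lam ((k : ℕ) + 1) y)) with hev
  have h := map_LRec ((ev : AQ →ₐ[ℚ] K) : AQ →+* K)
    (fun k => rename Sum.inl (npoly n k) * rename Sum.inr (npoly n k)) n
  rw [RingHom.coe_coe] at h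
  rw [h]
  apply LRec_congr
  intro k hk1 hk2
  rw [map_mul, hev, aeval_rename, aeval_rename, hmul k hk1]
  have e1 : (Sum.elim (fun k : Fin n => LambdaOps.lam ((k : ℕ) + 1) x)
      (fun k : Fin n => LambdaOps.lam ((k : ℕ) + 1) y) ∘ Sum.inl : Fin n → K) =
      fun k : Fin n => LambdaOps.lam ((k : ℕ) + 1) x := by
    funext i; rfl
  have e2 : (Sum.elim (fun k : Fin n => LambdaOps.lam ((k : ℕ) + 1) x)
      (fun k : Fin n => LambdaOps.lam ((k : ℕ) + 1) y) ∘ Sum.inr : Fin n → K) =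
      fun k : Fin n => LambdaOps.lam ((k : ℕ) + 1) y := by
    funext i; rfl
  rw [e1, e2, aeval_npoly x k hk1 hk2, aeval_npoly y k hk1 hk2]

theorem lam_mul_of_adams
    (hmul : ∀ k : ℕ, 1 ≤ k → ∀ x y : K, adamsOp k (x * y) = adamsOp k x * adamsOp k y)
    (n : ℕ) (P : MvPolynomial (Fin n ⊕ Fin n) ℤ) (hP : IsMulPoly n P) (x y : K) :
    LambdaOps.lam n (x * y) =
      aeval (Sum.elim (fun k : Fin n => LambdaOps.lam ((k : ℕ) + 1) x)
        (fun k : Fin n => LambdaOps.lam ((k : ℕ) + 1) y)) P := by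
  rw [← aeval_cpoly hmul x y, cpoly_eq n P hP]
  exact aeval_map_algebraMap ℚ _ P

end Mul

end Groth.Agent.Lib.helper3.Special
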