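import Groth.Agent.Lib.Helper3.GammaFil
import Mathlib.RingTheory.MvPolynomial.Ideal
import Mathlib.RingTheory.MvPolynomial.Homogeneous

/-!
Weights of the monomials of an integral polynomial, detected by a substitution of homogeneous
polynomials, and evaluation of polynomials of bounded weight in a filtered ring (helper3).
-/

set_option autoImplicit false
universe u v

namespace Groth.Agent.Lib.helper3.WeightLib

open MvPolynomial Finset
open Groth.Agent.Lib.helper3.GammaFil

section Detect

variable {τ : Type} [Fintype τ] {σ : Type u}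

/-- the weight of an exponent vector -/
def wt (w : τ → ℕ) (m : τ →₀ ℕ) : ℕ := ∑ t, w t * m t

theorem isHomogeneous_mem_pow {p : MvPolynomial σ ℚ} {d : ℕ} (hp : p.IsHomogeneous d) :
    p ∈ idealOfVars σ ℚ ^ d := by
  rw [mem_pow_idealOfVars_iff]
  intro x hx
  have := hp.degree_eq_sum_deg_support hx
  rw [Finsupp.degree_apply, ← this]

theorem isHomogeneous_term (w : τ → ℕ) (f : τ → MvPolynomial σ ℚ)
    (hf : ∀ t, (f t).IsHomogeneous (w t)) (m : τ →₀ ℕ) (c : ℤ) :
    (aeval f (MvPolynomial.map (Int.castRingHom ℚ) (monomial m c))).IsHomogeneous (wt w m) := by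
  rw [map_monomial, aeval_monomial]
  have h1 : (∏ t, f t ^ m t).IsHomogeneous (wt w m) := by
    apply IsHomogeneous.prod
    intro t _
    exact (hf t).pow (m t)
  have h2 : (m.prod fun t k => f t ^ k) = ∏ t, f t ^ m t := by
    rw [Finsupp.prod_fintype]
    intro t; rw [pow_zero]
  rw [h2, Algebra.algebraMap_eq_smul_one, smul_mul_assoc, one_mul, MvPolynomial.smul_eq_C_mul]
  exact h1.C_mul _

/-- if the substitution of homogeneous polynomials of degrees `w t` is injective on integral
polynomials and sends `Γ` into `(u)^n`, then every monomial of `Γ` has weight at least `n` -/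
theorem weight_of_mem_pow (w : τ → ℕ) (f : τ → MvPolynomial σ ℚ)
    (hf : ∀ t, (f t).IsHomogeneous (w t))
    (hinj : Function.Injective fun Γ : MvPolynomial τ ℤ =>
      aeval f (MvPolynomial.map (Int.castRingHom ℚ) Γ))
    (Γ : MvPolynomial τ ℤ) (n : ℕ)
    (hΓ : aeval f (MvPolynomial.map (Int.castRingHom ℚ) Γ) ∈ idealOfVars σ ℚ ^ n) :
    ∀ m ∈ Γ.support, n ≤ wt w m := by
  classical
  set Φ : MvPolynomial τ ℤ → MvPolynomial σ ℚ := fun Γ =>
    aeval f (MvPolynomial.map (Int.castRingHom ℚ) Γ) with hΦ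
  have hΦadd : ∀ a b, Φ (a + b) = Φ a + Φ b := fun a b => by simp only [hΦ, map_add]
  have hΦsum : ∀ (s : Finset (τ →₀ ℕ)) (g : (τ →₀ ℕ) → MvPolynomial τ ℤ),
      Φ (∑ m ∈ s, g m) = ∑ m ∈ s, Φ (g m) := fun s g => by simp only [hΦ, map_sum]
  set lo := ∑ m ∈ Γ.support.filter (fun m => wt w m < n), monomial m (coeff m Γ) with hlo
  set hi := ∑ m ∈ Γ.support.filter (fun m => ¬ wt w m < n), monomial m (coeff m Γ) with hhi
  have hsplit : Γ = lo + hi := by
    rw [hlo, hhi, Finset.sum_filter_add_sum_filter_not]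
    exact (support_sum_monomial_coeff Γ).symm
  have hhi_mem : Φ hi ∈ idealOfVars σ ℚ ^ n := by
    rw [hhi, hΦsum]
    refine Ideal.sum_mem _ fun m hm => ?_
    have hm' := (Finset.mem_filter.mp hm).2
    exact Ideal.pow_le_pow_right (Nat.le_of_not_lt hm')
      (isHomogeneous_mem_pow (isHomogeneous_term w f hf m _))
  have hlo_mem : Φ lo ∈ idealOfVars σ ℚ ^ n := by
    have : Φ lo = Φ Γ - Φ hi := by
      rw [hsplit, hΦadd]; ring
    rw [this]
    exact Ideal.sub_mem _ hΓ hhi_mem
  have hlo_zero : Φ lo = 0 := by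
    rw [mem_pow_idealOfVars_iff] at hlo_mem
    by_contra hne
    obtain ⟨x, hx⟩ := (MvPolynomial.support_nonempty.mpr hne)
    have h1 := hlo_mem x hx
    rw [hlo, hΦsum] at hx
    obtain ⟨m, hm, hxm⟩ := Finset.mem_biUnion.mp (MvPolynomial.support_sum hx)
    have hm' := (Finset.mem_filter.mp hm).2
    have h2 := (isHomogeneous_term w f hf m (coeff m Γ)).degree_eq_sum_deg_support hxm
    rw [← Finsupp.degree_apply] at h2
    omega
  have hlo0 : lo = 0 := by
    apply hinj
    show Φ lo = Φ 0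
    rw [hlo_zero]
    simp [hΦ]
  intro m hm
  by_contra hcon
  have hcoeff : coeff m lo = coeff m Γ := by
    rw [hlo, coeff_sum]
    rw [Finset.sum_eq_single m]
    · rw [coeff_monomial, if_pos rfl]
    · intro b _ hb
      rw [coeff_monomial, if_neg hb]
    · intro h
      exfalso
      exact h (Finset.mem_filter.mpr ⟨hm, Nat.lt_of_not_le hcon⟩)
  rw [hlo0, coeff_zero] at hcoeff
  exact (mem_support_iff.mp hm) hcoeff.symm

end Detect

section Eval

variable {τ : Type} [Fintype τ] {A : Type v} [CommRing A] {V : ℕ → Ideal A}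

/-- evaluating a polynomial all of whose monomials have weight `≥ n` at elements `g t ∈ V (w t)` -/
theorem aeval_mem_of_weight (hV : IsMulFil V) (w : τ → ℕ) (g : τ → A) (hg : ∀ t, g t ∈ V (w t))
    (Γ : MvPolynomial τ ℤ) (n : ℕ) (hΓ : ∀ m ∈ Γ.support, n ≤ wt w m) :
    aeval g Γ ∈ V n := by
  rw [Γ.as_sum, map_sum]
  refine Ideal.sum_mem _ fun m hm => ?_
  rw [aeval_monomial]
  apply Ideal.mul_mem_left
  have h2 : (m.prod fun t k => g t ^ k) = ∏ t, g t ^ m t := by
    rw [Finsupp.prod_fintype]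
    intro t; rw [pow_zero]
  rw [h2]
  have h3 : ∏ t, g t ^ m t ∈ V (∑ t, m t * w t) := by
    apply hV.prod_mem
    intro t _
    exact hV.pow_mem (hg t) (m t)
  refine hV.anti _ _ ?_ h3
  have := hΓ m hm
  simp only [wt] at this
  calc n ≤ ∑ t, w t * m t := this
    _ = ∑ t, m t * w t := Finset.sum_congr rfl fun t _ => mul_comm _ _

end Eval

end Groth.Agent.Lib.helper3.WeightLib
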