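import Groth.Agent.Lib.Helper3.UnivGamma
import Groth.Agent.Lib.Helper3.LamPoly3
import Groth.Agent.Lib.Helper3.WeightLib
import Groth.Agent.Lib.Helper3.SpecialLib4

/-!
Weights of the universal polynomials `Pγ n` and `Wγ l j`, tested in the split λ-ring (helper3).
-/

set_option autoImplicit false
universe u

namespace Groth.Agent.Lib.helper3.UnivGamma

open MvPolynomial Finset LambdaRing
open Groth.Agent.Lib.helper3.GammaLib Groth.Agent.Lib.helper3.GammaFil
open Groth.Agent.Lib.helper3.LamPoly Groth.Agent.Lib.helper3.WeightLib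
open Groth.Agent.Lib.helper3.Special

set_option warn.classDefReducibility false in
attribute [local instance] lamOps

theorem esymm_isHomogeneous (σ : Type) [Fintype σ] (n : ℕ) :
    (esymm σ ℚ n).IsHomogeneous n := by
  rw [esymm]
  apply IsHomogeneous.sum
  intro t ht
  have h := IsHomogeneous.prod t (fun i => (X i : MvPolynomial σ ℚ)) (fun _ => 1)
    (fun i _ => isHomogeneous_X ℚ i)
  rw [Finset.sum_const, (Finset.mem_powersetCard.mp ht).2, smul_eq_mul, mul_one] at h
  exact h

/-- in the split λ-ring, `γ^k` of a sum of variables is the elementary symmetric polynomial -/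
theorem gamma_sum_X {σ : Type} (n : ℕ) (ι : Fin n → σ) (k : ℕ) :
    gamma k (∑ a : Fin n, (X (ι a) : MvPolynomial σ ℚ)) =
      ∑ s ∈ (univ : Finset (Fin n)).powersetCard k, ∏ a ∈ s, (X (ι a) : MvPolynomial σ ℚ) := by
  have h := Groth.Agent.S8651.result (MvPolynomial σ ℚ) lam_one_eq_zero n
    (fun a => 1 + X (ι a)) (fun a j hj => lam_of_isLn (isLn_T (ι a)) j hj) k
  have e : ∑ a : Fin n, (1 + X (ι a) : MvPolynomial σ ℚ) - (n : MvPolynomial σ ℚ) =
      ∑ a : Fin n, (X (ι a) : MvPolynomial σ ℚ) := by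
    rw [Finset.sum_add_distrib]; simp
  rw [e] at h
  rw [h]
  refine Finset.sum_congr rfl fun s _ => Finset.prod_congr rfl fun a _ => ?_
  ring

theorem sum_X_mem_ZS {σ : Type} (n : ℕ) (ι : Fin n → σ) :
    ∑ a : Fin n, (X (ι a) : MvPolynomial σ ℚ) ∈ ZS σ :=
  (ZS σ).sum_mem fun a _ => X_mem_ZS (ι a)

/-- the weights `k + 1` on both families of variables -/
def w2 (n : ℕ) : Fin n ⊕ Fin n → ℕ := Sum.elim (fun k => (k : ℕ) + 1) (fun k => (k : ℕ) + 1)

theorem weight_Pγ (n : ℕ) (hn : 1 ≤ n) : ∀ m ∈ (Pγ n).support, n ≤ wt (w2 n) m := by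
  set f : Fin n ⊕ Fin n → MvPolynomial (Fin n ⊕ Fin n) ℚ :=
    Sum.elim (fun k : Fin n => rename Sum.inl (esymm (Fin n) ℚ ((k : ℕ) + 1)))
      (fun k : Fin n => rename Sum.inr (esymm (Fin n) ℚ ((k : ℕ) + 1))) with hf
  apply weight_of_mem_pow (w2 n) f
  · rintro (k | k)
    · exact (esymm_isHomogeneous (Fin n) _).rename_isHomogeneous
    · exact (esymm_isHomogeneous (Fin n) _).rename_isHomogeneous
  · intro Γ Γ' h
    have h' : phiR ℚ n (MvPolynomial.map (Int.castRingHom ℚ) Γ) =
        phiR ℚ n (MvPolynomial.map (Int.castRingHom ℚ) Γ') := h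
    exact MvPolynomial.map_injective _ Int.cast_injective (phiR_injective ℚ n h')
  · set x' : MvPolynomial (Fin n ⊕ Fin n) ℚ := ∑ a : Fin n, X (Sum.inl a) with hx'
    set y' : MvPolynomial (Fin n ⊕ Fin n) ℚ := ∑ a : Fin n, X (Sum.inr a) with hy'
    have hfx : f = Sum.elim (fun r : Fin n => gamma ((r : ℕ) + 1) x')
        (fun r : Fin n => gamma ((r : ℕ) + 1) y') := by
      rw [hf]
      congr 1
      · funext k
        rw [hx', gamma_sum_X n Sum.inl, rename_esymm_eq]
      · funext k
        rw [hy', gamma_sum_X n Sum.inr, rename_esymm_eq]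
    have h1 : aeval f (MvPolynomial.map (Int.castRingHom ℚ) (Pγ n)) = gamma n (x' * y') := by
      rw [hfx, ← aeval_Pγ (isSpecial (Fin n ⊕ Fin n)) n hn x' y']
      exact aeval_map_algebraMap ℚ _ (Pγ n)
    rw [h1]
    exact gok_of_mem_ZS (mul_mem_ZS (sum_X_mem_ZS n Sum.inl) (sum_X_mem_ZS n Sum.inr)) n

/-- the weights `k + 1` -/
def w1 (N : ℕ) : Fin N → ℕ := fun k => (k : ℕ) + 1

theorem weight_Wγ (l j : ℕ) (hl : 1 ≤ l) (hj : 1 ≤ j) :
    ∀ m ∈ (Wγ l j).support, max l j ≤ wt (w1 (j * l)) m := by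
  set N := j * l with hN
  set f : Fin N → MvPolynomial (Fin N) ℚ := fun k => esymm (Fin N) ℚ ((k : ℕ) + 1) with hf
  apply weight_of_mem_pow (w1 N) f
  · intro k
    exact esymm_isHomogeneous (Fin N) _
  · intro Γ Γ' h
    have h' : eUR ℚ N (MvPolynomial.map (Int.castRingHom ℚ) Γ) =
        eUR ℚ N (MvPolynomial.map (Int.castRingHom ℚ) Γ') := h
    exact MvPolynomial.map_injective _ Int.cast_injective (eUR_injective ℚ N h')
  · set x' : MvPolynomial (Fin N) ℚ := ∑ a : Fin N, X a with hx'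
    have hg : ∀ k : ℕ, gamma k x' = esymm (Fin N) ℚ k := by
      intro k
      have := gamma_sum_X N (id : Fin N → Fin N) k
      simp only [id] at this
      rw [hx', this, esymm]
    have hfx : f = fun r : Fin N => gamma ((r : ℕ) + 1) x' := by
      rw [hf]
      funext k
      rw [hg]
    have h1 : aeval f (MvPolynomial.map (Int.castRingHom ℚ) (Wγ l j)) = gamma l (gamma j x') := by
      rw [hfx, ← aeval_Wγ (isSpecial (Fin N)) l j hl hj x']
      exact aeval_map_algebraMap ℚ _ (Wγ l j)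
    rw [h1]
    have hz : gamma j x' ∈ ZS (Fin N) := by
      have := gamma_sum_X N (id : Fin N → Fin N) j
      simp only [id] at this
      rw [hx', this]
      refine (ZS (Fin N)).sum_mem fun s hs => ?_
      apply prod_mem_ZS
      · rw [Finset.mem_powersetCard] at hs
        rw [← Finset.card_pos, hs.2]
        exact hj
      · intro a _
        exact X_mem_ZS a
    have hz2 : gamma j x' ∈ idealOfVars (Fin N) ℚ ^ j := by
      have := gok_of_mem_ZS (sum_X_mem_ZS N (id : Fin N → Fin N)) j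
      simp only [id] at this
      exact this
    rcases le_total l j with hlj | hlj
    · rw [max_eq_right hlj]
      exact gamma_mem_pow hz2 l hl
    · rw [max_eq_left hlj]
      exact gok_of_mem_ZS hz l

end Groth.Agent.Lib.helper3.UnivGamma

namespace Groth.Agent.Lib.helper3.UnivGamma

open MvPolynomial Finset LambdaRing
open Groth.Agent.Lib.helper3.GammaLib Groth.Agent.Lib.helper3.GammaFil
open Groth.Agent.Lib.helper3.WeightLib

section Consequences

variable {A : Type u} [CommRing A] [LambdaOps A] {V : ℕ → Ideal A}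

/-- in a λ-ring in the strict sense, if all `γ^k x ∈ V k` and `γ^k y ∈ V k` then `γ^k(xy) ∈ V k` -/
theorem GOK.mul (hA : IsSpecial A) (hV : IsMulFil V) {x y : A} (hx : GOK V x) (hy : GOK V y) :
    GOK V (x * y) := by
  intro k
  rcases Nat.eq_zero_or_pos k with rfl | hk
  · rw [gamma_zero_left]; exact hV.one_mem
  · rw [← aeval_Pγ hA k hk x y]
    apply aeval_mem_of_weight hV (w2 k) _ _ (Pγ k) k (weight_Pγ k hk)
    rintro (r | r)
    · exact hx _
    · exact hy _

/-- `γ^l(γ^j x) ∈ V (max l j)` when all `γ^k x ∈ V k` -/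
theorem gamma_gamma_mem (hA : IsSpecial A) (hV : IsMulFil V) {x : A} (hx : GOK V x) (l j : ℕ)
    (hl : 1 ≤ l) (hj : 1 ≤ j) : gamma l (gamma j x) ∈ V (max l j) := by
  rw [← aeval_Wγ hA l j hl hj x]
  apply aeval_mem_of_weight hV (w1 (j * l)) _ _ (Wγ l j) _ (weight_Wγ l j hl hj)
  intro r
  exact hx _

theorem GOK.gamma (hA : IsSpecial A) (hV : IsMulFil V) {x : A} (hx : GOK V x) (j : ℕ)
    (hj : 1 ≤ j) : GOK V (gamma j x) := by
  intro l
  rcases Nat.eq_zero_or_pos l with rfl | hl
  · rw [gamma_zero_left]; exact hV.one_mem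
  · exact hV.anti _ _ (le_max_left l j) (gamma_gamma_mem hA hV hx l j hl hj)

theorem GOK.prod (hA : IsSpecial A) (hV : IsMulFil V) {ι : Type*} (s : Finset ι) (hs : s.Nonempty)
    (f : ι → A) (h : ∀ i ∈ s, GOK V (f i)) : GOK V (∏ i ∈ s, f i) := by
  classical
  induction hs using Finset.Nonempty.cons_induction with
  | singleton a => simpa using h a (by simp)
  | cons a s ha hs ih =>
    rw [Finset.prod_cons]
    exact GOK.mul hA hV (h a (by simp)) (ih fun i hi => h i (by simp [hi]))

theorem GOK.pow (hA : IsSpecial A) (hV : IsMulFil V) {x : A} (hx : GOK V x) (n : ℕ) (hn : 1 ≤ n) :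
    GOK V (x ^ n) := by
  induction n, hn using Nat.le_induction with
  | base => simpa using hx
  | succ n _ ih =>
    rw [pow_succ]
    exact GOK.mul hA hV ih hx

end Consequences

end Groth.Agent.Lib.helper3.UnivGamma
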