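import Groth.Agent.Lib.Helper3.ScalarLam2
import Groth.Agent.Lib.Helper3.UnivGamma2

/-!
`γ_t(κ g) = γ_t(g)^κ` over a binomial ring, and stability of the filtered elements under scalars
(helper3).
-/

set_option autoImplicit false
universe u v

namespace Groth.Agent.Lib.helper3.ScalarLam

open PowerSeries Finset LambdaRing
open Groth.Agent.Lib.helper3.GammaFil Groth.Agent.Lib.helper3.AdamsOp

section FilSeries

variable {A : Type v} [CommRing A] {V : ℕ → Ideal A}

/-- power series whose `l`-th coefficient lies in `V l` -/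
def FilS (V : ℕ → Ideal A) (F : A⟦X⟧) : Prop := ∀ l : ℕ, coeff l F ∈ V l

theorem FilS.one (hV : IsMulFil V) : FilS V (1 : A⟦X⟧) := by
  intro l
  rw [coeff_one]
  split_ifs with h
  · rw [h]; exact hV.one_mem
  · exact Ideal.zero_mem _

theorem FilS.mul (hV : IsMulFil V) {F G : A⟦X⟧} (hF : FilS V F) (hG : FilS V G) :
    FilS V (F * G) := by
  intro l
  rw [coeff_mul]
  refine Ideal.sum_mem _ fun p hp => ?_
  have h := hV.mul p.1 p.2 _ _ (hF p.1) (hG p.2)
  rwa [Finset.HasAntidiagonal.mem_antidiagonal.mp hp] at h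

theorem FilS.pow (hV : IsMulFil V) {F : A⟦X⟧} (hF : FilS V F) (d : ℕ) : FilS V (F ^ d) := by
  induction d with
  | zero => rw [pow_zero]; exact FilS.one hV
  | succ d ih => rw [pow_succ]; exact ih.mul hV hF

theorem coeff_subst_mem {φ f : A⟦X⟧} (hf0 : constantCoeff f = 0) (hV : IsMulFil V)
    (hf : FilS V f) (n : ℕ) : coeff n (φ.subst f) ∈ V n := by
  rw [coeff_subst' (HasSubst.of_constantCoeff_zero' hf0)]
  apply finsum_induction (fun x => x ∈ V n) (Ideal.zero_mem _) (fun x y hx hy => Ideal.add_mem _ hx hy)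
  intro d
  rw [smul_eq_mul]
  exact Ideal.mul_mem_left _ _ (hf.pow hV d n)

end FilSeries

section Gamma

variable {K : Type u} [CommRing K] [LambdaOps K] [BinomialRing K]
  {A : Type v} [CommRing A] [LambdaOps A] [Algebra K A]

/-- the series `γ_t(x)` -/
noncomputable def gamSeries (x : A) : A⟦X⟧ := (lamSeries x).subst (Groth.Agent.S3289.uS A)

omit [Algebra K A] in
theorem coeff_gamSeries (k : ℕ) (x : A) : coeff k (gamSeries x) = gamma k x :=
  (Groth.Agent.S3289.gamma_eq_coeff k x).symm

theorem lamSeries_smul (hKb : IsBinomial K) (hA : IsSpecial A) (hKA : IsLambdaAlg K A) (κ : K)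
    (g : A) :
    lamSeries (algebraMap K A κ * g) = (binomialSeries A κ).subst (lamSeries g - 1) := by
  ext n
  rw [coeff_lamSeries, lam_smul hKb hA hKA]

theorem gamSeries_smul (hKb : IsBinomial K) (hA : IsSpecial A) (hKA : IsLambdaAlg K A) (κ : K)
    (g : A) :
    gamSeries (algebraMap K A κ * g) = (binomialSeries A κ).subst (gamSeries g - 1) := by
  have h0 : constantCoeff (lamSeries g - 1) = 0 := by
    rw [map_sub, constantCoeff_lamSeries, map_one, sub_self]
  rw [gamSeries, lamSeries_smul hKb hA hKA,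
    subst_comp_subst_apply (HasSubst.of_constantCoeff_zero' h0) Groth.Agent.S3289.hasSubst_uS,
    subst_sub Groth.Agent.S3289.hasSubst_uS, gamSeries]
  congr 2
  rw [← map_one (C (R := A)), subst_C, map_one]; rfl

/-- multiplying by a scalar from the binomial ring preserves the filtered elements -/
theorem GOK.smul {V : ℕ → Ideal A} (hKb : IsBinomial K) (hA : IsSpecial A)
    (hKA : IsLambdaAlg K A) (hV : IsMulFil V) {g : A} (hg : GOK V g) (κ : K) :
    GOK V (algebraMap K A κ * g) := by
  intro n
  rw [← coeff_gamSeries, gamSeries_smul hKb hA hKA]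
  have h0 : constantCoeff (gamSeries g - 1) = 0 := by
    rw [map_sub, ← coeff_zero_eq_constantCoeff_apply, coeff_gamSeries,
      Groth.Agent.Lib.helper3.GammaLib.gamma_zero_left, map_one, sub_self]
  apply coeff_subst_mem h0 hV
  intro l
  rw [map_sub, coeff_gamSeries]
  exact Ideal.sub_mem _ (hg l) (FilS.one hV l)

end Gamma

end Groth.Agent.Lib.helper3.ScalarLam
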