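import Groth.Agent.Lib.Helper3.LamRing3
import Groth.Agent.Lib.Helper3.ScalarGamma
import Groth.Agent.Lib.Helper3.DetLib

/-!
The γ-filtration of the elementary extension `K_e = K[T]/(p_e)` (helper3).
-/

set_option autoImplicit false
universe v

namespace Groth.Agent.Lib.helper3.ElemGamma

open PowerSeries LambdaRing KRR Finset
open Groth.Agent.Lib.helper3.LamRing Groth.Agent.Lib.helper3.GammaLib
  Groth.Agent.Lib.helper3.GammaFil Groth.Agent.Lib.helper3.AdamsOp
  Groth.Agent.Lib.helper3.ScalarLam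

section General

variable {K : Type v} [CommRing K] [LambdaOps K] (P : PosStructure K)

/-- `λ^k(a e) = a^k λ^k(e)` for a line element `a` and a positive element `e` -/
theorem lam_line_mul (hK : HasSplitting K P) {a e : K} (ha : P.IsLine a) (he : e ∈ P.pos) (k : ℕ) :
    LambdaOps.lam k (a * e) = a ^ k * LambdaOps.lam k e := by
  obtain ⟨L, hL, f, hf, s, hs, hse⟩ := exists_splitting P hK e he
  obtain ⟨m, v, hv, hvs⟩ := exists_fin_family L.posStr s hs
  have hfe : f e = ∑ i, v i := by rw [hvs, hse]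
  have hfa : L.posStr.IsLine (f a) := isLine_map hf ha
  apply hf.injective
  rw [hf.isLambdaHom, map_mul, map_mul, map_pow, hf.isLambdaHom, hfe, Finset.mul_sum,
    lam_sum_lines L.posStr (fun i => f a * v i) (fun i => isLine_mul' L.posStr hfa (hv i)),
    lam_sum_lines L.posStr v hv, Finset.mul_sum]
  refine Finset.sum_congr rfl fun t ht => ?_
  rw [Finset.prod_mul_distrib, Finset.prod_const, (Finset.mem_powersetCard.mp ht).2]

include P in
theorem lam_one_eq_zero (k : ℕ) (hk : 2 ≤ k) : LambdaOps.lam k (1 : K) = 0 := by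
  have h := isLine_one' P
  exact P.lam_eq_zero 1 h.1 k (by rw [h.2]; exact_mod_cast hk)

theorem sign_aux {R : Type*} [CommRing R] (i m : ℕ) (h : i ≤ m) :
    (-1 : R) ^ (m - i) * (-1) ^ m = (-1) ^ i := by
  obtain ⟨j, rfl⟩ := Nat.exists_eq_add_of_le h
  rw [Nat.add_sub_cancel_left, ← pow_add, show j + (i + j) = i + 2 * j by ring, pow_add, pow_mul]
  simp

end General

section Ext

variable {K : Type v} [CommRing K] [LambdaOps K] (P : PosStructure K) (e : K)

/-- `ℓ - 1` -/
noncomputable def xe : AdjoinRoot (extPoly P e) := AdjoinRoot.root (extPoly P e) - 1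

/-- the candidate filtration `Σ_{i ≤ r} F^{k-i}K (ℓ-1)^i` -/
noncomputable def W (r k : ℕ) : AddSubgroup (AdjoinRoot (extPoly P e)) :=
  ⨆ i ∈ Finset.range (r + 1), AddSubgroup.map
    ((AddMonoidHom.mulRight ((AdjoinRoot.root (extPoly P e) - 1) ^ i)).comp
      (AdjoinRoot.of (extPoly P e)).toAddMonoidHom)
    (gammaFiltration P (k - i))

variable {P e}

theorem gen_mem {r k i : ℕ} (hi : i ≤ r) {a : K} (ha : a ∈ gammaFiltration P (k - i)) :
    AdjoinRoot.of (extPoly P e) a * (xe P e) ^ i ∈ W P e r k := by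
  refine AddSubgroup.mem_iSup_of_mem i
    (AddSubgroup.mem_iSup_of_mem (Finset.mem_range.mpr (by omega)) ?_)
  exact ⟨a, ha, rfl⟩

theorem W_le {r k : ℕ} {T : AddSubgroup (AdjoinRoot (extPoly P e))}
    (h : ∀ i ≤ r, ∀ a ∈ gammaFiltration P (k - i),
      AdjoinRoot.of (extPoly P e) a * (xe P e) ^ i ∈ T) :
    W P e r k ≤ T := by
  refine iSup₂_le fun i hi => ?_
  rintro _ ⟨a, ha, rfl⟩
  exact h i (by have := Finset.mem_range.mp hi; omega) a ha

variable (he : e ∈ P.pos) (r : ℕ) (hr : P.aug e = r + 1)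

include hr in
theorem aug_sub : P.aug (e - ((r + 1 : ℕ) : K)) = 0 := by
  rw [map_sub, map_natCast, hr]; push_cast; ring

include he hr

/-- the relation `Σ (-1)^i γ^i(e - m) (ℓ-1)^{m-i} = 0` -/
theorem rel :
    ∑ i ∈ range (r + 2), AdjoinRoot.of (extPoly P e)
      ((-1 : K) ^ i * gamma i (e - ((r + 1 : ℕ) : K))) * (xe P e) ^ (r + 1 - i) = 0 := by
  have hid := gamma_sub_natCast_identity (lam_one_eq_zero P) e (r + 1)
    (fun k hk => P.lam_eq_zero e he k (by rw [hr]; exact_mod_cast hk))
  have h2 := congrArg (Polynomial.eval₂ (AdjoinRoot.of (extPoly P e))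
    (1 - AdjoinRoot.root (extPoly P e))) hid
  simp only [Polynomial.eval₂_finsetSum, Polynomial.eval₂_mul, Polynomial.eval₂_C,
    Polynomial.eval₂_pow, Polynomial.eval₂_X, Polynomial.eval₂_sub, Polynomial.eval₂_one] at h2
  have hrel := extPoly_root_rel P e
  rw [toNat_aug hr] at hrel
  have e1 : ∑ i ∈ range (r + 2), AdjoinRoot.of (extPoly P e)
      ((-1 : K) ^ i * gamma i (e - ((r + 1 : ℕ) : K))) * (xe P e) ^ (r + 1 - i) =
      (-1) ^ (r + 1) * ∑ i ∈ range (r + 1 + 1), AdjoinRoot.of (extPoly P e)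
        (gamma i (e - ((r + 1 : ℕ) : K))) * (1 - AdjoinRoot.root (extPoly P e)) ^ (r + 1 - i) := by
    rw [Finset.mul_sum]
    refine Finset.sum_congr rfl fun i hi => ?_
    have hi' := Finset.mem_range.mp hi
    have hx : (1 - AdjoinRoot.root (extPoly P e)) = -(xe P e) := by rw [xe]; ring
    have hs := sign_aux (R := AdjoinRoot (extPoly P e)) i (r + 1) (by omega)
    rw [hx, neg_pow (xe P e), map_mul, map_pow, map_neg, map_one, ← hs]
    ring
  have e2 : (-1) ^ (r + 1) * ∑ i ∈ range (r + 1 + 1), AdjoinRoot.of (extPoly P e)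
      (LambdaOps.lam i e) * (1 - AdjoinRoot.root (extPoly P e) - 1) ^ (r + 1 - i) =
      ∑ i ∈ range (r + 1 + 1), ((-1 : K) ^ i * LambdaOps.lam i e) •
        AdjoinRoot.root (extPoly P e) ^ (r + 1 - i) := by
    rw [Finset.mul_sum]
    refine Finset.sum_congr rfl fun i hi => ?_
    have hi' := Finset.mem_range.mp hi
    have hx : (1 - AdjoinRoot.root (extPoly P e) - 1) = -(AdjoinRoot.root (extPoly P e)) := by ring
    have hs := sign_aux (R := AdjoinRoot (extPoly P e)) i (r + 1) (by omega)
    rw [hx, neg_pow (AdjoinRoot.root (extPoly P e)), Algebra.smul_def, AdjoinRoot.algebraMap_eq,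
      map_mul, map_pow, map_neg, map_one, ← hs]
    ring
  rw [e1, h2, e2, hrel]

theorem gen_mem_all : ∀ (n k : ℕ) (a : K), a ∈ gammaFiltration P (k - n) →
    AdjoinRoot.of (extPoly P e) a * (xe P e) ^ n ∈ W P e r k := by
  intro n
  induction n using Nat.strong_induction_on with
  | _ n ih =>
    intro k a ha
    rcases Nat.lt_or_ge n (r + 1) with hn | hn
    · exact gen_mem (by omega) ha
    · obtain ⟨t, rfl⟩ := Nat.exists_eq_add_of_le hn
      have h := rel he r hr
      rw [Finset.sum_range_succ'] at h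
      simp only [pow_zero, one_mul, gamma_zero_left, map_one, Nat.sub_zero] at h
      have hx : (xe P e) ^ (r + 1) = -∑ j ∈ range (r + 1), AdjoinRoot.of (extPoly P e)
          ((-1 : K) ^ (j + 1) * gamma (j + 1) (e - ((r + 1 : ℕ) : K))) *
            (xe P e) ^ (r + 1 - (j + 1)) := by
        rw [eq_neg_iff_add_eq_zero, add_comm]
        exact h
      rw [pow_add, hx, neg_mul, mul_neg, Finset.sum_mul, Finset.mul_sum]
      refine (W P e r k).neg_mem (AddSubgroup.sum_mem _ fun j hj => ?_)
      have hj' := Finset.mem_range.mp hj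
      have e3 : AdjoinRoot.of (extPoly P e) a * (AdjoinRoot.of (extPoly P e)
          ((-1 : K) ^ (j + 1) * gamma (j + 1) (e - ((r + 1 : ℕ) : K))) *
            (xe P e) ^ (r + 1 - (j + 1)) * (xe P e) ^ t) =
          AdjoinRoot.of (extPoly P e)
            ((-1 : K) ^ (j + 1) * (a * gamma (j + 1) (e - ((r + 1 : ℕ) : K)))) *
            (xe P e) ^ (r - j + t) := by
        rw [map_mul, map_mul, map_mul, pow_add, show r + 1 - (j + 1) = r - j by omega]
        ring
      rw [e3]
      refine ih (r - j + t) (by omega) k _ ?_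
      have h1 := mul_mem_filtration P ha (gamma_mem P (aug_sub r hr) (j + 1))
      have h2 := smul_mem_filtration P _ ((-1 : K) ^ (j + 1)) h1
      exact gammaFiltration_antitone P (by omega) h2

omit he hr in
theorem of_mul_mem_W (k : ℕ) (b : K) {z : AdjoinRoot (extPoly P e)} (hz : z ∈ W P e r k) :
    AdjoinRoot.of (extPoly P e) b * z ∈ W P e r k := by
  have h : W P e r k ≤ (W P e r k).comap (AddMonoidHom.mulLeft (AdjoinRoot.of (extPoly P e) b)) := by
    refine W_le fun i hi a ha => ?_
    change AdjoinRoot.of (extPoly P e) b * (AdjoinRoot.of (extPoly P e) a * (xe P e) ^ i) ∈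
      W P e r k
    rw [← mul_assoc, ← map_mul]
    exact gen_mem hi (smul_mem_filtration P _ b ha)
  exact h hz

theorem xe_mul_mem_W (k : ℕ) {z : AdjoinRoot (extPoly P e)} (hz : z ∈ W P e r k) :
    xe P e * z ∈ W P e r k := by
  have h : W P e r k ≤ (W P e r k).comap (AddMonoidHom.mulLeft (xe P e)) := by
    refine W_le fun i hi a ha => ?_
    change xe P e * (AdjoinRoot.of (extPoly P e) a * (xe P e) ^ i) ∈ W P e r k
    have e1 : xe P e * (AdjoinRoot.of (extPoly P e) a * (xe P e) ^ i) =
        AdjoinRoot.of (extPoly P e) a * (xe P e) ^ (i + 1) := by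
      rw [pow_succ]; ring
    rw [e1]
    exact gen_mem_all he r hr (i + 1) k a (gammaFiltration_antitone P (by omega) ha)
  exact h hz

theorem mul_mem_W (k : ℕ) (y : AdjoinRoot (extPoly P e)) :
    ∀ z ∈ W P e r k, y * z ∈ W P e r k := by
  obtain ⟨p, rfl⟩ := AdjoinRoot.mk_surjective y
  induction p using Polynomial.induction_on with
  | C a =>
    intro z hz
    rw [AdjoinRoot.mk_C]
    exact of_mul_mem_W r k a hz
  | add p q hp hq =>
    intro z hz
    rw [map_add, add_mul]
    exact (W P e r k).add_mem (hp z hz) (hq z hz)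
  | monomial n a ih =>
    intro z hz
    have e1 : AdjoinRoot.mk (extPoly P e) (Polynomial.C a * Polynomial.X ^ (n + 1)) * z =
        AdjoinRoot.mk (extPoly P e) (Polynomial.C a * Polynomial.X ^ n) * (xe P e * z + z) := by
      rw [pow_succ, ← mul_assoc, map_mul _ _ Polynomial.X, AdjoinRoot.mk_X, xe]
      ring
    rw [e1]
    exact ih _ ((W P e r k).add_mem (xe_mul_mem_W he r hr k hz) hz)

/-- the filtration `W` as a filtration by ideals -/
noncomputable def V (k : ℕ) : Ideal (AdjoinRoot (extPoly P e)) where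
  carrier := W P e r k
  add_mem' := (W P e r k).add_mem
  zero_mem' := (W P e r k).zero_mem
  smul_mem' := fun y z hz => mul_mem_W he r hr k y z hz

theorem mem_V {k : ℕ} {z : AdjoinRoot (extPoly P e)} : z ∈ V he r hr k ↔ z ∈ W P e r k := Iff.rfl

theorem isMulFil_V : IsMulFil (V he r hr) where
  zero := by
    rw [Ideal.eq_top_iff_one, mem_V]
    have h := gen_mem (P := P) (e := e) (r := r) (k := 0) (i := 0) (Nat.zero_le _)
      (one_mem_filtration_zero P)
    rwa [map_one, pow_zero, mul_one] at h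
  mul := by
    intro i j a b ha hb
    rw [mem_V] at ha hb ⊢
    have h1 : W P e r i ≤ (W P e r (i + j)).comap (AddMonoidHom.mulRight b) := by
      refine W_le fun s hs a' ha' => ?_
      change AdjoinRoot.of (extPoly P e) a' * (xe P e) ^ s * b ∈ W P e r (i + j)
      have h2 : W P e r j ≤ (W P e r (i + j)).comap
          (AddMonoidHom.mulLeft (AdjoinRoot.of (extPoly P e) a' * (xe P e) ^ s)) := by
        refine W_le fun t ht b' hb' => ?_
        change AdjoinRoot.of (extPoly P e) a' * (xe P e) ^ s *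
          (AdjoinRoot.of (extPoly P e) b' * (xe P e) ^ t) ∈ W P e r (i + j)
        have e1 : AdjoinRoot.of (extPoly P e) a' * (xe P e) ^ s *
            (AdjoinRoot.of (extPoly P e) b' * (xe P e) ^ t) =
            AdjoinRoot.of (extPoly P e) (a' * b') * (xe P e) ^ (s + t) := by
          rw [map_mul, pow_add]; ring
        rw [e1]
        exact gen_mem_all he r hr (s + t) (i + j) _
          (gammaFiltration_antitone P (by omega) (mul_mem_filtration P ha' hb'))
      exact h2 hb
    exact h1 ha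
  anti := by
    intro i j hij z hz
    rw [mem_V] at hz ⊢
    have h : W P e r j ≤ W P e r i :=
      W_le fun s hs a ha => gen_mem hs (gammaFiltration_antitone P (by omega) ha)
    exact h hz

end Ext

section Lam

variable {K : Type v} [CommRing K] [LambdaOps K] {P : PosStructure K} {e : K} (he : e ∈ P.pos)
  (r : ℕ) (hr : P.aug e = r + 1)
  [inst : LambdaOps (AdjoinRoot (extPoly P e))] (Pe : PosStructure (AdjoinRoot (extPoly P e)))
  (hext : IsExtension P Pe (AdjoinRoot.of (extPoly P e)))
  (hline : Pe.IsLine (AdjoinRoot.root (extPoly P e)))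
  (hsplit : HasSplitting (AdjoinRoot (extPoly P e)) Pe)

omit [LambdaOps K] in
theorem filS_C_mul_X_pow {A : Type*} [CommRing A] {V : ℕ → Ideal A} {a : A} {j : ℕ}
    (ha : a ∈ V j) : FilS V (C a * X ^ j : A⟦X⟧) := by
  intro l
  rw [coeff_C_mul_X_pow]
  split_ifs with h
  · rw [h]; exact ha
  · exact Ideal.zero_mem _

omit [LambdaOps K] in
theorem filS_one_add {A : Type*} [CommRing A] {V : ℕ → Ideal A} (hV : IsMulFil V) {w : A}
    (hw : w ∈ V 1) : FilS V (1 + C w * X : A⟦X⟧) := by
  intro l
  rw [map_add]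
  refine Ideal.add_mem _ (FilS.one hV l) ?_
  have h := filS_C_mul_X_pow (V := V) (a := w) (j := 1) hw l
  rwa [pow_one] at h

theorem natDegree_G_le (e' : K) (d : ℕ) :
    (∑ i ∈ range (d + 1), Polynomial.C (LambdaOps.lam i e') *
      (Polynomial.X ^ i * (1 - Polynomial.X) ^ (d - i)) : Polynomial K).natDegree ≤ d := by
  have hdeg1 : (1 - Polynomial.X : Polynomial K).natDegree ≤ 1 := by
    refine (Polynomial.natDegree_sub_le _ _).trans ?_
    rw [Polynomial.natDegree_one]
    exact max_le (Nat.zero_le _) Polynomial.natDegree_X_le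
  refine Polynomial.natDegree_sum_le_of_forall_le _ _ fun i hi => ?_
  have hi' := Finset.mem_range.mp hi
  refine (Polynomial.natDegree_C_mul_le _ _).trans ?_
  refine (Polynomial.natDegree_mul_le).trans ?_
  have a := Polynomial.natDegree_X_pow_le (R := K) i
  have b : ((1 - Polynomial.X : Polynomial K) ^ (d - i)).natDegree ≤ d - i := by
    refine (Polynomial.natDegree_pow_le).trans ?_
    calc (d - i) * (1 - Polynomial.X : Polynomial K).natDegree ≤ (d - i) * 1 :=
          Nat.mul_le_mul_left _ hdeg1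
      _ = d - i := mul_one _
  omega

include hext hline hsplit in
theorem gok_pos (e' : K) (he' : e' ∈ P.pos) (s : ℕ) :
    GOK (V he r hr) (AdjoinRoot.of (extPoly P e) e' * AdjoinRoot.root (extPoly P e) ^ s -
      (((P.aug e').toNat : ℕ) : AdjoinRoot (extPoly P e))) := by
  classical
  set d := (P.aug e').toNat with hd
  have haug : P.aug e' = (d : ℤ) := (Int.toNat_of_nonneg (P.aug_pos e' he').le).symm
  set c := AdjoinRoot.root (extPoly P e) ^ s with hcdef
  have hc : Pe.IsLine c := isLine_pow' Pe hline s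
  set E := AdjoinRoot.of (extPoly P e) e' * c with hE
  have hlamE : ∀ k, LambdaOps.lam k E =
      c ^ k * AdjoinRoot.of (extPoly P e) (LambdaOps.lam k e') := by
    intro k
    rw [hE, mul_comm, lam_line_mul Pe hsplit hc (hext.pos_subset e' he') k, hext.isLambdaHom]
  have hm' : ∀ k : ℕ, d < k → LambdaOps.lam k e' = 0 := fun k hk =>
    P.lam_eq_zero e' he' k (by rw [haug]; exact_mod_cast hk)
  have hmE : ∀ k : ℕ, d < k → LambdaOps.lam k E = 0 := fun k hk => by
    rw [hlamE, hm' k hk, map_zero, mul_zero]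
  have hV := isMulFil_V he r hr
  intro n
  rw [gamma_sub_natCast_eq_coeff (lam_one_eq_zero Pe) E d hmE n]
  set G : Polynomial K := ∑ i ∈ range (d + 1), Polynomial.C (LambdaOps.lam i e') *
      (Polynomial.X ^ i * (1 - Polynomial.X) ^ (d - i)) with hG
  have hg : ∀ j, gamma j (e' - (d : K)) = G.coeff j :=
    gamma_sub_natCast_eq_coeff (lam_one_eq_zero P) e' d hm'
  have hGsum : G = ∑ j ∈ range (d + 1),
      Polynomial.C (gamma j (e' - (d : K))) * Polynomial.X ^ j := by
    conv_lhs => rw [Polynomial.as_sum_range' G (d + 1) (Nat.lt_succ_of_le (natDegree_G_le e' d))]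
    refine Finset.sum_congr rfl fun j _ => ?_
    rw [hg, Polynomial.C_mul_X_pow_eq_monomial]
  obtain ⟨D, hD⟩ : ∃ D : (AdjoinRoot (extPoly P e))⟦X⟧, D = 1 + C (c - 1) * X := ⟨_, rfl⟩
  have hD0 : constantCoeff D =
      ((1 : (AdjoinRoot (extPoly P e))ˣ) : AdjoinRoot (extPoly P e)) := by
    simp [hD]
  obtain ⟨Dinv, hDinv⟩ : ∃ Dinv : (AdjoinRoot (extPoly P e))⟦X⟧, Dinv = D.invOfUnit 1 := ⟨_, rfl⟩
  have hDD : D * Dinv = 1 := by rw [hDinv]; exact PowerSeries.mul_invOfUnit D 1 hD0
  obtain ⟨τ, hτ⟩ : ∃ τ : (AdjoinRoot (extPoly P e))⟦X⟧, τ = C c * X * Dinv := ⟨_, rfl⟩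
  have hτD : τ * D = C c * X := by rw [hτ, mul_assoc, mul_comm Dinv, hDD, mul_one]
  have h1τ : (1 - τ) * D = 1 - X := by
    rw [sub_mul, one_mul, hτD, hD, map_sub, map_one]; ring
  set φ : K →+* (AdjoinRoot (extPoly P e))⟦X⟧ :=
    (C : _ →+* (AdjoinRoot (extPoly P e))⟦X⟧).comp (AdjoinRoot.of (extPoly P e)) with hφ
  have ev1 : Polynomial.eval₂ φ τ G =
      ∑ j ∈ range (d + 1), φ (gamma j (e' - (d : K))) * τ ^ j := by
    conv_lhs => rw [hGsum]
    simp only [Polynomial.eval₂_finsetSum, Polynomial.eval₂_mul, Polynomial.eval₂_C,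
      Polynomial.eval₂_pow, Polynomial.eval₂_X]
  have ev2 : Polynomial.eval₂ φ τ G =
      ∑ i ∈ range (d + 1), φ (LambdaOps.lam i e') * (τ ^ i * (1 - τ) ^ (d - i)) := by
    rw [hG]
    simp only [Polynomial.eval₂_finsetSum, Polynomial.eval₂_mul, Polynomial.eval₂_C,
      Polynomial.eval₂_pow, Polynomial.eval₂_X, Polynomial.eval₂_sub, Polynomial.eval₂_one]
  have key : (∑ j ∈ range (d + 1),
      C (AdjoinRoot.of (extPoly P e) (gamma j (e' - (d : K))) * c ^ j) * X ^ j * D ^ (d - j) :
        (AdjoinRoot (extPoly P e))⟦X⟧) =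
      ((∑ i ∈ range (d + 1), Polynomial.C (LambdaOps.lam i E) *
        (Polynomial.X ^ i * (1 - Polynomial.X) ^ (d - i)) :
          Polynomial (AdjoinRoot (extPoly P e))) : (AdjoinRoot (extPoly P e))⟦X⟧) := by
    have h3 : (∑ j ∈ range (d + 1), φ (gamma j (e' - (d : K))) * τ ^ j) * D ^ d =
        (∑ i ∈ range (d + 1), φ (LambdaOps.lam i e') * (τ ^ i * (1 - τ) ^ (d - i))) * D ^ d := by
      rw [← ev1, ← ev2]
    rw [Finset.sum_mul, Finset.sum_mul] at h3
    have hcoe : ((∑ i ∈ range (d + 1), Polynomial.C (LambdaOps.lam i E) *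
        (Polynomial.X ^ i * (1 - Polynomial.X) ^ (d - i)) :
          Polynomial (AdjoinRoot (extPoly P e))) : (AdjoinRoot (extPoly P e))⟦X⟧) =
        ∑ i ∈ range (d + 1), C (LambdaOps.lam i E) * (X ^ i * (1 - X) ^ (d - i)) := by
      have := map_sum (Polynomial.coeToPowerSeries.ringHom (R := AdjoinRoot (extPoly P e)))
        (fun i => Polynomial.C (LambdaOps.lam i E) *
          (Polynomial.X ^ i * (1 - Polynomial.X) ^ (d - i))) (range (d + 1))
      simp only [Polynomial.coeToPowerSeries.ringHom_apply] at this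
      rw [this]
      refine Finset.sum_congr rfl fun i _ => ?_
      simp
    rw [hcoe]
    calc _ = ∑ j ∈ range (d + 1), φ (gamma j (e' - (d : K))) * τ ^ j * D ^ d := ?_
      _ = ∑ i ∈ range (d + 1), φ (LambdaOps.lam i e') * (τ ^ i * (1 - τ) ^ (d - i)) * D ^ d := h3
      _ = _ := ?_
    · refine Finset.sum_congr rfl fun j hj => ?_
      have hj' := Finset.mem_range.mp hj
      have hsplitD : D ^ d = D ^ j * D ^ (d - j) := by rw [← pow_add]; congr 1; omega
      rw [hsplitD, hφ, RingHom.comp_apply, map_mul, map_pow]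
      calc C (AdjoinRoot.of (extPoly P e) (gamma j (e' - (d : K)))) * C c ^ j * X ^ j * D ^ (d - j)
          = C (AdjoinRoot.of (extPoly P e) (gamma j (e' - (d : K)))) * (C c * X) ^ j *
              D ^ (d - j) := by rw [mul_pow]; ring
        _ = _ := by rw [← hτD, mul_pow]; ring
    · refine Finset.sum_congr rfl fun i hi => ?_
      have hi' := Finset.mem_range.mp hi
      have hsplitD : D ^ d = D ^ i * D ^ (d - i) := by rw [← pow_add]; congr 1; omega
      rw [hsplitD, hlamE, hφ, RingHom.comp_apply, map_mul, map_pow]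
      calc C (AdjoinRoot.of (extPoly P e) (LambdaOps.lam i e')) * (τ ^ i * (1 - τ) ^ (d - i)) *
            (D ^ i * D ^ (d - i))
          = C (AdjoinRoot.of (extPoly P e) (LambdaOps.lam i e')) *
              ((τ * D) ^ i * ((1 - τ) * D) ^ (d - i)) := by rw [mul_pow, mul_pow]; ring
        _ = _ := by rw [hτD, h1τ, mul_pow]; ring
  rw [← Polynomial.coeff_coe, ← key, map_sum]
  refine Ideal.sum_mem _ fun j hj => ?_
  have hj' := Finset.mem_range.mp hj
  have hgj : AdjoinRoot.of (extPoly P e) (gamma j (e' - (d : K))) * c ^ j ∈ V he r hr j := by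
    refine Ideal.mul_mem_right _ _ ?_
    rw [mem_V]
    have haug0 : P.aug (e' - (d : K)) = 0 := by rw [map_sub, map_natCast, haug]; simp
    have h := gen_mem (P := P) (e := e) (r := r) (k := j) (i := 0) (Nat.zero_le _)
      (gamma_mem P haug0 j)
    rwa [pow_zero, mul_one] at h
  have hw : c - 1 ∈ V he r hr 1 := by
    have hx : xe P e ∈ V he r hr 1 := by
      rw [mem_V]
      have h := gen_mem_all he r hr 1 1 1 (one_mem_filtration_zero P)
      rwa [map_one, one_mul, pow_one] at h
    have hcx : c - 1 = (∑ i ∈ range s, AdjoinRoot.root (extPoly P e) ^ i) * xe P e := by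
      rw [xe, geom_sum_mul]
    rw [hcx]
    exact Ideal.mul_mem_left _ _ hx
  have hfil : FilS (V he r hr)
      (C (AdjoinRoot.of (extPoly P e) (gamma j (e' - (d : K))) * c ^ j) * X ^ j * D ^ (d - j)) :=
    (filS_C_mul_X_pow hgj).mul hV ((hD ▸ filS_one_add hV hw : FilS (V he r hr) D).pow hV (d - j))
  exact hfil n

include hext hline hsplit in
theorem gok_of_aug {y : AdjoinRoot (extPoly P e)} (hy : Pe.aug y = 0) : GOK (V he r hr) y := by
  classical
  have hV := isMulFil_V he r hr
  obtain ⟨c, hc⟩ := exists_repr P r hr y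
  choose ep fp hep hfp hcf using fun i => P.exists_sub (c i)
  have haugp : ∀ i, P.aug (ep i) = ((P.aug (ep i)).toNat : ℤ) := fun i =>
    (Int.toNat_of_nonneg (P.aug_pos _ (hep i)).le).symm
  have haugf : ∀ i, P.aug (fp i) = ((P.aug (fp i)).toNat : ℤ) := fun i =>
    (Int.toNat_of_nonneg (P.aug_pos _ (hfp i)).le).symm
  have hsum : ∑ i ∈ range (r + 1), (P.aug (ep i)).toNat = ∑ i ∈ range (r + 1), (P.aug (fp i)).toNat := by
    have h1 := congrArg Pe.aug hc
    rw [hy, map_sum] at h1
    have h2 : ∀ i ∈ range (r + 1), Pe.aug (c i • AdjoinRoot.root (extPoly P e) ^ i) =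
        ((P.aug (ep i)).toNat : ℤ) - ((P.aug (fp i)).toNat : ℤ) := by
      intro i _
      rw [Algebra.smul_def, AdjoinRoot.algebraMap_eq, map_mul, map_pow, hline.2, one_pow, mul_one,
        hext.aug_comp, hcf i, map_sub, ← haugp, ← haugf]
    rw [Finset.sum_congr rfl h2, Finset.sum_sub_distrib, eq_comm, sub_eq_zero] at h1
    exact_mod_cast h1
  have hyeq : y = (∑ i ∈ range (r + 1), (AdjoinRoot.of (extPoly P e) (ep i) *
      AdjoinRoot.root (extPoly P e) ^ i - (((P.aug (ep i)).toNat : ℕ) : AdjoinRoot (extPoly P e)))) -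
      ∑ i ∈ range (r + 1), (AdjoinRoot.of (extPoly P e) (fp i) *
      AdjoinRoot.root (extPoly P e) ^ i - (((P.aug (fp i)).toNat : ℕ) : AdjoinRoot (extPoly P e))) := by
    rw [Finset.sum_sub_distrib, Finset.sum_sub_distrib, ← Nat.cast_sum, ← Nat.cast_sum, hsum, hc]
    have h3 : ∀ i ∈ range (r + 1), c i • AdjoinRoot.root (extPoly P e) ^ i =
        AdjoinRoot.of (extPoly P e) (ep i) * AdjoinRoot.root (extPoly P e) ^ i -
        AdjoinRoot.of (extPoly P e) (fp i) * AdjoinRoot.root (extPoly P e) ^ i := by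
      intro i _
      rw [Algebra.smul_def, AdjoinRoot.algebraMap_eq, hcf i, map_sub, sub_mul]
    rw [Finset.sum_congr rfl h3, Finset.sum_sub_distrib]
    ring
  rw [hyeq]
  exact (GOK.sum hV _ _ fun i _ => gok_pos he r hr Pe hext hline hsplit (ep i) (hep i) i).sub hV
    (GOK.sum hV _ _ fun i _ => gok_pos he r hr Pe hext hline hsplit (fp i) (hfp i) i)

include he hr hext hline hsplit in
theorem gammaFiltration_le_W (k : ℕ) : gammaFiltration Pe k ≤ W P e r k := by
  have hV := isMulFil_V he r hr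
  rcases Nat.eq_zero_or_pos k with rfl | hk
  · intro z _
    have : z ∈ V he r hr 0 := by rw [hV.zero]; trivial
    exact this
  · rw [gammaFiltration, if_neg hk.ne']
    rw [AddSubgroup.closure_le]
    rintro z ⟨l, hl, hsum, rfl⟩
    have hprod : ∀ l : List (ℕ × AdjoinRoot (extPoly P e)), (∀ p ∈ l, Pe.aug p.2 = 0) →
        (l.map fun p => gamma p.1 p.2).prod ∈ V he r hr (l.map Prod.fst).sum := by
      intro l
      induction l with
      | nil => intro _; simpa using hV.one_mem
      | cons p l ih =>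
        intro hl
        simp only [List.map_cons, List.prod_cons, List.sum_cons]
        exact hV.mul _ _ _ _
          (gok_of_aug he r hr Pe hext hline hsplit (hl p List.mem_cons_self) p.1)
          (ih fun q hq => hl q (List.mem_cons_of_mem _ hq))
    exact hV.anti _ _ hsum (hprod l hl)

include hext in
theorem map_mem_filtration (n : ℕ) {a : K} (ha : a ∈ gammaFiltration P n) :
    AdjoinRoot.of (extPoly P e) a ∈ gammaFiltration Pe n := by
  rcases Nat.eq_zero_or_pos n with rfl | hn
  · rw [gammaFiltration_zero]; trivial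
  · rw [gammaFiltration, if_neg hn.ne'] at ha ⊢
    induction ha using AddSubgroup.closure_induction with
    | mem z hz =>
      obtain ⟨l, hl, hsum, rfl⟩ := hz
      apply AddSubgroup.subset_closure
      refine ⟨l.map fun p => (p.1, AdjoinRoot.of (extPoly P e) p.2), ?_, ?_, ?_⟩
      · intro p hp
        rw [List.mem_map] at hp
        obtain ⟨q, hq, rfl⟩ := hp
        change Pe.aug (AdjoinRoot.of (extPoly P e) q.2) = 0
        rw [hext.aug_comp]
        exact hl q hq
      · rw [List.map_map]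
        exact hsum
      · rw [map_list_prod, List.map_map, List.map_map]
        congr 1
        refine List.map_congr_left fun p _ => ?_
        exact map_gamma (AdjoinRoot.of (extPoly P e)) hext.isLambdaHom p.1 p.2
    | zero => rw [map_zero]; exact AddSubgroup.zero_mem _
    | add x y _ _ hx hy => rw [map_add]; exact AddSubgroup.add_mem _ hx hy
    | neg x _ hx => rw [map_neg]; exact AddSubgroup.neg_mem _ hx

include hext hline in
theorem W_le_gammaFiltration (k : ℕ) : W P e r k ≤ gammaFiltration Pe k := by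
  refine W_le fun i hi a ha => ?_
  have h1 := map_mem_filtration Pe hext (k - i) ha
  have hx : xe P e ∈ gammaFiltration Pe 1 := by
    apply mem_filtration_one_of_aug
    rw [xe, map_sub, hline.2, map_one, sub_self]
  have h2 := pow_mem_filtration Pe hx i
  have h3 := mul_mem_filtration Pe h1 h2
  exact gammaFiltration_antitone Pe (by omega) h3

include he hr hext hline hsplit in
theorem gammaFiltration_eq (k : ℕ) : gammaFiltration Pe k = W P e r k :=
  le_antisymm (gammaFiltration_le_W he r hr Pe hext hline hsplit k)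
    (W_le_gammaFiltration r Pe hext hline k)

end Lam

end Groth.Agent.Lib.helper3.ElemGamma
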