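import Groth.Agent.Lib.Helper3.FibreDimBC
import Groth.Agent.Lib.Helper3.OpenAtEquidim2
import Groth.Agent.Lib.Helper3.EquidimAt
import Groth.Agent.Lib.Helper3.DimIneqSch2

/-!
# Flat base change of equidimensionality at a point (helper3, EGA IV 13.3.8)

* `maximal_image_of_isPullback`: in a cartesian square, if `ξ'` is a maximal point of `X'` lying over a maximal
  point of `Y`, then `f' ξ'` is a maximal point of `Y'`.
* `isEquidimAt_baseChange_flat` (= S2594).
-/

set_option autoImplicit false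
universe u
open CategoryTheory CategoryTheory.Limits AlgebraicGeometry

namespace Groth.Agent.Lib.helper3.EquidimBC

open Groth.Agent.Lib.helper3.FibreDimBC Groth.Agent.Lib.helper3.EquidimAt

theorem maximal_image_of_isPullback {X Y X' Y' : Scheme.{u}} (f : X ⟶ Y) (g : Y' ⟶ Y)
    (g' : X' ⟶ X) (f' : X' ⟶ Y') (hsq : IsPullback g' f' f g) (ξ' : X')
    (hmax' : ∀ ω' : X', ω' ⤳ ξ' → ω' = ξ')
    (hη : ∀ ω : Y, ω ⤳ g (f' ξ') → ω = g (f' ξ')) :
    ∀ ω' : Y', ω' ⤳ f' ξ' → ω' = f' ξ' := by
  intro ω' hω'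
  set η := g (f' ξ') with hηdef
  have hgω : g ω' = η := hη _ (hω'.map g.continuous)
  have big : IsPullback (pullback.fst f' (g.fiberι η) ≫ g') (pullback.snd f' (g.fiberι η)) f
      (g.fiberι η ≫ g) :=
    (IsPullback.of_hasPullback f' (g.fiberι η)).paste_horiz hsq
  have hcond : g.fiberι η ≫ g = g.fiberToSpecResidueField η ≫ Y.fromSpecResidueField η :=
    pullback.condition
  rw [hcond] at big
  let h₁₁ : pullback f' (g.fiberι η) ⟶ f.fiber η :=
    pullback.lift (pullback.fst f' (g.fiberι η) ≫ g')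
      (pullback.snd f' (g.fiberι η) ≫ g.fiberToSpecResidueField η)
      (by rw [Category.assoc]; exact big.w)
  have h₁₁fst : h₁₁ ≫ f.fiberι η = pullback.fst f' (g.fiberι η) ≫ g' := pullback.lift_fst _ _ _
  have h₁₁snd : h₁₁ ≫ f.fiberToSpecResidueField η =
      pullback.snd f' (g.fiberι η) ≫ g.fiberToSpecResidueField η := pullback.lift_snd _ _ _
  have left : IsPullback h₁₁ (pullback.snd f' (g.fiberι η)) (f.fiberToSpecResidueField η)
      (g.fiberToSpecResidueField η) := by
    refine IsPullback.of_right ?_ h₁₁snd (IsPullback.of_hasPullback f (Y.fromSpecResidueField η))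
    rw [show h₁₁ ≫ pullback.fst f (Y.fromSpecResidueField η) = _ from h₁₁fst]
    exact big
  haveI : Flat (f.fiberToSpecResidueField η) := inferInstance
  haveI : Flat (pullback.snd f' (g.fiberι η)) :=
    MorphismProperty.of_isPullback (P := @Flat) left inferInstance
  have hgen : GeneralizingMap (pullback.snd f' (g.fiberι η)) := Flat.generalizingMap _
  have hξ'mem : ξ' ∈ Set.range (pullback.fst f' (g.fiberι η)) := by
    rw [Scheme.Pullback.range_fst, Scheme.Hom.range_fiberι]
    exact rfl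
  obtain ⟨w, hw⟩ := hξ'mem
  obtain ⟨t'', ht''⟩ : ω' ∈ Set.range (g.fiberι η) := by
    rw [Scheme.Hom.range_fiberι]; exact hgω
  have hcondW : ∀ w₀ : ↥(pullback f' (g.fiberι η)),
      g.fiberι η (pullback.snd f' (g.fiberι η) w₀) = f' (pullback.fst f' (g.fiberι η) w₀) := by
    intro w₀
    rw [← Scheme.Hom.comp_apply, ← pullback.condition, Scheme.Hom.comp_apply]
  have hsp : t'' ⤳ pullback.snd f' (g.fiberι η) w := by
    rw [← (g.fiberι η).isEmbedding.isInducing.specializes_iff, ht'', hcondW, hw]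
    exact hω'
  obtain ⟨w'', hw''sp, hw''⟩ := hgen hsp
  have h1 : pullback.fst f' (g.fiberι η) w'' = ξ' :=
    hmax' _ (hw ▸ hw''sp.map (pullback.fst f' (g.fiberι η)).continuous)
  calc ω' = g.fiberι η t'' := ht''.symm
    _ = g.fiberι η (pullback.snd f' (g.fiberι η) w'') := by rw [hw'']
    _ = f' (pullback.fst f' (g.fiberι η) w'') := hcondW w''
    _ = f' ξ' := by rw [h1]

theorem isEquidimAt_baseChange_flat {X Y Y' : Scheme.{u}} (f : X ⟶ Y) [LocallyOfFiniteType f] (g : Y' ⟶ Y) [Flat g] [IsLocallyNoetherian Y']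
    (x : X) (h : EGA43.IsEquidimAt f x) (x' : ↥(pullback f g)) (hx' : (pullback.fst f g).base x' = x) :
    EGA43.IsEquidimAt (pullback.snd f g) x' := by
  obtain ⟨e, U, hxU, hA, hB⟩ := h
  haveI : IsLocallyNoetherian (pullback f g) :=
    LocallyOfFiniteType.isLocallyNoetherian (pullback.snd f g)
  have hsq := IsPullback.of_hasPullback f g
  have key := fibreDimAt_eq_of_isPullback f g (pullback.fst f g) (pullback.snd f g) hsq
  have hA' : ∀ Z ∈ irreducibleComponents (↥U : Type u),
      ∃ W ∈ irreducibleComponents (Y : Type u), closure ((U.ι ≫ f).base '' Z) = W := by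
    intro Z hZ
    obtain ⟨W, hW, -, hcl⟩ := hA Z hZ
    exact ⟨W, hW, hcl⟩
  apply Groth.Agent.Lib.helper3.OpenAtDim.isEquidimAt_of_forall_maximal (pullback.snd f g) x' e
  · intro ξ' hξ'comp hξ'x'
    have hmax' : ∀ ω' : ↥(pullback f g), ω' ⤳ ξ' → ω' = ξ' :=
      eq_of_specializes_of_closure_mem_irreducibleComponents ξ' hξ'comp
    have hξx : (pullback.fst f g) ξ' ⤳ x := hx' ▸ hξ'x'.map (pullback.fst f g).continuous
    have hξU : (pullback.fst f g) ξ' ∈ U := hξx.mem_open U.2 hxU
    have hmax : ∀ ω : X, ω ⤳ (pullback.fst f g) ξ' → ω = (pullback.fst f g) ξ' := by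
      intro ω hω
      obtain ⟨ω', hω'sp, hω'⟩ := Flat.generalizingMap (pullback.fst f g) hω
      rw [← hω', hmax' ω' hω'sp]
    have hfd := fibreDimAt_eq_of_isEquidimAt f U e hB _ hξU
    have hcl := closure_image_mem_of_isEquidimAt f U hA' _ hξU hmax
    have hcomm : f ((pullback.fst f g) ξ') = g ((pullback.snd f g) ξ') := by
      rw [← Scheme.Hom.comp_apply, pullback.condition, Scheme.Hom.comp_apply]
    have hηmax : ∀ ω : Y, ω ⤳ g ((pullback.snd f g) ξ') → ω = g ((pullback.snd f g) ξ') := by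
      rw [← hcomm]
      exact eq_of_specializes_of_closure_mem_irreducibleComponents _ hcl
    have hη'max := maximal_image_of_isPullback f g _ _ hsq ξ' hmax' hηmax
    refine ⟨?_, closure_mem_irreducibleComponents_of_forall_specializes _ hη'max⟩
    obtain ⟨n, hn⟩ := Groth.Agent.Lib.helper3.DimIneq.exists_nat_td_residueFieldMap
      (pullback.snd f g) ξ'
    have h2 := Groth.Agent.Lib.helper3.RelDim.fibreDimAt_eq_td_of_forall (pullback.snd f g) ξ'
      (fun ω' hω' _ => hmax' ω' hω') n hn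
    rw [key ξ', hfd] at h2
    have : e = n := by exact_mod_cast h2
    rw [hn, this]
  · rw [key x', hx']
    exact (fibreDimAt_eq_of_isEquidimAt f U e hB x hxU).le

end Groth.Agent.Lib.helper3.EquidimBC
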