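import Mathlib
import Groth.Agent.Lib.Helper3.UnivOpenGenTd
import Groth.Agent.Lib.Helper3.EquidimHyper
import Groth.Agent.Lib.Helper3.NowhereDenseGen
import Groth.Agent.Lib.Helper5.FibreDimLocal

/-!
# Dimension conditions for universal openness at a maximal point of a fibre (helper3; = S4933)

EGA IV 14.3.2-type: `a) ⇒ b') ⇒ b)`.
-/

set_option autoImplicit false
universe u
open CategoryTheory AlgebraicGeometry CategoryTheory.Limits TopologicalSpace Topology Function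

namespace Groth.Agent.Lib.helper3.UnivOpenDimCond

open Groth.Agent.Lib.helper3 Groth.Agent.Lib.helper3.UOImageDim Groth.Agent.Lib.helper3.DimIneq
  Groth.Agent.Lib.helper3.SecCompDim Groth.Agent.Lib.helper3.UnivOpenGenTd

variable {X Y : Scheme.{u}} (f : X ⟶ Y) [LocallyOfFiniteType f]

/-- open version of `td_le_dim_fibre_inter`. -/
theorem td_le_dim_open_inter_fibre (U : X.Opens) (ξ : X) (hξU : ξ ∈ U) (t : Y)
    (hξt : f.base ξ = t) (k : ℕ) (hk : td (f.residueFieldMap ξ).hom = (k : Cardinal.{u})) :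
    (k : WithBot ℕ∞) ≤ topologicalKrullDim ↥((U : Set X) ∩ f.base ⁻¹' {t}) := by
  subst hξt
  have hk' : td ((U.ι ≫ f).residueFieldMap ⟨ξ, hξU⟩).hom = (k : Cardinal.{u}) := by
    rw [EquidimAt.td_comp_opens_ι f U ⟨ξ, hξU⟩]; exact hk
  rw [← DimCriteria.dim_closure_inter_fibre (U.ι ≫ f) ⟨ξ, hξU⟩ k hk']
  apply TopDim.dim_le_of_range_subset (f := U.ι.base ∘ Subtype.val) (g := Subtype.val)
    (U.ι.isEmbedding.isInducing.comp IsInducing.subtypeVal) IsInducing.subtypeVal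
  rintro _ ⟨⟨c, hc1, hc2⟩, rfl⟩
  rw [Subtype.range_coe]
  exact ⟨c.2, hc2⟩

/-- an open part of a fibre of dimension `≥ n` contains a point of transcendence degree `≥ n`. -/
theorem exists_td_ge_of_le_dim_open (U : X.Opens) (t : Y) (n : ℕ)
    (h : (n : WithBot ℕ∞) ≤ topologicalKrullDim ↥((U : Set X) ∩ f.base ⁻¹' {t})) :
    ∃ c ∈ U, f.base c = t ∧ (n : Cardinal.{u}) ≤ td (f.residueFieldMap c).hom := by
  have h1 : topologicalKrullDim ↥((U : Set X) ∩ f.base ⁻¹' {t}) =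
      topologicalKrullDim ↥((U.ι ≫ f).base ⁻¹' {t} ∩ Set.univ) := by
    apply DimCriteria.dim_eq_of_range_eq (Subtype.val : ↥((U : Set X) ∩ f.base ⁻¹' {t}) → X)
      (U.ι.base ∘ (Subtype.val : ↥((U.ι ≫ f).base ⁻¹' {t} ∩ Set.univ) → ↥U))
      IsInducing.subtypeVal (U.ι.isEmbedding.isInducing.comp IsInducing.subtypeVal)
    rw [Subtype.range_coe]
    ext c
    constructor
    · rintro ⟨hcU, hct⟩
      exact ⟨⟨⟨c, hcU⟩, ⟨hct, trivial⟩⟩, rfl⟩
    · rintro ⟨⟨c', hc', -⟩, rfl⟩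
      exact ⟨c'.2, hc'⟩
  rw [h1] at h
  obtain ⟨c, -, hct, hcn⟩ :=
    UnivOpenGenTd.exists_td_ge_of_le_dim (U.ι ≫ f) t Set.univ isClosed_univ n h
  refine ⟨c.1, c.2, hct, ?_⟩
  rw [EquidimAt.td_comp_opens_ι f U c] at hcn
  exact hcn

/-- **a) ⇒ b')**. -/
theorem dim_cond_of_isUnivOpenAt (x : X)
    (hmax : ∀ x' : X, f.base x' = f.base x → x ∈ closure {x'} → x' = x)
    (h : EGA43.IsUnivOpenAt f x) (U : X.Opens) (hxU : x ∈ U) (y' : Y) (hy' : y' ⤳ f.base x) :
    FlatMor.fibreDimAt f x ≤ topologicalKrullDim ↥((U : Set X) ∩ f.base ⁻¹' {y'}) := by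
  obtain ⟨n, hn⟩ := exists_nat_td_residueFieldMap f x
  have hfd : FlatMor.fibreDimAt f x = (n : WithBot ℕ∞) :=
    RelDim.fibreDimAt_eq_td_of_forall f x (fun x' hsp hf => hmax x' hf hsp.mem_closure) n hn
  obtain ⟨ξ, hξx, hξy, hle⟩ := exists_generization_td_ge f x h y' hy'
  obtain ⟨k, hk⟩ := exists_nat_td_residueFieldMap f ξ
  have hξU : ξ ∈ U := hξx.mem_open U.2 hxU
  have h1 := td_le_dim_open_inter_fibre f U ξ hξU y' hξy k hk
  rw [hfd]
  refine le_trans ?_ h1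
  rw [hn, hk] at hle
  exact_mod_cast hle

/-- Chevalley along `closure {ζ}` in terms of local dimensions. -/
theorem le_localDim_closure_inter_fibre (ζ x : X) (hζx : ζ ⤳ x) (n : ℕ)
    (hn : td (f.residueFieldMap ζ).hom = (n : Cardinal.{u})) :
    (n : WithBot ℕ∞) ≤ FlatMor.localDim ↥(closure ({ζ} : Set X) ∩ f.base ⁻¹' {f.base x})
      ⟨x, ⟨specializes_iff_mem_closure.mp hζx, rfl⟩⟩ := by
  set I := Scheme.IdealSheafData.vanishingIdeal (X := X) ⟨closure {ζ}, isClosed_closure⟩ with hI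
  set ι := I.subschemeι with hι
  have hιr : Set.range ι.base = closure {ζ} := by
    rw [hι, Scheme.IdealSheafData.range_subschemeι, hI,
      Scheme.IdealSheafData.coe_support_vanishingIdeal]
    rfl
  have hemb : IsEmbedding ι.base := ι.isClosedEmbedding.isEmbedding
  obtain ⟨tζ, htζ⟩ : ζ ∈ Set.range ι.base := by rw [hιr]; exact subset_closure rfl
  obtain ⟨tx, htx⟩ : x ∈ Set.range ι.base := by
    rw [hιr]; exact specializes_iff_mem_closure.mp hζx
  have hgen : ∀ t : ↥I.subscheme, tζ ⤳ t := by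
    intro t
    rw [← hemb.isInducing.specializes_iff, htζ, specializes_iff_mem_closure, ← hιr]
    exact ⟨t, rfl⟩
  set h := ι ≫ f with hh
  have htdζ : td (h.residueFieldMap tζ).hom = (n : Cardinal.{u}) := by
    rw [hh, EquidimIrr.td_comp_of_surjectiveOnStalks ι f tζ, DimCriteria.td_congr f htζ]
    exact hn
  have hfd : FlatMor.fibreDimAt h tζ = (n : WithBot ℕ∞) :=
    RelDim.fibreDimAt_eq_td_of_forall h tζ
      (fun t' ht' _ => (ht'.antisymm (hgen t')).eq) n htdζ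
  have hclosed := Groth.Agent.Lib.helper5.FibreDimGE.isClosed_setOf_le_fibreDimAt h n
  have hmem : tx ∈ {c : ↥I.subscheme | (n : WithBot ℕ∞) ≤ FlatMor.fibreDimAt h c} :=
    (hgen tx).mem_closed hclosed (by simp only [Set.mem_ofPred_eq]; rw [hfd])
  simp only [Set.mem_ofPred_eq] at hmem
  rw [Groth.Agent.Lib.helper5.FibreDimLocal.fibreDimAt_eq_localDim_preimage h tx] at hmem
  refine le_trans hmem (le_of_eq ?_)
  apply DimCriteria.localDim_eq_of_range_eq
    (ι.base ∘ (Subtype.val : ↥(h.base ⁻¹' {h.base tx}) → ↥I.subscheme))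
    (Subtype.val : ↥(closure ({ζ} : Set X) ∩ f.base ⁻¹' {f.base x}) → X)
    (hemb.comp IsEmbedding.subtypeVal) IsEmbedding.subtypeVal
  · rw [Subtype.range_coe]
    ext c
    constructor
    · rintro ⟨⟨t, ht⟩, rfl⟩
      refine ⟨?_, ?_⟩
      · rw [← hιr]; exact ⟨t, rfl⟩
      · have h1 : h.base t = h.base tx := ht
        rw [hh, Scheme.Hom.comp_apply, Scheme.Hom.comp_apply, htx] at h1
        exact h1
    · rintro ⟨hc1, hc2⟩
      rw [← hιr] at hc1
      obtain ⟨t, rfl⟩ := hc1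
      refine ⟨⟨t, ?_⟩, rfl⟩
      change h.base t = h.base tx
      rw [hh, Scheme.Hom.comp_apply, Scheme.Hom.comp_apply, htx]
      exact hc2
  · exact htx

end Groth.Agent.Lib.helper3.UnivOpenDimCond
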