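import Mathlib
import Groth.Agent.Lib.Helper3.UnivOpenDimCond

/-!
# Dimension conditions for universal openness at a maximal point of a fibre, II (helper3; = S4933)
-/

set_option autoImplicit false
universe u
open CategoryTheory AlgebraicGeometry CategoryTheory.Limits TopologicalSpace Topology Function

namespace Groth.Agent.Lib.helper3.UnivOpenDimCond

open Groth.Agent.Lib.helper3 Groth.Agent.Lib.helper3.UOImageDim Groth.Agent.Lib.helper3.DimIneq
  Groth.Agent.Lib.helper3.SecCompDim Groth.Agent.Lib.helper3.UnivOpenGenTd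

variable {X Y : Scheme.{u}} (f : X ⟶ Y) [LocallyOfFiniteType f]

/-- the part of a fibre inside an affine open lying over an affine open is a Noetherian space. -/
theorem noetherianSpace_affine_inter_fibre {V₀ : Y.Opens} (hV₀ : IsAffineOpen V₀) {U₀ : X.Opens}
    (hU₀ : IsAffineOpen U₀) (e : U₀ ≤ f ⁻¹ᵁ V₀) (η₀ : Y) (hη₀ : η₀ ∈ V₀) :
    NoetherianSpace ↥((U₀ : Set X) ∩ f.base ⁻¹' {η₀}) := by
  set ψ := f.resLE V₀ U₀ e with hψ
  haveI : IsAffine V₀.toScheme := hV₀
  haveI : IsAffine U₀.toScheme := hU₀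
  haveI : QuasiCompact ψ := inferInstance
  haveI : LocallyOfFiniteType ψ := inferInstance
  haveI := noetherianSpace_fibre ψ ⟨η₀, hη₀⟩
  have hψval : ∀ c : ↥U₀, (ψ.base c).1 = f.base c.1 := by
    intro c
    have h2 : (ψ ≫ V₀.ι).base c = (U₀.ι ≫ f).base c := by
      rw [hψ, Scheme.Hom.resLE_comp_ι f e]
    exact h2
  have hF : ((U₀ : Set X) ∩ f.base ⁻¹' {η₀}) =
      Set.range (U₀.ι.base ∘ (Subtype.val : ↥(ψ.base ⁻¹' {⟨η₀, hη₀⟩}) → ↥U₀)) := by
    ext c
    constructor
    · rintro ⟨hcU, hct⟩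
      refine ⟨⟨⟨c, hcU⟩, ?_⟩, rfl⟩
      rw [Set.mem_preimage, Set.mem_singleton_iff]
      apply Subtype.ext
      rw [hψval]
      exact hct
    · rintro ⟨⟨c', hc'⟩, rfl⟩
      refine ⟨c'.2, ?_⟩
      rw [Set.mem_preimage, Set.mem_singleton_iff] at hc'
      have := congrArg Subtype.val hc'
      rw [hψval] at this
      exact this
  rw [hF]
  exact NoetherianSpace.range _ (U₀.ι.continuous.comp continuous_subtype_val)

omit [LocallyOfFiniteType f] in
theorem quasiSober_open_inter_fibre (U₀ : X.Opens) (η₀ : Y) :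
    QuasiSober ↥((U₀ : Set X) ∩ f.base ⁻¹' {η₀}) := by
  haveI := quasiSober_fibre f η₀
  have hsub : ((U₀ : Set X) ∩ f.base ⁻¹' {η₀}) ⊆ f.base ⁻¹' {η₀} := Set.inter_subset_right
  have hemb : IsOpenEmbedding (Set.inclusion hsub) := by
    refine ⟨IsEmbedding.inclusion hsub, ?_⟩
    have : Set.range (Set.inclusion hsub) = Subtype.val ⁻¹' (U₀ : Set X) := by
      ext c
      constructor
      · rintro ⟨c', rfl⟩
        exact c'.2.1
      · intro hc
        exact ⟨⟨c.1, hc, c.2⟩, rfl⟩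
    rw [this]
    exact U₀.2.preimage continuous_subtype_val
  exact hemb.quasiSober

/-- from the dimension condition b') at the point `η₀`: a maximal point `ζ` of the fibre over `η₀`
specializing to `x` with large transcendence degree. -/
theorem exists_maximal_generization (x : X) (η₀ : Y) (hη₀ : η₀ ⤳ f.base x) (m : ℕ)
    (hb : ∀ U : X.Opens, x ∈ U →
      (m : WithBot ℕ∞) ≤ topologicalKrullDim ↥((U : Set X) ∩ f.base ⁻¹' {η₀})) :
    ∃ ζ : X, f.base ζ = η₀ ∧ ζ ⤳ x ∧ (∀ t : X, t ⤳ ζ → f.base t = η₀ → t = ζ) ∧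
      (m : Cardinal.{u}) ≤ td (f.residueFieldMap ζ).hom := by
  classical
  obtain ⟨V₀, hV₀, hxV₀, -⟩ := exists_isAffineOpen_mem_and_subset (x := f.base x) (U := ⊤) trivial
  obtain ⟨U₀, hU₀, hxU₀, e⟩ := exists_isAffineOpen_mem_and_subset (x := x) (U := f ⁻¹ᵁ V₀) hxV₀
  have hηV₀ : η₀ ∈ V₀ := hη₀.mem_open V₀.2 hxV₀
  set F : Set X := (U₀ : Set X) ∩ f.base ⁻¹' {η₀} with hF
  haveI : NoetherianSpace ↥F := noetherianSpace_affine_inter_fibre f hV₀ hU₀ e η₀ hηV₀
  haveI : QuasiSober ↥F := quasiSober_open_inter_fibre f U₀ η₀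
  have hfin : (irreducibleComponents ↥F).Finite := NoetherianSpace.finite_irreducibleComponents
  set Bad : Set X := ⋃ T ∈ {T ∈ irreducibleComponents ↥F | x ∉ closure (Subtype.val '' T)},
    closure (Subtype.val '' T) with hBad
  have hBadc : IsClosed Bad :=
    (hfin.subset (fun T hT => hT.1)).isClosed_biUnion fun _ _ => isClosed_closure
  have hxBad : x ∉ Bad := by
    rw [hBad]
    simp only [Set.mem_iUnion, not_exists]
    intro T hT hx
    exact hT.2 hx
  let U : X.Opens := U₀ ⊓ ⟨Badᶜ, hBadc.isOpen_compl⟩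
  have hxU : x ∈ U := ⟨hxU₀, hxBad⟩
  obtain ⟨c, hcU, hct, hcm⟩ := exists_td_ge_of_le_dim_open f U η₀ m (hb U hxU)
  let cF : ↥F := ⟨c, hcU.1, hct⟩
  set T := irreducibleComponent cF with hT
  have hTmem : T ∈ irreducibleComponents ↥F := irreducibleComponent_mem_irreducibleComponents cF
  have hcT : cF ∈ T := mem_irreducibleComponent
  have hxT : x ∈ closure (Subtype.val '' T) := by
    by_contra hx
    have h1 : c ∈ Bad := by
      rw [hBad]
      refine Set.mem_biUnion (⟨hTmem, hx⟩ : T ∈ {T ∈ irreducibleComponents ↥F |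
        x ∉ closure (Subtype.val '' T)}) (subset_closure ⟨cF, hcT, rfl⟩)
    exact hcU.2 h1
  obtain ⟨τ, hτ⟩ := QuasiSober.sober (isIrreducible_irreducibleComponent (x := cF))
    (isClosed_irreducibleComponent (x := cF))
  have hτT : closure ({τ} : Set ↥F) = T := hτ.def
  refine ⟨τ.1, τ.2.2, ?_, ?_, ?_⟩
  · -- ζ ⤳ x
    rw [specializes_iff_mem_closure]
    have h1 : Subtype.val '' T ⊆ closure ({τ.1} : Set X) := by
      rw [← hτT]
      refine (image_closure_subset_closure_image continuous_subtype_val).trans ?_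
      rw [Set.image_singleton]
    exact closure_minimal h1 isClosed_closure hxT
  · -- maximality
    intro t ht htη
    have htU₀ : t ∈ U₀ := ht.mem_open U₀.2 τ.2.1
    let tF : ↥F := ⟨t, htU₀, htη⟩
    have hsp : tF ⤳ τ := by
      rw [← IsInducing.subtypeVal.specializes_iff]
      exact ht
    have h2 := EquidimAt.eq_of_specializes_of_closure_mem_irreducibleComponents τ
      (by rw [hτT]; exact hTmem) tF hsp
    exact congrArg Subtype.val h2
  · -- td
    have hsp : τ ⤳ cF := by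
      rw [specializes_iff_mem_closure, hτT]
      exact hcT
    have hsp' : τ.1 ⤳ c := hsp.map continuous_subtype_val
    have hle := td_le_of_specializes_fibre f c τ.1 hsp' (τ.2.2.trans hct.symm)
    exact hcm.trans hle

/-- **b') ⇒ b)**. -/
theorem components_of_dim_cond (x : X)
    (hb : ∀ U : X.Opens, x ∈ U → ∀ y' : Y, y' ⤳ f.base x →
      FlatMor.fibreDimAt f x ≤ topologicalKrullDim ↥((U : Set X) ∩ f.base ⁻¹' {y'}))
    (Y₀ : Set Y) (hY₀ : Y₀ ∈ irreducibleComponents (Y : Type u)) (hxY₀ : f.base x ∈ Y₀) :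
    ∃ Z ∈ irreducibleComponents (X : Type u), ∃ hx : x ∈ Z, closure (f.base '' Z) = Y₀ ∧
      ∀ η : Y, closure ({η} : Set Y) = Y₀ →
        FlatMor.fibreDimAt f x = FlatMor.localDim ↥(Z ∩ f.base ⁻¹' {f.base x}) ⟨x, ⟨hx, rfl⟩⟩ ∧
        FlatMor.localDim ↥(Z ∩ f.base ⁻¹' {f.base x}) ⟨x, ⟨hx, rfl⟩⟩ =
          topologicalKrullDim ↥(Z ∩ f.base ⁻¹' {η}) := by
  obtain ⟨η₀, hη₀⟩ := QuasiSober.sober hY₀.1 (isClosed_of_mem_irreducibleComponents _ hY₀)
  have hsp : η₀ ⤳ f.base x := hη₀.specializes hxY₀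
  obtain ⟨m, hm⟩ := NowhereDenseGen.exists_nat_fibreDimAt f x
  obtain ⟨ζ, hζη, hζx, hζmax, hζm⟩ := exists_maximal_generization f x η₀ hsp m
    (fun U hU => by rw [← hm]; exact hb U hU η₀ hsp)
  subst hζη
  have hcl : closure ({f.base ζ} : Set Y) = Y₀ := hη₀.def
  have hηmax : ∀ y : Y, y ⤳ f.base ζ → y = f.base ζ := fun y hy =>
    EquidimAt.eq_of_specializes_of_closure_mem_irreducibleComponents (f.base ζ)
      (by rw [hcl]; exact hY₀) y hy
  have hZ : closure ({ζ} : Set X) ∈ irreducibleComponents (X : Type u) :=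
    EquidimAt.closure_mem_irreducibleComponents_of_forall_specializes ζ
      (fun t ht => hζmax t ht (hηmax _ (ht.map f.continuous)))
  have hxZ : x ∈ closure ({ζ} : Set X) := specializes_iff_mem_closure.mp hζx
  obtain ⟨e, he⟩ := exists_nat_td_residueFieldMap f ζ
  have hme : m ≤ e := by
    rw [he] at hζm
    exact_mod_cast hζm
  refine ⟨closure {ζ}, hZ, hxZ, ?_, ?_⟩
  · apply subset_antisymm
    · rw [← hcl]
      apply closure_minimal _ isClosed_closure
      refine (image_closure_subset_closure_image f.continuous).trans ?_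
      rw [Set.image_singleton]
    · rw [← hcl]
      apply closure_minimal _ isClosed_closure
      rw [Set.singleton_subset_iff]
      exact subset_closure ⟨ζ, subset_closure rfl, rfl⟩
  · intro η hη
    have hηeq : η = f.base ζ := by
      have h1 : IsGenericPoint η Y₀ := hη
      exact h1.eq hη₀
    subst hηeq
    have h1 : topologicalKrullDim ↥(closure ({ζ} : Set X) ∩ f.base ⁻¹' {f.base ζ}) =
        (e : WithBot ℕ∞) := DimCriteria.dim_closure_inter_fibre f ζ e he
    have h2 : FlatMor.localDim ↥(closure ({ζ} : Set X) ∩ f.base ⁻¹' {f.base x}) ⟨x, ⟨hxZ, rfl⟩⟩ ≤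
        FlatMor.fibreDimAt f x := by
      rw [Groth.Agent.Lib.helper5.FibreDimLocal.fibreDimAt_eq_localDim_preimage f x]
      apply EquidimHyper.localDim_le_of_range_subset
        (Subtype.val : ↥(closure ({ζ} : Set X) ∩ f.base ⁻¹' {f.base x}) → X)
        (Subtype.val : ↥(f.base ⁻¹' {f.base x}) → X) IsInducing.subtypeVal IsEmbedding.subtypeVal
      · rw [Subtype.range_coe, Subtype.range_coe]
        exact Set.inter_subset_right
      · rfl
    have h3 := le_localDim_closure_inter_fibre f ζ x hζx e he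
    have h4 : (m : WithBot ℕ∞) ≤ (e : WithBot ℕ∞) := by exact_mod_cast hme
    rw [h1]
    rw [hm] at h2 ⊢
    constructor
    · exact le_antisymm (h4.trans h3) h2
    · exact le_antisymm (h2.trans h4) h3

/-- **S4933**. -/
theorem main (x : X) (hmax : ∀ x' : X, f.base x' = f.base x → x ∈ closure {x'} → x' = x) :
    (EGA43.IsUnivOpenAt f x → (∀ U : X.Opens, x ∈ U → ∀ y' : Y, y' ⤳ f.base x →
        FlatMor.fibreDimAt f x ≤ topologicalKrullDim ↥((U : Set X) ∩ f.base ⁻¹' {y'}))) ∧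
    ((∀ U : X.Opens, x ∈ U → ∀ y' : Y, y' ⤳ f.base x →
        FlatMor.fibreDimAt f x ≤ topologicalKrullDim ↥((U : Set X) ∩ f.base ⁻¹' {y'})) →
      (∀ Y₀ ∈ irreducibleComponents (Y : Type u), f.base x ∈ Y₀ →
        ∃ Z ∈ irreducibleComponents (X : Type u), ∃ hx : x ∈ Z, closure (f.base '' Z) = Y₀ ∧
          ∀ η : Y, closure ({η} : Set Y) = Y₀ →
            FlatMor.fibreDimAt f x = FlatMor.localDim ↥(Z ∩ f.base ⁻¹' {f.base x}) ⟨x, ⟨hx, rfl⟩⟩ ∧
            FlatMor.localDim ↥(Z ∩ f.base ⁻¹' {f.base x}) ⟨x, ⟨hx, rfl⟩⟩ =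
              topologicalKrullDim ↥(Z ∩ f.base ⁻¹' {η}))) :=
  ⟨fun h U hU y' hy' => dim_cond_of_isUnivOpenAt f x hmax h U hU y' hy',
    fun hb Y₀ hY₀ hx => components_of_dim_cond f x hb Y₀ hY₀ hx⟩

end Groth.Agent.Lib.helper3.UnivOpenDimCond
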