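import Mathlib
import Groth.Agent.Lib.Helper3.UnivOpenDimCond2
import Groth.Agent.Lib.Helper3.OpenAtEquidim2

/-!
# EGA IV 13.3.1-type criterion for equidimensionality at a point in terms of the irreducible
components of `X` through the point (helper3; = S3456)
-/

set_option autoImplicit false
universe u
open CategoryTheory AlgebraicGeometry CategoryTheory.Limits TopologicalSpace Topology Function

namespace Groth.Agent.Lib.helper3.EquidimCompCrit

open Groth.Agent.Lib.helper3 Groth.Agent.Lib.helper3.DimIneq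
  Groth.Agent.Lib.helper3.UnivOpenDimCond Groth.Agent.Lib.helper3.EquidimAt
  Groth.Agent.Lib.helper3.OpenAtDim Groth.Agent.Lib.helper3.RelDim

variable {X Y : Scheme.{u}} (f : X ⟶ Y) [LocallyOfFiniteType f]

theorem closure_image_closure_singleton (ξ : X) :
    closure (f.base '' closure ({ξ} : Set X)) = closure ({f.base ξ} : Set Y) := by
  apply subset_antisymm
  · apply closure_minimal _ isClosed_closure
    refine (image_closure_subset_closure_image f.continuous).trans ?_
    rw [Set.image_singleton]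
  · apply closure_minimal _ isClosed_closure
    rw [Set.singleton_subset_iff]
    exact subset_closure ⟨ξ, subset_closure rfl, rfl⟩

theorem localDim_closure_inter_fibre_le (ξ x : X) (hx : x ∈ closure ({ξ} : Set X)) :
    FlatMor.localDim ↥(closure ({ξ} : Set X) ∩ f.base ⁻¹' {f.base x}) ⟨x, ⟨hx, rfl⟩⟩ ≤
      FlatMor.fibreDimAt f x := by
  rw [Groth.Agent.Lib.helper5.FibreDimLocal.fibreDimAt_eq_localDim_preimage f x]
  apply EquidimHyper.localDim_le_of_range_subset
    (Subtype.val : ↥(closure ({ξ} : Set X) ∩ f.base ⁻¹' {f.base x}) → X)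
    (Subtype.val : ↥(f.base ⁻¹' {f.base x}) → X) IsInducing.subtypeVal IsEmbedding.subtypeVal
  · rw [Subtype.range_coe, Subtype.range_coe]
    exact Set.inter_subset_right
  · rfl

theorem forward [IsLocallyNoetherian Y] (x : X) (h : EGA43.IsEquidimAt f x) :
    ∃ e : ℕ, ∀ Xj ∈ irreducibleComponents (X : Type u), ∀ hx : x ∈ Xj,
      closure (f.base '' Xj) ∈ irreducibleComponents (Y : Type u) ∧
      (∀ η : Y, closure ({η} : Set Y) = closure (f.base '' Xj) →
        topologicalKrullDim ↥(Xj ∩ f.base ⁻¹' {η}) = e) ∧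
      FlatMor.localDim ↥(Xj ∩ f.base ⁻¹' {f.base x})
        ⟨x, ⟨hx, Set.mem_singleton (f.base x)⟩⟩ = e := by
  obtain ⟨e, U, hxU, hA, hB⟩ := h
  refine ⟨e, ?_⟩
  intro Xj hXj hx
  obtain ⟨ξ, hξ⟩ := QuasiSober.sober hXj.1 (isClosed_of_mem_irreducibleComponents _ hXj)
  have hdef : closure ({ξ} : Set X) = Xj := hξ.def
  subst hdef
  have hξx : ξ ⤳ x := specializes_iff_mem_closure.mpr hx
  have hξU : ξ ∈ U := hξx.mem_open U.2 hxU
  have hmax : ∀ ω : X, ω ⤳ ξ → ω = ξ := fun ω hω =>
    eq_of_specializes_of_closure_mem_irreducibleComponents ξ hXj ω hω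
  have hA' : ∀ Z ∈ irreducibleComponents (↥U : Type u),
      ∃ W ∈ irreducibleComponents (Y : Type u), closure ((U.ι ≫ f).base '' Z) = W := by
    intro Z hZ
    obtain ⟨W, hW, -, hcl⟩ := hA Z hZ
    exact ⟨W, hW, hcl⟩
  have htd := td_eq_of_isEquidimAt f U e hB ξ hξU hmax
  have hfd := fibreDimAt_eq_of_isEquidimAt f U e hB x hxU
  refine ⟨?_, ?_, ?_⟩
  · rw [closure_image_closure_singleton]
    exact closure_image_mem_of_isEquidimAt f U hA' ξ hξU hmax
  · intro η hη
    rw [closure_image_closure_singleton] at hη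
    have hηeq : η = f.base ξ := (inseparable_iff_closure_eq.mpr hη).eq
    subst hηeq
    exact DimCriteria.dim_closure_inter_fibre f ξ e htd
  · apply le_antisymm
    · rw [← hfd]
      exact localDim_closure_inter_fibre_le f ξ x hx
    · exact le_localDim_closure_inter_fibre f ξ x hξx e htd

theorem backward [IsLocallyNoetherian Y] (x : X) (e : ℕ)
    (H : ∀ Xj ∈ irreducibleComponents (X : Type u), ∀ hx : x ∈ Xj,
      closure (f.base '' Xj) ∈ irreducibleComponents (Y : Type u) ∧
      (∀ η : Y, closure ({η} : Set Y) = closure (f.base '' Xj) →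
        topologicalKrullDim ↥(Xj ∩ f.base ⁻¹' {η}) = e) ∧
      FlatMor.localDim ↥(Xj ∩ f.base ⁻¹' {f.base x})
        ⟨x, ⟨hx, Set.mem_singleton (f.base x)⟩⟩ = e) :
    EGA43.IsEquidimAt f x := by
  haveI hXN : IsLocallyNoetherian X := LocallyOfFiniteType.isLocallyNoetherian f
  apply isEquidimAt_of_forall_maximal f x e
  · intro ξ hξ hξx
    have hx : x ∈ closure ({ξ} : Set X) := specializes_iff_mem_closure.mp hξx
    obtain ⟨h1, h2, -⟩ := H _ hξ hx
    rw [closure_image_closure_singleton] at h1
    refine ⟨?_, h1⟩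
    obtain ⟨n, hn⟩ := exists_nat_td_residueFieldMap f ξ
    have h3 := h2 (f.base ξ) (closure_image_closure_singleton f ξ).symm
    rw [DimCriteria.dim_closure_inter_fibre f ξ n hn] at h3
    have hne : n = e := by exact_mod_cast h3
    rw [hn, hne]
  · rw [Groth.Agent.Lib.helper3.DimFibre.fibreDimAt_le_iff]
    intro x' hx'x hfx'
    obtain ⟨ξ, hξ⟩ := QuasiSober.sober (isIrreducible_irreducibleComponent (x := x'))
      (isClosed_irreducibleComponent (x := x'))
    have hdef : closure ({ξ} : Set X) = irreducibleComponent x' := hξ.def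
    have hcomp : closure ({ξ} : Set X) ∈ irreducibleComponents (X : Type u) := by
      rw [hdef]; exact irreducibleComponent_mem_irreducibleComponents x'
    have hx'ξ : x' ∈ closure ({ξ} : Set X) := by
      rw [hdef]; exact mem_irreducibleComponent
    have hx : x ∈ closure ({ξ} : Set X) :=
      (isClosed_closure.closure_subset_iff.mpr (Set.singleton_subset_iff.mpr hx'ξ))
        (specializes_iff_mem_closure.mp hx'x)
    obtain ⟨-, -, h3⟩ := H _ hcomp hx
    obtain ⟨n, hn⟩ := exists_nat_td_residueFieldMap f x'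
    have h4 := le_localDim_closure_inter_fibre f x' x hx'x n hn
    have h5 : FlatMor.localDim ↥(closure ({x'} : Set X) ∩ f.base ⁻¹' {f.base x})
        ⟨x, ⟨specializes_iff_mem_closure.mp hx'x, rfl⟩⟩ ≤
        FlatMor.localDim ↥(closure ({ξ} : Set X) ∩ f.base ⁻¹' {f.base x})
          ⟨x, ⟨hx, Set.mem_singleton (f.base x)⟩⟩ := by
      apply EquidimHyper.localDim_le_of_range_subset
        (Subtype.val : ↥(closure ({x'} : Set X) ∩ f.base ⁻¹' {f.base x}) → X)
        (Subtype.val : ↥(closure ({ξ} : Set X) ∩ f.base ⁻¹' {f.base x}) → X)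
        IsInducing.subtypeVal IsEmbedding.subtypeVal
      · rw [Subtype.range_coe, Subtype.range_coe]
        exact Set.inter_subset_inter_left _
          (isClosed_closure.closure_subset_iff.mpr (Set.singleton_subset_iff.mpr hx'ξ))
      · rfl
    rw [h3] at h5
    have h6 : (n : WithBot ℕ∞) ≤ (e : WithBot ℕ∞) := h4.trans h5
    have h7 : n ≤ e := by exact_mod_cast h6
    rw [hn]
    exact_mod_cast h7

/-- Statement S3456. -/
theorem main [IsLocallyNoetherian Y] (x : X) :
    EGA43.IsEquidimAt f x ↔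
      ∃ e : ℕ, ∀ Xj ∈ irreducibleComponents (X : Type u), ∀ hx : x ∈ Xj,
        closure (f.base '' Xj) ∈ irreducibleComponents (Y : Type u) ∧
        (∀ η : Y, closure ({η} : Set Y) = closure (f.base '' Xj) →
          topologicalKrullDim ↥(Xj ∩ f.base ⁻¹' {η}) = e) ∧
        FlatMor.localDim ↥(Xj ∩ f.base ⁻¹' {f.base x})
          ⟨x, ⟨hx, Set.mem_singleton (f.base x)⟩⟩ = e :=
  ⟨forward f x, fun ⟨e, H⟩ => backward f x e H⟩

end Groth.Agent.Lib.helper3.EquidimCompCrit
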