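import Mathlib
import Groth.Prelude.Def_Found
import Groth.Prelude.Def_EGA43
import Groth.Agent.Lib.Helper3.EquidimAt
/-!
# Helper library (helper3): the dimension formula along each minimal prime of `O_{X,x}` for a
morphism equidimensional at `x` over a universally catenary local ring (EGA IV 13.3).

`equidim_core` : for `f` equidimensional at `x` with `O_{Y,f x}` universally catenary there are
`e = dim_x X_{f x}` and `n = trdeg κ(x)/κ(f x)` such that for every minimal prime `𝔭` of `O_{X,x}`: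
`dim O_{X,x}/𝔭 + n = dim O_{Y,f x}/(𝔭 ∩ O_{Y,f x}) + e`, and `𝔭 ∩ O_{Y,f x}` is a minimal prime.

`exists_minimalPrimes_stalk_dim_eq` : some minimal prime `𝔭` has `dim O_{X,x}/𝔭 = dim O_{X,x}`.
-/

set_option autoImplicit false
universe u
open CategoryTheory AlgebraicGeometry Function

namespace Groth.Agent.Lib.helper3.EquidimAt

open Groth.Agent.Lib.helper3.DimIneq Groth.Agent.Lib.helper3.FTField
  Groth.Agent.Lib.helper3.FibreField Groth.Agent.Lib.helper3.DimFibre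

theorem equidim_core {X Y : Scheme.{u}} [IsLocallyNoetherian Y] (f : X ⟶ Y)
    [LocallyOfFiniteType f] (x : X) (h : EGA43.IsEquidimAt f x)
    (hcat : CAlg.IsUniversallyCatenary (Y.presheaf.stalk (f.base x))) :
    ∃ (e n : ℕ), FlatMor.fibreDimAt f x = (e : WithBot ℕ∞) ∧
      td (f.residueFieldMap x).hom = (n : Cardinal.{u}) ∧
      ∀ 𝔭 ∈ minimalPrimes (X.presheaf.stalk x), ∃ a b : ℕ,
        ringKrullDim (X.presheaf.stalk x ⧸ 𝔭) = (a : WithBot ℕ∞) ∧
        ringKrullDim (Y.presheaf.stalk (f.base x) ⧸ 𝔭.comap (f.stalkMap x).hom) =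
          (b : WithBot ℕ∞) ∧
        a + n = b + e ∧
        𝔭.comap (f.stalkMap x).hom ∈ minimalPrimes (Y.presheaf.stalk (f.base x)) := by
  obtain ⟨e, U, hxU, hA, hB⟩ := h
  haveI hXN : IsLocallyNoetherian X := LocallyOfFiniteType.isLocallyNoetherian f
  obtain ⟨U0, hU0, hyU0, -⟩ := exists_isAffineOpen_mem_and_subset (x := f.base x) (U := ⊤) trivial
  obtain ⟨V, hV, hxV, hVle⟩ := exists_isAffineOpen_mem_and_subset (x := x)
    (U := f ⁻¹ᵁ U0 ⊓ U) ⟨hyU0, hxU⟩
  have e' : V ≤ f ⁻¹ᵁ U0 := hVle.trans inf_le_left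
  have hVU : V ≤ U := hVle.trans inf_le_right
  haveI : IsNoetherianRing Γ(Y, U0) := IsLocallyNoetherian.component_noetherian ⟨U0, hU0⟩
  haveI : IsNoetherianRing Γ(X, V) := IsLocallyNoetherian.component_noetherian ⟨V, hV⟩
  obtain ⟨n, hn⟩ := exists_nat_td_residueFieldMap f x
  refine ⟨e, n, fibreDimAt_eq_of_isEquidimAt f U e hB x hxU, hn, ?_⟩
  intro 𝔭 h𝔭
  haveI : 𝔭.IsPrime := h𝔭.1.1
  obtain ⟨ξ, hξ, hmin, hle, hPeq, hPcomap, hdim⟩ :=
    exists_point_of_minimalPrimes_stalk hV x hxV 𝔭 h𝔭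
  have hξU : ξ ∈ U := hVU hξ
  have hmaxξ : ∀ ω : X, ω ⤳ ξ → ω = ξ := fun ω hω =>
    eq_of_specializes_of_closure_mem_irreducibleComponents ξ
      (closure_mem_irreducibleComponents hV ξ hξ hmin) ω hω
  have hE : td (f.residueFieldMap ξ).hom = (e : Cardinal.{u}) :=
    td_eq_of_isEquidimAt f U e hB ξ hξU hmaxξ
  have hsp : ξ ⤳ x := (specializes_iff_primeIdealOf_le hV ξ x hξ hxV).mpr hle
  have hfsp : f.base ξ ⤳ f.base x := hsp.map f.continuous
  have hp0p : (hU0.primeIdealOf ⟨f.base ξ, e' hξ⟩).asIdeal ≤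
      (hU0.primeIdealOf ⟨f.base x, e' hxV⟩).asIdeal :=
    (specializes_iff_primeIdealOf_le hU0 _ _ (e' hξ) (e' hxV)).mp hfsp
  have formula := dimension_formula_specializes f hU0 hV e' ξ x hξ hxV hle hcat
  rw [hn, hE] at formula
  haveI := map_mk_isPrime _ _ hp0p
  haveI := map_mk_isPrime _ _ hle
  obtain ⟨b, hb⟩ := ENat.ne_top_iff_exists.mp
    (Ideal.height_ne_top_of_isPrime (I := (hU0.primeIdealOf ⟨f.base x, e' hxV⟩).asIdeal.map
      (Ideal.Quotient.mk (hU0.primeIdealOf ⟨f.base ξ, e' hξ⟩).asIdeal)))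
  obtain ⟨a, ha⟩ := ENat.ne_top_iff_exists.mp
    (Ideal.height_ne_top_of_isPrime (I := (hV.primeIdealOf ⟨x, hxV⟩).asIdeal.map
      (Ideal.Quotient.mk (hV.primeIdealOf ⟨ξ, hξ⟩).asIdeal)))
  have hYdim := dim_quotient_comap_stalkMap f hU0 hV e' x hxV ξ hξ 𝔭 hPcomap hp0p
  refine ⟨a, b, ?_, ?_, ?_, ?_⟩
  · rw [hdim, ← ha]; rfl
  · rw [hYdim, ← hb]; rfl
  · rw [← ha, ← hb] at formula
    have : ((a + n : ℕ) : Cardinal.{u}) = ((b + e : ℕ) : Cardinal.{u}) := by
      push_cast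
      exact_mod_cast formula
    exact_mod_cast this
  · rw [comap_stalkMap_eq_map f hU0 hV e' x hxV ξ hξ 𝔭 hPcomap]
    have hWcomp : closure ({f.base ξ} : Set Y) ∈ irreducibleComponents (Y : Type u) :=
      closure_image_mem_of_isEquidimAt f U
        (fun Z hZ => by
          obtain ⟨W, hW, -, hcl⟩ := hA Z hZ
          exact ⟨W, hW, hcl⟩) ξ hξU hmaxξ
    have hminY := mem_minimalPrimes_of_closure_mem_irreducibleComponents Y hU0 (f.base ξ) (e' hξ)
      hWcomp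
    exact (map_mem_minimalPrimes_stalk hU0 (f.base x) (e' hxV) (f.base ξ) (e' hξ) hminY hp0p).1

/-- in a locally Noetherian scheme some minimal prime of `O_{X,x}` computes its dimension. -/
theorem exists_minimalPrimes_stalk_dim_eq {X : Scheme.{u}} [IsLocallyNoetherian X] (x : X) :
    ∃ 𝔭 ∈ minimalPrimes (X.presheaf.stalk x),
      ringKrullDim (X.presheaf.stalk x ⧸ 𝔭) = ringKrullDim (X.presheaf.stalk x) := by
  obtain ⟨V, hV, hxV, -⟩ := exists_isAffineOpen_mem_and_subset (x := x) (U := ⊤) trivial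
  haveI : IsNoetherianRing Γ(X, V) := IsLocallyNoetherian.component_noetherian ⟨V, hV⟩
  obtain ⟨q0, hq0, hq0q, hge⟩ :=
    exists_minimalPrimes_height_map_ge (hV.primeIdealOf ⟨x, hxV⟩).asIdeal
  haveI : q0.IsPrime := hq0.1.1
  obtain ⟨ξ, hξV, hξq⟩ := exists_point_of_prime hV q0
  subst hξq
  obtain ⟨h1, h2⟩ := map_mem_minimalPrimes_stalk hV x hxV ξ hξV hq0 hq0q
  refine ⟨_, h1, ?_⟩
  rw [h2, ringKrullDim_stalk_eq_height hV x hxV]
  have hle := Groth.Agent.Lib.helper3.DimIneq.height_map_le _ _ hq0q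
  exact congrArg _ (le_antisymm hle hge)

end Groth.Agent.Lib.helper3.EquidimAt
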