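import Mathlib

set_option autoImplicit false
set_option linter.style.haveILetI false
set_option linter.unusedSectionVars false
universe u

namespace Groth.Agent.Lib.helper3.EssLocal

open IsLocalRing

theorem main {R S : Type u} [CommRing R] [CommRing S] [Algebra R S] [IsLocalRing R]
    [IsLocalRing S] [Algebra.EssFiniteType R S] :
    ∃ (n : ℕ) (m : Ideal (MvPolynomial (Fin n) R)) (_ : m.IsMaximal),
      m.under R = IsLocalRing.maximalIdeal R ∧
      ∃ (φ : Localization.AtPrime m →ₐ[R] S) (T : Submonoid φ.range), IsLocalization T S := by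
  classical
  obtain ⟨σ, hσ⟩ := (Algebra.essFiniteType_iff R S).mp inferInstance
  let k := IsLocalRing.ResidueField S
  let ρ : S →+* k := IsLocalRing.residue S
  obtain ⟨V, hV, hloc⟩ := IsLocalRing.exists_factor_valuationRing (ρ.comp (algebraMap R S))
  -- units
  have hunit : ∀ a : S, ρ a ∉ V → IsUnit a := by
    intro a ha
    by_contra hna
    have : ρ a = 0 := (IsLocalRing.residue_eq_zero_iff a).mpr ((mem_maximalIdeal a).mpr hna)
    exact ha (this ▸ V.zero_mem)
  let b : S → S := fun a => if ρ a ∈ V then a else Ring.inverse a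
  have hbV : ∀ a, ρ (b a) ∈ V := by
    intro a
    by_cases ha : ρ a ∈ V
    · simp only [b, if_pos ha]; exact ha
    · simp only [b, if_neg ha]
      have hu := hunit a ha
      have h1 : ρ (Ring.inverse a) = (ρ a)⁻¹ := by
        have h2 : ρ a * ρ (Ring.inverse a) = 1 := by
          rw [← map_mul, Ring.mul_inverse_cancel a hu, map_one]
        exact eq_inv_of_mul_eq_one_right h2
      rw [h1]
      exact (V.mem_or_inv_mem (ρ a)).resolve_left ha
  let n := σ.card
  let e : Fin n ≃ σ := σ.equivFin.symm
  let π : MvPolynomial (Fin n) R →ₐ[R] S := MvPolynomial.aeval (fun i => b (e i))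
  have hπV : ∀ f, ρ (π f) ∈ V.toSubring := by
    intro f
    induction f using MvPolynomial.induction_on with
    | C r => rw [MvPolynomial.algHom_C]; exact hV r
    | add p q hp hq => rw [map_add, map_add]; exact V.add_mem _ _ hp hq
    | mul_X p i hp =>
      rw [map_mul, map_mul, MvPolynomial.aeval_X]
      exact V.mul_mem _ _ hp (hbV _)
  let ψ₀ : MvPolynomial (Fin n) R →+* V.toSubring :=
    (ρ.comp π.toRingHom).codRestrict V.toSubring hπV
  let ψ : MvPolynomial (Fin n) R →+* IsLocalRing.ResidueField V :=
    (IsLocalRing.residue V).comp ψ₀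
  obtain ⟨m, hm, hle⟩ := Ideal.exists_le_maximal _ (RingHom.ker_ne_top ψ)
  refine ⟨n, m, hm, ?_, ?_⟩
  · have hle2 : IsLocalRing.maximalIdeal R ≤ m.under R := by
      intro r hr
      rw [Ideal.mem_comap]
      apply hle
      rw [RingHom.mem_ker]
      show IsLocalRing.residue V (ψ₀ (MvPolynomial.C r)) = 0
      rw [IsLocalRing.residue_eq_zero_iff, mem_maximalIdeal, mem_nonunits_iff]
      intro hu
      have h1 : ψ₀ (MvPolynomial.C r) =
          (ρ.comp (algebraMap R S)).codRestrict V.toSubring hV r := by
        apply Subtype.ext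
        show ρ (π (MvPolynomial.C r)) = ρ (algebraMap R S r)
        rw [MvPolynomial.algHom_C]
      rw [h1] at hu
      have := hloc.map_nonunit r hu
      exact ((mem_maximalIdeal r).mp hr) this
    have hne : m.under R ≠ ⊤ := by
      haveI := hm.isPrime
      exact (Ideal.IsPrime.under R m).ne_top
    exact ((IsLocalRing.maximalIdeal.isMaximal R).eq_of_le hne hle2).symm
  · have hu : ∀ y : m.primeCompl, IsUnit (π.toRingHom y) := by
      rintro ⟨y, hy⟩
      by_contra hnu
      apply hy
      apply hle
      rw [RingHom.mem_ker]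
      have h0 : ρ (π y) = 0 :=
        (IsLocalRing.residue_eq_zero_iff _).mpr ((mem_maximalIdeal _).mpr hnu)
      have h1 : ψ₀ y = 0 := Subtype.ext h0
      show IsLocalRing.residue V (ψ₀ y) = 0
      rw [h1, map_zero]
    haveI := hm.isPrime
    let φ : Localization.AtPrime m →ₐ[R] S :=
      IsLocalization.liftAlgHom (M := m.primeCompl) (f := π) hu
    have hφ : ∀ f : MvPolynomial (Fin n) R,
        φ (algebraMap (MvPolynomial (Fin n) R) (Localization.AtPrime m) f) = π f :=
      fun f => IsLocalization.lift_eq _ _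
    let T : Submonoid φ.range := (IsUnit.submonoid S).comap (φ.range.val : φ.range →* S)
    refine ⟨φ, T, ?_⟩
    -- elements of the subalgebra generated by `σ`
    have hb : ∀ a ∈ σ, b a ∈ φ.range := by
      intro a ha
      refine ⟨algebraMap (MvPolynomial (Fin n) R) (Localization.AtPrime m)
        (MvPolynomial.X (e.symm ⟨a, ha⟩)), ?_⟩
      show φ _ = b a
      rw [hφ, MvPolynomial.aeval_X, Equiv.apply_symm_apply]
    have hclaim : ∀ z ∈ Algebra.adjoin R (σ : Set S),
        ∃ u ∈ φ.range, IsUnit u ∧ z * u ∈ φ.range := by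
      intro z hz
      induction hz using Algebra.adjoin_induction with
      | mem a ha =>
        by_cases hav : ρ a ∈ V
        · refine ⟨1, φ.range.one_mem, isUnit_one, ?_⟩
          have := hb a ha
          simp only [b, if_pos hav] at this
          rwa [mul_one]
        · have hua := hunit a hav
          have := hb a ha
          simp only [b, if_neg hav] at this
          refine ⟨Ring.inverse a, this, ?_, ?_⟩
          · exact IsUnit.of_mul_eq_one a (Ring.inverse_mul_cancel a hua)
          · rw [Ring.mul_inverse_cancel a hua]; exact φ.range.one_mem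
      | algebraMap r =>
        exact ⟨1, φ.range.one_mem, isUnit_one, by rw [mul_one]; exact φ.range.algebraMap_mem r⟩
      | add x y _ _ hx hy =>
        obtain ⟨u, hu1, hu2, hu3⟩ := hx
        obtain ⟨v, hv1, hv2, hv3⟩ := hy
        refine ⟨u * v, φ.range.mul_mem hu1 hv1, hu2.mul hv2, ?_⟩
        have : (x + y) * (u * v) = (x * u) * v + (y * v) * u := by ring
        rw [this]
        exact φ.range.add_mem (φ.range.mul_mem hu3 hv1) (φ.range.mul_mem hv3 hu1)
      | mul x y _ _ hx hy =>
        obtain ⟨u, hu1, hu2, hu3⟩ := hx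
        obtain ⟨v, hv1, hv2, hv3⟩ := hy
        refine ⟨u * v, φ.range.mul_mem hu1 hv1, hu2.mul hv2, ?_⟩
        have : (x * y) * (u * v) = (x * u) * (y * v) := by ring
        rw [this]
        exact φ.range.mul_mem hu3 hv3
    constructor; constructor
    · exact fun y => y.2
    · intro s
      obtain ⟨t, ht, htu, hst⟩ := hσ s
      obtain ⟨u₁, hu1, hu1u, htu1⟩ := hclaim t ht
      obtain ⟨u₂, hu2, hu2u, hzu2⟩ := hclaim (s * t) hst
      refine ⟨⟨⟨(s * t * u₂) * u₁, φ.range.mul_mem hzu2 hu1⟩,
        ⟨⟨(t * u₁) * u₂, φ.range.mul_mem htu1 hu2⟩, ?_⟩⟩, ?_⟩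
      · exact (htu.mul hu1u).mul hu2u
      · show s * ((t * u₁) * u₂) = (s * t * u₂) * u₁
        ring
    · intro x y hxy
      exact ⟨1, by simpa using Subtype.ext hxy⟩

end Groth.Agent.Lib.helper3.EssLocal
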