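import Mathlib
import Groth.Prelude.Def_FlatCA
import Groth.Agent.Lib.Helper2.SpecResidue
/-!
# Scheme-level wrappers for elementary étale neighbourhoods of rings (helper3)

* `residueField_bijective_of_isEtaleNhd` : unpack `FlatCA.IsEtaleNhd` as a statement about
  `Ideal.ResidueField.map` at the comap prime.
* `etaleNhd_spec` : for an affine open `V` of `X`, a point `q : Spec Γ(X,V)` and an elementary
  étale neighbourhood `(S₁, q')` of `(Γ(X,V), q)`, the composite
  `Spec S₁ ⟶ Spec Γ(X,V) ⟶ X` is étale, sends `q'` to `hV.fromSpec q` and is surjective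
  (indeed an isomorphism) on residue fields at `q'`.
* `projective_of_ringEquiv_comm` : transport projectivity of an algebra along a commutative square
  of ring isomorphisms.
* `projective_appTop_SpecMap` : `Γ(Spec B,⊤)` is projective over `Γ(Spec A,⊤)` if `B` is so over `A`.
-/

set_option autoImplicit false
set_option linter.style.haveILetI false
set_option linter.unusedSectionVars false
universe u

open AlgebraicGeometry CategoryTheory TopologicalSpace

namespace Groth.Agent.Lib.helper3.EtNhdSpec

theorem residueField_bijective_of_isEtaleNhd {R R' : Type u} [CommRing R] [CommRing R']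
    [Algebra R R'] (p : Ideal R) (p' : Ideal R') [p.IsPrime] [p'.IsPrime]
    (h : FlatCA.IsEtaleNhd R R' p p') :
    p = p'.comap (algebraMap R R') ∧
      Function.Bijective (Ideal.ResidueField.map (p'.comap (algebraMap R R')) p'
        (algebraMap R R') rfl) := by
  obtain ⟨-, hlo, hbij⟩ := h
  have hp : p = p'.comap (algebraMap R R') := hlo.over
  refine ⟨hp, ?_⟩
  subst hp
  exact hbij

theorem isIso_residueFieldMap_of_isEtaleNhd {R R' : Type u} [CommRing R] [CommRing R']
    [Algebra R R'] (p : Ideal R) (p' : Ideal R') [p.IsPrime] [hp' : p'.IsPrime]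
    (h : FlatCA.IsEtaleNhd R R' p p') :
    IsIso ((Spec.map (CommRingCat.ofHom (algebraMap R R'))).residueFieldMap ⟨p', hp'⟩) := by
  rw [Groth.Agent.Lib.helper2.SpecResidue.isIso_residueFieldMap_Spec_iff]
  exact (residueField_bijective_of_isEtaleNhd p p' h).2

theorem etaleNhd_spec {X : Scheme.{u}} {V : X.Opens} (hV : IsAffineOpen V)
    (q : Spec Γ(X, V)) (S₁ : Type u) [CommRing S₁] [Algebra Γ(X, V) S₁] (q' : Ideal S₁)
    [hq' : q'.IsPrime] (h : FlatCA.IsEtaleNhd Γ(X, V) S₁ q.asIdeal q') :
    Etale (Spec.map (CommRingCat.ofHom (algebraMap Γ(X, V) S₁)) ≫ hV.fromSpec) ∧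
      (Spec.map (CommRingCat.ofHom (algebraMap Γ(X, V) S₁)) ≫ hV.fromSpec) ⟨q', hq'⟩ =
        hV.fromSpec q ∧
      Function.Surjective
        ((Spec.map (CommRingCat.ofHom (algebraMap Γ(X, V) S₁)) ≫ hV.fromSpec).residueFieldMap
          ⟨q', hq'⟩) := by
  haveI : Algebra.Etale Γ(X, V) S₁ := h.1
  haveI hEt : Etale (Spec.map (CommRingCat.ofHom (algebraMap Γ(X, V) S₁))) := by
    rw [HasRingHomProperty.Spec_iff (P := @Etale)]
    exact RingHom.etale_algebraMap.mpr inferInstance
  have hpt : (Spec.map (CommRingCat.ofHom (algebraMap Γ(X, V) S₁))) ⟨q', hq'⟩ = q := by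
    apply PrimeSpectrum.ext
    exact (residueField_bijective_of_isEtaleNhd q.asIdeal q' h).1.symm
  refine ⟨inferInstance, ?_, ?_⟩
  · rw [Scheme.Hom.comp_apply, hpt]
  · have h1 := isIso_residueFieldMap_of_isEtaleNhd q.asIdeal q' h
    rw [Scheme.residueFieldMap_comp]
    have h2 : IsIso (hV.fromSpec.residueFieldMap
        ((Spec.map (CommRingCat.ofHom (algebraMap Γ(X, V) S₁))) ⟨q', hq'⟩)) := inferInstance
    exact ((ConcreteCategory.isIso_iff_bijective _).mp
      (@IsIso.comp_isIso _ _ _ _ _ _ _ h2 h1)).2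

theorem projective_of_ringEquiv_comm {A B A' B' : Type*} [CommRing A] [CommRing B] [CommRing A']
    [CommRing B'] (φ : A →+* B) (φ' : A' →+* B') (eA : A ≃+* A') (eB : B ≃+* B')
    (h : ∀ a, eB (φ a) = φ' (eA a))
    (hproj : @Module.Projective A _ B _ φ.toAlgebra.toModule) :
    @Module.Projective A' _ B' _ φ'.toAlgebra.toModule := by
  letI := φ.toAlgebra
  letI := φ'.toAlgebra
  haveI := RingHomInvPair.of_ringEquiv eA
  haveI := RingHomInvPair.of_ringEquiv_symm eA
  let e₂ : B ≃ₛₗ[(eA : A →+* A')] B' :=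
    { eB.toAddEquiv with
      map_smul' := fun a b => by
        show eB (φ a * b) = φ' (eA a) * eB b
        rw [map_mul, h] }
  exact Module.Projective.of_equiv e₂

theorem projective_appTop_SpecMap {A B : Type u} [CommRing A] [CommRing B] [Algebra A B]
    [Module.Projective A B] :
    @Module.Projective Γ(Spec (CommRingCat.of A), ⊤) _ Γ(Spec (CommRingCat.of B), ⊤) _
      ((Spec.map (CommRingCat.ofHom (algebraMap A B))).appTop).hom.toAlgebra.toModule := by
  refine projective_of_ringEquiv_comm (algebraMap A B)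
    ((Spec.map (CommRingCat.ofHom (algebraMap A B))).appTop).hom
    (Scheme.ΓSpecIso (CommRingCat.of A)).symm.commRingCatIsoToRingEquiv
    (Scheme.ΓSpecIso (CommRingCat.of B)).symm.commRingCatIsoToRingEquiv ?_ ?_
  · intro a
    have := Scheme.ΓSpecIso_inv_naturality (CommRingCat.ofHom (algebraMap A B))
    exact congr($(this).hom a)
  · have : (algebraMap A B).toAlgebra = ‹Algebra A B› := Algebra.algebra_ext _ _ fun _ => rfl
    rw [this]
    infer_instance

end Groth.Agent.Lib.helper3.EtNhdSpec
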