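import Groth.Prelude.Def_W4c61motalbdualityCompl
import Mathlib.CategoryTheory.CofilteredSystem
import Mathlib.GroupTheory.Index

/-!
Compactness for completions along open subgroups of finite index: a compatible system of
nonempty subsets of the finite quotients `G ⧸ U` contains a compatible family (helper3).
-/

set_option autoImplicit false
universe u

namespace Groth.Agent.Lib.helper3.FIC

open W4c61motalbduality CategoryTheory Opposite

variable {G : Type u} [AddCommGroup G] [TopologicalSpace G]

/-- a synonym of `OpenFI G` carrying the reversed inclusion order -/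
structure Idx (G : Type u) [AddCommGroup G] [TopologicalSpace G] where
  /-- the open subgroup of finite index -/
  val : OpenFI G

instance : Preorder (Idx G) where
  le U V := V.val.toAddSubgroup ≤ U.val.toAddSubgroup
  le_refl U := le_refl _
  le_trans U V W h1 h2 := le_trans h2 h1

/-- the intersection of two open subgroups of finite index -/
def inf (U V : OpenFI G) : OpenFI G where
  toAddSubgroup := U.toAddSubgroup ⊓ V.toAddSubgroup
  isOpen' := U.isOpen'.inter V.isOpen'
  finiteIndex' := by
    haveI := U.finiteIndex'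
    haveI := V.finiteIndex'
    infer_instance

instance : IsDirectedOrder (Idx G) :=
  ⟨fun U V => ⟨⟨inf U.val V.val⟩,
    (inf_le_left : U.val.toAddSubgroup ⊓ V.val.toAddSubgroup ≤ U.val.toAddSubgroup),
    (inf_le_right : U.val.toAddSubgroup ⊓ V.val.toAddSubgroup ≤ V.val.toAddSubgroup)⟩⟩

instance (U : OpenFI G) : Finite (G ⧸ U.toAddSubgroup) := by
  haveI := U.finiteIndex'
  infer_instance

/-- the transition maps -/
def proj {U V : OpenFI G} (h : U.toAddSubgroup ≤ V.toAddSubgroup) :
    G ⧸ U.toAddSubgroup →+ G ⧸ V.toAddSubgroup :=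
  QuotientAddGroup.map U.toAddSubgroup V.toAddSubgroup (AddMonoidHom.id G) h

theorem proj_mk {U V : OpenFI G} (h : U.toAddSubgroup ≤ V.toAddSubgroup) (a : G) :
    proj h (QuotientAddGroup.mk a) = QuotientAddGroup.mk a := rfl

theorem proj_refl (U : OpenFI G) (x : G ⧸ U.toAddSubgroup) : proj (le_refl _) x = x := by
  obtain ⟨a, rfl⟩ := QuotientAddGroup.mk_surjective x
  rfl

theorem proj_proj {U V W : OpenFI G} (h1 : U.toAddSubgroup ≤ V.toAddSubgroup)
    (h2 : V.toAddSubgroup ≤ W.toAddSubgroup) (x : G ⧸ U.toAddSubgroup) :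
    proj h2 (proj h1 x) = proj (h1.trans h2) x := by
  obtain ⟨a, rfl⟩ := QuotientAddGroup.mk_surjective x
  rfl

theorem mem_FICompl_iff (x : (U : OpenFI G) → G ⧸ U.toAddSubgroup) :
    x ∈ FICompl G ↔ ∀ (U V : OpenFI G) (h : U.toAddSubgroup ≤ V.toAddSubgroup),
      proj h (x U) = x V := Iff.rfl

/-- compactness: a compatible system of nonempty subsets of the quotients contains an element of
the completion -/
theorem exists_mem_FICompl (S : (U : OpenFI G) → Set (G ⧸ U.toAddSubgroup))
    (hne : ∀ U, (S U).Nonempty)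
    (hcomp : ∀ (U V : OpenFI G) (h : U.toAddSubgroup ≤ V.toAddSubgroup),
      ∀ x ∈ S U, proj h x ∈ S V) :
    ∃ x : FICompl G, ∀ U, x.1 U ∈ S U := by
  let F : (Idx G)ᵒᵖ ⥤ Type u :=
    { obj := fun U => S U.unop.val
      map := fun {U V} f => TypeCat.ofHom
        (fun x : S U.unop.val => (⟨proj (leOfHom f.unop) x.1, hcomp _ _ _ x.1 x.2⟩ : S V.unop.val))
      map_id := by
        intro U
        ext x
        exact proj_refl _ _
      map_comp := by
        intro U V W f g
        ext x
        exact (proj_proj _ _ _).symm }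
  haveI : ∀ j : (Idx G)ᵒᵖ, Finite (F.obj j) := fun j => by
    show Finite (S j.unop.val)
    infer_instance
  haveI : ∀ j : (Idx G)ᵒᵖ, Nonempty (F.obj j) := fun j => (hne j.unop.val).to_subtype
  obtain ⟨s, hs⟩ := nonempty_sections_of_finite_inverse_system F
  refine ⟨⟨fun U => (s (op ⟨U⟩)).1, ?_⟩, fun U => (s (op ⟨U⟩)).2⟩
  intro U V h
  have hle : (⟨V⟩ : Idx G) ≤ ⟨U⟩ := h
  have := hs (homOfLE hle).op
  exact congrArg Subtype.val this

end Groth.Agent.Lib.helper3.FIC
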