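import Mathlib

/-! Farkas' lemma and separation of a point from a finitely generated convex hull, over an arbitrary
linearly ordered field. -/

set_option autoImplicit false
set_option linter.unusedSectionVars false
set_option linter.unusedSimpArgs false

namespace Groth.Agent.Lib.helper3.FarkasL

variable {R : Type*} [Field R] [LinearOrder R] [IsStrictOrderedRing R]

/-- Farkas' lemma for a finite family of vectors in a vector space over an ordered field. -/
theorem farkas {ι V : Type*} [DecidableEq ι] [AddCommGroup V] [Module R V] (s : Finset ι) :
    ∀ (a : ι → V) (y : V),
      (∃ c : ι → R, (∀ i ∈ s, 0 ≤ c i) ∧ y = ∑ i ∈ s, c i • a i) ∨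
      (∃ f : Module.Dual R V, (∀ i ∈ s, 0 ≤ f (a i)) ∧ f y < 0) := by
  induction s using Finset.induction_on with
  | empty =>
    intro a y
    by_cases hy : y = 0
    · left; exact ⟨0, by simp, by simp [hy]⟩
    · right
      have : ¬ ∀ f : Module.Dual R V, f y = 0 := fun h => hy ((Module.forall_dual_apply_eq_zero_iff R y).1 h)
      simp only [not_forall] at this
      obtain ⟨f, hf⟩ := this
      rcases lt_or_gt_of_ne hf with h | h
      · exact ⟨f, by simp, h⟩
      · exact ⟨-f, by simp, by simpa using h⟩
  | insert j s hj ih =>
    intro a y
    rcases ih a y with ⟨c, hc, hy⟩ | ⟨f, hf, hfy⟩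
    · left
      refine ⟨fun i => if i = j then 0 else c i, ?_, ?_⟩
      · intro i hi
        by_cases hij : i = j
        · simp [hij]
        · simp only [hij, if_false]
          exact hc i (Finset.mem_of_mem_insert_of_ne hi hij)
      · rw [Finset.sum_insert hj, hy]
        simp only [if_true, zero_smul, zero_add]
        refine Finset.sum_congr rfl fun i hi => ?_
        have : i ≠ j := fun h => hj (h ▸ hi)
        simp [this]
    · by_cases hfj : 0 ≤ f (a j)
      · right
        refine ⟨f, ?_, hfy⟩
        intro i hi
        rcases Finset.mem_insert.1 hi with rfl | hi
        · exact hfj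
        · exact hf i hi
      · have hneg : f (a j) < 0 := not_le.1 hfj
        have hne : f (a j) ≠ 0 := hneg.ne
        set r : ι → R := fun i => f (a i) / (-f (a j)) with hr
        have hr0 : ∀ i ∈ s, 0 ≤ r i := fun i hi => div_nonneg (hf i hi) (by linarith)
        set a' : ι → V := fun i => a i + r i • a j with ha'
        have hfa' : ∀ i, f (a' i) = 0 := by
          intro i
          simp only [ha', hr, map_add, map_smul, smul_eq_mul]
          rw [div_neg, neg_mul, div_mul_cancel₀ _ hne]
          ring
        set t : R := f y / f (a j) with ht
        have ht0 : 0 < t := div_pos_of_neg_of_neg hfy hneg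
        set y' : V := y - t • a j with hy'
        have hfy' : f y' = 0 := by
          simp only [hy', ht, map_sub, map_smul, smul_eq_mul]
          rw [div_mul_cancel₀ _ hne]
          ring
        rcases ih a' y' with ⟨c, hc, hyc⟩ | ⟨g, hg, hgy⟩
        · left
          refine ⟨fun i => if i = j then (∑ k ∈ s, c k * r k) + t else c i, ?_, ?_⟩
          · intro i hi
            by_cases hij : i = j
            · simp only [hij, if_true]
              exact add_nonneg (Finset.sum_nonneg fun k hk => mul_nonneg (hc k hk) (hr0 k hk)) ht0.le
            · simp only [hij, if_false]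
              exact hc i (Finset.mem_of_mem_insert_of_ne hi hij)
          · rw [Finset.sum_insert hj]
            simp only [if_true]
            have h1 : ∑ i ∈ s, (if i = j then (∑ k ∈ s, c k * r k) + t else c i) • a i =
                ∑ i ∈ s, c i • a i := by
              refine Finset.sum_congr rfl fun i hi => ?_
              have : i ≠ j := fun h => hj (h ▸ hi)
              simp [this]
            rw [h1]
            have h2 : y = y' + t • a j := by rw [hy']; abel
            rw [h2, hyc]
            simp only [ha', smul_add, Finset.sum_add_distrib, add_smul, Finset.sum_smul, smul_smul]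
            abel
        · right
          set h : Module.Dual R V := g - (g (a j) / f (a j)) • f with hh
          have hhj : h (a j) = 0 := by
            simp only [hh, LinearMap.sub_apply, LinearMap.smul_apply, smul_eq_mul]
            rw [div_mul_cancel₀ _ hne]
            ring
          have hha' : ∀ i, h (a' i) = g (a' i) := by
            intro i
            simp only [hh, LinearMap.sub_apply, LinearMap.smul_apply, smul_eq_mul, hfa', mul_zero,
              sub_zero]
          refine ⟨h, ?_, ?_⟩
          · intro i hi
            rcases Finset.mem_insert.1 hi with rfl | hi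
            · rw [hhj]
            · have : a i = a' i - r i • a j := by simp [ha']
              rw [this, map_sub, map_smul, hhj, smul_zero, sub_zero, hha']
              exact hg i hi
          · have : y = y' + t • a j := by rw [hy']; abel
            rw [this, map_add, map_smul, hhj, smul_zero, add_zero]
            simp only [hh, LinearMap.sub_apply, LinearMap.smul_apply, smul_eq_mul, hfy', mul_zero,
              sub_zero]
            exact hgy

/-- Separation of a point from the convex hull of a finite set, over an ordered field. -/
theorem exists_dual_lt_of_notMem_convexHull {V : Type*} [AddCommGroup V] [Module R V]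
    {s : Set V} (hs : s.Finite) {y : V} (hy : y ∉ convexHull R s) :
    ∃ f : Module.Dual R V, ∀ x ∈ s, f y < f x := by
  classical
  rcases farkas (R := R) hs.toFinset (fun x : V => ((x, (1 : R)) : V × R)) (y, 1) with
    ⟨c, hc, hyc⟩ | ⟨F, hF, hFy⟩
  · exfalso
    apply hy
    have h1 : y = ∑ x ∈ hs.toFinset, c x • x := by
      have := congrArg Prod.fst hyc
      simpa [Prod.fst_sum] using this
    have h2 : (1 : R) = ∑ x ∈ hs.toFinset, c x := by
      have := congrArg Prod.snd hyc
      simpa [Prod.snd_sum] using this
    rw [h1]
    exact (convex_convexHull R s).sum_mem hc h2.symm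
      (fun x hx => subset_convexHull R s (hs.mem_toFinset.1 hx))
  · refine ⟨F ∘ₗ LinearMap.inl R V R, fun x hx => ?_⟩
    have h1 : ∀ v : V, F (v, 1) = F (v, 0) + F (0, 1) := by
      intro v
      rw [← map_add]
      simp
    have h2 := hF x (hs.mem_toFinset.2 hx)
    rw [h1] at h2 hFy
    simp only [LinearMap.comp_apply, LinearMap.inl_apply]
    linarith

end Groth.Agent.Lib.helper3.FarkasL
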