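import Mathlib
import Groth.Agent.Lib.Helper3.QFinTop
/-!
# Helper library (helper3): chains of generizations inside a fibre

* `coheight_chain`: for a morphism `ι : F ⟶ X` reflecting specialization (e.g. the inclusion of a
  fibre), a point `z'` of `F` of finite coheight `n` has a generization `ζ` in `F` of coheight `0`
  with `coheight (ι ζ) + n ≤ coheight (ι z')`;
* `stalk_dim_fiber_eq`: transport of the dimension of the local ring of a fibre.
-/

set_option autoImplicit false
universe u
open CategoryTheory AlgebraicGeometry Function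

namespace Groth.Agent.Lib.helper3.FibreCoheight

theorem coheight_chain {F X : Scheme.{u}} (ι : F ⟶ X) (hι : ∀ a b : F, ι a ⤳ ι b ↔ a ⤳ b) :
    ∀ (n : ℕ) (z' : F), Order.coheight z' = (n : ℕ∞) →
      ∃ ζ : F, ζ ⤳ z' ∧ Order.coheight ζ = 0 ∧
        Order.coheight (ι ζ) + (n : ℕ∞) ≤ Order.coheight (ι z') := by
  intro n
  induction n with
  | zero =>
    intro z' h
    exact ⟨z', specializes_rfl, by simpa using h, by simp⟩
  | succ n ih =>
    intro z' h
    have h' : Order.coheight z' = (n : ℕ∞) + 1 := by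
      rw [h]; push_cast; rfl
    obtain ⟨-, ⟨y, hy, hyn⟩, -⟩ := Order.coheight_eq_coe_add_one_iff.mp h'
    obtain ⟨ζ, hζy, hζ0, hle⟩ := ih y hyn
    have hyz : y ⤳ z' := Scheme.le_iff_specializes.mp hy.le
    refine ⟨ζ, hζy.trans hyz, hζ0, ?_⟩
    have hlt : ι z' < ι y := by
      rw [lt_iff_le_not_ge]
      constructor
      · exact Scheme.le_iff_specializes.mpr ((hι _ _).mpr hyz)
      · intro hge
        have h1 : z' ⤳ y := (hι _ _).mp (Scheme.le_iff_specializes.mp hge)
        exact hy.not_ge (Scheme.le_iff_specializes.mpr h1)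
    have h2 := Order.coheight_add_one_le hlt
    calc Order.coheight (ι ζ) + ((n + 1 : ℕ) : ℕ∞)
        = (Order.coheight (ι ζ) + (n : ℕ∞)) + 1 := by push_cast; rw [add_assoc]
      _ ≤ Order.coheight (ι y) + 1 := by gcongr
      _ ≤ _ := h2

theorem stalk_dim_fiber_eq {X Y : Scheme.{u}} (f : X ⟶ Y) (s : Y) (x : X) (hx : f x = s)
    (z : f.fiber s) (hz : f.fiberι s z = x) :
    ringKrullDim ((f.fiber s).presheaf.stalk z) =
      ringKrullDim ((f.fiber (f x)).presheaf.stalk (f.asFiber x)) := by
  subst hx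
  have : z = f.asFiber x :=
    Groth.Agent.Lib.helper3.QFinTop.fiberι_injective f (f x) (hz.trans (f.fiberι_asFiber x).symm)
  subst this
  rfl

end Groth.Agent.Lib.helper3.FibreCoheight
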