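import Mathlib
import Groth.Agent.Lib.Helper8.LocalFlat
import Groth.Agent.Lib.Helper17.FlatBC
/-!
# Descent of fibre-flatness along a flat change of fibre rings (helper3)
-/

set_option autoImplicit false
set_option linter.style.haveILetI false
set_option linter.unusedSectionVars false
universe u

open IsLocalRing TensorProduct

namespace Groth.Agent.Lib.helper3.FibreDescent

section general

variable {A : Type u} [CommRing A] (I : Ideal A) (B : Type u) [CommRing B] [Algebra A B]
  (M : Type u) [AddCommGroup M] [Module A M] [Module B M] [IsScalarTower A B M]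

/-- `I • ⊤` (over `A`) is `(IB) • ⊤` (over `B`) as sets. -/
lemma smul_top_eq_restrictScalars :
    (I • ⊤ : Submodule A M) =
      ((I.map (algebraMap A B)) • (⊤ : Submodule B M)).restrictScalars A := by
  apply le_antisymm
  · rw [Submodule.smul_le]
    intro a ha e _
    rw [Submodule.restrictScalars_mem, ← algebraMap_smul B a e]
    exact Submodule.smul_mem_smul (Ideal.mem_map_of_mem _ ha) Submodule.mem_top
  · intro x hx
    rw [Submodule.restrictScalars_mem] at hx
    refine Submodule.smul_induction_on hx ?_ ?_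
    · intro b hb e _
      have key : ∀ e : M, b • e ∈ (I • ⊤ : Submodule A M) := by
        refine Submodule.span_induction (p := fun b _ => ∀ e : M, b • e ∈ (I • ⊤ : Submodule A M))
          ?_ ?_ ?_ ?_ hb
        · rintro _ ⟨a, ha, rfl⟩ e
          rw [algebraMap_smul]
          exact Submodule.smul_mem_smul ha Submodule.mem_top
        · intro e
          rw [zero_smul]
          exact Submodule.zero_mem _
        · intro b₁ b₂ _ _ h₁ h₂ e
          rw [add_smul]
          exact Submodule.add_mem _ (h₁ e) (h₂ e)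
        · intro c b₁ _ h₁ e
          rw [smul_eq_mul, mul_comm, mul_smul]
          exact h₁ _
      exact key e
    · intro x y hx hy
      exact Submodule.add_mem _ hx hy

variable {M} in
theorem isScalarTower_quot : IsScalarTower A (A ⧸ I) (M ⧸ (I • ⊤ : Submodule A M)) :=
  IsScalarTower.of_algebraMap_smul (fun a x => by
    obtain ⟨x, rfl⟩ := Submodule.Quotient.mk_surjective _ x
    rfl)

/-- The quotient `M → M/IM` is a base change along `A → A/I`. -/
theorem isBaseChange_mkQ :
    IsBaseChange (A ⧸ I) (Submodule.mkQ (I • (⊤ : Submodule A M))) := by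
  haveI := isScalarTower_quot I (M := M)
  refine IsBaseChange.of_equiv
    ((TensorProduct.quotTensorEquivQuotSMul M I).extendScalarsOfSurjective
      Ideal.Quotient.mk_surjective) (fun x => ?_)
  rw [LinearEquiv.extendScalarsOfSurjective_apply]
  have := TensorProduct.quotTensorEquivQuotSMul_mk_tmul (M := M) I 1 x
  rw [one_smul, map_one] at this
  exact this

end general

section transfer

variable {A : Type u} [CommRing A] (I : Ideal A) (B : Type u) [CommRing B] [Algebra A B]
  (M : Type u) [AddCommGroup M] [Module A M] [Module B M] [IsScalarTower A B M]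

/-- `A`-linear isomorphism `M/IM ≅ M/(IB)M`. -/
noncomputable def quotEquiv :
    (M ⧸ (I • ⊤ : Submodule A M)) ≃ₗ[A]
      (M ⧸ ((I.map (algebraMap A B)) • ⊤ : Submodule B M)) :=
  (Submodule.quotEquivOfEq _ _ (smul_top_eq_restrictScalars I B M)).trans
    (Submodule.Quotient.restrictScalarsEquiv A _)

/-- Flatness of `M/IM` over `A/I` can be tested on `M/(IB)M`. -/
theorem flat_quot_iff :
    letI : Module (A ⧸ I) (M ⧸ ((I.map (algebraMap A B)) • ⊤ : Submodule B M)) :=
      Module.compHom _ (Ideal.quotientMap (I.map (algebraMap A B)) (algebraMap A B)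
        Ideal.le_comap_map)
    Module.Flat (A ⧸ I) (M ⧸ (I • ⊤ : Submodule A M)) ↔
      Module.Flat (A ⧸ I) (M ⧸ ((I.map (algebraMap A B)) • ⊤ : Submodule B M)) := by
  letI : Module (A ⧸ I) (M ⧸ ((I.map (algebraMap A B)) • ⊤ : Submodule B M)) :=
    Module.compHom _ (Ideal.quotientMap (I.map (algebraMap A B)) (algebraMap A B)
      Ideal.le_comap_map)
  haveI t1 : IsScalarTower A (A ⧸ I) (M ⧸ (I • ⊤ : Submodule A M)) := isScalarTower_quot I
  haveI t2 : IsScalarTower A (A ⧸ I) (M ⧸ ((I.map (algebraMap A B)) • ⊤ : Submodule B M)) :=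
    IsScalarTower.of_algebraMap_smul (fun a x => by
      obtain ⟨x, rfl⟩ := Submodule.Quotient.mk_surjective _ x
      show (Ideal.quotientMap (I.map (algebraMap A B)) (algebraMap A B) Ideal.le_comap_map
        (Ideal.Quotient.mk I a)) •
          (Submodule.Quotient.mk x : M ⧸ ((I.map (algebraMap A B)) • ⊤ : Submodule B M)) =
        a • Submodule.Quotient.mk x
      rw [Ideal.quotientMap_mk]
      show (Submodule.Quotient.mk ((algebraMap A B a) • x) :
        M ⧸ ((I.map (algebraMap A B)) • ⊤ : Submodule B M)) = Submodule.Quotient.mk (a • x)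
      rw [algebraMap_smul])
  constructor
  · intro h
    exact Groth.Agent.Lib.helper8.LocalFlat.flat_of_linearEquiv_of_surjective
      (R := A) (R₁ := A ⧸ I) (R₂ := A ⧸ I) Ideal.Quotient.mk_surjective
      Ideal.Quotient.mk_surjective le_rfl (quotEquiv I B M)
  · intro h
    exact Groth.Agent.Lib.helper8.LocalFlat.flat_of_linearEquiv_of_surjective
      (R := A) (R₁ := A ⧸ I) (R₂ := A ⧸ I) Ideal.Quotient.mk_surjective
      Ideal.Quotient.mk_surjective le_rfl (quotEquiv I B M).symm

end transfer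

section main

variable {A B A' B' : Type u} [CommRing A] [CommRing B] [CommRing A'] [CommRing B']
  [Algebra A B] [Algebra A A'] [Algebra B B'] [Algebra A' B'] [Algebra A B']
  [IsScalarTower A B B'] [IsScalarTower A A' B']
  [IsLocalRing B] [IsLocalRing B'] [IsLocalHom (algebraMap B B')]
  {M M' : Type u} [AddCommGroup M] [Module A M] [Module B M] [IsScalarTower A B M]
  [AddCommGroup M'] [Module A' M'] [Module B' M'] [IsScalarTower A' B' M']
  [Module B M'] [IsScalarTower B B' M']

set_option maxHeartbeats 1000000 in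
/-- **Descent of fibre flatness.** -/
theorem flat_fibre_descent (ψ : M →ₗ[B] M') (hψ : IsBaseChange B' ψ)
    (I : Ideal A) (I' : Ideal A')
    (hne : I'.map (algebraMap A' B') ≠ ⊤)
    (hA : ∃ hle : I ≤ I'.comap (algebraMap A A'),
      (Ideal.quotientMap I' (algebraMap A A') hle).Flat)
    (hB : ∃ hle : I.map (algebraMap A B) ≤ (I'.map (algebraMap A' B')).comap (algebraMap B B'),
      (Ideal.quotientMap (I'.map (algebraMap A' B')) (algebraMap B B') hle).Flat)
    (hM' : Module.Flat (A' ⧸ I') (M' ⧸ (I' • ⊤ : Submodule A' M'))) :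
    Module.Flat (A ⧸ I) (M ⧸ (I • ⊤ : Submodule A M)) := by
  obtain ⟨hleA, hflA⟩ := hA
  obtain ⟨hleB, hflB⟩ := hB
  set J : Ideal B := I.map (algebraMap A B) with hJ
  set J' : Ideal B' := I'.map (algebraMap A' B') with hJ'
  -- ring homs
  let qAB : A ⧸ I →+* B ⧸ J := Ideal.quotientMap J (algebraMap A B) Ideal.le_comap_map
  let qA'B' : A' ⧸ I' →+* B' ⧸ J' := Ideal.quotientMap J' (algebraMap A' B') Ideal.le_comap_map
  let qAA' : A ⧸ I →+* A' ⧸ I' := Ideal.quotientMap I' (algebraMap A A') hleA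
  let qBB' : B ⧸ J →+* B' ⧸ J' := Ideal.quotientMap J' (algebraMap B B') hleB
  have hsq : qA'B'.comp qAA' = qBB'.comp qAB := by
    apply Ideal.Quotient.ringHom_ext
    ext a
    simp only [RingHom.comp_apply, qA'B', qAA', qBB', qAB, Ideal.quotientMap_mk]
    rw [← IsScalarTower.algebraMap_apply, ← IsScalarTower.algebraMap_apply]
  -- local rings
  haveI : Nontrivial (B' ⧸ J') := Ideal.Quotient.nontrivial_iff.mpr hne
  have hJne : J ≠ ⊤ := by
    intro h
    apply hne
    have h1 : (1 : B) ∈ J := by rw [h]; trivial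
    have h2 := hleB h1
    rw [Ideal.mem_comap, map_one] at h2
    exact (Ideal.eq_top_iff_one _).mpr h2
  haveI : Nontrivial (B ⧸ J) := Ideal.Quotient.nontrivial_iff.mpr hJne
  haveI : IsLocalRing (B ⧸ J) :=
    IsLocalRing.of_surjective' (Ideal.Quotient.mk J) Ideal.Quotient.mk_surjective
  haveI : IsLocalRing (B' ⧸ J') :=
    IsLocalRing.of_surjective' (Ideal.Quotient.mk J') Ideal.Quotient.mk_surjective
  letI algBB' : Algebra (B ⧸ J) (B' ⧸ J') := qBB'.toAlgebra
  haveI : IsLocalHom (algebraMap (B ⧸ J) (B' ⧸ J')) := by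
    constructor
    intro x hx
    obtain ⟨b, rfl⟩ := Ideal.Quotient.mk_surjective x
    by_contra hnu
    have hb : ¬ IsUnit b := fun h => hnu (h.map _)
    have hb' : algebraMap B B' b ∈ maximalIdeal B' := by
      rw [mem_maximalIdeal, mem_nonunits_iff]
      intro hu
      exact hb (isUnit_of_map_unit (algebraMap B B') b hu)
    have hx' : IsUnit (Ideal.Quotient.mk J' (algebraMap B B' b)) := hx
    obtain ⟨c, hc⟩ := hx'.exists_right_inv
    obtain ⟨c', rfl⟩ := Ideal.Quotient.mk_surjective c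
    rw [← map_mul, ← map_one (Ideal.Quotient.mk J'), Ideal.Quotient.eq] at hc
    have hJ'le : J' ≤ maximalIdeal B' := IsLocalRing.le_maximalIdeal hne
    have h1 : algebraMap B B' b * c' ∈ maximalIdeal B' := Ideal.mul_mem_right _ _ hb'
    have h2 : (1 : B') ∈ maximalIdeal B' := by
      have := Ideal.sub_mem _ h1 (hJ'le hc)
      simp at this
    exact (Ideal.ne_top_iff_one _).mp (maximalIdeal.isMaximal B').ne_top h2
  haveI : Module.Flat (B ⧸ J) (B' ⧸ J') := hflB
  haveI : Module.FaithfullyFlat (B ⧸ J) (B' ⧸ J') := Module.FaithfullyFlat.of_flat_of_isLocalHom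
  -- algebras
  letI algAB : Algebra (A ⧸ I) (B ⧸ J) := qAB.toAlgebra
  letI algAB' : Algebra (A ⧸ I) (B' ⧸ J') := (qBB'.comp qAB).toAlgebra
  haveI : IsScalarTower (A ⧸ I) (B ⧸ J) (B' ⧸ J') := IsScalarTower.of_algebraMap_eq fun _ => rfl
  letI algAA' : Algebra (A ⧸ I) (A' ⧸ I') := qAA'.toAlgebra
  -- modules
  letI mAN : Module (A ⧸ I) (M ⧸ (J • ⊤ : Submodule B M)) := Module.compHom _ qAB
  haveI : IsScalarTower (A ⧸ I) (B ⧸ J) (M ⧸ (J • ⊤ : Submodule B M)) :=
    IsScalarTower.of_algebraMap_smul fun _ _ => rfl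
  letI mBN' : Module (B ⧸ J) (M' ⧸ (J' • ⊤ : Submodule B' M')) := Module.compHom _ qBB'
  haveI : IsScalarTower (B ⧸ J) (B' ⧸ J') (M' ⧸ (J' • ⊤ : Submodule B' M')) :=
    IsScalarTower.of_algebraMap_smul fun _ _ => rfl
  letI mAN' : Module (A ⧸ I) (M' ⧸ (J' • ⊤ : Submodule B' M')) :=
    Module.compHom _ (qBB'.comp qAB)
  haveI : IsScalarTower (A ⧸ I) (B' ⧸ J') (M' ⧸ (J' • ⊤ : Submodule B' M')) :=
    IsScalarTower.of_algebraMap_smul fun _ _ => rfl
  letI mA'N' : Module (A' ⧸ I') (M' ⧸ (J' • ⊤ : Submodule B' M')) := Module.compHom _ qA'B'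
  haveI : IsScalarTower (A ⧸ I) (A' ⧸ I') (M' ⧸ (J' • ⊤ : Submodule B' M')) :=
    IsScalarTower.of_algebraMap_smul fun a n => by
      show qA'B' (qAA' a) • n = (qBB'.comp qAB) a • n
      rw [← RingHom.comp_apply, hsq]
  haveI : Module.Flat (A' ⧸ I') (M' ⧸ (J' • ⊤ : Submodule B' M')) :=
    (flat_quot_iff I' B' M').mp hM'
  haveI : Module.Flat (A ⧸ I) (A' ⧸ I') := hflA
  haveI : Module.Flat (A ⧸ I) (M' ⧸ (J' • ⊤ : Submodule B' M')) :=
    Module.Flat.trans (A ⧸ I) (A' ⧸ I') _
  -- the map on quotients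
  have hmap : (J • ⊤ : Submodule B M) ≤
      LinearMap.ker (((J' • ⊤ : Submodule B' M').mkQ.restrictScalars B).comp ψ) := by
    rw [Submodule.smul_le]
    intro j hj m _
    rw [LinearMap.mem_ker, LinearMap.comp_apply, map_smul, LinearMap.restrictScalars_apply,
      Submodule.mkQ_apply, Submodule.Quotient.mk_eq_zero, ← algebraMap_smul B' j (ψ m)]
    exact Submodule.smul_mem_smul (hleB hj) Submodule.mem_top
  let ψ₀ : (M ⧸ (J • ⊤ : Submodule B M)) →ₗ[B] (M' ⧸ (J' • ⊤ : Submodule B' M')) :=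
    Submodule.liftQ (J • ⊤) (((J' • ⊤ : Submodule B' M').mkQ.restrictScalars B).comp ψ) hmap
  haveI : IsScalarTower B (B ⧸ J) (M ⧸ (J • ⊤ : Submodule B M)) := isScalarTower_quot J
  haveI : IsScalarTower B (B ⧸ J) (M' ⧸ (J' • ⊤ : Submodule B' M')) :=
    IsScalarTower.of_algebraMap_smul (fun b x => by
      obtain ⟨x, rfl⟩ := Submodule.Quotient.mk_surjective _ x
      show (qBB' (Ideal.Quotient.mk J b)) •
          (Submodule.Quotient.mk x : M' ⧸ (J' • ⊤ : Submodule B' M')) =
        b • Submodule.Quotient.mk x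
      show (Submodule.Quotient.mk ((algebraMap B B' b) • x) :
        M' ⧸ (J' • ⊤ : Submodule B' M')) = Submodule.Quotient.mk (b • x)
      rw [algebraMap_smul])
  let ψ' : (M ⧸ (J • ⊤ : Submodule B M)) →ₗ[B ⧸ J] (M' ⧸ (J' • ⊤ : Submodule B' M')) :=
    ψ₀.extendScalarsOfSurjective Ideal.Quotient.mk_surjective
  have h1 : IsBaseChange (B ⧸ J) (J • ⊤ : Submodule B M).mkQ := isBaseChange_mkQ J M
  have h1' : IsBaseChange (B' ⧸ J') (J' • ⊤ : Submodule B' M').mkQ := isBaseChange_mkQ J' M'
  haveI : IsScalarTower B' (B' ⧸ J') (M' ⧸ (J' • ⊤ : Submodule B' M')) := isScalarTower_quot J'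
  haveI : IsScalarTower B (B' ⧸ J') (M' ⧸ (J' • ⊤ : Submodule B' M')) :=
    IsScalarTower.of_algebraMap_smul (fun b x => by
      obtain ⟨x, rfl⟩ := Submodule.Quotient.mk_surjective _ x
      show (Submodule.Quotient.mk ((algebraMap B B' b) • x) :
        M' ⧸ (J' • ⊤ : Submodule B' M')) = Submodule.Quotient.mk (b • x)
      rw [algebraMap_smul])
  have h2 : IsBaseChange (B' ⧸ J')
      (((J' • ⊤ : Submodule B' M').mkQ.restrictScalars B).comp ψ) := hψ.comp h1'
  haveI : IsScalarTower B (B ⧸ J) (B' ⧸ J') := IsScalarTower.of_algebraMap_eq fun _ => rfl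
  have h3 : IsBaseChange (B' ⧸ J') ψ' := by
    apply IsBaseChange.of_comp h1
    convert h2 using 1
    ext m
    rfl
  have : Module.Flat (A ⧸ I) (M ⧸ (J • ⊤ : Submodule B M)) :=
    Groth.Agent.Lib.helper17.FlatBC.flat_of_isBaseChange_of_faithfullyFlat (A ⧸ I) (B' ⧸ J') h3
  exact (flat_quot_iff I B M).mpr this

end main

end Groth.Agent.Lib.helper3.FibreDescent
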