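import Mathlib
import Groth.Agent.Lib.Helper3.FibreDimCons
import Groth.Agent.Lib.Helper3.FibreDimBC2

/-!
# Noetherian approximation preserving the dimension of all fibres (helper3)
-/

set_option autoImplicit false
universe u
open CategoryTheory AlgebraicGeometry CategoryTheory.Limits TensorProduct Topology

namespace Groth.Agent.Lib.helper3.FibreDimApprox

open Groth.Agent.Lib.helper3

/-- If the image of `Spec A → Spec A₀` lies in a constructible set `E`, then already the image of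
`Spec A₁ → Spec A₀` lies in `E` for every subring `A₁` of `A` containing a suitable finite set. -/
theorem exists_finset_of_range_subset {A₀ A : Type u} [CommRing A₀] [CommRing A] (α : A₀ →+* A)
    (E : Set (PrimeSpectrum A₀)) (hE : IsConstructible E)
    (hrange : Set.range (PrimeSpectrum.comap α) ⊆ E) :
    ∃ T : Finset A, ∀ (A₁ : Type u) [CommRing A₁] (α₁ : A₀ →+* A₁) (ι : A₁ →+* A),
      ι.comp α₁ = α → Function.Injective ι → (↑T : Set A) ⊆ Set.range ι →
        Set.range (PrimeSpectrum.comap α₁) ⊆ E := by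
  classical
  obtain ⟨S, hS⟩ := PrimeSpectrum.exists_constructibleSetData_iff.mpr hE.compl
  have key : ∀ C ∈ S, ∃ (n : ℕ) (c : Fin C.n → A), ∑ i, c i * α (C.g i) = (α C.f) ^ n := by
    intro C hC
    have hempty : PrimeSpectrum.comap α ⁻¹' C.toSet = ∅ := by
      rw [Set.eq_empty_iff_forall_notMem]
      intro q hq
      have h1 : PrimeSpectrum.comap α q ∈ S.toSet := Set.mem_biUnion hC hq
      rw [hS] at h1
      exact h1 (hrange ⟨q, rfl⟩)
    rw [← PrimeSpectrum.BasicConstructibleSetData.toSet_map,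
      PrimeSpectrum.BasicConstructibleSetData.toSet, Set.sdiff_eq_empty] at hempty
    have hmem : α C.f ∈ (Ideal.span (Set.range (C.map α).g)).radical := by
      rw [← PrimeSpectrum.vanishingIdeal_zeroLocus_eq_radical, PrimeSpectrum.zeroLocus_span,
        PrimeSpectrum.mem_vanishingIdeal]
      intro q hq
      have := hempty hq
      rw [PrimeSpectrum.mem_zeroLocus, Set.singleton_subset_iff] at this
      exact this
    obtain ⟨n, hn⟩ := hmem
    obtain ⟨c, hc⟩ := (Ideal.mem_span_range_iff_exists_fun).mp hn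
    exact ⟨n, c, hc⟩
  choose! n c hc using key
  refine ⟨S.biUnion (fun C => Finset.image (c C) Finset.univ), ?_⟩
  intro A₁ _ α₁ ι hι hinj hT
  rintro _ ⟨q, rfl⟩
  by_contra hq
  have h1 : PrimeSpectrum.comap α₁ q ∈ S.toSet := by rw [hS]; exact hq
  obtain ⟨C, hC, hqC⟩ := Set.mem_iUnion₂.mp h1
  have hcT : ∀ i, c C i ∈ Set.range ι := by
    intro i
    apply hT
    rw [Finset.coe_biUnion]
    exact Set.mem_biUnion hC (by simp)
  choose b hb using hcT
  have heq : (α₁ C.f) ^ (n C) = ∑ i, b i * α₁ (C.g i) := by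
    apply hinj
    rw [map_pow, map_sum]
    have h2 : ∀ x, ι (α₁ x) = α x := fun x => by rw [← hι]; rfl
    rw [h2, ← hc C hC]
    refine Finset.sum_congr rfl fun i _ => ?_
    rw [map_mul, hb, h2]
  have hq1 : PrimeSpectrum.comap α₁ q ∈ PrimeSpectrum.zeroLocus (Set.range C.g) := hqC.1
  have hq2 : PrimeSpectrum.comap α₁ q ∉ PrimeSpectrum.zeroLocus {C.f} := hqC.2
  apply hq2
  rw [PrimeSpectrum.mem_zeroLocus, Set.singleton_subset_iff]
  change α₁ C.f ∈ q.asIdeal
  have hpow : (α₁ C.f) ^ (n C) ∈ q.asIdeal := by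
    rw [heq]
    refine Ideal.sum_mem _ fun i _ => Ideal.mul_mem_left _ _ ?_
    have : C.g i ∈ (PrimeSpectrum.comap α₁ q).asIdeal := hq1 ⟨i, rfl⟩
    exact this
  exact q.isPrime.mem_of_pow_mem _ hpow

attribute [local instance] Algebra.TensorProduct.rightAlgebra in
/-- a finitely presented algebra descends to a `ℤ`-algebra of finite type, as a pullback square of
spectra. -/
theorem exists_finiteType_int_model (A B : Type u) [CommRing A] [CommRing B] [Algebra A B]
    [Algebra.FinitePresentation A B] :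
    ∃ (A₀ B₀ : Type u) (_ : CommRing A₀) (_ : CommRing B₀) (_ : Algebra.FiniteType ℤ A₀)
      (φ₀ : A₀ →+* B₀) (α : A₀ →+* A) (β : B₀ →+* B),
      φ₀.FinitePresentation ∧
      IsPullback (Spec.map (CommRingCat.ofHom β)) (Spec.map (CommRingCat.ofHom (algebraMap A B)))
        (Spec.map (CommRingCat.ofHom φ₀)) (Spec.map (CommRingCat.ofHom α)) := by
  set P := Algebra.Presentation.ofFinitePresentation A B with hP
  set A₀ := P.Core with hA₀
  set B₀ := P.ModelOfHasCoeffs A₀ with hB₀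
  haveI : Algebra.FiniteType ℤ A₀ := inferInstance
  haveI : Algebra.FinitePresentation A₀ B₀ := inferInstance
  set e := P.tensorModelOfHasCoeffsEquiv A₀ with he
  let β : B₀ →ₐ[A₀] B := (e.toAlgHom.restrictScalars A₀).comp
    (Algebra.TensorProduct.includeRight : B₀ →ₐ[A₀] A ⊗[A₀] B₀)
  letI algB₀B : Algebra B₀ B := β.toRingHom.toAlgebra
  haveI : IsScalarTower A₀ B₀ B := IsScalarTower.of_algebraMap_eq' β.comp_algebraMap.symm
  haveI : Algebra.IsPushout A₀ A B₀ B :=
    Algebra.IsPushout.of_equiv (R := A₀) (R' := A) (S := B₀) (S' := A ⊗[A₀] B₀) e rfl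
  have hpo := CommRingCat.isPushout_of_isPushout A₀ A B₀ B
  have hpb := isPullback_SpecMap_of_isPushout _ _ _ _ hpo
  refine ⟨A₀, B₀, inferInstance, inferInstance, inferInstance,
    algebraMap A₀ B₀, algebraMap A₀ A, algebraMap B₀ B, ?_, hpb.flip⟩
  rw [RingHom.finitePresentation_algebraMap]
  infer_instance

theorem approx_spec {A B : CommRingCat.{u}} (φ : A ⟶ B) (hφ : φ.hom.FinitePresentation) (d : ℕ)
    (hd : ∀ s : Spec A, topologicalKrullDim ((Spec.map φ).fiber s) = d) :
    ∃ (A₁ : CommRingCat.{u}) (X₁ : Scheme.{u}) (f₁ : X₁ ⟶ Spec A₁) (ι : A₁ ⟶ A)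
      (g' : Spec B ⟶ X₁), IsAffine X₁ ∧ IsPullback g' (Spec.map φ) f₁ (Spec.map ι) ∧
      Algebra.FiniteType ℤ A₁ ∧ LocallyOfFiniteType f₁ ∧
      ∀ s₁ : Spec A₁, topologicalKrullDim (f₁.fiber s₁) = d := by
  algebraize [φ.hom]
  haveI : Algebra.FinitePresentation A B := hφ
  obtain ⟨A₀, B₀, _, _, hft, φ₀, α, β, hfp, hpb⟩ := exists_finiteType_int_model A B
  have hφ' : CommRingCat.ofHom (algebraMap A B) = φ := rfl
  rw [hφ'] at hpb
  set f₀ := Spec.map (CommRingCat.ofHom φ₀) with hf₀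
  haveI : LocallyOfFinitePresentation f₀ := by
    rw [HasRingHomProperty.Spec_iff (P := @LocallyOfFinitePresentation)]; exact hfp
  set E : Set (Spec (CommRingCat.of A₀)) :=
    {s₀ | topologicalKrullDim (f₀.fiber s₀) = ((d : ℕ) : WithBot ℕ∞)} with hE
  have hEc : IsConstructible E :=
    (FibreDimCons.isLocallyConstructible_dim_eq f₀ _).isConstructible
  have hrange : Set.range (PrimeSpectrum.comap α) ⊆ E := by
    rintro _ ⟨s, rfl⟩
    change topologicalKrullDim (f₀.fiber (Spec.map (CommRingCat.ofHom α) s)) = _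
    rw [← FibreDimBC.dim_fiber_eq_of_isPullback f₀ (Spec.map (CommRingCat.ofHom α)) (Spec.map φ)
      (Spec.map (CommRingCat.ofHom β)) hpb s]
    exact hd s
  obtain ⟨T, hT⟩ := exists_finset_of_range_subset α E hEc hrange
  letI algA₀A : Algebra A₀ A := α.toAlgebra
  set A₁ := Algebra.adjoin A₀ (T : Set A) with hA₁
  set ι : A₁ →+* A := A₁.val.toRingHom with hι
  set α₁ : A₀ →+* A₁ := algebraMap A₀ A₁ with hα₁
  have hια : ι.comp α₁ = α := by
    ext x
    rfl
  have hinj : Function.Injective ι := Subtype.val_injective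
  have hTι : (↑T : Set A) ⊆ Set.range ι := by
    intro t ht
    exact ⟨⟨t, Algebra.subset_adjoin ht⟩, rfl⟩
  have hE₁ := hT A₁ α₁ ι hια hinj hTι
  set r := Spec.map (CommRingCat.ofHom α₁) with hr
  have hrι : Spec.map (CommRingCat.ofHom ι) ≫ r = Spec.map (CommRingCat.ofHom α) := by
    rw [hr, ← Spec.map_comp, ← CommRingCat.ofHom_comp, hια]
  have hw : Spec.map (CommRingCat.ofHom β) ≫ f₀ =
      (Spec.map φ ≫ Spec.map (CommRingCat.ofHom ι)) ≫ r := by
    rw [Category.assoc, hrι]
    exact hpb.w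
  refine ⟨CommRingCat.of A₁, pullback f₀ r, pullback.snd f₀ r, CommRingCat.ofHom ι,
    pullback.lift _ _ hw, inferInstance, ?_, ?_, ?_, ?_⟩
  · refine IsPullback.of_right ?_ (pullback.lift_snd _ _ hw) (IsPullback.of_hasPullback f₀ r)
    rw [pullback.lift_fst, hrι]
    exact hpb
  · haveI : Algebra.FiniteType A₀ A₁ := Algebra.FiniteType.adjoin_of_finite T.finite_toSet
    have := Algebra.FiniteType.trans (R := ℤ) (S := A₀) (A := A₁) hft inferInstance
    convert this
  · exact MorphismProperty.pullback_snd _ _ inferInstance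
  · intro s₁
    rw [FibreDimBC.dim_fiber_eq_of_isPullback f₀ r (pullback.snd f₀ r) (pullback.fst f₀ r)
      (IsPullback.of_hasPullback f₀ r) s₁]
    exact hE₁ ⟨s₁, rfl⟩

theorem noetherian_approximation_fibre_dimension {X S : Scheme.{u}} (f : X ⟶ S) [IsAffine X]
    [IsAffine S] [LocallyOfFinitePresentation f] (d : ℕ)
    (hd : ∀ s : S, topologicalKrullDim ↑(f.fiber s) = d) :
    ∃ (X₀ S₀ : Scheme.{u}) (f₀ : X₀ ⟶ S₀) (g : S ⟶ S₀) (g' : X ⟶ X₀), IsAffine X₀ ∧ IsAffine S₀ ∧
      IsPullback g' f f₀ g ∧ Algebra.FiniteType ℤ Γ(S₀, ⊤) ∧ LocallyOfFiniteType f₀ ∧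
      ∀ s₀ : S₀, topologicalKrullDim ↑(f₀.fiber s₀) = d := by
  have hfp : f.appTop.hom.FinitePresentation :=
    (HasRingHomProperty.iff_of_isAffine (P := @LocallyOfFinitePresentation)).mp inferInstance
  have hnat : X.isoSpec.hom ≫ Spec.map f.appTop = f ≫ S.isoSpec.hom :=
    Scheme.isoSpec_hom_naturality f
  have sq0 : IsPullback X.isoSpec.hom f (Spec.map f.appTop) S.isoSpec.hom :=
    IsPullback.of_horiz_isIso ⟨hnat⟩
  haveI : LocallyOfFiniteType (Spec.map f.appTop) := by
    haveI : LocallyOfFinitePresentation (Spec.map f.appTop) := by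
      rw [HasRingHomProperty.Spec_iff (P := @LocallyOfFinitePresentation)]
      exact hfp
    infer_instance
  have hd' : ∀ s : Spec Γ(S, ⊤), topologicalKrullDim ((Spec.map f.appTop).fiber s) = d := by
    intro s
    have h1 := FibreDimBC.dim_fiber_eq_of_isPullback (Spec.map f.appTop) S.isoSpec.hom f
      X.isoSpec.hom sq0 (S.isoSpec.inv s)
    have h2 : S.isoSpec.hom (S.isoSpec.inv s) = s := by
      rw [← Scheme.Hom.comp_apply, Iso.inv_hom_id]; rfl
    rw [h2] at h1
    rw [← h1]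
    exact hd _
  obtain ⟨A₁, X₁, f₁, ι, g', hX₁, hpb, hft, hlft, hdim⟩ := approx_spec f.appTop hfp d hd'
  refine ⟨X₁, Spec A₁, f₁, S.isoSpec.hom ≫ Spec.map ι, X.isoSpec.hom ≫ g', hX₁, inferInstance,
    sq0.paste_horiz hpb, ?_, hlft, hdim⟩
  exact Algebra.FiniteType.equiv hft
    (Scheme.ΓSpecIso A₁).symm.commRingCatIsoToRingEquiv.toIntAlgEquiv

end Groth.Agent.Lib.helper3.FibreDimApprox
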