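import Mathlib
import Groth.Prelude.Def_Found
import Groth.Agent.Lib.Helper3.FlatFibreDimLSC
import Groth.Agent.Lib.Helper4.GlueClosedPoint
import Groth.Agent.Lib.Helper5.FibreDimLocal
/-!
# Flat morphisms: generization of fibre points with no loss of dimension, strengthened; fibre
dimension bounded over a dense open (helper3; = S1240, Stacks 0D4J-type)

* `exists_generization_over_valuationRing'`, `exists_generization_fibreDimAt_le'` : as in
  `FlatFibreDimLSC`, with the new point a generization of the old one;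
* `fibreDimAt_le_of_le_over_dense_open` (= S1240).
-/

set_option autoImplicit false
universe u
open CategoryTheory CategoryTheory.Limits AlgebraicGeometry Function Topology

namespace Groth.Agent.Lib.helper3.FlatFibreDimLSC

open Groth.Agent.Lib.helper3.DimIneq Groth.Agent.Lib.helper3.FTField
  Groth.Agent.Lib.helper3.ValFlatDim

/-- over a valuation ring, a point of the closed fibre of a flat morphism locally of finite type has
a generization in the generic fibre with at least the same local fibre dimension. -/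
theorem exists_generization_over_valuationRing' (R : Type u) [CommRing R] [IsDomain R]
    [ValuationRing R] {Z : Scheme.{u}} (g : Z ⟶ Spec (CommRingCat.of R)) [Flat g]
    [LocallyOfFiniteType g] (z : Z) (hz : g z = IsLocalRing.closedPoint R) :
    ∃ z' : Z, z' ⤳ z ∧ (g z').asIdeal = ⊥ ∧ FlatMor.fibreDimAt g z ≤ FlatMor.fibreDimAt g z' := by
  obtain ⟨z₁, N, hsp, hgz, -, htd, hdim⟩ := EquidimIrr.exists_maximal_fibre_point g z
  obtain ⟨W, hW, hz₁W, -⟩ := exists_isAffineOpen_mem_and_subset (x := z₁) (U := ⊤) trivial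
  have hV := isAffineOpen_top (Spec (CommRingCat.of R))
  have e : W ≤ g ⁻¹ᵁ ⊤ := le_top
  set φ := (g.appLE ⊤ W e).hom with hφ
  have hφflat : φ.Flat := HasRingHomProperty.appLE (P := @Flat) g inferInstance ⟨⊤, hV⟩ ⟨W, hW⟩ e
  let eR : Γ(Spec (CommRingCat.of R), ⊤) ≃+* R :=
    (Scheme.ΓSpecIso (CommRingCat.of R)).commRingCatIsoToRingEquiv
  haveI : IsDomain Γ(Spec (CommRingCat.of R), ⊤) := MulEquiv.isDomain R eR.toMulEquiv
  haveI : ValuationRing Γ(Spec (CommRingCat.of R), ⊤) := valuationRing_of_ringEquiv eR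
  letI := φ.toAlgebra
  haveI : Module.Flat Γ(Spec (CommRingCat.of R), ⊤) Γ(Z, W) := hφflat
  set q := (hW.primeIdealOf ⟨z₁, hz₁W⟩).asIdeal with hq
  have hcomap : ∀ (y : Z) (hy : y ∈ W), (hW.primeIdealOf ⟨y, hy⟩).asIdeal.comap φ =
      (hV.primeIdealOf ⟨g y, e hy⟩).asIdeal := by
    intro y hy
    have := IsAffineOpen.comap_primeIdealOf_appLE (f := g) (x := y) ⊤ hV W hW e hy
    exact congrArg PrimeSpectrum.asIdeal this
  have hqmax : q.comap (algebraMap Γ(Spec (CommRingCat.of R), ⊤) Γ(Z, W)) =
      IsLocalRing.maximalIdeal Γ(Spec (CommRingCat.of R), ⊤) := by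
    change q.comap φ = _
    rw [hq, hcomap z₁ hz₁W]
    have hclosed : IsClosed ({(g z₁ : Spec (CommRingCat.of R))} : Set (Spec (CommRingCat.of R))) := by
      rw [hgz, hz]
      exact IsLocalRing.isClosed_singleton_closedPoint R
    have := hV.primeIdealOf_isMaximal_of_isClosed ⟨g z₁, e hz₁W⟩ hclosed
    exact IsLocalRing.eq_maximalIdeal this
  have hN : td (Ideal.quotientMap q (algebraMap Γ(Spec (CommRingCat.of R), ⊤) Γ(Z, W)) le_rfl) = N := by
    rw [← htd, ← td_quotientMap_eq g hV hW e z₁ hz₁W]
    rfl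
  obtain ⟨q', hq'prime, hq'le, hq'bot, hNle⟩ := exists_prime_over_bot q hqmax N hN
  haveI := hq'prime
  obtain ⟨z', hz'W, hz'q⟩ := exists_point_of_prime hW q'
  refine ⟨z', ?_, ?_, ?_⟩
  · refine Specializes.trans ?_ hsp
    refine (specializes_iff_primeIdealOf_le hW z' z₁ hz'W hz₁W).mpr ?_
    rw [hz'q]
    exact hq'le
  · have h1 : (hV.primeIdealOf ⟨g z', e hz'W⟩).asIdeal = ⊥ := by
      rw [← hcomap z' hz'W, hz'q]
      exact hq'bot
    have h2 : (hV.primeIdealOf ⟨g z', e hz'W⟩).asIdeal = (g z').asIdeal.comap eR.toRingHom :=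
      congrArg PrimeSpectrum.asIdeal (primeIdealOf_top_Spec (CommRingCat.of R) (g z'))
    rw [h2] at h1
    rw [eq_bot_iff]
    intro x hx
    have h3 : eR.symm x ∈ (g z').asIdeal.comap eR.toRingHom := by
      change eR (eR.symm x) ∈ (g z').asIdeal
      rw [eR.apply_symm_apply]
      exact hx
    rw [h1] at h3
    have h4 : eR.symm x = 0 := h3
    have := congrArg eR h4
    rw [eR.apply_symm_apply, map_zero] at this
    exact this
  · obtain ⟨N', hN'⟩ := NowhereDenseGen.exists_nat_td g z'
    have h1 := NowhereDenseGen.td_le_fibreDimAt g z' N' hN'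
    have h2 : (N : Cardinal.{u}) ≤ N' := by
      rw [← hN', ← td_quotientMap_eq g hV hW e z' hz'W]
      have : td (Ideal.quotientMap (hW.primeIdealOf ⟨z', hz'W⟩).asIdeal (g.appLE ⊤ W e).hom le_rfl) =
          td (Ideal.quotientMap q' (algebraMap Γ(Spec (CommRingCat.of R), ⊤) Γ(Z, W)) le_rfl) := by
        have := FibreParam.td_quotientMap_congr_prime φ _ _ hz'q
        exact this
      rw [this]
      exact hNle
    have h3 : N ≤ N' := by exact_mod_cast h2
    rw [hdim]
    refine le_trans ?_ h1
    exact_mod_cast h3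

/-- **Generization of fibre points with no loss of dimension** for flat morphisms locally of finite
type. -/
theorem exists_generization_fibreDimAt_le' {X S : Scheme.{u}} (f : X ⟶ S) [Flat f]
    [LocallyOfFiniteType f] (x : X) (t : S) (hts : t ⤳ f x) :
    ∃ x' : X, x' ⤳ x ∧ f x' = t ∧ FlatMor.fibreDimAt f x ≤ FlatMor.fibreDimAt f x' := by
  obtain ⟨R, m, hm1, hm2⟩ :=
    Groth.Agent.Lib.helper4.ValRefined.exists_valuationSubring_of_specializes (𝟙 S) t (f x)
      (by simpa using hts)
  -- base change to the valuation ring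
  set g := pullback.snd f m with hg
  obtain ⟨z, hz1, hz2⟩ := Scheme.Pullback.exists_preimage_pullback (f := f) (g := m) x
    (IsLocalRing.closedPoint R) hm1.symm
  have hsq : IsPullback (pullback.fst f m) g f m := IsPullback.of_hasPullback f m
  obtain ⟨z', hz'sp, hz'bot, hle⟩ := exists_generization_over_valuationRing' R g z hz2
  refine ⟨pullback.fst f m z', ?_, ?_, ?_⟩
  · rw [← hz1]
    exact hz'sp.map (pullback.fst f m).continuous
  · -- the image of the generic point
    have h1 : f (pullback.fst f m z') = m (g z') := by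
      rw [← Scheme.Hom.comp_apply, ← Scheme.Hom.comp_apply, pullback.condition]
    rw [h1]
    set pt : Spec (S.residueField t) := IsLocalRing.closedPoint (S.residueField t) with hpt
    have h2 : g z' = Spec.map (CommRingCat.ofHom R.subtype) pt := by
      apply PrimeSpectrum.ext
      rw [hz'bot]
      symm
      rw [eq_bot_iff]
      intro a ha
      have h3 : R.subtype a ∈ (pt : PrimeSpectrum (S.residueField t)).asIdeal := ha
      have h4 : (pt : PrimeSpectrum (S.residueField t)).asIdeal = ⊥ := by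
        rw [hpt]
        change IsLocalRing.maximalIdeal _ = ⊥
        exact IsLocalRing.maximalIdeal_eq_bot
      rw [h4] at h3
      have h5 : R.subtype a = 0 := h3
      exact Subtype.ext h5
    rw [h2, ← Scheme.Hom.comp_apply, hm2, Category.comp_id]
    exact S.fromSpecResidueField_apply t pt
  · rw [← FibreDimBC.fibreDimAt_eq_of_isPullback f m (pullback.fst f m) g hsq z',
      ← hz1, ← FibreDimBC.fibreDimAt_eq_of_isPullback f m (pullback.fst f m) g hsq z]
    exact hle

theorem quasiCompact_ι_of_isRetrocompact {S : Scheme.{u}} (U : S.Opens)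
    (hU : IsRetrocompact (U : Set S)) : QuasiCompact U.ι := by
  constructor
  intro K hKo hKc
  have h1 : IsCompact ((U : Set S) ∩ K) := hU hKc hKo
  rw [U.ι.isEmbedding.isCompact_iff, Set.image_preimage_eq_inter_range, Scheme.Opens.range_ι,
    Set.inter_comm]
  exact h1

/-- **S1240** (Stacks 0D4J-type): a bound on the local fibre dimensions of a flat morphism over a
dense open spreads to all fibres. -/
theorem fibreDimAt_le_of_le_over_dense_open {X S : Scheme.{u}} (f : X ⟶ S) [Flat f]
    [LocallyOfFiniteType f]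
    (U : S.Opens) (hU : Dense (U : Set S)) (e : ℕ)
    (hle : ∀ x : X, f.base x ∈ U → FlatMor.fibreDimAt f x ≤ e)
    (h : LocallyOfFinitePresentation f ∨ IsRetrocompact (U : Set S)) (x : X) :
    FlatMor.fibreDimAt f x ≤ e := by
  by_contra hx
  rw [not_le] at hx
  rcases h with hfp | hret
  · -- finite presentation: Chevalley
    obtain ⟨V, hV, hsV, -⟩ := exists_isAffineOpen_mem_and_subset (x := f x) (U := ⊤) trivial
    obtain ⟨W, hW, hxW, hWV⟩ := exists_isAffineOpen_mem_and_subset (x := x) (U := f ⁻¹ᵁ V) hsV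
    set f₁ : (W : Scheme.{u}) ⟶ (V : Scheme.{u}) := f.resLE V W hWV with hf₁
    have hfac : f₁ ≫ V.ι = W.ι ≫ f := Scheme.Hom.resLE_comp_ι f hWV
    haveI : IsAffine (W : Scheme.{u}) := hW
    haveI : IsAffine (V : Scheme.{u}) := hV
    haveI : LocallyOfFinitePresentation f₁ := by rw [hf₁]; infer_instance
    haveI : Flat f₁ := by rw [hf₁]; infer_instance
    haveI : QuasiCompact f₁ := inferInstance
    have hdim : ∀ w : (W : Scheme.{u}), FlatMor.fibreDimAt f₁ w = FlatMor.fibreDimAt f (W.ι w) :=
      fun w => Groth.Agent.Lib.helper5.FibreDimLocal.fibreDimAt_eq_of_comm W.ι V.ι f₁ f hfac.symm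
        W.ι.isOpenEmbedding V.ι.isOpenEmbedding.injective w
    set E₁ : Set (W : Scheme.{u}) := {w | FlatMor.fibreDimAt f₁ w ≤ (e : WithBot ℕ∞)}ᶜ with hE₁
    set T : Set (V : Scheme.{u}) := f₁ '' E₁ with hT
    have hTc : IsLocallyConstructible T :=
      f₁.isLocallyConstructible_image (FibreDimCons.isLocallyConstructible_compl
        (FibreDimCons.isLocallyConstructible_fibreDimAt_le f₁ e))
    have hTg : StableUnderGeneralization T := by
      rintro _ t hts ⟨w, hw, rfl⟩
      obtain ⟨w', hw't, hle'⟩ := exists_generization_fibreDimAt_le f₁ w t hts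
      refine ⟨w', ?_, hw't⟩
      simp only [hE₁, Set.mem_compl_iff, Set.mem_ofPred_eq, not_le] at hw ⊢
      exact lt_of_lt_of_le hw hle'
    have hTo : IsOpen T :=
      isOpen_of_isLocallyConstructible_of_stableUnderGeneralization hTc hTg
    have hTo' : IsOpen (V.ι '' T) := V.ι.isOpenEmbedding.isOpenMap T hTo
    have hne : (V.ι '' T).Nonempty := by
      refine ⟨f x, f₁ ⟨x, hxW⟩, ⟨⟨x, hxW⟩, ?_, rfl⟩, ?_⟩
      · simp only [hE₁, Set.mem_compl_iff, Set.mem_ofPred_eq, not_le]
        rw [hdim]
        exact hx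
      · rw [← Scheme.Hom.comp_apply, hfac]
        rfl
    obtain ⟨y, hyT, hyU⟩ := hU.inter_open_nonempty _ hTo' hne
    obtain ⟨_, ⟨w, hw, rfl⟩, rfl⟩ := hyT
    simp only [hE₁, Set.mem_compl_iff, Set.mem_ofPred_eq, not_le] at hw
    rw [hdim] at hw
    have h1 : V.ι (f₁ w) = f (W.ι w) := by
      rw [← Scheme.Hom.comp_apply, hfac]
      rfl
    rw [h1] at hyU
    exact absurd (hle _ hyU) (not_le.mpr hw)
  · -- retrocompact dense open: generizations in `U`
    haveI := quasiCompact_ι_of_isRetrocompact U hret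
    have hcl : f x ∈ closure (Set.range U.ι) := by
      rw [Scheme.Opens.range_ι, hU.closure_eq]
      trivial
    obtain ⟨u, hu⟩ :=
      Groth.Agent.Lib.Helper4.GlueClosedPoint.exists_specializes_of_mem_closure_range U.ι (f x) hcl
    obtain ⟨x', hx't, hle'⟩ := exists_generization_fibreDimAt_le f x (U.ι u) hu
    have h1 : f.base x' ∈ U := by
      rw [hx't]
      exact u.2
    exact absurd (lt_of_lt_of_le hx (hle'.trans (hle x' h1))) (lt_irrefl _)

end Groth.Agent.Lib.helper3.FlatFibreDimLSC
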