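import Mathlib
import Groth.Prelude.Def_Found
import Groth.Agent.Lib.Helper3.FlatFibreDimLSC2
import Groth.Agent.Lib.Helper3.QFinAffineSpace3
/-!
# A flat proper lfp morphism finite over a dense open is finite (helper3; = S0450)

* `locallyQuasiFinite_of_fibreDimAt_le_zero` : lft with all local fibre dimensions `≤ 0` is locally
  quasi-finite;
* `isFinite_of_flat_proper_finite_over_dense_open` (= S0450).
-/

set_option autoImplicit false
universe u
open CategoryTheory CategoryTheory.Limits AlgebraicGeometry Function Topology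

namespace Groth.Agent.Lib.helper3.FlatFibreDimLSC

theorem locallyQuasiFinite_of_fibreDimAt_le_zero {X S : Scheme.{u}} (f : X ⟶ S)
    [LocallyOfFiniteType f] (h : ∀ x : X, FlatMor.fibreDimAt f x ≤ ((0 : ℕ) : WithBot ℕ∞)) :
    LocallyQuasiFinite f := by
  apply Groth.Agent.S10310.lqf_of_isol
  intro x
  rw [← Groth.Agent.S10310.fibreDimAt_eq_zero_iff]
  obtain ⟨N, hN⟩ := NowhereDenseGen.exists_nat_fibreDimAt f x
  have h1 := h x
  rw [hN] at h1 ⊢
  have : N ≤ 0 := by exact_mod_cast h1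
  have hN0 : N = 0 := by omega
  rw [hN0]
  rfl

/-- **S0450.** -/
theorem isFinite_of_flat_proper_finite_over_dense_open {X S : Scheme.{u}} (f : X ⟶ S) [Flat f]
    [IsProper f] [LocallyOfFinitePresentation f] (U : S.Opens)
    (hU : Dense (U : Set ↑S)) [IsFinite (f ∣_ U)] : IsFinite f := by
  haveI : LocallyQuasiFinite f := by
    apply locallyQuasiFinite_of_fibreDimAt_le_zero
    refine fibreDimAt_le_of_le_over_dense_open f U hU 0 ?_ (Or.inl inferInstance)
    intro x hx
    have hcomm : (f ⁻¹ᵁ U).ι ≫ f = (f ∣_ U) ≫ U.ι := (morphismRestrict_ι f U).symm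
    have h1 := Groth.Agent.Lib.helper5.FibreDimLocal.fibreDimAt_eq_of_comm (f ⁻¹ᵁ U).ι U.ι
      (f ∣_ U) f hcomm (f ⁻¹ᵁ U).ι.isOpenEmbedding U.ι.isOpenEmbedding.injective ⟨x, hx⟩
    have h2 := (QFinAffineSpace.fibreDimAt_eq_zero_of_lqf (f ∣_ U) ⟨x, hx⟩).1
    rw [h1] at h2
    have h3 : (f ⁻¹ᵁ U).ι ⟨x, hx⟩ = x := rfl
    rw [h3] at h2
    rw [h2]
    rfl
  exact IsFinite.of_isProper_of_locallyQuasiFinite f

end Groth.Agent.Lib.helper3.FlatFibreDimLSC
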