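import Mathlib
import Groth.Prelude.Def_Found
import Groth.Agent.Lib.Helper3.FlatFiniteDense
import Groth.Agent.Lib.Helper3.FibreDimCons
/-!
# The locus of zero-dimensional fibres of a proper flat fp morphism is clopen (helper3; = S10889)
-/

set_option autoImplicit false
universe u
open CategoryTheory CategoryTheory.Limits AlgebraicGeometry Function Topology

namespace Groth.Agent.Lib.helper3.FlatFibreDimLSC

theorem dim_eq_bot_of_isEmpty (T : Type*) [TopologicalSpace T] [IsEmpty T] :
    topologicalKrullDim T = ⊥ := by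
  haveI : IsEmpty (TopologicalSpace.IrreducibleCloseds T) :=
    ⟨fun Z => by obtain ⟨x, -⟩ := Z.isIrreducible.nonempty; exact isEmptyElim x⟩
  unfold topologicalKrullDim
  exact Order.krullDim_eq_bot

theorem dim_preimage_eq {X Y : Scheme.{u}} (f : X ⟶ Y) (y : Y) :
    topologicalKrullDim (f.base ⁻¹' {y}) = topologicalKrullDim (f.fiber y) :=
  (IsHomeomorph.topologicalKrullDim_eq _ (f.fiberHomeo y).isHomeomorph).symm

/-- upper semicontinuity on the base for closed morphisms. -/
theorem isOpen_fibre_dim_le_of_isClosedMap {X Y : Scheme.{u}} (f : X ⟶ Y) [LocallyOfFiniteType f]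
    (hf : IsClosedMap f) (n : ℕ) :
    IsOpen {s : Y | topologicalKrullDim (f.fiber s) ≤ (n : WithBot ℕ∞)} := by
  rw [FibreDimCons.setOf_dim_le_eq]
  exact (hf _ (Groth.Agent.S0402.result f n).isClosed_compl).isOpen_compl

/-- **S10889.** -/
theorem isClopen_fibreDim_zero_locus_and_finite {X Y : Scheme.{u}} (f : X ⟶ Y) [IsProper f] [Flat f]
    [LocallyOfFinitePresentation f] :
    IsClopen {y : Y | topologicalKrullDim (f.base ⁻¹' {y}) = 0} ∧
      ∀ U : Y.Opens, (U : Set Y) ⊆ {y : Y | topologicalKrullDim (f.base ⁻¹' {y}) = 0} →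
        IsFinite (f ∣_ U) := by
  have hset : {y : Y | topologicalKrullDim (f.base ⁻¹' {y}) = 0} =
      {y : Y | topologicalKrullDim (f.fiber y) = 0} := by
    ext y
    simp only [Set.mem_ofPred_eq, dim_preimage_eq]
  rw [hset]
  have hcl : IsClosedMap f := f.isClosedMap
  refine ⟨⟨?_, ?_⟩, ?_⟩
  · -- closed: complement is `{dim < 0} ∪ {0 < dim}`
    rw [← isOpen_compl_iff]
    have : {y : Y | topologicalKrullDim (f.fiber y) = 0}ᶜ =
        {y : Y | ((0 : ℕ) : WithBot ℕ∞) < topologicalKrullDim (f.fiber y)} ∪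
          (Set.range f)ᶜ := by
      ext y
      simp only [Set.mem_compl_iff, Set.mem_ofPred_eq, Set.mem_union, Set.mem_range, not_exists]
      constructor
      · intro h
        rcases lt_or_gt_of_ne h with h1 | h1
        · right
          intro x hx
          have hne : Nonempty (f.fiber y) := ⟨(f.fiberHomeo y).symm ⟨x, hx⟩⟩
          have : (0 : WithBot ℕ∞) ≤ topologicalKrullDim (f.fiber y) := TopDim.dim_nonneg
          exact absurd h1 (not_lt.mpr this)
        · left
          exact_mod_cast h1
      · rintro (h | h) h0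
        · rw [h0] at h
          exact absurd h (lt_irrefl _)
        · have hne : Nonempty (f.fiber y) := by
            by_contra hne
            rw [not_nonempty_iff] at hne
            have : topologicalKrullDim (f.fiber y) = ⊥ := dim_eq_bot_of_isEmpty _
            rw [this] at h0
            exact absurd h0 (by simp)
          obtain ⟨z⟩ := hne
          exact h (f.fiberι y z) ((f.fiberHomeo y z).2)
    rw [this]
    exact (isOpen_lt_fibre_dim_of_flat f _).union (hcl.isClosed_range).isOpen_compl
  · -- open: `{⊥ < dim} ∩ {dim ≤ 0}`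
    have : {y : Y | topologicalKrullDim (f.fiber y) = 0} =
        {y : Y | ((0 : ℕ) : WithBot ℕ∞) ≤ topologicalKrullDim (f.fiber y)} ∩
          {y : Y | topologicalKrullDim (f.fiber y) ≤ ((0 : ℕ) : WithBot ℕ∞)} := by
      ext y
      simp only [Set.mem_ofPred_eq, Set.mem_inter_iff]
      constructor
      · intro h
        rw [h]
        exact ⟨le_refl _, le_refl _⟩
      · rintro ⟨h1, h2⟩
        exact le_antisymm h2 h1
    rw [this]
    refine IsOpen.inter ?_ (isOpen_fibre_dim_le_of_isClosedMap f hcl 0)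
    have h2 : {y : Y | ((0 : ℕ) : WithBot ℕ∞) ≤ topologicalKrullDim (f.fiber y)} =
        {y : Y | ⊥ < topologicalKrullDim (f.fiber y)} := by
      ext y
      simp only [Set.mem_ofPred_eq]
      constructor
      · intro h
        exact lt_of_lt_of_le (by simp) h
      · intro h
        have hne : Nonempty (f.fiber y) := by
          by_contra hne
          rw [not_nonempty_iff] at hne
          have : topologicalKrullDim (f.fiber y) = ⊥ := dim_eq_bot_of_isEmpty _
          rw [this] at h
          exact absurd h (lt_irrefl _)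
        exact_mod_cast TopDim.dim_nonneg (X := f.fiber y)
    rw [h2]
    exact isOpen_lt_fibre_dim_of_flat f _
  · intro U hU
    haveI : LocallyQuasiFinite (f ∣_ U) := by
      apply locallyQuasiFinite_of_fibreDimAt_le_zero
      intro x
      have hcomm : (f ⁻¹ᵁ U).ι ≫ f = (f ∣_ U) ≫ U.ι := (morphismRestrict_ι f U).symm
      have h1 := Groth.Agent.Lib.helper5.FibreDimLocal.fibreDimAt_eq_of_comm (f ⁻¹ᵁ U).ι U.ι
        (f ∣_ U) f hcomm (f ⁻¹ᵁ U).ι.isOpenEmbedding U.ι.isOpenEmbedding.injective x
      rw [h1]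
      have hy : f ((f ⁻¹ᵁ U).ι x) ∈ (U : Set Y) := x.2
      have h0 : topologicalKrullDim (f.fiber (f ((f ⁻¹ᵁ U).ι x))) = 0 := hU hy
      have h3 : f ((f ⁻¹ᵁ U).ι x) ∈ {s : Y | topologicalKrullDim (f.fiber s) ≤ ((0 : ℕ) : WithBot ℕ∞)} := by
        simp only [Set.mem_ofPred_eq, h0]
        rfl
      rw [FibreDimCons.setOf_dim_le_eq] at h3
      by_contra hcon
      exact h3 ⟨(f ⁻¹ᵁ U).ι x, hcon, rfl⟩
    exact IsFinite.of_isProper_of_locallyQuasiFinite (f ∣_ U)

end Groth.Agent.Lib.helper3.FlatFibreDimLSC
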