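import Mathlib
import Groth.Agent.Lib.Helper17.FibreStalk
/-!
# The map on fibre rings induced by a base change is flat (helper3)

For a cartesian square `P = X ×_S S'` and `x' : P` with images `x`, `s'`, `s`, the induced map
`O_{X,x} / m_s O_{X,x} → O_{P,x'} / m_{s'} O_{P,x'}` is flat.
-/

set_option autoImplicit false
set_option linter.style.haveILetI false
set_option linter.unusedSectionVars false
universe u

open CategoryTheory CategoryTheory.Limits AlgebraicGeometry TopologicalSpace IsLocalRing

namespace Groth.Agent.Lib.helper3.FibreFlatMap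

/-- Square lemma: a commutative square with surjective vertical maps and flat bottom map
induces a flat map on the quotients by the kernels. -/
theorem flat_quotientMap_of_square {A A' C C' : Type u} [CommRing A] [CommRing A'] [CommRing C]
    [CommRing C'] (φ : A →+* A') (p : A →+* C) (p' : A' →+* C') (γ : C →+* C')
    (hp : Function.Surjective p) (hp' : Function.Surjective p')
    (hc : γ.comp p = p'.comp φ) (hγ : γ.Flat) :
    ∃ hle : RingHom.ker p ≤ (RingHom.ker p').comap φ,
      (Ideal.quotientMap (RingHom.ker p') φ hle).Flat := by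
  have hle : RingHom.ker p ≤ (RingHom.ker p').comap φ := by
    intro a ha
    rw [Ideal.mem_comap, RingHom.mem_ker]
    have := RingHom.congr_fun hc a
    simp only [RingHom.comp_apply] at this
    rw [← this, (RingHom.mem_ker).mp ha, map_zero]
  refine ⟨hle, ?_⟩
  let e : A ⧸ RingHom.ker p ≃+* C := RingHom.quotientKerEquivOfSurjective hp
  let e' : A' ⧸ RingHom.ker p' ≃+* C' := RingHom.quotientKerEquivOfSurjective hp'
  have key : Ideal.quotientMap (RingHom.ker p') φ hle =
      (e'.symm.toRingHom).comp (γ.comp e.toRingHom) := by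
    apply Ideal.Quotient.ringHom_ext
    ext a
    simp only [RingHom.comp_apply, Ideal.quotientMap_mk, RingEquiv.toRingHom_eq_coe,
      RingHom.coe_coe]
    rw [RingEquiv.eq_symm_apply]
    have := RingHom.congr_fun hc a
    simp only [RingHom.comp_apply] at this
    show e' (Ideal.Quotient.mk _ (φ a)) = γ (e (Ideal.Quotient.mk _ a))
    rw [show e' (Ideal.Quotient.mk _ (φ a)) = p' (φ a) from
        RingHom.quotientKerEquivOfSurjective_apply_mk hp' (φ a),
      show e (Ideal.Quotient.mk _ a) = p a from
        RingHom.quotientKerEquivOfSurjective_apply_mk hp a, this]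
  rw [key]
  exact RingHom.Flat.comp (RingHom.Flat.comp (RingHom.Flat.of_bijective e.bijective) hγ)
    (RingHom.Flat.of_bijective e'.symm.bijective)

/-- kernel of the stalk map of a fibre inclusion, base point transported along an equality. -/
theorem ker_comp_stalkSpecializes {V W Vw : Scheme.{u}} (h2 : V ⟶ W) (w : W) (ιV : Vw ⟶ V)
    (pV : Vw ⟶ Spec (W.residueField w)) (sqV : IsPullback ιV pV h2 (W.fromSpecResidueField w))
    (y : Vw) (v : V) (hv : ιV y = v) :
    RingHom.ker ((ιV.stalkMap y).hom.comp
      (V.presheaf.stalkSpecializes (specializes_of_eq hv)).hom) =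
      (maximalIdeal (W.presheaf.stalk (h2 v))).map (h2.stalkMap v).hom := by
  subst hv
  have : (V.presheaf.stalkSpecializes (specializes_of_eq (rfl : ιV y = ιV y))) = 𝟙 _ :=
    TopCat.Presheaf.stalkSpecializes_refl _ _
  rw [this]
  change RingHom.ker ((ιV.stalkMap y).hom.comp (RingHom.id _)) = _
  rw [RingHom.comp_id]
  exact Groth.Agent.Lib.helper17.FibreStalk.ker_stalkMap_of_isPullback h2 w ιV pV sqV y

theorem flat_of_field {K L : CommRingCat.{u}} (φ : K ⟶ L) (hK : IsField K) : φ.hom.Flat := by
  letI : Field K := hK.toField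
  letI : Algebra K L := φ.hom.toAlgebra
  show Module.Flat K L
  infer_instance

variable {P X S S' : Scheme.{u}} {a : P ⟶ X} {b : P ⟶ S'} {f : X ⟶ S} {g : S' ⟶ S}

/-- The fibre-ring map at a point of the fibre of `b` over `s'`. -/
theorem flat_fibre_map_aux (H : IsPullback a b f g) (s' : S') (z' : b.fiber s') :
    ∃ hle : (maximalIdeal (S.presheaf.stalk (f (a (b.fiberι s' z'))))).map
          (f.stalkMap (a (b.fiberι s' z'))).hom ≤
        ((maximalIdeal (S'.presheaf.stalk (b (b.fiberι s' z')))).map
          (b.stalkMap (b.fiberι s' z')).hom).comap (a.stalkMap (b.fiberι s' z')).hom,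
      (Ideal.quotientMap _ (a.stalkMap (b.fiberι s' z')).hom hle).Flat := by
  set ι' := b.fiberι s' with hι'
  set π' := b.fiberToSpecResidueField s' with hπ'
  have sq' : IsPullback ι' π' b (S'.fromSpecResidueField s') := IsPullback.of_hasPullback _ _
  set ι := f.fiberι (g s') with hι
  set π := f.fiberToSpecResidueField (g s') with hπ
  have sq : IsPullback ι π f (S.fromSpecResidueField (g s')) := IsPullback.of_hasPullback _ _
  let c : b.fiber s' ⟶ f.fiber (g s') :=
    pullback.map _ _ _ _ a (Spec.map (g.residueFieldMap s')) g H.w.symm (by simp)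
  have hcsq : IsPullback c π' π (Spec.map (g.residueFieldMap s')) :=
    isPullback_fiberToSpecResidueField_of_isPullback H s'
  have hcι : c ≫ ι = ι' ≫ a := by
    simp only [c, hι, hι', Scheme.Hom.fiberι]
    exact pullback.lift_fst _ _ _
  haveI : Flat (Spec.map (g.residueFieldMap s')) := by
    rw [HasRingHomProperty.Spec_iff (P := @Flat)]
    exact flat_of_field _ (Field.toIsField _)
  haveI : Flat c := MorphismProperty.of_isPullback (P := @Flat) hcsq.flip inferInstance
  have hγ : (c.stalkMap z').hom.Flat := Flat.stalkMap c z'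
  have hv : ι (c z') = a (ι' z') := by
    have := congr(($hcι) z')
    rwa [Scheme.Hom.comp_apply, Scheme.Hom.comp_apply] at this
  set p : X.presheaf.stalk (a (ι' z')) →+* (f.fiber (g s')).presheaf.stalk (c z') :=
    (ι.stalkMap (c z')).hom.comp (X.presheaf.stalkSpecializes (specializes_of_eq hv)).hom with hp
  have hkp : RingHom.ker p = (maximalIdeal (S.presheaf.stalk (f (a (ι' z'))))).map
      (f.stalkMap (a (ι' z'))).hom :=
    ker_comp_stalkSpecializes f (g s') ι π sq (c z') (a (ι' z')) hv
  have hkp' : RingHom.ker (ι'.stalkMap z').hom =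
      (maximalIdeal (S'.presheaf.stalk (b (ι' z')))).map (b.stalkMap (ι' z')).hom :=
    Groth.Agent.Lib.helper17.FibreStalk.ker_stalkMap_of_isPullback b s' ι' π' sq' z'
  have hps : Function.Surjective p := by
    refine (ι.stalkMap_surjective (c z')).comp ?_
    exact (ConcreteCategory.bijective_of_isIso
      (X.presheaf.stalkCongr (Inseparable.of_eq hv.symm)).hom).2
  have hps' : Function.Surjective (ι'.stalkMap z').hom := ι'.stalkMap_surjective z'
  have hcomm : (c.stalkMap z').hom.comp p =
      (ι'.stalkMap z').hom.comp (a.stalkMap (ι' z')).hom := by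
    have h1 := Scheme.Hom.stalkMap_congr_hom (ι' ≫ a) (c ≫ ι) hcι.symm z'
    rw [Scheme.Hom.stalkMap_comp, Scheme.Hom.stalkMap_comp] at h1
    have h2 := congr(($h1).hom)
    rw [hp]
    exact h2.symm
  obtain ⟨hle, hfl⟩ := flat_quotientMap_of_square (a.stalkMap (ι' z')).hom p
    (ι'.stalkMap z').hom (c.stalkMap z').hom hps hps' hcomm hγ
  have hle' : (maximalIdeal (S.presheaf.stalk (f (a (ι' z'))))).map
          (f.stalkMap (a (ι' z'))).hom ≤
        ((maximalIdeal (S'.presheaf.stalk (b (ι' z')))).map
          (b.stalkMap (ι' z')).hom).comap (a.stalkMap (ι' z')).hom := by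
    rw [← hkp, ← hkp']
    exact hle
  refine ⟨hle', ?_⟩
  revert hle hfl hle'
  rw [hkp, hkp']
  intro hle hfl hle'
  exact hfl

/-- The fibre-ring map at an arbitrary point `x'` of `P`. -/
theorem flat_fibre_map' (H : IsPullback a b f g) (x' : P) :
    ∃ hle : (maximalIdeal (S.presheaf.stalk (f (a x')))).map (f.stalkMap (a x')).hom ≤
        ((maximalIdeal (S'.presheaf.stalk (b x'))).map (b.stalkMap x').hom).comap
          (a.stalkMap x').hom,
      (Ideal.quotientMap _ (a.stalkMap x').hom hle).Flat := by
  have key : ∀ (x'' : P), x'' = x' →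
      (∃ hle : (maximalIdeal (S.presheaf.stalk (f (a x'')))).map (f.stalkMap (a x'')).hom ≤
        ((maximalIdeal (S'.presheaf.stalk (b x''))).map (b.stalkMap x'').hom).comap
          (a.stalkMap x'').hom,
      (Ideal.quotientMap _ (a.stalkMap x'').hom hle).Flat) →
      (∃ hle : (maximalIdeal (S.presheaf.stalk (f (a x')))).map (f.stalkMap (a x')).hom ≤
        ((maximalIdeal (S'.presheaf.stalk (b x'))).map (b.stalkMap x').hom).comap
          (a.stalkMap x').hom,
      (Ideal.quotientMap _ (a.stalkMap x').hom hle).Flat) := by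
    rintro _ rfl h
    exact h
  exact key _ (b.fiberι_asFiber x') (flat_fibre_map_aux H (b x') (b.asFiber x'))

/-- The fibre-ring map at an arbitrary point `x'` of `P`, the base point `x` of `X` being only
propositionally equal to `a x'`. -/
theorem flat_fibre_map (H : IsPullback a b f g) (x' : P) (x : X) (hx : a x' = x) :
    ∃ hle : (maximalIdeal (S.presheaf.stalk (f x))).map (f.stalkMap x).hom ≤
        ((maximalIdeal (S'.presheaf.stalk (b x'))).map (b.stalkMap x').hom).comap
          ((a.stalkMap x').hom.comp (X.presheaf.stalkSpecializes (specializes_of_eq hx)).hom),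
      (Ideal.quotientMap _ ((a.stalkMap x').hom.comp
        (X.presheaf.stalkSpecializes (specializes_of_eq hx)).hom) hle).Flat := by
  subst hx
  have key : ∀ (ψ : X.presheaf.stalk (a x') →+* P.presheaf.stalk x'),
      ψ = (a.stalkMap x').hom →
      ∃ hle : (maximalIdeal (S.presheaf.stalk (f (a x')))).map (f.stalkMap (a x')).hom ≤
        ((maximalIdeal (S'.presheaf.stalk (b x'))).map (b.stalkMap x').hom).comap ψ,
      (Ideal.quotientMap _ ψ hle).Flat := by
    rintro _ rfl
    exact flat_fibre_map' H x'
  apply key
  have : (X.presheaf.stalkSpecializes (specializes_of_eq (rfl : a x' = a x'))) = 𝟙 _ :=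
    TopCat.Presheaf.stalkSpecializes_refl _ _
  rw [this]
  rfl

end Groth.Agent.Lib.helper3.FibreFlatMap
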