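import Mathlib
import Groth.Prelude.Def_Flat
import Groth.Agent.S0402
import Groth.Agent.Lib.Helper3.IrredDim
import Groth.Agent.Lib.Helper3.EquidimAt
import Groth.Agent.Lib.Helper3.DimFibreMin
import Groth.Agent.Lib.Helper3.FibreGeneric
import Groth.Agent.Lib.Helper3.FibreDimNat
/-!
# Helper library (helper3): morphisms of schemes of finite type over a field whose closed fibres are
irreducible of constant dimension `d`.

* `exists_isOpen_subset_of_isConstructible` : a constructible set containing a generic point contains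
  an open neighbourhood of it;
* `fibreDimAt_eq_of_isIrreducible` : `dim_x f⁻¹(f x) = d` if the fibre through `x` is irreducible of
  dimension `d`;
* `td_eq_of_maximal` : for a maximal point `ξ` of `X`: `trdeg κ(ξ)/κ(f ξ) = d`;
* `dim_closure_eq_add` : `dim closure{ξ} = d + dim closure (f '' closure{ξ})`.
-/

set_option autoImplicit false
universe u
open CategoryTheory AlgebraicGeometry Function Topology

namespace Groth.Agent.Lib.helper3.FibreIrred

open Groth.Agent.Lib.helper3.DimIneq Groth.Agent.Lib.helper3.FTField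
  Groth.Agent.Lib.helper3.RelDim Groth.Agent.Lib.helper3.FibreField
  Groth.Agent.Lib.helper3.IrredDim Groth.Agent.Lib.helper3.EquidimAt
  Groth.Agent.Lib.helper3.DimFibre

/-- a constructible set containing a generic point contains an open neighbourhood of it. -/
theorem exists_isOpen_subset_of_isConstructible {T : Type*} [TopologicalSpace T] (η : T)
    (hη : ∀ U : Set T, IsOpen U → U.Nonempty → η ∈ U) {s : Set T} (hs : IsConstructible s) :
    (η ∈ s → ∃ U : Set T, IsOpen U ∧ η ∈ U ∧ U ⊆ s) ∧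
      (η ∉ s → ∃ U : Set T, IsOpen U ∧ η ∈ U ∧ U ⊆ sᶜ) := by
  induction hs using IsConstructible.empty_union_induction with
  | open_retrocompact U hUo hUc =>
    refine ⟨fun h => ⟨U, hUo, h, subset_rfl⟩, fun h => ⟨Set.univ, isOpen_univ, trivial, ?_⟩⟩
    intro x _ hx
    exact h (hη U hUo ⟨x, hx⟩)
  | union s hs t ht ihs iht =>
    constructor
    · rintro (h | h)
      · obtain ⟨U, hU, hηU, hUs⟩ := ihs.1 h
        exact ⟨U, hU, hηU, hUs.trans Set.subset_union_left⟩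
      · obtain ⟨U, hU, hηU, hUs⟩ := iht.1 h
        exact ⟨U, hU, hηU, hUs.trans Set.subset_union_right⟩
    · intro h
      obtain ⟨U, hU, hηU, hUs⟩ := ihs.2 (fun h' => h (Or.inl h'))
      obtain ⟨V, hV, hηV, hVt⟩ := iht.2 (fun h' => h (Or.inr h'))
      refine ⟨U ∩ V, hU.inter hV, ⟨hηU, hηV⟩, ?_⟩
      rintro x ⟨hxU, hxV⟩ (hx | hx)
      · exact hUs hxU hx
      · exact hVt hxV hx
  | compl s hs ih =>
    refine ⟨fun h => ih.2 h, fun h => ?_⟩
    rw [compl_compl]
    exact ih.1 (not_not.mp h)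

variable {X Y : Scheme.{u}} (f : X ⟶ Y)

/-- if the fibre through `x` is irreducible of dimension `d` then `dim_x f⁻¹(f x) = d`. -/
theorem fibreDimAt_eq_of_isIrreducible [LocallyOfFiniteType f] (x : X) (d : ℕ)
    (hirr : IsIrreducible (f ⁻¹' {f x}))
    (hdim : topologicalKrullDim ↥(f ⁻¹' {f x}) = (d : WithBot ℕ∞)) :
    FlatMor.fibreDimAt f x = (d : WithBot ℕ∞) := by
  letI := fiberOver f (f x)
  haveI : LocallyOfFiniteType ((f.fiber (f x)) ↘ Spec (CommRingCat.of (Y.residueField (f x)))) :=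
    locallyOfFiniteType_fiber f (f x)
  have e := f.fiberHomeo (f x)
  haveI : IrreducibleSpace ↥(f ⁻¹' {f x}) := Subtype.irreducibleSpace hirr
  haveI : IrreducibleSpace (f.fiber (f x)) := e.irreducibleSpace_iff.mpr inferInstance
  apply localDim_eq_of_forall_irreducibleComponents (Y.residueField (f x)) (f.fiber (f x)) d
  intro T hT
  rw [irreducibleComponents_eq_singleton] at hT
  rw [Set.mem_singleton_iff.mp hT, dim_univ_eq, ← hdim]
  exact IsHomeomorph.topologicalKrullDim_eq _ e.isHomeomorph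

section field

theorem lft_of_comp (k : Type u) [Field k] {X Y : Scheme.{u}} (qX : X ⟶ Spec (CommRingCat.of k))
    (qY : Y ⟶ Spec (CommRingCat.of k)) [LocallyOfFiniteType qX] (f : X ⟶ Y) (hf : f ≫ qY = qX) :
    LocallyOfFiniteType f := by
  haveI : LocallyOfFiniteType (f ≫ qY) := by rw [hf]; infer_instance
  exact locallyOfFiniteType_of_comp f qY

theorem isClosed_map_of_isClosed (k : Type u) [Field k] {X Y : Scheme.{u}}
    (qX : X ⟶ Spec (CommRingCat.of k))
    (qY : Y ⟶ Spec (CommRingCat.of k)) [LocallyOfFiniteType qX] [LocallyOfFiniteType qY]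
    (f : X ⟶ Y) (hf : f ≫ qY = qX) (x : X) (hx : IsClosed ({x} : Set X)) :
    IsClosed ({f x} : Set Y) := by
  haveI := lft_of_comp k qX qY f hf
  haveI : JacobsonSpace Y := LocallyOfFiniteType.jacobsonSpace (Y := Spec _) qY
  exact mem_closedPoints_iff.mp
    (f.closePoints_subset_preimage_closedPoints (mem_closedPoints_iff.mpr hx))

theorem fibreDimAt_eq_of_isClosed (k : Type u) [Field k] {X Y : Scheme.{u}}
    (qX : X ⟶ Spec (CommRingCat.of k))
    (qY : Y ⟶ Spec (CommRingCat.of k)) [LocallyOfFiniteType qX] [LocallyOfFiniteType qY]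
    (f : X ⟶ Y) (hf : f ≫ qY = qX) (d : ℕ)
    (hirr : ∀ y : Y, IsClosed ({y} : Set Y) → IsIrreducible (f ⁻¹' {y}))
    (hdim : ∀ y : Y, IsClosed ({y} : Set Y) → topologicalKrullDim ↥(f ⁻¹' {y}) = (d : WithBot ℕ∞))
    (x : X) (hx : IsClosed ({x} : Set X)) :
    FlatMor.fibreDimAt f x = (d : WithBot ℕ∞) := by
  haveI := lft_of_comp k qX qY f hf
  have hfx := isClosed_map_of_isClosed k qX qY f hf x hx
  exact fibreDimAt_eq_of_isIrreducible f x d (hirr _ hfx) (hdim _ hfx)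

/-- for a maximal point `ξ` of `X`: `trdeg κ(ξ)/κ(f ξ) = d`. -/
theorem td_eq_of_maximal (k : Type u) [Field k] {X Y : Scheme.{u}}
    (qX : X ⟶ Spec (CommRingCat.of k))
    (qY : Y ⟶ Spec (CommRingCat.of k)) [LocallyOfFiniteType qX] [LocallyOfFiniteType qY]
    (f : X ⟶ Y) (hf : f ≫ qY = qX) (d : ℕ)
    (hirr : ∀ y : Y, IsClosed ({y} : Set Y) → IsIrreducible (f ⁻¹' {y}))
    (hdim : ∀ y : Y, IsClosed ({y} : Set Y) → topologicalKrullDim ↥(f ⁻¹' {y}) = (d : WithBot ℕ∞))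
    (ξ : X) (hξ : closure ({ξ} : Set X) ∈ irreducibleComponents X) :
    td (f.residueFieldMap ξ).hom = (d : Cardinal.{u}) := by
  haveI := lft_of_comp k qX qY f hf
  haveI : JacobsonSpace X := LocallyOfFiniteType.jacobsonSpace (Y := Spec _) qX
  obtain ⟨a, b, ha, hb, hab⟩ := fibreDimAt_eq_add f ξ
  have hmax : ∀ x' : X, x' ⤳ ξ → f x' = f ξ → x' = ξ := fun x' h _ =>
    eq_of_specializes_of_closure_mem_irreducibleComponents ξ hξ x' h
  have hfd := fibreDimAt_eq_td_of_forall f ξ hmax a ha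
  obtain ⟨x, hxZ, hxc⟩ := nonempty_inter_closedPoints (X := X) (Z := closure {ξ})
    ⟨ξ, subset_closure rfl⟩ isClosed_closure.isLocallyClosed
  have hx1 := fibreDimAt_eq_of_isClosed k qX qY f hf d hirr hdim x (mem_closedPoints_iff.mp hxc)
  have h1 : a ≤ d := by
    have hopen := Groth.Agent.S0402.result f d
    have hx' : x ∈ {x : X | FlatMor.fibreDimAt f x ≤ (d : WithBot ℕ∞)} := by
      rw [Set.mem_ofPred_eq, hx1]
    have hsp : ξ ⤳ x := specializes_iff_mem_closure.mpr hxZ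
    have := hsp.mem_open hopen hx'
    rw [Set.mem_ofPred_eq, hfd] at this
    exact_mod_cast this
  have h2 : d ≤ a := by
    have hopen := Groth.Agent.S0402.result f a
    have hξ' : ξ ∈ {x : X | FlatMor.fibreDimAt f x ≤ (a : WithBot ℕ∞)} := by
      rw [Set.mem_ofPred_eq, hfd]
    obtain ⟨x', hx'U, hx'c⟩ := nonempty_inter_closedPoints (X := X) ⟨ξ, hξ'⟩ hopen.isLocallyClosed
    have := fibreDimAt_eq_of_isClosed k qX qY f hf d hirr hdim x' (mem_closedPoints_iff.mp hx'c)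
    rw [Set.mem_ofPred_eq, this] at hx'U
    exact_mod_cast hx'U
  rw [ha, le_antisymm h1 h2]

/-- `trdeg_k κ(ξ) = d + trdeg_k κ(f ξ)` for maximal points, in natural numbers. -/
theorem trdeg_eq_add_of_maximal (k : Type u) [Field k] {X Y : Scheme.{u}}
    (qX : X ⟶ Spec (CommRingCat.of k))
    (qY : Y ⟶ Spec (CommRingCat.of k)) [LocallyOfFiniteType qX] [LocallyOfFiniteType qY]
    (f : X ⟶ Y) (hf : f ≫ qY = qX) (d : ℕ)
    (hirr : ∀ y : Y, IsClosed ({y} : Set Y) → IsIrreducible (f ⁻¹' {y}))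
    (hdim : ∀ y : Y, IsClosed ({y} : Set Y) → topologicalKrullDim ↥(f ⁻¹' {y}) = (d : WithBot ℕ∞))
    (ξ : X) (hξ : closure ({ξ} : Set X) ∈ irreducibleComponents X) (n m : ℕ)
    (hn : @Algebra.trdeg k (X.residueField ξ) _ _ (@Curv2.resAlgebra k _ X ⟨qX⟩ ξ) = n)
    (hm : @Algebra.trdeg k (Y.residueField (f ξ)) _ _ (@Curv2.resAlgebra k _ Y ⟨qY⟩ (f ξ)) = m) :
    n = d + m := by
  have h1 := trdeg_residueField_add k qX qY f hf ξ
  rw [td_eq_of_maximal k qX qY f hf d hirr hdim ξ hξ] at h1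
  have hn' : td (@Curv2.resMap k _ X ⟨qX⟩ ξ) = n := hn
  have hm' : td (@Curv2.resMap k _ Y ⟨qY⟩ (f ξ)) = m := hm
  rw [hn', hm'] at h1
  have : ((n : ℕ) : Cardinal.{u}) = ((m + d : ℕ) : Cardinal.{u}) := by
    push_cast; exact h1
  have := Nat.cast_injective this
  omega

/-- `dim closure{ξ} = d + dim closure (f '' closure{ξ})` for maximal points `ξ`. -/
theorem dim_closure_eq_add (k : Type u) [Field k] {X Y : Scheme.{u}}
    (qX : X ⟶ Spec (CommRingCat.of k))
    (qY : Y ⟶ Spec (CommRingCat.of k)) [LocallyOfFiniteType qX] [LocallyOfFiniteType qY]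
    (f : X ⟶ Y) (hf : f ≫ qY = qX) (d : ℕ)
    (hirr : ∀ y : Y, IsClosed ({y} : Set Y) → IsIrreducible (f ⁻¹' {y}))
    (hdim : ∀ y : Y, IsClosed ({y} : Set Y) → topologicalKrullDim ↥(f ⁻¹' {y}) = (d : WithBot ℕ∞))
    (ξ : X) (hξ : closure ({ξ} : Set X) ∈ irreducibleComponents X) :
    topologicalKrullDim ↥(closure ({ξ} : Set X)) =
      (d : WithBot ℕ∞) + topologicalKrullDim ↥(closure (f '' closure ({ξ} : Set X))) := by
  letI : X.Over (Spec (CommRingCat.of k)) := ⟨qX⟩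
  letI : Y.Over (Spec (CommRingCat.of k)) := ⟨qY⟩
  haveI : LocallyOfFiniteType (X ↘ Spec (CommRingCat.of k)) := ‹LocallyOfFiniteType qX›
  haveI : LocallyOfFiniteType (Y ↘ Spec (CommRingCat.of k)) := ‹LocallyOfFiniteType qY›
  obtain ⟨n, hn⟩ := exists_nat_trdeg_residueField k X ξ
  obtain ⟨m, hm⟩ := exists_nat_trdeg_residueField k Y (f ξ)
  have hnm := trdeg_eq_add_of_maximal k qX qY f hf d hirr hdim ξ hξ n m hn hm
  have hcl : closure (f '' closure ({ξ} : Set X)) = closure ({f ξ} : Set Y) := by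
    rw [closure_image_closure f.continuous, Set.image_singleton]
  rw [hcl, dim_closure_eq_trdeg k X ξ n hn, dim_closure_eq_trdeg k Y (f ξ) m hm, hnm]
  push_cast
  rfl

/-- an irreducible component meeting a closed fibre contains it. -/
theorem fibre_subset_closure (k : Type u) [Field k] {X Y : Scheme.{u}}
    (qX : X ⟶ Spec (CommRingCat.of k))
    (qY : Y ⟶ Spec (CommRingCat.of k)) [LocallyOfFiniteType qX] [LocallyOfFiniteType qY]
    (f : X ⟶ Y) (hf : f ≫ qY = qX) (d : ℕ)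
    (hirr : ∀ y : Y, IsClosed ({y} : Set Y) → IsIrreducible (f ⁻¹' {y}))
    (hdim : ∀ y : Y, IsClosed ({y} : Set Y) → topologicalKrullDim ↥(f ⁻¹' {y}) = (d : WithBot ℕ∞))
    (ξ : X) (hξ : closure ({ξ} : Set X) ∈ irreducibleComponents X) (x : X)
    (hxZ : x ∈ closure ({ξ} : Set X)) (hy : IsClosed ({f x} : Set Y)) :
    f ⁻¹' {f x} ⊆ closure ({ξ} : Set X) := by
  classical
  haveI := lft_of_comp k qX qY f hf
  letI : X.Over (Spec (CommRingCat.of k)) := ⟨qX⟩
  letI : Y.Over (Spec (CommRingCat.of k)) := ⟨qY⟩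
  haveI : LocallyOfFiniteType (X ↘ Spec (CommRingCat.of k)) := ‹LocallyOfFiniteType qX›
  haveI : LocallyOfFiniteType (Y ↘ Spec (CommRingCat.of k)) := ‹LocallyOfFiniteType qY›
  haveI hXN : IsLocallyNoetherian X := isLocallyNoetherian_of_lft k X
  haveI hYN : IsLocallyNoetherian Y := isLocallyNoetherian_of_lft k Y
  -- generic point of the fibre
  obtain ⟨ζ, hζ⟩ := QuasiSober.sober (hirr _ hy) (hy.preimage f.continuous)
  have hζdef : closure ({ζ} : Set X) = f ⁻¹' {f x} := hζ.def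
  suffices hζξ : ξ ⤳ ζ by
    rw [← hζdef]
    exact closure_minimal (Set.singleton_subset_iff.mpr hζξ.mem_closure) isClosed_closure
  have hfζ : f ζ = f x := by
    have : ζ ∈ f ⁻¹' {f x} := by rw [← hζdef]; exact subset_closure rfl
    exact this
  -- charts
  obtain ⟨V, hV, hyV, -⟩ := exists_isAffineOpen_mem_and_subset (x := f x) (U := ⊤) trivial
  obtain ⟨U, hU, hxU, e⟩ := exists_isAffineOpen_mem_and_subset (x := x) (U := f ⁻¹ᵁ V) hyV
  haveI : IsNoetherianRing Γ(Y, V) := IsLocallyNoetherian.component_noetherian ⟨V, hV⟩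
  haveI : IsNoetherianRing Γ(X, U) := IsLocallyNoetherian.component_noetherian ⟨U, hU⟩
  have hspξ : ξ ⤳ x := specializes_iff_mem_closure.mpr hxZ
  have hξU : ξ ∈ U := hspξ.mem_open U.isOpen hxU
  have hspζ : ζ ⤳ x := by
    rw [specializes_iff_mem_closure, hζdef]; rfl
  have hζU : ζ ∈ U := hspζ.mem_open U.isOpen hxU
  have hI : ∀ (w : X) (hw : w ∈ U), (hU.primeIdealOf ⟨w, hw⟩).asIdeal.comap (f.appLE V U e).hom =
      (hV.primeIdealOf ⟨f w, e hw⟩).asIdeal := by
    intro w hw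
    have := IsAffineOpen.comap_primeIdealOf_appLE (f := f) (x := w) V hV U hU e hw
    exact congrArg PrimeSpectrum.asIdeal this
  have hq0q : (hU.primeIdealOf ⟨ξ, hξU⟩).asIdeal ≤ (hU.primeIdealOf ⟨x, hxU⟩).asIdeal :=
    (specializes_iff_primeIdealOf_le hU ξ x hξU hxU).mp hspξ
  have hIq : (hU.primeIdealOf ⟨ξ, hξU⟩).asIdeal ⊔
      (hV.primeIdealOf ⟨f x, hyV⟩).asIdeal.map (f.appLE V U e).hom ≤
      (hU.primeIdealOf ⟨x, hxU⟩).asIdeal := by
    refine sup_le hq0q ?_
    rw [Ideal.map_le_iff_le_comap, hI x hxU]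
  obtain ⟨qz, hqzmin, hqzq⟩ := Ideal.exists_minimalPrimes_le hIq
  haveI : qz.IsPrime := hqzmin.1.1
  obtain ⟨z, hzU, hzq⟩ := exists_point_of_prime hU qz
  subst hzq
  have hξz : (hU.primeIdealOf ⟨ξ, hξU⟩).asIdeal ≤ (hU.primeIdealOf ⟨z, hzU⟩).asIdeal :=
    le_sup_left.trans hqzmin.1.2
  have hspξz : ξ ⤳ z := (specializes_iff_primeIdealOf_le hU ξ z hξU hzU).mpr hξz
  have hzc : (hU.primeIdealOf ⟨z, hzU⟩).asIdeal.comap (f.appLE V U e).hom =
      (hV.primeIdealOf ⟨f x, hyV⟩).asIdeal := by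
    apply le_antisymm
    · rw [← hI x hxU]
      exact Ideal.comap_mono hqzq
    · rw [← Ideal.map_le_iff_le_comap]
      exact le_sup_right.trans hqzmin.1.2
  have hfz : f z = f x := by
    apply eq_of_primeIdealOf_eq hV (f z) (f x) (e hzU) hyV
    rw [← hI z hzU, hzc]
  have hle5 := height_map_le_of_mem_minimalPrimes (f.appLE V U e).hom
    (hU.primeIdealOf ⟨ξ, hξU⟩).asIdeal (hU.primeIdealOf ⟨z, hzU⟩).asIdeal
    (hV.primeIdealOf ⟨f x, hyV⟩).asIdeal hqzmin hzc
  rw [height_map_congr (hI ξ hξU) rfl] at hle5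
  -- the dimension formulas
  have hp0p : (hV.primeIdealOf ⟨f ξ, e hξU⟩).asIdeal ≤ (hV.primeIdealOf ⟨f x, hyV⟩).asIdeal :=
    (specializes_iff_primeIdealOf_le hV _ _ (e hξU) hyV).mp (hspξ.map f.continuous)
  obtain ⟨n, hn⟩ := exists_nat_trdeg_residueField k X ξ
  obtain ⟨m, hm⟩ := exists_nat_trdeg_residueField k Y (f ξ)
  obtain ⟨tz, htz⟩ := exists_nat_trdeg_residueField k X z
  obtain ⟨tζ, htζ⟩ := exists_nat_trdeg_residueField k X ζ
  have hnm := trdeg_eq_add_of_maximal k qX qY f hf d hirr hdim ξ hξ n m hn hm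
  have hty := trdeg_residueField_eq_zero_of_isClosed k Y (f x) hy
  have F1 := height_map_add_trdeg_residueField k X hU ξ z hξU hzU hξz
  have F2 := height_map_add_trdeg_residueField k Y hV (f ξ) (f x) (e hξU) hyV hp0p
  rw [htz, hn] at F1
  rw [hty, hm, add_zero] at F2
  haveI := map_mk_isPrime _ _ hp0p
  haveI := map_mk_isPrime _ _ hξz
  obtain ⟨h1, hh1⟩ := ENat.ne_top_iff_exists.mp
    (Ideal.height_ne_top_of_isPrime (I := (hU.primeIdealOf ⟨z, hzU⟩).asIdeal.map
      (Ideal.Quotient.mk (hU.primeIdealOf ⟨ξ, hξU⟩).asIdeal)))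
  obtain ⟨h2, hh2⟩ := ENat.ne_top_iff_exists.mp
    (Ideal.height_ne_top_of_isPrime (I := (hV.primeIdealOf ⟨f x, hyV⟩).asIdeal.map
      (Ideal.Quotient.mk (hV.primeIdealOf ⟨f ξ, e hξU⟩).asIdeal)))
  have hF1 : h1 + tz = n := by
    rw [← hh1] at F1
    have : ((h1 + tz : ℕ) : Cardinal.{u}) = ((n : ℕ) : Cardinal.{u}) := by
      push_cast
      exact_mod_cast F1
    exact_mod_cast this
  have hF2 : h2 = m := by
    rw [← hh2] at F2
    have : ((h2 : ℕ) : Cardinal.{u}) = ((m : ℕ) : Cardinal.{u}) := by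
      exact_mod_cast F2
    exact_mod_cast this
  have hh12 : h1 ≤ h2 := by
    rw [← hh1, ← hh2] at hle5
    exact_mod_cast hle5
  have htzd : d ≤ tz := by omega
  -- `ζ ⤳ z`
  have hspζz : ζ ⤳ z := by
    rw [specializes_iff_mem_closure, hζdef]; exact hfz
  have hζz : (hU.primeIdealOf ⟨ζ, hζU⟩).asIdeal ≤ (hU.primeIdealOf ⟨z, hzU⟩).asIdeal :=
    (specializes_iff_primeIdealOf_le hU ζ z hζU hzU).mp hspζz
  have hdζ := dim_closure_eq_trdeg k X ζ tζ htζ
  rw [hζdef, hdim _ hy] at hdζ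
  have htζd : tζ = d := by exact_mod_cast hdζ.symm
  have F3 := height_map_add_trdeg_residueField k X hU ζ z hζU hzU hζz
  rw [htz, htζ] at F3
  haveI := map_mk_isPrime _ _ hζz
  obtain ⟨h3, hh3⟩ := ENat.ne_top_iff_exists.mp
    (Ideal.height_ne_top_of_isPrime (I := (hU.primeIdealOf ⟨z, hzU⟩).asIdeal.map
      (Ideal.Quotient.mk (hU.primeIdealOf ⟨ζ, hζU⟩).asIdeal)))
  have hF3 : h3 + tz = tζ := by
    rw [← hh3] at F3
    have : ((h3 + tz : ℕ) : Cardinal.{u}) = ((tζ : ℕ) : Cardinal.{u}) := by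
      push_cast
      exact_mod_cast F3
    exact_mod_cast this
  have hh30 : h3 = 0 := by omega
  have hht0 : ((hU.primeIdealOf ⟨z, hzU⟩).asIdeal.map
      (Ideal.Quotient.mk (hU.primeIdealOf ⟨ζ, hζU⟩).asIdeal)).height = 0 := by
    rw [← hh3, hh30]; rfl
  have hmin := Ideal.height_eq_zero_iff.mp hht0
  rw [IsDomain.minimalPrimes_eq_singleton_bot, Set.mem_singleton_iff,
    Ideal.map_eq_bot_iff_le_ker, Ideal.mk_ker] at hmin
  have hspzζ : z ⤳ ζ := (specializes_iff_primeIdealOf_le hU z ζ hzU hζU).mpr hmin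
  exact hspξz.trans hspzζ

theorem isClosed_sUnion_of_finite {T : Type*} [TopologicalSpace T] {S : Set (Set T)} (hS : S.Finite)
    (h : ∀ s ∈ S, IsClosed s) : IsClosed (⋃₀ S) := by
  rw [Set.sUnion_eq_biUnion]; exact hS.isClosed_biUnion h

/-- the main theorem: unique dominating component, components are unions of closed fibres, and the
dimension formula. -/
theorem main (k : Type u) [Field k] {X Y : Scheme.{u}} (qX : X ⟶ Spec (CommRingCat.of k))
    (qY : Y ⟶ Spec (CommRingCat.of k))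
    [LocallyOfFiniteType qX] [QuasiCompact qX] [LocallyOfFiniteType qY] [QuasiCompact qY]
    (f : X ⟶ Y) (hf : f ≫ qY = qX) [IrreducibleSpace ↥Y] (d : ℕ)
    (hirr : ∀ y : ↥Y, IsClosed ({y} : Set ↥Y) → IsIrreducible (f ⁻¹' {y}))
    (hdim : ∀ y : ↥Y, IsClosed ({y} : Set ↥Y) →
      topologicalKrullDim ↥(f ⁻¹' {y}) = (d : WithBot ℕ∞)) :
    (∃! Z : Set ↥X, Z ∈ irreducibleComponents ↥X ∧ Dense (f '' Z)) ∧
      ∀ Z ∈ irreducibleComponents ↥X,
        (∀ y : ↥Y, IsClosed ({y} : Set ↥Y) → (f ⁻¹' {y} ∩ Z).Nonempty → f ⁻¹' {y} ⊆ Z) ∧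
        topologicalKrullDim ↥Z =
          (d : WithBot ℕ∞) + topologicalKrullDim ↥(closure (f '' Z)) := by
  classical
  haveI := lft_of_comp k qX qY f hf
  letI : X.Over (Spec (CommRingCat.of k)) := ⟨qX⟩
  letI : Y.Over (Spec (CommRingCat.of k)) := ⟨qY⟩
  haveI : LocallyOfFiniteType (X ↘ Spec (CommRingCat.of k)) := ‹LocallyOfFiniteType qX›
  haveI : LocallyOfFiniteType (Y ↘ Spec (CommRingCat.of k)) := ‹LocallyOfFiniteType qY›
  haveI hXN : IsLocallyNoetherian X := isLocallyNoetherian_of_lft k X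
  haveI hYN : IsLocallyNoetherian Y := isLocallyNoetherian_of_lft k Y
  haveI : CompactSpace X := HasAffineProperty.iff_of_isAffine.mp ‹QuasiCompact qX›
  haveI : CompactSpace Y := HasAffineProperty.iff_of_isAffine.mp ‹QuasiCompact qY›
  haveI : IsNoetherian X := {}
  haveI : IsNoetherian Y := {}
  haveI : JacobsonSpace X := LocallyOfFiniteType.jacobsonSpace (Y := Spec _) qX
  haveI : JacobsonSpace Y := LocallyOfFiniteType.jacobsonSpace (Y := Spec _) qY
  have hgen : ∀ Z ∈ irreducibleComponents X, ∃ ξ : X, closure ({ξ} : Set X) = Z := by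
    intro Z hZ
    obtain ⟨ξ, hξ⟩ := QuasiSober.sober hZ.1 (isClosed_of_mem_irreducibleComponents Z hZ)
    exact ⟨ξ, hξ.def⟩
  have hfin : (irreducibleComponents X).Finite :=
    TopologicalSpace.NoetherianSpace.finite_irreducibleComponents
  have part2 : ∀ Z ∈ irreducibleComponents ↥X,
        (∀ y : ↥Y, IsClosed ({y} : Set ↥Y) → (f ⁻¹' {y} ∩ Z).Nonempty → f ⁻¹' {y} ⊆ Z) ∧
        topologicalKrullDim ↥Z =
          (d : WithBot ℕ∞) + topologicalKrullDim ↥(closure (f '' Z)) := by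
    intro Z hZ
    obtain ⟨ξ, rfl⟩ := hgen Z hZ
    refine ⟨?_, dim_closure_eq_add k qX qY f hf d hirr hdim ξ hZ⟩
    rintro y hy ⟨x, hxy, hxZ⟩
    have hxy' : f x = y := hxy
    subst hxy'
    exact fibre_subset_closure k qX qY f hf d hirr hdim ξ hZ x hxZ hy
  refine ⟨?_, part2⟩
  have hex : ∃ Z ∈ irreducibleComponents X, Dense (f '' Z) := by
    have hI := (IrreducibleSpace.isIrreducible_univ Y)
    rw [isIrreducible_iff_sUnion_isClosed] at hI
    let t : Finset (Set Y) := hfin.toFinset.image (fun Z => closure (f '' Z))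
    have ht : ∀ z ∈ t, IsClosed z := by
      intro z hz
      obtain ⟨Z, -, rfl⟩ := Finset.mem_image.mp hz
      exact isClosed_closure
    have hcov : (Set.univ : Set Y) ⊆ ⋃₀ ↑t := by
      rw [← closure_closedPoints]
      apply closure_minimal _ (isClosed_sUnion_of_finite (Finset.finite_toSet t) ht)
      intro y hy
      obtain ⟨x, hx⟩ := (hirr y (mem_closedPoints_iff.mp hy)).nonempty
      have hxu : x ∈ ⋃₀ irreducibleComponents X := by rw [sUnion_irreducibleComponents]; trivial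
      obtain ⟨Z, hZ, hxZ⟩ := hxu
      refine ⟨closure (f '' Z), ?_, subset_closure ⟨x, hxZ, hx⟩⟩
      exact Finset.mem_coe.mpr (Finset.mem_image.mpr ⟨Z, hfin.mem_toFinset.mpr hZ, rfl⟩)
    obtain ⟨z, hz, hzu⟩ := hI t ht hcov
    obtain ⟨Z, hZ, rfl⟩ := Finset.mem_image.mp hz
    exact ⟨Z, hfin.mem_toFinset.mp hZ, dense_iff_closure_eq.mpr (Set.univ_subset_iff.mp hzu)⟩
  have key : ∀ Z ∈ irreducibleComponents X, Dense (f '' Z) → ∃ W : Set Y, IsOpen W ∧ W.Nonempty ∧
      ∀ y ∈ W, ∃ x : X, f x = y ∧ x ∈ Z ∧ ∀ Z'' ∈ irreducibleComponents X, x ∈ Z'' → Z'' = Z := by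
    intro Z hZ hZd
    obtain ⟨ξ, rfl⟩ := hgen Z hZ
    set C : Set X := ⋃₀ (irreducibleComponents X \ {closure {ξ}}) with hC
    have hCcl : IsClosed C := isClosed_sUnion_of_finite (hfin.subset Set.sdiff_subset)
      (fun Z'' h => isClosed_of_mem_irreducibleComponents Z'' h.1)
    have hξC : ξ ∉ C := by
      rintro ⟨Z'', ⟨hZ'', hne⟩, hξZ''⟩
      apply hne
      have hsub : closure {ξ} ⊆ Z'' := closure_minimal (Set.singleton_subset_iff.mpr hξZ'')
        (isClosed_of_mem_irreducibleComponents Z'' hZ'')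
      exact Set.mem_singleton_iff.mpr (Set.Subset.antisymm (hZ.2 hZ''.1 hsub) hsub)
    have hUo : IsOpen Cᶜ := hCcl.isOpen_compl
    have hconsU : IsConstructible (Cᶜ) :=
      (TopologicalSpace.NoetherianSpace.isCompact Cᶜ).isConstructible hUo
    have hcons : IsConstructible (f '' Cᶜ) := f.isConstructible_image hconsU
    have hη : ∀ W : Set Y, IsOpen W → W.Nonempty → f ξ ∈ W := by
      rintro W hW ⟨w, hw⟩
      have hcl : closure ({f ξ} : Set Y) = Set.univ := by
        have h1 : closure (f '' closure ({ξ} : Set X)) = closure ({f ξ} : Set Y) := by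
          rw [closure_image_closure f.continuous, Set.image_singleton]
        rw [← h1]; exact hZd.closure_eq
      have : f ξ ⤳ w := by rw [specializes_iff_mem_closure, hcl]; trivial
      exact this.mem_open hW hw
    obtain ⟨W, hW, hηW, hWs⟩ :=
      (exists_isOpen_subset_of_isConstructible (f ξ) hη hcons).1 ⟨ξ, hξC, rfl⟩
    refine ⟨W, hW, ⟨_, hηW⟩, ?_⟩
    intro y hy
    obtain ⟨x, hxC, hxy⟩ := hWs hy
    refine ⟨x, hxy, ?_, ?_⟩
    · have hxu : x ∈ ⋃₀ irreducibleComponents X := by rw [sUnion_irreducibleComponents]; trivial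
      obtain ⟨Z'', hZ'', hxZ''⟩ := hxu
      by_cases h : Z'' = closure {ξ}
      · rw [← h]; exact hxZ''
      · exact absurd ⟨Z'', ⟨hZ'', h⟩, hxZ''⟩ hxC
    · intro Z'' hZ'' hxZ''
      by_contra h
      exact hxC ⟨Z'', ⟨hZ'', h⟩, hxZ''⟩
  obtain ⟨Z, hZ, hZd⟩ := hex
  refine ⟨Z, ⟨hZ, hZd⟩, ?_⟩
  rintro Z' ⟨hZ', hZ'd⟩
  obtain ⟨W, hW, hWne, hWp⟩ := key Z hZ hZd
  obtain ⟨W', hW', hW'ne, hW'p⟩ := key Z' hZ' hZ'd
  have hne : (W ∩ W').Nonempty := nonempty_preirreducible_inter hW hW' hWne hW'ne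
  obtain ⟨y, ⟨hyW, hyW'⟩, hyc⟩ := nonempty_inter_closedPoints hne (hW.inter hW').isLocallyClosed
  have hycl := mem_closedPoints_iff.mp hyc
  obtain ⟨x, hxy, hxZ, -⟩ := hWp y hyW
  obtain ⟨x', hx'y, hx'Z', hx'u⟩ := hW'p y hyW'
  have hsub : f ⁻¹' {y} ⊆ Z := (part2 Z hZ).1 y hycl ⟨x, hxy, hxZ⟩
  have hx'Z : x' ∈ Z := hsub hx'y
  exact (hx'u Z hZ hx'Z).symm

/-- a specialization which does not decrease `trdeg_k κ(-)` is an equality (up to `⤳`). -/
theorem specializes_of_trdeg_le (k : Type u) [Field k] (X : Scheme.{u})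
    [X.Over (Spec (CommRingCat.of k))] [LocallyOfFiniteType (X ↘ Spec (CommRingCat.of k))]
    (ζ z : X) (h : ζ ⤳ z) (tζ tz : ℕ)
    (htζ : @Algebra.trdeg k (X.residueField ζ) _ _ (Curv2.resAlgebra k X ζ) = tζ)
    (htz : @Algebra.trdeg k (X.residueField z) _ _ (Curv2.resAlgebra k X z) = tz)
    (hle : tζ ≤ tz) : z ⤳ ζ := by
  haveI hXN : IsLocallyNoetherian X := isLocallyNoetherian_of_lft k X
  obtain ⟨U, hU, hzU, -⟩ := exists_isAffineOpen_mem_and_subset (x := z) (U := ⊤) trivial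
  haveI : IsNoetherianRing Γ(X, U) := IsLocallyNoetherian.component_noetherian ⟨U, hU⟩
  have hζU : ζ ∈ U := h.mem_open U.isOpen hzU
  have hζz : (hU.primeIdealOf ⟨ζ, hζU⟩).asIdeal ≤ (hU.primeIdealOf ⟨z, hzU⟩).asIdeal :=
    (specializes_iff_primeIdealOf_le hU ζ z hζU hzU).mp h
  have F3 := height_map_add_trdeg_residueField k X hU ζ z hζU hzU hζz
  rw [htz, htζ] at F3
  haveI := map_mk_isPrime _ _ hζz
  obtain ⟨h3, hh3⟩ := ENat.ne_top_iff_exists.mp
    (Ideal.height_ne_top_of_isPrime (I := (hU.primeIdealOf ⟨z, hzU⟩).asIdeal.map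
      (Ideal.Quotient.mk (hU.primeIdealOf ⟨ζ, hζU⟩).asIdeal)))
  have hF3 : h3 + tz = tζ := by
    rw [← hh3] at F3
    have : ((h3 + tz : ℕ) : Cardinal.{u}) = ((tζ : ℕ) : Cardinal.{u}) := by
      push_cast
      exact_mod_cast F3
    exact_mod_cast this
  have hh30 : h3 = 0 := by omega
  have hht0 : ((hU.primeIdealOf ⟨z, hzU⟩).asIdeal.map
      (Ideal.Quotient.mk (hU.primeIdealOf ⟨ζ, hζU⟩).asIdeal)).height = 0 := by
    rw [← hh3, hh30]; rfl
  have hmin := Ideal.height_eq_zero_iff.mp hht0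
  rw [IsDomain.minimalPrimes_eq_singleton_bot, Set.mem_singleton_iff,
    Ideal.map_eq_bot_iff_le_ker, Ideal.mk_ker] at hmin
  exact (specializes_iff_primeIdealOf_le hU z ζ hzU hζU).mpr hmin

/-- in an irreducible scheme l.f.t. over `k`, a point whose closure has full dimension is generic. -/
theorem closure_eq_univ_of_dim_eq (k : Type u) [Field k] (Y : Scheme.{u})
    [Y.Over (Spec (CommRingCat.of k))] [LocallyOfFiniteType (Y ↘ Spec (CommRingCat.of k))]
    [IrreducibleSpace Y] (y : Y)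
    (h : topologicalKrullDim ↥(closure ({y} : Set Y)) = topologicalKrullDim Y) :
    closure ({y} : Set Y) = Set.univ := by
  obtain ⟨m, hm⟩ := exists_nat_trdeg_residueField k Y y
  obtain ⟨m0, hm0⟩ := exists_nat_trdeg_residueField k Y (genericPoint Y)
  have h1 := dim_closure_eq_trdeg k Y y m hm
  have h2 := dim_closure_eq_trdeg k Y (genericPoint Y) m0 hm0
  have hη : closure ({genericPoint Y} : Set Y) = Set.univ := (genericPoint_spec Y).def
  rw [hη, dim_univ_eq] at h2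
  rw [h1, h2] at h
  have hmm : m = m0 := by exact_mod_cast h
  have hsp := specializes_of_trdeg_le k Y (genericPoint Y) y (genericPoint_specializes y) m0 m
    hm0 hm hmm.ge
  apply Set.eq_univ_of_univ_subset
  rw [← hη]
  exact closure_minimal (Set.singleton_subset_iff.mpr hsp.mem_closure) isClosed_closure

/-- closed map version: `X` is irreducible of dimension `d + dim Y`. -/
theorem main_closed (k : Type u) [Field k] {X Y : Scheme.{u}} (qX : X ⟶ Spec (CommRingCat.of k))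
    (qY : Y ⟶ Spec (CommRingCat.of k))
    [LocallyOfFiniteType qX] [QuasiCompact qX] [LocallyOfFiniteType qY] [QuasiCompact qY]
    (f : X ⟶ Y) (hf : f ≫ qY = qX) [IrreducibleSpace ↥Y] (hcl : IsClosedMap f) (d : ℕ)
    (hirr : ∀ y : ↥Y, IsClosed ({y} : Set ↥Y) → IsIrreducible (f ⁻¹' {y}))
    (hdim : ∀ y : ↥Y, IsClosed ({y} : Set ↥Y) →
      topologicalKrullDim ↥(f ⁻¹' {y}) = (d : WithBot ℕ∞)) :
    IrreducibleSpace ↥X ∧
      topologicalKrullDim ↥X = (d : WithBot ℕ∞) + topologicalKrullDim ↥Y := by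
  haveI := lft_of_comp k qX qY f hf
  haveI : JacobsonSpace X := LocallyOfFiniteType.jacobsonSpace (Y := Spec _) qX
  obtain ⟨⟨Z0, ⟨hZ0, hZ0d⟩, -⟩, part2⟩ := main k qX qY f hf d hirr hdim
  have hZ0cl : IsClosed Z0 := isClosed_of_mem_irreducibleComponents Z0 hZ0
  have himg : f '' Z0 = Set.univ := by
    rw [← (hcl Z0 hZ0cl).closure_eq]; exact hZ0d.closure_eq
  have hZ0u : Z0 = Set.univ := by
    apply Set.eq_univ_of_univ_subset
    rw [← closure_closedPoints]
    apply closure_minimal _ hZ0cl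
    intro x hx
    have hxc := mem_closedPoints_iff.mp hx
    have hyc := isClosed_map_of_isClosed k qX qY f hf x hxc
    have : f x ∈ f '' Z0 := by rw [himg]; trivial
    obtain ⟨x0, hx0Z, hx0⟩ := this
    exact (part2 Z0 hZ0).1 (f x) hyc ⟨x0, hx0, hx0Z⟩ rfl
  subst hZ0u
  refine ⟨irreducibleSpace_def X |>.mpr hZ0.1, ?_⟩
  have := (part2 _ hZ0).2
  rw [dim_univ_eq, himg, closure_univ, dim_univ_eq] at this
  exact this

/-- pure-dimensional version: `X` is irreducible of dimension `d + dim Y`. -/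
theorem main_pure (k : Type u) [Field k] {X Y : Scheme.{u}} (qX : X ⟶ Spec (CommRingCat.of k))
    (qY : Y ⟶ Spec (CommRingCat.of k))
    [LocallyOfFiniteType qX] [QuasiCompact qX] [LocallyOfFiniteType qY] [QuasiCompact qY]
    (f : X ⟶ Y) (hf : f ≫ qY = qX) [IrreducibleSpace ↥Y]
    (hpure : ∀ Z ∈ irreducibleComponents (↥X), topologicalKrullDim ↥Z = topologicalKrullDim ↥X)
    (d : ℕ)
    (hirr : ∀ y : ↥Y, IsClosed ({y} : Set ↥Y) → IsIrreducible (f ⁻¹' {y}))
    (hdim : ∀ y : ↥Y, IsClosed ({y} : Set ↥Y) →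
      topologicalKrullDim ↥(f ⁻¹' {y}) = (d : WithBot ℕ∞)) :
    IrreducibleSpace ↥X ∧
      topologicalKrullDim ↥X = (d : WithBot ℕ∞) + topologicalKrullDim ↥Y := by
  letI : Y.Over (Spec (CommRingCat.of k)) := ⟨qY⟩
  haveI : LocallyOfFiniteType (Y ↘ Spec (CommRingCat.of k)) := ‹LocallyOfFiniteType qY›
  obtain ⟨⟨Z0, ⟨hZ0, hZ0d⟩, huniq⟩, part2⟩ := main k qX qY f hf d hirr hdim
  have hdimX : topologicalKrullDim ↥X = (d : WithBot ℕ∞) + topologicalKrullDim ↥Y := by
    rw [← hpure Z0 hZ0, (part2 Z0 hZ0).2, hZ0d.closure_eq, dim_univ_eq]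
  refine ⟨?_, hdimX⟩
  have hall : ∀ Z ∈ irreducibleComponents X, Z = Z0 := by
    intro Z hZ
    apply huniq Z ⟨hZ, ?_⟩
    obtain ⟨ξ, hξ⟩ := QuasiSober.sober hZ.1 (isClosed_of_mem_irreducibleComponents Z hZ)
    have hZξ : closure ({ξ} : Set X) = Z := hξ.def
    have hcl : closure (f '' Z) = closure ({f ξ} : Set Y) := by
      rw [← hZξ, closure_image_closure f.continuous, Set.image_singleton]
    have h1 := (part2 Z hZ).2
    rw [hpure Z hZ, hdimX, hcl] at h1
    obtain ⟨m, hm⟩ := exists_nat_trdeg_residueField k Y (f ξ)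
    obtain ⟨d0, hd0, -⟩ := exists_dim_eq_localDim_of_irreducible k Y
    have h2 := dim_closure_eq_trdeg k Y (f ξ) m hm
    rw [h2, hd0] at h1
    have hmd : d0 = m := by
      have : ((d + d0 : ℕ) : WithBot ℕ∞) = ((d + m : ℕ) : WithBot ℕ∞) := by
        push_cast; exact h1
      have := WithBot.coe_injective this
      have : d + d0 = d + m := by exact_mod_cast this
      omega
    rw [dense_iff_closure_eq, hcl]
    apply closure_eq_univ_of_dim_eq k Y
    rw [h2, hd0, hmd]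
  have hZ0u : Z0 = Set.univ := by
    rw [← sUnion_irreducibleComponents]
    apply Set.Subset.antisymm
    · exact Set.subset_sUnion_of_mem hZ0
    · apply Set.sUnion_subset
      intro Z hZ
      rw [hall Z hZ]
  subst hZ0u
  exact irreducibleSpace_def X |>.mpr hZ0.1

end field

end Groth.Agent.Lib.helper3.FibreIrred
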