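import Mathlib
import Groth.Agent.S3444
import Groth.Agent.S10310
import Groth.Agent.Lib.Helper3.FibreDimCons
import Groth.Agent.Lib.Helper7.LfpOfComp

/-!
# Local constructibility of the locus where the induced morphism of fibres is quasi-finite
(helper3)
-/

set_option autoImplicit false
universe u
open CategoryTheory AlgebraicGeometry CategoryTheory.Limits Topology

namespace Groth.Agent.Lib.helper3.FibreLqfCons

open Groth.Agent.Lib.helper3 Groth.Agent.S3444 Groth.Agent.S10310

variable {X Y S : Scheme.{u}} (f : X ⟶ Y) (g : Y ⟶ S)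

theorem fibreDimAt_fibreMap [LocallyOfFiniteType f] (s : S)
    (x' : ↥(pullback (f ≫ g) (S.fromSpecResidueField s))) :
    FlatMor.fibreDimAt (fibreMap f g s) x' =
      FlatMor.fibreDimAt f ((pullback.fst (f ≫ g) (S.fromSpecResidueField s)) x') :=
  FibreDimBC.fibreDimAt_eq_of_isPullback f _ _ _ (isPullback_fibreMap f g s).flip x'

theorem setOf_lqf_eq [LocallyOfFiniteType f] :
    {s : S | LocallyQuasiFinite (fibreMap f g s)} =
      ((f ≫ g) '' {x : X | FlatMor.fibreDimAt f x ≤ ((0 : ℕ) : WithBot ℕ∞)}ᶜ)ᶜ := by
  ext s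
  simp only [Set.mem_ofPred_eq, Set.mem_compl_iff, Set.mem_image, not_exists, not_and]
  haveI : LocallyOfFiniteType (fibreMap f g s) :=
    MorphismProperty.of_isPullback (isPullback_fibreMap f g s).flip inferInstance
  constructor
  · intro hlqf x hx hxs
    apply hx
    obtain ⟨t⟩ : Nonempty (Spec (S.residueField s)) := inferInstance
    have ht : (S.fromSpecResidueField s).base t = s := Scheme.fromSpecResidueField_apply _ _
    obtain ⟨x', hx', -⟩ := exists_preimage_of_isPullback
      (IsPullback.of_hasPullback (f ≫ g) (S.fromSpecResidueField s)) x t (by rw [ht]; exact hxs)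
    have h1 := fibreDimAt_fibreMap f g s x'
    have h2 : FlatMor.fibreDimAt (fibreMap f g s) x' = 0 :=
      (fibreDimAt_eq_zero_iff _ x').mpr (isol_of_lqf _ x')
    have h3 : (pullback.fst (f ≫ g) (S.fromSpecResidueField s)) x' = x := hx'
    rw [h3, h2] at h1
    change FlatMor.fibreDimAt f x ≤ ((0 : ℕ) : WithBot ℕ∞)
    rw [← h1]
    simp
  · intro h
    apply lqf_of_isol
    intro x'
    rw [← fibreDimAt_eq_zero_iff, fibreDimAt_fibreMap]
    set x := (pullback.fst (f ≫ g) (S.fromSpecResidueField s)) x' with hx
    have hxs : (f ≫ g) x = s := by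
      rw [hx, ← Scheme.Hom.comp_apply, pullback.condition, Scheme.Hom.comp_apply]
      exact Scheme.fromSpecResidueField_apply _ _
    have hle : FlatMor.fibreDimAt f x ≤ ((0 : ℕ) : WithBot ℕ∞) := by
      by_contra hcon
      exact h x hcon hxs
    obtain ⟨N, hN⟩ := NowhereDenseGen.exists_nat_fibreDimAt f x
    rw [hN] at hle ⊢
    have : N ≤ 0 := by exact_mod_cast hle
    have : N = 0 := by omega
    subst this
    simp

theorem isLocallyConstructible_setOf_lqf
    [LocallyOfFinitePresentation g] [QuasiCompact g] [QuasiSeparated g]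
    [LocallyOfFinitePresentation (f ≫ g)] [QuasiCompact (f ≫ g)] [QuasiSeparated (f ≫ g)] :
    IsLocallyConstructible {s : S | LocallyQuasiFinite (fibreMap f g s)} := by
  haveI : LocallyOfFinitePresentation f :=
    Groth.Agent.Lib.helper7.locallyOfFinitePresentation_of_comp f g
  rw [setOf_lqf_eq]
  exact FibreDimCons.isLocallyConstructible_compl ((f ≫ g).isLocallyConstructible_image
    (FibreDimCons.isLocallyConstructible_compl
      (FibreDimCons.isLocallyConstructible_fibreDimAt_le f _)))

end Groth.Agent.Lib.helper3.FibreLqfCons
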