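import Groth.Agent.Lib.Helper3.UnivGamma3

/-!
For `z` with `γ^k z = 0` for `k > d`, the ideal generated by `γ^d z` is stable under the `γ^l`,
`l ≥ 1`; consequently `λ_{-1}(N)` divides `λ^p(x λ_{-1}(N))` when `λ^i N = 0` for `i > d`
(helper3).
-/

set_option autoImplicit false
universe u

namespace Groth.Agent.Lib.helper3.UnivGamma

open MvPolynomial Finset LambdaRing
open Groth.Agent.Lib.helper3.GammaLib Groth.Agent.Lib.helper3.GammaFil
open Groth.Agent.Lib.helper3.LamPoly Groth.Agent.Lib.helper3.WeightLib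
open Groth.Agent.Lib.helper3.Special

theorem map_aeval_int' {K L : Type*} [CommRing K] [CommRing L] {σ : Type*} (g : K →+* L)
    (w : σ → K) (p : MvPolynomial σ ℤ) :
    g (MvPolynomial.aeval w p) = MvPolynomial.aeval (fun i => g (w i)) p := by
  induction p using MvPolynomial.induction_on with
  | C a => simp
  | add p q hp hq => rw [map_add, map_add, map_add, hp, hq]
  | mul_X p i hp => rw [map_mul, map_mul, map_mul, hp, MvPolynomial.aeval_X, MvPolynomial.aeval_X]

section Test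

set_option warn.classDefReducibility false in
attribute [local instance] lamOps

theorem esymm_eq_zero_of_lt (n k : ℕ) (h : n < k) : esymm (Fin n) ℚ k = 0 := by
  rw [esymm, Finset.powersetCard_eq_empty.mpr (by rw [Finset.card_univ, Fintype.card_fin]; exact h),
    Finset.sum_empty]

/-- killing the variables `X_i`, `i ≥ n'`, kills `Wγ l (n'+1)` -/
theorem Wγ_trunc_eq_zero (l n' : ℕ) (hl : 1 ≤ l) :
    aeval (fun i : Fin ((n' + 1) * l) =>
      if h : (i : ℕ) < n' then (X ⟨i, h⟩ : MvPolynomial (Fin n') ℤ) else 0) (Wγ l (n' + 1)) = 0 := by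
  set g : Fin ((n' + 1) * l) → MvPolynomial (Fin n') ℤ :=
    fun i => if h : (i : ℕ) < n' then X ⟨i, h⟩ else 0 with hg
  set f : Fin n' → MvPolynomial (Fin n') ℚ := fun k => esymm (Fin n') ℚ ((k : ℕ) + 1) with hf
  have hinj : Function.Injective (fun Γ : MvPolynomial (Fin n') ℤ =>
      aeval f (MvPolynomial.map (Int.castRingHom ℚ) Γ)) := by
    intro Γ Γ' h
    have h' : eUR ℚ n' (MvPolynomial.map (Int.castRingHom ℚ) Γ) =
        eUR ℚ n' (MvPolynomial.map (Int.castRingHom ℚ) Γ') := h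
    exact MvPolynomial.map_injective _ Int.cast_injective (eUR_injective ℚ n' h')
  apply hinj
  show aeval f (MvPolynomial.map (Int.castRingHom ℚ) (aeval g (Wγ l (n' + 1)))) =
    aeval f (MvPolynomial.map (Int.castRingHom ℚ) 0)
  rw [map_zero, map_zero]
  set x' : MvPolynomial (Fin n') ℚ := ∑ a : Fin n', X a with hx'
  have hgam : ∀ k : ℕ, gamma k x' = esymm (Fin n') ℚ k := by
    intro k
    have := gamma_sum_X n' (id : Fin n' → Fin n') k
    simp only [id] at this
    rw [hx', this, esymm]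
  have h1 : aeval f (MvPolynomial.map (Int.castRingHom ℚ) (aeval g (Wγ l (n' + 1)))) =
      aeval (fun i : Fin ((n' + 1) * l) => gamma ((i : ℕ) + 1) x') (Wγ l (n' + 1)) := by
    have e1 : aeval f (MvPolynomial.map (Int.castRingHom ℚ) (aeval g (Wγ l (n' + 1)))) =
        aeval f (aeval g (Wγ l (n' + 1))) := aeval_map_algebraMap ℚ f _
    rw [e1]
    have e2 := map_aeval_int'
      ((aeval f : MvPolynomial (Fin n') ℤ →ₐ[ℤ] MvPolynomial (Fin n') ℚ) : MvPolynomial (Fin n') ℤ →+*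
        MvPolynomial (Fin n') ℚ) g (Wγ l (n' + 1))
    refine e2.trans ?_
    congr 2
    funext i
    rw [hgam]
    by_cases h : (i : ℕ) < n'
    · simp only [hg, dif_pos h]
      show aeval f (X ⟨i, h⟩) = _
      rw [aeval_X]
    · simp only [hg, dif_neg h]
      rw [map_zero, esymm_eq_zero_of_lt n' _ (by omega)]
  have h2 := aeval_Wγ (isSpecial (Fin n')) l (n' + 1) hl (by omega) x'
  rw [hgam (n' + 1), esymm_eq_zero_of_lt n' _ (by omega), gamma_pos_zero l (by omega)] at h2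
  exact h1.trans h2

end Test

section Apply

variable {A : Type u} [CommRing A]

/-- the constant filtration by an ideal -/
def Vc (J : Ideal A) : ℕ → Ideal A := fun k => if k = 0 then ⊤ else J

theorem Vc_zero (J : Ideal A) : Vc J 0 = ⊤ := by rw [Vc, if_pos rfl]

theorem Vc_pos (J : Ideal A) (k : ℕ) (hk : 1 ≤ k) : Vc J k = J := by rw [Vc, if_neg (by omega)]

theorem isMulFil_Vc (J : Ideal A) : IsMulFil (Vc J) where
  zero := Vc_zero J
  mul i j x y hx hy := by
    rcases Nat.eq_zero_or_pos i with rfl | hi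
    · rw [zero_add]; exact Ideal.mul_mem_left _ _ hy
    · rw [Vc_pos J (i + j) (by omega)]
      rw [Vc_pos J i hi] at hx
      exact Ideal.mul_mem_right _ _ hx
  anti i j hij := by
    rcases Nat.eq_zero_or_pos i with rfl | hi
    · rw [Vc_zero]; exact le_top
    · rw [Vc_pos J i hi, Vc_pos J j (by omega)]

/-- evaluating `Wγ l (n'+1)` at a point whose coordinates of index `≥ n'` lie in `J` -/
theorem aeval_Wγ_mem_of_trunc (J : Ideal A) (l n' : ℕ) (hl : 1 ≤ l)
    (vals : Fin ((n' + 1) * l) → A) (hvals : ∀ i : Fin ((n' + 1) * l), n' ≤ (i : ℕ) → vals i ∈ J) :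
    aeval vals (Wγ l (n' + 1)) ∈ J := by
  rw [← Ideal.Quotient.eq_zero_iff_mem]
  have hlt : ∀ k : Fin n', (k : ℕ) < (n' + 1) * l := by
    intro k
    have := k.isLt
    nlinarith
  have e1 := map_aeval_int' (Ideal.Quotient.mk J) vals
    (Wγ l (n' + 1))
  have e2 := map_aeval_int'
    ((aeval (fun k : Fin n' => Ideal.Quotient.mk J (vals ⟨k, hlt k⟩)) :
      MvPolynomial (Fin n') ℤ →ₐ[ℤ] A ⧸ J) : MvPolynomial (Fin n') ℤ →+* A ⧸ J)
    (fun i : Fin ((n' + 1) * l) =>
      if h : (i : ℕ) < n' then (X ⟨i, h⟩ : MvPolynomial (Fin n') ℤ) else 0) (Wγ l (n' + 1))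
  have e3 := congrArg ((aeval (fun k : Fin n' => Ideal.Quotient.mk J (vals ⟨k, hlt k⟩)) :
      MvPolynomial (Fin n') ℤ →ₐ[ℤ] A ⧸ J) : MvPolynomial (Fin n') ℤ →+* A ⧸ J)
    (Wγ_trunc_eq_zero l n' hl)
  rw [map_zero] at e3
  have e4 := e2.symm.trans e3
  rw [e1, ← e4]
  congr 2
  funext i
  by_cases h : (i : ℕ) < n'
  · simp only [dif_pos h]
    show _ = aeval (fun k : Fin n' => Ideal.Quotient.mk J (vals ⟨k, hlt k⟩)) (X ⟨i, h⟩)
    rw [aeval_X]
  · simp only [dif_neg h]
    rw [map_zero, Ideal.Quotient.eq_zero_iff_mem]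
    exact hvals i (by omega)

variable [LambdaOps A]

/-- if `γ^k z = 0` for `k > d`, then all `γ^l(γ^d z)`, `l ≥ 1`, are multiples of `γ^d z` -/
theorem gok_Vc_gamma_top (hA : IsSpecial A) (d : ℕ) (hd : 1 ≤ d) (z : A)
    (hz : ∀ k : ℕ, d < k → gamma k z = 0) (J : Ideal A) (hJ : gamma d z ∈ J) :
    GOK (Vc J) (gamma d z) := by
  obtain ⟨n', rfl⟩ := Nat.exists_eq_add_of_le' hd
  intro l
  rcases Nat.eq_zero_or_pos l with rfl | hl
  · rw [Vc_zero]; trivial
  · rw [Vc_pos J l hl, ← aeval_Wγ hA l (n' + 1) hl (by omega) z]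
    apply aeval_Wγ_mem_of_trunc J l n' hl
    intro i hi
    rcases Nat.eq_or_lt_of_le hi with h | h
    · rw [← h]; exact hJ
    · rw [hz _ (by omega)]; exact Ideal.zero_mem _

/-- `γ^k(x y) ∈ J` for `k ≥ 1` if all `γ^k y ∈ J`, `k ≥ 1` -/
theorem gok_Vc_mul_left (hA : IsSpecial A) (J : Ideal A) {y : A} (hy : GOK (Vc J) y) (x : A) :
    GOK (Vc J) (x * y) := by
  intro k
  rcases Nat.eq_zero_or_pos k with rfl | hk
  · rw [Vc_zero]; trivial
  · rw [← aeval_Pγ hA k hk x y, Vc_pos J k hk, ← Vc_pos J 1 le_rfl]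
    apply aeval_mem_of_weight (isMulFil_Vc J) (Sum.elim (fun _ => 0) (fun _ => 1)) _ _ (Pγ k) 1
    · intro μ hμ
      obtain ⟨r, hr⟩ := Pγ_support_inr k μ hμ
      refine le_trans ?_ (Finset.single_le_sum (f := fun t => (Sum.elim (fun _ : Fin k => 0)
        (fun _ : Fin k => 1)) t * μ t) (fun _ _ => Nat.zero_le _) (Finset.mem_univ (Sum.inr r)))
      simp only [Sum.elim_inr, one_mul]
      exact Nat.one_le_iff_ne_zero.mpr hr
    · rintro (r | r)
      · simp only [Sum.elim_inl]; rw [Vc_zero]; trivial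
      · simp only [Sum.elim_inr]
        have := hy ((r : ℕ) + 1)
        rwa [Vc_pos J _ (by omega), ← Vc_pos J 1 le_rfl] at this

/-- `λ^p y ∈ J` for `p ≥ 1` if all `γ^k y ∈ J`, `k ≥ 1` -/
theorem lam_mem_of_gok_Vc (J : Ideal A) {y : A} (hy : GOK (Vc J) y) (p : ℕ) (hp : 1 ≤ p) :
    LambdaOps.lam p y ∈ J := by
  obtain ⟨q, rfl⟩ := Nat.exists_eq_add_of_le' hp
  rw [← aeval_L y (q + 1) (q + 1) le_rfl]
  have := aeval_mem_of_weight (isMulFil_Vc J) (fun _ : Fin (q + 1) => 1)
    (fun r : Fin (q + 1) => gamma ((r : ℕ) + 1) y) (fun r => by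
      have := hy ((r : ℕ) + 1)
      rwa [Vc_pos J _ (by omega), ← Vc_pos J 1 le_rfl] at this) (L (q + 1) (q + 1)) 1 ?_
  · rwa [Vc_pos J 1 le_rfl] at this
  · intro μ hμ
    have hne : μ ≠ 0 := by
      rintro rfl
      rw [mem_support_iff, ← constantCoeff_eq, constantCoeff_L] at hμ
      exact hμ rfl
    obtain ⟨t, ht⟩ : ∃ t, μ t ≠ 0 := by
      by_contra hcon
      apply hne
      ext t
      by_contra h0
      exact hcon ⟨t, h0⟩
    refine le_trans ?_ (Finset.single_le_sum (f := fun t => 1 * μ t)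
      (fun _ _ => Nat.zero_le _) (Finset.mem_univ t))
    rw [one_mul]
    exact Nat.one_le_iff_ne_zero.mpr ht

end Apply

end Groth.Agent.Lib.helper3.UnivGamma
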