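import Groth.Agent.Lib.Helper3.UnivGamma6
import Groth.Agent.Lib.Helper3.LamAltDiv

/-!
A second filtration `U` which is a module over a multiplicative filtration `V`
(`V_a U_b ⊆ U_{a+b}`): two-filtration versions of the product lemmas for the `γ`-operations
(helper3).
-/

set_option autoImplicit false
universe u

namespace Groth.Agent.Lib.helper3.UnivGamma

open MvPolynomial Finset LambdaRing
open Groth.Agent.Lib.helper3.GammaLib Groth.Agent.Lib.helper3.GammaFil
open Groth.Agent.Lib.helper3.WeightLib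

section Eval

variable {A : Type u} [CommRing A]

/-- evaluation monomial by monomial -/
theorem aeval_mem_of_forall_monomial {τ : Type*} (I : Ideal A) (vals : τ → A)
    (Γ : MvPolynomial τ ℤ)
    (h : ∀ μ ∈ Γ.support, (μ.prod fun t k => vals t ^ k) ∈ I) : aeval vals Γ ∈ I := by
  rw [Γ.as_sum, map_sum]
  refine Ideal.sum_mem _ fun μ hμ => ?_
  rw [aeval_monomial]
  exact Ideal.mul_mem_left _ _ (h μ hμ)

theorem monomial_mem {τ : Type} [Fintype τ] {V : ℕ → Ideal A} (hV : IsMulFil V) (w : τ → ℕ)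
    (g : τ → A) (hg : ∀ t, g t ∈ V (w t)) (m : τ →₀ ℕ) :
    (m.prod fun t k => g t ^ k) ∈ V (wt w m) := by
  have h2 : (m.prod fun t k => g t ^ k) = ∏ t, g t ^ m t := by
    rw [Finsupp.prod_fintype]
    intro t; rw [pow_zero]
  rw [h2]
  have h3 : ∏ t, g t ^ m t ∈ V (∑ t, m t * w t) := by
    apply hV.prod_mem
    intro t _
    exact hV.pow_mem (hg t) (m t)
  have e : wt w m = ∑ t, m t * w t := Finset.sum_congr rfl fun t _ => mul_comm _ _
  rw [e]
  exact h3

/-- `U` is a multiplicative filtration and a module over the filtration `V` -/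
structure IsFilMod (V U : ℕ → Ideal A) : Prop where
  isMulFil : IsMulFil U
  smul : ∀ (a b : ℕ) (x y : A), 1 ≤ b → x ∈ V a → y ∈ U b → x * y ∈ U (a + b)

variable {V U : ℕ → Ideal A}

/-- two families of variables, the first evaluated in `V`, the second in `U`, every monomial
involving the second family -/
theorem aeval_mem_of_weight₂ (hV : IsMulFil V) (hU : IsFilMod V U) {n : ℕ}
    (w : Fin n ⊕ Fin n → ℕ) (hw : ∀ r, 1 ≤ w (Sum.inr r)) (g : Fin n ⊕ Fin n → A)
    (hgl : ∀ r, g (Sum.inl r) ∈ V (w (Sum.inl r))) (hgr : ∀ r, g (Sum.inr r) ∈ U (w (Sum.inr r)))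
    (Γ : MvPolynomial (Fin n ⊕ Fin n) ℤ) (N : ℕ)
    (hΓ : ∀ μ ∈ Γ.support, N ≤ wt w μ ∧ ∃ r, μ (Sum.inr r) ≠ 0) : aeval g Γ ∈ U N := by
  apply aeval_mem_of_forall_monomial
  intro μ hμ
  obtain ⟨hN, r₀, hr₀⟩ := hΓ μ hμ
  have h2 : (μ.prod fun t k => g t ^ k) = ∏ t, g t ^ μ t := by
    rw [Finsupp.prod_fintype]
    intro t; rw [pow_zero]
  rw [h2, Fintype.prod_sum_type]
  have h3 : ∏ r, g (Sum.inl r) ^ μ (Sum.inl r) ∈ V (∑ r, μ (Sum.inl r) * w (Sum.inl r)) := by
    apply hV.prod_mem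
    intro t _
    exact hV.pow_mem (hgl t) _
  have h4 : ∏ r, g (Sum.inr r) ^ μ (Sum.inr r) ∈ U (∑ r, μ (Sum.inr r) * w (Sum.inr r)) := by
    apply hU.isMulFil.prod_mem
    intro t _
    exact hU.isMulFil.pow_mem (hgr t) _
  have h5 : 1 ≤ ∑ r, μ (Sum.inr r) * w (Sum.inr r) := by
    refine le_trans ?_ (Finset.single_le_sum (f := fun r => μ (Sum.inr r) * w (Sum.inr r))
      (fun _ _ => Nat.zero_le _) (Finset.mem_univ r₀))
    exact Nat.mul_le_mul (Nat.one_le_iff_ne_zero.mpr hr₀) (hw r₀)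
  refine hU.isMulFil.anti _ _ ?_ (hU.smul _ _ _ _ h5 h3 h4)
  have e : wt w μ = ∑ r, μ (Sum.inl r) * w (Sum.inl r) + ∑ r, μ (Sum.inr r) * w (Sum.inr r) := by
    rw [wt, Fintype.sum_sum_type]
    congr 1 <;> exact Finset.sum_congr rfl fun t _ => mul_comm _ _
  omega

end Eval

section Mul

variable {A : Type u} [CommRing A] [LambdaOps A] {V U : ℕ → Ideal A}

/-- products of an element of level `a` for `V` and an element of level `b` for `U` -/
theorem GOK.mul_Vmax₂ (hA : IsSpecial A) (hV : IsMulFil V) (hU : IsFilMod V U) {a b : ℕ} {x y : A}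
    (hx : GOK (Vmax V a) x) (hy : GOK (Vmax U b) y) : GOK (Vmax U (a + b)) (x * y) := by
  rw [gok_Vmax_iff] at hx hy ⊢
  intro k hk
  rw [← aeval_Pγ hA k hk x y]
  apply aeval_mem_of_weight₂ hV hU (wab k a b) _ _ _ _ (Pγ k)
  · intro μ hμ
    obtain ⟨r₁, h1⟩ := Pγ_support_inl k μ hμ
    obtain ⟨r₂, h2⟩ := Pγ_support_inr k μ hμ
    exact ⟨num1 k a b k μ r₁ r₂ h1 h2 (weight_Pγ k hk μ hμ), r₂, h2⟩
  · intro r
    exact le_trans (by omega) (le_max_left _ _)
  · intro r
    exact hx _ (by omega)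
  · intro r
    exact hy _ (by omega)

/-- the leading term of `γ^{a+b}(y t)` for `y` of level `a = p+1` for `V` and `t` of level
`b = q+1` for `U` -/
theorem gamma_mul_sub_mem₂ (hA : IsSpecial A) (hV : IsMulFil V) (hU : IsFilMod V U) (p q : ℕ)
    {y t : A} (hy : GOK (Vmax V (p + 1)) y) (ht : GOK (Vmax U (q + 1)) t) :
    gamma (p + 1 + (q + 1)) (y * t) - (cab p q : A) * (gamma (p + 1) y * gamma (q + 1) t) ∈
      U (p + 1 + (q + 1) + 1) := by
  classical
  rw [gok_Vmax_iff] at hy ht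
  have hmon : (mu0 p q).prod (fun i k => (Sum.elim
      (fun r : Fin (p + 1 + (q + 1)) => gamma ((r : ℕ) + 1) y)
      (fun r : Fin (p + 1 + (q + 1)) => gamma ((r : ℕ) + 1) t)) i ^ k) =
      gamma (p + 1) y * gamma (q + 1) t := by
    rw [mu0, Finsupp.prod_add_index' (h := fun i k => (Sum.elim
      (fun r : Fin (p + 1 + (q + 1)) => gamma ((r : ℕ) + 1) y)
      (fun r : Fin (p + 1 + (q + 1)) => gamma ((r : ℕ) + 1) t)) i ^ k)
      (fun _ => pow_zero _) (fun _ _ _ => pow_add _ _ _),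
      Finsupp.prod_single_index (h := fun i k => (Sum.elim
      (fun r : Fin (p + 1 + (q + 1)) => gamma ((r : ℕ) + 1) y)
      (fun r : Fin (p + 1 + (q + 1)) => gamma ((r : ℕ) + 1) t)) i ^ k) (pow_zero _),
      Finsupp.prod_single_index (h := fun i k => (Sum.elim
      (fun r : Fin (p + 1 + (q + 1)) => gamma ((r : ℕ) + 1) y)
      (fun r : Fin (p + 1 + (q + 1)) => gamma ((r : ℕ) + 1) t)) i ^ k) (pow_zero _), pow_one,
      pow_one]
    rfl
  have h1 : aeval (Sum.elim (fun r : Fin (p + 1 + (q + 1)) => gamma ((r : ℕ) + 1) y)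
      (fun r : Fin (p + 1 + (q + 1)) => gamma ((r : ℕ) + 1) t))
      (Pγ (p + 1 + (q + 1)) - monomial (mu0 p q) (cab p q)) =
      gamma (p + 1 + (q + 1)) (y * t) - (cab p q : A) * (gamma (p + 1) y * gamma (q + 1) t) := by
    rw [map_sub, aeval_Pγ hA _ (by omega) y t, aeval_monomial, hmon, eq_intCast]
  rw [← h1]
  apply aeval_mem_of_weight₂ hV hU (wab (p + 1 + (q + 1)) (p + 1) (q + 1))
  · intro r
    exact le_trans (by omega) (le_max_left _ _)
  · intro r
    exact hy _ (by omega)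
  · intro r
    exact ht _ (by omega)
  · intro μ hμ
    rw [mem_support_iff, coeff_sub, coeff_monomial] at hμ
    have hne : μ ≠ mu0 p q := by
      rintro rfl
      rw [if_pos rfl, cab, sub_self] at hμ
      exact hμ rfl
    rw [if_neg (Ne.symm hne), sub_zero] at hμ
    refine ⟨?_, Pγ_support_inr _ μ (mem_support_iff.mpr hμ)⟩
    apply num2 _ (p + 1) (q + 1) (by omega) (by omega) rfl μ (mem_support_iff.mpr hμ)
    intro r₁ r₂ hr₁ hr₂ heq
    apply hne
    rw [heq, mu0]
    congr 3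
    · exact Fin.ext (by simpa using hr₁)
    · exact Fin.ext (by simpa using hr₂)

end Mul

end Groth.Agent.Lib.helper3.UnivGamma
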