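import Mathlib

/-!
# A finite Galois extension receiving finitely many finite separable extensions (helper3)
-/

set_option autoImplicit false
universe u

namespace Groth.Agent.Lib.helper3.FinGalois

/-- Finitely many finite separable extensions of `k` embed in a common finite Galois extension. -/
theorem exists_finite_galois {k : Type u} [Field k] {ι : Type*} [Finite ι] (K : ι → Type u)
    [instF : ∀ i, Field (K i)] [instA : ∀ i, Algebra k (K i)]
    [instFD : ∀ i, FiniteDimensional k (K i)] [instS : ∀ i, Algebra.IsSeparable k (K i)] :
    ∃ (L : Type u) (_ : Field L) (_ : Algebra k L), FiniteDimensional k L ∧ IsGalois k L ∧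
      ∀ i, Nonempty (K i →ₐ[k] L) := by
  let e : ∀ i, K i →ₐ[k] SeparableClosure k := fun i => IsSepClosed.lift
  let M : IntermediateField k (SeparableClosure k) := ⨆ i, (e i).fieldRange
  have hfd : ∀ i, FiniteDimensional k (e i).fieldRange := fun i =>
    LinearMap.finiteDimensional_range (e i).toLinearMap
  have hM : FiniteDimensional k M := IntermediateField.finiteDimensional_iSup_of_finite
  let L : IntermediateField k (SeparableClosure k) :=
    IntermediateField.normalClosure k M (SeparableClosure k)
  have hL1 : FiniteDimensional k L := normalClosure.is_finiteDimensional k M (SeparableClosure k)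
  have hL2 : IsGalois k L := IsGalois.normalClosure k M (SeparableClosure k)
  refine ⟨L, inferInstance, inferInstance, hL1, hL2, fun i => ⟨?_⟩⟩
  refine AlgHom.codRestrict (e i) L.toSubalgebra (fun x => ?_)
  have h1 : e i x ∈ (e i).fieldRange := ⟨x, rfl⟩
  have h2 : (e i).fieldRange ≤ M := le_iSup (fun i => (e i).fieldRange) i
  have h3 : M ≤ L := IntermediateField.le_normalClosure M
  exact h3 (h2 h1)

end Groth.Agent.Lib.helper3.FinGalois
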