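import Mathlib
/-!
# Finite intersections of valuation rings are semilocal Prüfer domains (helper3)

* `exists_good` : the polynomial trick `1 + x + ... + x^(s-1)` (Matsumura 12.2);
* for `D = (⋂ᵢ Vᵢ) ∩ K` (`V i` valuation subrings of a field `L`, `K` a subfield):
  `exists_div` (`Frac D = K`), `valuationRing_localization`, `finite_maximalSpectrum`,
  `pI` (centres), `exists_eq_pI`;
* `VS` : valuation subring of the fraction field attached to a maximal ideal of a Prüfer domain;
* `main` (= S14729).
-/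

set_option autoImplicit false
set_option linter.style.haveILetI false
set_option linter.unusedSectionVars false
universe u

namespace Groth.Agent.Lib.helper3.FinInterVal

open IsLocalRing Finset

section Key

variable {L : Type*} [Field L]

/-- the geometric sum `1 + x + ... + x^(s-1)`. -/
def F (s : ℕ) (x : L) : L := ∑ k ∈ range s, x ^ k

/-- `s` is good for `V` and `x`. -/
def Good (V : ValuationSubring L) (x : L) (s : ℕ) : Prop :=
  F s x ≠ 0 ∧ ∀ j, j < s → x ^ j / F s x ∈ V

theorem good_of_not_mem (V : ValuationSubring L) {x : L} (hx : x ∉ V) {s : ℕ} (hs : 0 < s) :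
    Good V x s := by
  have hv : 1 < V.valuation x := by
    rw [← not_le, ValuationSubring.valuation_le_one_iff]; exact hx
  obtain ⟨t, rfl⟩ : ∃ t, s = t + 1 := ⟨s - 1, by omega⟩
  have hF : V.valuation (F (t + 1) x) = V.valuation x ^ t := by
    unfold F
    rw [Finset.sum_range_succ]
    by_cases ht : t = 0
    · subst ht; simp
    have hlt : V.valuation (∑ k ∈ range t, x ^ k) < V.valuation (x ^ t) := by
      apply Valuation.map_sum_lt
      · rw [map_pow]; exact pow_ne_zero _ (ne_of_gt (lt_trans zero_lt_one hv))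
      · intro i hi
        rw [map_pow, map_pow]
        exact pow_lt_pow_right₀ hv (Finset.mem_range.mp hi)
    rw [(V.valuation).map_add_eq_of_lt_right hlt, map_pow]
  have hF0 : F (t + 1) x ≠ 0 := by
    intro h0
    rw [h0, map_zero] at hF
    exact (pow_ne_zero t (ne_of_gt (lt_trans zero_lt_one hv))) hF.symm
  refine ⟨hF0, fun j hj => ?_⟩
  rw [← ValuationSubring.valuation_le_one_iff, map_div₀, hF, map_pow]
  rw [div_le_one₀ (pow_pos (lt_trans zero_lt_one hv) t)]
  exact pow_le_pow_right₀ hv.le (by omega)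

theorem good_of_isUnit (V : ValuationSubring L) {x : L} (hx : x ∈ V) {s : ℕ}
    (hu : IsUnit (∑ k ∈ range s, (⟨x, hx⟩ : V) ^ k)) : Good V x s := by
  have hcoe : ((∑ k ∈ range s, (⟨x, hx⟩ : V) ^ k : V) : L) = F s x := by
    unfold F; push_cast; rfl
  obtain ⟨u, hu⟩ := hu
  have hF0 : F s x ≠ 0 := by
    rw [← hcoe, ← hu]
    exact fun h => u.ne_zero (Subtype.ext h)
  refine ⟨hF0, fun j _ => ?_⟩
  have hinv : (F s x)⁻¹ = ((↑u⁻¹ : V) : L) := by
    rw [← hcoe, ← hu]
    apply inv_eq_of_mul_eq_one_right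
    have h1 : ((u : V) * (↑u⁻¹ : V) : V) = 1 := u.mul_inv
    have h2 := congrArg (fun z : V => (z : L)) h1
    simpa only [MulMemClass.coe_mul, OneMemClass.coe_one] using h2
  rw [div_eq_mul_inv, hinv]
  exact V.mul_mem _ _ (pow_mem hx j) (Subtype.mem _)

theorem exists_bad (V : ValuationSubring L) (x : L) :
    ∃ r : ℕ, r ≠ 1 ∧ ∀ s, 0 < s → ¬ r ∣ s → Good V x s := by
  by_cases hx : x ∈ V
  · by_cases h1 : residue V (⟨x, hx⟩ : V) = 1
    · refine ⟨ringChar (ResidueField V), CharP.ringChar_ne_one, fun s hs hrs =>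
        good_of_isUnit V hx ?_⟩
      rw [← residue_ne_zero_iff_isUnit, map_sum]
      simp only [map_pow, h1, one_pow, sum_const, card_range, nsmul_eq_mul, mul_one]
      rwa [Ne, ringChar.spec]
    · refine ⟨orderOf (residue V (⟨x, hx⟩ : V)), fun h => h1 (orderOf_eq_one_iff.mp h),
        fun s hs hrs => good_of_isUnit V hx ?_⟩
      rw [← residue_ne_zero_iff_isUnit, map_sum]
      simp only [map_pow]
      intro h0
      apply hrs
      rw [orderOf_dvd_iff_pow_eq_one]
      have := geom_sum_mul (residue V (⟨x, hx⟩ : V)) s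
      rw [h0, zero_mul] at this
      exact (sub_eq_zero.mp this.symm)
  · exact ⟨0, zero_ne_one, fun s hs _ => good_of_not_mem V hx hs⟩

/-- **Key lemma**: simultaneous choice of `s` for finitely many valuation rings. -/
theorem exists_good {ι : Type*} [Fintype ι] (V : ι → ValuationSubring L) (x : L) :
    ∃ s : ℕ, 2 ≤ s ∧ ∀ i, Good (V i) x s := by
  classical
  choose r hr1 hr using fun i => exists_bad (V i) x
  let N : ℕ := ∏ i, (if r i = 0 then 1 else r i)
  have hN : 0 < N := Finset.prod_pos fun i _ => by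
    by_cases h : r i = 0
    · rw [if_pos h]; exact one_pos
    · rw [if_neg h]; exact Nat.pos_of_ne_zero h
  refine ⟨N + 1, by omega, fun i => hr i (N + 1) (by omega) ?_⟩
  by_cases h : r i = 0
  · rw [h, zero_dvd_iff]; omega
  · intro hdvd
    have h1 : r i ∣ N := by
      have := Finset.dvd_prod_of_mem (fun i => if r i = 0 then 1 else r i) (Finset.mem_univ i)
      rwa [if_neg h] at this
    have h2 : r i ∣ 1 := (Nat.dvd_add_right h1).mp hdvd
    exact hr1 i (Nat.dvd_one.mp h2)

theorem sum_div_F {x : L} {s : ℕ} (h : F s x ≠ 0) : ∑ j ∈ range s, x ^ j / F s x = 1 := by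
  rw [← Finset.sum_div]
  exact div_self h

end Key

section Inter

variable {L : Type u} [Field L] (K : Subfield L) {ι : Type*} [Fintype ι] [Nonempty ι]
  (V : ι → ValuationSubring L) (D : Subring L)
  (hD : ∀ z : L, z ∈ D ↔ (∀ i, z ∈ V i) ∧ z ∈ K)

include hD

theorem exists_y (x : L) (hx : x ∈ K) : ∃ (s : ℕ) (y : ℕ → L), 2 ≤ s ∧ (∀ j, j < s → y j ∈ D) ∧
    y 0 ≠ 0 ∧ ∑ j ∈ range s, y j = 1 ∧ ∀ j, y (j + 1) = x * y j := by
  obtain ⟨s, hs, hgood⟩ := exists_good V x
  have i0 : ι := Classical.arbitrary ι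
  have hF0 : F s x ≠ 0 := (hgood i0).1
  have hFK : F s x ∈ K := K.sum_mem fun k _ => K.pow_mem hx k
  refine ⟨s, fun j => x ^ j / F s x, hs, fun j hj => ?_, ?_, sum_div_F hF0, fun j => ?_⟩
  · rw [hD]; exact ⟨fun i => (hgood i).2 j hj, K.div_mem (K.pow_mem hx j) hFK⟩
  · simp only [pow_zero, one_div]; exact inv_ne_zero hF0
  · simp only [pow_succ]; ring

/-- `Frac D = K`. -/
theorem exists_div (x : L) (hx : x ∈ K) :
    ∃ a b : L, a ∈ D ∧ b ∈ D ∧ b ≠ 0 ∧ x = a / b := by
  obtain ⟨s, y, hs, hy, hy0, -, hrec⟩ := exists_y K V D hD x hx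
  refine ⟨y 1, y 0, hy 1 (by omega), hy 0 (by omega), hy0, ?_⟩
  rw [hrec 0, mul_div_assoc, div_self hy0, mul_one]

theorem mem_K_of_mem {z : L} (hz : z ∈ D) : z ∈ K := ((hD z).mp hz).2

theorem mem_V_of_mem {z : L} (hz : z ∈ D) (i : ι) : z ∈ V i := ((hD z).mp hz).1 i

/-- localizations of `D` at primes are valuation rings. -/
theorem valuationRing_localization (p : Ideal D) [p.IsPrime] :
    ValuationRing (Localization.AtPrime p) := by
  classical
  have hassoc : ∀ (a : D) (s : p.primeCompl),
      Associated (IsLocalization.mk' (Localization.AtPrime p) a s)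
        (algebraMap D (Localization.AtPrime p) a) := fun a s =>
    ⟨(IsLocalization.map_units (Localization.AtPrime p) s).unit, by
      rw [IsUnit.unit_spec, IsLocalization.mk'_spec]⟩
  have key : ∀ a' b' : D, algebraMap D (Localization.AtPrime p) a' ∣ algebraMap D _ b' ∨
      algebraMap D (Localization.AtPrime p) b' ∣ algebraMap D _ a' := by
    intro a' b'
    by_cases hb0 : b' = 0
    · left; rw [hb0, map_zero]; exact dvd_zero _
    have hb0' : (b' : L) ≠ 0 := fun h => hb0 (Subtype.ext h)
    have hxK : (a' : L) / (b' : L) ∈ K :=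
      K.div_mem (mem_K_of_mem K V D hD a'.2) (mem_K_of_mem K V D hD b'.2)
    obtain ⟨s, y, hs, hy, hy0, hsum, hrec⟩ := exists_y K V D hD _ hxK
    have hrel : ∀ j, y (j + 1) * (b' : L) = (a' : L) * y j := by
      intro j; rw [hrec j]; field_simp
    have hex : ∃ j, ∃ hj : j < s, (⟨y j, hy j hj⟩ : D) ∉ p := by
      by_contra hcon
      push Not at hcon
      have h1 : (1 : D) = ∑ j : Fin s, (⟨y j, hy j j.2⟩ : D) := by
        apply Subtype.ext
        rw [Subring.coe_one, AddSubmonoidClass.coe_finsetSum, ← hsum]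
        exact (Fin.sum_univ_eq_sum_range y s).symm
      have h2 : (1 : D) ∈ p := by
        rw [h1]; exact Ideal.sum_mem _ fun j _ => hcon j j.2
      exact (Ideal.IsPrime.ne_top inferInstance) ((Ideal.eq_top_iff_one _).mpr h2)
    obtain ⟨j, hj, hjp⟩ := hex
    have hunit : IsUnit (algebraMap D (Localization.AtPrime p) ⟨y j, hy j hj⟩) :=
      IsLocalization.map_units (Localization.AtPrime p) (⟨_, hjp⟩ : p.primeCompl)
    rcases Nat.eq_zero_or_pos j with rfl | hjpos
    · right
      have e : (⟨y 1, hy 1 (by omega)⟩ : D) * b' = a' * ⟨y 0, hy 0 hj⟩ := Subtype.ext (hrel 0)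
      have e' := congrArg (algebraMap D (Localization.AtPrime p)) e
      rw [map_mul, map_mul] at e'
      obtain ⟨u, hu⟩ := hunit
      refine ⟨algebraMap D _ ⟨y 1, hy 1 (by omega)⟩ * ↑u⁻¹, ?_⟩
      rw [← hu] at e'
      calc algebraMap D (Localization.AtPrime p) a'
          = algebraMap D _ a' * ↑u * ↑u⁻¹ := by rw [mul_assoc, Units.mul_inv, mul_one]
        _ = _ := by rw [← e']; ring
    · left
      obtain ⟨k, rfl⟩ : ∃ k, j = k + 1 := ⟨j - 1, by omega⟩
      have e : (⟨y (k + 1), hy (k + 1) hj⟩ : D) * b' = a' * ⟨y k, hy k (by omega)⟩ :=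
        Subtype.ext (hrel k)
      have e' := congrArg (algebraMap D (Localization.AtPrime p)) e
      rw [map_mul, map_mul] at e'
      obtain ⟨u, hu⟩ := hunit
      refine ⟨algebraMap D _ ⟨y k, hy k (by omega)⟩ * ↑u⁻¹, ?_⟩
      rw [← hu] at e'
      calc algebraMap D (Localization.AtPrime p) b'
          = ↑u * algebraMap D _ b' * ↑u⁻¹ := by
            rw [mul_comm (↑u : Localization.AtPrime p), mul_assoc, Units.mul_inv, mul_one]
        _ = _ := by rw [e']; ring
  refine ValuationRing.iff_dvd_total.mpr ⟨fun a b => ?_⟩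
  obtain ⟨a', s, rfl⟩ := IsLocalization.exists_mk'_eq p.primeCompl a
  obtain ⟨b', t, rfl⟩ := IsLocalization.exists_mk'_eq p.primeCompl b
  rcases key a' b' with h | h
  · left
    exact ((hassoc a' s).dvd_iff_dvd_left).mpr (((hassoc b' t).dvd_iff_dvd_right).mpr h)
  · right
    exact ((hassoc b' t).dvd_iff_dvd_left).mpr (((hassoc a' s).dvd_iff_dvd_right).mpr h)

/-- the centre of `V i` on `D`. -/
def pI (i : ι) : Ideal D where
  carrier := {a | (V i).valuation (a : L) < 1}
  add_mem' := by
    intro a b ha hb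
    have ha' : (V i).valuation (a : L) < 1 := ha
    have hb' : (V i).valuation (b : L) < 1 := hb
    show (V i).valuation ((a + b : D) : L) < 1
    rw [Subring.coe_add]
    exact lt_of_le_of_lt (Valuation.map_add _ _ _) (max_lt ha' hb')
  zero_mem' := by
    show (V i).valuation ((0 : D) : L) < 1
    rw [Subring.coe_zero, map_zero]; exact zero_lt_one
  smul_mem' := by
    intro c a ha
    show (V i).valuation ((c * a : D) : L) < 1
    rw [Subring.coe_mul, map_mul]
    have hc : (V i).valuation (c : L) ≤ 1 :=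
      (ValuationSubring.valuation_le_one_iff _ _).mpr (mem_V_of_mem K V D hD c.2 i)
    exact mul_lt_one_of_nonneg_of_lt_one_right hc zero_le ha

theorem mem_pI (i : ι) (a : D) : a ∈ pI K V D hD i ↔ (V i).valuation (a : L) < 1 := Iff.rfl

theorem valuation_le_one (i : ι) (a : D) : (V i).valuation (a : L) ≤ 1 :=
  (ValuationSubring.valuation_le_one_iff _ _).mpr (mem_V_of_mem K V D hD a.2 i)

instance pI_isPrime (i : ι) : (pI K V D hD i).IsPrime := by
  refine ⟨?_, ?_⟩
  · intro h
    have : (1 : D) ∈ pI K V D hD i := by rw [h]; trivial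
    rw [mem_pI, Subring.coe_one, map_one] at this
    exact lt_irrefl _ this
  · intro a b hab
    rw [mem_pI, Subring.coe_mul, map_mul] at hab
    by_contra hcon
    push Not at hcon
    rw [mem_pI, mem_pI, not_lt, not_lt] at hcon
    have ha := le_antisymm (valuation_le_one K V D hD i a) hcon.1
    have hb := le_antisymm (valuation_le_one K V D hD i b) hcon.2
    rw [ha, hb, mul_one] at hab
    exact lt_irrefl _ hab

theorem isUnit_of_forall_not_mem_pI (a : D) (h : ∀ i, a ∉ pI K V D hD i) : IsUnit a := by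
  have hval : ∀ i, (V i).valuation (a : L) = 1 := fun i =>
    le_antisymm (valuation_le_one K V D hD i a) (not_lt.mp (h i))
  have ha0 : (a : L) ≠ 0 := by
    intro h0
    have i0 : ι := Classical.arbitrary ι
    have := hval i0
    rw [h0, map_zero] at this
    exact zero_ne_one this
  have hinv : (a : L)⁻¹ ∈ D := by
    rw [hD]
    refine ⟨fun i => ?_, K.inv_mem (mem_K_of_mem K V D hD a.2)⟩
    rw [← ValuationSubring.valuation_le_one_iff, map_inv₀, hval i, inv_one]
  refine IsUnit.of_mul_eq_one (⟨(a : L)⁻¹, hinv⟩ : D) ?_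
  apply Subtype.ext
  rw [Subring.coe_mul, Subring.coe_one]
  exact mul_inv_cancel₀ ha0

theorem exists_eq_pI (M : Ideal D) [hM : M.IsMaximal] : ∃ i, M = pI K V D hD i := by
  classical
  have hsub : (M : Set D) ⊆ ⋃ i ∈ ((Finset.univ : Finset ι) : Set ι), (pI K V D hD i : Set D) := by
    intro a ha
    by_contra hcon
    simp only [Finset.coe_univ, Set.mem_univ, Set.iUnion_true, Set.mem_iUnion, SetLike.mem_coe,
      not_exists] at hcon
    exact hM.ne_top (Ideal.eq_top_of_isUnit_mem _ ha (isUnit_of_forall_not_mem_pI K V D hD a hcon))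
  have i0 : ι := Classical.arbitrary ι
  obtain ⟨i, -, hi⟩ := (Ideal.subset_union_prime (s := Finset.univ) (f := fun i => pI K V D hD i)
    i0 i0 (fun i _ _ _ => inferInstance)).mp hsub
  exact ⟨i, hM.eq_of_le (Ideal.IsPrime.ne_top inferInstance) hi⟩

theorem finite_maximalSpectrum : Finite (MaximalSpectrum D) := by
  classical
  choose g hg using fun M : MaximalSpectrum D =>
    @exists_eq_pI L _ K ι _ _ V D hD M.asIdeal M.isMaximal
  refine Finite.of_injective g fun M M' h => ?_
  ext1
  rw [hg M, hg M', h]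

end Inter

section Prufer

variable (R L : Type u) [CommRing R] [IsDomain R] [Field L] [Algebra R L] [IsFractionRing R L]
    (hR : ∀ (p : Ideal R) [p.IsPrime], ValuationRing (Localization.AtPrime p))

include hR in
theorem mem_or_inv_mem_ofField (m : MaximalSpectrum R) (x : L) :
    x ∈ Localization.subalgebra.ofField L m.asIdeal.primeCompl
        m.asIdeal.primeCompl_le_nonZeroDivisors ∨
      x⁻¹ ∈ Localization.subalgebra.ofField L m.asIdeal.primeCompl
        m.asIdeal.primeCompl_le_nonZeroDivisors := by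
  set S := Localization.subalgebra.ofField L m.asIdeal.primeCompl
    m.asIdeal.primeCompl_le_nonZeroDivisors with hS
  haveI := hR m.asIdeal
  let e : Localization.AtPrime m.asIdeal ≃ₐ[R] S :=
    IsLocalization.algEquiv m.asIdeal.primeCompl _ _
  haveI : ValuationRing S :=
    Function.Surjective.valuationRing (e : Localization.AtPrime m.asIdeal →+* S) e.surjective
  rcases ValuationRing.isInteger_or_isInteger S x with ⟨y, hy⟩ | ⟨y, hy⟩
  · left; rw [← hy]; exact y.2
  · right; rw [← hy]; exact y.2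

/-- the valuation subring of `L` attached to a maximal ideal of `R`. -/
noncomputable def VS (m : MaximalSpectrum R) : ValuationSubring L :=
  { (Localization.subalgebra.ofField L m.asIdeal.primeCompl
      m.asIdeal.primeCompl_le_nonZeroDivisors).toSubring with
    mem_or_inv_mem' := mem_or_inv_mem_ofField R L hR m }

theorem mem_VS (m : MaximalSpectrum R) (x : L) :
    x ∈ VS R L hR m ↔ x ∈ Localization.subalgebra.ofField L m.asIdeal.primeCompl
      m.asIdeal.primeCompl_le_nonZeroDivisors := Iff.rfl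

theorem mem_range_iff (z : L) : z ∈ (algebraMap R L).range ↔ ∀ m, z ∈ VS R L hR m := by
  simp only [mem_VS]
  rw [← Algebra.mem_iInf, MaximalSpectrum.iInf_localization_eq_bot R L, Algebra.mem_bot]
  rfl

include hR in
theorem main (hfin : Finite (MaximalSpectrum R)) (K : Subfield L) :
    (∀ (p : Ideal ↥((algebraMap R L).range ⊓ K.toSubring)) [p.IsPrime],
        ValuationRing (Localization.AtPrime p)) ∧
      Finite (MaximalSpectrum ↥((algebraMap R L).range ⊓ K.toSubring)) ∧
      ∀ x : L, x ∈ K → ∃ a b : L, a ∈ (algebraMap R L).range ⊓ K.toSubring ∧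
        b ∈ (algebraMap R L).range ⊓ K.toSubring ∧ b ≠ 0 ∧ x = a / b := by
  classical
  haveI := Fintype.ofFinite (MaximalSpectrum R)
  haveI : Nonempty (MaximalSpectrum R) := by
    obtain ⟨M, hM⟩ := Ideal.exists_maximal R
    exact ⟨⟨M, hM⟩⟩
  have hD : ∀ z : L, z ∈ (algebraMap R L).range ⊓ K.toSubring ↔
      (∀ m, z ∈ VS R L hR m) ∧ z ∈ K := by
    intro z
    rw [Subring.mem_inf, mem_range_iff R L hR]
    rfl
  exact ⟨fun p _ => valuationRing_localization K (VS R L hR) _ hD p,
    finite_maximalSpectrum K (VS R L hR) _ hD, fun x hx => exists_div K (VS R L hR) _ hD x hx⟩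

end Prufer

end Groth.Agent.Lib.helper3.FinInterVal
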