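import Mathlib.AlgebraicGeometry.Morphisms.Finite
import Mathlib.AlgebraicGeometry.Morphisms.Proper
import Mathlib.AlgebraicGeometry.PullbackCarrier

/-!
# Helper library (helper3): points of schemes finite over a local ring specialize to the closed fibre
-/

set_option autoImplicit false

namespace Groth.Agent.Lib.helper3.FinitePart

open CategoryTheory CategoryTheory.Limits AlgebraicGeometry

universe u

/-- Every point of a scheme that is universally closed over the spectrum of a local ring specializes to
a point of the closed fibre. -/
theorem exists_specializes_closedFibre (R : Type u) [CommRing R] [IsLocalRing R] {P : Scheme.{u}}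
    (h : P ⟶ Spec (CommRingCat.of R)) [UniversallyClosed h] (p : P) :
    ∃ p₀ : P, p ⤳ p₀ ∧ h.base p₀ = IsLocalRing.closedPoint R := by
  have hcl : IsClosed (h.base '' closure {p}) := h.isClosedMap _ isClosed_closure
  have hmem : h.base p ∈ h.base '' closure {p} := ⟨p, subset_closure rfl, rfl⟩
  have hsp : (h.base p : PrimeSpectrum R) ⤳ IsLocalRing.closedPoint R :=
    IsLocalRing.specializes_closedPoint _
  obtain ⟨p₀, hp₀, hp₀'⟩ := hsp.mem_closed hcl hmem
  exact ⟨p₀, specializes_iff_mem_closure.mpr hp₀, hp₀'⟩

/-- If `j ≫ f` is universally closed over a local base and `W` is an open subset of the target of `j`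
containing the closed fibre of `f`, then `j` lands in `W`. -/
theorem mem_of_closedFibre_subset (R : Type u) [CommRing R] [IsLocalRing R] {P X : Scheme.{u}}
    (j : P ⟶ X) (f : X ⟶ Spec (CommRingCat.of R)) [UniversallyClosed (j ≫ f)]
    (W : X.Opens) (hW : ∀ x : X, f.base x = IsLocalRing.closedPoint R → x ∈ W) (p : P) :
    j.base p ∈ W := by
  obtain ⟨p₀, hp, hp₀⟩ := exists_specializes_closedFibre R (j ≫ f) p
  have h1 : j.base p ⤳ j.base p₀ := hp.map j.continuous
  exact h1.mem_open W.isOpen (hW _ (by simpa using hp₀))

end Groth.Agent.Lib.helper3.FinitePart
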