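import Mathlib
import Groth.Prelude.Def_Fitting
import Groth.Prelude.Def_FlatCA

set_option autoImplicit false
set_option linter.style.haveILetI false
set_option linter.unusedSectionVars false

universe u

namespace Groth.Agent.Lib.helper3.FittEt

theorem fittingZero_eq (R : Type u) [CommRing R] (M : Type u) [AddCommGroup M] [Module R M] :
    FlatCA.fittingZero R M = Fitt.ideal R M 0 := by
  unfold FlatCA.fittingZero Fitt.ideal
  congr 1
  ext d
  constructor
  · rintro ⟨n, x, a, hx, ha, rfl⟩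
    exact ⟨n, x, a, hx, fun i _ => ha i, rfl⟩
  · rintro ⟨n, x, a, hx, ha, rfl⟩
    exact ⟨n, x, a, hx, fun i => ha i (by simp), rfl⟩

/-- Lifting the "diagonal idempotent" from a localization. -/
theorem exists_idem {R B L : Type*} [CommRing R] [CommRing B] [CommRing L] [Algebra R L]
    (μ : R →+* B) (hμ : Function.Surjective μ) (w : R) [IsLocalization.Away w L]
    (hw : IsUnit (μ w)) (μL : L →+* B) (hμL : ∀ x, μL (algebraMap R L x) = μ x)
    (t : L) (ht1 : μL t = 1) (ht : ∀ x, μ x = 0 → algebraMap R L x * t = 0) :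
    ∃ e : R, e * e = e ∧ μ e = 1 ∧ ∀ x, μ x = 0 → x * e = 0 := by
  obtain ⟨u, hu⟩ : ∃ u, μ u * μ w = 1 := by
    obtain ⟨b, hb⟩ := hw.exists_left_inv
    obtain ⟨u, rfl⟩ := hμ b
    exact ⟨u, hb⟩
  set v := u * w with hv
  have hμv : μ v = 1 := by rw [hv, map_mul, hu]
  have hvt : algebraMap R L v * t = t := by
    have h := ht (v - 1) (by rw [map_sub, hμv, map_one, sub_self])
    rw [map_sub, map_one, sub_mul, one_mul, sub_eq_zero] at h
    exact h
  have hvt' : ∀ m : ℕ, t * algebraMap R L v ^ m = t := by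
    intro m
    induction m with
    | zero => rw [pow_zero, mul_one]
    | succ m ih => rw [pow_succ, ← mul_assoc, ih, mul_comm, hvt]
  have hwunit : IsUnit (algebraMap R L w) := IsLocalization.Away.algebraMap_isUnit w
  -- `t` kills the kernel of `μL`
  have hF : ∀ z : L, μL z = 0 → z * t = 0 := by
    intro z hz
    obtain ⟨n, a, ha⟩ := IsLocalization.Away.surj w z
    have hμa : μ a = 0 := by
      rw [← hμL, ← ha, map_mul, hz, zero_mul]
    have h := ht a hμa
    rw [← ha] at h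
    have h' : algebraMap R L w ^ n * (z * t) = 0 := by
      rw [← h]; ring
    exact (hwunit.pow n).mul_right_eq_zero.mp h'
  have htt : t * t = t := by
    have h := hF (t - 1) (by rw [map_sub, ht1, map_one, sub_self])
    rw [sub_mul, one_mul, sub_eq_zero] at h
    exact h
  -- a preimage `e₀` of `t`
  obtain ⟨e₀, he₀⟩ : ∃ e₀ : R, algebraMap R L e₀ = t := by
    obtain ⟨m, t₀, ht₀⟩ := IsLocalization.Away.surj w t
    refine ⟨t₀ * u ^ m, ?_⟩
    rw [map_mul, ← ht₀, map_pow, mul_assoc, ← mul_pow, ← map_mul, mul_comm w u, ← hv, hvt']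
  have hpow : ∀ y : R, algebraMap R L y = 0 → ∃ N : ℕ, ∀ k, N ≤ k → v ^ k * y = 0 := by
    intro y hy
    have h0 : algebraMap R L y = algebraMap R L 0 := by rw [hy, map_zero]
    obtain ⟨⟨c, ⟨N, rfl⟩⟩, hc⟩ := (IsLocalization.eq_iff_exists (Submonoid.powers w) L).mp h0
    simp only [mul_zero] at hc
    refine ⟨N, fun k hk => ?_⟩
    obtain ⟨j, rfl⟩ := Nat.exists_eq_add_of_le hk
    rw [hv, mul_pow, pow_add w]
    calc u ^ (N + j) * (w ^ N * w ^ j) * y = u ^ (N + j) * w ^ j * (w ^ N * y) := by ring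
      _ = 0 := by rw [hc, mul_zero]
  obtain ⟨N₁, hN₁⟩ := hpow (e₀ * e₀ - e₀) (by rw [map_sub, map_mul, he₀, htt, sub_self])
  obtain ⟨N₂, hN₂⟩ := hpow (e₀ * (v - 1)) (by
    rw [map_mul, map_sub, map_one, he₀, mul_sub, mul_one, mul_comm, hvt, sub_self])
  set N := N₁ + N₂ with hN
  have hA : v ^ N * (e₀ * e₀ - e₀) = 0 := hN₁ N (by omega)
  have hB : v ^ N * (e₀ * (v - 1)) = 0 := hN₂ N (by omega)
  set e := e₀ * v ^ N with he
  have hev : e * v = e := by
    have : e * v - e = v ^ N * (e₀ * (v - 1)) := by rw [he]; ring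
    rw [← sub_eq_zero, this, hB]
  have hevk : ∀ k : ℕ, e * v ^ k = e := by
    intro k
    induction k with
    | zero => rw [pow_zero, mul_one]
    | succ k ih => rw [pow_succ, ← mul_assoc, ih, hev]
  have hee : e * e = e := by
    have h1 : e * e = e * v ^ N + v ^ N * (v ^ N * (e₀ * e₀ - e₀)) := by rw [he]; ring
    rw [h1, hA, mul_zero, add_zero, hevk]
  have hμe : μ e = 1 := by
    rw [he, map_mul, map_pow, hμv, one_pow, mul_one, ← hμL, he₀, ht1]
  refine ⟨e, hee, hμe, ?_⟩
  intro x hx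
  obtain ⟨N₃, hN₃⟩ := hpow (x * e₀) (by rw [map_mul, he₀, ht x hx])
  have h3 : v ^ N₃ * (x * e₀) = 0 := hN₃ N₃ le_rfl
  calc x * e = x * (e * v ^ N₃) := by rw [hevk]
    _ = v ^ N * (v ^ N₃ * (x * e₀)) := by rw [he]; ring
    _ = 0 := by rw [h3, mul_zero]

end Groth.Agent.Lib.helper3.FittEt
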