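import Mathlib
import Groth.Agent.Lib.Helper3.FittEt1

set_option autoImplicit false
set_option linter.style.haveILetI false
set_option linter.unusedSectionVars false

universe u

namespace Groth.Agent.Lib.helper3.FittEt

/-- Splitting of a quotient of an augmented algebra by means of the diagonal idempotent. -/
theorem exists_split {B R : Type u} [CommRing B] [CommRing R] [Algebra B R] (μ : R →ₐ[B] B)
    (e : R) (he : e * e = e) (hμe : μ e = 1) (hK : ∀ x, μ x = 0 → x * e = 0) (𝔧 : Ideal R) :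
    Nonempty ((R ⧸ 𝔧) ≃ₗ[B] (B ⧸ 𝔧.map μ) × (R ⧸ (𝔧 ⊔ Ideal.span {e}))) := by
  have hμsurj : Function.Surjective μ := fun b => ⟨algebraMap B R b, by simp⟩
  let Φ : R →ₗ[B] (B ⧸ 𝔧.map μ) × (R ⧸ (𝔧 ⊔ Ideal.span {e})) :=
    LinearMap.prod ((Ideal.Quotient.mkₐ B (𝔧.map μ)).toLinearMap ∘ₗ μ.toLinearMap)
      (Ideal.Quotient.mkₐ B (𝔧 ⊔ Ideal.span {e})).toLinearMap
  have hΦ : ∀ x, Φ x = (Ideal.Quotient.mk (𝔧.map μ) (μ x),
      Ideal.Quotient.mk (𝔧 ⊔ Ideal.span {e}) x) := fun x => rfl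
  have hker : LinearMap.ker Φ = 𝔧.restrictScalars B := by
    ext x
    rw [LinearMap.mem_ker, hΦ, Prod.mk_eq_zero, Ideal.Quotient.eq_zero_iff_mem,
      Ideal.Quotient.eq_zero_iff_mem, Submodule.restrictScalars_mem]
    constructor
    · rintro ⟨h1, h2⟩
      obtain ⟨n₂, hn₂, hn₂x⟩ := (Ideal.mem_map_iff_of_surjective μ hμsurj).mp h1
      obtain ⟨n₁, hn₁, r, hr, hx⟩ := Submodule.mem_sup.mp h2
      obtain ⟨r', rfl⟩ := Ideal.mem_span_singleton'.mp hr
      have hxe : x * e = n₂ * e := by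
        have := hK (x - n₂) (by rw [map_sub, hn₂x, sub_self])
        rw [sub_mul, sub_eq_zero] at this
        exact this
      have h3 : x - x * e = n₁ - n₁ * e := by
        rw [← hx]
        have : r' * e * e = r' * e := by rw [mul_assoc, he]
        calc n₁ + r' * e - (n₁ + r' * e) * e = n₁ - n₁ * e + (r' * e - r' * e * e) := by ring
          _ = n₁ - n₁ * e := by rw [this, sub_self, add_zero]
      have h4 : x = (n₁ - n₁ * e) + n₂ * e := by rw [← h3, ← hxe]; ring
      rw [h4]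
      exact 𝔧.add_mem (𝔧.sub_mem hn₁ (𝔧.mul_mem_right _ hn₁)) (𝔧.mul_mem_right _ hn₂)
    · intro hx
      exact ⟨Ideal.mem_map_of_mem _ hx, Ideal.mem_sup_left hx⟩
  have hsurj : Function.Surjective Φ := by
    rintro ⟨y, z⟩
    obtain ⟨y, rfl⟩ := Ideal.Quotient.mk_surjective y
    obtain ⟨z, rfl⟩ := Ideal.Quotient.mk_surjective z
    refine ⟨y • e + (z - z * e), ?_⟩
    rw [hΦ]
    refine Prod.ext ?_ ?_
    · change Ideal.Quotient.mk _ (μ (y • e + (z - z * e))) = Ideal.Quotient.mk _ y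
      congr 1
      rw [map_add, map_smul, map_sub, map_mul, hμe]
      simp
    · change Ideal.Quotient.mk _ (y • e + (z - z * e)) = Ideal.Quotient.mk _ z
      rw [Ideal.Quotient.eq]
      apply Ideal.mem_sup_right
      rw [Ideal.mem_span_singleton']
      refine ⟨algebraMap B R y - z, ?_⟩
      rw [Algebra.smul_def]
      ring
  exact ⟨(Submodule.Quotient.restrictScalarsEquiv B 𝔧).symm ≪≫ₗ
    (Submodule.quotEquivOfEq _ _ hker.symm) ≪≫ₗ Φ.quotKerEquivOfSurjective hsurj⟩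

end Groth.Agent.Lib.helper3.FittEt
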