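import Mathlib
import Groth.Agent.Lib.Helper3.FittEt2

set_option autoImplicit false
set_option linter.style.haveILetI false
set_option linter.unusedSectionVars false

universe u

open TensorProduct

namespace Groth.Agent.Lib.helper3.FittEt

section

variable {A C : Type u} [CommRing A] [CommRing C] [Algebra A C] (h : C)

/-- The augmentation `C_h ⊗_A C → C_h`. -/
noncomputable def aug : Localization.Away h ⊗[A] C →ₐ[Localization.Away h] Localization.Away h :=
  Algebra.TensorProduct.lift (AlgHom.id _ _) (IsScalarTower.toAlgHom A C (Localization.Away h))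
    (fun _ _ => Commute.all _ _)

@[simp]
theorem aug_tmul (b : Localization.Away h) (c : C) :
    aug (A := A) h (b ⊗ₜ c) = b * algebraMap C (Localization.Away h) c := by
  simp [aug]

theorem exists_idem_aug [Algebra.Etale A (Localization.Away h)] :
    ∃ e : Localization.Away h ⊗[A] C, e * e = e ∧ aug (A := A) h e = 1 ∧
      ∀ x, aug (A := A) h x = 0 → x * e = 0 := by
  let Ch := Localization.Away h
  let φ : Ch ⊗[A] C →ₐ[Ch] Ch ⊗[A] Ch :=
    Algebra.TensorProduct.map (AlgHom.id _ _) (IsScalarTower.toAlgHom A C Ch)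
  algebraize [φ.toRingHom]
  have hloc : IsLocalization.Away ((1 : Ch) ⊗ₜ[A] h) (Ch ⊗[A] Ch) := by
    have : Submonoid.powers ((1 : Ch) ⊗ₜ[A] h) =
        (Submonoid.powers h).map (Algebra.TensorProduct.includeRight (R := A) (A := Ch)) := by
      simp
    rw [IsLocalization.Away, this]
    refine IsLocalization.tensorProduct_tensorProduct_right _ _ _ _ ?_
    ext; simp [RingHom.algebraMap_toAlgebra, φ]
  have hφ : ∀ x, algebraMap (Ch ⊗[A] C) (Ch ⊗[A] Ch) x = φ x := fun x => rfl
  have hμφ : ∀ x : Ch ⊗[A] C, Algebra.TensorProduct.lmul' A (φ x) = aug (A := A) h x := by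
    intro x
    induction x using TensorProduct.induction_on with
    | zero => simp
    | tmul b c =>
      have h1 : φ (b ⊗ₜ[A] c) = b ⊗ₜ[A] (algebraMap C Ch c) := by simp [φ]
      rw [h1, Algebra.TensorProduct.lmul'_apply_tmul]
      exact (aug_tmul h b c).symm
    | add x y hx hy => rw [map_add, map_add, map_add, hx, hy]
  refine exists_idem (L := Ch ⊗[A] Ch) (aug (A := A) h).toRingHom
    (fun b => ⟨b ⊗ₜ 1, by simp⟩) ((1 : Ch) ⊗ₜ[A] h) ?_
    (Algebra.TensorProduct.lmul' A : Ch ⊗[A] Ch →ₐ[A] Ch).toRingHom ?_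
    (Algebra.FormallyUnramified.elem A Ch) ?_ ?_
  · change IsUnit (aug (A := A) h ((1 : Ch) ⊗ₜ[A] h))
    rw [aug_tmul, one_mul]
    exact IsLocalization.Away.algebraMap_isUnit h
  · intro x
    exact hμφ x
  · exact Algebra.FormallyUnramified.lmul_elem
  · intro x hx
    have hmem : φ x ∈ KaehlerDifferential.ideal A Ch := by
      change Algebra.TensorProduct.lmul' A (φ x) = 0
      rw [hμφ]
      exact hx
    rw [← KaehlerDifferential.span_range_eq_ideal] at hmem
    rw [hφ]
    generalize φ x = y' at hmem
    induction hmem using Submodule.span_induction with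
    | mem y hy =>
      obtain ⟨s, rfl⟩ := hy
      exact Algebra.FormallyUnramified.one_tmul_sub_tmul_one_mul_elem s
    | zero => rw [zero_mul]
    | add y z _ _ hy hz => rw [add_mul, hy, hz, add_zero]
    | smul a y _ hy => rw [smul_eq_mul, mul_assoc, hy, mul_zero]

end

end Groth.Agent.Lib.helper3.FittEt
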