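import Mathlib
import Groth.Agent.Lib.Helper3.FittEt3
import Groth.Agent.Lib.Helper15.FittLink
import Groth.Agent.S12084
import Groth.Agent.S6890
import Groth.Agent.S6891

set_option autoImplicit false
set_option linter.style.haveILetI false
set_option linter.unusedSectionVars false

universe u

open TensorProduct

namespace Groth.Agent.Lib.helper3.FittEt

theorem fg_restrictScalars {A C M : Type*} [CommRing A] [CommRing C] [Algebra A C]
    [Module.Finite A C] [AddCommGroup M] [Module C M] [Module A M] [IsScalarTower A C M]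
    (N : Submodule C M) (hN : N.FG) : (N.restrictScalars A).FG := by
  haveI : Module.Finite C N := Module.Finite.iff_fg.mpr hN
  haveI : Module.Finite A N := Module.Finite.trans C N
  have : Module.Finite A (N.restrictScalars A) := ‹Module.Finite A N›
  exact Module.Finite.iff_fg.mp this

theorem finitePresentation_quot {A C : Type*} [CommRing A] [CommRing C] [Algebra A C]
    [Module.Finite A C] [Module.FinitePresentation A C] (J : Ideal C) (hJ : J.FG) :
    Module.FinitePresentation A (C ⧸ J) := by
  refine Module.finitePresentation_of_surjective (Ideal.Quotient.mkₐ A J).toLinearMap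
    (Ideal.Quotient.mkₐ_surjective A J) ?_
  have : LinearMap.ker (Ideal.Quotient.mkₐ A J).toLinearMap = J.restrictScalars A := by
    ext x
    simp [Ideal.Quotient.eq_zero_iff_mem]
  rw [this]
  exact fg_restrictScalars J hJ

theorem main {A C : Type u} [CommRing A] [CommRing C] [Algebra A C] [Module.Finite A C]
    [Module.Projective A C] (h : C) [Algebra.Etale A (Localization.Away h)] (J : Ideal C) :
    ∃ J' : Ideal (Localization.Away h),
      (FlatCA.fittingZero A (C ⧸ J)).map (algebraMap A (Localization.Away h)) =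
        J.map (algebraMap C (Localization.Away h)) * J' ∧
      (J.FG → (FlatCA.fittingZero A (C ⧸ J)).FG ∧ J'.FG) := by
  obtain ⟨e, he, hμe, hK⟩ := exists_idem_aug (A := A) h
  set Ch := Localization.Away h with hCh
  set 𝔧 : Ideal (Ch ⊗[A] C) :=
    J.map (Algebra.TensorProduct.includeRight : C →ₐ[A] Ch ⊗[A] C) with h𝔧
  obtain ⟨E⟩ := exists_split (aug (A := A) h) e he hμe hK 𝔧
  have hmap : 𝔧.map (aug (A := A) h) = J.map (algebraMap C Ch) := by
    rw [h𝔧]
    change Ideal.map (aug (A := A) h).toRingHom (Ideal.map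
      (Algebra.TensorProduct.includeRight : C →ₐ[A] Ch ⊗[A] C).toRingHom J) = _
    rw [Ideal.map_map]
    congr 1
    ext c
    change aug (A := A) h ((1 : Ch) ⊗ₜ[A] c) = _
    rw [aug_tmul, one_mul]
  -- the quotient map
  let q : Ch ⊗[A] C →ₐ[Ch] Ch ⊗[A] (C ⧸ J) :=
    Algebra.TensorProduct.map (AlgHom.id Ch Ch) (Ideal.Quotient.mkₐ A J)
  have hqsurj : Function.Surjective q :=
    Algebra.TensorProduct.map_surjective _ _ Function.surjective_id
      (Ideal.Quotient.mkₐ_surjective A J)
  have hqker : RingHom.ker q = 𝔧 := by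
    have := Algebra.TensorProduct.lTensor_ker (A := Ch) (Ideal.Quotient.mkₐ A J)
      (Ideal.Quotient.mkₐ_surjective A J)
    have hk : RingHom.ker (Ideal.Quotient.mkₐ A J) = J := Ideal.Quotient.mkₐ_ker A J
    rw [hk] at this
    exact this
  let E₀ : (Ch ⊗[A] (C ⧸ J)) ≃ₗ[Ch] ((Ch ⊗[A] C) ⧸ 𝔧) :=
    ((Ideal.quotientKerAlgEquivOfSurjective hqsurj).symm.trans
      (Ideal.quotientEquivAlgOfEq Ch hqker)).toLinearEquiv
  let M₂ := (Ch ⊗[A] C) ⧸ (𝔧 ⊔ Ideal.span {e})
  refine ⟨Fitt.ideal Ch M₂ 0, ?_, ?_⟩
  · rw [fittingZero_eq, ← Groth.Agent.S6890.result (R := A) (R' := Ch) (C ⧸ J) 0,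
      Groth.Agent.Lib.helper15.FittLink.fitt_congr (E₀ ≪≫ₗ E) 0,
      Groth.Agent.S12084.result Ch (Ch ⧸ 𝔧.map (aug (A := A) h)) M₂ 0]
    simp only [zero_add, Finset.range_one, Finset.sum_singleton, Nat.sub_zero]
    rw [(Groth.Agent.S6891.result (R := Ch) Ch (𝔧.map (aug (A := A) h))).2.2, hmap]
  · intro hJ
    haveI : Module.FinitePresentation A C := Module.finitePresentation_of_projective A C
    constructor
    · rw [fittingZero_eq]
      haveI := finitePresentation_quot (A := A) J hJ
      exact Groth.Agent.Lib.helper15.FittLink.fitt_fg 0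
    · haveI : Module.FinitePresentation Ch (Ch ⊗[A] C) :=
        Module.finitePresentation_of_projective Ch _
      have hfg : (𝔧 ⊔ Ideal.span {e}).FG :=
        Submodule.FG.sup (Ideal.FG.map hJ _) ⟨{e}, by simp⟩
      haveI : Module.FinitePresentation Ch M₂ :=
        finitePresentation_quot (A := Ch) (𝔧 ⊔ Ideal.span {e}) hfg
      exact Groth.Agent.Lib.helper15.FittLink.fitt_fg 0

end Groth.Agent.Lib.helper3.FittEt
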