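import Mathlib
import Groth.Agent.Lib.Helper3.FittEt4

set_option autoImplicit false
set_option linter.style.haveILetI false
set_option linter.unusedSectionVars false

universe u

open TensorProduct

namespace Groth.Agent.Lib.helper3.FittEt

theorem exists_fg_map_eq {C S' : Type*} [CommRing C] [CommRing S'] [Algebra C S'] (h : C)
    [IsLocalization.Away h S'] (K : Ideal S') (hK : K.FG) :
    ∃ J₀ : Ideal C, J₀.FG ∧ J₀.map (algebraMap C S') = K := by
  classical
  obtain ⟨s, rfl⟩ := hK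
  choose m c hc using fun x : S' => IsLocalization.Away.surj h x
  refine ⟨Ideal.span (c '' (s : Set S')), ⟨s.image c, by simp⟩, ?_⟩
  rw [Ideal.map_span]
  apply le_antisymm
  · rw [Ideal.span_le]
    rintro _ ⟨_, ⟨x, hx, rfl⟩, rfl⟩
    rw [← hc x]
    exact Ideal.mul_mem_right _ _ (Ideal.subset_span hx)
  · rw [Ideal.span_le]
    intro x hx
    have hu : IsUnit (algebraMap C S' h ^ m x) :=
      (IsLocalization.Away.algebraMap_isUnit h).pow _
    obtain ⟨u, hu'⟩ := hu
    have : x = algebraMap C S' (c x) * ↑u⁻¹ := by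
      rw [← hc x, ← hu', mul_assoc, Units.mul_inv, mul_one]
    rw [SetLike.mem_coe, this]
    exact Ideal.mul_mem_right _ _ (Ideal.subset_span ⟨c x, ⟨x, hx, rfl⟩, rfl⟩)

theorem mem_radical_fitt {A : Type u} [CommRing A] (M : Type u) [AddCommGroup M] [Module A M]
    [Module.Finite A M] (a : A) (n : ℕ) (ha : ∀ m : M, a ^ n • m = 0) :
    a ∈ (Fitt.ideal A M 0).radical := by
  rw [Ideal.radical_eq_sInf, Ideal.mem_sInf]
  rintro p ⟨hp, hpp⟩
  have h1 := (Groth.Agent.S6891.result (R := A) M (⊥ : Ideal A)).2.1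
  have h2 : (⟨p, hpp⟩ : PrimeSpectrum A) ∈ Module.support A M := by
    rw [← h1, PrimeSpectrum.mem_zeroLocus]
    exact hp
  rw [Module.mem_support_iff_of_finite] at h2
  have h3 : a ^ n ∈ Module.annihilator A M := Module.mem_annihilator.mpr ha
  exact hpp.mem_of_pow_mem n (h2 h3)

/-- Transported form of the Fitting-ideal lemma. -/
theorem transport {A C : Type u} [CommRing A] [CommRing C] [Algebra A C] [Module.Finite A C]
    [Module.Projective A C] (h : C) [Algebra.Etale A (Localization.Away h)]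
    {Bg : Type u} [CommRing Bg] [Algebra A Bg] (ψ : Bg ≃ₐ[A] Localization.Away h)
    (a : A) (n : ℕ) (K : Ideal Bg) (hK : K.FG) (haK : algebraMap A Bg (a ^ n) ∈ K) :
    ∃ (I : Ideal A) (J' : Ideal Bg), I.FG ∧ a ∈ I.radical ∧ J'.FG ∧
      I.map (algebraMap A Bg) = K * J' := by
  set Ch := Localization.Away h with hCh
  set Kh : Ideal Ch := K.map (ψ : Bg →+* Ch) with hKh
  have hKhfg : Kh.FG := Ideal.FG.map hK _
  obtain ⟨J₀, hJ₀fg, hJ₀⟩ := exists_fg_map_eq h Kh hKhfg
  set JC : Ideal C := J₀ ⊔ Ideal.span {algebraMap A C (a ^ n)} with hJC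
  have hJCfg : JC.FG := Submodule.FG.sup hJ₀fg ⟨{algebraMap A C (a ^ n)}, by simp⟩
  have haCh : algebraMap A Ch (a ^ n) ∈ Kh := by
    have : algebraMap A Ch (a ^ n) = ψ (algebraMap A Bg (a ^ n)) := (ψ.commutes _).symm
    rw [this]
    exact Ideal.mem_map_of_mem _ haK
  have hJCmap : JC.map (algebraMap C Ch) = Kh := by
    rw [hJC, Ideal.map_sup, hJ₀, Ideal.map_span, Set.image_singleton, sup_eq_left, Ideal.span_le,
      Set.singleton_subset_iff, ← IsScalarTower.algebraMap_apply]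
    exact haCh
  obtain ⟨J'', hJ'', hfg⟩ := main (A := A) h JC
  obtain ⟨hIfg, hJ''fg⟩ := hfg hJCfg
  refine ⟨FlatCA.fittingZero A (C ⧸ JC), J''.map (ψ.symm : Ch →+* Bg), hIfg, ?_,
    Ideal.FG.map hJ''fg _, ?_⟩
  · rw [fittingZero_eq]
    apply mem_radical_fitt (C ⧸ JC) a n
    intro m
    obtain ⟨c, rfl⟩ := Ideal.Quotient.mk_surjective m
    rw [← Ideal.Quotient.mkₐ_eq_mk A, ← map_smul, Ideal.Quotient.mkₐ_eq_mk,
      Ideal.Quotient.eq_zero_iff_mem, Algebra.smul_def]
    exact JC.mul_mem_right _ (Ideal.mem_sup_right (Ideal.subset_span rfl))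
  · have e1 : (FlatCA.fittingZero A (C ⧸ JC)).map (algebraMap A Bg) =
        ((FlatCA.fittingZero A (C ⧸ JC)).map (algebraMap A Ch)).map (ψ.symm : Ch →+* Bg) := by
      rw [Ideal.map_map]
      congr 1
      ext x
      exact (ψ.symm.commutes x).symm
    have e2 : Kh.map (ψ.symm : Ch →+* Bg) = K := by
      rw [hKh, Ideal.map_map]
      have : (ψ.symm : Ch →+* Bg).comp (ψ : Bg →+* Ch) = RingHom.id Bg := by
        ext x
        exact ψ.symm_apply_apply x
      rw [this, Ideal.map_id]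
    rw [e1, hJ'', hJCmap, Ideal.map_mul, e2]

end Groth.Agent.Lib.helper3.FittEt
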