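import Mathlib
import Groth.Agent.Lib.Helper3.FittEt5

set_option autoImplicit false
set_option linter.style.haveILetI false
set_option linter.unusedSectionVars false

universe u

open TensorProduct Polynomial

namespace Groth.Agent.Lib.helper3.FittEt

theorem main_etale {A B : Type u} [CommRing A] [CommRing B] [Algebra A B] [Algebra.Etale A B]
    (a : A) (J : Ideal B) (hJ : J.FG) (hJa : algebraMap A B a ∈ J.radical)
    (q : Ideal B) [q.IsPrime] :
    ∃ (I : Ideal A) (g : B) (J' : Ideal (Localization.Away g)), I.FG ∧ a ∈ I.radical ∧ g ∉ q ∧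
      J'.FG ∧
      I.map (algebraMap A (Localization.Away g)) =
        J.map (algebraMap B (Localization.Away g)) * J' := by
  haveI : Algebra.IsEtaleAt A q := by
    have h := (Algebra.etaleLocus_eq_univ_iff (R := A) (A := B)).mpr inferInstance
    have : (⟨q, inferInstance⟩ : PrimeSpectrum B) ∈ Algebra.etaleLocus A B := h ▸ Set.mem_univ _
    exact this
  obtain ⟨g, hgq, hstd⟩ := Algebra.IsEtaleAt.exists_isStandardEtale (R := A) q
  let Pres : StandardEtalePresentation A (Localization.Away g) :=
    hstd.nonempty_standardEtalePresentation.some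
  let P : StandardEtalePair A := Pres.P
  let C := AdjoinRoot P.f
  let h : C := AdjoinRoot.mk P.f P.g
  let ψ : Localization.Away g ≃ₐ[A] Localization.Away h :=
    Pres.equivRing.trans P.equivAwayAdjoinRoot
  haveI : Module.Finite A C := P.monic_f.finite_adjoinRoot
  haveI : Module.Free A C := P.monic_f.free_adjoinRoot
  haveI : Algebra.Etale A (Localization.Away h) := Algebra.Etale.of_equiv ψ
  obtain ⟨n, hn⟩ := hJa
  have haK : algebraMap A (Localization.Away g) (a ^ n) ∈
      J.map (algebraMap B (Localization.Away g)) := by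
    rw [IsScalarTower.algebraMap_apply A B (Localization.Away g), map_pow]
    exact Ideal.mem_map_of_mem _ hn
  obtain ⟨I, J', hI, haI, hJ', hIJ⟩ := transport (A := A) (C := C) h ψ a n
    (J.map (algebraMap B (Localization.Away g))) (Ideal.FG.map hJ _) haK
  exact ⟨I, g, J', hI, haI, hgq, hJ', hIJ⟩

end Groth.Agent.Lib.helper3.FittEt
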