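import Mathlib
import Groth.Prelude.Def_FlatCA
import Groth.Agent.Lib.Helper3.FlatAtLib1

/-!
# `FlatCA.FlatAboveClosedPoints` under flat local / finite local extensions (helper3)

Clean forms (all algebra structures given) of S1277 / S1278.
-/

set_option autoImplicit false
set_option linter.style.haveILetI false
set_option linter.unusedSectionVars false
universe u

open TensorProduct IsLocalRing

namespace Groth.Agent.Lib.helper3.FlatAbove

section Common

variable {A' B B' C C' : Type u} [CommRing A'] [IsLocalRing A'] [CommRing B] [IsLocalRing B]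
  [CommRing C] [IsLocalRing C] [CommRing B'] [CommRing C']
  [Algebra B C] [IsLocalHom (algebraMap B C)]
  [Algebra B B'] [Algebra C C'] [Algebra B' C'] [Algebra B C'] [IsScalarTower B C C']
  [IsScalarTower B B' C'] [Algebra A' B'] [Algebra A' C'] [IsScalarTower A' B' C']

omit [IsLocalRing A'] [IsLocalRing B] [IsLocalRing C] [IsLocalHom (algebraMap B C)] in
variable (B' C) in
theorem algebraMap_comm (b : B) :
    algebraMap B' C' (algebraMap B B' b) = algebraMap C C' (algebraMap B C b) := by
  rw [← IsScalarTower.algebraMap_apply B B' C', ← IsScalarTower.algebraMap_apply B C C']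

/-- the contraction of a prime above the closed points is above the closed points. -/
theorem le_comap_of_le (q' : Ideal C')
    (hq' : (maximalIdeal A').map (algebraMap A' C') ⊔ (maximalIdeal C).map (algebraMap C C') ≤ q') :
    (maximalIdeal A').map (algebraMap A' B') ⊔ (maximalIdeal B).map (algebraMap B B') ≤
      q'.comap (algebraMap B' C') := by
  apply sup_le
  · rw [Ideal.map_le_iff_le_comap]
    intro a ha
    rw [Ideal.mem_comap, Ideal.mem_comap, ← IsScalarTower.algebraMap_apply A' B' C']
    exact hq' (Ideal.mem_sup_left (Ideal.mem_map_of_mem _ ha))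
  · rw [Ideal.map_le_iff_le_comap]
    intro b hb
    rw [Ideal.mem_comap, Ideal.mem_comap, algebraMap_comm B' C (C' := C')]
    apply hq'
    apply Ideal.mem_sup_right
    apply Ideal.mem_map_of_mem
    rw [mem_maximalIdeal, mem_nonunits_iff] at hb ⊢
    exact fun h => hb (IsLocalHom.map_nonunit b h)

end Common

section Finite

variable {A' B B' C C' : Type u} [CommRing A'] [IsLocalRing A'] [CommRing B] [IsLocalRing B]
  [CommRing C] [IsLocalRing C] [CommRing B'] [CommRing C']
  [Algebra B C] [IsLocalHom (algebraMap B C)] [Algebra.IsIntegral B C]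
  [Algebra B B'] [Algebra C C'] [Algebra B' C'] [Algebra B C'] [IsScalarTower B C C']
  [IsScalarTower B B' C'] [Algebra A' B'] [Algebra A' C'] [IsScalarTower A' B' C']
  [Algebra.IsIntegral B' C']
  (M' : Type u) [AddCommGroup M'] [Module B' M'] [Module A' M'] [IsScalarTower A' B' M']
  (N' : Type u) [AddCommGroup N'] [Module C' N'] [Module B' N'] [IsScalarTower B' C' N']
  [Module A' N'] [IsScalarTower A' C' N'] [IsScalarTower A' B' N']

theorem finite_clean (e : M' ≃ₗ[B'] N') :
    FlatCA.FlatAboveClosedPoints B A' B' M' ↔ FlatCA.FlatAboveClosedPoints C A' C' N' := by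
  constructor
  · intro h q' _ hq'
    let q : Ideal B' := q'.comap (algebraMap B' C')
    haveI : q.IsPrime := Ideal.comap_isPrime _ _
    haveI : q'.LiesOver q := ⟨rfl⟩
    have h1 : FlatCA.FlatAt A' q M' := h q (le_comap_of_le q' hq')
    have h2 : FlatCA.FlatAt A' q N' := (FlatAtLib.flatAt_congr q e).mp h1
    exact FlatAtLib.flatAt_of_flatAt_under q N' q' h2
  · intro h q _ hq
    rw [FlatAtLib.flatAt_congr q e]
    apply FlatAtLib.flatAt_of_forall_liesOver (A := A') (B := B') (C := C') q N'
    intro q' _ hover
    apply h q'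
    have hqq' : q = q'.comap (algebraMap B' C') := hover.over
    apply sup_le
    · rw [Ideal.map_le_iff_le_comap]
      intro a ha
      rw [Ideal.mem_comap, IsScalarTower.algebraMap_apply A' B' C', ← Ideal.mem_comap, ← hqq']
      exact hq (Ideal.mem_sup_left (Ideal.mem_map_of_mem _ ha))
    · rw [Ideal.map_le_iff_le_comap]
      let q'' : Ideal C := q'.comap (algebraMap C C')
      haveI : q''.IsPrime := Ideal.comap_isPrime _ _
      have h1 : q''.comap (algebraMap B C) = maximalIdeal B := by
        apply le_antisymm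
        · exact le_maximalIdeal (Ideal.IsPrime.ne_top (Ideal.comap_isPrime _ _))
        · intro b hb
          rw [Ideal.mem_comap, Ideal.mem_comap, ← algebraMap_comm B' C (C' := C'), ← Ideal.mem_comap, ← hqq']
          exact hq (Ideal.mem_sup_right (Ideal.mem_map_of_mem _ hb))
      have h2 : q''.IsMaximal := by
        apply Ideal.isMaximal_of_isIntegral_of_isMaximal_comap (R := B) q''
        rw [h1]
        infer_instance
      rw [← IsLocalRing.eq_maximalIdeal h2]

end Finite

section Flat

variable {A' B B' C C' : Type u} [CommRing A'] [IsLocalRing A'] [CommRing B] [IsLocalRing B]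
  [CommRing C] [IsLocalRing C] [CommRing B'] [CommRing C']
  [Algebra B C] [IsLocalHom (algebraMap B C)]
  [Algebra B B'] [Algebra C C'] [Algebra B' C'] [Algebra B C'] [IsScalarTower B C C']
  [IsScalarTower B B' C'] [Algebra A' B'] [Algebra A' C'] [IsScalarTower A' B' C']
  [Module.Flat B' C']
  (M' : Type u) [AddCommGroup M'] [Module B' M'] [Module A' M'] [IsScalarTower A' B' M']
  (N' : Type u) [AddCommGroup N'] [Module C' N'] [Module B' N'] [IsScalarTower B' C' N']
  [Module A' N'] [IsScalarTower A' C' N']

theorem flat_clean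
    (hspec : ∀ (q : Ideal B') [q.IsPrime], (maximalIdeal B).map (algebraMap B B') ≤ q →
      ∃ (q' : Ideal C') (_ : q'.IsPrime), q'.comap (algebraMap B' C') = q ∧
        (maximalIdeal C).map (algebraMap C C') ≤ q')
    (g' : M' →ₗ[B'] N') (hg' : IsBaseChange C' g') :
    FlatCA.FlatAboveClosedPoints B A' B' M' ↔ FlatCA.FlatAboveClosedPoints C A' C' N' := by
  constructor
  · intro h q' _ hq'
    let q : Ideal B' := q'.comap (algebraMap B' C')
    haveI : q.IsPrime := Ideal.comap_isPrime _ _
    haveI : q'.LiesOver q := ⟨rfl⟩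
    have h1 : FlatCA.FlatAt A' q M' := h q (le_comap_of_le q' hq')
    exact (FlatAtLib.flatAt_iff_of_isBaseChange q q' g' hg').mp h1
  · intro h q _ hq
    obtain ⟨q', hq'p, hq'c, hq'C⟩ := hspec q (le_trans le_sup_right hq)
    haveI := hq'p
    haveI : q'.LiesOver q := ⟨hq'c.symm⟩
    rw [FlatAtLib.flatAt_iff_of_isBaseChange q q' g' hg']
    apply h q'
    apply sup_le _ hq'C
    rw [Ideal.map_le_iff_le_comap]
    intro a ha
    rw [Ideal.mem_comap, IsScalarTower.algebraMap_apply A' B' C', ← Ideal.mem_comap, hq'c]
    exact hq (Ideal.mem_sup_left (Ideal.mem_map_of_mem _ ha))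

end Flat

section Prime

variable {B B' C C' : Type u} [CommRing B] [IsLocalRing B]
  [CommRing C] [IsLocalRing C] [CommRing B'] [CommRing C']
  [Algebra B C] [IsLocalHom (algebraMap B C)]
  [Algebra B B'] [Algebra C C'] [Algebra B' C'] [Algebra B C'] [IsScalarTower B C C']
  [IsScalarTower B B' C'] [Algebra.IsPushout B C B' C']

theorem exists_prime_above_aux (q : Ideal B') [q.IsPrime]
    [Algebra (ResidueField B) q.ResidueField]
    (halg : ∀ b : B, algebraMap (ResidueField B) q.ResidueField (residue B b) =
      algebraMap B' q.ResidueField (algebraMap B B' b)) :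
    ∃ (q' : Ideal C') (_ : q'.IsPrime), q'.comap (algebraMap B' C') = q ∧
      (maximalIdeal C).map (algebraMap C C') ≤ q' := by
  classical
  haveI : Nontrivial (q.ResidueField ⊗[(ResidueField B)] (ResidueField C)) :=
    Algebra.TensorProduct.nontrivial_of_algebraMap_injective_of_flat_left (ResidueField B)
      q.ResidueField (ResidueField C) (algebraMap (ResidueField B) (ResidueField C)).injective
  obtain ⟨m, hm⟩ := Ideal.exists_maximal (q.ResidueField ⊗[(ResidueField B)] (ResidueField C))
  letI : Field ((q.ResidueField ⊗[(ResidueField B)] (ResidueField C)) ⧸ m) :=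
    Ideal.Quotient.field m
  let iC : (ResidueField C) →+* (q.ResidueField ⊗[(ResidueField B)] (ResidueField C)) :=
    (Algebra.TensorProduct.includeRight : (ResidueField C) →ₐ[(ResidueField B)] _).toRingHom
  let iq : q.ResidueField →+* (q.ResidueField ⊗[(ResidueField B)] (ResidueField C)) :=
    (Algebra.TensorProduct.includeLeft : q.ResidueField →ₐ[(ResidueField B)] _).toRingHom
  let ψC : C →+* ((q.ResidueField ⊗[(ResidueField B)] (ResidueField C)) ⧸ m) :=
    (Ideal.Quotient.mk m).comp (iC.comp (residue C))
  let ψB' : B' →+* ((q.ResidueField ⊗[(ResidueField B)] (ResidueField C)) ⧸ m) :=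
    (Ideal.Quotient.mk m).comp (iq.comp (algebraMap B' q.ResidueField))
  have hcompat : ∀ b : B, ψC (algebraMap B C b) = ψB' (algebraMap B B' b) := by
    intro b
    show Ideal.Quotient.mk m ((1 : q.ResidueField) ⊗ₜ[(ResidueField B)]
        residue C (algebraMap B C b)) =
      Ideal.Quotient.mk m ((algebraMap B' q.ResidueField (algebraMap B B' b))
        ⊗ₜ[(ResidueField B)] (1 : (ResidueField C)))
    congr 1
    have e1 : residue C (algebraMap B C b) =
        algebraMap (ResidueField B) (ResidueField C) (residue B b) := rfl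
    rw [e1, ← halg b, Algebra.algebraMap_eq_smul_one, Algebra.algebraMap_eq_smul_one,
      TensorProduct.smul_tmul]
  letI : Algebra B ((q.ResidueField ⊗[(ResidueField B)] (ResidueField C)) ⧸ m) :=
    (ψC.comp (algebraMap B C)).toAlgebra
  let fC : C →ₐ[B] ((q.ResidueField ⊗[(ResidueField B)] (ResidueField C)) ⧸ m) :=
    { ψC with commutes' := fun b => rfl }
  let gB : B' →ₐ[B] ((q.ResidueField ⊗[(ResidueField B)] (ResidueField C)) ⧸ m) :=
    { ψB' with commutes' := fun b => (hcompat b).symm }
  let Ψ : C' →ₐ[B] ((q.ResidueField ⊗[(ResidueField B)] (ResidueField C)) ⧸ m) :=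
    Algebra.pushoutDesc C' fC gB (fun _ _ => mul_comm _ _)
  refine ⟨RingHom.ker Ψ.toRingHom, RingHom.ker_isPrime _, ?_, ?_⟩
  · ext x
    rw [Ideal.mem_comap, RingHom.mem_ker]
    have h1 : Ψ.toRingHom (algebraMap B' C' x) = ψB' x := Algebra.pushoutDesc_right C' fC gB _ x
    rw [h1]
    have hinj : Function.Injective ((Ideal.Quotient.mk m).comp iq) := RingHom.injective _
    have h2 : ψB' x = ((Ideal.Quotient.mk m).comp iq) (algebraMap B' q.ResidueField x) := rfl
    rw [h2, map_eq_zero_iff _ hinj, Ideal.algebraMap_residueField_eq_zero]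
  · rw [Ideal.map_le_iff_le_comap]
    intro c hc
    rw [Ideal.mem_comap, RingHom.mem_ker]
    have h1 : Ψ.toRingHom (algebraMap C C' c) = ψC c := Algebra.pushoutDesc_left C' fC gB _ c
    rw [h1]
    have h2 : residue C c = 0 := (residue_eq_zero_iff c).mpr hc
    show Ideal.Quotient.mk m (iC (residue C c)) = 0
    rw [h2, map_zero, map_zero]

theorem exists_prime_above (q : Ideal B') [q.IsPrime]
    (hq : (maximalIdeal B).map (algebraMap B B') ≤ q) :
    ∃ (q' : Ideal C') (_ : q'.IsPrime), q'.comap (algebraMap B' C') = q ∧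
      (maximalIdeal C).map (algebraMap C C') ≤ q' := by
  let f₀ : B →+* q.ResidueField := (algebraMap B' q.ResidueField).comp (algebraMap B B')
  have hf₀ : ∀ a ∈ maximalIdeal B, f₀ a = 0 := fun a ha => by
    show algebraMap B' q.ResidueField (algebraMap B B' a) = 0
    rw [Ideal.algebraMap_residueField_eq_zero]
    exact hq (Ideal.mem_map_of_mem _ ha)
  let f₁ : (ResidueField B) →+* q.ResidueField := Ideal.Quotient.lift (maximalIdeal B) f₀ hf₀
  letI : Algebra (ResidueField B) q.ResidueField := f₁.toAlgebra
  exact exists_prime_above_aux (B := B) (C := C) q (fun b => rfl)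

end Prime

end Groth.Agent.Lib.helper3.FlatAbove
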