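import Mathlib
import Groth.Prelude.Def_FlatCA
import Groth.Agent.Lib.Helper3.FlatAbove1

/-!
# Plumbing for S1277 / S1278: the map `B ⊗_A A' → C ⊗_A A'` between abstract pushouts (helper3)
-/

set_option autoImplicit false
set_option linter.style.haveILetI false
set_option linter.unusedSectionVars false
universe u

open TensorProduct IsLocalRing

namespace Groth.Agent.Lib.helper3.FlatAbove

section Alg

theorem exists_algebra (A B C A' B' C' : Type u) [CommRing A] [CommRing B] [CommRing C]
    [CommRing A'] [CommRing B'] [CommRing C'] [Algebra A B] [Algebra B C] [Algebra A C]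
    [IsScalarTower A B C] [Algebra A A'] [Algebra B B'] [Algebra A' B'] [Algebra A B']
    [IsScalarTower A B B'] [IsScalarTower A A' B'] [Algebra.IsPushout A B A' B']
    [Algebra C C'] [Algebra A' C'] [Algebra A C'] [IsScalarTower A C C'] [IsScalarTower A A' C']
    [Algebra.IsPushout A C A' C'] :
    ∃ (_ : Algebra B' C') (_ : Algebra B C') (_ : IsScalarTower B C C')
      (_ : IsScalarTower B B' C'), IsScalarTower A' B' C' ∧ Algebra.IsPushout B C B' C' := by
  let f₁ : B →ₐ[A] C' := (IsScalarTower.toAlgHom A C C').comp (IsScalarTower.toAlgHom A B C)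
  let g₁ : A' →ₐ[A] C' := IsScalarTower.toAlgHom A A' C'
  let φ : B' →ₐ[A] C' := Algebra.pushoutDesc B' f₁ g₁ (fun _ _ => mul_comm _ _)
  letI a1 : Algebra B' C' := φ.toRingHom.toAlgebra
  letI a2 : Algebra B C' := f₁.toRingHom.toAlgebra
  have t1 : IsScalarTower B C C' := IsScalarTower.of_algebraMap_eq (fun x => rfl)
  have t2 : IsScalarTower B B' C' := IsScalarTower.of_algebraMap_eq
    (fun x => (Algebra.pushoutDesc_left B' f₁ g₁ _ x).symm)
  have t3 : IsScalarTower A' B' C' := IsScalarTower.of_algebraMap_eq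
    (fun x => (Algebra.pushoutDesc_right B' f₁ g₁ _ x).symm)
  have t4 : IsScalarTower A B' C' := IsScalarTower.of_algebraMap_eq
    (fun x => (φ.commutes x).symm)
  refine ⟨a1, a2, t1, t2, t3, ?_⟩
  exact (Algebra.IsPushout.comp_iff A B A' B' (T := C) (T' := C')).mp inferInstance

end Alg

section Mod

variable {B C B' C' : Type u} [CommRing B] [CommRing C] [CommRing B'] [CommRing C']
  [Algebra B C] [Algebra B B'] [Algebra C C'] [Algebra B' C'] [Algebra B C']
  [IsScalarTower B C C'] [IsScalarTower B B' C']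

/-- finite case: the two base changes of `N` agree as `B'`-modules. -/
theorem nonempty_linearEquiv [Algebra.IsPushout B C B' C']
    {N : Type u} [AddCommGroup N] [Module C N] [Module B N] [IsScalarTower B C N]
    {M' : Type u} [AddCommGroup M'] [Module B' M'] [Module B M'] [IsScalarTower B B' M']
    (fB : N →ₗ[B] M') (hfB : IsBaseChange B' fB)
    {N' : Type u} [AddCommGroup N'] [Module C' N'] [Module C N'] [IsScalarTower C C' N']
    [Module B' N'] [IsScalarTower B' C' N']
    (fC : N →ₗ[C] N') (hfC : IsBaseChange C' fC) :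
    Nonempty (M' ≃ₗ[B'] N') := by
  haveI : Algebra.IsPushout B B' C C' := Algebra.IsPushout.symm inferInstance
  let e₁ : B' ⊗[B] N ≃ₗ[B'] M' := hfB.equiv
  let e₂ : C' ⊗[C] N ≃ₗ[C'] N' := hfC.equiv
  let e₃ : C' ⊗[C] N ≃ₗ[B'] B' ⊗[B] N := Algebra.IsPushout.cancelBaseChange B B' C C' N
  exact ⟨e₁.symm ≪≫ₗ e₃.symm ≪≫ₗ (e₂.restrictScalars B')⟩

/-- flat case: the base change of `M'` along `B' → C'` is `N'`. -/
theorem exists_isBaseChange
    {M : Type u} [AddCommGroup M] [Module B M]
    {N : Type u} [AddCommGroup N] [Module C N] [Module B N] [IsScalarTower B C N]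
    (g : M →ₗ[B] N) (hg : IsBaseChange C g)
    {M' : Type u} [AddCommGroup M'] [Module B' M'] [Module B M'] [IsScalarTower B B' M']
    (fB : M →ₗ[B] M') (hfB : IsBaseChange B' fB)
    {N' : Type u} [AddCommGroup N'] [Module C' N'] [Module C N'] [IsScalarTower C C' N']
    [Module B' N'] [IsScalarTower B' C' N']
    (fC : N →ₗ[C] N') (hfC : IsBaseChange C' fC) :
    ∃ g' : M' →ₗ[B'] N', IsBaseChange C' g' := by
  letI : Module B N' := Module.compHom N' (algebraMap B C)
  haveI : IsScalarTower B C N' := IsScalarTower.of_algebraMap_smul (fun r x => rfl)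
  haveI : IsScalarTower B C' N' := IsScalarTower.of_algebraMap_smul (fun r x => by
    rw [IsScalarTower.algebraMap_apply B C C', algebraMap_smul, algebraMap_smul])
  haveI : IsScalarTower B B' N' := IsScalarTower.of_algebraMap_smul (fun r x => by
    rw [← algebraMap_smul C' (algebraMap B B' r) x, ← IsScalarTower.algebraMap_apply B B' C',
      algebraMap_smul])
  have hc : IsBaseChange C' ((fC.restrictScalars B).comp g) := IsBaseChange.comp hg hfC
  let g' : M' →ₗ[B'] N' := hfB.lift ((fC.restrictScalars B).comp g)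
  refine ⟨g', ?_⟩
  apply IsBaseChange.of_comp hfB
  rw [hfB.lift_comp]
  exact hc

end Mod

end Groth.Agent.Lib.helper3.FlatAbove
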