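import Mathlib
import Groth.Agent.Lib.Helper8.LocalFlat

/-!
# Local criterion of flatness with a cofinal system of quotients (helper3)
-/

set_option autoImplicit false
set_option linter.style.haveILetI false
set_option linter.unusedSectionVars false
universe u
open TensorProduct IsLocalRing

namespace Groth.Agent.Lib.helper3.FlatAdicRL

/-- if `T ⊗ M` is flat over `T` then `C ⊗ M` is flat over `C` for every `T`-algebra `C`. -/
theorem flat_tensor_of_tower {A T C M : Type*} [CommRing A] [CommRing T] [CommRing C]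
    [Algebra A T] [Algebra T C] [Algebra A C] [IsScalarTower A T C]
    [AddCommGroup M] [Module A M] [Module.Flat T (T ⊗[A] M)] : Module.Flat C (C ⊗[A] M) :=
  Module.Flat.of_linearEquiv (TensorProduct.AlgebraTensorModule.cancelBaseChange A T C C M).symm

/-- if `T` is a quotient of `A₀` by an ideal contained in `I` and `T ⊗ M` is flat over `T`, then
`(A₀/I) ⊗ M` is flat over `A₀/I`. -/
theorem flat_quotient_tensor_of_surjective {A₀ T M₁ : Type*} [CommRing A₀] [CommRing T]
    [Algebra A₀ T] [AddCommGroup M₁] [Module A₀ M₁] (I : Ideal A₀)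
    (hsurj : Function.Surjective (algebraMap A₀ T))
    (hker : ∀ a : A₀, algebraMap A₀ T a = 0 → a ∈ I)
    [Module.Flat T (T ⊗[A₀] M₁)] : Module.Flat (A₀ ⧸ I) ((A₀ ⧸ I) ⊗[A₀] M₁) := by
  let g : { g : A₀ →+* A₀ ⧸ I // RingHom.ker (algebraMap A₀ T) ≤ RingHom.ker g } :=
    ⟨Ideal.Quotient.mk I, fun a ha => by
      rw [RingHom.mem_ker] at ha ⊢
      exact Ideal.Quotient.eq_zero_iff_mem.mpr (hker a ha)⟩
  let σ : T →+* A₀ ⧸ I := RingHom.liftOfSurjective (algebraMap A₀ T) hsurj g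
  letI : Algebra T (A₀ ⧸ I) := σ.toAlgebra
  haveI : IsScalarTower A₀ T (A₀ ⧸ I) :=
    IsScalarTower.of_algebraMap_eq fun a =>
      (RingHom.liftOfSurjective_comp_apply (algebraMap A₀ T) hsurj g a).symm
  exact flat_tensor_of_tower (A := A₀) (T := T)

/-- local criterion of flatness: `A₀ → B₀` local homomorphism of Noetherian local rings, `M₁` finite
over `B₀`; if `(A₀/𝔪^k) ⊗ M₁` is flat over `A₀/𝔪^k` for all `k > 0`, then `M₁` is flat over `A₀`. -/
theorem flat_of_forall_flat_quotient_pow_local {A₀ B₀ M₁ : Type u} [CommRing A₀] [CommRing B₀]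
    [IsNoetherianRing A₀] [IsNoetherianRing B₀] [IsLocalRing A₀] [IsLocalRing B₀] [Algebra A₀ B₀]
    [IsLocalHom (algebraMap A₀ B₀)]
    [AddCommGroup M₁] [Module A₀ M₁] [Module B₀ M₁] [IsScalarTower A₀ B₀ M₁] [Module.Finite B₀ M₁]
    (H : ∀ k : ℕ, 0 < k →
      Module.Flat (A₀ ⧸ (maximalIdeal A₀ ^ k : Ideal A₀))
        ((A₀ ⧸ (maximalIdeal A₀ ^ k : Ideal A₀)) ⊗[A₀] M₁)) :
    Module.Flat A₀ M₁ := by
  refine Groth.Agent.Lib.helper8.LocalFlat.flat_of_forall_flat_quotient_pow (R := A₀) (S := B₀)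
    (maximalIdeal A₀) ?_ H
  rw [IsLocalRing.jacobson_eq_maximalIdeal ⊥ bot_ne_top]
  exact ((IsLocalRing.local_hom_TFAE (algebraMap A₀ B₀)).out 0 2).mp ‹_›

end Groth.Agent.Lib.helper3.FlatAdicRL
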