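import Mathlib

/-!
# Flatness of a localization `T⁻¹M` tested at a covering family of primes (helper3)

* `injective_map_of_cover`, `flat_localizedModule_of_cover`: for `A → B`, a `B`-module `M`, a
  submonoid `T ⊆ B` and a family `Pr` of primes of `B` such that every ideal disjoint from `T` lies in
  a member of `Pr`: if `M_𝔫` is `A`-flat for `𝔫 ∈ Pr` then `T⁻¹M` is `A`-flat.
* `onePlus 𝔯`: the submonoid `1 + 𝔯`; `exists_maximal_of_disjoint_onePlus`.
* `linearIndependent_of_flat_of_mem_smul`: a variant of `IsLocalRing.linearIndependent_of_flat`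
  with the hypothesis phrased inside the module.
* `exists_smul_mem_of_mk_mem_smul_top`: `(I • ⊤ : Submodule A (T⁻¹M))` is the localization of `I • ⊤`.
-/

set_option autoImplicit false
set_option linter.style.haveILetI false
set_option linter.unusedSectionVars false
open TensorProduct

namespace Groth.Agent.Lib.helper3.FlatLocT

section Inj

variable {R : Type*} [CommRing R] (T : Submonoid R) (Pr : Ideal R → Prop)

theorem injective_map_of_cover
    (hcover : ∀ 𝔞 : Ideal R, Disjoint (𝔞 : Set R) (T : Set R) →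
      ∃ 𝔫 : Ideal R, Pr 𝔫 ∧ 𝔫.IsPrime ∧ 𝔞 ≤ 𝔫)
    {K₁ K₂ K₁T K₂T : Type*} [AddCommGroup K₁] [AddCommGroup K₂] [Module R K₁] [Module R K₂]
    [AddCommGroup K₁T] [AddCommGroup K₂T] [Module R K₁T] [Module R K₂T]
    (g₁ : K₁ →ₗ[R] K₁T) (g₂ : K₂ →ₗ[R] K₂T) [IsLocalizedModule T g₁] [IsLocalizedModule T g₂]
    (φ : K₁ →ₗ[R] K₂)
    (H : ∀ 𝔫 : Ideal R, Pr 𝔫 → 𝔫.IsPrime → ∀ m : K₁, φ m = 0 → ∃ s : R, s ∉ 𝔫 ∧ s • m = 0) :
    Function.Injective (IsLocalizedModule.map T g₁ g₂ φ) := by
  rw [injective_iff_map_eq_zero]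
  intro x hx
  obtain ⟨⟨m, t⟩, rfl⟩ := IsLocalizedModule.mk'_surjective T g₁ x
  simp only [Function.uncurry_apply_pair] at hx ⊢
  rw [IsLocalizedModule.map_mk', IsLocalizedModule.mk'_eq_zero,
    IsLocalizedModule.eq_zero_iff T] at hx
  obtain ⟨t', ht'⟩ := hx
  rw [IsLocalizedModule.mk'_eq_zero, IsLocalizedModule.eq_zero_iff T]
  by_contra hcon
  push Not at hcon
  have hφ : φ ((t' : R) • m) = 0 := by
    rw [map_smul]
    exact ht'
  have hdisj : Disjoint ((Ideal.torsionOf R K₁ ((t' : R) • m) : Ideal R) : Set R)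
      (T : Set R) := by
    rw [Set.disjoint_left]
    intro b hb hbT
    have hb' : b • ((t' : R) • m) = 0 := (Ideal.mem_torsionOf_iff _ _).mp hb
    apply hcon (⟨b, hbT⟩ * t')
    rw [Submonoid.smul_def, Submonoid.coe_mul, mul_smul]
    exact hb'
  obtain ⟨𝔫, hPr, h𝔫, hle⟩ := hcover _ hdisj
  obtain ⟨s, hs, hsm⟩ := H 𝔫 hPr h𝔫 _ hφ
  exact hs (hle ((Ideal.mem_torsionOf_iff _ _).mpr hsm))

end Inj

section Flat

variable {A B : Type*} [CommRing A] [CommRing B] [Algebra A B] (T : Submonoid B)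
  (Pr : Ideal B → Prop)

theorem flat_localizedModule_of_cover
    (hcover : ∀ 𝔞 : Ideal B, Disjoint (𝔞 : Set B) (T : Set B) →
      ∃ 𝔫 : Ideal B, Pr 𝔫 ∧ 𝔫.IsPrime ∧ 𝔞 ≤ 𝔫)
    (M : Type*) [AddCommGroup M] [Module A M] [Module B M] [IsScalarTower A B M]
    (H : ∀ 𝔫 : Ideal B, Pr 𝔫 → ∀ _ : 𝔫.IsPrime,
      Module.Flat A (LocalizedModule 𝔫.primeCompl M)) :
    Module.Flat A (LocalizedModule T M) := by
  rw [Module.Flat.iff_lTensor_injectiveₛ]
  intro P _ _ N
  rw [← AlgebraTensorModule.coe_lTensor (A := B)]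
  rw [← IsLocalizedModule.map_lTensor (S := T) (f := N.subtype)
    (g := LocalizedModule.mkLinearMap T M)]
  apply injective_map_of_cover T Pr hcover
  intro 𝔫 hPr h𝔫 m hm
  have hfl := H 𝔫 hPr h𝔫
  rw [Module.Flat.iff_lTensor_injectiveₛ] at hfl
  have h2 := hfl N
  rw [← AlgebraTensorModule.coe_lTensor (A := B)] at h2
  rw [← IsLocalizedModule.map_lTensor (S := 𝔫.primeCompl) (f := N.subtype)
    (g := LocalizedModule.mkLinearMap 𝔫.primeCompl M)] at h2
  have h3 : IsLocalizedModule.map 𝔫.primeCompl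
      (AlgebraTensorModule.rTensor A N (LocalizedModule.mkLinearMap 𝔫.primeCompl M))
      (AlgebraTensorModule.rTensor A P (LocalizedModule.mkLinearMap 𝔫.primeCompl M))
      (AlgebraTensorModule.lTensor B M N.subtype)
      (AlgebraTensorModule.rTensor A N (LocalizedModule.mkLinearMap 𝔫.primeCompl M) m) = 0 := by
    rw [IsLocalizedModule.map_apply, hm, map_zero]
  have h4 := (injective_iff_map_eq_zero _).mp h2 _ h3
  rw [IsLocalizedModule.eq_zero_iff 𝔫.primeCompl] at h4
  obtain ⟨s, hs⟩ := h4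
  exact ⟨s.1, s.2, hs⟩

end Flat

section OnePlus

variable {R : Type*} [CommRing R]

/-- the multiplicative set `1 + 𝔯` -/
def onePlus (𝔯 : Ideal R) : Submonoid R where
  carrier := {t | t - 1 ∈ 𝔯}
  one_mem' := by simp
  mul_mem' := by
    intro a b ha hb
    have : a * b - 1 = (a - 1) * b + (b - 1) := by ring
    change a * b - 1 ∈ 𝔯
    rw [this]
    exact 𝔯.add_mem (𝔯.mul_mem_right _ ha) hb

theorem mem_onePlus {𝔯 : Ideal R} {t : R} : t ∈ onePlus 𝔯 ↔ t - 1 ∈ 𝔯 := Iff.rfl

theorem exists_maximal_of_disjoint_onePlus (𝔯 𝔞 : Ideal R)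
    (h : Disjoint (𝔞 : Set R) (onePlus 𝔯 : Set R)) :
    ∃ 𝔫 : Ideal R, (𝔫.IsMaximal ∧ 𝔯 ≤ 𝔫) ∧ 𝔫.IsPrime ∧ 𝔞 ≤ 𝔫 := by
  have hne : 𝔞 ⊔ 𝔯 ≠ ⊤ := by
    intro htop
    have h1 : (1 : R) ∈ 𝔞 ⊔ 𝔯 := by rw [htop]; trivial
    obtain ⟨a, ha, r, hr, har⟩ := Submodule.mem_sup.mp h1
    have haT : a ∈ onePlus 𝔯 := by
      rw [mem_onePlus]
      have : a - 1 = -r := by rw [← har]; ring
      rw [this]
      exact 𝔯.neg_mem hr
    exact Set.disjoint_left.mp h ha haT
  obtain ⟨𝔫, h𝔫, hle⟩ := Ideal.exists_le_maximal _ hne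
  exact ⟨𝔫, ⟨h𝔫, le_sup_right.trans hle⟩, h𝔫.isPrime, le_sup_left.trans hle⟩

end OnePlus

section LIF

variable {R : Type*} [CommRing R] [IsLocalRing R] {N : Type*} [AddCommGroup N] [Module R N]

open IsLocalRing in
/-- variant of `IsLocalRing.linearIndependent_of_flat` with an elementwise hypothesis -/
theorem linearIndependent_of_flat_of_mem_smul [Module.Flat R N] {ι : Type*} (w : ι → N)
    (h : ∀ l : ι →₀ R, (Finsupp.linearCombination R w l) ∈
      (maximalIdeal R • ⊤ : Submodule R N) → ∀ i, l i ∈ maximalIdeal R) :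
    LinearIndependent R w := by
  have hli : LinearIndependent (ResidueField R) (TensorProduct.mk R (ResidueField R) N 1 ∘ w) := by
    classical
    rw [linearIndependent_iff']
    intro s g hg i hi
    have hsurj : Function.Surjective (IsLocalRing.residue R) := Ideal.Quotient.mk_surjective
    let g' : ι → R := fun i => Function.surjInv hsurj (g i)
    have hg' : ∀ i, IsLocalRing.residue R (g' i) = g i := fun i => Function.surjInv_eq hsurj (g i)
    let l : ι →₀ R := Finsupp.onFinset s (fun i => if i ∈ s then g' i else 0) (by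
      intro i hi
      by_contra hns
      simp [hns] at hi)
    have hl : Finsupp.linearCombination R w l = ∑ i ∈ s, g' i • w i := by
      rw [Finsupp.linearCombination_onFinset]
      refine Finset.sum_congr rfl fun i hi => ?_
      simp [hi]
    have hker : TensorProduct.mk R (ResidueField R) N 1 (∑ i ∈ s, g' i • w i) = 0 := by
      rw [map_sum, ← hg]
      refine Finset.sum_congr rfl fun i _ => ?_
      rw [map_smul, Function.comp_apply, ← hg' i]
      exact (algebraMap_smul (ResidueField R) (g' i) _).symm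
    have hmem : (∑ i ∈ s, g' i • w i) ∈ (maximalIdeal R • ⊤ : Submodule R N) := by
      rw [← LinearMap.ker_tensorProductMk]
      exact hker
    have := h l (hl ▸ hmem) i
    have hli' : l i = g' i := by simp [l, hi]
    rw [hli'] at this
    rw [← hg' i]
    exact (IsLocalRing.residue_eq_zero_iff _).mpr this
  exact Module.IsLocalRing.linearIndependent_of_flat w hli

end LIF

section SmulTop

variable {A B : Type*} [CommRing A] [CommRing B] [Algebra A B] (T : Submonoid B)
  {M : Type*} [AddCommGroup M] [Module A M] [Module B M] [IsScalarTower A B M]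

theorem smul_mem_smul_top (I : Ideal A) (b : B) {y : M} (hy : y ∈ (I • ⊤ : Submodule A M)) :
    b • y ∈ (I • ⊤ : Submodule A M) := by
  refine Submodule.smul_induction_on hy (fun a ha m _ => ?_) (fun x y hx hy => ?_)
  · rw [smul_comm]
    exact Submodule.smul_mem_smul ha trivial
  · rw [smul_add]
    exact Submodule.add_mem _ hx hy

/-- `I • ⊤` in `T⁻¹M` is the localization of `I • ⊤` in `M`. -/
theorem exists_smul_mem_of_mk_mem_smul_top (I : Ideal A) (y : M)
    (h : LocalizedModule.mkLinearMap T M y ∈ (I • ⊤ : Submodule A (LocalizedModule T M))) :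
    ∃ t : T, (t : B) • y ∈ (I • ⊤ : Submodule A M) := by
  have key : ∀ n ∈ (I • ⊤ : Submodule A (LocalizedModule T M)),
      ∃ (t : T) (y' : M), y' ∈ (I • ⊤ : Submodule A M) ∧
        (t : B) • n = LocalizedModule.mkLinearMap T M y' := by
    intro n hn
    refine Submodule.smul_induction_on hn (fun a ha n₀ _ => ?_) (fun n₁ n₂ h₁ h₂ => ?_)
    · induction n₀ using LocalizedModule.induction_on with
      | h m s =>
        refine ⟨s, a • m, Submodule.smul_mem_smul ha trivial, ?_⟩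
        rw [LocalizedModule.smul'_mk, LocalizedModule.mkLinearMap_apply,
          LocalizedModule.smul'_mk]
        rw [LocalizedModule.mk_eq]
        exact ⟨1, by simp [Submonoid.smul_def]⟩
    · obtain ⟨t₁, y₁, hy₁, e₁⟩ := h₁
      obtain ⟨t₂, y₂, hy₂, e₂⟩ := h₂
      refine ⟨t₁ * t₂, (t₂ : B) • y₁ + (t₁ : B) • y₂,
        Submodule.add_mem _ (smul_mem_smul_top I _ hy₁) (smul_mem_smul_top I _ hy₂), ?_⟩
      rw [smul_add, Submonoid.coe_mul, map_add, map_smul, map_smul, ← e₁, ← e₂, smul_smul,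
        smul_smul, mul_comm (t₂ : B)]
  obtain ⟨t, y', hy', e⟩ := key _ h
  rw [← map_smul, ← sub_eq_zero, ← map_sub, IsLocalizedModule.eq_zero_iff T] at e
  obtain ⟨t', ht'⟩ := e
  refine ⟨t' * t, ?_⟩
  rw [Submonoid.smul_def, smul_sub, sub_eq_zero] at ht'
  rw [Submonoid.coe_mul, mul_smul, ht']
  exact smul_mem_smul_top I _ hy'

end SmulTop

end Groth.Agent.Lib.helper3.FlatLocT
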