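import Mathlib
import Groth.Agent.Lib.Helper3.FlatLocT
import Groth.Agent.Lib.Helper3.FibreDescent

/-!
# Ring-level core: descent of flatness to an Artinian local base along a jointly injective family
of local rings (helper3, EGA IV 11.4)
-/

set_option autoImplicit false
set_option linter.style.haveILetI false
set_option linter.unusedSectionVars false
universe u
open TensorProduct IsLocalRing

namespace Groth.Agent.Lib.helper3.FlatArtCore

open Groth.Agent.Lib.helper3.FlatLocT

theorem smulCommClass_base {A'' B : Type*} (B' : Type*) [CommRing A''] [CommRing B] [CommRing B']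
    [Algebra B B'] [Algebra A'' B'] {M' : Type*} [AddCommGroup M'] [Module B' M'] [Module B M']
    [Module A'' M'] [IsScalarTower B B' M'] [IsScalarTower A'' B' M'] : SMulCommClass B A'' M' :=
  ⟨fun b a m => by
    rw [← algebraMap_smul B' b (a • m), ← algebraMap_smul B' a m, ← algebraMap_smul B' a (b • m),
      ← algebraMap_smul B' b m, smul_smul, smul_smul, mul_comm]⟩

section Theta

variable {A₀ A'' B B' : Type u} [CommRing A₀] [CommRing A''] [CommRing B] [CommRing B']
  [Algebra A₀ A''] [Algebra A₀ B] [Algebra B B'] [Algebra A'' B'] [Algebra A₀ B']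
  [IsScalarTower A₀ B B'] [IsScalarTower A₀ A'' B'] [hpo : Algebra.IsPushout A₀ B A'' B']
  {M₁ M' : Type u} [AddCommGroup M₁] [Module B M₁] [Module A₀ M₁] [IsScalarTower A₀ B M₁]
  [AddCommGroup M'] [Module B' M'] [Module B M'] [Module A'' M'] [Module A₀ M']
  [IsScalarTower B B' M'] [IsScalarTower A'' B' M'] [IsScalarTower A₀ B' M']
  [IsScalarTower A₀ B M'] [IsScalarTower A₀ A'' M']
  (ψ : M₁ →ₗ[B] M') (hψ : IsBaseChange B' ψ)

variable (A₀ A'') in
include hpo hψ in
/-- `M'` is the base change of `M₁` along `A₀ → A''`. -/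
theorem isBaseChange_restrict : IsBaseChange A'' (ψ.restrictScalars A₀) := by
  haveI : Algebra.IsPushout A₀ A'' B B' := hpo.symm
  refine IsBaseChange.of_equiv ((Algebra.IsPushout.cancelBaseChange A₀ A'' B B' M₁).symm ≪≫ₗ
    (hψ.equiv.restrictScalars A'')) (fun x => ?_)
  simp [hψ.equiv_tmul]

variable (A₀ A'') in
include hpo hψ in
theorem induction_on_base {P : M' → Prop} (h0 : P 0) (hgen : ∀ (a : A'') (m : M₁), P (a • ψ m))
    (hadd : ∀ x y, P x → P y → P (x + y)) (y : M') : P y := by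
  have hb := isBaseChange_restrict A₀ A'' ψ hψ
  obtain ⟨z, rfl⟩ := hb.equiv.surjective y
  induction z using TensorProduct.induction_on with
  | zero => rw [map_zero]; exact h0
  | tmul a m => rw [hb.equiv_tmul]; exact hgen a m
  | add x y hx hy => rw [map_add]; exact hadd _ _ hx hy

variable (I : Ideal A'')

variable (A₀) in
/-- the comparison map `M' → M₁ ⊗ A''/I` -/
noncomputable def theta : M' →ₗ[A₀] M₁ ⊗[A₀] (A'' ⧸ I) :=
  (LinearMap.lTensor M₁ ((Ideal.Quotient.mkₐ A₀ I).toLinearMap)) ∘ₗ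
    (TensorProduct.comm A₀ A'' M₁).toLinearMap ∘ₗ
    ((isBaseChange_restrict A₀ A'' ψ hψ).equiv.symm.toLinearMap.restrictScalars A₀)

theorem theta_smul (a : A'') (m : M₁) :
    theta A₀ ψ hψ I (a • ψ m) = m ⊗ₜ[A₀] (Ideal.Quotient.mk I a) := by
  have hb := isBaseChange_restrict A₀ A'' ψ hψ
  have h1 : hb.equiv.symm (a • ψ m) = a ⊗ₜ[A₀] m := by
    rw [map_smul]
    have := hb.equiv_symm_apply m
    rw [LinearMap.restrictScalars_apply] at this
    rw [this, TensorProduct.smul_tmul', smul_eq_mul, mul_one]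
  simp only [theta, LinearMap.comp_apply, LinearMap.restrictScalars_apply, LinearEquiv.coe_coe]
  rw [h1]
  simp

theorem theta_psi (m : M₁) : theta A₀ ψ hψ I (ψ m) = m ⊗ₜ[A₀] (1 : A'' ⧸ I) := by
  have := theta_smul (A₀ := A₀) ψ hψ I 1 m
  rwa [one_smul, map_one] at this

/-- `θ` is `B`-linear -/
theorem theta_smul_B (b : B) (y : M') : theta A₀ ψ hψ I (b • y) = b • theta A₀ ψ hψ I y := by
  induction y using induction_on_base A₀ A'' ψ hψ with
  | h0 => simp
  | hgen a m =>
    haveI : SMulCommClass B A'' M' := smulCommClass_base B'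
    rw [smul_comm, ← map_smul, theta_smul, theta_smul, TensorProduct.smul_tmul']
  | hadd x y hx hy => rw [smul_add, map_add, map_add, hx, hy, smul_add]

/-- `θ` kills `I M'` -/
theorem theta_smul_of_mem {a : A''} (ha : a ∈ I) (y : M') : theta A₀ ψ hψ I (a • y) = 0 := by
  induction y using induction_on_base A₀ A'' ψ hψ with
  | h0 => simp
  | hgen a' m =>
    rw [smul_smul, theta_smul]
    have : Ideal.Quotient.mk I (a * a') = 0 :=
      Ideal.Quotient.eq_zero_iff_mem.mpr (I.mul_mem_right _ ha)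
    rw [this, TensorProduct.tmul_zero]
  | hadd x y hx hy => rw [smul_add, map_add, hx, hy, add_zero]

theorem theta_eq_zero_of_mem {y : M'} (hy : y ∈ (I • ⊤ : Submodule A'' M')) :
    theta A₀ ψ hψ I y = 0 := by
  refine Submodule.smul_induction_on hy (fun a ha m _ => theta_smul_of_mem ψ hψ I ha m)
    (fun x y hx hy => by rw [map_add, hx, hy, add_zero])

/-- the kernel of `θ` is `I M'` -/
theorem mem_of_theta_eq_zero {y : M'} (hy : theta A₀ ψ hψ I y = 0) :
    y ∈ (I • ⊤ : Submodule A'' M') := by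
  have hb := isBaseChange_restrict A₀ A'' ψ hψ
  obtain ⟨z, rfl⟩ := hb.equiv.surjective y
  simp only [theta, LinearMap.comp_apply, LinearMap.restrictScalars_apply, LinearEquiv.coe_coe,
    LinearEquiv.symm_apply_apply] at hy
  -- exactness of `M₁ ⊗ I → M₁ ⊗ A'' → M₁ ⊗ A''/I`
  have hex : Function.Exact (LinearMap.lTensor M₁ ((I.restrictScalars A₀).subtype))
      (LinearMap.lTensor M₁ ((Ideal.Quotient.mkₐ A₀ I).toLinearMap)) := by
    apply lTensor_exact
    · intro x
      constructor
      · intro hx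
        exact ⟨⟨x, Ideal.Quotient.eq_zero_iff_mem.mp hx⟩, rfl⟩
      · rintro ⟨x, rfl⟩
        exact Ideal.Quotient.eq_zero_iff_mem.mpr x.2
    · exact Ideal.Quotient.mk_surjective
  obtain ⟨w, hw⟩ := (hex _).mp hy
  have hz : z = (TensorProduct.comm A₀ A'' M₁).symm
      (LinearMap.lTensor M₁ ((I.restrictScalars A₀).subtype) w) := by
    rw [hw, LinearEquiv.symm_apply_apply]
  rw [hz]
  have key : ∀ w : M₁ ⊗[A₀] (I.restrictScalars A₀), hb.equiv ((TensorProduct.comm A₀ A'' M₁).symm
      (LinearMap.lTensor M₁ ((I.restrictScalars A₀).subtype) w)) ∈ (I • ⊤ : Submodule A'' M') := by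
    intro w
    induction w using TensorProduct.induction_on with
    | zero => simp
    | tmul m a =>
      simp only [LinearMap.lTensor_tmul, Submodule.subtype_apply, TensorProduct.comm_symm_tmul]
      rw [hb.equiv_tmul]
      exact Submodule.smul_mem_smul a.2 trivial
    | add x y hx hy =>
      simp only [map_add]
      exact Submodule.add_mem _ hx hy
  exact key w

end Theta

section Krull

variable {A₀ A'' B : Type u} [CommRing A₀] [CommRing A''] [CommRing B]
  [IsLocalRing A₀] [IsLocalRing A''] [Algebra A₀ A''] [IsLocalHom (algebraMap A₀ A'')]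
  [Algebra A₀ B] {M₁ : Type u} [AddCommGroup M₁] [Module B M₁] [Module A₀ M₁]
  [IsScalarTower A₀ B M₁]

/-- functionals `k'' → k` separate the points of `M₁ ⊗ k''` -/
theorem eq_zero_of_forall_functional (ξ : M₁ ⊗[A₀] (ResidueField A''))
    (h : ∀ π : ResidueField A'' →ₗ[ResidueField A₀] ResidueField A₀,
      LinearMap.lTensor M₁ (π.restrictScalars A₀) ξ = 0) : ξ = 0 := by
  let b := Module.Free.chooseBasis (ResidueField A₀) (ResidueField A'')
  let e : ResidueField A'' ≃ₗ[A₀]
      (Module.Free.ChooseBasisIndex (ResidueField A₀) (ResidueField A'') →₀ ResidueField A₀) :=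
    b.repr.restrictScalars A₀
  let Φ : M₁ ⊗[A₀] (ResidueField A'') ≃ₗ[A₀]
      (Module.Free.ChooseBasisIndex (ResidueField A₀) (ResidueField A'') →₀
        M₁ ⊗[A₀] (ResidueField A₀)) :=
    (TensorProduct.congr (LinearEquiv.refl A₀ M₁) e) ≪≫ₗ
      TensorProduct.finsuppRight A₀ A₀ M₁ (ResidueField A₀) _
  have hΦ : Φ ξ = 0 := by
    ext i
    have hcomp : (Finsupp.lapply i).comp Φ.toLinearMap =
        LinearMap.lTensor M₁ ((b.coord i).restrictScalars A₀) := by
      apply TensorProduct.ext'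
      intro m c
      simp [Φ, e, TensorProduct.finsuppRight_apply_tmul_apply]
    have h1 := h (b.coord i)
    rw [← hcomp] at h1
    exact h1
  exact Φ.injective (by rw [hΦ, map_zero])

/-- `m ↦ m ⊗ 1`, as a `B`-linear map -/
noncomputable def tmulOne : M₁ →ₗ[B] M₁ ⊗[A₀] (ResidueField A₀) where
  toFun m := m ⊗ₜ 1
  map_add' := fun x y => TensorProduct.add_tmul x y 1
  map_smul' := fun b m => (TensorProduct.smul_tmul' b m 1).symm

theorem tmulOne_surjective :
    Function.Surjective (tmulOne (A₀ := A₀) (B := B) (M₁ := M₁)) := by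
  intro z
  induction z using TensorProduct.induction_on with
  | zero => exact ⟨0, map_zero _⟩
  | tmul m c =>
    obtain ⟨a, rfl⟩ := Ideal.Quotient.mk_surjective c
    refine ⟨a • m, ?_⟩
    change (a • m) ⊗ₜ[A₀] (1 : ResidueField A₀) = m ⊗ₜ[A₀] (Ideal.Quotient.mk _ a)
    rw [TensorProduct.smul_tmul]
    congr 1
    rw [Algebra.smul_def, mul_one]
    rfl
  | add x y hx hy =>
    obtain ⟨x', rfl⟩ := hx
    obtain ⟨y', rfl⟩ := hy
    exact ⟨x' + y', map_add _ _ _⟩

variable [IsLocalRing B] [IsNoetherianRing B] [Module.Finite B M₁]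

/-- Krull's theorem on `M₁ ⊗ k''` -/
theorem eq_zero_of_forall_mem_pow_smul (ξ : M₁ ⊗[A₀] (ResidueField A''))
    (h : ∀ n : ℕ, ξ ∈ ((maximalIdeal B) ^ n • ⊤ : Submodule B (M₁ ⊗[A₀] (ResidueField A'')))) :
    ξ = 0 := by
  apply eq_zero_of_forall_functional
  intro π
  haveI : Module.Finite B (M₁ ⊗[A₀] (ResidueField A₀)) :=
    Module.Finite.of_surjective tmulOne tmulOne_surjective
  set g : M₁ ⊗[A₀] (ResidueField A'') →ₗ[B] M₁ ⊗[A₀] (ResidueField A₀) :=
    AlgebraTensorModule.lTensor B M₁ (π.restrictScalars A₀) with hg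
  have h1 : ∀ n : ℕ, g ξ ∈ ((maximalIdeal B) ^ n • ⊤ :
      Submodule B (M₁ ⊗[A₀] (ResidueField A₀))) := by
    intro n
    have h2 : g ξ ∈ ((maximalIdeal B) ^ n • ⊤ :
        Submodule B (M₁ ⊗[A₀] (ResidueField A''))).map g := ⟨ξ, h n, rfl⟩
    rw [Submodule.map_smul''] at h2
    exact Submodule.smul_mono le_rfl le_top h2
  have h3 : g ξ ∈ (⨅ n : ℕ, (maximalIdeal B) ^ n • ⊤ :
      Submodule B (M₁ ⊗[A₀] (ResidueField A₀))) := by
    rw [Submodule.mem_iInf]
    exact h1
  rw [Ideal.iInf_pow_smul_eq_bot_of_isLocalRing _ (Ideal.IsMaximal.ne_top inferInstance)] at h3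
  exact (Submodule.mem_bot B).mp h3

end Krull

section Indep

variable {A₀ A'' : Type u} [CommRing A₀] [CommRing A''] [IsLocalRing A₀] [IsLocalRing A'']
  [Algebra A₀ A''] [IsLocalHom (algebraMap A₀ A'')]
  {M₁ : Type u} [AddCommGroup M₁] [Module A₀ M₁]

omit [CommRing A''] [IsLocalRing A''] [Algebra A₀ A''] [IsLocalHom (algebraMap A₀ A'')] in
theorem mem_of_tmul_one_eq_zero (y : M₁) (h : y ⊗ₜ[A₀] (1 : ResidueField A₀) = 0) :
    y ∈ (maximalIdeal A₀ • ⊤ : Submodule A₀ M₁) := by
  rw [← LinearMap.ker_tensorProductMk]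
  change TensorProduct.mk A₀ (ResidueField A₀) M₁ 1 y = 0
  have h1 : (1 : ResidueField A₀) ⊗ₜ[A₀] y =
      TensorProduct.comm A₀ M₁ (ResidueField A₀) (y ⊗ₜ 1) := rfl
  rw [TensorProduct.mk_apply, h1, h, map_zero]

theorem coeff_mem_of_sum_tmul_eq_zero {Λ : Type*} (v : Λ → M₁)
    (hv : ∀ l : Λ →₀ A₀, Finsupp.linearCombination A₀ v l ∈
      (maximalIdeal A₀ • ⊤ : Submodule A₀ M₁) → ∀ i, l i ∈ maximalIdeal A₀)
    (l : Λ →₀ A'')
    (h : ∑ i ∈ l.support, v i ⊗ₜ[A₀] (residue A'' (l i)) = 0) :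
    ∀ i, l i ∈ maximalIdeal A'' := by
  classical
  intro i₀
  rw [← residue_eq_zero_iff]
  refine (Module.forall_dual_apply_eq_zero_iff (ResidueField A₀) _).mp fun π => ?_
  have hsurj : Function.Surjective (residue A₀) := Ideal.Quotient.mk_surjective
  let α : Λ → A₀ := fun i => Function.surjInv hsurj (π (residue A'' (l i)))
  have hα : ∀ i, residue A₀ (α i) = π (residue A'' (l i)) := fun i =>
    Function.surjInv_eq hsurj _
  have h1 := congrArg (LinearMap.lTensor M₁ (π.restrictScalars A₀)) h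
  rw [map_sum, map_zero] at h1
  have h2 : ∑ i ∈ l.support, (α i • v i) ⊗ₜ[A₀] (1 : ResidueField A₀) = 0 := by
    rw [← h1]
    refine Finset.sum_congr rfl fun i _ => ?_
    rw [LinearMap.lTensor_tmul, LinearMap.restrictScalars_apply, ← hα i, TensorProduct.smul_tmul]
    congr 1
    rw [Algebra.smul_def, mul_one]
    rfl
  rw [← TensorProduct.sum_tmul] at h2
  have h3 := mem_of_tmul_one_eq_zero _ h2
  let l' : Λ →₀ A₀ := Finsupp.onFinset l.support (fun i => if i ∈ l.support then α i else 0) (by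
    intro i hi
    by_contra hns
    simp [hns] at hi)
  have hl' : Finsupp.linearCombination A₀ v l' = ∑ i ∈ l.support, α i • v i := by
    rw [Finsupp.linearCombination_onFinset]
    refine Finset.sum_congr rfl fun i hi => ?_
    simp only [hi, if_true]
  have h4 := hv l' (hl' ▸ h3) i₀
  by_cases hi₀ : i₀ ∈ l.support
  · have hne : l i₀ ≠ 0 := Finsupp.mem_support_iff.mp hi₀
    have : l' i₀ = α i₀ := by simp [l', hne]
    rw [this] at h4
    rw [← hα i₀]
    exact (residue_eq_zero_iff _).mpr h4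
  · have : l i₀ = 0 := Finsupp.notMem_support_iff.mp hi₀
    rw [this, map_zero, map_zero]

end Indep

section Main

variable {A₀ A'' B B' : Type u} [CommRing A₀] [CommRing A''] [CommRing B] [CommRing B']
  [IsLocalRing A₀] [IsLocalRing A''] [IsLocalRing B] [IsNoetherianRing B]
  [Algebra A₀ A''] [IsLocalHom (algebraMap A₀ A'')] [Algebra A₀ B] [Algebra B B']
  [Algebra A'' B'] [Algebra A₀ B']
  [IsScalarTower A₀ B B'] [IsScalarTower A₀ A'' B'] [hpo : Algebra.IsPushout A₀ B A'' B']
  {M₁ M' : Type u} [AddCommGroup M₁] [Module B M₁] [Module A₀ M₁] [IsScalarTower A₀ B M₁]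
  [Module.Finite B M₁]
  [AddCommGroup M'] [Module B' M'] [Module B M'] [Module A'' M'] [Module A₀ M']
  [IsScalarTower B B' M'] [IsScalarTower A'' B' M'] [IsScalarTower A₀ B' M']
  [IsScalarTower A₀ B M'] [IsScalarTower A₀ A'' M']
  (ψ : M₁ →ₗ[B] M') (hψ : IsBaseChange B' ψ)

omit [IsLocalRing A₀] [IsLocalHom (algebraMap A₀ A'')] [IsNoetherianRing B] [Module.Finite B M₁] in
theorem theta_mem_pow_smul (n : ℕ) {y : M'}
    (hy : y ∈ (((maximalIdeal B) ^ n).map (algebraMap B B') ⊔
      (maximalIdeal A'').map (algebraMap A'' B')) • (⊤ : Submodule B' M')) :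
    theta A₀ ψ hψ (maximalIdeal A'') y ∈
      ((maximalIdeal B) ^ n • ⊤ : Submodule B (M₁ ⊗[A₀] (A'' ⧸ maximalIdeal A''))) := by
  have hI : ∀ x₁ ∈ ((maximalIdeal B) ^ n).map (algebraMap B B'), ∀ y' : M',
      theta A₀ ψ hψ (maximalIdeal A'') (x₁ • y') ∈
        ((maximalIdeal B) ^ n • ⊤ : Submodule B (M₁ ⊗[A₀] (A'' ⧸ maximalIdeal A''))) := by
    intro x₁ hx₁
    refine Submodule.span_induction (p := fun x _ => ∀ y' : M',
      theta A₀ ψ hψ (maximalIdeal A'') (x • y') ∈
        ((maximalIdeal B) ^ n • ⊤ : Submodule B (M₁ ⊗[A₀] (A'' ⧸ maximalIdeal A''))))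
      ?_ ?_ ?_ ?_ hx₁
    · rintro _ ⟨β, hβ, rfl⟩ y'
      rw [algebraMap_smul, theta_smul_B]
      exact Submodule.smul_mem_smul hβ trivial
    · intro y'
      rw [zero_smul, map_zero]
      exact Submodule.zero_mem _
    · intro x y _ _ hx hy y'
      rw [add_smul, map_add]
      exact Submodule.add_mem _ (hx y') (hy y')
    · intro b' x _ hx y'
      rw [smul_eq_mul, mul_comm, mul_smul]
      exact hx (b' • y')
  have hJ : ∀ x₂ ∈ (maximalIdeal A'').map (algebraMap A'' B'), ∀ y' : M',
      theta A₀ ψ hψ (maximalIdeal A'') (x₂ • y') = 0 := by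
    intro x₂ hx₂
    refine Submodule.span_induction (p := fun x _ => ∀ y' : M',
      theta A₀ ψ hψ (maximalIdeal A'') (x • y') = 0) ?_ ?_ ?_ ?_ hx₂
    · rintro _ ⟨a, ha, rfl⟩ y'
      rw [algebraMap_smul]
      exact theta_smul_of_mem ψ hψ _ ha y'
    · intro y'
      rw [zero_smul, map_zero]
    · intro x y _ _ hx hy y'
      rw [add_smul, map_add, hx y', hy y', add_zero]
    · intro b' x _ hx y'
      rw [smul_eq_mul, mul_comm, mul_smul]
      exact hx (b' • y')
  refine Submodule.smul_induction_on hy (fun x hx y' _ => ?_) (fun x y hx hy => ?_)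
  · obtain ⟨x₁, hx₁, x₂, hx₂, rfl⟩ := Submodule.mem_sup.mp hx
    rw [add_smul, map_add, hJ x₂ hx₂ y', add_zero]
    exact hI x₁ hx₁ y'
  · rw [map_add]
    exact Submodule.add_mem _ hx hy

include hpo hψ in
/-- the multiplicative set `1 + (𝔪_B B' + 𝔪_{A''} B')` acts injectively on `M'/𝔪_{A''} M'` -/
theorem mem_smul_top_of_onePlus_smul_mem {t : B'}
    (ht : t ∈ onePlus ((maximalIdeal B).map (algebraMap B B') ⊔
      (maximalIdeal A'').map (algebraMap A'' B')))
    {y : M'} (hy : t • y ∈ (maximalIdeal A'' • ⊤ : Submodule A'' M')) :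
    y ∈ (maximalIdeal A'' • ⊤ : Submodule A'' M') := by
  set J := (maximalIdeal A'').map (algebraMap A'' B') with hJ
  set 𝔯 := (maximalIdeal B).map (algebraMap B B') ⊔ J with h𝔯
  have htyJ : t • y ∈ (J • ⊤ : Submodule B' M') := by
    have := FibreDescent.smul_top_eq_restrictScalars (maximalIdeal A'') B' M'
    rw [this] at hy
    exact hy
  have hK1 : ∀ n : ℕ, y ∈ (((maximalIdeal B) ^ n).map (algebraMap B B') ⊔ J) •
      (⊤ : Submodule B' M') := by
    intro n
    induction n with
    | zero =>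
      rw [pow_zero, Ideal.one_eq_top, Ideal.map_top, top_sup_eq, Submodule.top_smul]
      trivial
    | succ n ih =>
      have hr : t - 1 ∈ 𝔯 := ht
      have h1 : (t - 1) • y ∈ 𝔯 • ((((maximalIdeal B) ^ n).map (algebraMap B B') ⊔ J) •
          (⊤ : Submodule B' M')) := Submodule.smul_mem_smul hr ih
      rw [← Submodule.mul_smul] at h1
      have hle : 𝔯 * (((maximalIdeal B) ^ n).map (algebraMap B B') ⊔ J) ≤
          ((maximalIdeal B) ^ (n + 1)).map (algebraMap B B') ⊔ J := by
        rw [h𝔯, Ideal.sup_mul, Ideal.mul_sup, Ideal.mul_sup]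
        refine sup_le (sup_le ?_ ?_) (sup_le ?_ ?_)
        · rw [← Ideal.map_mul, ← pow_succ']
          exact le_sup_left
        · exact Ideal.mul_le_right.trans le_sup_right
        · exact Ideal.mul_le_left.trans le_sup_right
        · exact Ideal.mul_le_right.trans le_sup_right
      have h2 := Submodule.smul_mono_left (N := (⊤ : Submodule B' M')) hle h1
      have h3 : t • y ∈ (((maximalIdeal B) ^ (n + 1)).map (algebraMap B B') ⊔ J) •
          (⊤ : Submodule B' M') := Submodule.smul_mono_left le_sup_right htyJ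
      have h4 : y = t • y - (t - 1) • y := by rw [sub_smul, one_smul]; abel
      rw [h4]
      exact Submodule.sub_mem _ h3 h2
  have hK2 : theta A₀ ψ hψ (maximalIdeal A'') y = 0 := by
    refine eq_zero_of_forall_mem_pow_smul (A₀ := A₀) (A'' := A'') (B := B) (M₁ := M₁) _
      (fun n => ?_)
    exact theta_mem_pow_smul ψ hψ n (hK1 n)
  exact mem_of_theta_eq_zero ψ hψ _ hK2

include hpo hψ in
/-- **Core lemma.** A relation `Σ l_i v_i = 0` among lifts `v` of a linearly independent family of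
`M₁/𝔪M₁` dies in `A''` as soon as the localizations of `M'` at the maximal ideals of `B'` over
`𝔪_B` and `𝔪_{A''}` are flat over `A''`. -/
theorem algebraMap_coeff_eq_zero
    (H : ∀ (𝔫 : Ideal B') [𝔫.IsMaximal], (maximalIdeal B).map (algebraMap B B') ≤ 𝔫 →
      (maximalIdeal A'').map (algebraMap A'' B') ≤ 𝔫 →
      Module.Flat A'' (LocalizedModule 𝔫.primeCompl M'))
    {Λ : Type u} (v : Λ → M₁)
    (hv : ∀ l : Λ →₀ A₀, Finsupp.linearCombination A₀ v l ∈
      (maximalIdeal A₀ • ⊤ : Submodule A₀ M₁) → ∀ i, l i ∈ maximalIdeal A₀)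
    (l : Λ →₀ A₀) (hl : Finsupp.linearCombination A₀ v l = 0) :
    ∀ i, algebraMap A₀ A'' (l i) = 0 := by
  classical
  set 𝔯 := (maximalIdeal B).map (algebraMap B B') ⊔ (maximalIdeal A'').map (algebraMap A'' B')
    with h𝔯
  set T := onePlus 𝔯 with hT
  haveI hflatN : Module.Flat A'' (LocalizedModule T M') :=
    flat_localizedModule_of_cover T (fun 𝔫 => 𝔫.IsMaximal ∧ 𝔯 ≤ 𝔫)
      (exists_maximal_of_disjoint_onePlus 𝔯) M'
      (fun 𝔫 h _ => @H 𝔫 h.1 (le_sup_left.trans h.2) (le_sup_right.trans h.2))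
  let w : Λ → LocalizedModule T M' := fun i => LocalizedModule.mkLinearMap T M' (ψ (v i))
  have hsm : ∀ (a : A'') (m : M'), a • LocalizedModule.mkLinearMap T M' m =
      LocalizedModule.mkLinearMap T M' (a • m) := fun a m =>
    (LinearMap.map_smul_of_tower _ a m).symm
  have hcomb : ∀ (s : Finset Λ) (g : Λ → A''), ∑ i ∈ s, g i • w i =
      LocalizedModule.mkLinearMap T M' (∑ i ∈ s, g i • ψ (v i)) := by
    intro s g
    rw [map_sum]
    exact Finset.sum_congr rfl fun i _ => hsm _ _
  have hli : LinearIndependent A'' w := by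
    refine linearIndependent_of_flat_of_mem_smul w (fun l'' hmem => ?_)
    rw [Finsupp.linearCombination_apply, Finsupp.sum, hcomb] at hmem
    obtain ⟨t, ht⟩ := exists_smul_mem_of_mk_mem_smul_top T (maximalIdeal A'') _ hmem
    have hy := mem_smul_top_of_onePlus_smul_mem (A₀ := A₀) ψ hψ t.2 ht
    have hθ := theta_eq_zero_of_mem (A₀ := A₀) ψ hψ _ hy
    rw [map_sum] at hθ
    simp only [theta_smul] at hθ
    exact coeff_mem_of_sum_tmul_eq_zero v hv l'' hθ
  have hrel : ∑ i ∈ l.support, (algebraMap A₀ A'' (l i)) • w i = 0 := by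
    rw [hcomb]
    have h1 : ∑ i ∈ l.support, (algebraMap A₀ A'' (l i)) • ψ (v i) =
        ψ (Finsupp.linearCombination A₀ v l) := by
      rw [Finsupp.linearCombination_apply, Finsupp.sum, map_sum]
      refine Finset.sum_congr rfl fun i _ => ?_
      rw [algebraMap_smul]
      exact (LinearMap.map_smul_of_tower ψ (l i) (v i)).symm
    rw [h1, hl, map_zero, map_zero]
  intro i
  by_cases hi : i ∈ l.support
  · exact linearIndependent_iff'.mp hli l.support _ hrel i hi
  · rw [Finsupp.notMem_support_iff.mp hi, map_zero]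

end Main

section Basis

variable {A₀ : Type u} [CommRing A₀] [IsLocalRing A₀] {M₁ : Type u} [AddCommGroup M₁]
  [Module A₀ M₁]

theorem eq_top_of_sup_smul_eq_top (hnil : IsNilpotent (maximalIdeal A₀)) (N : Submodule A₀ M₁)
    (h : N ⊔ (maximalIdeal A₀ • ⊤ : Submodule A₀ M₁) = ⊤) : N = ⊤ := by
  have key : ∀ n : ℕ, N ⊔ ((maximalIdeal A₀) ^ n • ⊤ : Submodule A₀ M₁) = ⊤ := by
    intro n
    induction n with
    | zero => rw [pow_zero, Ideal.one_eq_top, Submodule.top_smul, sup_top_eq]
    | succ n ih =>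
      have h1 : ((maximalIdeal A₀) ^ n • ⊤ : Submodule A₀ M₁) ≤
          N ⊔ ((maximalIdeal A₀) ^ (n + 1) • ⊤ : Submodule A₀ M₁) := by
        calc ((maximalIdeal A₀) ^ n • ⊤ : Submodule A₀ M₁)
            = (maximalIdeal A₀) ^ n • (N ⊔ (maximalIdeal A₀ • ⊤ : Submodule A₀ M₁)) := by rw [h]
          _ = (maximalIdeal A₀) ^ n • N ⊔ (maximalIdeal A₀) ^ n • (maximalIdeal A₀ • ⊤) :=
              Submodule.smul_sup _ _ _
          _ ≤ N ⊔ ((maximalIdeal A₀) ^ (n + 1) • ⊤ : Submodule A₀ M₁) := by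
              refine sup_le_sup Submodule.smul_le_right ?_
              rw [← Submodule.mul_smul, ← pow_succ]
      rw [eq_top_iff]
      calc (⊤ : Submodule A₀ M₁) = N ⊔ ((maximalIdeal A₀) ^ n • ⊤ : Submodule A₀ M₁) := ih.symm
        _ ≤ N ⊔ ((maximalIdeal A₀) ^ (n + 1) • ⊤ : Submodule A₀ M₁) := sup_le le_sup_left h1
  obtain ⟨n, hn⟩ := hnil
  have := key n
  rwa [hn, Ideal.zero_eq_bot, Submodule.bot_smul, sup_bot_eq] at this

/-- lifts of a basis of `M₁/𝔪M₁` -/
theorem exists_lift_basis (hnil : IsNilpotent (maximalIdeal A₀)) :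
    ∃ (Λ : Type u) (v : Λ → M₁),
      (∀ l : Λ →₀ A₀, Finsupp.linearCombination A₀ v l ∈
        (maximalIdeal A₀ • ⊤ : Submodule A₀ M₁) → ∀ i, l i ∈ maximalIdeal A₀) ∧
      Submodule.span A₀ (Set.range v) = ⊤ := by
  let b := Module.Free.chooseBasis (ResidueField A₀) ((ResidueField A₀) ⊗[A₀] M₁)
  have hsurj : Function.Surjective (TensorProduct.mk A₀ (ResidueField A₀) M₁ 1) :=
    TensorProduct.mk_surjective A₀ M₁ (ResidueField A₀) Ideal.Quotient.mk_surjective
  let v : Module.Free.ChooseBasisIndex (ResidueField A₀) ((ResidueField A₀) ⊗[A₀] M₁) → M₁ :=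
    fun i => Function.surjInv hsurj (b i)
  have hv : ∀ i, TensorProduct.mk A₀ (ResidueField A₀) M₁ 1 (v i) = b i := fun i =>
    Function.surjInv_eq hsurj _
  have hmk : ∀ l : Module.Free.ChooseBasisIndex (ResidueField A₀)
      ((ResidueField A₀) ⊗[A₀] M₁) →₀ A₀,
      TensorProduct.mk A₀ (ResidueField A₀) M₁ 1 (Finsupp.linearCombination A₀ v l) =
        ∑ i ∈ l.support, residue A₀ (l i) • b i := by
    intro l
    rw [Finsupp.linearCombination_apply, Finsupp.sum, map_sum]
    refine Finset.sum_congr rfl fun i _ => ?_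
    rw [map_smul, hv]
    exact (algebraMap_smul (ResidueField A₀) (l i) (b i)).symm
  refine ⟨_, v, ?_, ?_⟩
  · intro l hl i
    rw [← LinearMap.ker_tensorProductMk] at hl
    have h1 : TensorProduct.mk A₀ (ResidueField A₀) M₁ 1 (Finsupp.linearCombination A₀ v l) = 0 :=
      hl
    rw [hmk] at h1
    by_cases hi : i ∈ l.support
    · have := linearIndependent_iff'.mp b.linearIndependent l.support (fun i => residue A₀ (l i))
        h1 i hi
      exact (residue_eq_zero_iff _).mp this
    · rw [Finsupp.notMem_support_iff.mp hi]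
      exact zero_mem _
  · apply eq_top_of_sup_smul_eq_top hnil
    rw [eq_top_iff]
    intro m _
    -- `mk m` is a combination of the `b i`
    have h1 : TensorProduct.mk A₀ (ResidueField A₀) M₁ 1 m ∈
        Submodule.span (ResidueField A₀) (Set.range b) := by
      rw [b.span_eq]; trivial
    obtain ⟨c, hc⟩ := (Finsupp.mem_span_range_iff_exists_finsupp).mp h1
    have hs : Function.Surjective (residue A₀) := Ideal.Quotient.mk_surjective
    classical
    let l : Module.Free.ChooseBasisIndex (ResidueField A₀) ((ResidueField A₀) ⊗[A₀] M₁) →₀ A₀ :=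
      Finsupp.onFinset c.support (fun i => if i ∈ c.support then Function.surjInv hs (c i) else 0)
        (by
          intro i hi
          by_contra hns
          simp [hns] at hi)
    have hl : TensorProduct.mk A₀ (ResidueField A₀) M₁ 1
        (∑ i ∈ c.support, Function.surjInv hs (c i) • v i) =
        TensorProduct.mk A₀ (ResidueField A₀) M₁ 1 m := by
      rw [map_sum, ← hc, Finsupp.sum]
      refine Finset.sum_congr rfl fun i _ => ?_
      rw [map_smul, hv, ← algebraMap_smul (ResidueField A₀)]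
      congr 1
      exact Function.surjInv_eq hs (c i)
    have h2 : m - ∑ i ∈ c.support, Function.surjInv hs (c i) • v i ∈
        (maximalIdeal A₀ • ⊤ : Submodule A₀ M₁) := by
      rw [← LinearMap.ker_tensorProductMk, LinearMap.mem_ker, map_sub]
      exact sub_eq_zero.mpr hl.symm
    have h3 : ∑ i ∈ c.support, Function.surjInv hs (c i) • v i ∈
        Submodule.span A₀ (Set.range v) :=
      Submodule.sum_mem _ fun i _ => Submodule.smul_mem _ _ (Submodule.subset_span ⟨i, rfl⟩)
    have h4 : m = ∑ i ∈ c.support, Function.surjInv hs (c i) • v i +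
        (m - ∑ i ∈ c.support, Function.surjInv hs (c i) • v i) := by abel
    rw [h4]
    exact Submodule.add_mem_sup h3 h2

/-- a module over a local ring with nilpotent maximal ideal, all of whose relations among lifts of
a basis of `M₁/𝔪M₁` are trivial, is free, hence flat. -/
theorem flat_of_relations_vanish (hnil : IsNilpotent (maximalIdeal A₀))
    (hrel : ∀ {Λ : Type u} (v : Λ → M₁),
      (∀ l : Λ →₀ A₀, Finsupp.linearCombination A₀ v l ∈
        (maximalIdeal A₀ • ⊤ : Submodule A₀ M₁) → ∀ i, l i ∈ maximalIdeal A₀) →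
      ∀ l : Λ →₀ A₀, Finsupp.linearCombination A₀ v l = 0 → l = 0) :
    Module.Flat A₀ M₁ := by
  obtain ⟨Λ, v, hv, hspan⟩ := exists_lift_basis (M₁ := M₁) hnil
  have hli : LinearIndependent A₀ v := linearIndependent_iff.mpr (hrel v hv)
  haveI : Module.Free A₀ M₁ := Module.Free.of_basis (Module.Basis.mk hli hspan.ge)
  infer_instance

end Basis

end Groth.Agent.Lib.helper3.FlatArtCore
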