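import Groth.Prelude.Def_FlatMod2
import Mathlib
import Groth.Agent.Lib.Helper17.FlatOver6

/-!
# Chart translation of relative flatness on a fibre product (helper3)

`exists_chart_data`: for a cartesian square `X' = X ×_S S'`, a quasi-coherent module `F` on `X` and
affine opens `US`, `UT ≤ g⁻¹US`, `UX ≤ f⁻¹US`: the sections `B' = Γ(X', g'⁻¹UX ⊓ f'⁻¹UT)` form a
pushout of rings, `M' = Γ(g'^*F, _)` is the base change of `Γ(F, UX)`, and for every prime `𝔫` of
`B'` there is a point `x'` of `X'` (with explicit images in `X` and `S'`) such that flatness of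
`g'^*F` over `S'` at `x'` gives flatness of `M'_𝔫` over `Γ(S', UT)`.
-/

set_option autoImplicit false
set_option linter.style.haveILetI false
set_option linter.unusedSectionVars false
universe u
open CategoryTheory AlgebraicGeometry TopologicalSpace Opposite TensorProduct

namespace Groth.Agent.Lib.helper3.FlatChart

open Scheme.Modules Groth.Agent.Lib.helper16.CohStalk Groth.Agent.Lib.helper17.FlatOver1
  Groth.Agent.Lib.helper17.StalkPullback Groth.Agent.Lib.helper16.QCohPullback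

variable {X S X' S' : Scheme.{u}} {f : X ⟶ S} {f' : X' ⟶ S'} {g' : X' ⟶ X} {g : S' ⟶ S}

set_option maxHeartbeats 1600000 in
theorem exists_chart_data (hc : IsPullback g' f' f g) (F : X.Modules) [F.IsQuasicoherent]
    {US : S.Opens} {UT : S'.Opens} {UX : X.Opens} (hUS : IsAffineOpen US)
    (hUT : IsAffineOpen UT) (hUX : IsAffineOpen UX)
    (hUST : UT ≤ g ⁻¹ᵁ US) (hUSX : UX ≤ f ⁻¹ᵁ US) :
    letI algAB : Algebra Γ(S, US) Γ(X, UX) := (f.appLE US UX hUSX).hom.toAlgebra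
    letI algAA' : Algebra Γ(S, US) Γ(S', UT) := (g.appLE US UT hUST).hom.toAlgebra
    ∃ (B' : Type u) (_ : CommRing B') (_ : Algebra Γ(X, UX) B') (_ : Algebra Γ(S', UT) B')
      (_ : Algebra Γ(S, US) B') (_ : IsScalarTower Γ(S, US) Γ(X, UX) B')
      (_ : IsScalarTower Γ(S, US) Γ(S', UT) B')
      (_ : Algebra.IsPushout Γ(S, US) Γ(X, UX) Γ(S', UT) B')
      (M' : Type u) (_ : AddCommGroup M') (_ : Module B' M') (_ : Module Γ(X, UX) M')
      (_ : Module Γ(S', UT) M') (_ : IsScalarTower Γ(X, UX) B' M')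
      (_ : IsScalarTower Γ(S', UT) B' M')
      (ψ : Γ(F, UX) →ₗ[Γ(X, UX)] M'), IsBaseChange B' ψ ∧
      ∀ (𝔫 : Ideal B') [𝔫.IsPrime], ∃ x' : X',
        g' x' = hUX.fromSpec ⟨𝔫.comap (algebraMap Γ(X, UX) B'), inferInstance⟩ ∧
        f' x' = hUT.fromSpec ⟨𝔫.comap (algebraMap Γ(S', UT) B'), inferInstance⟩ ∧
        (FlatMod.IsFlatOverAt f' ((Scheme.Modules.pullback g').obj F) x' →
          Module.Flat Γ(S', UT) (LocalizedModule 𝔫.primeCompl M')) := by
  letI algAB : Algebra Γ(S, US) Γ(X, UX) := (f.appLE US UX hUSX).hom.toAlgebra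
  letI algAA' : Algebra Γ(S, US) Γ(S', UT) := (g.appLE US UT hUST).hom.toAlgebra
  set UY : X'.Opens := g' ⁻¹ᵁ UX ⊓ f' ⁻¹ᵁ UT with hUYdef
  have hUYX : UY ≤ g' ⁻¹ᵁ UX := inf_le_left
  have hUYT : UY ≤ f' ⁻¹ᵁ UT := inf_le_right
  have hUY : IsAffineOpen UY := by
    haveI : IsAffine (US : Scheme) := hUS
    haveI : IsAffine (UT : Scheme) := hUT
    haveI : IsAffine (UX : Scheme) := hUX
    exact .of_isIso (Scheme.Hom.isPullback_resLE hc hUST hUSX rfl).isoPullback.hom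
  have hpo : IsPushout (f.appLE US UX hUSX) (g.appLE US UT hUST) (g'.appLE UX UY hUYX)
      (f'.appLE UT UY hUYT) := by
    haveI := isIso_pushoutSection_of_isAffineOpen hc hUST hUSX rfl hUS hUT hUX
    exact (isIso_pushoutSection_iff hc hUST hUSX rfl).mp inferInstance
  set P := (Scheme.Modules.pullback g').obj F with hP
  haveI : P.IsQuasicoherent :=
    Groth.Agent.Lib.helper16.QCohPullback.isQuasicoherent_pullback g' F
  letI algBB' : Algebra Γ(X, UX) Γ(X', UY) := (g'.appLE UX UY hUYX).hom.toAlgebra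
  letI algA'B' : Algebra Γ(S', UT) Γ(X', UY) := (f'.appLE UT UY hUYT).hom.toAlgebra
  letI algAB' : Algebra Γ(S, US) Γ(X', UY) :=
    ((g'.appLE UX UY hUYX).hom.comp (f.appLE US UX hUSX).hom).toAlgebra
  haveI tw1 : IsScalarTower Γ(S, US) Γ(X, UX) Γ(X', UY) :=
    IsScalarTower.of_algebraMap_eq (fun _ => rfl)
  have hsq : ∀ a : Γ(S, US), (g'.appLE UX UY hUYX).hom ((f.appLE US UX hUSX).hom a) =
      (f'.appLE UT UY hUYT).hom ((g.appLE US UT hUST).hom a) := fun a =>
    congrArg (fun φ => φ.hom a) hpo.w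
  haveI tw2 : IsScalarTower Γ(S, US) Γ(S', UT) Γ(X', UY) :=
    IsScalarTower.of_algebraMap_eq (fun a => hsq a)
  haveI hpush : Algebra.IsPushout Γ(S, US) Γ(X, UX) Γ(S', UT) Γ(X', UY) :=
    CommRingCat.isPushout_iff_isPushout.mp hpo
  letI mBM' : Module Γ(X, UX) Γ(P, UY) := modSecBase g' P hUYX
  letI mA'M' : Module Γ(S', UT) Γ(P, UY) := modSecBase f' P hUYT
  haveI tw3 : IsScalarTower Γ(X, UX) Γ(X', UY) Γ(P, UY) := isScalarTower_sections g' P hUYX
  haveI tw4 : IsScalarTower Γ(S', UT) Γ(X', UY) Γ(P, UY) := isScalarTower_sections f' P hUYT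
  let e : Γ(P, UY) ≃ₗ[Γ(X', UY)] Γ(X', UY) ⊗[Γ(X, UX)] Γ(F, UX) :=
    pullbackSectionsEquiv g' F hUX hUY hUYX
  let ψ : Γ(F, UX) →ₗ[Γ(X, UX)] Γ(P, UY) :=
    (e.symm.toLinearMap.restrictScalars Γ(X, UX)).comp (TensorProduct.mk Γ(X, UX) Γ(X', UY) Γ(F, UX) 1)
  have hψ : IsBaseChange Γ(X', UY) ψ := IsBaseChange.of_equiv e.symm (fun x => by
    simp only [ψ, LinearMap.comp_apply, TensorProduct.mk_apply, LinearMap.restrictScalars_apply,
      LinearEquiv.coe_coe])
  refine ⟨Γ(X', UY), inferInstance, algBB', algA'B', algAB', tw1, tw2, hpush, Γ(P, UY),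
    inferInstance, inferInstance, mBM', mA'M', tw3, tw4, ψ, hψ, ?_⟩
  intro 𝔫 h𝔫
  set p : Spec Γ(X', UY) := ⟨𝔫, h𝔫⟩ with hp
  set x' : X' := hUY.fromSpec p with hx'def
  have hx' : x' ∈ UY := by
    have : x' ∈ hUY.fromSpec.opensRange := ⟨p, rfl⟩
    rwa [hUY.opensRange_fromSpec] at this
  have hpx : hUY.primeIdealOf ⟨x', hx'⟩ = p := by
    apply hUY.fromSpec.isOpenEmbedding.injective
    exact hUY.fromSpec_primeIdealOf ⟨x', hx'⟩
  refine ⟨x', ?_, ?_, ?_⟩
  · have h1 := IsAffineOpen.SpecMap_appLE_fromSpec g' hUX hUY hUYX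
    have h2 : g' x' = (hUY.fromSpec ≫ g') p := rfl
    rw [h2, ← h1]
    rfl
  · have h1 := IsAffineOpen.SpecMap_appLE_fromSpec f' hUT hUY hUYT
    have h2 : f' x' = (hUY.fromSpec ≫ f') p := rfl
    rw [h2, ← h1]
    rfl
  · intro hfl
    have hs' : f'.base x' ∈ UT := hUYT hx'
    letI := modStalk P x' hx'
    letI := modStalkBase f' P x' hs'
    haveI := isScalarTower_stalk_base f' P hUYT x' hx'
    haveI hloc := isLocalizedModule_stalk P hUY x' hx'
    haveI : Module.Flat Γ(S', UT) (P.presheaf.stalk x') :=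
      (isFlatOverAt_iff_flat_stalk_sections f' P hUT x' hs').mp hfl
    have hP' : (hUY.primeIdealOf ⟨x', hx'⟩).asIdeal.primeCompl = 𝔫.primeCompl := by rw [hpx]
    rw [hP'] at hloc
    exact Module.Flat.of_linearEquiv
      ((IsLocalizedModule.linearEquiv 𝔫.primeCompl
        (LocalizedModule.mkLinearMap 𝔫.primeCompl Γ(P, UY)) (germLin P x' hx')).restrictScalars
          Γ(S', UT))

end Groth.Agent.Lib.helper3.FlatChart
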