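import Groth.Prelude.Def_FlatMod2
import Mathlib
import Groth.Agent.Lib.Helper17.FlatOver7
import Groth.Agent.Lib.Helper17.FlatOver2
import Groth.Agent.Lib.Helper3.StalkBC2

/-!
# Reduction of relative flatness at a point to the local scheme `Spec 𝒪_{X,x}` (helper3)
-/

set_option autoImplicit false
set_option linter.style.haveILetI false
set_option linter.unusedSectionVars false
universe u
open CategoryTheory CategoryTheory.Limits AlgebraicGeometry TopologicalSpace Opposite

namespace Groth.Agent.Lib.helper3.FlatRed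

open Groth.Agent.Lib.helper17.FlatOver4 Groth.Agent.Lib.helper17.FlatOver7
  Groth.Agent.Lib.helper17.FlatOver2

variable {X Y Y' X' : Scheme.{u}}

/-- goal side: flatness of `j^*F` over `Y` at the closed point of `Spec 𝒪_{X,x}` gives flatness of
`F` at `x`. -/
theorem isFlatOverAt_of_fromSpecStalk (f : X ⟶ Y) (F : X.Modules) [F.IsQuasicoherent] (x : X)
    (h : FlatMod.IsFlatOverAt (X.fromSpecStalk x ≫ f)
      ((Scheme.Modules.pullback (X.fromSpecStalk x)).obj F)
      (IsLocalRing.closedPoint (X.presheaf.stalk x))) :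
    FlatMod.IsFlatOverAt f F x := by
  haveI : Flat (X.fromSpecStalk x) := StalkBC.flat_fromSpecStalk X x
  have hfl : ((X.fromSpecStalk x).stalkMap (IsLocalRing.closedPoint (X.presheaf.stalk x))).hom.Flat :=
    Flat.stalkMap _ _
  have h1 := (isFlatOverAt_pullback_iff (X.fromSpecStalk x) f F
    (IsLocalRing.closedPoint (X.presheaf.stalk x)) hfl).mpr h
  have h2 : (X.fromSpecStalk x) (IsLocalRing.closedPoint (X.presheaf.stalk x)) = x :=
    Scheme.fromSpecStalk_closedPoint
  exact h2 ▸ h1

/-- the pasted square -/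
theorem isPullback_red {f : X ⟶ Y} {g : Y' ⟶ Y} {g' : X' ⟶ X} {f' : X' ⟶ Y'}
    (hc : IsPullback g' f' f g) (x : X) :
    IsPullback (pullback.fst (X.fromSpecStalk x) g') (pullback.snd (X.fromSpecStalk x) g' ≫ f')
      (X.fromSpecStalk x ≫ f) g :=
  ((IsPullback.of_hasPullback (X.fromSpecStalk x) g').flip.paste_horiz hc.flip).flip

/-- hypothesis side -/
theorem isFlatOverAt_red {g' : X' ⟶ X} {f' : X' ⟶ Y'}
    (F : X.Modules) [F.IsQuasicoherent] (x : X)
    (z' : ↥(pullback (X.fromSpecStalk x) g'))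
    (h : FlatMod.IsFlatOverAt f' ((Scheme.Modules.pullback g').obj F)
      ((pullback.snd (X.fromSpecStalk x) g') z')) :
    FlatMod.IsFlatOverAt (pullback.snd (X.fromSpecStalk x) g' ≫ f')
      ((Scheme.Modules.pullback (pullback.fst (X.fromSpecStalk x) g')).obj
        ((Scheme.Modules.pullback (X.fromSpecStalk x)).obj F)) z' := by
  haveI : Flat (pullback.snd (X.fromSpecStalk x) g') := StalkBC2.flat_snd g' x
  haveI : ((Scheme.Modules.pullback g').obj F).IsQuasicoherent :=
    Groth.Agent.Lib.helper16.QCohPullback.isQuasicoherent_pullback g' F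
  have hfl : ((pullback.snd (X.fromSpecStalk x) g').stalkMap z').hom.Flat := Flat.stalkMap _ _
  have h1 := (isFlatOverAt_pullback_iff (pullback.snd (X.fromSpecStalk x) g') f'
    ((Scheme.Modules.pullback g').obj F) z' hfl).mp h
  let e : (Scheme.Modules.pullback (pullback.snd (X.fromSpecStalk x) g')).obj
      ((Scheme.Modules.pullback g').obj F) ≅
      (Scheme.Modules.pullback (pullback.fst (X.fromSpecStalk x) g')).obj
        ((Scheme.Modules.pullback (X.fromSpecStalk x)).obj F) :=
    (Scheme.Modules.pullbackComp (pullback.snd (X.fromSpecStalk x) g') g').app F ≪≫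
      (Scheme.Modules.pullbackCongr (pullback.condition (f := X.fromSpecStalk x) (g := g')).symm).app F ≪≫
      ((Scheme.Modules.pullbackComp (pullback.fst (X.fromSpecStalk x) g') (X.fromSpecStalk x)).app F).symm
  exact (isFlatOverAt_iff_of_iso _ e z').mp h1

/-- `g' (ρ z') = x` when `π z'` is the closed point -/
theorem map_snd_eq {g' : X' ⟶ X} (x : X) (z' : ↥(pullback (X.fromSpecStalk x) g'))
    (h : (pullback.fst (X.fromSpecStalk x) g') z' = IsLocalRing.closedPoint (X.presheaf.stalk x)) :
    g' ((pullback.snd (X.fromSpecStalk x) g') z') = x :=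
  StalkBC2.snd_eq_of_fst_eq_closedPoint g' x z' h

/-- a pullback square over `Z` whose legs factor through a monomorphism `i : W ⟶ Z` is a pullback
square over `W`. -/
theorem isPullback_of_mono {C : Type*} [Category C] {P A B W Z : C} {fst : P ⟶ A} {snd : P ⟶ B}
    {a : A ⟶ W} {b : B ⟶ W} (i : W ⟶ Z) [Mono i]
    (h : IsPullback fst snd (a ≫ i) (b ≫ i)) : IsPullback fst snd a b := by
  have w : fst ≫ a = snd ≫ b := (cancel_mono i).1 (by simpa only [Category.assoc] using h.w)
  exact ⟨⟨w⟩, ⟨PullbackCone.isLimitOfFactors (a ≫ i) (b ≫ i) i a b rfl rfl _ h.isLimit⟩⟩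

/-- removing the flat monomorphism `Spec 𝒪_{Y,y} ⟶ Y` from the base -/
theorem isFlatOverAt_comp_fromSpecStalk {Z : Scheme.{u}} (y : Y)
    (h : Z ⟶ Spec (Y.presheaf.stalk y)) (G : Z.Modules) (z : Z)
    (H : FlatMod.IsFlatOverAt h G z) : FlatMod.IsFlatOverAt (h ≫ Y.fromSpecStalk y) G z := by
  rw [isFlatOverAt_comp_iff]
  haveI : Flat (Y.fromSpecStalk y) := StalkBC.flat_fromSpecStalk Y y
  have hbij : Function.Bijective ((Y.fromSpecStalk y).stalkMap (h z)).hom :=
    ⟨StalkBC.stalkMap_injective_of_flat _ _, (Y.fromSpecStalk y).stalkMap_surjective _⟩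
  letI := FlatMod.moduleStalkOver h G z
  exact (flat_compHom_iff_of_bijective ((Y.fromSpecStalk y).stalkMap (h z)).hom hbij).mpr H

end Groth.Agent.Lib.helper3.FlatRed
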