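import Groth.Prelude.Def_FlatMod2
import Mathlib
import Groth.Agent.Lib.Helper3.FlatRed
import Groth.Agent.Lib.Helper3.FlatChart
import Groth.Agent.S6883

/-!
# Descent of relative flatness along a finite injective extension of the local ring (helper3)
-/

set_option autoImplicit false
set_option linter.style.haveILetI false
set_option linter.unusedSectionVars false
universe u
open CategoryTheory CategoryTheory.Limits AlgebraicGeometry TopologicalSpace Opposite TensorProduct

namespace Groth.Agent.Lib.helper3.FlatFinDesc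

open Groth.Agent.Lib.helper3.FlatRed Groth.Agent.Lib.helper3.FlatChart
  Groth.Agent.Lib.helper17.FlatOver1

/-- ring-level core: flatness of all localizations of the base change at maximal ideals descends
along a finite injective extension of a Noetherian ring. -/
theorem flat_of_flat_localized_pushout
    {A₀ A'' B B' : Type u} [CommRing A₀] [CommRing A''] [CommRing B] [CommRing B']
    [IsNoetherianRing A₀] [Algebra A₀ A''] [Module.Finite A₀ A'']
    (hinj : Function.Injective (algebraMap A₀ A''))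
    [Algebra A₀ B] [Algebra B B'] [Algebra A'' B'] [Algebra A₀ B'] [IsScalarTower A₀ B B']
    [IsScalarTower A₀ A'' B'] [hpo : Algebra.IsPushout A₀ B A'' B']
    {M₁ M' : Type u} [AddCommGroup M₁] [Module B M₁] [Module A₀ M₁] [IsScalarTower A₀ B M₁]
    [AddCommGroup M'] [Module B' M'] [Module B M'] [Module A'' M'] [IsScalarTower B B' M']
    [IsScalarTower A'' B' M']
    (ψ : M₁ →ₗ[B] M') (hψ : IsBaseChange B' ψ)
    (H : ∀ (𝔫 : Ideal B') [𝔫.IsMaximal], Module.Flat A'' (LocalizedModule 𝔫.primeCompl M')) :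
    Module.Flat A₀ M₁ := by
  haveI : Module.Flat A'' M' :=
    Module.flat_of_isLocalized_maximal (R := A'') B' M'
      (fun P _ => LocalizedModule P.primeCompl M')
      (fun P _ => LocalizedModule.mkLinearMap P.primeCompl M') (fun P hP => H P)
  haveI hpo' : Algebra.IsPushout A₀ A'' B B' := hpo.symm
  haveI : Module.Flat A'' (B' ⊗[B] M₁) :=
    Module.Flat.of_linearEquiv (hψ.equiv.restrictScalars A'')
  haveI : Module.Flat A'' (A'' ⊗[A₀] M₁) :=
    Module.Flat.of_linearEquiv (Algebra.IsPushout.cancelBaseChange A₀ A'' B B' M₁).symm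
  haveI : IsNoetherianRing A'' := IsNoetherianRing.of_finite A₀ A''
  exact Groth.Agent.S6883.result A₀ A'' hinj M₁

/-- the image of a maximal ideal under `fromSpec` of the top open of an affine scheme is closed -/
theorem isClosed_fromSpec_top {X : Scheme.{u}} [IsAffine X] (p : Spec Γ(X, ⊤))
    (hp : p.asIdeal.IsMaximal) : IsClosed ({(isAffineOpen_top X).fromSpec p} : Set X) := by
  have h1 : IsClosed ({p} : Set (Spec Γ(X, ⊤))) :=
    (PrimeSpectrum.isClosed_singleton_iff_isMaximal p).mpr hp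
  have hemb := (isAffineOpen_top X).fromSpec.isOpenEmbedding
  have hrange : Set.range (isAffineOpen_top X).fromSpec = Set.univ := by
    rw [(isAffineOpen_top X).range_fromSpec]
    rfl
  have hcl : Topology.IsClosedEmbedding (isAffineOpen_top X).fromSpec :=
    ⟨hemb.isEmbedding, by rw [hrange]; exact isClosed_univ⟩
  have := hcl.isClosedMap _ h1
  rwa [Set.image_singleton] at this

theorem eq_closedPoint_of_isClosed {R : CommRingCat.{u}} [IsLocalRing R] (z : Spec R)
    (h : IsClosed ({z} : Set (Spec R))) : z = IsLocalRing.closedPoint R := by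
  have h1 : z ⤳ IsLocalRing.closedPoint R := IsLocalRing.specializes_closedPoint z
  have h2 := h1.mem_closed h (Set.mem_singleton z)
  exact (Set.mem_singleton_iff.mp h2).symm

theorem appLE_top_eq {R A' : CommRingCat.{u}} (φ : R ⟶ A')
    (h : (⊤ : (Spec A').Opens) ≤ Spec.map φ ⁻¹ᵁ ⊤) :
    (Spec.map φ).appLE ⊤ ⊤ h = (Scheme.ΓSpecIso R).hom ≫ φ ≫ (Scheme.ΓSpecIso A').inv := by
  rw [Scheme.ΓSpecIso_inv_naturality, Iso.hom_inv_id_assoc]
  simp [Scheme.Hom.appLE]

set_option maxHeartbeats 1600000 in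
/-- **Descent of flatness at a point along a finite injective extension of the local ring of the
base** (EGA IV 11.5.?; abstract cartesian square form). -/
theorem isFlatOverAt_of_finite_injective {X Y : Scheme.{u}} [IsLocallyNoetherian Y] (f : X ⟶ Y)
    (F : X.Modules) [F.IsQuasicoherent] (x : X) (A' : CommRingCat.{u})
    (φ : Y.presheaf.stalk (f.base x) ⟶ A') (hfin : φ.hom.Finite)
    (hinj : Function.Injective φ.hom) {X' : Scheme.{u}} (g' : X' ⟶ X) (f' : X' ⟶ Spec A')
    (hc : IsPullback g' f' f (Spec.map φ ≫ Y.fromSpecStalk (f.base x)))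
    (hflat : ∀ x' : X', g' x' = x → IsClosed ({f' x'} : Set (Spec A')) →
      FlatMod.IsFlatOverAt f' ((Scheme.Modules.pullback g').obj F) x') :
    FlatMod.IsFlatOverAt f F x := by
  apply isFlatOverAt_of_fromSpecStalk
  have hj : X.fromSpecStalk x ≫ f = Spec.map (f.stalkMap x) ≫ Y.fromSpecStalk (f.base x) :=
    (Scheme.SpecMap_stalkMap_fromSpecStalk (f := f) (x := x)).symm
  rw [hj]
  apply isFlatOverAt_comp_fromSpecStalk
  have hc₁ := isPullback_red hc x
  rw [hj] at hc₁
  have hc₂ := isPullback_of_mono (Y.fromSpecStalk (f.base x)) hc₁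
  set σ := f.stalkMap x with hσ
  set G := (Scheme.Modules.pullback (X.fromSpecStalk x)).obj F with hG
  haveI : G.IsQuasicoherent :=
    Groth.Agent.Lib.helper16.QCohPullback.isQuasicoherent_pullback (X.fromSpecStalk x) F
  set π := pullback.fst (X.fromSpecStalk x) g' with hπdef
  set ρ := pullback.snd (X.fromSpecStalk x) g' with hρdef
  have hUST : (⊤ : (Spec A').Opens) ≤ Spec.map φ ⁻¹ᵁ ⊤ := fun _ _ => trivial
  have hUSX : (⊤ : (Spec (X.presheaf.stalk x)).Opens) ≤ Spec.map σ ⁻¹ᵁ ⊤ := fun _ _ => trivial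
  have hUS := isAffineOpen_top (Spec (Y.presheaf.stalk (f.base x)))
  have hUT := isAffineOpen_top (Spec A')
  have hUX := isAffineOpen_top (Spec (X.presheaf.stalk x))
  letI algAB : Algebra Γ(Spec (Y.presheaf.stalk (f.base x)), ⊤) Γ(Spec (X.presheaf.stalk x), ⊤) :=
    ((Spec.map σ).appLE ⊤ ⊤ hUSX).hom.toAlgebra
  letI algAA' : Algebra Γ(Spec (Y.presheaf.stalk (f.base x)), ⊤) Γ(Spec A', ⊤) :=
    ((Spec.map φ).appLE ⊤ ⊤ hUST).hom.toAlgebra
  obtain ⟨B', _, _, _, _, _, _, _, M', _, _, _, _, _, _, ψ, hψ, hprimes⟩ :=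
    exists_chart_data hc₂ G hUS hUT hUX hUST hUSX
  letI mA₀M₁ : Module Γ(Spec (Y.presheaf.stalk (f.base x)), ⊤) Γ(G, ⊤) :=
    modSecBase (Spec.map σ) G hUSX
  haveI : IsScalarTower Γ(Spec (Y.presheaf.stalk (f.base x)), ⊤) Γ(Spec (X.presheaf.stalk x), ⊤)
      Γ(G, ⊤) := isScalarTower_sections (Spec.map σ) G hUSX
  -- the base ring is Noetherian, the extension finite injective
  haveI : IsNoetherianRing Γ(Spec (Y.presheaf.stalk (f.base x)), ⊤) :=
    isNoetherianRing_of_ringEquiv (Y.presheaf.stalk (f.base x))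
      (Scheme.ΓSpecIso (Y.presheaf.stalk (f.base x))).symm.commRingCatIsoToRingEquiv
  have halg : algebraMap Γ(Spec (Y.presheaf.stalk (f.base x)), ⊤) Γ(Spec A', ⊤) =
      ((Scheme.ΓSpecIso A').inv.hom.comp φ.hom).comp
        (Scheme.ΓSpecIso (Y.presheaf.stalk (f.base x))).hom.hom := by
    change ((Spec.map φ).appLE ⊤ ⊤ hUST).hom = _
    rw [appLE_top_eq]
    rfl
  have hfin' : (algebraMap Γ(Spec (Y.presheaf.stalk (f.base x)), ⊤) Γ(Spec A', ⊤)).Finite := by
    rw [halg]
    refine RingHom.Finite.comp (RingHom.Finite.comp ?_ hfin) ?_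
    · exact RingHom.Finite.of_surjective _
        (ConcreteCategory.bijective_of_isIso (Scheme.ΓSpecIso A').inv).2
    · exact RingHom.Finite.of_surjective _
        (ConcreteCategory.bijective_of_isIso (Scheme.ΓSpecIso _).hom).2
  haveI : Module.Finite Γ(Spec (Y.presheaf.stalk (f.base x)), ⊤) Γ(Spec A', ⊤) := hfin'
  have hinj' : Function.Injective
      (algebraMap Γ(Spec (Y.presheaf.stalk (f.base x)), ⊤) Γ(Spec A', ⊤)) := by
    rw [halg]
    exact ((ConcreteCategory.bijective_of_isIso (Scheme.ΓSpecIso A').inv).1.comp hinj).comp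
      (ConcreteCategory.bijective_of_isIso (Scheme.ΓSpecIso _).hom).1
  haveI hpo' : Algebra.IsPushout Γ(Spec (Y.presheaf.stalk (f.base x)), ⊤) Γ(Spec A', ⊤)
      Γ(Spec (X.presheaf.stalk x), ⊤) B' := Algebra.IsPushout.symm inferInstance
  haveI : Algebra.IsIntegral Γ(Spec (Y.presheaf.stalk (f.base x)), ⊤) Γ(Spec A', ⊤) :=
    Algebra.IsIntegral.of_finite _ _
  haveI : Algebra.IsIntegral Γ(Spec (X.presheaf.stalk x), ⊤) B' :=
    Algebra.IsPushout.isIntegral Γ(Spec (Y.presheaf.stalk (f.base x)), ⊤)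
      Γ(Spec (X.presheaf.stalk x), ⊤) Γ(Spec A', ⊤) B'
  have hflat₀ : Module.Flat Γ(Spec (Y.presheaf.stalk (f.base x)), ⊤) Γ(G, ⊤) := by
    refine flat_of_flat_localized_pushout hinj' ψ hψ ?_
    intro 𝔫 h𝔫
    haveI : 𝔫.IsPrime := h𝔫.isPrime
    obtain ⟨z', hz1, hz2, himp⟩ := hprimes 𝔫
    apply himp
    have hmaxB : (𝔫.comap (algebraMap Γ(Spec (X.presheaf.stalk x), ⊤) B')).IsMaximal :=
      Ideal.isMaximal_comap_of_isIntegral_of_isMaximal 𝔫
    have hπcl : IsClosed ({π z'} : Set (Spec (X.presheaf.stalk x))) := by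
      rw [hz1]
      exact isClosed_fromSpec_top _ hmaxB
    have hπcp : π z' = IsLocalRing.closedPoint (X.presheaf.stalk x) :=
      eq_closedPoint_of_isClosed _ hπcl
    have hx' : g' (ρ z') = x := map_snd_eq x z' hπcp
    have hcl : IsClosed ({f' (ρ z')} : Set (Spec A')) := by
      have hw : (Spec.map φ) ((ρ ≫ f') z') = (Spec.map σ) (π z') := by
        have := congr(($(hc₂.w)) z')
        simpa using this.symm
      rw [hπcp] at hw
      have h3 : (Spec.map σ) (IsLocalRing.closedPoint (X.presheaf.stalk x)) =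
          IsLocalRing.closedPoint (Y.presheaf.stalk (f.base x)) :=
        IsLocalRing.comap_closedPoint σ.hom
      rw [h3] at hw
      have h4 : (((ρ ≫ f') z').asIdeal.comap φ.hom).IsMaximal := by
        have : ((ρ ≫ f') z').asIdeal.comap φ.hom =
            IsLocalRing.maximalIdeal (Y.presheaf.stalk (f.base x)) :=
          congrArg PrimeSpectrum.asIdeal hw
        rw [this]
        infer_instance
      have h5 : ((ρ ≫ f') z').asIdeal.IsMaximal :=
        Ideal.isMaximal_of_isIntegral_of_isMaximal_comap' φ.hom hfin.to_isIntegral _ h4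
      exact (PrimeSpectrum.isClosed_singleton_iff_isMaximal _).mpr h5
    exact isFlatOverAt_red F x z' (hflat (ρ z') hx' hcl)
  exact isFlatOverAt_of_flat_sections (Spec.map σ) G hUSX hUX hUS hflat₀ _ trivial

end Groth.Agent.Lib.helper3.FlatFinDesc
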