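import Groth.Prelude.Def_FlatMod2
import Groth.Prelude.Def_Coh
import Mathlib
import Groth.Agent.Lib.Helper3.FlatRed
import Groth.Agent.Lib.Helper3.FlatChart
import Groth.Agent.Lib.Helper3.FlatFinDesc
import Groth.Agent.Lib.Helper3.FlatArtCore
import Groth.Agent.Lib.Helper16.QCohPullback2

/-!
# Descent of relative flatness over an Artinian local base along a jointly injective family of
local rings (helper3, EGA IV 11.4)
-/

set_option autoImplicit false
set_option linter.style.haveILetI false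
set_option linter.unusedSectionVars false
universe u
open CategoryTheory CategoryTheory.Limits AlgebraicGeometry TopologicalSpace Opposite TensorProduct
  IsLocalRing

namespace Groth.Agent.Lib.helper3.FlatArtDesc

open Groth.Agent.Lib.helper3.FlatRed Groth.Agent.Lib.helper3.FlatChart
  Groth.Agent.Lib.helper3.FlatFinDesc Groth.Agent.Lib.helper3.FlatArtCore
  Groth.Agent.Lib.helper17.FlatOver1

/-- a ring homomorphism from a local ring with nilpotent maximal ideal to a local ring is local -/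
theorem isLocalHom_of_isNilpotent {R S : Type*} [CommRing R] [CommRing S] [IsLocalRing R]
    [IsLocalRing S] (hnil : IsNilpotent (maximalIdeal R)) (f : R →+* S) : IsLocalHom f := by
  refine ⟨fun a ha => ?_⟩
  by_contra hna
  have hmem : a ∈ maximalIdeal R := (mem_maximalIdeal a).mpr hna
  obtain ⟨n, hn⟩ := hnil
  have h1 : a ^ n ∈ (maximalIdeal R) ^ n := Ideal.pow_mem_pow hmem n
  rw [hn] at h1
  have h2 : a ^ n = 0 := h1
  have h3 : f a ^ n = 0 := by rw [← map_pow, h2, map_zero]
  have h4 : IsUnit (f a ^ n) := ha.pow n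
  rw [h3] at h4
  exact not_isUnit_zero h4

set_option maxHeartbeats 3200000 in
/-- **EGA IV 11.4**, abstract cartesian squares. -/
theorem isFlatOverAt_of_jointly_injective {A : Type u} [CommRing A] [IsArtinianRing A]
    [IsLocalRing A] {X : Scheme.{u}} (f : X ⟶ Spec (CommRingCat.of A)) [LocallyOfFiniteType f]
    (F : X.Modules) (hF : Coh.IsCoh F) (x : X)
    {ι : Type*} (A' : ι → Type u) [∀ i, CommRing (A' i)] [∀ i, IsLocalRing (A' i)]
    (u : ∀ i, A →+* A' i) (hu : ∀ a : A, (∀ i, u i a = 0) → a = 0)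
    (X' : ι → Scheme.{u}) (g' : ∀ i, X' i ⟶ X)
    (f' : ∀ i, X' i ⟶ Spec (CommRingCat.of (A' i)))
    (hc : ∀ i, IsPullback (g' i) (f' i) f (Spec.map (CommRingCat.ofHom (u i))))
    (hflat : ∀ (i : ι) (x' : X' i), g' i x' = x → f' i x' = closedPoint (A' i) →
      FlatMod.IsFlatOverAt (f' i) ((Scheme.Modules.pullback (g' i)).obj F) x') :
    FlatMod.IsFlatOverAt f F x := by
  haveI : F.IsQuasicoherent := hF.1
  apply isFlatOverAt_of_fromSpecStalk
  haveI : IsLocallyNoetherian X := LocallyOfFiniteType.isLocallyNoetherian f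
  set j := X.fromSpecStalk x with hj
  set G := (Scheme.Modules.pullback j).obj F with hG
  haveI : G.IsQuasicoherent :=
    Groth.Agent.Lib.helper16.QCohPullback.isQuasicoherent_pullback j F
  have hGcoh : Coh.IsCoh G :=
    ⟨inferInstance, Groth.Agent.Lib.helper16.QCohPullback2.isFiniteType_pullback j F hF.2⟩
  have hUSX : (⊤ : (Spec (X.presheaf.stalk x)).Opens) ≤ (j ≫ f) ⁻¹ᵁ ⊤ := fun _ _ => trivial
  have hUS := isAffineOpen_top (Spec (CommRingCat.of A))
  have hUX := isAffineOpen_top (Spec (X.presheaf.stalk x))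
  letI algAB : Algebra Γ(Spec (CommRingCat.of A), ⊤) Γ(Spec (X.presheaf.stalk x), ⊤) :=
    ((j ≫ f).appLE ⊤ ⊤ hUSX).hom.toAlgebra
  letI mA₀M₁ : Module Γ(Spec (CommRingCat.of A), ⊤) Γ(G, ⊤) := modSecBase (j ≫ f) G hUSX
  haveI : IsScalarTower Γ(Spec (CommRingCat.of A), ⊤) Γ(Spec (X.presheaf.stalk x), ⊤) Γ(G, ⊤) :=
    isScalarTower_sections (j ≫ f) G hUSX
  -- ring-theoretic properties
  let eA : Γ(Spec (CommRingCat.of A), ⊤) ≃+* A :=
    (Scheme.ΓSpecIso (CommRingCat.of A)).commRingCatIsoToRingEquiv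
  let eB : Γ(Spec (X.presheaf.stalk x), ⊤) ≃+* X.presheaf.stalk x :=
    (Scheme.ΓSpecIso (X.presheaf.stalk x)).commRingCatIsoToRingEquiv
  haveI : IsLocalRing Γ(Spec (CommRingCat.of A), ⊤) := eA.symm.isLocalRing
  haveI : IsArtinianRing Γ(Spec (CommRingCat.of A), ⊤) := eA.symm.isArtinianRing
  haveI : IsLocalRing Γ(Spec (X.presheaf.stalk x), ⊤) := eB.symm.isLocalRing
  haveI : IsNoetherianRing Γ(Spec (X.presheaf.stalk x), ⊤) :=
    isNoetherianRing_of_ringEquiv _ eB.symm
  haveI : Module.Finite Γ(Spec (X.presheaf.stalk x), ⊤) Γ(G, ⊤) :=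
    Groth.Agent.Lib.helper16.CohFinite.finite_sections_of_isCoh G hGcoh hUX
  have hnil : IsNilpotent (maximalIdeal Γ(Spec (CommRingCat.of A), ⊤)) := by
    have := IsArtinianRing.isNilpotent_jacobson_bot (R := Γ(Spec (CommRingCat.of A), ⊤))
    rwa [IsLocalRing.jacobson_eq_maximalIdeal _ bot_ne_top] at this
  have hflat₀ : Module.Flat Γ(Spec (CommRingCat.of A), ⊤) Γ(G, ⊤) := by
    refine flat_of_relations_vanish hnil ?_
    intro Λ v hv l hl
    ext k
    rw [Finsupp.zero_apply]
    -- it suffices to kill the coefficient in each `A' i`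
    apply eA.injective
    rw [map_zero]
    apply hu
    intro i
    -- the `i`-th chart
    have hUST : (⊤ : (Spec (CommRingCat.of (A' i))).Opens) ≤
        Spec.map (CommRingCat.ofHom (u i)) ⁻¹ᵁ ⊤ := fun _ _ => trivial
    have hUT := isAffineOpen_top (Spec (CommRingCat.of (A' i)))
    letI algAA' : Algebra Γ(Spec (CommRingCat.of A), ⊤) Γ(Spec (CommRingCat.of (A' i)), ⊤) :=
      ((Spec.map (CommRingCat.ofHom (u i))).appLE ⊤ ⊤ hUST).hom.toAlgebra
    have hc₁ := isPullback_red (hc i) x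
    obtain ⟨B', _, _, _, _, _, _, _, M', _, _, _, _, _, _, ψ, hψ, hprimes⟩ :=
      exists_chart_data hc₁ G hUS hUT hUX hUST hUSX
    let eA' : Γ(Spec (CommRingCat.of (A' i)), ⊤) ≃+* A' i :=
      (Scheme.ΓSpecIso (CommRingCat.of (A' i))).commRingCatIsoToRingEquiv
    haveI : IsLocalRing Γ(Spec (CommRingCat.of (A' i)), ⊤) := eA'.symm.isLocalRing
    haveI : IsLocalHom (algebraMap Γ(Spec (CommRingCat.of A), ⊤)
        Γ(Spec (CommRingCat.of (A' i)), ⊤)) := isLocalHom_of_isNilpotent hnil _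
    have halg : ∀ a : Γ(Spec (CommRingCat.of A), ⊤),
        eA' (algebraMap Γ(Spec (CommRingCat.of A), ⊤) Γ(Spec (CommRingCat.of (A' i)), ⊤) a) =
          u i (eA a) := by
      intro a
      change eA' (((Spec.map (CommRingCat.ofHom (u i))).appLE ⊤ ⊤ hUST).hom a) = _
      rw [appLE_top_eq]
      change (Scheme.ΓSpecIso (CommRingCat.of (A' i))).hom.hom
        ((Scheme.ΓSpecIso (CommRingCat.of (A' i))).inv.hom (u i
          ((Scheme.ΓSpecIso (CommRingCat.of A)).hom.hom a))) = _
      rw [← CommRingCat.comp_apply, Iso.inv_hom_id]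
      rfl
    -- module structures over `A₀` on `M'`
    letI mA₀M' : Module Γ(Spec (CommRingCat.of A), ⊤) M' :=
      Module.compHom M' (algebraMap Γ(Spec (CommRingCat.of A), ⊤) B')
    haveI : IsScalarTower Γ(Spec (CommRingCat.of A), ⊤) B' M' :=
      IsScalarTower.of_algebraMap_smul fun _ _ => rfl
    haveI : IsScalarTower Γ(Spec (CommRingCat.of A), ⊤) Γ(Spec (X.presheaf.stalk x), ⊤) M' :=
      IsScalarTower.of_algebraMap_smul fun a m => by
        rw [← algebraMap_smul B' (algebraMap Γ(Spec (CommRingCat.of A), ⊤)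
          Γ(Spec (X.presheaf.stalk x), ⊤) a) m, ← IsScalarTower.algebraMap_apply]
        rfl
    haveI : IsScalarTower Γ(Spec (CommRingCat.of A), ⊤) Γ(Spec (CommRingCat.of (A' i)), ⊤) M' :=
      IsScalarTower.of_algebraMap_smul fun a m => by
        rw [← algebraMap_smul B' (algebraMap Γ(Spec (CommRingCat.of A), ⊤)
          Γ(Spec (CommRingCat.of (A' i)), ⊤) a) m, ← IsScalarTower.algebraMap_apply]
        rfl
    have hcore := algebraMap_coeff_eq_zero (A₀ := Γ(Spec (CommRingCat.of A), ⊤))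
      (A'' := Γ(Spec (CommRingCat.of (A' i)), ⊤)) ψ hψ ?_ v hv l hl k
    · rw [← halg, hcore, map_zero]
    -- flatness at the good maximal ideals
    intro 𝔫 h𝔫 hB hA''
    haveI : 𝔫.IsPrime := h𝔫.isPrime
    obtain ⟨z', hz1, hz2, himp⟩ := hprimes 𝔫
    apply himp
    have hmaxB : (𝔫.comap (algebraMap Γ(Spec (X.presheaf.stalk x), ⊤) B')).IsMaximal := by
      have h1 : maximalIdeal Γ(Spec (X.presheaf.stalk x), ⊤) ≤
          𝔫.comap (algebraMap Γ(Spec (X.presheaf.stalk x), ⊤) B') := Ideal.map_le_iff_le_comap.mp hB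
      have h2 := (maximalIdeal.isMaximal Γ(Spec (X.presheaf.stalk x), ⊤)).eq_of_le
        (Ideal.IsPrime.ne_top inferInstance) h1
      rw [← h2]
      infer_instance
    have hmaxA : (𝔫.comap (algebraMap Γ(Spec (CommRingCat.of (A' i)), ⊤) B')).IsMaximal := by
      have h1 : maximalIdeal Γ(Spec (CommRingCat.of (A' i)), ⊤) ≤
          𝔫.comap (algebraMap Γ(Spec (CommRingCat.of (A' i)), ⊤) B') :=
        Ideal.map_le_iff_le_comap.mp hA''
      have h2 := (maximalIdeal.isMaximal Γ(Spec (CommRingCat.of (A' i)), ⊤)).eq_of_le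
        (Ideal.IsPrime.ne_top inferInstance) h1
      rw [← h2]
      infer_instance
    have hπcl : IsClosed ({pullback.fst j (g' i) z'} : Set (Spec (X.presheaf.stalk x))) := by
      rw [hz1]
      exact isClosed_fromSpec_top _ hmaxB
    have hπcp : pullback.fst j (g' i) z' = closedPoint (X.presheaf.stalk x) :=
      eq_closedPoint_of_isClosed _ hπcl
    have hx' : g' i (pullback.snd j (g' i) z') = x := map_snd_eq x z' hπcp
    have hcl : IsClosed ({(pullback.snd j (g' i) ≫ f' i) z'} :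
        Set (Spec (CommRingCat.of (A' i)))) := by
      rw [hz2]
      exact isClosed_fromSpec_top _ hmaxA
    have hcp : f' i (pullback.snd j (g' i) z') = closedPoint (A' i) :=
      eq_closedPoint_of_isClosed (R := CommRingCat.of (A' i)) _ hcl
    exact isFlatOverAt_red F x z' (hflat i _ hx' hcp)
  exact isFlatOverAt_of_flat_sections (j ≫ f) G hUSX hUX hUS hflat₀ _ trivial

end Groth.Agent.Lib.helper3.FlatArtDesc
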