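import Groth.Prelude.Def_FlatMod2
import Groth.Prelude.Def_Coh
import Mathlib
import Groth.Agent.Lib.Helper3.FlatArtDesc
import Groth.Agent.Lib.Helper3.ResMap
import Groth.Agent.Lib.Helper17.FlatOver6
import Groth.Agent.Lib.Helper17.FlatOver7

/-!
# EGA IV 11.4 for a jointly injective family of arbitrary schemes over an Artinian local base
(helper3)
-/

set_option autoImplicit false
set_option linter.style.haveILetI false
set_option linter.unusedSectionVars false
universe u
open CategoryTheory CategoryTheory.Limits AlgebraicGeometry TopologicalSpace Opposite IsLocalRing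

namespace Groth.Agent.Lib.helper3.FlatArtDesc2

open Groth.Agent.Lib.helper3.FlatArtDesc Groth.Agent.Lib.helper17.FlatOver6
  Groth.Agent.Lib.helper17.FlatOver7

/-- the composite `Spec 𝒪_{Y,y} ⟶ Y ⟶ Spec A` in terms of rings -/
theorem fromSpecStalk_comp {A : CommRingCat.{u}} {Y : Scheme.{u}} (g : Y ⟶ Spec A) (y : Y) :
    Y.fromSpecStalk y ≫ g =
      Spec.map ((Scheme.ΓSpecIso A).inv ≫ g.appTop ≫ Y.presheaf.germ ⊤ y trivial) := by
  conv_lhs => rw [ResMap.eq_toSpecΓ_comp g]
  rw [Scheme.fromSpecStalk_toSpecΓ_assoc]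
  simp only [Spec.map_comp, Category.assoc]

set_option maxHeartbeats 1600000 in
theorem isFlatOverAt_of_jointly_injective_schemes {A : Type u} [CommRing A] [IsArtinianRing A]
    [IsLocalRing A] {X : Scheme.{u}} (f : X ⟶ Spec (CommRingCat.of A)) [LocallyOfFiniteType f]
    (F : X.Modules) (hF : Coh.IsCoh F) (x : X)
    {ι : Type u} (Y : ι → Scheme.{u}) (g : ∀ i, Y i ⟶ Spec (CommRingCat.of A))
    (hg : ∀ a : A, (∀ i, (g i).appTop ((Scheme.ΓSpecIso (CommRingCat.of A)).inv a) = 0) → a = 0)
    (hflat : ∀ (i : ι) (x' : ↥(pullback f (g i))), pullback.fst f (g i) x' = x →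
      FlatMod.IsFlatOverAt (pullback.snd f (g i))
        ((Scheme.Modules.pullback (pullback.fst f (g i))).obj F) x') :
    FlatMod.IsFlatOverAt f F x := by
  haveI : F.IsQuasicoherent := hF.1
  -- the family of local rings of the `Y i`
  let u : ∀ p : (Σ i, ↥(Y i)), A →+* (Y p.1).presheaf.stalk p.2 := fun p =>
    ((Scheme.ΓSpecIso (CommRingCat.of A)).inv ≫ (g p.1).appTop ≫
      (Y p.1).presheaf.germ ⊤ p.2 trivial).hom
  have hu_eq : ∀ p : (Σ i, ↥(Y i)), Spec.map (CommRingCat.ofHom (u p)) =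
      (Y p.1).fromSpecStalk p.2 ≫ g p.1 := fun p => (fromSpecStalk_comp (g p.1) p.2).symm
  have hu : ∀ a : A, (∀ p, u p a = 0) → a = 0 := by
    intro a ha
    apply hg
    intro i
    refine TopCat.Presheaf.section_ext (Y i).sheaf ⊤ _ _ (fun y hy => ?_)
    exact (ha ⟨i, y⟩).trans (map_zero _).symm
  refine isFlatOverAt_of_jointly_injective f F hF x
    (fun p : (Σ i, ↥(Y i)) => (Y p.1).presheaf.stalk p.2) u hu
    (fun p => pullback f ((Y p.1).fromSpecStalk p.2 ≫ g p.1))
    (fun p => pullback.fst f ((Y p.1).fromSpecStalk p.2 ≫ g p.1))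
    (fun p => pullback.snd f ((Y p.1).fromSpecStalk p.2 ≫ g p.1))
    (fun p => by
      rw [hu_eq p]
      exact IsPullback.of_hasPullback f ((Y p.1).fromSpecStalk p.2 ≫ g p.1)) ?_
  rintro ⟨i, y⟩ x'' hx'' -
  -- the square over `Y i`
  have s : IsPullback (pullback.snd f ((Y i).fromSpecStalk y ≫ g i))
      (pullback.fst f ((Y i).fromSpecStalk y ≫ g i)) ((Y i).fromSpecStalk y ≫ g i) f :=
    (IsPullback.of_hasPullback f ((Y i).fromSpecStalk y ≫ g i)).flip
  have t : IsPullback (pullback.snd f (g i)) (pullback.fst f (g i)) (g i) f :=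
    (IsPullback.of_hasPullback f (g i)).flip
  have hsq := (IsPullback.of_bot' s t).flip
  set c := t.lift (pullback.snd f ((Y i).fromSpecStalk y ≫ g i) ≫ (Y i).fromSpecStalk y)
    (pullback.fst f ((Y i).fromSpecStalk y ≫ g i)) (by rw [Category.assoc, s.w]) with hc
  have hcfst : c ≫ pullback.fst f (g i) = pullback.fst f ((Y i).fromSpecStalk y ≫ g i) :=
    t.lift_snd _ _ _
  set P := (Scheme.Modules.pullback (pullback.fst f (g i))).obj F with hP
  haveI : P.IsQuasicoherent :=
    Groth.Agent.Lib.helper16.QCohPullback.isQuasicoherent_pullback _ F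
  have hpt : pullback.fst f (g i) (c x'') = x := by
    have h1 : pullback.fst f (g i) (c x'') = (c ≫ pullback.fst f (g i)) x'' := rfl
    rw [h1, hcfst]
    exact hx''
  have h1 := (isFlatOverAt_baseChange_both hsq P x'').1 (hflat i (c x'') hpt)
  let e : (Scheme.Modules.pullback c).obj P ≅
      (Scheme.Modules.pullback (pullback.fst f ((Y i).fromSpecStalk y ≫ g i))).obj F :=
    (Scheme.Modules.pullbackComp c (pullback.fst f (g i))).app F ≪≫
      (Scheme.Modules.pullbackCongr hcfst).app F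
  exact (isFlatOverAt_iff_of_iso _ e x'').mp h1

end Groth.Agent.Lib.helper3.FlatArtDesc2
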