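import Groth.Prelude.Def_FlatMod2
import Groth.Prelude.Def_Coh
import Mathlib
import Groth.Agent.Lib.Helper3.FlatArtDesc
import Groth.Agent.Lib.Helper3.FlatArtDesc2
import Groth.Agent.Lib.Helper17.FlatOver6
import Groth.Agent.Lib.Helper17.FlatOver7

/-!
# Adic descent of flatness, step 1: the Artinian quotients (helper3, EGA IV 11.4/11.5)
-/

set_option autoImplicit false
set_option linter.style.haveILetI false
set_option linter.unusedSectionVars false
universe u
open CategoryTheory CategoryTheory.Limits AlgebraicGeometry TopologicalSpace Opposite TensorProduct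
  IsLocalRing

namespace Groth.Agent.Lib.helper3.FlatAdicT1

open Groth.Agent.Lib.helper3.FlatArtDesc Groth.Agent.Lib.helper17.FlatOver6
  Groth.Agent.Lib.helper17.FlatOver7

section ring

theorem isLocalRing_quotient {R : Type*} [CommRing R] [IsLocalRing R] (𝔞 : Ideal R) (h : 𝔞 ≠ ⊤) :
    IsLocalRing (R ⧸ 𝔞) := by
  haveI : Nontrivial (R ⧸ 𝔞) := Ideal.Quotient.nontrivial_iff.mpr h
  exact IsLocalRing.of_surjective' (Ideal.Quotient.mk 𝔞) Ideal.Quotient.mk_surjective

theorem isArtinianRing_quotient {R : Type*} [CommRing R] [IsLocalRing R] [IsNoetherianRing R]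
    (𝔞 : Ideal R) [IsLocalRing (R ⧸ 𝔞)] (m : ℕ) (h : maximalIdeal R ^ m ≤ 𝔞) :
    IsArtinianRing (R ⧸ 𝔞) := by
  rw [isArtinianRing_iff_isNilpotent_maximalIdeal]
  refine ⟨m, ?_⟩
  rw [Ideal.zero_eq_bot, eq_bot_iff]
  have h1 : maximalIdeal (R ⧸ 𝔞) ≤ (maximalIdeal R).map (Ideal.Quotient.mk 𝔞) := by
    intro x hx
    obtain ⟨r, rfl⟩ := Ideal.Quotient.mk_surjective x
    refine Ideal.mem_map_of_mem _ ?_
    rw [mem_maximalIdeal, mem_nonunits_iff] at hx ⊢
    intro hr
    exact hx (hr.map _)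
  calc maximalIdeal (R ⧸ 𝔞) ^ m ≤ ((maximalIdeal R).map (Ideal.Quotient.mk 𝔞)) ^ m :=
        Ideal.pow_right_mono h1 m
    _ = (maximalIdeal R ^ m).map (Ideal.Quotient.mk 𝔞) := (Ideal.map_pow _ _ _).symm
    _ ≤ 𝔞.map (Ideal.Quotient.mk 𝔞) := Ideal.map_mono h
    _ = ⊥ := Ideal.map_quotient_self 𝔞

variable {R : Type u} [CommRing R] [IsLocalRing R] {ι : Type u} (A : ι → Type u)
  [∀ i, CommRing (A i)] [∀ i, IsLocalRing (A i)] (φ : ∀ i, R →+* A i) [∀ i, IsLocalHom (φ i)]

/-- the finite intersection of the preimages of powers of the maximal ideals -/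
def adicIdeal (s : Finset (ι × ℕ)) : Ideal R :=
  ⨅ p ∈ s, Ideal.comap (φ p.1) (maximalIdeal (A p.1) ^ p.2)

theorem pow_le_comap (i : ι) (n : ℕ) :
    maximalIdeal R ^ n ≤ Ideal.comap (φ i) (maximalIdeal (A i) ^ n) := by
  rw [← Ideal.map_le_iff_le_comap, Ideal.map_pow]
  have hloc : IsLocalHom (φ i) := inferInstance
  exact Ideal.pow_right_mono (((local_hom_TFAE (φ i)).out 0 2).mp hloc) n

theorem pow_sup_le_adicIdeal (s : Finset (ι × ℕ)) :
    maximalIdeal R ^ (s.sup Prod.snd) ≤ adicIdeal A φ s := by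
  refine le_iInf₂ fun p hp => ?_
  exact (Ideal.pow_le_pow_right (Finset.le_sup (f := Prod.snd) hp)).trans
    (pow_le_comap A φ p.1 p.2)

theorem adicIdeal_le (s : Finset (ι × ℕ)) (p : ι × ℕ) (hp : p ∈ s) :
    adicIdeal A φ s ≤ Ideal.comap (φ p.1) (maximalIdeal (A p.1) ^ p.2) :=
  iInf₂_le p hp

theorem pow_ne_top (i : ι) (n : ℕ) (hn : n ≠ 0) : maximalIdeal (A i) ^ n ≠ ⊤ := by
  intro h
  have h1 : maximalIdeal (A i) ^ n ≤ maximalIdeal (A i) := Ideal.pow_le_self hn
  rw [h] at h1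
  exact (maximalIdeal.isMaximal (A i)).ne_top (top_le_iff.mp h1)

end ring

set_option maxHeartbeats 1600000 in
/-- flatness over the Artinian quotient `𝒪_{Y,y}/𝔞` of the base change of `F`, at the points over
`x`. -/
theorem isFlatOverAt_quotient {X Y : Scheme.{u}} [IsLocallyNoetherian Y]
    (f : X ⟶ Y) [LocallyOfFiniteType f] (F : X.Modules) (hF : Coh.IsCoh F) (x : X)
    {ι : Type u} (A : ι → Type u) [∀ i, CommRing (A i)] [∀ i, IsLocalRing (A i)]
    (φ : ∀ i, (Y.presheaf.stalk (f x) : Type u) →+* A i) [∀ i, IsLocalHom (φ i)]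
    (hflat : ∀ (i : ι)
      (x' : ↥(pullback f (Spec.map (CommRingCat.ofHom (φ i)) ≫ Y.fromSpecStalk (f x)))),
      pullback.fst f (Spec.map (CommRingCat.ofHom (φ i)) ≫ Y.fromSpecStalk (f x)) x' = x →
      pullback.snd f (Spec.map (CommRingCat.ofHom (φ i)) ≫ Y.fromSpecStalk (f x)) x' =
        closedPoint (A i) →
      FlatMod.IsFlatOverAt
        (pullback.snd f (Spec.map (CommRingCat.ofHom (φ i)) ≫ Y.fromSpecStalk (f x)))
        ((Scheme.Modules.pullback
          (pullback.fst f (Spec.map (CommRingCat.ofHom (φ i)) ≫ Y.fromSpecStalk (f x)))).obj F) x')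
    (s : Finset (ι × ℕ)) (hs : adicIdeal A φ s ≠ ⊤) :
    ∀ (x₀ : ↥(pullback f (Spec.map (CommRingCat.ofHom (Ideal.Quotient.mk (adicIdeal A φ s))) ≫
      Y.fromSpecStalk (f x)))),
    pullback.fst f (Spec.map (CommRingCat.ofHom (Ideal.Quotient.mk (adicIdeal A φ s))) ≫
      Y.fromSpecStalk (f x)) x₀ = x →
    FlatMod.IsFlatOverAt
      (pullback.snd f (Spec.map (CommRingCat.ofHom (Ideal.Quotient.mk (adicIdeal A φ s))) ≫
        Y.fromSpecStalk (f x)))
      ((Scheme.Modules.pullback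
        (pullback.fst f (Spec.map (CommRingCat.ofHom (Ideal.Quotient.mk (adicIdeal A φ s))) ≫
          Y.fromSpecStalk (f x)))).obj F) x₀ := by
  haveI : F.IsQuasicoherent := hF.1
  set 𝔞 := adicIdeal A φ s with h𝔞
  haveI hloc : IsLocalRing ((Y.presheaf.stalk (f x) : Type u) ⧸ 𝔞) := isLocalRing_quotient 𝔞 hs
  haveI : IsArtinianRing ((Y.presheaf.stalk (f x) : Type u) ⧸ 𝔞) :=
    isArtinianRing_quotient 𝔞 _ (pow_sup_le_adicIdeal A φ s)
  set q := Spec.map (CommRingCat.ofHom (Ideal.Quotient.mk 𝔞)) ≫ Y.fromSpecStalk (f x) with hq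
  set F₀ := (Scheme.Modules.pullback (pullback.fst f q)).obj F with hF₀
  haveI : F₀.IsQuasicoherent :=
    Groth.Agent.Lib.helper16.QCohPullback.isQuasicoherent_pullback _ F
  have hF₀coh : Coh.IsCoh F₀ :=
    ⟨inferInstance, Groth.Agent.Lib.helper16.QCohPullback2.isFiniteType_pullback _ F hF.2⟩
  intro x₀ hx₀
  haveI : ∀ p : {p : ι × ℕ // p ∈ s ∧ p.2 ≠ 0},
      IsLocalRing (A p.1.1 ⧸ (maximalIdeal (A p.1.1) ^ p.1.2)) :=
    fun p => isLocalRing_quotient _ (pow_ne_top A p.1.1 p.1.2 p.2.2)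
  let u : ∀ p : {p : ι × ℕ // p ∈ s ∧ p.2 ≠ 0},
      ((Y.presheaf.stalk (f x) : Type u) ⧸ 𝔞) →+* A p.1.1 ⧸ (maximalIdeal (A p.1.1) ^ p.1.2) :=
    fun p => Ideal.quotientMap _ (φ p.1.1) (adicIdeal_le A φ s p.1 p.2.1)
  have hu : ∀ a : (Y.presheaf.stalk (f x) : Type u) ⧸ 𝔞, (∀ p, u p a = 0) → a = 0 := by
    intro a ha
    obtain ⟨r, rfl⟩ := Ideal.Quotient.mk_surjective a
    rw [Ideal.Quotient.eq_zero_iff_mem, h𝔞, adicIdeal, Ideal.mem_iInf]
    intro p
    rw [Ideal.mem_iInf]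
    intro hp
    by_cases hn : p.2 = 0
    · rw [hn, pow_zero, Ideal.one_eq_top, Ideal.comap_top]
      trivial
    · have := ha ⟨p, hp, hn⟩
      rw [Ideal.mem_comap]
      exact Ideal.Quotient.eq_zero_iff_mem.mp this
  have key : ∀ p : {p : ι × ℕ // p ∈ s ∧ p.2 ≠ 0}, ∃ (X' : Scheme.{u}) (g' : X' ⟶ pullback f q)
      (f' : X' ⟶ Spec (CommRingCat.of (A p.1.1 ⧸ (maximalIdeal (A p.1.1) ^ p.1.2)))),
      IsPullback g' f' (pullback.snd f q) (Spec.map (CommRingCat.ofHom (u p))) ∧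
      ∀ x' : X', g' x' = x₀ → f' x' = closedPoint _ →
        FlatMod.IsFlatOverAt f' ((Scheme.Modules.pullback g').obj F₀) x' := by
    rintro ⟨⟨i, n⟩, hp, hn⟩
    set gi := Spec.map (CommRingCat.ofHom (φ i)) ≫ Y.fromSpecStalk (f x) with hgi
    set ρ := CommRingCat.ofHom (Ideal.Quotient.mk (maximalIdeal (A i) ^ n)) with hρ
    have t : IsPullback (pullback.fst f q) (pullback.snd f q) f q := IsPullback.of_hasPullback f q
    have s₁ : IsPullback (pullback.fst (pullback.snd f gi) (Spec.map ρ))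
        (pullback.snd (pullback.snd f gi) (Spec.map ρ)) (pullback.snd f gi) (Spec.map ρ) :=
      IsPullback.of_hasPullback _ _
    have s₂ : IsPullback (pullback.fst f gi) (pullback.snd f gi) f gi :=
      IsPullback.of_hasPullback _ _
    have hpaste := s₁.paste_horiz s₂
    have hring : Spec.map (CommRingCat.ofHom (u ⟨(i, n), hp, hn⟩)) ≫ q = Spec.map ρ ≫ gi := by
      rw [hq, hgi, ← Category.assoc, ← Category.assoc, ← Spec.map_comp, ← Spec.map_comp]
      rfl
    set c := t.lift (pullback.fst (pullback.snd f gi) (Spec.map ρ) ≫ pullback.fst f gi)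
      (pullback.snd (pullback.snd f gi) (Spec.map ρ) ≫
        Spec.map (CommRingCat.ofHom (u ⟨(i, n), hp, hn⟩)))
      (by rw [Category.assoc, Category.assoc, hring, s₂.w, s₁.w_assoc]) with hc
    have hcfst : c ≫ pullback.fst f q =
        pullback.fst (pullback.snd f gi) (Spec.map ρ) ≫ pullback.fst f gi := t.lift_fst _ _ _
    have hcsnd : c ≫ pullback.snd f q = pullback.snd (pullback.snd f gi) (Spec.map ρ) ≫
        Spec.map (CommRingCat.ofHom (u ⟨(i, n), hp, hn⟩)) := t.lift_snd _ _ _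
    have hsq : IsPullback c (pullback.snd (pullback.snd f gi) (Spec.map ρ)) (pullback.snd f q)
        (Spec.map (CommRingCat.ofHom (u ⟨(i, n), hp, hn⟩))) := by
      refine IsPullback.of_right ?_ hcsnd t
      rw [hcfst, hring]
      exact hpaste
    refine ⟨_, c, pullback.snd (pullback.snd f gi) (Spec.map ρ), hsq, ?_⟩
    intro x' h1 h2
    have hpt1 : pullback.fst f gi (pullback.fst (pullback.snd f gi) (Spec.map ρ) x') = x := by
      have h3 : pullback.fst f gi (pullback.fst (pullback.snd f gi) (Spec.map ρ) x') =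
          (c ≫ pullback.fst f q) x' := by rw [hcfst]; rfl
      rw [h3]
      change pullback.fst f q (c x') = x
      rw [h1]
      exact hx₀
    haveI : Nontrivial (A i ⧸ maximalIdeal (A i) ^ n) :=
      Ideal.Quotient.nontrivial_iff.mpr (pow_ne_top A i n hn)
    haveI : IsLocalRing (A i ⧸ maximalIdeal (A i) ^ n) :=
      isLocalRing_quotient _ (pow_ne_top A i n hn)
    haveI : IsLocalHom (Ideal.Quotient.mk (maximalIdeal (A i) ^ n)) :=
      IsLocalHom.of_surjective _ Ideal.Quotient.mk_surjective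
    have hpt2 : pullback.snd f gi (pullback.fst (pullback.snd f gi) (Spec.map ρ) x') =
        closedPoint (A i) := by
      have h3 : pullback.snd f gi (pullback.fst (pullback.snd f gi) (Spec.map ρ) x') =
          (Spec.map ρ) (pullback.snd (pullback.snd f gi) (Spec.map ρ) x') :=
        congr(($(s₁.w)) x')
      rw [h3, h2]
      exact IsLocalRing.comap_closedPoint (Ideal.Quotient.mk (maximalIdeal (A i) ^ n))
    set P := (Scheme.Modules.pullback (pullback.fst f gi)).obj F with hP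
    haveI : P.IsQuasicoherent :=
      Groth.Agent.Lib.helper16.QCohPullback.isQuasicoherent_pullback _ F
    have hfl := (isFlatOverAt_baseChange_both s₁ P x').1 (hflat i _ hpt1 hpt2)
    let e : (Scheme.Modules.pullback (pullback.fst (pullback.snd f gi) (Spec.map ρ))).obj P ≅
        (Scheme.Modules.pullback c).obj F₀ :=
      (Scheme.Modules.pullbackComp (pullback.fst (pullback.snd f gi) (Spec.map ρ))
          (pullback.fst f gi)).app F ≪≫
        (Scheme.Modules.pullbackCongr hcfst.symm).app F ≪≫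
        ((Scheme.Modules.pullbackComp c (pullback.fst f q)).app F).symm
    exact (isFlatOverAt_iff_of_iso _ e x').mp hfl
  choose X' g' f' hc hfl using key
  exact isFlatOverAt_of_jointly_injective (pullback.snd f q) F₀ hF₀coh x₀ _ u hu X' g' f' hc hfl

end Groth.Agent.Lib.helper3.FlatAdicT1
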