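import Groth.Prelude.Def_FlatMod2
import Groth.Prelude.Def_Coh
import Mathlib
import Groth.Agent.Lib.Helper3.FlatRed
import Groth.Agent.Lib.Helper3.FlatChart
import Groth.Agent.Lib.Helper3.FlatFinDesc
import Groth.Agent.Lib.Helper3.FlatAdicRL
import Groth.Agent.Lib.Helper3.FlatAdicT1
import Groth.Agent.Lib.Helper16.QCohPullback2
import Groth.Agent.Lib.Helper16.CohFinite

/-!
# Adic descent of flatness along a family of local homomorphisms (helper3, EGA IV 11.5)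
-/

set_option autoImplicit false
set_option linter.style.haveILetI false
set_option linter.unusedSectionVars false
universe u
open CategoryTheory CategoryTheory.Limits AlgebraicGeometry TopologicalSpace Opposite TensorProduct
  IsLocalRing

namespace Groth.Agent.Lib.helper3.FlatAdicDesc

open Groth.Agent.Lib.helper3.FlatRed Groth.Agent.Lib.helper3.FlatChart
  Groth.Agent.Lib.helper3.FlatFinDesc Groth.Agent.Lib.helper3.FlatAdicRL
  Groth.Agent.Lib.helper3.FlatAdicT1 Groth.Agent.Lib.helper17.FlatOver1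

set_option maxHeartbeats 1600000 in
/-- chart translation: flatness of the base change of `F` to a quotient `R̄` of `𝒪_{Y,y}` at the
points over `x` gives flatness of `(A₀/I) ⊗ Γ(j^*F)` over `A₀/I` whenever `ker ≤ I`. -/
theorem flat_quotient_sections {X Y : Scheme.{u}} (f : X ⟶ Y) (F : X.Modules)
    [F.IsQuasicoherent] (x : X) (Rbar : CommRingCat.{u}) (π : Y.presheaf.stalk (f x) ⟶ Rbar)
    (hπ : Function.Surjective π.hom)
    (H : ∀ x₀ : ↥(pullback f (Spec.map π ≫ Y.fromSpecStalk (f x))),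
      pullback.fst f (Spec.map π ≫ Y.fromSpecStalk (f x)) x₀ = x →
      FlatMod.IsFlatOverAt (pullback.snd f (Spec.map π ≫ Y.fromSpecStalk (f x)))
        ((Scheme.Modules.pullback (pullback.fst f (Spec.map π ≫ Y.fromSpecStalk (f x)))).obj F) x₀)
    (I : Ideal Γ(Spec (Y.presheaf.stalk (f x)), ⊤))
    (hI : ∀ a : Γ(Spec (Y.presheaf.stalk (f x)), ⊤),
      π.hom ((Scheme.ΓSpecIso (Y.presheaf.stalk (f x))).hom.hom a) = 0 → a ∈ I) :
    letI := modSecBase (Spec.map (f.stalkMap x))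
      ((Scheme.Modules.pullback (X.fromSpecStalk x)).obj F)
      (show (⊤ : (Spec (X.presheaf.stalk x)).Opens) ≤ Spec.map (f.stalkMap x) ⁻¹ᵁ ⊤ from
        fun _ _ => trivial)
    Module.Flat (Γ(Spec (Y.presheaf.stalk (f x)), ⊤) ⧸ I)
      ((Γ(Spec (Y.presheaf.stalk (f x)), ⊤) ⧸ I) ⊗[Γ(Spec (Y.presheaf.stalk (f x)), ⊤)]
        Γ((Scheme.Modules.pullback (X.fromSpecStalk x)).obj F, ⊤)) := by
  have hj : X.fromSpecStalk x ≫ f = Spec.map (f.stalkMap x) ≫ Y.fromSpecStalk (f x) :=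
    (Scheme.SpecMap_stalkMap_fromSpecStalk (f := f) (x := x)).symm
  set q := Spec.map π ≫ Y.fromSpecStalk (f x) with hq
  have hc : IsPullback (pullback.fst f q) (pullback.snd f q) f q := IsPullback.of_hasPullback f q
  have hc₁ := isPullback_red hc x
  rw [hj] at hc₁
  have hc₂ := isPullback_of_mono (Y.fromSpecStalk (f x)) hc₁
  set σ := f.stalkMap x with hσ
  set G := (Scheme.Modules.pullback (X.fromSpecStalk x)).obj F with hG
  haveI : G.IsQuasicoherent :=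
    Groth.Agent.Lib.helper16.QCohPullback.isQuasicoherent_pullback (X.fromSpecStalk x) F
  set g' := pullback.fst f q with hg'
  set f' := pullback.snd f q with hf'
  set π' := pullback.fst (X.fromSpecStalk x) g' with hπdef
  set ρ := pullback.snd (X.fromSpecStalk x) g' with hρdef
  have hUST : (⊤ : (Spec Rbar).Opens) ≤ Spec.map π ⁻¹ᵁ ⊤ := fun _ _ => trivial
  have hUSX : (⊤ : (Spec (X.presheaf.stalk x)).Opens) ≤ Spec.map σ ⁻¹ᵁ ⊤ := fun _ _ => trivial
  have hUS := isAffineOpen_top (Spec (Y.presheaf.stalk (f x)))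
  have hUT := isAffineOpen_top (Spec Rbar)
  have hUX := isAffineOpen_top (Spec (X.presheaf.stalk x))
  letI algAB : Algebra Γ(Spec (Y.presheaf.stalk (f x)), ⊤) Γ(Spec (X.presheaf.stalk x), ⊤) :=
    ((Spec.map σ).appLE ⊤ ⊤ hUSX).hom.toAlgebra
  letI algAA' : Algebra Γ(Spec (Y.presheaf.stalk (f x)), ⊤) Γ(Spec Rbar, ⊤) :=
    ((Spec.map π).appLE ⊤ ⊤ hUST).hom.toAlgebra
  obtain ⟨B', _, _, _, _, _, _, _, M', _, _, _, _, _, _, ψ, hψ, hprimes⟩ :=
    exists_chart_data hc₂ G hUS hUT hUX hUST hUSX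
  letI mA₀M₁ : Module Γ(Spec (Y.presheaf.stalk (f x)), ⊤) Γ(G, ⊤) :=
    modSecBase (Spec.map σ) G hUSX
  haveI : IsScalarTower Γ(Spec (Y.presheaf.stalk (f x)), ⊤) Γ(Spec (X.presheaf.stalk x), ⊤)
      Γ(G, ⊤) := isScalarTower_sections (Spec.map σ) G hUSX
  have halg : algebraMap Γ(Spec (Y.presheaf.stalk (f x)), ⊤) Γ(Spec Rbar, ⊤) =
      ((Scheme.ΓSpecIso Rbar).inv.hom.comp π.hom).comp
        (Scheme.ΓSpecIso (Y.presheaf.stalk (f x))).hom.hom := by
    change ((Spec.map π).appLE ⊤ ⊤ hUST).hom = _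
    rw [appLE_top_eq]
    rfl
  have hsurj : Function.Surjective
      (algebraMap Γ(Spec (Y.presheaf.stalk (f x)), ⊤) Γ(Spec Rbar, ⊤)) := by
    rw [halg]
    exact ((ConcreteCategory.bijective_of_isIso (Scheme.ΓSpecIso Rbar).inv).2.comp hπ).comp
      (ConcreteCategory.bijective_of_isIso (Scheme.ΓSpecIso _).hom).2
  have hker : ∀ a : Γ(Spec (Y.presheaf.stalk (f x)), ⊤),
      algebraMap Γ(Spec (Y.presheaf.stalk (f x)), ⊤) Γ(Spec Rbar, ⊤) a = 0 → a ∈ I := by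
    intro a ha
    apply hI
    rw [halg] at ha
    apply (ConcreteCategory.bijective_of_isIso (Scheme.ΓSpecIso Rbar).inv).1
    rw [map_zero]
    exact ha
  haveI hpo' : Algebra.IsPushout Γ(Spec (Y.presheaf.stalk (f x)), ⊤) Γ(Spec Rbar, ⊤)
      Γ(Spec (X.presheaf.stalk x), ⊤) B' := Algebra.IsPushout.symm inferInstance
  haveI : Algebra.IsIntegral Γ(Spec (Y.presheaf.stalk (f x)), ⊤) Γ(Spec Rbar, ⊤) :=
    Algebra.isIntegral_of_surjective hsurj
  haveI : Algebra.IsIntegral Γ(Spec (X.presheaf.stalk x), ⊤) B' :=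
    Algebra.IsPushout.isIntegral Γ(Spec (Y.presheaf.stalk (f x)), ⊤)
      Γ(Spec (X.presheaf.stalk x), ⊤) Γ(Spec Rbar, ⊤) B'
  haveI hflatT : Module.Flat Γ(Spec Rbar, ⊤) M' := by
    refine Module.flat_of_isLocalized_maximal (R := Γ(Spec Rbar, ⊤)) B' M'
      (fun P _ => LocalizedModule P.primeCompl M')
      (fun P _ => LocalizedModule.mkLinearMap P.primeCompl M') (fun 𝔫 h𝔫 => ?_)
    haveI : 𝔫.IsPrime := h𝔫.isPrime
    obtain ⟨z', hz1, hz2, himp⟩ := hprimes 𝔫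
    apply himp
    have hmaxB : (𝔫.comap (algebraMap Γ(Spec (X.presheaf.stalk x), ⊤) B')).IsMaximal :=
      Ideal.isMaximal_comap_of_isIntegral_of_isMaximal 𝔫
    have hπcl : IsClosed ({π' z'} : Set (Spec (X.presheaf.stalk x))) := by
      rw [hz1]
      exact isClosed_fromSpec_top _ hmaxB
    have hπcp : π' z' = IsLocalRing.closedPoint (X.presheaf.stalk x) :=
      eq_closedPoint_of_isClosed _ hπcl
    have hx' : g' (ρ z') = x := map_snd_eq x z' hπcp
    exact isFlatOverAt_red F x z' (H (ρ z') hx')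
  haveI : Module.Flat Γ(Spec Rbar, ⊤) (B' ⊗[Γ(Spec (X.presheaf.stalk x), ⊤)] Γ(G, ⊤)) :=
    Module.Flat.of_linearEquiv (hψ.equiv.restrictScalars Γ(Spec Rbar, ⊤))
  haveI : Module.Flat Γ(Spec Rbar, ⊤)
      (Γ(Spec Rbar, ⊤) ⊗[Γ(Spec (Y.presheaf.stalk (f x)), ⊤)] Γ(G, ⊤)) :=
    Module.Flat.of_linearEquiv (Algebra.IsPushout.cancelBaseChange
      Γ(Spec (Y.presheaf.stalk (f x)), ⊤) Γ(Spec Rbar, ⊤) Γ(Spec (X.presheaf.stalk x), ⊤) B'
      Γ(G, ⊤)).symm
  exact flat_quotient_tensor_of_surjective (T := Γ(Spec Rbar, ⊤)) I hsurj hker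

set_option maxHeartbeats 1600000 in
/-- **EGA IV 11.5 (adic family of local homomorphisms).** -/
theorem isFlatOverAt_of_adic_family {X Y : Scheme.{u}} [IsLocallyNoetherian Y]
    (f : X ⟶ Y) [LocallyOfFiniteType f] (F : X.Modules) (hF : Coh.IsCoh F) (x : X)
    {ι : Type u} (A : ι → Type u) [∀ i, CommRing (A i)] [∀ i, IsLocalRing (A i)]
    (φ : ∀ i, (Y.presheaf.stalk (f x) : Type u) →+* A i) [∀ i, IsLocalHom (φ i)]
    (htop : ∀ N : ℕ, ∃ s : Finset (ι × ℕ),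
      ⨅ p ∈ s, Ideal.comap (φ p.1) (IsLocalRing.maximalIdeal (A p.1) ^ p.2) ≤
        IsLocalRing.maximalIdeal ↑(Y.presheaf.stalk (f x)) ^ N)
    (hflat : ∀ (i : ι)
      (x' : ↥(pullback f (Spec.map (CommRingCat.ofHom (φ i)) ≫ Y.fromSpecStalk (f x)))),
      pullback.fst f (Spec.map (CommRingCat.ofHom (φ i)) ≫ Y.fromSpecStalk (f x)) x' = x →
      pullback.snd f (Spec.map (CommRingCat.ofHom (φ i)) ≫ Y.fromSpecStalk (f x)) x' =
        closedPoint (A i) →
      FlatMod.IsFlatOverAt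
        (pullback.snd f (Spec.map (CommRingCat.ofHom (φ i)) ≫ Y.fromSpecStalk (f x)))
        ((Scheme.Modules.pullback
          (pullback.fst f (Spec.map (CommRingCat.ofHom (φ i)) ≫ Y.fromSpecStalk (f x)))).obj F)
        x') :
    FlatMod.IsFlatOverAt f F x := by
  haveI : F.IsQuasicoherent := hF.1
  haveI : IsLocallyNoetherian X := LocallyOfFiniteType.isLocallyNoetherian f
  apply isFlatOverAt_of_fromSpecStalk
  have hj : X.fromSpecStalk x ≫ f = Spec.map (f.stalkMap x) ≫ Y.fromSpecStalk (f x) :=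
    (Scheme.SpecMap_stalkMap_fromSpecStalk (f := f) (x := x)).symm
  rw [hj]
  apply isFlatOverAt_comp_fromSpecStalk
  set σ := f.stalkMap x with hσ
  set G := (Scheme.Modules.pullback (X.fromSpecStalk x)).obj F with hG
  haveI : G.IsQuasicoherent :=
    Groth.Agent.Lib.helper16.QCohPullback.isQuasicoherent_pullback (X.fromSpecStalk x) F
  have hGcoh : Coh.IsCoh G :=
    ⟨inferInstance,
      Groth.Agent.Lib.helper16.QCohPullback2.isFiniteType_pullback (X.fromSpecStalk x) F hF.2⟩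
  have hUSX : (⊤ : (Spec (X.presheaf.stalk x)).Opens) ≤ Spec.map σ ⁻¹ᵁ ⊤ := fun _ _ => trivial
  have hUS := isAffineOpen_top (Spec (Y.presheaf.stalk (f x)))
  have hUX := isAffineOpen_top (Spec (X.presheaf.stalk x))
  letI algAB : Algebra Γ(Spec (Y.presheaf.stalk (f x)), ⊤) Γ(Spec (X.presheaf.stalk x), ⊤) :=
    ((Spec.map σ).appLE ⊤ ⊤ hUSX).hom.toAlgebra
  letI mA₀M₁ : Module Γ(Spec (Y.presheaf.stalk (f x)), ⊤) Γ(G, ⊤) :=
    modSecBase (Spec.map σ) G hUSX
  haveI : IsScalarTower Γ(Spec (Y.presheaf.stalk (f x)), ⊤) Γ(Spec (X.presheaf.stalk x), ⊤)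
      Γ(G, ⊤) := isScalarTower_sections (Spec.map σ) G hUSX
  let eA : Γ(Spec (Y.presheaf.stalk (f x)), ⊤) ≃+* Y.presheaf.stalk (f x) :=
    (Scheme.ΓSpecIso (Y.presheaf.stalk (f x))).commRingCatIsoToRingEquiv
  let eB : Γ(Spec (X.presheaf.stalk x), ⊤) ≃+* X.presheaf.stalk x :=
    (Scheme.ΓSpecIso (X.presheaf.stalk x)).commRingCatIsoToRingEquiv
  haveI : IsLocalRing Γ(Spec (Y.presheaf.stalk (f x)), ⊤) := eA.symm.isLocalRing
  haveI : IsNoetherianRing Γ(Spec (Y.presheaf.stalk (f x)), ⊤) :=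
    isNoetherianRing_of_ringEquiv _ eA.symm
  haveI : IsLocalRing Γ(Spec (X.presheaf.stalk x), ⊤) := eB.symm.isLocalRing
  haveI : IsNoetherianRing Γ(Spec (X.presheaf.stalk x), ⊤) :=
    isNoetherianRing_of_ringEquiv _ eB.symm
  haveI : Module.Finite Γ(Spec (X.presheaf.stalk x), ⊤) Γ(G, ⊤) :=
    Groth.Agent.Lib.helper16.CohFinite.finite_sections_of_isCoh G hGcoh hUX
  haveI : IsLocalHom (algebraMap Γ(Spec (Y.presheaf.stalk (f x)), ⊤)
      Γ(Spec (X.presheaf.stalk x), ⊤)) := by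
    change IsLocalHom ((Spec.map σ).appLE ⊤ ⊤ hUSX).hom
    rw [appLE_top_eq]
    infer_instance
  refine isFlatOverAt_of_flat_sections (Spec.map σ) G hUSX hUX hUS ?_ _ trivial
  refine flat_of_forall_flat_quotient_pow_local (B₀ := Γ(Spec (X.presheaf.stalk x), ⊤))
    fun N hN => ?_
  obtain ⟨s, hs⟩ := htop N
  have hs' : adicIdeal A φ s ≤ maximalIdeal ↑(Y.presheaf.stalk (f x)) ^ N := hs
  have hne : adicIdeal A φ s ≠ ⊤ := by
    intro h
    rw [h] at hs'
    have h1 : maximalIdeal ↑(Y.presheaf.stalk (f x)) ^ N ≤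
        maximalIdeal ↑(Y.presheaf.stalk (f x)) := Ideal.pow_le_self hN.ne'
    exact (maximalIdeal.isMaximal _).ne_top (top_le_iff.mp (hs'.trans h1))
  refine flat_quotient_sections f F x _
    (CommRingCat.ofHom (Ideal.Quotient.mk (adicIdeal A φ s))) Ideal.Quotient.mk_surjective
    (isFlatOverAt_quotient f F hF x A φ hflat s hne) _ ?_
  intro a ha
  have h1 : eA a ∈ adicIdeal A φ s := Ideal.Quotient.eq_zero_iff_mem.mp ha
  have h2 : eA a ∈ maximalIdeal ↑(Y.presheaf.stalk (f x)) ^ N := hs' h1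
  have h3 : eA.symm (eA a) ∈ (maximalIdeal ↑(Y.presheaf.stalk (f x)) ^ N).map
      (eA.symm : ↑(Y.presheaf.stalk (f x)) →+* Γ(Spec (Y.presheaf.stalk (f x)), ⊤)) :=
    Ideal.mem_map_of_mem _ h2
  rw [RingEquiv.symm_apply_apply, Ideal.map_pow] at h3
  refine Ideal.pow_right_mono ?_ N h3
  have hloc : IsLocalHom (eA.symm : ↑(Y.presheaf.stalk (f x)) →+*
      Γ(Spec (Y.presheaf.stalk (f x)), ⊤)) := inferInstance
  exact ((local_hom_TFAE (eA.symm : ↑(Y.presheaf.stalk (f x)) →+*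
    Γ(Spec (Y.presheaf.stalk (f x)), ⊤))).out 0 2).mp hloc

end Groth.Agent.Lib.helper3.FlatAdicDesc
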