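import Mathlib
import Groth.Prelude.Def_FlatCA
import Groth.Agent.S6918
/-!
# Flatness of base changes `B ⊗[R] L` and pointwise base change of `FlatCA.FlatAt` (helper3)

* `flat_baseChange_iff` : `B ⊗[R] L` is `B`-flat iff `L ⊗[R] -` preserves injectivity of
  `B`-linear maps.
* `flat_baseChange_localizedModule` : if `B ⊗[R] M` is `B`-flat then so is `B ⊗[R] T⁻¹M`.
* `flatAt_of_flat_tensor_localizedModule` : pointwise base change: for a pushout `S' = S ⊗_R R'`,
  base change `M' = S' ⊗_S M`, prime `q'` of `S'` with contraction `q`: if `R' ⊗[R] M_q` is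
  `R'`-flat then `M'` is `R'`-flat at `q'`.
* `flatAt_baseChange` : `FlatAt R q M → FlatAt R' q' M'`.
* `flat_of_forall_flatAt` : flat at all maximal ideals of `S` implies flat.
-/

set_option autoImplicit false
set_option linter.style.haveILetI false
set_option linter.unusedSectionVars false
universe u

open TensorProduct

namespace Groth.Agent.Lib.helper3.FlatBC

section Iff

variable {R B : Type u} [CommRing R] [CommRing B] [Algebra R B]
  (L : Type u) [AddCommGroup L] [Module R L]

theorem natural {P Q : Type u} [AddCommGroup P] [AddCommGroup Q] [Module B P]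
    [Module B Q] [Module R P] [Module R Q] [IsScalarTower R B P] [IsScalarTower R B Q]
    (u : P →ₗ[B] Q) (x : P ⊗[B] (B ⊗[R] L)) :
    (TensorProduct.comm R Q L)
      (AlgebraTensorModule.cancelBaseChange R B B Q L (u.rTensor (B ⊗[R] L) x)) =
    (u.restrictScalars R).lTensor L ((TensorProduct.comm R P L)
      (AlgebraTensorModule.cancelBaseChange R B B P L x)) := by
  induction x using TensorProduct.induction_on with
  | zero => simp
  | add a b ha hb => simp only [map_add, ha, hb]
  | tmul p y =>
    induction y using TensorProduct.induction_on with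
    | zero => simp
    | add a b ha hb => simp only [TensorProduct.tmul_add, map_add, ha, hb]
    | tmul b l => simp

theorem injective_iff {P Q : Type u} [AddCommGroup P] [AddCommGroup Q] [Module B P]
    [Module B Q] [Module R P] [Module R Q] [IsScalarTower R B P] [IsScalarTower R B Q]
    (u : P →ₗ[B] Q) :
    Function.Injective ((u.restrictScalars R).lTensor L) ↔
      Function.Injective (u.rTensor (B ⊗[R] L)) := by
  constructor
  · intro h x y hxy
    have h1 := congrArg (fun z => (TensorProduct.comm R Q L)
      (AlgebraTensorModule.cancelBaseChange R B B Q L z)) hxy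
    simp only [natural] at h1
    exact (AlgebraTensorModule.cancelBaseChange R B B P L).injective
      ((TensorProduct.comm R P L).injective (h h1))
  · intro h x y hxy
    obtain ⟨x', rfl⟩ := (TensorProduct.comm R P L).surjective x
    obtain ⟨y', rfl⟩ := (TensorProduct.comm R P L).surjective y
    obtain ⟨x'', rfl⟩ := (AlgebraTensorModule.cancelBaseChange R B B P L).surjective x'
    obtain ⟨y'', rfl⟩ := (AlgebraTensorModule.cancelBaseChange R B B P L).surjective y'
    rw [← natural, ← natural] at hxy
    have h2 := (AlgebraTensorModule.cancelBaseChange R B B Q L).injective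
      ((TensorProduct.comm R Q L).injective hxy)
    rw [h h2]

theorem flat_baseChange_iff :
    Module.Flat B (B ⊗[R] L) ↔ ∀ (P Q : Type u) [AddCommGroup P] [AddCommGroup Q] [Module B P]
      [Module B Q] [Module R P] [Module R Q] [IsScalarTower R B P] [IsScalarTower R B Q]
      (u : P →ₗ[B] Q), Function.Injective u →
      Function.Injective ((u.restrictScalars R).lTensor L) := by
  rw [Module.Flat.iff_rTensor_preserves_injective_linearMap]
  constructor
  · intro h P Q _ _ _ _ _ _ _ _ u hu
    exact (injective_iff L u).mpr (h u hu)
  · intro h N N' _ _ _ _ f hf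
    letI : Module R N := Module.compHom N (algebraMap R B)
    letI : Module R N' := Module.compHom N' (algebraMap R B)
    haveI : IsScalarTower R B N := IsScalarTower.of_algebraMap_smul fun r x => rfl
    haveI : IsScalarTower R B N' := IsScalarTower.of_algebraMap_smul fun r x => rfl
    exact (injective_iff L f).mp (h N N' f hf)

end Iff

section Loc

variable {R S B : Type u} [CommRing R] [CommRing S] [CommRing B] [Algebra R S] [Algebra R B]
  (M : Type u) [AddCommGroup M] [Module S M] [Module R M] [IsScalarTower R S M]
  (T : Submonoid S)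

theorem flat_baseChange_localizedModule (h : Module.Flat B (B ⊗[R] M)) :
    Module.Flat B (B ⊗[R] LocalizedModule T M) := by
  rw [flat_baseChange_iff] at h ⊢
  intro P Q _ _ _ _ _ _ _ _ u hu
  have h0 := h P Q u hu
  let g := LocalizedModule.mkLinearMap T M
  have h1 := IsLocalizedModule.map_lTensor (R := R) S T (u.restrictScalars R) g
  have h2 : Function.Injective ((u.restrictScalars R).lTensor (LocalizedModule T M)) ↔
      Function.Injective (AlgebraTensorModule.lTensor S (LocalizedModule T M)
        (u.restrictScalars R)) := Iff.rfl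
  rw [h2, ← h1]
  exact IsLocalizedModule.map_injective T _ _ _ h0

end Loc

section BC

variable {R S R' S' : Type u} [CommRing R] [CommRing S] [CommRing R'] [CommRing S']
  [Algebra R S] [Algebra R R'] [Algebra S S'] [Algebra R' S'] [Algebra R S'] [IsScalarTower R S S']
  [IsScalarTower R R' S'] [Algebra.IsPushout R S R' S']
  {M M' : Type u} [AddCommGroup M] [Module S M] [Module R M] [IsScalarTower R S M]
  [AddCommGroup M'] [Module S' M'] [Module R' M'] [IsScalarTower R' S' M'] [Module S M']
  [IsScalarTower S S' M']

/-- pointwise base change, from flatness of `R' ⊗[R] M_q` (after `Groth.Agent.S6918.result'`). -/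
theorem flatAt_of_flat_tensor_localizedModule (f : M →ₗ[S] M') (hf : IsBaseChange S' f)
    (q' : Ideal S') [q'.IsPrime] (q : Ideal S) [q.IsPrime] (hq : q = q'.comap (algebraMap S S'))
    (hflat : Module.Flat R' (R' ⊗[R] LocalizedModule q.primeCompl M)) :
    FlatCA.FlatAt R' q' M' := by
  subst hq
  set q : Ideal S := q'.comap (algebraMap S S') with hq
  haveI := Groth.Agent.S6918.isScalarTower_localizedModule (R := R) (M := M) q.primeCompl
  haveI : Algebra.IsPushout R R' S S' := Algebra.IsPushout.symm inferInstance
  haveI hL0 : Module.Flat R' (S' ⊗[S] (LocalizedModule q.primeCompl M)) :=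
    Module.Flat.of_linearEquiv
      (Algebra.IsPushout.cancelBaseChange R R' S S' (LocalizedModule q.primeCompl M))
  let g := LocalizedModule.mkLinearMap q'.primeCompl M'
  let mkq := LocalizedModule.mkLinearMap q.primeCompl M
  let g0 : M' →ₗ[S'] S' ⊗[S] (LocalizedModule q.primeCompl M) :=
    (LinearMap.baseChange S' mkq) ∘ₗ hf.equiv.symm.toLinearMap
  have hunits : ∀ x : q.primeCompl, IsUnit (algebraMap S (Module.End S
      (LocalizedModule q'.primeCompl M')) x) := by
    intro x
    rw [Module.End.isUnit_iff]
    have hx' : algebraMap S S' x ∈ q'.primeCompl := x.2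
    have h1 := (Module.End.isUnit_iff _).1 (IsLocalizedModule.map_units g ⟨_, hx'⟩)
    convert h1 using 1
    ext z
    simp only [Module.algebraMap_end_apply]
    rw [algebraMap_smul]
  let φ : LocalizedModule q.primeCompl M →ₗ[S] LocalizedModule q'.primeCompl M' :=
    IsLocalizedModule.lift q.primeCompl mkq ((g.restrictScalars S) ∘ₗ f) hunits
  let ψ : S' ⊗[S] (LocalizedModule q.primeCompl M) →ₗ[S'] LocalizedModule q'.primeCompl M' :=
    LinearMap.liftBaseChange S' φ
  have hψ : ∀ m', ψ (g0 m') = g m' := by
    have : ψ ∘ₗ g0 = g := by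
      apply hf.algHom_ext
      intro m
      show ψ (LinearMap.baseChange S' mkq (hf.equiv.symm (f m))) = g (f m)
      rw [hf.equiv_symm_apply, LinearMap.baseChange_tmul, LinearMap.liftBaseChange_tmul, one_smul]
      exact IsLocalizedModule.lift_apply q.primeCompl mkq _ hunits m
    intro m'
    exact LinearMap.congr_fun this m'
  exact Groth.Agent.S6918.flat_of_factor (A := R') (B := S') q'.primeCompl g g0 ψ hψ

theorem flatAt_baseChange (f : M →ₗ[S] M') (hf : IsBaseChange S' f)
    (q' : Ideal S') [q'.IsPrime] (q : Ideal S) [q.IsPrime] (hq : q = q'.comap (algebraMap S S'))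
    (h : FlatCA.FlatAt R q M) : FlatCA.FlatAt R' q' M' := by
  haveI : Module.Flat R (LocalizedModule q.primeCompl M) := h
  exact flatAt_of_flat_tensor_localizedModule (R := R) f hf q' q hq inferInstance

end BC

section Glob

variable {R S : Type u} [CommRing R] [CommRing S] [Algebra R S]
  (N : Type u) [AddCommGroup N] [Module S N] [Module R N] [IsScalarTower R S N]

theorem flat_of_forall_flatAt (h : ∀ (P : Ideal S) [P.IsMaximal], FlatCA.FlatAt R P N) :
    Module.Flat R N := by
  haveI : ∀ (P : Ideal S) [P.IsMaximal], IsScalarTower R S (LocalizedModule P.primeCompl N) :=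
    fun P _ => Groth.Agent.S6918.isScalarTower_localizedModule (R := R) (M := N) P.primeCompl
  exact Module.flat_of_isLocalized_maximal S N
    (fun P _ => LocalizedModule P.primeCompl N)
    (fun P _ => LocalizedModule.mkLinearMap P.primeCompl N) (fun P _ => h P)

end Glob

end Groth.Agent.Lib.helper3.FlatBC
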