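import Mathlib
import Groth.Prelude.Def_FlatCA
import Groth.Agent.S6918
import Groth.Agent.S4852
import Groth.Agent.Lib.Helper3.FlatBC1
/-!
# Flattening ideals over local rings: universality against local homomorphisms (helper3)

Setting: `R → S`, `M` an `S`-module, `R → R'`, `S' = S ⊗_R R'`, `M' = S' ⊗_S M`.

* `flat_quotient_baseChange` : if `M'` is `R'`-flat at all primes containing `𝔫S'` then
  `M' ⊗ R'/𝔫` is flat over `A' = R'/𝔫` (any model).
* `flat_tensor_of_flat_baseChange` : identification with `A' ⊗[R] M`.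
* `flat_quotient_tensor_localizedModule` : local rings, local hom: if `M'` is flat at all primes
  over `𝔪'` then `(R/J) ⊗[R] M_q` is `R/J`-flat for `J = φ⁻¹(𝔪'ⁿ)`, `n ≠ 0`.
* `flatAt_of_le_ker` : if `(R/I) ⊗[R] M_q` is `R/I`-flat and `φ(I) = 0` then `M'` is flat at `q'`.
-/

set_option autoImplicit false
set_option linter.style.haveILetI false
set_option linter.unusedSectionVars false
universe u

open TensorProduct IsLocalRing

namespace Groth.Agent.Lib.helper3.FlatBC

section A

variable {R' S' A' S'' : Type u} [CommRing R'] [CommRing S'] [CommRing A'] [CommRing S'']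
  [Algebra R' S'] [Algebra R' A'] [Algebra S' S''] [Algebra A' S''] [Algebra R' S'']
  [IsScalarTower R' S' S''] [IsScalarTower R' A' S''] [Algebra.IsPushout R' S' A' S'']
  {M' Y'' : Type u} [AddCommGroup M'] [Module S' M'] [Module R' M'] [IsScalarTower R' S' M']
  [AddCommGroup Y''] [Module S'' Y''] [Module A' Y''] [IsScalarTower A' S'' Y''] [Module S' Y'']
  [IsScalarTower S' S'' Y'']

theorem flat_quotient_baseChange (𝔫 : Ideal R') (h𝔫 : 𝔫.map (algebraMap R' A') = ⊥)
    (f : M' →ₗ[S'] Y'') (hf : IsBaseChange S'' f)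
    (h : ∀ (q' : Ideal S') [q'.IsPrime], 𝔫.map (algebraMap R' S') ≤ q' → FlatCA.FlatAt R' q' M') :
    Module.Flat A' Y'' := by
  apply flat_of_forall_flatAt (S := S'')
  intro P _
  haveI : P.IsPrime := Ideal.IsMaximal.isPrime ‹_›
  exact Groth.Agent.S6918.result 𝔫 (⊥ : Ideal A') (by rw [h𝔫]) f hf (⊥ : Ideal S')
    (fun q' _ hq' => h q' (le_trans le_sup_left hq')) P (by simp)

end A

section C

variable {R S R' S' A' S'' : Type u} [CommRing R] [CommRing S] [CommRing R'] [CommRing S']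
  [CommRing A'] [CommRing S'']
  [Algebra R S] [Algebra R R'] [Algebra S S'] [Algebra R' S'] [Algebra R S'] [IsScalarTower R S S']
  [IsScalarTower R R' S'] [Algebra.IsPushout R S R' S']
  [Algebra R' A'] [Algebra S' S''] [Algebra A' S''] [Algebra R' S'']
  [IsScalarTower R' S' S''] [IsScalarTower R' A' S''] [Algebra.IsPushout R' S' A' S'']
  [Algebra R A'] [IsScalarTower R R' A']
  {M M' : Type u} [AddCommGroup M] [Module S M] [Module R M] [IsScalarTower R S M]
  [AddCommGroup M'] [Module S' M'] [Module R' M'] [IsScalarTower R' S' M'] [Module S M']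
  [IsScalarTower S S' M']

include R' in
theorem flat_tensor_of_flat_baseChange (f : M →ₗ[S] M') (hf : IsBaseChange S' f)
    (h : Module.Flat A' (S'' ⊗[S'] M')) : Module.Flat A' (A' ⊗[R] M) := by
  haveI : Algebra.IsPushout R R' S S' := Algebra.IsPushout.symm inferInstance
  haveI : Algebra.IsPushout R' A' S' S'' := Algebra.IsPushout.symm inferInstance
  let e1 : S'' ⊗[S'] M' ≃ₗ[A'] A' ⊗[R'] M' := Algebra.IsPushout.cancelBaseChange R' A' S' S'' M'
  let e : M' ≃ₗ[R'] R' ⊗[R] M :=
    (hf.equiv.symm.restrictScalars R') ≪≫ₗ (Algebra.IsPushout.cancelBaseChange R R' S S' M)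
  let e2 : A' ⊗[R'] M' ≃ₗ[A'] A' ⊗[R'] (R' ⊗[R] M) :=
    AlgebraTensorModule.congr (LinearEquiv.refl A' A') e
  let e3 : A' ⊗[R'] (R' ⊗[R] M) ≃ₗ[A'] A' ⊗[R] M :=
    AlgebraTensorModule.cancelBaseChange R R' A' A' M
  exact Module.Flat.of_linearEquiv (e1 ≪≫ₗ e2 ≪≫ₗ e3).symm

end C

section Main

variable {R S R' S' : Type u} [CommRing R] [CommRing S] [CommRing R'] [CommRing S']
  [Algebra R S] [Algebra R R'] [Algebra S S'] [Algebra R' S'] [Algebra R S'] [IsScalarTower R S S']
  [IsScalarTower R R' S'] [Algebra.IsPushout R S R' S']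
  {M M' : Type u} [AddCommGroup M] [Module S M] [Module R M] [IsScalarTower R S M]
  [AddCommGroup M'] [Module S' M'] [Module R' M'] [IsScalarTower R' S' M'] [Module S M']
  [IsScalarTower S S' M']

attribute [local instance] Algebra.TensorProduct.rightAlgebra in
theorem flat_quotient_tensor {A' : Type u} [CommRing A'] [Algebra R' A'] [Algebra R A']
    [IsScalarTower R R' A'] (f : M →ₗ[S] M') (hf : IsBaseChange S' f) (𝔫 : Ideal R')
    (h𝔫 : 𝔫.map (algebraMap R' A') = ⊥)
    (h : ∀ (q' : Ideal S') [q'.IsPrime], 𝔫.map (algebraMap R' S') ≤ q' → FlatCA.FlatAt R' q' M') :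
    Module.Flat A' (A' ⊗[R] M) := by
  have h1 : Module.Flat A' ((A' ⊗[R'] S') ⊗[S'] M') :=
    flat_quotient_baseChange (R' := R') (S' := S') (A' := A') (S'' := A' ⊗[R'] S') 𝔫 h𝔫
      (TensorProduct.mk S' (A' ⊗[R'] S') M' 1)
      (TensorProduct.isBaseChange S' M' (A' ⊗[R'] S')) h
  exact flat_tensor_of_flat_baseChange (R' := R') (A' := A') (S'' := A' ⊗[R'] S') f hf h1

variable [IsLocalRing R] [IsLocalRing R'] [IsLocalHom (algebraMap R R')]

theorem flat_quotient_tensor_localizedModule (f : M →ₗ[S] M') (hf : IsBaseChange S' f)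
    (h : ∀ (q' : Ideal S') [q'.IsPrime], q'.comap (algebraMap R' S') = maximalIdeal R' →
      FlatCA.FlatAt R' q' M')
    (n : ℕ) (T : Submonoid S) :
    Module.Flat (R ⧸ (maximalIdeal R' ^ n).comap (algebraMap R R'))
      ((R ⧸ (maximalIdeal R' ^ n).comap (algebraMap R R')) ⊗[R] LocalizedModule T M) := by
  set J : Ideal R := (maximalIdeal R' ^ n).comap (algebraMap R R') with hJ
  by_cases htop : J = ⊤
  · haveI : Subsingleton (R ⧸ J) := by
      rw [htop]; exact Ideal.Quotient.subsingleton_iff.mpr rfl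
    haveI : Subsingleton ((R ⧸ J) ⊗[R] LocalizedModule T M) := by
      refine ⟨fun x y => ?_⟩
      rw [← one_smul (R ⧸ J) x, ← one_smul (R ⧸ J) y, Subsingleton.elim (1 : R ⧸ J) 0,
        zero_smul, zero_smul]
    infer_instance
  -- flatness of `A' ⊗[R] M`
  have h' : ∀ (q' : Ideal S') [q'.IsPrime],
      (maximalIdeal R' ^ n).map (algebraMap R' S') ≤ q' → FlatCA.FlatAt R' q' M' := by
    intro q' _ hq'
    apply h q'
    have hle : maximalIdeal R' ^ n ≤ q'.comap (algebraMap R' S') := by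
      rw [← Ideal.map_le_iff_le_comap]; exact hq'
    have hle' : maximalIdeal R' ≤ q'.comap (algebraMap R' S') := Ideal.IsPrime.le_of_pow_le hle
    exact ((maximalIdeal.isMaximal R').eq_of_le (Ideal.IsPrime.ne_top inferInstance) hle').symm
  have hA'M : Module.Flat (R' ⧸ maximalIdeal R' ^ n) ((R' ⧸ maximalIdeal R' ^ n) ⊗[R] M) :=
    flat_quotient_tensor f hf (maximalIdeal R' ^ n)
      (by rw [Ideal.Quotient.algebraMap_eq, Ideal.map_quotient_self]) h'
  have hA'L : Module.Flat (R' ⧸ maximalIdeal R' ^ n)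
      ((R' ⧸ maximalIdeal R' ^ n) ⊗[R] LocalizedModule T M) :=
    flat_baseChange_localizedModule M T hA'M
  -- the injective map `A → A'`
  letI algAA' : Algebra (R ⧸ J) (R' ⧸ maximalIdeal R' ^ n) :=
    (Ideal.quotientMap (maximalIdeal R' ^ n) (algebraMap R R') le_rfl).toAlgebra
  haveI : IsScalarTower R (R ⧸ J) (R' ⧸ maximalIdeal R' ^ n) :=
    IsScalarTower.of_algebraMap_eq (fun x => rfl)
  have hinj : Function.Injective (algebraMap (R ⧸ J) (R' ⧸ maximalIdeal R' ^ n)) :=
    Ideal.quotientMap_injective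
  haveI : Nontrivial (R ⧸ J) := Ideal.Quotient.nontrivial_iff.mpr htop
  haveI : IsLocalRing (R ⧸ J) :=
    IsLocalRing.of_surjective' (Ideal.Quotient.mk J) Ideal.Quotient.mk_surjective
  have hpow : maximalIdeal R ^ n ≤ J := by
    rw [hJ, ← Ideal.map_le_iff_le_comap, Ideal.map_pow]
    apply Ideal.pow_right_mono
    rw [Ideal.map_le_iff_le_comap]
    intro x hx
    exact ((IsLocalRing.local_hom_TFAE (algebraMap R R')).out 0 4).mp ‹_› ▸ hx
  have hnil : IsNilpotent (Ring.jacobson (R ⧸ J)) := by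
    refine ⟨n, ?_⟩
    rw [IsLocalRing.ringJacobson_eq_maximalIdeal]
    have h1 : maximalIdeal (R ⧸ J) ≤ (maximalIdeal R).map (Ideal.Quotient.mk J) := by
      intro x hx
      obtain ⟨a, rfl⟩ := Ideal.Quotient.mk_surjective x
      apply Ideal.mem_map_of_mem
      rw [IsLocalRing.mem_maximalIdeal, mem_nonunits_iff] at hx ⊢
      exact fun hu => hx (hu.map _)
    rw [Ideal.zero_eq_bot, eq_bot_iff]
    calc maximalIdeal (R ⧸ J) ^ n
        ≤ ((maximalIdeal R).map (Ideal.Quotient.mk J)) ^ n := Ideal.pow_right_mono h1 n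
      _ = (maximalIdeal R ^ n).map (Ideal.Quotient.mk J) := (Ideal.map_pow _ _ _).symm
      _ ≤ J.map (Ideal.Quotient.mk J) := Ideal.map_mono hpow
      _ = ⊥ := Ideal.map_quotient_self _
  refine (Groth.Agent.S4852.result (A := R ⧸ J) hnil (ι := PUnit.{u + 1})
    (fun _ => R' ⧸ maximalIdeal R' ^ n) ?_ ((R ⧸ J) ⊗[R] LocalizedModule T M)).mpr ?_
  · intro a ha
    exact hinj ((ha PUnit.unit).trans (map_zero _).symm)
  · intro _
    exact Module.Flat.of_linearEquiv
      (AlgebraTensorModule.cancelBaseChange R (R ⧸ J) (R' ⧸ maximalIdeal R' ^ n)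
        (R' ⧸ maximalIdeal R' ^ n) (LocalizedModule T M))

omit [IsLocalRing R] [IsLocalRing R'] [IsLocalHom (algebraMap R R')] in
theorem flatAt_of_le_ker (f : M →ₗ[S] M') (hf : IsBaseChange S' f) (I : Ideal R)
    (hI : I ≤ RingHom.ker (algebraMap R R'))
    (q' : Ideal S') [q'.IsPrime] (q : Ideal S) [q.IsPrime] (hq : q = q'.comap (algebraMap S S'))
    (hfl : Module.Flat (R ⧸ I) ((R ⧸ I) ⊗[R] LocalizedModule q.primeCompl M)) :
    FlatCA.FlatAt R' q' M' := by
  letI : Algebra (R ⧸ I) R' :=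
    (Ideal.Quotient.lift I (algebraMap R R') (fun a ha => hI ha)).toAlgebra
  haveI : IsScalarTower R (R ⧸ I) R' := IsScalarTower.of_algebraMap_eq (fun x => rfl)
  have h1 : Module.Flat R' (R' ⊗[R ⧸ I] ((R ⧸ I) ⊗[R] LocalizedModule q.primeCompl M)) :=
    inferInstance
  have h2 : Module.Flat R' (R' ⊗[R] LocalizedModule q.primeCompl M) :=
    Module.Flat.of_linearEquiv
      (AlgebraTensorModule.cancelBaseChange R (R ⧸ I) R' R' (LocalizedModule q.primeCompl M)).symm
  exact flatAt_of_flat_tensor_localizedModule (R := R) f hf q' q hq h2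

end Main

end Groth.Agent.Lib.helper3.FlatBC
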