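import Mathlib
import Groth.Agent.Lib.Helper3.FlatDescG
/-!
# Flat locus on an intermediate ring (helper3)

`A → B → C`, `M` a `C`-module. For a prime `q` of `B`, `M_q` is flat over `A` iff `M_r` is flat over
`A` for every prime `r` of `C` whose contraction to `B` is contained in `q`. Consequently, if the
flat locus in `Spec C` is open, so is the flat locus in `Spec B` (EGA IV 11.3.1 variant).
-/

set_option autoImplicit false
universe u

open TensorProduct

namespace Groth.Agent.Lib.helper3.FlatDesc

open Groth.Agent.Lib.helper3.FlatLocus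

section Inter

variable {A B C : Type*} [CommRing A] [CommRing B] [CommRing C]
  [Algebra A B] [Algebra B C] [Algebra A C] [IsScalarTower A B C]
  (M : Type*) [AddCommGroup M] [Module C M] [Module B M] [Module A M]
  [IsScalarTower B C M] [IsScalarTower A C M] [IsScalarTower A B M]

omit [IsScalarTower A B C] in
theorem algebraMap_smul_tensor (t : B) {Q : Type*} [AddCommGroup Q] [Module A Q] (x : M ⊗[A] Q) :
    algebraMap B C t • x = t • x := by
  induction x using TensorProduct.induction_on with
  | zero => simp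
  | add x y hx hy => rw [smul_add, smul_add, hx, hy]
  | tmul m q => rw [TensorProduct.smul_tmul', TensorProduct.smul_tmul', algebraMap_smul]

omit [IsScalarTower A B C] in
/-- `M_q` is `A`-flat iff `M_r` is `A`-flat for all primes `r` of `C` with `r ∩ B ⊆ q`. -/
theorem flat_localizedModule_iff_forall_comap_le (q : Ideal B) [q.IsPrime] :
    Module.Flat A (LocalizedModule q.primeCompl M) ↔
      ∀ (r : Ideal C) [r.IsPrime], r.comap (algebraMap B C) ≤ q →
        Module.Flat A (LocalizedModule r.primeCompl M) := by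
  constructor
  · intro h r _ hr
    rw [flat_iff r.primeCompl (LocalizedModule.mkLinearMap r.primeCompl M)]
    intro 𝔟 x hx
    obtain ⟨t, ht, htx⟩ :=
      (flat_iff q.primeCompl (LocalizedModule.mkLinearMap q.primeCompl M)).mp h 𝔟 x hx
    refine ⟨algebraMap B C t, fun hmem => ht (hr hmem), ?_⟩
    rw [algebraMap_smul_tensor]
    exact htx
  · intro h
    rw [flat_iff q.primeCompl (LocalizedModule.mkLinearMap q.primeCompl M)]
    intro 𝔟 x hx
    by_contra hcon
    push Not at hcon
    have hdisj : Disjoint ((Ideal.torsionOf C (M ⊗[A] 𝔟) x : Ideal C) : Set C)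
        (Submonoid.map (algebraMap B C) q.primeCompl : Set C) := by
      rw [Set.disjoint_left]
      rintro c hc ⟨t, ht, rfl⟩
      apply hcon t ht
      rw [← algebraMap_smul_tensor (C := C)]
      exact (Ideal.mem_torsionOf_iff _ _).mp hc
    obtain ⟨r, hrp, hIr, hrT⟩ := Ideal.exists_le_prime_disjoint _ _ hdisj
    have hle : r.comap (algebraMap B C) ≤ q := by
      intro t ht
      by_contra htq
      exact Set.disjoint_left.mp hrT ht ⟨t, htq, rfl⟩
    obtain ⟨t, ht, htx⟩ :=
      (flat_iff r.primeCompl (LocalizedModule.mkLinearMap r.primeCompl M)).mp (h r hle) 𝔟 x hx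
    exact ht (hIr ((Ideal.mem_torsionOf_iff _ _).mpr htx))

omit [IsScalarTower A B C] in
/-- If the `A`-flat locus of `M` in `Spec C` is open, so is the `A`-flat locus of `M` in `Spec B`. -/
theorem isOpen_flatLocus_of_isOpen
    (hC : IsOpen {r : PrimeSpectrum C | Module.Flat A (LocalizedModule r.asIdeal.primeCompl M)}) :
    IsOpen {q : PrimeSpectrum B | Module.Flat A (LocalizedModule q.asIdeal.primeCompl M)} := by
  set U : Set (PrimeSpectrum C) :=
    {r : PrimeSpectrum C | Module.Flat A (LocalizedModule r.asIdeal.primeCompl M)} with hU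
  set I : Ideal C := PrimeSpectrum.vanishingIdeal Uᶜ with hI
  have hZ : PrimeSpectrum.zeroLocus (I : Set C) = Uᶜ := by
    rw [hI, PrimeSpectrum.zeroLocus_vanishingIdeal_eq_closure]
    exact hC.isClosed_compl.closure_eq
  rw [isOpen_iff_forall_mem_open]
  intro q hq
  have hq' : Module.Flat A (LocalizedModule q.asIdeal.primeCompl M) := hq
  -- find `f ∉ q` with `φ f ∈ I`
  have hex : ∃ f : B, f ∉ q.asIdeal ∧ algebraMap B C f ∈ I := by
    by_contra hcon
    push Not at hcon
    have hdisj : Disjoint (I : Set C)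
        (Submonoid.map (algebraMap B C) q.asIdeal.primeCompl : Set C) := by
      rw [Set.disjoint_left]
      rintro c hc ⟨t, ht, rfl⟩
      exact hcon t ht hc
    obtain ⟨r, hrp, hIr, hrT⟩ := Ideal.exists_le_prime_disjoint _ _ hdisj
    have hle : r.comap (algebraMap B C) ≤ q.asIdeal := by
      intro t ht
      by_contra htq
      exact Set.disjoint_left.mp hrT ht ⟨t, htq, rfl⟩
    have h1 : (⟨r, hrp⟩ : PrimeSpectrum C) ∈ U :=
      (flat_localizedModule_iff_forall_comap_le (C := C) M q.asIdeal).mp hq' r hle
    have h2 : (⟨r, hrp⟩ : PrimeSpectrum C) ∈ PrimeSpectrum.zeroLocus (I : Set C) := by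
      rw [PrimeSpectrum.mem_zeroLocus]
      exact hIr
    rw [hZ] at h2
    exact h2 h1
  obtain ⟨f, hfq, hfI⟩ := hex
  refine ⟨PrimeSpectrum.basicOpen f, ?_, (PrimeSpectrum.basicOpen f).isOpen, hfq⟩
  intro q' hq'
  have hfq' : f ∉ q'.asIdeal := hq'
  change Module.Flat A (LocalizedModule q'.asIdeal.primeCompl M)
  rw [flat_localizedModule_iff_forall_comap_le (C := C) M q'.asIdeal]
  intro r _ hr
  by_contra hnot
  have h1 : (⟨r, inferInstance⟩ : PrimeSpectrum C) ∈ Uᶜ := hnot
  rw [← hZ, PrimeSpectrum.mem_zeroLocus] at h1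
  exact hfq' (hr (h1 hfI))

end Inter

end Groth.Agent.Lib.helper3.FlatDesc
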