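import Mathlib
import Groth.Agent.Lib.Helper3.FlatDescN
import Groth.Agent.Lib.Helper8.LocalFlat
/-!
# Fibrewise criterion of flatness modulo a nil ideal (helper3)

`R → S` of finite type, `S'` an `S`-algebra of finite presentation over `R`, `I ⊆ R` a nil ideal, `M` a
finitely presented `S'`-module, flat over `R`, with `M / I M` flat over `S / I S`. Then `M` is flat
over `S`.  (Reduction to a finitely generated, hence nilpotent, subideal via `flat_colimit_iff`.)
-/

set_option autoImplicit false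
set_option linter.style.haveILetI false
universe u

open TensorProduct

namespace Groth.Agent.Lib.helper3.FlatDesc

open Groth.Agent.Lib.helper8.LocalFlat

section Nil

variable {R S : Type u} [CommRing R] [CommRing S] [Algebra R S] (I : Ideal R)

/-- every element of `I S` lies in `J S` for a finitely generated `J ≤ I`. -/
theorem exists_fg_le_mem_map {s : S} (hs : s ∈ I.map (algebraMap R S)) :
    ∃ J : Ideal R, J.FG ∧ J ≤ I ∧ s ∈ J.map (algebraMap R S) := by
  induction hs using Submodule.span_induction with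
  | mem s hs =>
    obtain ⟨a, ha, rfl⟩ := hs
    refine ⟨Ideal.span {a}, ⟨{a}, by simp⟩, ?_, Ideal.mem_map_of_mem _ (Ideal.subset_span rfl)⟩
    rw [Ideal.span_le]
    intro x hx
    rw [Set.mem_singleton_iff] at hx
    exact hx ▸ ha
  | zero => exact ⟨⊥, Submodule.fg_bot, bot_le, Ideal.zero_mem _⟩
  | add x y _ _ hx hy =>
    obtain ⟨J1, h1, h1', h1''⟩ := hx
    obtain ⟨J2, h2, h2', h2''⟩ := hy
    exact ⟨J1 ⊔ J2, Submodule.FG.sup h1 h2, sup_le h1' h2',
      Ideal.add_mem _ (Ideal.map_mono le_sup_left h1'') (Ideal.map_mono le_sup_right h2'')⟩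
  | smul a x _ hx =>
    obtain ⟨J, h1, h2, h3⟩ := hx
    exact ⟨J, h1, h2, Ideal.mul_mem_left _ _ h3⟩

/-- the index type: finitely generated subideals of `I`. -/
abbrev FGSub : Type u := {J : Ideal R // J.FG ∧ J ≤ I}

theorem isDirectedColimitRing_quotient :
    letI : ∀ i : FGSub I, Algebra (S ⧸ i.1.map (algebraMap R S)) (S ⧸ I.map (algebraMap R S)) :=
      fun i => (Ideal.Quotient.factor (Ideal.map_mono i.2.2)).toAlgebra
    FlatCA.IsDirectedColimitRing (fun i : FGSub I => S ⧸ i.1.map (algebraMap R S))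
      (fun i j h => (Ideal.Quotient.factorₐ S
        (Ideal.map_mono (show i.1 ≤ j.1 from h))).toRingHom)
      (S ⧸ I.map (algebraMap R S)) := by
  letI : ∀ i : FGSub I, Algebra (S ⧸ i.1.map (algebraMap R S)) (S ⧸ I.map (algebraMap R S)) :=
    fun i => (Ideal.Quotient.factor (Ideal.map_mono i.2.2)).toAlgebra
  refine ⟨⟨fun i j => ⟨⟨i.1 ⊔ j.1, Submodule.FG.sup i.2.1 j.2.1, sup_le i.2.2 j.2.2⟩, ?_, ?_⟩⟩,
    ⟨⟨⊥, Submodule.fg_bot, bot_le⟩⟩, ?_, ?_, ?_, ?_, ?_⟩
  · exact (le_sup_left : i.1 ≤ i.1 ⊔ j.1)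
  · exact (le_sup_right : j.1 ≤ i.1 ⊔ j.1)
  · intro i
    apply Ideal.Quotient.ringHom_ext
    ext x
    rfl
  · intro i j k hij hjk
    apply Ideal.Quotient.ringHom_ext
    ext x
    rfl
  · intro i j h
    apply Ideal.Quotient.ringHom_ext
    ext x
    rfl
  · intro a
    obtain ⟨s, rfl⟩ := Ideal.Quotient.mk_surjective a
    exact ⟨⟨⊥, Submodule.fg_bot, bot_le⟩, Ideal.Quotient.mk _ s, rfl⟩
  · intro i x hx
    obtain ⟨s, rfl⟩ := Ideal.Quotient.mk_surjective x
    have hs : s ∈ I.map (algebraMap R S) := Ideal.Quotient.eq_zero_iff_mem.mp hx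
    obtain ⟨J, hJ1, hJ2, hJ3⟩ := exists_fg_le_mem_map I hs
    refine ⟨⟨i.1 ⊔ J, Submodule.FG.sup i.2.1 hJ1, sup_le i.2.2 hJ2⟩, (le_sup_left : i.1 ≤ i.1 ⊔ J), ?_⟩
    exact Ideal.Quotient.eq_zero_iff_mem.mpr (Ideal.map_mono le_sup_right hJ3)

end Nil

/-- **Fibrewise criterion of flatness modulo a nil ideal.** -/
theorem flat_of_flat_quotient_nil {R S S' M : Type u} [CommRing R] [CommRing S] [CommRing S']
    [Algebra R S] [Algebra S S'] [Algebra R S'] [IsScalarTower R S S']
    [Algebra.FiniteType R S] [Algebra.FinitePresentation R S'] (I : Ideal R)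
    (hI : ∀ a ∈ I, IsNilpotent a)
    [AddCommGroup M] [Module S' M] [Module S M] [Module R M] [IsScalarTower S S' M]
    [IsScalarTower R S M]
    [Module.FinitePresentation S' M] [Module.Flat R M]
    (h : Module.Flat (S ⧸ I.map (algebraMap R S)) ((S ⧸ I.map (algebraMap R S)) ⊗[S] M)) :
    Module.Flat S M := by
  haveI : Algebra.FinitePresentation S S' :=
    Algebra.FinitePresentation.of_restrict_scalars_finitePresentation R S S'
  letI : ∀ i : FGSub I, Algebra (S ⧸ i.1.map (algebraMap R S)) (S ⧸ I.map (algebraMap R S)) :=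
    fun i => (Ideal.Quotient.factor (Ideal.map_mono i.2.2)).toAlgebra
  haveI : ∀ i : FGSub I, IsScalarTower S (S ⧸ i.1.map (algebraMap R S))
      (S ⧸ I.map (algebraMap R S)) := fun i => IsScalarTower.of_algebraMap_eq (fun s => rfl)
  have key := flat_colimit_iff (A₀ := S) (fun i : FGSub I => S ⧸ i.1.map (algebraMap R S))
    (fun i j h => Ideal.Quotient.factorₐ S (Ideal.map_mono (show i.1 ≤ j.1 from h)))
    (S ⧸ I.map (algebraMap R S)) (isDirectedColimitRing_quotient I) (B₀ := S') M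
  obtain ⟨i, hi⟩ := key.mp h
  have hnil : IsNilpotent (i.1.map (algebraMap R S)) := by
    have h1 : IsNilpotent i.1 := by
      rw [i.2.1.isNilpotent_iff_le_nilradical]
      intro a ha
      exact hI a (i.2.2 ha)
    obtain ⟨k, hk⟩ := h1
    exact ⟨k, by rw [← Ideal.map_pow, hk]; exact Ideal.map_bot⟩
  haveI := hi
  exact flat_of_isNilpotent (i.1.map (algebraMap R S)) M
    (map_subtype_rTensor_injective i.1 M
      (Module.Flat.rTensor_preserves_injective_linearMap _ i.1.injective_subtype)) hnil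

end Groth.Agent.Lib.helper3.FlatDesc
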