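import Mathlib
import Groth.Prelude.Def_Found
import Groth.Agent.Lib.Helper3.IrredDim
import Groth.Agent.Lib.Helper3.EquidimAt
import Groth.Agent.Lib.Helper3.FibreGeneric
import Groth.Agent.Lib.Helper3.QFinTop
import Groth.Agent.Lib.Helper17.FibreDim
/-!
# Helper library (helper3): flat morphisms of schemes l.f.t. over a field, local dimensions.

`localDim_eq_add_of_flat` : for a flat `k`-morphism `f : X ⟶ Y` of l.f.t. `k`-schemes and a maximal
point `ζ` of the fibre over `y` (closure an irreducible component of the fibre), with `z` its image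
in `X`: `dim closure {ζ} = n` natural and `dim_z X = dim_{f z} Y + n`.
`localDim_eq_dim_closure_of_maximal` : at a maximal point `ξ` of `X`, `dim_ξ X = dim closure {ξ}`.
-/

set_option autoImplicit false
universe u
open CategoryTheory AlgebraicGeometry Function

namespace Groth.Agent.Lib.helper3.FlatFibreDim

open Groth.Agent.Lib.helper3.DimIneq Groth.Agent.Lib.helper3.FTField
  Groth.Agent.Lib.helper3.FibreField Groth.Agent.Lib.helper3.IrredDim
  Groth.Agent.Lib.helper3.EquidimAt Groth.Agent.Lib.helper3.QFinTop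

theorem localDim_eq_add_of_flat (k : Type u) [Field k]
    {X Y : Scheme.{u}} (qX : X ⟶ Spec (CommRingCat.of k)) (qY : Y ⟶ Spec (CommRingCat.of k))
    [LocallyOfFiniteType qX] [LocallyOfFiniteType qY]
    (f : X ⟶ Y) (hf : f ≫ qY = qX) [Flat f] (y : Y)
    (ζ : f.fiber y) (hZ : closure ({ζ} : Set (f.fiber y)) ∈ irreducibleComponents (f.fiber y : Type u)) :
    ∃ (n : ℕ), topologicalKrullDim ↥(closure ({ζ} : Set (f.fiber y))) = (n : WithBot ℕ∞) ∧
      @FlatMor.localDim X _ (f.fiberι y ζ) =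
        @FlatMor.localDim Y _ (f.base (f.fiberι y ζ)) + (n : WithBot ℕ∞) := by
  letI : X.Over (Spec (CommRingCat.of k)) := ⟨qX⟩
  letI : Y.Over (Spec (CommRingCat.of k)) := ⟨qY⟩
  haveI : LocallyOfFiniteType (X ↘ Spec (CommRingCat.of k)) := ‹LocallyOfFiniteType qX›
  haveI : LocallyOfFiniteType (Y ↘ Spec (CommRingCat.of k)) := ‹LocallyOfFiniteType qY›
  haveI : IsLocallyNoetherian X := isLocallyNoetherian_of_lft k X
  haveI : IsLocallyNoetherian Y := isLocallyNoetherian_of_lft k Y
  haveI : LocallyOfFiniteType f := by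
    have : LocallyOfFiniteType (f ≫ qY) := by rw [hf]; infer_instance
    exact locallyOfFiniteType_of_comp f qY
  letI := fiberOver f y
  haveI : LocallyOfFiniteType ((f.fiber y) ↘ Spec (CommRingCat.of (Y.residueField y))) :=
    locallyOfFiniteType_fiber f y
  set z := f.fiberι y ζ with hz
  have hzy : f.base z = y := fiberι_mem f y ζ
  obtain ⟨n, hn⟩ := exists_nat_trdeg_residueField (Y.residueField y) (f.fiber y) ζ
  have hdimZ := dim_closure_eq_trdeg (Y.residueField y) (f.fiber y) ζ n hn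
  have htd : td (f.residueFieldMap z).hom = (n : Cardinal.{u}) := by
    have h5 : td (Curv2.resMap (Y.residueField y) (f.fiber y) ζ) = n := hn
    rw [td_resMap_fiber f y ζ] at h5
    exact h5
  have hmax : ∀ x' : X, x' ⤳ z → f.base x' = f.base z → x' = z := by
    intro x' hsp hfx
    have hx' : x' ∈ Set.range (f.fiberι y) := by
      rw [f.range_fiberι]; exact hfx.trans hzy
    obtain ⟨ζ', rfl⟩ := hx'
    have h1 : ζ' ⤳ ζ := (fiberι_specializes_iff f y ζ' ζ).mp hsp
    rw [eq_of_specializes_of_closure_mem_irreducibleComponents ζ hZ ζ' h1]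
  have hb0 := Groth.Agent.Lib.helper3.RelDim.fibre_stalk_dim_eq_zero f z hmax
  have hflat := Groth.Agent.Lib.helper17.FibreDim.dim_stalk_eq f z (Flat.stalkMap f z)
  rw [hb0, add_zero] at hflat
  obtain ⟨a, b, ha, hb, hlX⟩ := localDim_eq_trdeg_add_stalk k X z
  obtain ⟨a', b', ha', hb', hlY⟩ := localDim_eq_trdeg_add_stalk k Y (f.base z)
  have hbb : b = b' := by
    rw [hb, hb'] at hflat
    exact_mod_cast hflat
  have hadd := trdeg_residueField_add k qX qY f hf z
  have haa : a = a' + n := by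
    have h1 : td (@Curv2.resMap k _ X ⟨qX⟩ z) = a := ha
    have h2 : td (@Curv2.resMap k _ Y ⟨qY⟩ (f.base z)) = a' := ha'
    rw [h1, h2, htd] at hadd
    exact_mod_cast hadd
  refine ⟨n, hdimZ, ?_⟩
  rw [hlX, hlY, haa, hbb]
  have : a' + n + b' = a' + b' + n := by omega
  rw [this]
  push_cast
  rfl

/-- at a maximal point `ξ` of `X` (l.f.t. over `k`), `dim_ξ X = dim closure {ξ}`. -/
theorem localDim_eq_dim_closure_of_maximal (k : Type u) [Field k] (X : Scheme.{u})
    [X.Over (Spec (CommRingCat.of k))] [LocallyOfFiniteType (X ↘ Spec (CommRingCat.of k))]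
    (ξ : X) (hξ : closure ({ξ} : Set X) ∈ irreducibleComponents (X : Type u)) :
    FlatMor.localDim X ξ = topologicalKrullDim ↥(closure ({ξ} : Set X)) := by
  obtain ⟨a, b, ha, hb, hl⟩ := localDim_eq_trdeg_add_stalk k X ξ
  obtain ⟨V, hV, hξV, -⟩ := exists_isAffineOpen_mem_and_subset (x := ξ) (U := ⊤) trivial
  have hmin := mem_minimalPrimes_of_closure_mem_irreducibleComponents X hV ξ hξV hξ
  have hb0 : b = 0 := by
    rw [ringKrullDim_stalk_eq_height hV ξ hξV, Ideal.height_eq_zero_iff.mpr hmin] at hb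
    have : ((0 : ℕ∞) : WithBot ℕ∞) = ((b : ℕ∞) : WithBot ℕ∞) := hb
    have h2 : (0 : ℕ∞) = (b : ℕ∞) := by exact_mod_cast this
    exact_mod_cast h2.symm
  rw [hl, dim_closure_eq_trdeg k X ξ a ha, hb0, add_zero]

end Groth.Agent.Lib.helper3.FlatFibreDim
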