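import Mathlib
import Groth.Agent.Lib.Helper3.RelDim
import Groth.Agent.Lib.Helper3.FTFieldChain
import Groth.Agent.Lib.Helper3.FibreCoheight
/-!
# Helper library (helper3): points of maximal local ring dimension in open subsets of fibres

* `le_coheight_of_chain`: a chain of `n` strict specializations ending at `c (Fin.last n)` shows
  `n ≤ coheight (c (Fin.last n))` in a scheme;
* `iSup_add_nat_le`: `(⨆ i, c i) + d ≤ M` from `∀ i, c i + d ≤ M` in `WithBot ℕ∞`;
* `exists_mem_fibre_stalk_dim_eq`: `f` locally of finite type of relative dimension `d`, `U` open in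
  `X`, `a₀ ∈ U`; then there is `a ∈ U` in the fibre of `a₀` with `dim O_{X_{f a}, a} = d`.
-/

set_option autoImplicit false
universe u
open CategoryTheory AlgebraicGeometry Function

namespace Groth.Agent.Lib.helper3.RelDim

open Groth.Agent.Lib.helper3.DimIneq Groth.Agent.Lib.helper3.FTField
  Groth.Agent.Lib.helper3.FibreField Groth.Agent.Lib.helper3.QFinTop
  Groth.Agent.Lib.helper3.DimFibre Groth.Agent.Lib.helper3.FibreCoheight

theorem le_coheight_of_chain {F : Scheme.{u}} (n : ℕ) (c : Fin (n + 1) → F)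
    (hc : ∀ i : Fin n, c i.castSucc ⤳ c i.succ ∧ ¬ (c i.succ ⤳ c i.castSucc)) :
    (n : ℕ∞) ≤ Order.coheight (c (Fin.last n)) := by
  let p : LTSeries F :=
    { length := n
      toFun := fun i => c i.rev
      step := fun i => by
        have h := hc i.rev
        rw [Fin.rev_castSucc, Fin.rev_succ]
        show c i.rev.succ < c i.rev.castSucc
        rw [lt_iff_le_not_ge]
        exact ⟨Scheme.le_iff_specializes.mpr h.1, fun h' => h.2 (Scheme.le_iff_specializes.mp h')⟩ }
  have h1 : p.head = c (Fin.last n) := by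
    change c (Fin.rev 0) = _
    rw [Fin.rev_zero]
  rw [← h1]
  exact Order.length_le_coheight_head

theorem iSup_add_nat_le {ι : Type*} [Nonempty ι] (c : ι → ℕ∞) (d : ℕ) (M : WithBot ℕ∞)
    (h : ∀ i, ((c i : ℕ∞) : WithBot ℕ∞) + (d : WithBot ℕ∞) ≤ M) :
    (⨆ i, ((c i : ℕ∞) : WithBot ℕ∞)) + (d : WithBot ℕ∞) ≤ M := by
  rw [← WithBot.coe_iSup (OrderTop.bddAbove _)]
  have h1 : ((⨆ i, c i : ℕ∞) : WithBot ℕ∞) + (d : WithBot ℕ∞) =
      (((⨆ i, c i) + (d : ℕ∞) : ℕ∞) : WithBot ℕ∞) := by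
    push_cast; rfl
  rw [h1, ENat.iSup_add, WithBot.coe_iSup (OrderTop.bddAbove _)]
  refine iSup_le fun i => ?_
  have := h i
  refine le_trans (le_of_eq ?_) this
  push_cast; rfl

variable {X Y : Scheme.{u}} (f : X ⟶ Y)

theorem exists_mem_fibre_stalk_dim_eq [LocallyOfFiniteType f] (d : ℕ) (hd : Cyc.HasRelDim f d)
    (U : X.Opens) (a₀ : X) (ha₀ : a₀ ∈ U) :
    ∃ a : X, a ∈ U ∧ f a = f a₀ ∧
      ringKrullDim ((f.fiber (f a)).presheaf.stalk (f.asFiber a)) = (d : WithBot ℕ∞) := by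
  letI := fiberOver f (f a₀)
  haveI : LocallyOfFiniteType ((f.fiber (f a₀)) ↘ Spec (CommRingCat.of (Y.residueField (f a₀)))) :=
    locallyOfFiniteType_fiber f (f a₀)
  set z₀ : f.fiber (f a₀) := f.asFiber a₀ with hz₀
  have hιz₀ : f.fiberι (f a₀) z₀ = a₀ := f.fiberι_asFiber a₀
  let W : (f.fiber (f a₀)).Opens := (f.fiberι (f a₀)) ⁻¹ᵁ U
  have hz₀W : z₀ ∈ W := by
    change f.fiberι (f a₀) z₀ ∈ U
    rw [hιz₀]; exact ha₀
  -- generic point of a component through `z₀`
  have hT : irreducibleComponent z₀ ∈ irreducibleComponents (f.fiber (f a₀) : Type u) :=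
    irreducibleComponent_mem_irreducibleComponents z₀
  obtain ⟨ζ, hζ⟩ := QuasiSober.sober (isIrreducible_irreducibleComponent (x := z₀))
    isClosed_irreducibleComponent
  have hζz : ζ ⤳ z₀ := hζ.specializes mem_irreducibleComponent
  have hζW : ζ ∈ W := hζz.mem_open W.isOpen hz₀W
  obtain ⟨n, hn⟩ := exists_nat_trdeg_residueField (Y.residueField (f a₀)) (f.fiber (f a₀)) ζ
  have hdim := dim_closure_eq_trdeg (Y.residueField (f a₀)) (f.fiber (f a₀)) ζ n hn
  have hcomp : closure ({ζ} : Set (f.fiber (f a₀))) ∈ irreducibleComponents (f.fiber (f a₀) : Type u) := by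
    rw [hζ.def]; exact hT
  rw [hd (f a₀) _ hcomp] at hdim
  have hnd : d = n := by exact_mod_cast hdim
  subst hnd
  obtain ⟨c, hc, hcW⟩ := exists_chain_in_open (Y.residueField (f a₀)) (f.fiber (f a₀)) ζ W W.isOpen hζW d hn
  set z := c (Fin.last d) with hz
  have hco : (d : ℕ∞) ≤ Order.coheight z := le_coheight_of_chain d c hc
  refine ⟨f.fiberι (f a₀) z, (hcW (Fin.last d)).1, fiberι_mem f (f a₀) z, ?_⟩
  rw [← stalk_dim_fiber_eq f (f a₀) (f.fiberι (f a₀) z) (fiberι_mem f (f a₀) z) z rfl]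
  apply le_antisymm
  · -- `dim O_{F,z} ≤ localDim F z = d`
    have h1 := localDim_eq_of_forall_irreducibleComponents (Y.residueField (f a₀)) (f.fiber (f a₀)) d
      (hd (f a₀)) z
    obtain ⟨V, hV, hzV, -⟩ := exists_isAffineOpen_mem_and_subset (x := z) (U := ⊤) trivial
    haveI := isNoetherianRing_of_isAffineOpen (Y.residueField (f a₀)) (f.fiber (f a₀)) hV
    obtain ⟨a, ha⟩ := exists_nat_trdeg_residueField (Y.residueField (f a₀)) (f.fiber (f a₀)) z
    have hbne : (hV.primeIdealOf ⟨z, hzV⟩).asIdeal.height ≠ ⊤ := Ideal.height_ne_top_of_isPrime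
    obtain ⟨b, hb⟩ := ENat.ne_top_iff_exists.mp hbne
    have hb' : ringKrullDim ((f.fiber (f a₀)).presheaf.stalk z) = (b : WithBot ℕ∞) := by
      rw [ringKrullDim_stalk_eq_height hV z hzV, ← hb]; rfl
    rw [localDim_eq (Y.residueField (f a₀)) (f.fiber (f a₀)) z a b ha hb'] at h1
    rw [hb']
    have : a + b = d := by exact_mod_cast h1
    have : b ≤ d := by omega
    exact_mod_cast this
  · rw [ringKrullDim_stalk_eq_coheight z]
    exact_mod_cast hco

end Groth.Agent.Lib.helper3.RelDim
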