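import Mathlib
import Groth.Agent.Lib.Helper3.FlatFibDim2
/-!
# Supports of flat modules: generization without loss of residue transcendence degree (helper3)

* `linearIndependent_tmul_of_flat` : `A` local, `N` flat, a family of `N` linearly independent
  modulo the maximal ideal stays linearly independent in `(A/I) ⊗ N` over `A/I`;
* `exists_prime_of_flat` : `A → B` local homomorphism, `N` a nonzero finite `B`-module flat over `A`,
  `I` a prime of `A`: there is a prime `q'` of `B` in the support of `N` over `I` at which the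
  residue transcendence degree is at least the one at the maximal ideal.
-/

set_option autoImplicit false
set_option linter.style.haveILetI false
set_option linter.unusedSectionVars false
universe u
open Function TensorProduct

namespace Groth.Agent.Lib.helper3.FlatSuppDim

open Groth.Agent.Lib.helper3.DimIneq Groth.Agent.Lib.helper3.FTField
  Groth.Agent.Lib.helper3.FibreParam Groth.Agent.Lib.helper3.ValFlatDim
  Groth.Agent.Lib.helper3.QFinRing2

theorem linearIndependent_tmul_of_flat {A N : Type u} [CommRing A] [IsLocalRing A]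
    [AddCommGroup N] [Module A N] [Module.Flat A N] (I : Ideal A) (hI : I ≠ ⊤) {ι : Type u}
    (v : ι → N)
    (h : LinearIndependent (IsLocalRing.ResidueField A)
      (TensorProduct.mk A (IsLocalRing.ResidueField A) N 1 ∘ v)) :
    LinearIndependent (A ⧸ I) (fun i => (1 : A ⧸ I) ⊗ₜ[A] v i) := by
  classical
  haveI : Nontrivial (A ⧸ I) := Ideal.Quotient.nontrivial_iff.mpr hI
  haveI : IsLocalRing (A ⧸ I) :=
    IsLocalRing.of_surjective' (Ideal.Quotient.mk I) Ideal.Quotient.mk_surjective
  set m := IsLocalRing.maximalIdeal A with hm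
  have hIm : I ≤ m := IsLocalRing.le_maximalIdeal hI
  apply Module.IsLocalRing.linearIndependent_of_flat
  rw [linearIndependent_iff']
  intro s g hg i hi
  choose c' hc' using fun j => IsLocalRing.residue_surjective (g j)
  choose c hc using fun j => Ideal.Quotient.mk_surjective (c' j)
  set y : N := ∑ j ∈ s, c j • v j with hy
  have h1 : TensorProduct.mk (A ⧸ I) (IsLocalRing.ResidueField (A ⧸ I)) ((A ⧸ I) ⊗[A] N) 1
      ((1 : A ⧸ I) ⊗ₜ[A] y) = 0 := by
    refine Eq.trans ?_ hg
    rw [hy, TensorProduct.tmul_sum, map_sum]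
    apply Finset.sum_congr rfl
    intro j hj
    rw [← hc' j, ← hc j]
    change _ = IsLocalRing.residue (A ⧸ I) (Ideal.Quotient.mk I (c j)) •
      ((1 : IsLocalRing.ResidueField (A ⧸ I)) ⊗ₜ[A ⧸ I] ((1 : A ⧸ I) ⊗ₜ[A] v j))
    rw [TensorProduct.tmul_smul]
    have e1 : c j • ((1 : A ⧸ I) ⊗ₜ[A] v j) =
        (Ideal.Quotient.mk I (c j)) • ((1 : A ⧸ I) ⊗ₜ[A] v j) := by
      rw [TensorProduct.smul_tmul', TensorProduct.smul_tmul']
      congr 1
    rw [e1, map_smul]
    exact (algebraMap_smul (IsLocalRing.ResidueField (A ⧸ I))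
      (Ideal.Quotient.mk I (c j)) _).symm
  have h2 : (1 : A ⧸ I) ⊗ₜ[A] y ∈
      IsLocalRing.maximalIdeal (A ⧸ I) • (⊤ : Submodule (A ⧸ I) ((A ⧸ I) ⊗[A] N)) := by
    have hk := LinearMap.ker_tensorProductMk (R := A ⧸ I)
      (I := IsLocalRing.maximalIdeal (A ⧸ I)) (Q := (A ⧸ I) ⊗[A] N)
    rw [← hk]
    exact h1
  -- the map to `k ⊗ N`
  let ρ : (A ⧸ I) →ₗ[A] (A ⧸ m) := (Ideal.Quotient.factorₐ A hIm).toLinearMap
  let Φ : (A ⧸ I) ⊗[A] N →ₗ[A] (A ⧸ m) ⊗[A] N := LinearMap.rTensor N ρ
  have hkill : ∀ z ∈ IsLocalRing.maximalIdeal (A ⧸ I) •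
      (⊤ : Submodule (A ⧸ I) ((A ⧸ I) ⊗[A] N)), Φ z = 0 := by
    intro z hz
    refine Submodule.smul_induction_on hz ?_ ?_
    · intro ā hā n _
      obtain ⟨a, rfl⟩ := Ideal.Quotient.mk_surjective ā
      have ham : a ∈ m := by
        by_contra hnot
        have hu : IsUnit a := by
          rwa [hm, IsLocalRing.mem_maximalIdeal, mem_nonunits_iff, not_not] at hnot
        exact hā (hu.map (Ideal.Quotient.mk I))
      have e2 : (Ideal.Quotient.mk I a) • n = a • n := by
        rw [← algebraMap_smul (A ⧸ I) a n]; rfl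
      rw [e2, map_smul]
      induction (Φ n) using TensorProduct.induction_on with
      | zero => simp
      | tmul κ n' =>
        rw [TensorProduct.smul_tmul']
        obtain ⟨b, rfl⟩ := Ideal.Quotient.mk_surjective κ
        have : a • (Ideal.Quotient.mk m b) = 0 := by
          rw [Algebra.smul_def]
          change Ideal.Quotient.mk m a * Ideal.Quotient.mk m b = 0
          rw [Ideal.Quotient.eq_zero_iff_mem.mpr ham, zero_mul]
        rw [this, TensorProduct.zero_tmul]
      | add z₁ z₂ h₁ h₂ => rw [smul_add, h₁, h₂, add_zero]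
    · intro z₁ z₂ h₁ h₂
      rw [map_add, h₁, h₂, add_zero]
  have h3 : (1 : A ⧸ m) ⊗ₜ[A] y = 0 := by
    have := hkill _ h2
    simpa [Φ, ρ] using this
  have h4 : ∑ j ∈ s, IsLocalRing.residue A (c j) •
      (TensorProduct.mk A (IsLocalRing.ResidueField A) N 1 ∘ v) j = 0 := by
    refine Eq.trans ?_ h3
    rw [hy, TensorProduct.tmul_sum]
    apply Finset.sum_congr rfl
    intro j hj
    change IsLocalRing.residue A (c j) • ((1 : IsLocalRing.ResidueField A) ⊗ₜ[A] v j) = _
    rw [TensorProduct.tmul_smul]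
    exact algebraMap_smul (IsLocalRing.ResidueField A) (c j) _
  have h5 := (linearIndependent_iff'.mp h) s (fun j => IsLocalRing.residue A (c j)) h4 i hi
  rw [IsLocalRing.residue_eq_zero_iff] at h5
  rw [← hc' i, ← hc i, IsLocalRing.residue_eq_zero_iff]
  intro hu
  have : IsUnit (c i) := by
    have hloc : IsLocalHom (Ideal.Quotient.mk I) :=
      IsLocalHom.of_surjective _ Ideal.Quotient.mk_surjective
    exact hloc.map_nonunit _ hu
  exact h5 this

/-- **Local key lemma.** -/
theorem exists_prime_of_flat {A B N : Type u} [CommRing A] [IsLocalRing A] [CommRing B]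
    [IsLocalRing B] [Algebra A B] [IsLocalHom (algebraMap A B)] [AddCommGroup N] [Module A N]
    [Module B N] [IsScalarTower A B N] [Module.Finite B N] [Nontrivial N] [Module.Flat A N]
    (I : Ideal A) [I.IsPrime] (r : ℕ)
    (hr : td (Ideal.quotientMap (IsLocalRing.maximalIdeal B) (algebraMap A B) le_rfl) = r) :
    ∃ q' : Ideal B, q'.IsPrime ∧ q'.comap (algebraMap A B) = I ∧ Module.annihilator B N ≤ q' ∧
      (r : Cardinal.{u}) ≤ td (Ideal.quotientMap q' (algebraMap A B) le_rfl) := by
  classical
  set m := IsLocalRing.maximalIdeal A with hm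
  set n := IsLocalRing.maximalIdeal B with hn
  have hnm : n.comap (algebraMap A B) = m := IsLocalRing.maximalIdeal_comap (algebraMap A B)
  obtain ⟨a, ha⟩ := exists_algebraicIndependent_lift n r hr
  set ψ : MvPolynomial (Fin r) A →ₐ[A] B := MvPolynomial.aeval a with hψ
  have hcomap := comap_aeval_eq m n hnm r r le_rfl a
    (by
      have : (fun i : Fin r => Ideal.Quotient.mk n (a (Fin.castLE le_rfl i))) =
          fun i => Ideal.Quotient.mk n (a i) := by
        funext i; simp
      rw [this]; exact ha)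
    (fun i hi => absurd i.2 (not_lt.mpr hi))
  have hempty : (Set.range fun i : {i : Fin r // r ≤ (i : ℕ)} =>
      (MvPolynomial.X (i : Fin r) : MvPolynomial (Fin r) A)) = ∅ := by
    rw [Set.range_eq_empty_iff]
    exact ⟨fun i => absurd i.1.2 (not_lt.mpr i.2)⟩
  rw [hempty, Ideal.span_empty, sup_bot_eq] at hcomap
  -- units
  have hunit : ∀ P : MvPolynomial (Fin r) A, (∃ β, P.coeff β ∉ m) → IsUnit (ψ P) := by
    rintro P ⟨β, hβ⟩
    by_contra hnu
    have h1 : ψ P ∈ n := by rwa [hn, IsLocalRing.mem_maximalIdeal, mem_nonunits_iff]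
    have h2 : P ∈ n.comap (MvPolynomial.aeval (R := A) a).toRingHom := h1
    rw [hcomap] at h2
    exact hβ (MvPolynomial.mem_map_C_iff.mp h2 β)
  -- an element outside `n N`
  have hne : (⊤ : Submodule B N) ≠ n • ⊤ := by
    apply Submodule.top_ne_ideal_smul_of_le_jacobson_annihilator
    rw [hn]
    exact IsLocalRing.maximalIdeal_le_jacobson _
  obtain ⟨x, hx⟩ : ∃ x : N, x ∉ n • (⊤ : Submodule B N) := by
    by_contra hall
    push Not at hall
    exact hne (le_antisymm (fun y _ => hall y) le_top)
  -- `m N ⊆ n N`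
  have hmn : ∀ y ∈ m • (⊤ : Submodule A N), y ∈ n • (⊤ : Submodule B N) := by
    intro y hy
    refine Submodule.smul_induction_on hy ?_ ?_
    · intro c hc z _
      rw [← algebraMap_smul B c z]
      refine Submodule.smul_mem_smul ?_ trivial
      have : c ∈ n.comap (algebraMap A B) := by rw [hnm]; exact hc
      exact this
    · intro y₁ y₂ h₁ h₂
      exact add_mem h₁ h₂
  -- the monomials applied to `x`
  let v : ULift.{u} (Fin r →₀ ℕ) → N := fun β => ψ (MvPolynomial.monomial β.down 1) • x
  have hsum : ∀ (s : Finset (ULift.{u} (Fin r →₀ ℕ))) (c : ULift.{u} (Fin r →₀ ℕ) → A),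
      ψ (∑ j ∈ s, MvPolynomial.monomial j.down (c j)) • x = ∑ j ∈ s, c j • v j := by
    intro s c
    rw [map_sum, Finset.sum_smul]
    apply Finset.sum_congr rfl
    intro j hj
    have e1 : MvPolynomial.monomial j.down (c j) =
        c j • MvPolynomial.monomial j.down (1 : A) := by
      rw [MvPolynomial.smul_monomial, smul_eq_mul, mul_one]
    rw [e1, map_smul, smul_assoc]
  have hcoeff : ∀ (s : Finset (ULift.{u} (Fin r →₀ ℕ))) (c : ULift.{u} (Fin r →₀ ℕ) → A)
      (i : ULift.{u} (Fin r →₀ ℕ)), i ∈ s →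
      (∑ j ∈ s, MvPolynomial.monomial j.down (c j)).coeff i.down = c i := by
    intro s c i hi
    rw [MvPolynomial.coeff_sum]
    simp only [MvPolynomial.coeff_monomial]
    rw [Finset.sum_eq_single i]
    · simp
    · intro j hj hne
      rw [if_neg]
      intro h
      exact hne (ULift.down_injective h)
    · intro h
      exact absurd hi h
  have hv : LinearIndependent (IsLocalRing.ResidueField A)
      (TensorProduct.mk A (IsLocalRing.ResidueField A) N 1 ∘ v) := by
    rw [linearIndependent_iff']
    intro s g hg i hi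
    choose c hc using fun j => IsLocalRing.residue_surjective (g j)
    set P : MvPolynomial (Fin r) A := ∑ j ∈ s, MvPolynomial.monomial j.down (c j) with hP
    have h1 : TensorProduct.mk A (A ⧸ m) N 1 (ψ P • x) = 0 := by
      refine Eq.trans ?_ hg
      rw [hP, hsum, map_sum]
      apply Finset.sum_congr rfl
      intro j hj
      rw [map_smul, ← hc j]
      exact (algebraMap_smul (A ⧸ m) (c j) _).symm
    have h2 : ψ P • x ∈ m • (⊤ : Submodule A N) := by
      have h3 : ψ P • x ∈ LinearMap.ker (TensorProduct.mk A (A ⧸ m) N 1) := h1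
      rwa [LinearMap.ker_tensorProductMk] at h3
    rw [← hc i, IsLocalRing.residue_eq_zero_iff]
    by_contra hci
    have hu : IsUnit (ψ P) := hunit P ⟨i.down, by rw [hP, hcoeff s c i hi]; exact hci⟩
    apply hx
    have h4 := hmn _ h2
    obtain ⟨w, hw⟩ := hu.exists_left_inv
    have h5 : x = w • (ψ P • x) := by
      rw [smul_smul, hw, one_smul]
    rw [h5]
    exact Submodule.smul_mem _ _ h4
  have hvI := linearIndependent_tmul_of_flat I (Ideal.IsPrime.ne_top inferInstance) v hv
  -- key: `ψ P • x ∈ I N` implies `P ∈ I[T]`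
  have hkey : ∀ P : MvPolynomial (Fin r) A, ψ P • x ∈ I • (⊤ : Submodule A N) →
      P ∈ I.map (MvPolynomial.C : A →+* MvPolynomial (Fin r) A) := by
    intro P hP
    rw [MvPolynomial.mem_map_C_iff]
    intro β
    set s : Finset (ULift.{u} (Fin r →₀ ℕ)) :=
      P.support.map ⟨ULift.up, ULift.up_injective⟩ with hs
    set c : ULift.{u} (Fin r →₀ ℕ) → A := fun j => P.coeff j.down with hc
    have hPs : ∑ j ∈ s, MvPolynomial.monomial j.down (c j) = P := by
      rw [hs, Finset.sum_map]
      exact MvPolynomial.support_sum_monomial_coeff P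
    have hPx : ψ P • x = ∑ j ∈ s, c j • v j := by
      rw [← hsum s c, hPs]
    have h1 : TensorProduct.mk A (A ⧸ I) N 1 (ψ P • x) = 0 := by
      have h3 : ψ P • x ∈ LinearMap.ker (TensorProduct.mk A (A ⧸ I) N 1) := by
        rw [LinearMap.ker_tensorProductMk]; exact hP
      exact h3
    have h2 : ∑ j ∈ s, Ideal.Quotient.mk I (c j) • ((1 : A ⧸ I) ⊗ₜ[A] v j) = 0 := by
      refine Eq.trans ?_ h1
      rw [hPx, map_sum]
      apply Finset.sum_congr rfl
      intro j hj
      rw [map_smul]
      exact algebraMap_smul (A ⧸ I) (c j) _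
    by_cases hβ : β ∈ P.support
    · have hmem : (⟨β⟩ : ULift.{u} (Fin r →₀ ℕ)) ∈ s := by
        rw [hs, Finset.mem_map]
        exact ⟨β, hβ, rfl⟩
      have := (linearIndependent_iff'.mp hvI) s (fun j => Ideal.Quotient.mk I (c j)) h2 ⟨β⟩ hmem
      exact Ideal.Quotient.eq_zero_iff_mem.mp this
    · rw [MvPolynomial.notMem_support_iff.mp hβ]; exact I.zero_mem
  have hstab : ∀ (b : B) (y : N), y ∈ I • (⊤ : Submodule A N) →
      b • y ∈ I • (⊤ : Submodule A N) := by
    intro b y hy
    refine Submodule.smul_induction_on hy ?_ ?_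
    · intro c hc z _
      rw [smul_comm]
      exact Submodule.smul_mem_smul hc trivial
    · intro y₁ y₂ h₁ h₂
      rw [smul_add]; exact add_mem h₁ h₂
  let J : Ideal B :=
    { carrier := {b | b • x ∈ I • (⊤ : Submodule A N)}
      add_mem' := fun {b₁ b₂} h₁ h₂ => by
        change (b₁ + b₂) • x ∈ I • (⊤ : Submodule A N)
        rw [add_smul]; exact add_mem h₁ h₂
      zero_mem' := by
        change (0 : B) • x ∈ I • (⊤ : Submodule A N)
        rw [zero_smul]; exact zero_mem _
      smul_mem' := fun b' b hb => by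
        change (b' • b) • x ∈ I • (⊤ : Submodule A N)
        rw [smul_eq_mul, mul_smul]; exact hstab b' _ hb }
  haveI hprime : (I.map (MvPolynomial.C : A →+* MvPolynomial (Fin r) A)).IsPrime := by
    have h1 : RingHom.ker (MvPolynomial.map (σ := Fin r) (Ideal.Quotient.mk I)) =
        I.map MvPolynomial.C := by
      rw [MvPolynomial.ker_map, Ideal.mk_ker]
    rw [← h1]
    haveI : IsDomain (A ⧸ I) := Ideal.Quotient.isDomain I
    exact RingHom.ker_isPrime _
  let Sg : Submonoid B := Submonoid.map (ψ : MvPolynomial (Fin r) A →* B)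
    (I.map (MvPolynomial.C : A →+* MvPolynomial (Fin r) A)).primeCompl
  have hdisj : Disjoint (J : Set B) (Sg : Set B) := by
    rw [Set.disjoint_left]
    rintro b hbJ ⟨P, hP, rfl⟩
    exact hP (hkey P hbJ)
  obtain ⟨q', hq'prime, hJq', hq'disj⟩ := Ideal.exists_le_prime_disjoint J Sg hdisj
  have hq'ψ : ∀ P : MvPolynomial (Fin r) A, ψ P ∈ q' →
      P ∈ I.map (MvPolynomial.C : A →+* MvPolynomial (Fin r) A) := by
    intro P hP
    by_contra hnot
    exact Set.disjoint_left.mp hq'disj hP ⟨P, hnot, rfl⟩
  have hq'comap : q'.comap (algebraMap A B) = I := by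
    apply le_antisymm
    · intro c hc
      have h1 : ψ (MvPolynomial.C c) ∈ q' := by
        have : ψ (MvPolynomial.C c) = algebraMap A B c := by simp [hψ]
        rw [this]; exact hc
      have h2 := MvPolynomial.mem_map_C_iff.mp (hq'ψ _ h1) 0
      simpa using h2
    · intro c hc
      apply hJq'
      change algebraMap A B c • x ∈ I • (⊤ : Submodule A N)
      rw [algebraMap_smul]
      exact Submodule.smul_mem_smul hc trivial
  refine ⟨q', hq'prime, hq'comap, ?_, ?_⟩
  · intro b hb
    apply hJq'
    change b • x ∈ I • (⊤ : Submodule A N)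
    rw [Module.mem_annihilator.mp hb x]
    exact zero_mem _
  -- algebraic independence modulo `q'`
  haveI := hq'prime
  haveI : IsDomain (B ⧸ q') := Ideal.Quotient.isDomain q'
  set I' := q'.comap (algebraMap A B) with hI'
  haveI : I'.IsPrime := Ideal.comap_isPrime _ _
  set γ' := Ideal.quotientMap q' (algebraMap A B) le_rfl with hγ'
  letI := γ'.toAlgebra
  have hind : AlgebraicIndependent (A ⧸ I') (fun i : Fin r => Ideal.Quotient.mk q' (a i)) := by
    change Injective _
    rw [injective_iff_map_eq_zero]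
    intro P hP
    obtain ⟨b, rfl⟩ := MvPolynomial.map_surjective (Ideal.Quotient.mk I')
      Ideal.Quotient.mk_surjective P
    have hfact : (Ideal.Quotient.mk q').comp ψ.toRingHom =
        (MvPolynomial.aeval (R := A ⧸ I')
          (fun i : Fin r => Ideal.Quotient.mk q' (a i))).toRingHom.comp
          (MvPolynomial.map (Ideal.Quotient.mk I')) := by
      apply MvPolynomial.ringHom_ext
      · intro c
        simp only [RingHom.comp_apply, AlgHom.toRingHom_eq_coe, RingHom.coe_coe,
          MvPolynomial.aeval_C, MvPolynomial.map_C, hψ]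
        rfl
      · intro i
        simp only [RingHom.comp_apply, AlgHom.toRingHom_eq_coe, RingHom.coe_coe,
          MvPolynomial.aeval_X, MvPolynomial.map_X, hψ]
    have h1 := RingHom.congr_fun hfact b
    simp only [RingHom.comp_apply, AlgHom.toRingHom_eq_coe, RingHom.coe_coe] at h1
    rw [hP, Ideal.Quotient.eq_zero_iff_mem] at h1
    have h2 := hq'ψ b h1
    have h3 : RingHom.ker (MvPolynomial.map (σ := Fin r) (Ideal.Quotient.mk I')) =
        I'.map MvPolynomial.C := by
      rw [MvPolynomial.ker_map, Ideal.mk_ker]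
    rw [← hq'comap, ← h3] at h2
    exact h2
  haveI : Nontrivial (A ⧸ I') := inferInstance
  have := hind.lift_cardinalMk_le_trdeg
  simpa using this

end Groth.Agent.Lib.helper3.FlatSuppDim
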