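import Mathlib
import Groth.Prelude.Def_FlatMod2
import Groth.Agent.Lib.Helper3.FlatSuppDim1
import Groth.Agent.Lib.Helper3.SubStalk
import Groth.Agent.Lib.Helper3.DimIneqSch2
import Groth.Agent.Lib.Helper16.CohStalk
/-!
# Supports of flat modules: generization in the support without loss of residue transcendence
degree, scheme level (helper3)

* `exists_generization_support` : `f : X ⟶ S` locally of finite type, `F` quasi-coherent of finite
  type, flat over `S` at `x ∈ Supp F`, `η ⤳ f x`: there is `x' ⤳ x` in `Supp F` over `η` with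
  `trdeg κ(x)/κ(f x) ≤ trdeg κ(x')/κ(η)`.
-/

set_option autoImplicit false
set_option linter.style.haveILetI false
set_option linter.unusedSectionVars false
universe u
open CategoryTheory AlgebraicGeometry Function TopologicalSpace Topology

namespace Groth.Agent.Lib.helper3.FlatSuppDim

open Groth.Agent.Lib.helper3.DimIneq Groth.Agent.Lib.helper3.FTField
  Groth.Agent.Lib.helper3.FibreParam Groth.Agent.Lib.helper3.SubStalk
  Groth.Agent.Lib.helper16.CohStalk Groth.Agent.Lib.helper16.CohFinite

theorem td_residueFieldMap_eq_quotientMap {A B : Type u} [CommRing A] [IsLocalRing A] [CommRing B]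
    [IsLocalRing B] (φ : A →+* B) [IsLocalHom φ] :
    td (IsLocalRing.ResidueField.map φ) =
      td (Ideal.quotientMap (IsLocalRing.maximalIdeal B) φ le_rfl) := by
  rw [← td_quotientMap_congr_ideal φ (IsLocalRing.maximalIdeal B) (IsLocalRing.maximalIdeal A)
    (IsLocalRing.maximalIdeal_comap φ)]
  rfl

theorem exists_generization_support {X S : Scheme.{u}} (f : X ⟶ S) [LocallyOfFiniteType f]
    (F : X.Modules) (hF : Coh.IsCoh F) (x : X) (hx : x ∈ CohB1.support F)
    (hfl : FlatMod.IsFlatOverAt f F x) (η : S) (hη : η ⤳ f x) :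
    ∃ x' : X, x' ⤳ x ∧ f x' = η ∧ x' ∈ CohB1.support F ∧
      td (f.residueFieldMap x).hom ≤ td (f.residueFieldMap x').hom := by
  haveI : F.IsQuasicoherent := hF.1
  obtain ⟨V, hV, hsV, -⟩ := exists_isAffineOpen_mem_and_subset (x := f x) (U := ⊤) trivial
  obtain ⟨W, hW, hxW, e0⟩ := exists_isAffineOpen_mem_and_subset (x := x) (U := f ⁻¹ᵁ V) hsV
  have e : W ≤ f ⁻¹ᵁ V := e0
  have hηV : η ∈ V := hη.mem_open V.isOpen hsV
  set φ := (f.appLE V W e).hom with hφ
  set germX := (X.presheaf.germ W x hxW).hom with hgermX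
  set germS := (S.presheaf.germ V (f x) hsV).hom with hgermS
  -- the local data
  letI algAB : Algebra (S.presheaf.stalk (f x)) (X.presheaf.stalk x) := (f.stalkMap x).hom.toAlgebra
  letI modAN : Module (S.presheaf.stalk (f x)) (F.presheaf.stalk x) := FlatMod.moduleStalkOver f F x
  haveI : IsScalarTower (S.presheaf.stalk (f x)) (X.presheaf.stalk x) (F.presheaf.stalk x) :=
    ⟨fun a b n => by
      change ((f.stalkMap x).hom a * b) • n = (f.stalkMap x).hom a • (b • n)
      rw [mul_smul]⟩
  haveI : IsLocalHom (algebraMap (S.presheaf.stalk (f x)) (X.presheaf.stalk x)) :=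
    (inferInstance : IsLocalHom (f.stalkMap x).hom)
  haveI : Module.Finite (X.presheaf.stalk x) (F.presheaf.stalk x) := finite_stalk_of_isCoh F hF x
  haveI : Nontrivial (F.presheaf.stalk x) := not_subsingleton_iff_nontrivial.mp hx
  haveI : Module.Flat (S.presheaf.stalk (f x)) (F.presheaf.stalk x) := hfl
  obtain ⟨r, hr⟩ := exists_nat_td_residueFieldMap f x
  have hr' : td (Ideal.quotientMap (IsLocalRing.maximalIdeal (X.presheaf.stalk x))
      (algebraMap (S.presheaf.stalk (f x)) (X.presheaf.stalk x)) le_rfl) = r := by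
    rw [← hr]
    exact (td_residueFieldMap_eq_quotientMap (f.stalkMap x).hom).symm
  -- the prime of `O_{S, f x}` of `η`
  letI algS : Algebra Γ(S, V) (S.presheaf.stalk (f x)) :=
    TopCat.Presheaf.algebra_section_stalk S.presheaf ⟨f x, hsV⟩
  haveI locS := hV.isLocalization_stalk ⟨f x, hsV⟩
  set pη := (hV.primeIdealOf ⟨η, hηV⟩).asIdeal with hpη
  set ps := (hV.primeIdealOf ⟨f x, hsV⟩).asIdeal with hps
  have hpηs : pη ≤ ps := (specializes_iff_primeIdealOf_le hV η (f x) hηV hsV).mp hη
  have hdisj : Disjoint (ps.primeCompl : Set Γ(S, V)) (pη : Set Γ(S, V)) := by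
    rw [Set.disjoint_left]
    intro a ha ha'
    exact ha (hpηs ha')
  set I : Ideal (S.presheaf.stalk (f x)) := pη.map (algebraMap Γ(S, V) (S.presheaf.stalk (f x)))
    with hI
  haveI hIprime : I.IsPrime :=
    IsLocalization.isPrime_of_isPrime_disjoint ps.primeCompl _ pη inferInstance hdisj
  have hIcomap : I.comap (algebraMap Γ(S, V) (S.presheaf.stalk (f x))) = pη :=
    IsLocalization.under_map_of_isPrime_disjoint ps.primeCompl _ inferInstance hdisj
  obtain ⟨q', hq'p, hq'c, hann, hrle⟩ := exists_prime_of_flat (A := S.presheaf.stalk (f x))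
    (B := X.presheaf.stalk x) (N := F.presheaf.stalk x) I r hr'
  haveI := hq'p
  set b : Spec (X.presheaf.stalk x) := ⟨q', hq'p⟩ with hb
  set x' := X.fromSpecStalk x b with hx'
  have hsp : x' ⤳ x := by
    have : x' ∈ Set.range (X.fromSpecStalk x) := ⟨_, rfl⟩
    rw [Scheme.range_fromSpecStalk] at this
    exact this
  have hx'W : x' ∈ W := hsp.mem_open W.isOpen hxW
  have hqC : (hW.primeIdealOf ⟨x', hx'W⟩).asIdeal = q'.comap germX :=
    primeIdealOf_fromSpecStalk hW x hxW b hx'W
  -- commutation
  have hcomm : ∀ a : Γ(S, V), germX (φ a) = (f.stalkMap x).hom (germS a) := by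
    intro a
    have h1 := Scheme.Hom.germ_stalkMap_apply f V x hsV a
    refine Eq.trans ?_ h1.symm
    rw [hφ, hgermX, Scheme.Hom.appLE]
    simp only [CommRingCat.hom_comp, RingHom.comp_apply]
    change X.presheaf.germ W x hxW (X.presheaf.map (homOfLE e).op (f.app V a)) = _
    rw [TopCat.Presheaf.germ_res_apply]
  have hcomapφ : (q'.comap germX).comap φ = pη := by
    rw [← hIcomap, ← hq'c]
    ext a
    simp only [Ideal.mem_comap]
    rw [hcomm a]
    rfl
  have hfx' : f x' = η := by
    have h1 := congrArg PrimeSpectrum.asIdeal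
      (IsAffineOpen.comap_primeIdealOf_appLE (f := f) (x := x') V hV W hW e hx'W)
    have h2 : (hV.primeIdealOf ⟨f x', e hx'W⟩).asIdeal = pη := by
      rw [← h1]
      change (hW.primeIdealOf ⟨x', hx'W⟩).asIdeal.comap φ = pη
      rw [hqC, hcomapφ]
    have h3 : hV.primeIdealOf ⟨f x', e hx'W⟩ = hV.primeIdealOf ⟨η, hηV⟩ := PrimeSpectrum.ext h2
    have h4 := hV.fromSpec_primeIdealOf ⟨f x', e hx'W⟩
    have h5 := hV.fromSpec_primeIdealOf ⟨η, hηV⟩
    rw [h3, h5] at h4
    exact h4.symm
  letI algX : Algebra Γ(X, W) (X.presheaf.stalk x) :=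
    TopCat.Presheaf.algebra_section_stalk X.presheaf ⟨x, hxW⟩
  haveI locX := hW.isLocalization_stalk ⟨x, hxW⟩
  refine ⟨x', hsp, hfx', ?_, ?_⟩
  · -- the support
    letI modX := modStalk F x hxW
    haveI := isScalarTower_stalk F x hxW
    haveI locx := isLocalizedModule_stalk F hW x hxW
    letI modX' := modStalk F x' hx'W
    haveI locx' := isLocalizedModule_stalk F hW x' hx'W
    haveI : Module.Finite Γ(X, W) Γ(F, W) := finite_sections_of_isCoh F hF hW
    have hannC : Module.annihilator Γ(X, W) Γ(F, W) ≤ (hW.primeIdealOf ⟨x', hx'W⟩).asIdeal := by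
      intro h hh
      rw [hqC, Ideal.mem_comap]
      apply hann
      rw [Module.mem_annihilator]
      intro n
      obtain ⟨⟨m, s⟩, hs⟩ := IsLocalizedModule.surj
        (hW.primeIdealOf ⟨x, hxW⟩).asIdeal.primeCompl (germLin F x hxW) n
      have hs' : germX (s : Γ(X, W)) • n = germLin F x hxW m := hs
      have hu : IsUnit (germX (s : Γ(X, W))) :=
        IsLocalization.map_units (X.presheaf.stalk x) s
      have h1 : germX (s : Γ(X, W)) • (germX h • n) = 0 := by
        rw [smul_smul, mul_comm, ← smul_smul, hs']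
        have h2 : germX h • germLin F x hxW m = germLin F x hxW (h • m) :=
          ((germLin F x hxW).map_smul h m).symm
        rw [h2, Module.mem_annihilator.mp hh m, map_zero]
      obtain ⟨w, hw⟩ := hu.exists_left_inv
      have h3 : germX h • n = w • (germX (s : Γ(X, W)) • (germX h • n)) := by
        rw [smul_smul, hw, one_smul]
      rw [h3, h1, smul_zero]
    have hmem : (hW.primeIdealOf ⟨x', hx'W⟩) ∈ Module.support Γ(X, W) Γ(F, W) :=
      Module.mem_support_iff_of_finite.mpr hannC
    rw [Module.mem_support_iff] at hmem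
    let eqv := IsLocalizedModule.iso (hW.primeIdealOf ⟨x', hx'W⟩).asIdeal.primeCompl
      (germLin F x' hx'W)
    change ¬ Subsingleton (F.presheaf.stalk x')
    rw [not_subsingleton_iff_nontrivial]
    exact eqv.symm.toEquiv.nontrivial
  · -- transcendence degrees
    rw [hr, ← td_quotientMap_eq f hV hW e x' hx'W,
      td_quotientMap_congr_prime φ _ _ hqC]
    refine le_trans hrle (le_of_eq ?_)
    symm
    haveI : (q'.comap germX).IsPrime := Ideal.comap_isPrime _ _
    haveI : IsDomain (X.presheaf.stalk x ⧸ q') := Ideal.Quotient.isDomain q'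
    have hle : (q'.comap germX).comap φ ≤
        (q'.comap (algebraMap (S.presheaf.stalk (f x)) (X.presheaf.stalk x))).comap germS := by
      intro a ha
      simp only [Ideal.mem_comap] at ha ⊢
      rw [hcomm a] at ha
      exact ha
    have hge : (q'.comap (algebraMap (S.presheaf.stalk (f x)) (X.presheaf.stalk x))).comap germS ≤
        (q'.comap germX).comap φ := by
      intro a ha
      simp only [Ideal.mem_comap] at ha ⊢
      rw [hcomm a]
      exact ha
    refine td_eq_of_square (Ideal.quotientMap (q'.comap germX) φ le_rfl)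
      (Ideal.quotientMap q' germX le_rfl)
      (Ideal.quotientMap (q'.comap (algebraMap (S.presheaf.stalk (f x)) (X.presheaf.stalk x)))
        germS hle)
      (Ideal.quotientMap q' (algebraMap (S.presheaf.stalk (f x)) (X.presheaf.stalk x)) le_rfl)
      ?_ ?_ ?_ ?_ ?_ ?_ ?_
    · apply Ideal.Quotient.ringHom_ext
      ext a
      change Ideal.Quotient.mk q' (germX (φ a)) =
        Ideal.Quotient.mk q' ((f.stalkMap x).hom (germS a))
      rw [hcomm a]
    · exact Ideal.quotientMap_injective
    · exact Ideal.quotientMap_injective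
    · exact Ideal.quotientMap_injective' hge
    · exact Ideal.quotientMap_injective
    · exact isAlgebraic_quotientMap_of_isLocalization
        (hW.primeIdealOf ⟨x, hxW⟩).asIdeal.primeCompl q' (q'.comap germX) le_rfl
    · exact isAlgebraic_quotientMap_of_isLocalization ps.primeCompl
        (q'.comap (algebraMap (S.presheaf.stalk (f x)) (X.presheaf.stalk x)))
        ((q'.comap germX).comap φ) hle

end Groth.Agent.Lib.helper3.FlatSuppDim
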