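import Mathlib
import Groth.Prelude.Def_FlatMod2
import Groth.Agent.Lib.Helper3.FlatSuppDim2
import Groth.Agent.Lib.Helper3.FibreDimBound
import Groth.Agent.Lib.Helper3.FibreDimChar
import Groth.Agent.Lib.Helper3.TopDim
import Groth.Agent.Lib.Helper8.DevSupp
import Groth.Agent.Lib.Helper16.CycClosed1
/-!
# Dimension of the support of a flat module in the fibres (helper3; = S1416)

* `td_comp_closedImmersion` : residue transcendence degrees are unchanged by a closed immersion;
* `dim_fiber_le'` : a bound on the residue transcendence degrees at the points of one fibre bounds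
  its dimension; `td_le_of_dim_fiber_le` : the converse;
* `dim_support_fibre_le` : (= S1416).
-/

set_option autoImplicit false
set_option linter.style.haveILetI false
set_option linter.unusedSectionVars false
universe u
open CategoryTheory AlgebraicGeometry Function TopologicalSpace Topology

namespace Groth.Agent.Lib.helper3.FlatSuppDim

open Groth.Agent.Lib.helper3.DimIneq Groth.Agent.Lib.helper3.FTField
  Groth.Agent.Lib.helper3.FibreParam Groth.Agent.Lib.helper3.DimFibre
  Groth.Agent.Lib.helper3.FibreField Groth.Agent.Lib.helper8.Dev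

theorem td_comp_closedImmersion {Z X S : Scheme.{u}} (ι : Z ⟶ X) [IsClosedImmersion ι] (f : X ⟶ S)
    (z : Z) : td ((ι ≫ f).residueFieldMap z).hom = td (f.residueFieldMap (ι z)).hom := by
  have hbij := Groth.Agent.Lib.helper16.CycClosed.residueFieldMap_bijective ι z
  have h := congrArg (fun m => td (CommRingCat.Hom.hom m)) (Scheme.residueFieldMap_comp ι f z)
  refine Eq.trans h ?_
  change td ((ι.residueFieldMap z).hom.comp (f.residueFieldMap (ι z)).hom) = _
  rw [td_add_of_comp _ _ (f.residueFieldMap (ι z)).hom.injective hbij.1]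
  have h0 : td (ι.residueFieldMap z).hom = 0 := by
    haveI := isAlgebraic_of_surjective (ι.residueFieldMap z).hom hbij.2
    letI := (ι.residueFieldMap z).hom.toAlgebra
    exact _root_.trdeg_eq_zero
  rw [h0, add_zero]

/-- a bound for the residue transcendence degrees at the points over `y` bounds the dimension of
the fibre over `y`. -/
theorem dim_fiber_le' {X Y : Scheme.{u}} (f : X ⟶ Y) [LocallyOfFiniteType f] (n : ℕ) (y : Y)
    (hn : ∀ x : X, f x = y → td (f.residueFieldMap x).hom ≤ (n : Cardinal.{u})) :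
    topologicalKrullDim (f.fiber y) ≤ (n : WithBot ℕ∞) := by
  letI := fiberOver f y
  haveI : LocallyOfFiniteType ((f.fiber y) ↘ Spec (CommRingCat.of (Y.residueField y))) :=
    locallyOfFiniteType_fiber f y
  rw [dim_eq_iSup_stalk]
  refine iSup_le fun z => ?_
  obtain ⟨U, hU, hzU, -⟩ := exists_isAffineOpen_mem_and_subset (x := z) (U := ⊤) trivial
  haveI := isNoetherianRing_of_isAffineOpen (Y.residueField y) (f.fiber y) hU
  rw [ringKrullDim_stalk_eq_height hU z hzU]
  obtain ⟨q0, hq0min, hq0le, hht⟩ :=
    exists_minimalPrimes_height_map_eq (hU.primeIdealOf ⟨z, hzU⟩).asIdeal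
  haveI := hq0min.1.1
  obtain ⟨ξ, hξU, hξq⟩ := exists_point_of_prime hU q0
  subst hξq
  have key := height_map_add_trdeg_residueField (Y.residueField y) (f.fiber y) hU ξ z hξU hzU hq0le
  rw [hht] at key
  have h1 : @Algebra.trdeg (Y.residueField y) ((f.fiber y).residueField ξ) _ _
      (Curv2.resAlgebra (Y.residueField y) (f.fiber y) ξ) ≤ (n : Cardinal.{u}) := by
    change td (Curv2.resMap (Y.residueField y) (f.fiber y) ξ) ≤ _
    rw [td_resMap_fiber]
    exact hn _ (f.fiberHomeo y ξ).2
  have h2 : (((hU.primeIdealOf ⟨z, hzU⟩).asIdeal.height : ℕ∞) : Cardinal.{u}) ≤ (n : Cardinal.{u}) := by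
    refine le_trans ?_ h1
    rw [← key]
    exact le_self_add
  have h3 : (hU.primeIdealOf ⟨z, hzU⟩).asIdeal.height ≤ (n : ℕ∞) := by
    rw [← Cardinal.ofENat_le_ofENat.{u}]
    simpa using h2
  exact_mod_cast h3

theorem td_le_of_dim_fiber_le {X Y : Scheme.{u}} (f : X ⟶ Y) [LocallyOfFiniteType f] (n : ℕ)
    (x : X) (h : topologicalKrullDim (f.fiber (f x)) ≤ (n : WithBot ℕ∞)) :
    td (f.residueFieldMap x).hom ≤ (n : Cardinal.{u}) := by
  have h1 : FlatMor.fibreDimAt f x ≤ (n : WithBot ℕ∞) :=
    le_trans (Groth.Agent.Lib.helper3.TopDim.localDim_le_dim _) h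
  exact (fibreDimAt_le_iff f x n).mp h1 x specializes_rfl rfl

/-- **S1416.** -/
theorem dim_support_fibre_le {X S : Scheme.{u}} (f : X ⟶ S) [LocallyOfFiniteType f]
    [IrreducibleSpace ↑S] (F : X.Modules) (hF : Coh.IsCoh F) (hfl : FlatMod.IsFlatOver f F)
    (r : WithBot ℕ∞)
    (h : topologicalKrullDim ↑(f ⁻¹' {genericPoint ↑S} ∩ CohB1.support F) ≤ r) (s : S) :
    topologicalKrullDim ↑(f ⁻¹' {s} ∩ CohB1.support F) ≤ r := by
  set 𝓘 := annI F hF with h𝓘
  set ι := 𝓘.subschemeι with hι
  set g := ι ≫ f with hg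
  have hrange : Set.range ι = CohB1.support F := by
    rw [hι, 𝓘.range_subschemeι, support_eq_annI_support F hF]
  have hdim : ∀ t : S, topologicalKrullDim ↑(f ⁻¹' {t} ∩ CohB1.support F) =
      topologicalKrullDim (g.fiber t) := by
    intro t
    have himg : ι '' (g ⁻¹' {t}) = f ⁻¹' {t} ∩ CohB1.support F := by
      ext y
      constructor
      · rintro ⟨z, hz, rfl⟩
        refine ⟨?_, ?_⟩
        · have : g z = t := hz
          rw [hg, Scheme.Hom.comp_apply] at this
          exact this
        · rw [← hrange]; exact ⟨z, rfl⟩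
      · rintro ⟨hy1, hy2⟩
        rw [← hrange] at hy2
        obtain ⟨z, rfl⟩ := hy2
        refine ⟨z, ?_, rfl⟩
        change g z = t
        rw [hg, Scheme.Hom.comp_apply]
        exact hy1
    rw [← himg]
    let e1 := ι.isEmbedding.homeomorphImage (g ⁻¹' {t})
    let e2 := g.fiberHomeo t
    exact (IsHomeomorph.topologicalKrullDim_eq _ (e2.trans e1).isHomeomorph).symm
  rw [hdim] at h ⊢
  refine le_trans ?_ h
  set η := genericPoint ↑S with hη
  -- generization
  have hgen : ∀ z : 𝓘.subscheme, g z = s → ∃ z' : 𝓘.subscheme, g z' = η ∧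
      td (g.residueFieldMap z).hom ≤ td (g.residueFieldMap z').hom := by
    intro z hz
    have hx : ι z ∈ CohB1.support F := by rw [← hrange]; exact ⟨z, rfl⟩
    have hfz : f (ι z) = s := by
      rw [← hz, hg, Scheme.Hom.comp_apply]
    have hsp : η ⤳ f (ι z) := genericPoint_specializes _
    obtain ⟨x', -, hfx', hx'supp, htd⟩ :=
      exists_generization_support f F hF (ι z) hx (hfl (ι z)) η hsp
    rw [← hrange] at hx'supp
    obtain ⟨z', rfl⟩ := hx'supp
    refine ⟨z', ?_, ?_⟩
    · rw [hg, Scheme.Hom.comp_apply]; exact hfx'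
    · rw [hg, td_comp_closedImmersion, td_comp_closedImmersion]
      exact htd
  by_cases hemp : IsEmpty (g.fiber s)
  · have : topologicalKrullDim (g.fiber s) = ⊥ := by
      unfold topologicalKrullDim
      rw [Order.krullDim_eq_bot_iff]
      exact ⟨fun Z => by
        obtain ⟨w, -⟩ := Z.2.nonempty
        exact hemp.false w⟩
    rw [this]
    exact bot_le
  rw [not_isEmpty_iff] at hemp
  obtain ⟨w⟩ := hemp
  set z := g.fiberι s w with hz
  have hgz : g z = s := (g.fiberHomeo s w).2
  obtain ⟨z', hgz', -⟩ := hgen z hgz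
  -- the generic fibre is nonempty
  have hne : topologicalKrullDim (g.fiber η) ≠ ⊥ := by
    unfold topologicalKrullDim
    rw [Ne, Order.krullDim_eq_bot_iff, not_isEmpty_iff]
    let w' : g.fiber η := (g.fiberHomeo η).symm ⟨z', hgz'⟩
    exact ⟨⟨closure {w'}, isIrreducible_singleton.closure, isClosed_closure⟩⟩
  generalize hD : topologicalKrullDim (g.fiber η) = D at hne ⊢
  induction D using WithBot.recBotCoe with
  | bot => exact absurd rfl hne
  | coe d =>
    induction d using ENat.recTopCoe with
    | top => exact le_top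
    | coe n =>
      apply dim_fiber_le' g n s
      intro y hy
      obtain ⟨y', hy', hle⟩ := hgen y hy
      refine le_trans hle ?_
      apply td_le_of_dim_fiber_le g n y'
      rw [hy', hD]
      rfl

end Groth.Agent.Lib.helper3.FlatSuppDim
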