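import Mathlib
import Groth.Agent.Lib.Helper3.FpLoc3

/-!
# Finite presentation of localized modules: convenience forms (helper3; S1251)
-/

set_option autoImplicit false
set_option linter.style.haveILetI false
set_option linter.unusedSectionVars false
universe u

open TensorProduct

namespace Groth.Agent.Lib.helper3.FpLoc

section Congr

variable {A : Type*} [CommRing A] (T : Submonoid A) {M₁ M₂ : Type*} [AddCommGroup M₁] [Module A M₁]
  [AddCommGroup M₂] [Module A M₂]

theorem fp_congr (e : M₁ ≃ₗ[A] M₂) :
    Module.FinitePresentation (Localization T) (LocalizedModule T M₁) ↔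
      Module.FinitePresentation (Localization T) (LocalizedModule T M₂) := by
  haveI : IsLocalizedModule T ((LocalizedModule.mkLinearMap T M₂) ∘ₗ e.toLinearMap) :=
    IsLocalizedModule.of_linearEquiv_right T _ e
  exact fp_localizedModule_iff T (Localization T)
    ((LocalizedModule.mkLinearMap T M₂) ∘ₗ e.toLinearMap)

end Congr

section Further

variable {A : Type*} [CommRing A] (T T₂ : Submonoid A) {M : Type*} [AddCommGroup M] [Module A M]

/-- localizing further preserves finite presentation. -/
theorem fp_further (hu : ∀ t ∈ T, IsUnit (algebraMap A (Localization T₂) t))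
    (h : Module.FinitePresentation (Localization T) (LocalizedModule T M)) :
    Module.FinitePresentation (Localization T₂) (LocalizedModule T₂ M) := by
  have hid : IsBaseChange A (LinearMap.id : M →ₗ[A] M) :=
    IsBaseChange.of_equiv (TensorProduct.lid A M) (fun x => by simp)
  exact fp_bc_up (A := A) (B := A) LinearMap.id hid T T₂ (fun t => hu t t.2) h

theorem fp_away_mul (g h : A)
    (hfp : Module.FinitePresentation (Localization.Away g)
      (LocalizedModule (Submonoid.powers g) M)) :
    Module.FinitePresentation (Localization.Away (g * h))
      (LocalizedModule (Submonoid.powers (g * h)) M) := by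
  refine fp_further (Submonoid.powers g) (Submonoid.powers (g * h)) ?_ hfp
  rintro _ ⟨k, rfl⟩
  rw [map_pow]
  apply IsUnit.pow
  have : IsUnit (algebraMap A (Localization (Submonoid.powers (g * h))) (g * h)) :=
    IsLocalization.map_units _ (⟨g * h, Submonoid.mem_powers _⟩ : Submonoid.powers (g * h))
  rw [map_mul] at this
  exact isUnit_of_mul_isUnit_left this

end Further

section TowerAway

variable {A B : Type*} [CommRing A] [CommRing B] [Algebra A B]
  (M : Type*) [AddCommGroup M] [Module A M] [Module B M] [IsScalarTower A B M]

theorem fp_away_up [Module.Finite A B] (g : A)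
    (h : Module.FinitePresentation (Localization.Away g)
      (LocalizedModule (Submonoid.powers g) M)) :
    Module.FinitePresentation (Localization.Away (algebraMap A B g))
      (LocalizedModule (Submonoid.powers (algebraMap A B g)) M) := by
  have := fp_up (B := B) (Submonoid.powers g) M h
  rwa [Algebra.algebraMapSubmonoid_powers] at this

theorem fp_away_down [Module.FinitePresentation A B] (g : A)
    (h : Module.FinitePresentation (Localization.Away (algebraMap A B g))
      (LocalizedModule (Submonoid.powers (algebraMap A B g)) M)) :
    Module.FinitePresentation (Localization.Away g)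
      (LocalizedModule (Submonoid.powers g) M) := by
  apply fp_down (B := B) (Submonoid.powers g) M
  rwa [Algebra.algebraMapSubmonoid_powers]

end TowerAway

section TowerPrime

variable {A B : Type*} [CommRing A] [CommRing B] [Algebra A B]
  (M : Type*) [AddCommGroup M] [Module A M] [Module B M] [IsScalarTower A B M]
  (P : Ideal A) [P.IsPrime] (Z : Ideal B) [Z.IsPrime] [Z.LiesOver P]
  (hZ : ∀ x : B, x ∉ Z → ∃ m : B, m * x ∈ Algebra.algebraMapSubmonoid B P.primeCompl)

include hZ in
theorem fp_prime_iff_aux :
    Module.FinitePresentation (Localization (Algebra.algebraMapSubmonoid B P.primeCompl))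
      (LocalizedModule (Algebra.algebraMapSubmonoid B P.primeCompl) M) ↔
    Module.FinitePresentation (Localization.AtPrime Z) (LocalizedModule Z.primeCompl M) := by
  refine fp_iff_of_le_of_sat _ _ ?_ (fun x hx => hZ x hx)
  rintro _ ⟨a, ha, rfl⟩
  intro hmem
  apply ha
  rw [Ideal.LiesOver.over (p := P) (P := Z), Ideal.under_def]
  exact hmem

include hZ in
theorem fp_prime_up [Module.Finite A B]
    (h : Module.FinitePresentation (Localization.AtPrime P) (LocalizedModule P.primeCompl M)) :
    Module.FinitePresentation (Localization.AtPrime Z) (LocalizedModule Z.primeCompl M) :=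
  (fp_prime_iff_aux M P Z hZ).mp (fp_up (B := B) P.primeCompl M h)

include hZ in
theorem fp_prime_down [Module.FinitePresentation A B]
    (h : Module.FinitePresentation (Localization.AtPrime Z) (LocalizedModule Z.primeCompl M)) :
    Module.FinitePresentation (Localization.AtPrime P) (LocalizedModule P.primeCompl M) :=
  fp_down (B := B) P.primeCompl M ((fp_prime_iff_aux M P Z hZ).mpr h)

end TowerPrime

end Groth.Agent.Lib.helper3.FpLoc
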