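import Mathlib
import Groth.Agent.Lib.Helper3.FpLoc4

/-!
# Finite presentation of localized modules: base change, convenience forms (helper3; S1251)
-/

set_option autoImplicit false
set_option linter.style.haveILetI false
set_option linter.unusedSectionVars false
universe u

open TensorProduct

namespace Groth.Agent.Lib.helper3.FpLoc

section BCforms

variable {A B : Type*} [CommRing A] [CommRing B] [Algebra A B]
  {M M' : Type*} [AddCommGroup M] [Module A M] [AddCommGroup M'] [Module A M'] [Module B M']
  [IsScalarTower A B M'] (f : M →ₗ[A] M') (hf : IsBaseChange B f)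

include hf in
theorem fp_away_bc_up (g : A)
    (h : Module.FinitePresentation (Localization.Away g)
      (LocalizedModule (Submonoid.powers g) M)) :
    Module.FinitePresentation (Localization.Away (algebraMap A B g))
      (LocalizedModule (Submonoid.powers (algebraMap A B g)) M') := by
  refine fp_bc_up f hf (Submonoid.powers g) (Submonoid.powers (algebraMap A B g)) ?_ h
  rintro ⟨_, k, rfl⟩
  simp only [RingHom.coe_comp, Function.comp_apply, map_pow]
  exact IsUnit.pow _ (IsLocalization.map_units _
    (⟨algebraMap A B g, Submonoid.mem_powers _⟩ : Submonoid.powers (algebraMap A B g)))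

include hf in
theorem fp_away_bc_down [Module.Flat A B] (g : A) (h : B) (hdvd : algebraMap A B g ∣ h)
    (hsurj : ∀ (P : Ideal A) [P.IsPrime], g ∉ P →
      ∃ (Q : Ideal B) (_ : Q.IsPrime), h ∉ Q ∧ Q.comap (algebraMap A B) = P)
    (hfp : Module.FinitePresentation (Localization.Away h)
      (LocalizedModule (Submonoid.powers h) M')) :
    Module.FinitePresentation (Localization.Away g)
      (LocalizedModule (Submonoid.powers g) M) := by
  have hu : ∀ t : Submonoid.powers g, IsUnit (((algebraMap B
      (Localization (Submonoid.powers h))).comp (algebraMap A B)) t) := by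
    rintro ⟨_, k, rfl⟩
    simp only [RingHom.coe_comp, Function.comp_apply, map_pow]
    apply IsUnit.pow
    have h1 : IsUnit (algebraMap B (Localization (Submonoid.powers h)) h) :=
      IsLocalization.map_units _ (⟨h, Submonoid.mem_powers _⟩ : Submonoid.powers h)
    exact isUnit_of_dvd_unit (map_dvd _ hdvd) h1
  refine fp_bc_down f hf (Submonoid.powers g) (Submonoid.powers h) hu ?_ hfp
  apply bc_faithfullyFlat (Submonoid.powers g) (Submonoid.powers h) hu
  intro P hP hdisj
  have hgP : g ∉ P := fun hg => Set.disjoint_left.mp hdisj (Submonoid.mem_powers g) hg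
  obtain ⟨Q, hQ, hhQ, hQP⟩ := hsurj P hgP
  refine ⟨Q, hQ, ?_, hQP⟩
  rw [Set.disjoint_left]
  rintro _ ⟨k, rfl⟩ hmem
  exact hhQ (hQ.mem_of_pow_mem _ hmem)

variable (P : Ideal A) [P.IsPrime] (Q : Ideal B) [Q.IsPrime] [Q.LiesOver P]

theorem prime_units (t : P.primeCompl) :
    IsUnit (((algebraMap B (Localization Q.primeCompl)).comp (algebraMap A B)) t) := by
  obtain ⟨t, ht⟩ := t
  simp only [RingHom.coe_comp, Function.comp_apply]
  refine IsLocalization.map_units _ (⟨algebraMap A B t, ?_⟩ : Q.primeCompl)
  intro hmem
  have hover : P = Q.comap (algebraMap A B) := Ideal.LiesOver.over (p := P) (P := Q)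
  have h1 : t ∈ Q.comap (algebraMap A B) := hmem
  rw [← hover] at h1
  exact ht h1

include hf in
theorem fp_prime_bc_up
    (h : Module.FinitePresentation (Localization.AtPrime P) (LocalizedModule P.primeCompl M)) :
    Module.FinitePresentation (Localization.AtPrime Q) (LocalizedModule Q.primeCompl M') :=
  fp_bc_up f hf P.primeCompl Q.primeCompl (prime_units P Q) h

include hf in
theorem fp_prime_bc_down [Module.Flat A B]
    (h : Module.FinitePresentation (Localization.AtPrime Q) (LocalizedModule Q.primeCompl M')) :
    Module.FinitePresentation (Localization.AtPrime P) (LocalizedModule P.primeCompl M) := by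
  refine fp_bc_down f hf P.primeCompl Q.primeCompl (prime_units P Q) ?_ h
  apply bc_faithfullyFlat P.primeCompl Q.primeCompl (prime_units P Q)
  intro P₁ hP₁ hdisj
  have hle : P₁ ≤ P := by
    intro x hx
    by_contra hxP
    exact Set.disjoint_left.mp hdisj hxP hx
  obtain ⟨Q₁, hQ₁le, hQ₁p, hQ₁over⟩ := Ideal.exists_ideal_le_liesOver_of_le (p := P₁) (q := P) Q hle
  refine ⟨Q₁, hQ₁p, ?_, ?_⟩
  · rw [Set.disjoint_left]
    intro x hx hxQ₁
    exact hx (hQ₁le hxQ₁)
  · exact (hQ₁over.over).symm

end BCforms

end Groth.Agent.Lib.helper3.FpLoc
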