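import Mathlib
import Groth.Agent.Lib.Helper3.FpLocal1
/-!
# Finite presentation of a flat algebra from local finite presentation (helper3)

Algebra form of `FpLocal1` (Stacks 053B/053D-type).
-/

set_option autoImplicit false
universe u

open TensorProduct

namespace Groth.Agent.Lib.helper3.FpLocal

attribute [local instance] MvPolynomial.algebraMvPolynomial

theorem exists_fg_ideal_of_fp_localization {R S : Type u} [CommRing R] [CommRing S] [Algebra R S]
    {n : ℕ} (φ : MvPolynomial (Fin n) R →ₐ[R] S) (hφ : Function.Surjective φ)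
    (p : Ideal R) [p.IsPrime]
    (h : Algebra.FinitePresentation (Localization.AtPrime p)
      (Localization (Algebra.algebraMapSubmonoid S p.primeCompl))) :
    ∃ I' : Ideal (MvPolynomial (Fin n) R), I' ≤ RingHom.ker φ ∧ I'.FG ∧
      ∀ z ∈ RingHom.ker φ, ∃ t : R, t ∉ p ∧ t • z ∈ I' := by
  classical
  set Rp := Localization.AtPrime p
  set Sp := Localization (Algebra.algebraMapSubmonoid S p.primeCompl)
  set T : Submonoid (MvPolynomial (Fin n) R) := p.primeCompl.map (MvPolynomial.C (σ := Fin n))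
    with hT
  haveI : IsLocalization T (MvPolynomial (Fin n) Rp) :=
    MvPolynomial.isLocalization (σ := Fin n) p.primeCompl Rp
  let f : MvPolynomial (Fin n) Rp →ₐ[Rp] Sp :=
    MvPolynomial.aeval (fun i => algebraMap S Sp (φ (MvPolynomial.X i)))
  have hfμ : ∀ G : MvPolynomial (Fin n) R,
      f (algebraMap (MvPolynomial (Fin n) R) (MvPolynomial (Fin n) Rp) G) =
        algebraMap S Sp (φ G) := by
    intro G
    induction G using MvPolynomial.induction_on with
    | C a =>
      rw [MvPolynomial.algebraMap_def, MvPolynomial.map_C]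
      change f (MvPolynomial.C (algebraMap R Rp a)) = _
      rw [← MvPolynomial.algebraMap_eq, AlgHom.commutes, ← MvPolynomial.algebraMap_eq,
        AlgHom.commutes, ← IsScalarTower.algebraMap_apply, ← IsScalarTower.algebraMap_apply]
    | add a b ha hb => rw [map_add, map_add, ha, hb, map_add, map_add]
    | mul_X a i ha =>
      rw [map_mul, map_mul, ha, map_mul, map_mul, MvPolynomial.algebraMap_def,
        MvPolynomial.map_X]
      congr 1
      exact MvPolynomial.aeval_X _ i
  have hunit : ∀ t : R, t ∉ p → IsUnit (algebraMap Rp Sp (algebraMap R Rp t)) := fun t ht =>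
    (IsLocalization.map_units Rp (⟨t, ht⟩ : p.primeCompl)).map (algebraMap Rp Sp)
  have hf : Function.Surjective f := by
    intro y
    obtain ⟨⟨s, t'⟩, hy⟩ := IsLocalization.surj (Algebra.algebraMapSubmonoid S p.primeCompl) y
    obtain ⟨t, ht, hte⟩ := t'.2
    obtain ⟨G, rfl⟩ := hφ s
    obtain ⟨v, hv⟩ := hunit t ht
    refine ⟨algebraMap _ _ G * MvPolynomial.C (IsLocalization.mk' Rp (1 : R) (⟨t, ht⟩ : p.primeCompl)), ?_⟩
    rw [map_mul, hfμ, ← MvPolynomial.algebraMap_eq, AlgHom.commutes]
    simp only at hy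
    rw [← hy, ← hte, ← IsScalarTower.algebraMap_apply, IsScalarTower.algebraMap_apply R Rp Sp,
      mul_assoc, ← map_mul, IsLocalization.mk'_spec'_mk, map_one, map_one, mul_one]
  have hker : (RingHom.ker f.toRingHom).FG := Algebra.FinitePresentation.ker_fG_of_surjective f hf
  obtain ⟨G, hG⟩ := hker
  have hGmem : ∀ g ∈ G, ∃ H : MvPolynomial (Fin n) R, H ∈ RingHom.ker φ ∧ ∃ t : T,
      g * algebraMap _ (MvPolynomial (Fin n) Rp) (t : MvPolynomial (Fin n) R) =
        algebraMap _ (MvPolynomial (Fin n) Rp) H := by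
    intro g hg
    have hgk : f g = 0 := by
      have : g ∈ RingHom.ker f.toRingHom := hG ▸ Ideal.subset_span hg
      exact this
    obtain ⟨⟨Gg, tg⟩, hgt⟩ := IsLocalization.surj T g
    simp only at hgt
    have h0 : algebraMap S Sp (φ Gg) = 0 := by
      rw [← hfμ, ← hgt, map_mul, hgk, zero_mul]
    obtain ⟨m, hm⟩ := (IsLocalization.map_eq_zero_iff
      (Algebra.algebraMapSubmonoid S p.primeCompl) Sp (φ Gg)).mp h0
    obtain ⟨u, hu, hue⟩ := m.2
    refine ⟨MvPolynomial.C u * Gg, ?_, ⟨MvPolynomial.C u, u, hu, rfl⟩ * tg, ?_⟩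
    · rw [RingHom.mem_ker, map_mul, ← MvPolynomial.algebraMap_eq, AlgHom.commutes, hue]
      exact hm
    · rw [Submonoid.coe_mul, map_mul, map_mul, ← hgt]
      ring
  choose! H hH t ht using hGmem
  refine ⟨Ideal.span (H '' (G : Set _)), ?_, ?_, ?_⟩
  · rw [Ideal.span_le]
    rintro _ ⟨g, hg, rfl⟩
    exact hH g hg
  · exact ⟨(G.image H), by rw [Finset.coe_image]⟩
  · intro z hz
    have h1 : algebraMap _ (MvPolynomial (Fin n) Rp) z ∈
        Ideal.map (algebraMap _ (MvPolynomial (Fin n) Rp)) (Ideal.span (H '' (G : Set _))) := by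
      have h2 : algebraMap _ (MvPolynomial (Fin n) Rp) z ∈ RingHom.ker f.toRingHom := by
        rw [RingHom.mem_ker]
        change f _ = 0
        rw [hfμ, (RingHom.mem_ker).mp hz, map_zero]
      rw [← hG] at h2
      refine (Ideal.span_le.mpr ?_) h2
      intro g hg
      rw [SetLike.mem_coe, IsLocalization.mem_map_algebraMap_iff T]
      exact ⟨(⟨H g, Ideal.subset_span ⟨g, hg, rfl⟩⟩, t g), ht g hg⟩
    rw [IsLocalization.mem_map_algebraMap_iff T] at h1
    obtain ⟨⟨x, w⟩, hxw⟩ := h1
    simp only at hxw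
    rw [← map_mul, IsLocalization.eq_iff_exists T] at hxw
    obtain ⟨c, hc⟩ := hxw
    obtain ⟨τ, hτ, hτe⟩ := (c * w).2
    refine ⟨τ, hτ, ?_⟩
    rw [MvPolynomial.smul_eq_C_mul]
    change MvPolynomial.C τ * z ∈ _
    have hτe' : MvPolynomial.C τ = (c : MvPolynomial (Fin n) R) * (w : MvPolynomial (Fin n) R) := hτe
    rw [hτe', mul_assoc, mul_comm (w : MvPolynomial (Fin n) R) z, hc]
    exact Ideal.mul_mem_left _ _ x.2

theorem finitePresentation_algebra_of_locally {R S : Type u} [CommRing R] [CommRing S]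
    [Algebra R S] [Algebra.FiniteType R S] [Module.Flat R S] (s : Finset (PrimeSpectrum R))
    (hs : Function.Injective fun r : R => fun p : s =>
      algebraMap R (Localization.AtPrime p.1.asIdeal) r)
    (hloc : ∀ (p : Ideal R) [p.IsPrime],
      Algebra.FinitePresentation (Localization.AtPrime p)
        (Localization (Algebra.algebraMapSubmonoid S p.primeCompl))) :
    Algebra.FinitePresentation R S := by
  obtain ⟨n, φ, hφ⟩ := Algebra.FiniteType.iff_quotient_mvPolynomial''.mp
    (inferInstance : Algebra.FiniteType R S)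
  letI : Algebra (MvPolynomial (Fin n) R) S := φ.toRingHom.toAlgebra
  have : IsScalarTower R (MvPolynomial (Fin n) R) S :=
    IsScalarTower.of_algebraMap_eq (fun r => (φ.commutes r).symm)
  let e : (Fin 1 → MvPolynomial (Fin n) R) ≃ₗ[MvPolynomial (Fin n) R] MvPolynomial (Fin n) R :=
    LinearEquiv.funUnique (Fin 1) (MvPolynomial (Fin n) R) (MvPolynomial (Fin n) R)
  let π : (Fin 1 → MvPolynomial (Fin n) R) →ₗ[MvPolynomial (Fin n) R] S :=
    (Algebra.linearMap (MvPolynomial (Fin n) R) S) ∘ₗ e.toLinearMap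
  have hπ : Function.Surjective π := fun y => by
    obtain ⟨G, rfl⟩ := hφ y
    exact ⟨e.symm G, by simp [π]; rfl⟩
  have hkerπ : ∀ z, z ∈ LinearMap.ker π ↔ e z ∈ RingHom.ker φ := fun z => Iff.rfl
  have hK : (LinearMap.ker π).FG := by
    refine fg_ker_of_locally π hπ s hs ?_
    intro p _
    obtain ⟨I', hle, hfg, hI'⟩ := exists_fg_ideal_of_fp_localization φ hφ p (hloc p)
    refine ⟨Submodule.map e.symm.toLinearMap I', ?_, Submodule.FG.map e.symm.toLinearMap hfg, ?_⟩
    · rintro _ ⟨x, hx, rfl⟩
      rw [hkerπ]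
      simpa using hle hx
    · intro z hz
      obtain ⟨t, ht, htz⟩ := hI' (e z) ((hkerπ z).mp hz)
      refine ⟨t, ht, e (t • z), ?_, by simp⟩
      have : e (t • z) = t • e z := LinearMap.map_smul_of_tower e.toLinearMap t z
      rw [this]
      exact htz
  have hfg : (RingHom.ker φ.toRingHom).FG := by
    have : (RingHom.ker φ.toRingHom : Submodule _ _) = Submodule.map e.toLinearMap (LinearMap.ker π) := by
      ext x
      constructor
      · intro hx
        exact ⟨e.symm x, (hkerπ _).mpr (by simpa using hx), by simp⟩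
      · rintro ⟨z, hz, rfl⟩
        exact (hkerπ z).mp hz
    rw [show (RingHom.ker φ.toRingHom).FG ↔ (RingHom.ker φ.toRingHom : Submodule _ _).FG from Iff.rfl, this]
    exact hK.map _
  exact Algebra.FinitePresentation.of_surjective hφ hfg

end Groth.Agent.Lib.helper3.FpLocal
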