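import Mathlib
import Groth.Prelude.Def_FlatCA
import Groth.Agent.Lib.Helper3.FreeLocalInj1
import Groth.Agent.Lib.Helper3.UnivInjFib1

/-!
# Fibrewise regular elements act universally injectively on free modules over a local ring
(helper3; used by S9011)
-/

set_option autoImplicit false
set_option linter.style.haveILetI false
set_option linter.unusedSectionVars false
universe u

open TensorProduct IsLocalRing

namespace Groth.Agent.Lib.helper3.FreeLocalInj

variable {R S : Type u} [CommRing R] [IsLocalRing R] [CommRing S] [Algebra R S]
  (N : Type u) [AddCommGroup N] [Module S N] [Module R N] [IsScalarTower R S N]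
  [Module.Free R N]

theorem lTensor_lsmul_injective (s : S) (hs : s ∈ FlatCA.nzdFiber R S N)
    (Q : Type u) [AddCommGroup Q] [Module R Q] :
    Function.Injective (((LinearMap.lsmul S N s).restrictScalars R).lTensor Q) := by
  have hreg := UnivInjFib.isSMulRegular_quot_of_mem_nzd (maximalIdeal R) N s hs
  apply lTensor_injective_of_free
  intro x hx
  have key : ∀ y : N, y ∈ maximalIdeal R • (⊤ : Submodule R N) ↔
      y ∈ (maximalIdeal R).map (algebraMap R S) • (⊤ : Submodule S N) := by
    intro y
    have := Ideal.smul_restrictScalars (maximalIdeal R) (⊤ : Submodule S N)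
    rw [Submodule.restrictScalars_top] at this
    rw [← this]
    rfl
  rw [key] at hx ⊢
  have hx' : s • x ∈ (maximalIdeal R).map (algebraMap R S) • (⊤ : Submodule S N) := hx
  have h0 : s • (Submodule.Quotient.mk x :
      N ⧸ ((maximalIdeal R).map (algebraMap R S) • (⊤ : Submodule S N))) = s • 0 := by
    rw [smul_zero, ← Submodule.Quotient.mk_smul]
    exact (Submodule.Quotient.mk_eq_zero _).mpr hx'
  exact (Submodule.Quotient.mk_eq_zero _).mp (hreg h0)

theorem lTensor_mkLinearMap_injective (Q : Type u) [AddCommGroup Q] [Module R Q] :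
    Function.Injective
      (((LocalizedModule.mkLinearMap (FlatCA.nzdFiber R S N) N).restrictScalars R).lTensor Q) := by
  rw [LinearMap.lTensor_inj_iff_rTensor_inj, injective_iff_map_eq_zero]
  intro y hy
  have hloc : IsLocalizedModule (FlatCA.nzdFiber R S N)
      (AlgebraTensorModule.rTensor R Q (LocalizedModule.mkLinearMap (FlatCA.nzdFiber R S N) N)) :=
    inferInstance
  have hy' : AlgebraTensorModule.rTensor R Q
      (LocalizedModule.mkLinearMap (FlatCA.nzdFiber R S N) N) y = 0 := hy
  obtain ⟨⟨s, hs⟩, hsy⟩ := (IsLocalizedModule.eq_zero_iff (FlatCA.nzdFiber R S N) _).mp hy'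
  have key : ∀ z : N ⊗[R] Q, ((LinearMap.lsmul S N s).restrictScalars R).rTensor Q z = s • z := by
    intro z
    induction z using TensorProduct.induction_on with
    | zero => simp
    | tmul n q => rfl
    | add a b ha hb => rw [map_add, smul_add, ha, hb]
  have hsy' : ((LinearMap.lsmul S N s).restrictScalars R).rTensor Q y = 0 := by
    rw [key]
    exact hsy
  have hinj := (LinearMap.lTensor_inj_iff_rTensor_inj _ _).mp (lTensor_lsmul_injective N s hs Q)
  exact (injective_iff_map_eq_zero _).mp hinj y hsy'

end Groth.Agent.Lib.helper3.FreeLocalInj
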