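import Mathlib
import Groth.Agent.Lib.Helper3.FrobRed

/-!
Frobenius criterion for geometric reducedness with a test *ring* (helper3): if `k''` is a nontrivial
`k`-algebra containing `p`-th roots of all elements of `k` and `k'' ⊗ A` is reduced, then `K ⊗ A`
is reduced for all fields `K`.
-/

set_option autoImplicit false
universe u v

namespace Groth.Agent.Lib.helper3.FrobRed2

open TensorProduct

theorem linearIndependent_pow {k : Type u} [Field k] (p : ℕ) [Fact p.Prime] [CharP k p]
    (k' : Type v) [CommRing k'] [Nontrivial k'] [Algebra k k']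
    (hk' : ∀ a : k, ∃ b : k', b ^ p = algebraMap k k' a)
    (A : Type u) [CommRing A] [Algebra k A] [_root_.IsReduced (k' ⊗[k] A)] {ι : Type*}
    (b : Module.Basis ι k A) : LinearIndependent k (fun i => (b i) ^ p) := by
  classical
  rw [linearIndependent_iff']
  intro s g hg i hi
  choose μ hμ using hk'
  have : Nontrivial A := ⟨b i, 0, b.ne_zero i⟩
  have hinj : Function.Injective (algebraMap k (k' ⊗[k] A)) := by
    have : Nontrivial (k' ⊗[k] A) :=
      ⟨(Algebra.TensorProduct.basis k' b) i, 0, (Algebra.TensorProduct.basis k' b).ne_zero i⟩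
    exact (algebraMap k (k' ⊗[k] A)).injective
  have : CharP (k' ⊗[k] A) p := charP_of_injective_algebraMap hinj p
  let y : k' ⊗[k] A := ∑ j ∈ s, μ (g j) ⊗ₜ[k] b j
  have hy : y ^ p = 0 := by
    simp only [y]
    rw [sum_pow_char]
    have : ∀ j ∈ s, (μ (g j) ⊗ₜ[k] b j) ^ p = (1 : k') ⊗ₜ[k] (g j • (b j) ^ p) := by
      intro j _
      rw [Algebra.TensorProduct.tmul_pow, hμ, Algebra.algebraMap_eq_smul_one,
        TensorProduct.smul_tmul]
    rw [Finset.sum_congr rfl this, ← TensorProduct.tmul_sum, hg, TensorProduct.tmul_zero]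
  have hy0 : y = 0 := IsNilpotent.eq_zero ⟨p, hy⟩
  have hsum : ∑ j ∈ s, μ (g j) • (Algebra.TensorProduct.basis k' b) j = 0 := by
    rw [← hy0]
    simp only [y]
    refine Finset.sum_congr rfl fun j _ => ?_
    rw [Algebra.TensorProduct.basis_apply, TensorProduct.smul_tmul', smul_eq_mul, mul_one]
  have h0 := linearIndependent_iff'.mp (Algebra.TensorProduct.basis k' b).linearIndependent
    s (fun j => μ (g j)) hsum i hi
  have h1 : algebraMap k k' (g i) = 0 := by
    rw [← hμ, h0, zero_pow (Fact.out : p.Prime).ne_zero]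
  exact (map_eq_zero_iff _ (algebraMap k k').injective).mp h1

theorem isReduced_tensor {k : Type u} [Field k] (p : ℕ) [Fact p.Prime] [CharP k p]
    (k' : Type v) [CommRing k'] [Nontrivial k'] [Algebra k k']
    (hk' : ∀ a : k, ∃ b : k', b ^ p = algebraMap k k' a)
    (A : Type u) [CommRing A] [Algebra k A] [_root_.IsReduced (k' ⊗[k] A)]
    (K : Type*) [Field K] [Algebra k K] : _root_.IsReduced (K ⊗[k] A) := by
  classical
  rcases subsingleton_or_nontrivial (K ⊗[k] A) with h | h
  · exact ⟨fun x _ => Subsingleton.elim _ _⟩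
  have hinj : Function.Injective (algebraMap k (K ⊗[k] A)) := (algebraMap k (K ⊗[k] A)).injective
  have : CharP (K ⊗[k] A) p := charP_of_injective_algebraMap hinj p
  rw [isReduced_iff_pow_one_lt p (Fact.out : p.Prime).one_lt]
  intro x hx
  let b := Module.Basis.ofVectorSpace k A
  let B := Algebra.TensorProduct.basis K b
  have hli : LinearIndependent K (fun i => (1 : K) ⊗ₜ[k] ((b i) ^ p)) :=
    Module.Flat.linearIndependent_one_tmul (linearIndependent_pow p k' hk' A b)
  have hx' : x = ∑ i ∈ (B.repr x).support, (B.repr x) i • ((1 : K) ⊗ₜ[k] b i) := by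
    conv_lhs => rw [← B.linearCombination_repr x, Finsupp.linearCombination_apply, Finsupp.sum]
    refine Finset.sum_congr rfl fun i _ => ?_
    rw [Algebra.TensorProduct.basis_apply]
  have hxp : ∑ i ∈ (B.repr x).support, ((B.repr x) i) ^ p • ((1 : K) ⊗ₜ[k] ((b i) ^ p)) = 0 := by
    have h2 : x ^ p =
        ∑ i ∈ (B.repr x).support, ((B.repr x) i) ^ p • ((1 : K) ⊗ₜ[k] ((b i) ^ p)) := by
      conv_lhs => rw [hx', sum_pow_char]
      refine Finset.sum_congr rfl fun i _ => ?_
      rw [smul_pow, Algebra.TensorProduct.tmul_pow, one_pow]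
    rw [← h2, hx]
  have h0 := linearIndependent_iff'.mp hli _ (fun i => ((B.repr x) i) ^ p) hxp
  have h1 : B.repr x = 0 := by
    ext i
    by_cases hi : i ∈ (B.repr x).support
    · exact pow_eq_zero_iff (Fact.out : p.Prime).ne_zero |>.mp (h0 i hi)
    · simpa using hi
  exact B.repr.map_eq_zero_iff.mp h1

end Groth.Agent.Lib.helper3.FrobRed2
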