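import Groth.Agent.Lib.Helper3.UnivPoly
import Mathlib.RingTheory.MvPolynomial.Ideal
import Mathlib.Algebra.Ring.GeomSum

/-!
The universal polynomial expressing `ψ^j(γ^r) - j^r γ^r` through the `γ^i`, of weight `> r`
(helper3).
-/

set_option autoImplicit false
universe u

namespace Groth.Agent.Lib.helper3.UnivPoly

open MvPolynomial Finset

section

variable (m j r : ℕ)

local notation "RR" => MvPolynomial (Fin m) ℤ
local notation "II" => idealOfVars (Fin m) ℤ

/-- `U_k = (1 + X_k)^j - 1` -/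
noncomputable def Uk (k : Fin m) : RR := (1 + X k) ^ j - 1

/-- `H = e_r(U) - j^r e_r(X)` -/
noncomputable def Hpoly : RR :=
  aeval (Uk m j) (esymm (Fin m) ℤ r) - C ((j : ℤ) ^ r) * esymm (Fin m) ℤ r

theorem X_mem_idealOfVars (k : Fin m) : (X k : RR) ∈ II :=
  Ideal.subset_span ⟨k, rfl⟩

theorem one_add_X_pow_sub_one_mem (k : Fin m) (s : ℕ) : ((1 + X k : RR) ^ s - 1) ∈ II := by
  have h := mul_geom_sum (1 + X k : RR) s
  rw [add_sub_cancel_left] at h
  rw [← h]
  exact Ideal.mul_mem_right _ _ (X_mem_idealOfVars m k)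

theorem Uk_mem (k : Fin m) : Uk m j k ∈ II := one_add_X_pow_sub_one_mem m k j

theorem Uk_sub_mem (k : Fin m) : Uk m j k - C (j : ℤ) * X k ∈ II ^ 2 := by
  have h := mul_geom_sum (1 + X k : RR) j
  rw [add_sub_cancel_left] at h
  have h2 : Uk m j k - C (j : ℤ) * X k =
      X k * ∑ s ∈ range j, ((1 + X k : RR) ^ s - 1) := by
    rw [Finset.sum_sub_distrib, Finset.sum_const, Finset.card_range, mul_sub, h, Uk]
    simp
    ring
  rw [h2, pow_two]
  exact Ideal.mul_mem_mul (X_mem_idealOfVars m k)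
    (Ideal.sum_mem _ fun s _ => one_add_X_pow_sub_one_mem m k s)

theorem prod_sub_prod_mem {ι : Type*} (t : Finset ι) {R : Type*} [CommRing R] (I : Ideal R)
    (u w : ι → R) (hw : ∀ k ∈ t, w k ∈ I) (huw : ∀ k ∈ t, u k - w k ∈ I ^ 2) :
    (∏ k ∈ t, u k - ∏ k ∈ t, w k ∈ I ^ (t.card + 1)) ∧ ∏ k ∈ t, w k ∈ I ^ t.card := by
  classical
  induction t using Finset.induction_on with
  | empty => simp
  | insert a t ha ih =>
    have ih' := ih (fun k hk => hw k (Finset.mem_insert_of_mem hk))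
      (fun k hk => huw k (Finset.mem_insert_of_mem hk))
    have hwa := hw a (Finset.mem_insert_self a t)
    have hua := huw a (Finset.mem_insert_self a t)
    have hu_a : u a ∈ I := by
      have : u a = (u a - w a) + w a := by ring
      rw [this]
      exact Ideal.add_mem _ (Ideal.pow_le_self two_ne_zero hua) hwa
    rw [Finset.prod_insert ha, Finset.prod_insert ha, Finset.card_insert_of_notMem ha]
    refine ⟨?_, ?_⟩
    · have e : u a * ∏ k ∈ t, u k - w a * ∏ k ∈ t, w k =
          u a * (∏ k ∈ t, u k - ∏ k ∈ t, w k) + (u a - w a) * ∏ k ∈ t, w k := by ring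
      rw [e]
      refine Ideal.add_mem _ ?_ ?_
      · have := Ideal.mul_mem_mul hu_a ih'.1
        rwa [← pow_succ'] at this
      · have := Ideal.mul_mem_mul hua ih'.2
        rwa [← pow_add, add_comm 2, ] at this
    · have := Ideal.mul_mem_mul hwa ih'.2
      rwa [← pow_succ'] at this

theorem Hpoly_mem : Hpoly m j r ∈ II ^ (r + 1) := by
  rw [Hpoly, esymm, map_sum, Finset.mul_sum, ← Finset.sum_sub_distrib]
  refine Ideal.sum_mem _ fun t ht => ?_
  have ht' := Finset.mem_powersetCard.mp ht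
  have h := (prod_sub_prod_mem t II (Uk m j) (fun k => C (j : ℤ) * X k)
    (fun k _ => Ideal.mul_mem_left _ _ (X_mem_idealOfVars m k))
    (fun k _ => Uk_sub_mem m j k)).1
  rw [ht'.2] at h
  have e1 : aeval (Uk m j) (∏ i ∈ t, (X i : RR)) = ∏ k ∈ t, Uk m j k := by
    rw [map_prod]
    exact Finset.prod_congr rfl fun i _ => aeval_X _ _
  have e2 : C ((j : ℤ) ^ r) * ∏ i ∈ t, (X i : RR) = ∏ k ∈ t, (C (j : ℤ) * X k) := by
    rw [Finset.prod_mul_distrib, Finset.prod_const, ht'.2, map_pow]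
  rw [e1, e2]
  exact h

theorem Hpoly_isSymmetric : (Hpoly m j r).IsSymmetric := by
  intro σ
  rw [Hpoly, map_sub, map_mul, rename_C, esymm_isSymmetric (Fin m) ℤ r σ]
  congr 1
  have h1 : rename σ (aeval (Uk m j) (esymm (Fin m) ℤ r)) =
      aeval (fun k => rename σ (Uk m j k)) (esymm (Fin m) ℤ r) := by
    rw [← comp_aeval_apply]
  have h2 : (fun k => rename σ (Uk m j k)) = (Uk m j) ∘ σ := by
    funext k
    simp [Uk]
  rw [h1, h2, ← aeval_rename, esymm_isSymmetric (Fin m) ℤ r σ]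

/-- the universal polynomial `Φ` with `Φ(e_1, …, e_m) = H`, all of whose monomials have weight
`> r` -/
theorem exists_Phi : ∃ Φ : RR,
    aeval (fun i : Fin m => esymm (Fin m) ℤ ((i : ℕ) + 1)) Φ = Hpoly m j r ∧
    ∀ d ∈ Φ.support, r + 1 ≤ Finsupp.weight (fun i : Fin m => (i : ℕ) + 1) d := by
  classical
  obtain ⟨Φ, hΦ⟩ := esymmAlgHom_fin_surjective ℤ (le_refl m)
    ⟨Hpoly m j r, Hpoly_isSymmetric m j r⟩
  have hΦ' : aeval (fun i : Fin m => esymm (Fin m) ℤ ((i : ℕ) + 1)) Φ = Hpoly m j r := by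
    rw [← esymmAlgHom_apply, hΦ]
  refine ⟨Φ, hΦ', ?_⟩
  intro d hd
  by_contra hlt
  rw [not_le] at hlt
  set w₀ := Finsupp.weight (fun i : Fin m => (i : ℕ) + 1) d with hw₀
  have h1 := aeval_weightedHomogeneousComponent (fun i : Fin m => (i : ℕ) + 1) (1 : Fin m → ℕ)
    (fun i : Fin m => esymm (Fin m) ℤ ((i : ℕ) + 1))
    (fun k => isHomogeneous_esymm (Fin m) ℤ _) w₀ Φ
  rw [hΦ'] at h1
  have h2 : weightedHomogeneousComponent (1 : Fin m → ℕ) w₀ (Hpoly m j r) = 0 := by
    ext x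
    have := coeff_homogeneousComponent w₀ (Hpoly m j r) x
    rw [homogeneousComponent] at this
    rw [this, coeff_zero]
    split_ifs with hx
    · exact (mem_pow_idealOfVars_iff' (r + 1) (Hpoly m j r)).mp (Hpoly_mem m j r) x (by omega)
    · rfl
  rw [h2] at h1
  have h3 : weightedHomogeneousComponent (fun i : Fin m => (i : ℕ) + 1) w₀ Φ = 0 := by
    have hinj := esymmAlgHom_fin_injective ℤ (le_refl m)
    apply hinj
    apply Subtype.ext
    rw [esymmAlgHom_apply, h1, map_zero]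
    rfl
  have h4 := congrArg (coeff d) h3
  rw [coeff_weightedHomogeneousComponent, if_pos rfl, coeff_zero] at h4
  exact (mem_support_iff.mp hd) h4

end

end Groth.Agent.Lib.helper3.UnivPoly
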