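import Groth.Agent.Lib.Helper3.GammaLib
import Groth.Agent.Lib.Helper3.BottLib
import Groth.Agent.Lib.Helper3.GammaAdamsPoly

/-!
Adams operations and the γ-filtration: `ψ^j(x) - j^n x ∈ F^{n+1}` for `x ∈ F^n` (helper3).
-/

set_option autoImplicit false
universe u

namespace Groth.Agent.Lib.helper3.GammaLib

open LambdaRing Finset
open Groth.Agent.Lib.helper3.AdamsOp Groth.Agent.Lib.helper3.UnivPoly

variable {K : Type u} [CommRing K] [LambdaOps K] (P : PosStructure K)

section Basic
variable {A : Type*} [CommRing A] [LambdaOps A]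

open PowerSeries in
theorem lam_pos_zero (j : ℕ) (hj : 0 < j) : LambdaOps.lam j (0 : A) = 0 := by
  have h := Groth.Agent.S3289.lamSeries_add (0 : A) 0
  rw [add_zero] at h
  have hc : constantCoeff (lamSeries (0 : A)) = 1 := by
    rw [← PowerSeries.coeff_zero_eq_constantCoeff_apply, lamSeries, coeff_mk, LambdaOps.lam_zero]
  have hu : IsUnit (lamSeries (0 : A)) := by
    rw [PowerSeries.isUnit_iff_constantCoeff, hc]
    exact isUnit_one
  have h2 : lamSeries (0 : A) * 1 = lamSeries (0 : A) * lamSeries (0 : A) := by rw [mul_one, ← h]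
  have h3 : lamSeries (0 : A) = 1 := (hu.mul_left_cancel h2).symm
  have h4 := congrArg (coeff j) h3
  rw [lamSeries, coeff_mk, coeff_one, if_neg hj.ne'] at h4
  exact h4

theorem gamma_zero_left (x : A) : gamma 0 x = 1 := by
  rw [gamma, if_pos rfl]

theorem gamma_pos_zero (k : ℕ) (hk : 0 < k) : gamma k (0 : A) = 0 := by
  rw [gamma, if_neg hk.ne']
  refine Finset.sum_eq_zero fun j _ => ?_
  split_ifs with hj
  · rw [mul_zero]
  · rw [lam_pos_zero j (Nat.pos_of_ne_zero hj), mul_zero]

theorem gamma_one_left (x : A) : gamma 1 x = x := by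
  rw [gamma, if_neg one_ne_zero]
  simp [Finset.sum_range_succ, LambdaOps.lam_one]

/-- `γ^b(-x) = -Σ_{c<b} γ^{c+1}(x) γ^{b-c-1}(-x)` for `b ≥ 1` -/
theorem gamma_neg_rec (x : A) (b : ℕ) (hb : 0 < b) :
    gamma b (-x) = -∑ c ∈ Finset.range b, gamma (c + 1) x * gamma (b - (c + 1)) (-x) := by
  have h := Groth.Agent.S3289.result A b x (-x)
  rw [add_neg_cancel, gamma_pos_zero b hb, Finset.sum_range_succ', gamma_zero_left, one_mul,
    Nat.sub_zero] at h
  rw [eq_neg_iff_add_eq_zero, add_comm]
  exact h.symm

/-- a ring homomorphism commuting with the `λ^i` commutes with the `γ^k` -/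
theorem map_gamma {B : Type*} [CommRing B] [LambdaOps B] (g : A →+* B)
    (hg : ∀ (i : ℕ) (x : A), g (LambdaOps.lam i x) = LambdaOps.lam i (g x)) (k : ℕ) (y : A) :
    g (gamma k y) = gamma k (g y) := by
  simp only [gamma]
  split_ifs with hk
  · exact map_one g
  · rw [map_sum]
    refine Finset.sum_congr rfl fun j _ => ?_
    rw [map_mul, map_natCast]
    split_ifs
    · rw [map_zero]
    · rw [hg]

end Basic

theorem gammaFiltration_zero : gammaFiltration P 0 = ⊤ := by
  rw [gammaFiltration, if_pos rfl]

theorem gammaFiltration_antitone {n n' : ℕ} (h : n ≤ n') :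
    gammaFiltration P n' ≤ gammaFiltration P n := by
  by_cases hn : n = 0
  · subst hn
    rw [gammaFiltration_zero]
    exact le_top
  · have hn' : n' ≠ 0 := by omega
    rw [gammaFiltration, if_neg hn', gammaFiltration, if_neg hn]
    apply AddSubgroup.closure_mono
    rintro y ⟨l, hl, hsum, rfl⟩
    exact ⟨l, hl, h.trans hsum, rfl⟩

theorem gamma_mem {x : K} (hx : P.aug x = 0) (i : ℕ) : gamma i x ∈ gammaFiltration P i := by
  by_cases hi : i = 0
  · subst hi
    rw [gammaFiltration_zero]
    trivial
  · rw [gammaFiltration, if_neg hi]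
    apply AddSubgroup.subset_closure
    refine ⟨[(i, x)], ?_, ?_, ?_⟩
    · intro a ha
      rw [List.mem_singleton] at ha
      subst ha
      exact hx
    · simp
    · simp

theorem mul_mem_filtration {m n : ℕ} {x y : K} (hx : x ∈ gammaFiltration P m)
    (hy : y ∈ gammaFiltration P n) : x * y ∈ gammaFiltration P (m + n) :=
  (Groth.Agent.S3291.result K P).2 m n x y hx hy

theorem smul_mem_filtration (n : ℕ) (a : K) {x : K} (hx : x ∈ gammaFiltration P n) :
    a * x ∈ gammaFiltration P n :=
  (Groth.Agent.S3291.result K P).1 n a x hx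

theorem one_mem_filtration_zero : (1 : K) ∈ gammaFiltration P 0 := by
  rw [gammaFiltration_zero]; trivial

theorem pow_mem_filtration {s : ℕ} {x : K} (hx : x ∈ gammaFiltration P s) (n : ℕ) :
    x ^ n ∈ gammaFiltration P (n * s) := by
  induction n with
  | zero => rw [pow_zero, zero_mul]; exact one_mem_filtration_zero P
  | succ n ih =>
    rw [pow_succ, Nat.succ_mul]
    exact mul_mem_filtration P ih hx

theorem prod_mem_filtration {ι : Type*} (T : Finset ι) (y : ι → K) (s : ι → ℕ)
    (h : ∀ i ∈ T, y i ∈ gammaFiltration P (s i)) :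
    ∏ i ∈ T, y i ∈ gammaFiltration P (∑ i ∈ T, s i) := by
  classical
  induction T using Finset.induction_on with
  | empty => simp only [Finset.prod_empty, Finset.sum_empty]; exact one_mem_filtration_zero P
  | insert a T ha ih =>
    rw [Finset.prod_insert ha, Finset.sum_insert ha]
    exact mul_mem_filtration P (h a (Finset.mem_insert_self a T))
      (ih fun i hi => h i (Finset.mem_insert_of_mem hi))

/-- `A ≡ A₀` modulo `F^{s+1}` with `A₀ ∈ F^s` -/
def Cong (s : ℕ) (A A₀ : K) : Prop :=
  A - A₀ ∈ gammaFiltration P (s + 1) ∧ A₀ ∈ gammaFiltration P s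

variable {P}

theorem Cong.mul {s t : ℕ} {A A₀ B B₀ : K} (h1 : Cong P s A A₀) (h2 : Cong P t B B₀) :
    Cong P (s + t) (A * B) (A₀ * B₀) := by
  refine ⟨?_, mul_mem_filtration P h1.2 h2.2⟩
  have e : A * B - A₀ * B₀ = (A - A₀) * (B - B₀) + (A - A₀) * B₀ + A₀ * (B - B₀) := by ring
  rw [e]
  refine AddSubgroup.add_mem _ (AddSubgroup.add_mem _ ?_ ?_) ?_
  · exact gammaFiltration_antitone P (by omega) (mul_mem_filtration P h1.1 h2.1)
  · have := mul_mem_filtration P h1.1 h2.2
    rwa [show s + 1 + t = s + t + 1 by omega] at this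
  · have := mul_mem_filtration P h1.2 h2.1
    rwa [show s + (t + 1) = s + t + 1 by omega] at this

theorem Cong.sum {ι : Type*} (T : Finset ι) {s : ℕ} {A A₀ : ι → K}
    (h : ∀ i ∈ T, Cong P s (A i) (A₀ i)) : Cong P s (∑ i ∈ T, A i) (∑ i ∈ T, A₀ i) := by
  refine ⟨?_, AddSubgroup.sum_mem _ fun i hi => (h i hi).2⟩
  rw [← Finset.sum_sub_distrib]
  exact AddSubgroup.sum_mem _ fun i hi => (h i hi).1

theorem Cong.neg {s : ℕ} {A A₀ : K} (h : Cong P s A A₀) : Cong P s (-A) (-A₀) := by
  refine ⟨?_, AddSubgroup.neg_mem _ h.2⟩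
  have e : -A - -A₀ = -(A - A₀) := by ring
  rw [e]
  exact AddSubgroup.neg_mem _ h.1

variable (P)

/-- evaluating a polynomial all of whose monomials have weight `> r` at the `γ^i(a)` lands in
`F^{r+1}` -/
theorem aeval_gamma_mem {m : ℕ} (Φ : MvPolynomial (Fin m) ℤ) (r : ℕ)
    (hΦ : ∀ d ∈ Φ.support, r + 1 ≤ Finsupp.weight (fun i : Fin m => (i : ℕ) + 1) d)
    {a : K} (ha : P.aug a = 0) :
    MvPolynomial.aeval (fun i : Fin m => gamma ((i : ℕ) + 1) a) Φ ∈ gammaFiltration P (r + 1) := by
  rw [MvPolynomial.aeval_def, MvPolynomial.eval₂_eq']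
  refine AddSubgroup.sum_mem _ fun d hd => ?_
  apply smul_mem_filtration
  have h1 := prod_mem_filtration P (Finset.univ : Finset (Fin m))
    (fun i => gamma ((i : ℕ) + 1) a ^ d i) (fun i => d i * ((i : ℕ) + 1))
    (fun i _ => pow_mem_filtration P (gamma_mem P ha _) (d i))
  refine gammaFiltration_antitone P ?_ h1
  have h2 := hΦ d hd
  rw [Finsupp.weight_apply, Finsupp.sum_fintype _ _ (fun i => by simp)] at h2
  simpa [smul_eq_mul] using h2

section Adams

variable (hK : HasSplitting K P) (j : ℕ)

/-- `ψ^j(γ^r x) ≡ j^r γ^r(x)` modulo `F^{r+1}` for all `r` -/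
def InS (x : K) : Prop :=
  P.aug x = 0 ∧ ∀ r : ℕ, adams P j (gamma r x) - (j : K) ^ r * gamma r x ∈ gammaFiltration P (r + 1)

variable {P j}

theorem InS.cong {x : K} (h : InS P j x) (r : ℕ) :
    Cong P r (adams P j (gamma r x)) ((j : K) ^ r * gamma r x) :=
  ⟨h.2 r, smul_mem_filtration P r _ (gamma_mem P h.1 r)⟩

include hK

theorem InS.add {x y : K} (hx : InS P j x) (hy : InS P j y) : InS P j (x + y) := by
  refine ⟨by rw [map_add, hx.1, hy.1, add_zero], fun r => ?_⟩
  have h1 : adams P j (gamma r (x + y)) =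
      ∑ i ∈ range (r + 1), adams P j (gamma i x) * adams P j (gamma (r - i) y) := by
    rw [Groth.Agent.S3289.result]
    have := map_sum (adamsHom P hK j) (fun i => gamma i x * gamma (r - i) y) (range (r + 1))
    rw [show adams P j (∑ i ∈ range (r + 1), gamma i x * gamma (r - i) y) =
      adamsHom P hK j (∑ i ∈ range (r + 1), gamma i x * gamma (r - i) y) from rfl, this]
    refine Finset.sum_congr rfl fun i _ => ?_
    exact adams_mul P hK j _ _
  have h2 : (j : K) ^ r * gamma r (x + y) =
      ∑ i ∈ range (r + 1), ((j : K) ^ i * gamma i x) * ((j : K) ^ (r - i) * gamma (r - i) y) := by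
    rw [Groth.Agent.S3289.result, Finset.mul_sum]
    refine Finset.sum_congr rfl fun i hi => ?_
    have hi' := Finset.mem_range.mp hi
    have : (j : K) ^ r = (j : K) ^ i * (j : K) ^ (r - i) := by
      rw [← pow_add, Nat.add_sub_cancel' (by omega)]
    rw [this]; ring
  rw [h1, h2]
  have hc : Cong P r (∑ i ∈ range (r + 1), adams P j (gamma i x) * adams P j (gamma (r - i) y))
      (∑ i ∈ range (r + 1), ((j : K) ^ i * gamma i x) * ((j : K) ^ (r - i) * gamma (r - i) y)) := by
    apply Cong.sum
    intro i hi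
    have hi' := Finset.mem_range.mp hi
    have := (hx.cong i).mul (hy.cong (r - i))
    rwa [Nat.add_sub_cancel' (by omega)] at this
  exact hc.1

omit hK in
theorem InS.zero : InS P j (0 : K) := by
  refine ⟨map_zero _, fun r => ?_⟩
  rcases Nat.eq_zero_or_pos r with hr | hr
  · subst hr
    rw [gamma_zero_left, adams_one, pow_zero, mul_one, sub_self]
    exact AddSubgroup.zero_mem _
  · rw [gamma_pos_zero r hr, adams_zero_right, mul_zero, sub_self]
    exact AddSubgroup.zero_mem _

theorem InS.neg {x : K} (hx : InS P j x) : InS P j (-x) := by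
  have haug : P.aug (-x) = 0 := by rw [map_neg, hx.1, neg_zero]
  refine ⟨haug, fun r => ?_⟩
  induction r using Nat.strong_induction_on with
  | _ r ih =>
    rcases Nat.eq_zero_or_pos r with hr | hr
    · subst hr
      rw [gamma_zero_left, adams_one, pow_zero, mul_one, sub_self]
      exact AddSubgroup.zero_mem _
    · have h1 : adams P j (gamma r (-x)) =
          -∑ c ∈ range r, adams P j (gamma (c + 1) x) * adams P j (gamma (r - (c + 1)) (-x)) := by
        rw [gamma_neg_rec x r hr, adams_neg]
        congr 1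
        have := map_sum (adamsHom P hK j) (fun c => gamma (c + 1) x * gamma (r - (c + 1)) (-x))
          (range r)
        rw [show adams P j (∑ c ∈ range r, gamma (c + 1) x * gamma (r - (c + 1)) (-x)) =
          adamsHom P hK j (∑ c ∈ range r, gamma (c + 1) x * gamma (r - (c + 1)) (-x)) from rfl,
          this]
        refine Finset.sum_congr rfl fun i _ => ?_
        exact adams_mul P hK j _ _
      have h2 : (j : K) ^ r * gamma r (-x) =
          -∑ c ∈ range r, ((j : K) ^ (c + 1) * gamma (c + 1) x) *
            ((j : K) ^ (r - (c + 1)) * gamma (r - (c + 1)) (-x)) := by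
        rw [gamma_neg_rec x r hr, mul_neg, Finset.mul_sum]
        congr 1
        refine Finset.sum_congr rfl fun c hc => ?_
        have hc' := Finset.mem_range.mp hc
        have : (j : K) ^ r = (j : K) ^ (c + 1) * (j : K) ^ (r - (c + 1)) := by
          rw [← pow_add, Nat.add_sub_cancel' (by omega)]
        rw [this]; ring
      rw [h1, h2]
      have hc : Cong P r
          (∑ c ∈ range r, adams P j (gamma (c + 1) x) * adams P j (gamma (r - (c + 1)) (-x)))
          (∑ c ∈ range r, ((j : K) ^ (c + 1) * gamma (c + 1) x) *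
            ((j : K) ^ (r - (c + 1)) * gamma (r - (c + 1)) (-x))) := by
        apply Cong.sum
        intro c hc
        have hc' := Finset.mem_range.mp hc
        have hneg : Cong P (r - (c + 1)) (adams P j (gamma (r - (c + 1)) (-x)))
            ((j : K) ^ (r - (c + 1)) * gamma (r - (c + 1)) (-x)) :=
          ⟨ih _ (by omega), smul_mem_filtration P _ _ (gamma_mem P haug _)⟩
        have := (hx.cong (c + 1)).mul hneg
        rwa [Nat.add_sub_cancel' (by omega)] at this
      exact hc.neg.1

/-- the key case: `e - ε(e)` for a positive element `e` -/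
theorem inS_pos_sub {e : K} (he : e ∈ P.pos) : InS P j (e - ((P.aug e).toNat : K)) := by
  have hpos := P.aug_pos e he
  obtain ⟨L, hL, f, hf, s, hs, hse⟩ := exists_splitting P hK e he
  obtain ⟨m, v, hv, hvs⟩ := exists_fin_family L.posStr s hs
  have hfe : f e = ∑ i, v i := by rw [hvs, hse]
  have hn : (P.aug e).toNat = m := by
    rw [← hf.aug_comp, hfe]
    exact toNat_aug_sum_lines L.posStr v hv
  rw [hn]
  have haug : P.aug (e - (m : K)) = 0 := by
    rw [map_sub, map_natCast]
    omega
  refine ⟨haug, fun r => ?_⟩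
  set z := e - (m : K) with hz
  obtain ⟨Φ, hΦ, hΦw⟩ := exists_Phi m j r
  -- it suffices to identify the element with the value of Φ
  suffices hkey : adams P j (gamma r z) - (j : K) ^ r * gamma r z =
      MvPolynomial.aeval (fun i : Fin m => gamma ((i : ℕ) + 1) z) Φ by
    rw [hkey]
    exact aeval_gamma_mem P Φ r hΦw haug
  apply hf.injective
  set a : Fin m → L.carrier := fun k => v k - 1 with ha
  have h1L : ∀ k : ℕ, 2 ≤ k → LambdaOps.lam k (1 : L.carrier) = 0 := by
    intro k hk
    exact L.posStr.lam_eq_zero 1 (isLine_one' L.posStr).1 k (by rw [map_one]; exact_mod_cast hk)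
  have hvy : ∀ (i : Fin m) (k : ℕ), 2 ≤ k → LambdaOps.lam k (v i) = 0 := by
    intro i k hk
    exact L.posStr.lam_eq_zero (v i) (hv i).1 k (by rw [(hv i).2]; exact_mod_cast hk)
  have hfgam : ∀ i : ℕ, f (gamma i z) = MvPolynomial.aeval a (MvPolynomial.esymm (Fin m) ℤ i) := by
    intro i
    rw [map_gamma f hf.isLambdaHom, hz, map_sub, map_natCast, hfe,
      Groth.Agent.S8651.result L.carrier h1L m v hvy i, MvPolynomial.esymm, map_sum]
    refine Finset.sum_congr rfl fun t _ => ?_
    rw [map_prod]
    refine Finset.prod_congr rfl fun k _ => ?_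
    rw [MvPolynomial.aeval_X]
  have hψa : ∀ k : Fin m, adams L.posStr j (a k) = MvPolynomial.aeval a (Uk m j k) := by
    intro k
    rw [ha, adams_sub, adams_one, adams_line L.posStr (hv k), Uk, map_sub, map_pow, map_add,
      map_one, MvPolynomial.aeval_X]
    ring
  have hL1 : f (adams P j (gamma r z)) =
      MvPolynomial.aeval a (MvPolynomial.aeval (Uk m j) (MvPolynomial.esymm (Fin m) ℤ r)) := by
    rw [adams_map P L.posStr f hf, hfgam,
      show adams L.posStr j (MvPolynomial.aeval a (MvPolynomial.esymm (Fin m) ℤ r)) =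
        adamsHom L.posStr hL j (MvPolynomial.aeval a (MvPolynomial.esymm (Fin m) ℤ r)) from rfl,
      map_aeval_int, MvPolynomial.comp_aeval_apply]
    have hfun : (fun i => (adamsHom L.posStr hL j) (a i)) =
        fun i => (MvPolynomial.aeval a) (Uk m j i) := by
      funext k
      exact hψa k
    rw [hfun]
  have hL2 : f ((j : K) ^ r * gamma r z) =
      MvPolynomial.aeval a (MvPolynomial.C ((j : ℤ) ^ r) * MvPolynomial.esymm (Fin m) ℤ r) := by
    rw [map_mul, map_pow, map_natCast, hfgam, map_mul, MvPolynomial.aeval_C]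
    simp
  rw [map_sub, hL1, hL2, ← map_sub, ← Hpoly, ← hΦ, MvPolynomial.comp_aeval_apply, map_aeval_int]
  have hfun : (fun i : Fin m => (MvPolynomial.aeval a) (MvPolynomial.esymm (Fin m) ℤ (↑i + 1))) =
      fun i : Fin m => f (gamma (↑i + 1) z) := by
    funext i
    rw [hfgam]
  rw [hfun]

/-- every element of augmentation zero satisfies the congruences -/
theorem inS_of_aug_eq_zero {x : K} (hx : P.aug x = 0) : InS P j x := by
  obtain ⟨e₁, e₂, he₁, he₂, rfl⟩ := P.exists_sub x
  have h1 := P.aug_pos e₁ he₁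
  have h2 := P.aug_pos e₂ he₂
  have haug : (P.aug e₁).toNat = (P.aug e₂).toNat := by
    rw [map_sub] at hx
    omega
  have e : e₁ - e₂ = (e₁ - ((P.aug e₁).toNat : K)) + -(e₂ - ((P.aug e₂).toNat : K)) := by
    rw [haug]; ring
  rw [e]
  exact InS.add hK (inS_pos_sub hK he₁) (InS.neg hK (inS_pos_sub hK he₂))

theorem aug_adams (x : K) : P.aug (adams P j x) = P.aug x := by
  have h := adams_adams P hK 0 j x
  rw [zero_mul, adams_zero, adams_zero] at h
  have h2 := congrArg P.aug h
  rwa [map_intCast, map_intCast] at h2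

omit hK in
theorem mem_filtration_one_of_aug {y : K} (hy : P.aug y = 0) : y ∈ gammaFiltration P 1 := by
  have := gamma_mem P hy 1
  rwa [gamma_one_left] at this

omit hK in
theorem list_prod_mem (l : List (ℕ × K)) (hl : ∀ p ∈ l, P.aug p.2 = 0) :
    (l.map fun p => gamma p.1 p.2).prod ∈ gammaFiltration P (l.map Prod.fst).sum := by
  induction l with
  | nil => simpa using one_mem_filtration_zero P
  | cons p l ih =>
    simp only [List.map_cons, List.prod_cons, List.sum_cons]
    exact mul_mem_filtration P (gamma_mem P (hl p List.mem_cons_self) p.1)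
      (ih fun q hq => hl q (List.mem_cons_of_mem _ hq))

theorem list_prod_cong (l : List (ℕ × K)) (hl : ∀ p ∈ l, P.aug p.2 = 0) :
    Cong P (l.map Prod.fst).sum (adams P j (l.map fun p => gamma p.1 p.2).prod)
      ((j : K) ^ (l.map Prod.fst).sum * (l.map fun p => gamma p.1 p.2).prod) := by
  induction l with
  | nil =>
    simp only [List.map_nil, List.prod_nil, List.sum_nil, pow_zero, mul_one]
    refine ⟨?_, one_mem_filtration_zero P⟩
    rw [adams_one, sub_self]
    exact AddSubgroup.zero_mem _
  | cons p l ih =>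
    simp only [List.map_cons, List.prod_cons, List.sum_cons]
    have h1 := (inS_of_aug_eq_zero hK (j := j) (hl p List.mem_cons_self)).cong p.1
    have h2 := ih fun q hq => hl q (List.mem_cons_of_mem _ hq)
    have h3 := h1.mul h2
    rw [adams_mul P hK]
    have e : (j : K) ^ (p.1 + (l.map Prod.fst).sum) *
        (gamma p.1 p.2 * (l.map fun p => gamma p.1 p.2).prod) =
        (j : K) ^ p.1 * gamma p.1 p.2 *
          ((j : K) ^ (l.map Prod.fst).sum * (l.map fun p => gamma p.1 p.2).prod) := by
      rw [pow_add]; ring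
    rw [e]
    exact h3

/-- `ψ^j(x) - j^n x ∈ F^{n+1}` for `x ∈ F^n` -/
theorem adams_sub_pow_mul_mem (n : ℕ) {x : K} (hx : x ∈ gammaFiltration P n) :
    adams P j x - (j : K) ^ n * x ∈ gammaFiltration P (n + 1) := by
  by_cases hn : n = 0
  · subst hn
    apply mem_filtration_one_of_aug
    rw [map_sub, aug_adams hK, pow_zero, one_mul, sub_self]
  · rw [gammaFiltration, if_neg hn] at hx
    induction hx using AddSubgroup.closure_induction with
    | mem y hy =>
      obtain ⟨l, hl, hsum, rfl⟩ := hy
      set R := (l.map Prod.fst).sum with hR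
      set y := (l.map fun p => gamma p.1 p.2).prod with hy
      have hc := list_prod_cong hK (j := j) l hl
      have hm := list_prod_mem (P := P) l hl
      rw [← hR, ← hy] at hc hm
      have e : adams P j y - (j : K) ^ n * y =
          (adams P j y - (j : K) ^ R * y) + ((j : K) ^ R - (j : K) ^ n) * y := by ring
      rw [e]
      rcases Nat.eq_or_lt_of_le hsum with heq | hlt
      · rw [← heq, sub_self, zero_mul, add_zero, heq]
        exact hc.1
      · refine AddSubgroup.add_mem _ (gammaFiltration_antitone P (by omega) hc.1) ?_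
        exact gammaFiltration_antitone P (by omega) (smul_mem_filtration P R _ hm)
    | zero =>
      rw [adams_zero_right, mul_zero, sub_self]
      exact AddSubgroup.zero_mem _
    | add a b _ _ ha hb =>
      have e : adams P j (a + b) - (j : K) ^ n * (a + b) =
          (adams P j a - (j : K) ^ n * a) + (adams P j b - (j : K) ^ n * b) := by
        rw [adams_add]; ring
      rw [e]
      exact AddSubgroup.add_mem _ ha hb
    | neg a _ ha =>
      have e : adams P j (-a) - (j : K) ^ n * (-a) = -(adams P j a - (j : K) ^ n * a) := by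
        rw [adams_neg]; ring
      rw [e]
      exact AddSubgroup.neg_mem _ ha

end Adams

end Groth.Agent.Lib.helper3.GammaLib
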