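import Groth.Agent.Lib.Helper3.GammaAdams

/-!
Elements whose `γ^k` lie in the `k`-th term of a multiplicative filtration by ideals (helper3).
-/

set_option autoImplicit false
universe u

namespace Groth.Agent.Lib.helper3.GammaFil

open Finset LambdaRing
open Groth.Agent.Lib.helper3.GammaLib

variable {A : Type u} [CommRing A]

/-- a multiplicative decreasing filtration by ideals with `V 0 = ⊤` -/
structure IsMulFil (V : ℕ → Ideal A) : Prop where
  zero : V 0 = ⊤
  mul : ∀ (i j : ℕ) (a b : A), a ∈ V i → b ∈ V j → a * b ∈ V (i + j)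
  anti : ∀ i j : ℕ, i ≤ j → V j ≤ V i

variable {V : ℕ → Ideal A}

theorem IsMulFil.one_mem (hV : IsMulFil V) : (1 : A) ∈ V 0 := by
  rw [hV.zero]; trivial

theorem IsMulFil.prod_mem (hV : IsMulFil V) {ι : Type*} (s : Finset ι) (f : ι → A) (d : ι → ℕ)
    (h : ∀ i ∈ s, f i ∈ V (d i)) : ∏ i ∈ s, f i ∈ V (∑ i ∈ s, d i) := by
  classical
  induction s using Finset.induction_on with
  | empty => simpa using hV.one_mem
  | insert a s ha ih =>
    rw [Finset.prod_insert ha, Finset.sum_insert ha]
    exact hV.mul _ _ _ _ (h a (Finset.mem_insert_self a s))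
      (ih fun i hi => h i (Finset.mem_insert_of_mem hi))

theorem IsMulFil.pow_mem (hV : IsMulFil V) {a : A} {i : ℕ} (h : a ∈ V i) (n : ℕ) :
    a ^ n ∈ V (n * i) := by
  induction n with
  | zero => simpa using hV.one_mem
  | succ n ih =>
    rw [pow_succ, Nat.succ_mul]
    exact hV.mul _ _ _ _ ih h

variable [LambdaOps A]

/-- all `γ^k z` lie in `V k` -/
def GOK (V : ℕ → Ideal A) (z : A) : Prop := ∀ k : ℕ, gamma k z ∈ V k

theorem GOK.zero (hV : IsMulFil V) : GOK V (0 : A) := by
  intro k
  rcases Nat.eq_zero_or_pos k with rfl | hk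
  · rw [gamma_zero_left]; exact hV.one_mem
  · rw [gamma_pos_zero k hk]; exact (V k).zero_mem

theorem GOK.add (hV : IsMulFil V) {x y : A} (hx : GOK V x) (hy : GOK V y) : GOK V (x + y) := by
  intro k
  rw [Groth.Agent.S3289.result A k x y]
  refine Ideal.sum_mem _ fun i hi => ?_
  rw [Finset.mem_range] at hi
  have h := hV.mul i (k - i) _ _ (hx i) (hy (k - i))
  rwa [Nat.add_sub_cancel' (by omega)] at h

theorem GOK.neg (hV : IsMulFil V) {x : A} (hx : GOK V x) : GOK V (-x) := by
  intro k
  induction k using Nat.strong_induction_on with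
  | _ k ih =>
    rcases Nat.eq_zero_or_pos k with rfl | hk
    · rw [gamma_zero_left]; exact hV.one_mem
    · rw [gamma_neg_rec x k hk]
      refine (V k).neg_mem (Ideal.sum_mem _ fun c hc => ?_)
      rw [Finset.mem_range] at hc
      have h := hV.mul (c + 1) (k - (c + 1)) _ _ (hx (c + 1)) (ih (k - (c + 1)) (by omega))
      rwa [Nat.add_sub_cancel' (by omega)] at h

theorem GOK.sub (hV : IsMulFil V) {x y : A} (hx : GOK V x) (hy : GOK V y) : GOK V (x - y) := by
  rw [sub_eq_add_neg]
  exact hx.add hV (hy.neg hV)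

theorem GOK.sum (hV : IsMulFil V) {ι : Type*} (s : Finset ι) (f : ι → A)
    (h : ∀ i ∈ s, GOK V (f i)) : GOK V (∑ i ∈ s, f i) := by
  classical
  induction s using Finset.induction_on with
  | empty => simpa using GOK.zero hV
  | insert a s ha ih =>
    rw [Finset.sum_insert ha]
    exact (h a (Finset.mem_insert_self a s)).add hV
      (ih fun i hi => h i (Finset.mem_insert_of_mem hi))

theorem GOK.mem_one {z : A} (hz : GOK V z) : z ∈ V 1 := by
  have h := hz 1
  rwa [gamma_one_left] at h

end Groth.Agent.Lib.helper3.GammaFil
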