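import Groth.Agent.Lib.Helper3.GammaFil
import Groth.Prelude.Def_LambdaSp

/-!
The γ-filtration `gammaFil ε` of an augmented ring as a multiplicative filtration, and the
criterion for it to lie in another multiplicative filtration (helper3).
-/

set_option autoImplicit false
universe u v

namespace Groth.Agent.Lib.helper3.GammaFil

open Finset LambdaRing
open Groth.Agent.Lib.helper3.GammaLib

variable {K : Type u} {A : Type v} [CommRing K] [CommRing A] [LambdaOps A] (ε : A →+* K)

theorem isMulFil_gammaFil : IsMulFil (gammaFil ε) where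
  zero := by
    rw [eq_top_iff]
    intro x _
    have h1 : (1 : A) ∈ gammaFil ε 0 :=
      Ideal.subset_span ⟨[], by simp, by simp, by simp⟩
    have := Ideal.mul_mem_left _ x h1
    rwa [mul_one] at this
  mul i j a b ha hb := by
    have h1 : a * b ∈ gammaFil ε i * gammaFil ε j := Ideal.mul_mem_mul ha hb
    rw [gammaFil, gammaFil, Ideal.span_mul_span] at h1
    refine Ideal.span_mono ?_ h1
    rintro z ⟨a, ⟨l₁, hl₁, hs₁, rfl⟩, b, ⟨l₂, hl₂, hs₂, rfl⟩, rfl⟩
    refine ⟨l₁ ++ l₂, ?_, ?_, ?_⟩
    · intro p hp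
      rcases List.mem_append.mp hp with h | h
      · exact hl₁ p h
      · exact hl₂ p h
    · rw [List.map_append, List.sum_append]
      exact Nat.add_le_add hs₁ hs₂
    · simp only [List.map_append, List.prod_append]
  anti i j hij := by
    apply Ideal.span_mono
    rintro y ⟨l, hl, hsum, rfl⟩
    exact ⟨l, hl, hij.trans hsum, rfl⟩

theorem gamma_mem_gammaFil {z : A} (hz : ε z = 0) (i : ℕ) : gamma i z ∈ gammaFil ε i := by
  refine Ideal.subset_span ⟨[(i, z)], ?_, ?_, ?_⟩
  · intro p hp
    rw [List.mem_singleton] at hp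
    subst hp
    exact hz
  · simp
  · simp

theorem gok_gammaFil {z : A} (hz : ε z = 0) : GOK (gammaFil ε) z :=
  fun i => gamma_mem_gammaFil ε hz i

/-- the γ-filtration is the smallest multiplicative filtration containing the `γ^i(z)`, `ε z = 0` -/
theorem gammaFil_le_of_gok {V : ℕ → Ideal A} (hV : IsMulFil V)
    (h : ∀ z : A, ε z = 0 → GOK V z) (k : ℕ) : gammaFil ε k ≤ V k := by
  rw [gammaFil, Ideal.span_le]
  rintro y ⟨l, hl, hsum, rfl⟩
  refine hV.anti _ _ hsum ?_
  clear hsum
  induction l with
  | nil => simpa using hV.one_mem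
  | cons p l ih =>
    simp only [List.map_cons, List.prod_cons, List.sum_cons]
    exact hV.mul _ _ _ _ (h p.2 (hl p List.mem_cons_self) p.1)
      (ih fun q hq => hl q (List.mem_cons_of_mem _ hq))

end Groth.Agent.Lib.helper3.GammaFil
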