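import Groth.Agent.Lib.Helper3.UnivGamma5

/-!
The leading term of `γ^m(γ^m x)`, and the product relation `c_{a,b} θ_a θ_b = θ_{a+b}`, tested in
the split λ-ring (helper3).
-/

set_option autoImplicit false
universe u

namespace Groth.Agent.Lib.helper3.UnivGamma

open MvPolynomial Finset LambdaRing
open Groth.Agent.Lib.helper3.GammaLib Groth.Agent.Lib.helper3.GammaFil
open Groth.Agent.Lib.helper3.LamPoly Groth.Agent.Lib.helper3.WeightLib
open Groth.Agent.Lib.helper3.Special

section Pre

variable {A : Type u} [CommRing A] [LambdaOps A]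

theorem aeval_Wγ_sub (hA : IsSpecial A) (p : ℕ) (x : A) :
    aeval (fun r : Fin ((p + 1) * (p + 1)) => gamma ((r : ℕ) + 1) x)
      (Wγ (p + 1) (p + 1) - C (theta (p + 1)) * Xn ((p + 1) * (p + 1)) p) =
      gamma (p + 1) (gamma (p + 1) x) - (theta (p + 1) : A) * gamma (p + 1) x := by
  have hpN : p < (p + 1) * (p + 1) := by nlinarith
  rw [map_sub, map_mul, aeval_C, aeval_Xn _ p hpN, eq_intCast,
    aeval_Wγ hA (p + 1) (p + 1) (by omega) (by omega) x]

end Pre

section Test

set_option warn.classDefReducibility false in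
attribute [local instance] lamOps

theorem weight_Wγ_sub (p : ℕ) :
    ∀ μ ∈ (Wγ (p + 1) (p + 1) - C (theta (p + 1)) * Xn ((p + 1) * (p + 1)) p).support,
      p + 2 ≤ wt (w1 ((p + 1) * (p + 1))) μ := by
  have hpN : p < (p + 1) * (p + 1) := by nlinarith
  set N := (p + 1) * (p + 1) with hN
  set f : Fin N → MvPolynomial (Fin N) ℚ := fun k => esymm (Fin N) ℚ ((k : ℕ) + 1) with hf
  apply weight_of_mem_pow (w1 N) f
  · intro k
    exact esymm_isHomogeneous (Fin N) _
  · intro Γ Γ' h
    have h' : eUR ℚ N (MvPolynomial.map (Int.castRingHom ℚ) Γ) =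
        eUR ℚ N (MvPolynomial.map (Int.castRingHom ℚ) Γ') := h
    exact MvPolynomial.map_injective _ Int.cast_injective (eUR_injective ℚ N h')
  · set x' : MvPolynomial (Fin N) ℚ := ∑ a : Fin N, X a with hx'
    have hg : ∀ k : ℕ, gamma k x' = esymm (Fin N) ℚ k := by
      intro k
      have := gamma_sum_X N (id : Fin N → Fin N) k
      simp only [id] at this
      rw [hx', this, esymm]
    have hfx : f = fun r : Fin N => gamma ((r : ℕ) + 1) x' := by
      rw [hf]
      funext k
      rw [hg]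
    have h1 : aeval f (MvPolynomial.map (Int.castRingHom ℚ)
        (Wγ (p + 1) (p + 1) - C (theta (p + 1)) * Xn N p)) =
        gamma (p + 1) (gamma (p + 1) x') -
          ((theta (p + 1) : ℤ) : MvPolynomial (Fin N) ℚ) * gamma (p + 1) x' := by
      rw [hfx, ← aeval_Wγ_sub (isSpecial (Fin N)) p x']
      exact aeval_map_algebraMap ℚ _ _
    rw [h1]
    have hz2 : gamma (p + 1) x' ∈ idealOfVars (Fin N) ℚ ^ (p + 1) := by
      have := gok_of_mem_ZS (sum_X_mem_ZS N (id : Fin N → Fin N)) (p + 1)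
      simp only [id] at this
      exact this
    have := gamma_sub_mem (p + 1) (by omega) hz2
    rw [Nat.add_sub_cancel] at this
    rw [theta, Nat.add_sub_cancel]
    exact this

theorem eq_zero_of_isHomogeneous_of_mem_pow {σ : Type*} {P : MvPolynomial σ ℚ} {d : ℕ}
    (hP : P.IsHomogeneous d) (hmem : P ∈ idealOfVars σ ℚ ^ (d + 1)) : P = 0 := by
  rw [mem_pow_idealOfVars_iff] at hmem
  by_contra hne
  obtain ⟨x, hx⟩ := MvPolynomial.support_nonempty.mpr hne
  have h1 := hmem x hx
  have h2 := hP.degree_eq_sum_deg_support hx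
  rw [← Finsupp.degree_apply] at h2
  omega

theorem cab_theta (p q : ℕ) :
    cab p q * theta (p + 1) * theta (q + 1) = theta (p + 1 + (q + 1)) := by
  set σ := Fin (p + 1) ⊕ Fin (q + 1) with hσ
  set I := idealOfVars σ ℚ with hI
  set y : MvPolynomial σ ℚ := ∏ i : Fin (p + 1), X (Sum.inl i) with hy
  set y' : MvPolynomial σ ℚ := ∏ j : Fin (q + 1), X (Sum.inr j) with hy'
  have hyZ : y ∈ ZS σ := prod_mem_ZS univ univ_nonempty _ (fun i _ => X_mem_ZS _)
  have hyZ' : y' ∈ ZS σ := prod_mem_ZS univ univ_nonempty _ (fun i _ => X_mem_ZS _)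
  have hyI : y ∈ I ^ (p + 1) := by
    have := Ideal.prod_mem_prod (s := (univ : Finset (Fin (p + 1)))) (I := fun _ => I)
      (x := fun i => (X (Sum.inl i) : MvPolynomial σ ℚ)) (fun i _ => X_mem_vars _)
    rwa [Finset.prod_const, Finset.card_univ, Fintype.card_fin] at this
  have hyI' : y' ∈ I ^ (q + 1) := by
    have := Ideal.prod_mem_prod (s := (univ : Finset (Fin (q + 1)))) (I := fun _ => I)
      (x := fun i => (X (Sum.inr i) : MvPolynomial σ ℚ)) (fun i _ => X_mem_vars _)
    rwa [Finset.prod_const, Finset.card_univ, Fintype.card_fin] at this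
  have hV := isMulFil_VJ (σ := σ)
  have hgs : GOK (Vmax (VJ σ) (p + 1)) y := by
    rw [gok_Vmax_iff]
    intro i hi
    rcases le_total i (p + 1) with h | h
    · rw [max_eq_right h]; exact gamma_mem_pow hyI i hi
    · rw [max_eq_left h]; exact gok_of_mem_ZS hyZ i
  have hgs' : GOK (Vmax (VJ σ) (q + 1)) y' := by
    rw [gok_Vmax_iff]
    intro i hi
    rcases le_total i (q + 1) with h | h
    · rw [max_eq_right h]; exact gamma_mem_pow hyI' i hi
    · rw [max_eq_left h]; exact gok_of_mem_ZS hyZ' i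
  set n := p + 1 + (q + 1) with hn
  have E1 : gamma n (y * y') - (cab p q : MvPolynomial σ ℚ) * (gamma (p + 1) y * gamma (q + 1) y') ∈
      I ^ (n + 1) := gamma_mul_sub_mem (isSpecial σ) hV p q hgs hgs'
  have hyy : y * y' ∈ I ^ n := by
    rw [hn, pow_add]; exact Ideal.mul_mem_mul hyI hyI'
  have E2 := gamma_sub_mem n (by omega) hyy
  have E3 := gamma_sub_mem (p + 1) (by omega) hyI
  have E4 := gamma_sub_mem (q + 1) (by omega) hyI'
  have hG' : gamma (q + 1) y' ∈ I ^ (q + 1) := gamma_mem_pow hyI' _ (by omega)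
  have e5 : (gamma (p + 1) y - ((theta (p + 1) : ℤ) : MvPolynomial σ ℚ) * y) * gamma (q + 1) y' ∈
      I ^ (n + 1) := by
    have := Ideal.mul_mem_mul E3 hG'
    rw [← pow_add] at this
    have e : p + 1 + 1 + (q + 1) = n + 1 := by omega
    rw [e] at this
    exact this
  have e6 : y * (gamma (q + 1) y' - ((theta (q + 1) : ℤ) : MvPolynomial σ ℚ) * y') ∈
      I ^ (n + 1) := by
    have := Ideal.mul_mem_mul hyI E4
    rw [← pow_add] at this
    exact this
  have hkey : (((cab p q * theta (p + 1) * theta (q + 1) - theta n : ℤ) : ℤ) : MvPolynomial σ ℚ) *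
      (y * y') ∈ I ^ (n + 1) := by
    have : (((cab p q * theta (p + 1) * theta (q + 1) - theta n : ℤ) : ℤ) : MvPolynomial σ ℚ) *
        (y * y') =
        (gamma n (y * y') - ((theta n : ℤ) : MvPolynomial σ ℚ) * (y * y')) -
        (gamma n (y * y') - (cab p q : MvPolynomial σ ℚ) * (gamma (p + 1) y * gamma (q + 1) y')) -
        (cab p q : MvPolynomial σ ℚ) *
          ((gamma (p + 1) y - ((theta (p + 1) : ℤ) : MvPolynomial σ ℚ) * y) * gamma (q + 1) y' +
           ((theta (p + 1) : ℤ) : MvPolynomial σ ℚ) *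
            (y * (gamma (q + 1) y' - ((theta (q + 1) : ℤ) : MvPolynomial σ ℚ) * y'))) := by
      push_cast; ring
    rw [this]
    refine Ideal.sub_mem _ (Ideal.sub_mem _ ?_ E1) (Ideal.mul_mem_left _ _
      (Ideal.add_mem _ e5 (Ideal.mul_mem_left _ _ e6)))
    rw [theta]
    exact E2
  have hhom : (y * y').IsHomogeneous n := by
    have h1 : y.IsHomogeneous (p + 1) := by
      have := IsHomogeneous.prod (univ : Finset (Fin (p + 1)))
        (fun i => (X (Sum.inl i) : MvPolynomial σ ℚ)) (fun _ => 1) (fun i _ => isHomogeneous_X ℚ _)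
      rwa [Finset.sum_const, Finset.card_univ, Fintype.card_fin, smul_eq_mul, mul_one] at this
    have h2 : y'.IsHomogeneous (q + 1) := by
      have := IsHomogeneous.prod (univ : Finset (Fin (q + 1)))
        (fun i => (X (Sum.inr i) : MvPolynomial σ ℚ)) (fun _ => 1) (fun i _ => isHomogeneous_X ℚ _)
      rwa [Finset.sum_const, Finset.card_univ, Fintype.card_fin, smul_eq_mul, mul_one] at this
    exact h1.mul h2
  have hne : y * y' ≠ 0 := by
    apply mul_ne_zero
    · exact Finset.prod_ne_zero_iff.mpr fun i _ => X_ne_zero _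
    · exact Finset.prod_ne_zero_iff.mpr fun i _ => X_ne_zero _
  have hzero : (((cab p q * theta (p + 1) * theta (q + 1) - theta n : ℤ) : ℤ) : MvPolynomial σ ℚ) *
      (y * y') = 0 := by
    apply eq_zero_of_isHomogeneous_of_mem_pow _ hkey
    rw [← map_intCast (C : ℚ →+* MvPolynomial σ ℚ)]
    exact hhom.C_mul _
  rcases mul_eq_zero.mp hzero with h | h
  · have h2 : (cab p q * theta (p + 1) * theta (q + 1) - theta n : ℤ) = 0 := by
      have : Function.Injective (Int.cast : ℤ → MvPolynomial σ ℚ) := by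
        intro a b hab
        rw [← map_intCast (C : ℚ →+* MvPolynomial σ ℚ), ← map_intCast (C : ℚ →+* MvPolynomial σ ℚ)]
          at hab
        exact Int.cast_injective (C_injective σ ℚ hab)
      apply this
      rw [h, Int.cast_zero]
    linarith
  · exact absurd h hne

end Test

section Apply

variable {A : Type u} [CommRing A] [LambdaOps A] {V : ℕ → Ideal A}

/-- `γ^m(γ^m x) ≡ θ_m γ^m x` modulo `V (m+1)` -/
theorem gamma_gamma_sub_mem (hA : IsSpecial A) (hV : IsMulFil V) {x : A} (hx : GOK V x) (p : ℕ) :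
    gamma (p + 1) (gamma (p + 1) x) - (theta (p + 1) : A) * gamma (p + 1) x ∈ V (p + 2) := by
  rw [← aeval_Wγ_sub hA p x]
  apply aeval_mem_of_weight hV (w1 ((p + 1) * (p + 1))) _ _ _ (p + 2) (weight_Wγ_sub p)
  intro r
  exact hx _

end Apply

end Groth.Agent.Lib.helper3.UnivGamma
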