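import Groth.Agent.Lib.Helper3.ScalarGamma2
import Groth.Agent.Lib.Helper3.UnivGamma6
import Groth.Agent.Lib.Helper3.GammaFilLib

/-!
The γ-filtration of an augmented λ-algebra over a binomial ring: `Fil^m` is stable under the
`γ^i`, `i ≥ 1`, and `γ^m z ≡ (-1)^{m-1} (m-1)! z` modulo `Fil^{m+1}` for `z ∈ Fil^m` (helper3).
-/

set_option autoImplicit false
universe u v

namespace Groth.Agent.Lib.helper3.GammaFil

open Finset LambdaRing
open Groth.Agent.Lib.helper3.GammaLib Groth.Agent.Lib.helper3.UnivGamma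
open Groth.Agent.Lib.helper3.ScalarLam

section ListInd

variable {K : Type u} {A : Type v} [CommRing K] [CommRing A] [LambdaOps A] (ε : A →+* K)

theorem list_prod_eq_one (l : List (ℕ × A)) (hs : (l.map Prod.fst).sum = 0) :
    (l.map fun p => gamma p.1 p.2).prod = 1 := by
  induction l with
  | nil => simp
  | cons p l ih =>
    simp only [List.map_cons, List.sum_cons, List.prod_cons] at hs ⊢
    have h1 : p.1 = 0 := by omega
    have h2 : (l.map Prod.fst).sum = 0 := by omega
    rw [ih h2, h1, gamma_zero_left, one_mul]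

theorem list_ind (P : ℕ → A → Prop)
    (h1 : ∀ (i : ℕ) (x : A), 1 ≤ i → ε x = 0 → P i (gamma i x))
    (hmul : ∀ (a b : ℕ) (y y' : A), 1 ≤ a → 1 ≤ b → P a y → P b y' → P (a + b) (y * y'))
    (l : List (ℕ × A)) (hl : ∀ p ∈ l, ε p.2 = 0) (hs : 1 ≤ (l.map Prod.fst).sum) :
    P (l.map Prod.fst).sum (l.map fun p => gamma p.1 p.2).prod := by
  induction l with
  | nil => simp at hs
  | cons p l ih =>
    simp only [List.map_cons, List.sum_cons, List.prod_cons] at hs ⊢
    have hl' : ∀ q ∈ l, ε q.2 = 0 := fun q hq => hl q (List.mem_cons_of_mem _ hq)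
    by_cases hp : p.1 = 0
    · rw [hp, zero_add, gamma_zero_left, one_mul]
      exact ih hl' (by omega)
    · by_cases hl0 : (l.map Prod.fst).sum = 0
      · rw [hl0, add_zero, list_prod_eq_one l hl0, mul_one]
        exact h1 _ _ (by omega) (hl p List.mem_cons_self)
      · exact hmul _ _ _ _ (by omega) (by omega) (h1 _ _ (by omega) (hl p List.mem_cons_self))
          (ih hl' (by omega))

end ListInd

section Main

variable {K : Type u} [CommRing K] [LambdaOps K] [BinomialRing K]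
  {A : Type v} [CommRing A] [LambdaOps A] [Algebra K A]

theorem gok_mul_left (hKb : IsBinomial K) (hA : IsSpecial A) (ε : A →ₐ[K] K)
    (hε : IsAugLambdaAlg K A ε) (m : ℕ) {z : A}
    (hz : GOK (Vmax (gammaFil (ε : A →+* K)) m) z) (b : A) :
    GOK (Vmax (gammaFil (ε : A →+* K)) m) (b * z) := by
  have hF := isMulFil_gammaFil (ε : A →+* K)
  have hFm := isMulFil_Vmax hF m
  have hb' : (ε : A →+* K) (b - algebraMap K A (ε b)) = 0 := by
    simp
  have h1 : GOK (Vmax (gammaFil (ε : A →+* K)) 0) (b - algebraMap K A (ε b)) := by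
    rw [Vmax_zero hF]
    exact gok_gammaFil _ hb'
  have h2 := GOK.mul_Vmax hA hF h1 hz
  rw [zero_add] at h2
  have h3 := GOK.smul hKb hA hε.isLambdaAlg hFm hz (ε b)
  have h4 : b * z = algebraMap K A (ε b) * z + (b - algebraMap K A (ε b)) * z := by ring
  rw [h4]
  exact h3.add hFm h2

/-- `Fil^m` is stable under the `γ^i`: `γ^i z ∈ Fil^{max i m}` for `z ∈ Fil^m`, `i ≥ 1` -/
theorem gok_Vmax_of_mem (hKb : IsBinomial K) (hA : IsSpecial A) (ε : A →ₐ[K] K)
    (hε : IsAugLambdaAlg K A ε) (m : ℕ) (hm : 1 ≤ m) {z : A}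
    (hz : z ∈ gammaFil (ε : A →+* K) m) : GOK (Vmax (gammaFil (ε : A →+* K)) m) z := by
  have hF := isMulFil_gammaFil (ε : A →+* K)
  have hFm := isMulFil_Vmax hF m
  rw [gammaFil] at hz
  induction hz using Submodule.span_induction with
  | mem z hz =>
    obtain ⟨l, hl, hsum, rfl⟩ := hz
    refine GOK.mono_Vmax hF hsum ?_
    apply list_ind (ε : A →+* K) (fun a y => GOK (Vmax (gammaFil (ε : A →+* K)) a) y) _ _ l hl
      (by omega)
    · intro i x hi hx
      rw [gok_Vmax_iff]
      intro l hl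
      exact gamma_gamma_mem hA hF (gok_gammaFil _ hx) l i hl hi
    · intro a b y y' _ _ hy hy'
      exact GOK.mul_Vmax hA hF hy hy'
  | zero => exact GOK.zero hFm
  | add x y _ _ hx hy => exact hx.add hFm hy
  | smul b x _ hx => exact gok_mul_left hKb hA ε hε m hx b

end Main

section Lead

variable {K : Type u} [CommRing K] [LambdaOps K] [BinomialRing K]
  {A : Type v} [CommRing A] [LambdaOps A] [Algebra K A]

/-- level `m` elements whose `γ^m` has the expected leading term -/
def Good (ε : A →ₐ[K] K) (m : ℕ) (z : A) : Prop :=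
  GOK (Vmax (gammaFil (ε : A →+* K)) m) z ∧
    gamma m z - (theta m : A) * z ∈ gammaFil (ε : A →+* K) (m + 1)

variable (hKb : IsBinomial K) (hA : IsSpecial A) (ε : A →ₐ[K] K) (hε : IsAugLambdaAlg K A ε)

omit [LambdaOps K] [BinomialRing K] in
include hA in
theorem good_gamma (i : ℕ) (hi : 1 ≤ i) {x : A} (hx : ε x = 0) : Good ε i (gamma i x) := by
  have hF := isMulFil_gammaFil (ε : A →+* K)
  obtain ⟨p, rfl⟩ := Nat.exists_eq_add_of_le' hi
  have hx' : (ε : A →+* K) x = 0 := hx
  refine ⟨?_, gamma_gamma_sub_mem hA hF (gok_gammaFil _ hx') p⟩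
  rw [gok_Vmax_iff]
  intro l hl
  exact gamma_gamma_mem hA hF (gok_gammaFil _ hx') l (p + 1) hl (by omega)

omit [LambdaOps K] [BinomialRing K] in
include hA in
theorem good_mul (a b : ℕ) (ha : 1 ≤ a) (hb : 1 ≤ b) {y y' : A} (hy : Good ε a y)
    (hy' : Good ε b y') : Good ε (a + b) (y * y') := by
  have hF := isMulFil_gammaFil (ε : A →+* K)
  obtain ⟨p, rfl⟩ := Nat.exists_eq_add_of_le' ha
  obtain ⟨q, rfl⟩ := Nat.exists_eq_add_of_le' hb
  refine ⟨GOK.mul_Vmax hA hF hy.1 hy'.1, ?_⟩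
  have E1 := gamma_mul_sub_mem hA hF p q hy.1 hy'.1
  have hc : ((cab p q : ℤ) : A) * (theta (p + 1) : A) * (theta (q + 1) : A) =
      (theta (p + 1 + (q + 1)) : A) := by
    rw [← cab_theta p q]; push_cast; ring
  have hG' : gamma (q + 1) y' ∈ gammaFil (ε : A →+* K) (q + 1) := by
    have := (gok_Vmax_iff _ _).mp hy'.1 (q + 1) (by omega)
    rwa [max_self] at this
  have hyF : y ∈ gammaFil (ε : A →+* K) (p + 1) := GOK.mem_of_Vmax hy.1 hF
  have e5 := hF.mul _ _ _ _ hy.2 hG'
  have e6 := hF.mul _ _ _ _ hyF hy'.2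
  have hdecomp : gamma (p + 1 + (q + 1)) (y * y') - (theta (p + 1 + (q + 1)) : A) * (y * y') =
      (gamma (p + 1 + (q + 1)) (y * y') -
        (cab p q : A) * (gamma (p + 1) y * gamma (q + 1) y')) +
      (cab p q : A) * ((gamma (p + 1) y - (theta (p + 1) : A) * y) * gamma (q + 1) y' +
        (theta (p + 1) : A) * (y * (gamma (q + 1) y' - (theta (q + 1) : A) * y'))) := by
    rw [← hc]; ring
  rw [hdecomp]
  refine Ideal.add_mem _ E1 (Ideal.mul_mem_left _ _ (Ideal.add_mem _ ?_ (Ideal.mul_mem_left _ _ ?_)))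
  · have e : p + 1 + 1 + (q + 1) = p + 1 + (q + 1) + 1 := by omega
    rw [e] at e5
    exact e5
  · exact e6

include hKb hA hε in
theorem good_of_mem_succ (m : ℕ) (hm : 1 ≤ m) {z : A}
    (hz : z ∈ gammaFil (ε : A →+* K) (m + 1)) : Good ε m z := by
  have hF := isMulFil_gammaFil (ε : A →+* K)
  have h1 := gok_Vmax_of_mem hKb hA ε hε (m + 1) (by omega) hz
  refine ⟨GOK.mono_Vmax hF (by omega) h1, Ideal.sub_mem _ ?_ (Ideal.mul_mem_left _ _ hz)⟩
  have := (gok_Vmax_iff _ _).mp h1 m hm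
  rwa [max_eq_right (by omega)] at this

omit [LambdaOps K] [BinomialRing K] in
theorem good_add (m : ℕ) (hm : 1 ≤ m) {z z' : A} (hz : Good ε m z) (hz' : Good ε m z') :
    Good ε m (z + z') := by
  have hF := isMulFil_gammaFil (ε : A →+* K)
  have hFm := isMulFil_Vmax hF m
  refine ⟨hz.1.add hFm hz'.1, ?_⟩
  obtain ⟨p, rfl⟩ := Nat.exists_eq_add_of_le' hm
  have h := Groth.Agent.S3289.result A (p + 1) z z'
  rw [Finset.sum_range_succ, Finset.sum_range_succ', Nat.sub_self, gamma_zero_left, gamma_zero_left,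
    Nat.sub_zero, one_mul, mul_one] at h
  have hmid : ∑ i ∈ range p, gamma (i + 1) z * gamma (p + 1 - (i + 1)) z' ∈
      gammaFil (ε : A →+* K) (p + 1 + 1) := by
    refine Ideal.sum_mem _ fun i hi => ?_
    rw [Finset.mem_range] at hi
    have a1 := (gok_Vmax_iff _ _).mp hz.1 (i + 1) (by omega)
    have a2 := (gok_Vmax_iff _ _).mp hz'.1 (p + 1 - (i + 1)) (by omega)
    exact hF.anti _ _ (by omega) (hF.mul _ _ _ _ a1 a2)
  have hdecomp : gamma (p + 1) (z + z') - (theta (p + 1) : A) * (z + z') =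
      (gamma (p + 1) z - (theta (p + 1) : A) * z) + (gamma (p + 1) z' - (theta (p + 1) : A) * z') +
      ∑ i ∈ range p, gamma (i + 1) z * gamma (p + 1 - (i + 1)) z' := by
    rw [h]; ring
  rw [hdecomp]
  exact Ideal.add_mem _ (Ideal.add_mem _ hz.2 hz'.2) hmid

include hKb hA hε in
theorem good_smul (m : ℕ) (hm : 1 ≤ m) {z : A} (hz : Good ε m z) (κ : K) :
    Good ε m (algebraMap K A κ * z) := by
  have hF := isMulFil_gammaFil (ε : A →+* K)
  have hFm := isMulFil_Vmax hF m
  refine ⟨GOK.smul hKb hA hε.isLambdaAlg hFm hz.1 κ, ?_⟩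
  have hIJ : gammaFil (ε : A →+* K) m * gammaFil (ε : A →+* K) m ≤
      gammaFil (ε : A →+* K) (m + 1) := by
    rw [Ideal.mul_le]
    intro a ha b hb
    exact hF.anti _ _ (by omega) (hF.mul _ _ _ _ ha hb)
  have hg : ∀ i : ℕ, 1 ≤ i → gamma i z ∈ gammaFil (ε : A →+* K) m := by
    intro i hi
    exact hF.anti _ _ (le_max_right _ _) ((gok_Vmax_iff _ _).mp hz.1 i hi)
  have h1 := gamma_smul_sub_mem hKb hA hε.isLambdaAlg _ _ hIJ hg κ m hm
  have hdecomp : gamma m (algebraMap K A κ * z) - (theta m : A) * (algebraMap K A κ * z) =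
      (gamma m (algebraMap K A κ * z) - algebraMap K A κ * gamma m z) +
      algebraMap K A κ * (gamma m z - (theta m : A) * z) := by ring
  rw [hdecomp]
  exact Ideal.add_mem _ h1 (Ideal.mul_mem_left _ _ hz.2)

include hKb hA hε in
theorem good_mul_left (m : ℕ) (hm : 1 ≤ m) {z : A} (hz : Good ε m z) (b : A) :
    Good ε m (b * z) := by
  have hF := isMulFil_gammaFil (ε : A →+* K)
  have hb' : (ε : A →+* K) (b - algebraMap K A (ε b)) = 0 := by
    simp
  have h1 : b - algebraMap K A (ε b) ∈ gammaFil (ε : A →+* K) 1 := (gok_gammaFil _ hb').mem_one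
  have h2 : (b - algebraMap K A (ε b)) * z ∈ gammaFil (ε : A →+* K) (m + 1) := by
    have := hF.mul _ _ _ _ h1 (GOK.mem_of_Vmax hz.1 hF)
    rwa [add_comm] at this
  have h4 : b * z = algebraMap K A (ε b) * z + (b - algebraMap K A (ε b)) * z := by ring
  rw [h4]
  exact good_add ε m hm (good_smul hKb hA ε hε m hm hz _)
    (good_of_mem_succ hKb hA ε hε m hm h2)

include hKb hA hε in
/-- `γ^m z ≡ (-1)^{m-1} (m-1)! z` modulo `Fil^{m+1}` for `z ∈ Fil^m` -/
theorem good_of_mem (m : ℕ) (hm : 1 ≤ m) {z : A} (hz : z ∈ gammaFil (ε : A →+* K) m) :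
    Good ε m z := by
  have hF := isMulFil_gammaFil (ε : A →+* K)
  rw [gammaFil] at hz
  induction hz using Submodule.span_induction with
  | mem z hz =>
    obtain ⟨l, hl, hsum, rfl⟩ := hz
    rcases Nat.lt_or_ge m (l.map Prod.fst).sum with hlt | hge
    · apply good_of_mem_succ hKb hA ε hε m hm
      exact Ideal.subset_span ⟨l, hl, hlt, rfl⟩
    · have hsm : (l.map Prod.fst).sum = m := le_antisymm hge hsum
      have := list_ind (ε : A →+* K) (fun a y => Good ε a y)
        (fun i x hi hx => good_gamma hA ε i hi hx)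
        (fun a b y y' ha hb hy hy' => good_mul hA ε a b ha hb hy hy') l hl (by omega)
      rwa [hsm] at this
  | zero =>
    apply good_of_mem_succ hKb hA ε hε m hm
    exact Ideal.zero_mem _
  | add x y _ _ hx hy => exact good_add ε m hm hx hy
  | smul b x _ hx => exact good_mul_left hKb hA ε hε m hm hx b

end Lead

end Groth.Agent.Lib.helper3.GammaFil
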