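import Groth.Agent.S3289
import Groth.Agent.S8651
import Groth.Agent.S3291

/-!
γ-operations of `e - ε(e)` for a positive element `e` (helper3).
Uses helper18's `S3289.gamma_eq_coeff`, `S8651.uS_mul_one_sub`.
-/

set_option autoImplicit false
universe u

namespace Groth.Agent.Lib.helper3.GammaLib

open PowerSeries LambdaRing Finset
open Groth.Agent.Lib.helper18

variable {K : Type u} [CommRing K]

theorem reflect_one_sub_X_pow (n : ℕ) :
    Polynomial.reflect n ((1 - Polynomial.X : Polynomial K) ^ n) = (Polynomial.X - 1) ^ n := by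
  have hdeg : (1 - Polynomial.X : Polynomial K).natDegree ≤ 1 := by
    refine (Polynomial.natDegree_sub_le _ _).trans ?_
    rw [Polynomial.natDegree_one]
    exact max_le (Nat.zero_le _) Polynomial.natDegree_X_le
  have h1 : Polynomial.reflect 1 (1 - Polynomial.X : Polynomial K) = Polynomial.X - 1 := by
    rw [Polynomial.reflect_sub]
    have a : Polynomial.reflect 1 (1 : Polynomial K) = Polynomial.X := by
      simp
    have b : Polynomial.reflect 1 (Polynomial.X : Polynomial K) = 1 := by
      simp
    rw [a, b]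
  induction n with
  | zero => simp
  | succ n ih =>
    have hn : ((1 - Polynomial.X : Polynomial K) ^ n).natDegree ≤ n := by
      refine (Polynomial.natDegree_pow_le).trans ?_
      calc n * (1 - Polynomial.X : Polynomial K).natDegree ≤ n * 1 := Nat.mul_le_mul_left _ hdeg
        _ = n := mul_one n
    rw [pow_succ, Polynomial.reflect_mul _ _ hn hdeg, ih, h1, pow_succ]

theorem reflect_X_pow_mul (m i : ℕ) (hi : i ≤ m) :
    Polynomial.reflect m ((Polynomial.X : Polynomial K) ^ i * (1 - Polynomial.X) ^ (m - i)) =
      (Polynomial.X - 1) ^ (m - i) := by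
  obtain ⟨d, rfl⟩ := Nat.exists_eq_add_of_le hi
  rw [Nat.add_sub_cancel_left]
  have hdeg : (1 - Polynomial.X : Polynomial K).natDegree ≤ 1 := by
    refine (Polynomial.natDegree_sub_le _ _).trans ?_
    rw [Polynomial.natDegree_one]
    exact max_le (Nat.zero_le _) Polynomial.natDegree_X_le
  have hn : ((1 - Polynomial.X : Polynomial K) ^ d).natDegree ≤ d := by
    refine (Polynomial.natDegree_pow_le).trans ?_
    calc d * (1 - Polynomial.X : Polynomial K).natDegree ≤ d * 1 :=
          Nat.mul_le_mul_left _ hdeg
      _ = d := mul_one _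
  rw [Polynomial.reflect_mul _ _ (Polynomial.natDegree_X_pow_le i) hn, reflect_one_sub_X_pow,
    Polynomial.reflect_monomial]
  simp

theorem reflect_sum {ι : Type*} (s : Finset ι) (f : ι → Polynomial K) (N : ℕ) :
    Polynomial.reflect N (∑ i ∈ s, f i) = ∑ i ∈ s, Polynomial.reflect N (f i) := by
  classical
  induction s using Finset.induction_on with
  | empty => simp [Polynomial.reflect_zero]
  | insert j s hj ih => rw [Finset.sum_insert hj, Finset.sum_insert hj, Polynomial.reflect_add, ih]

variable [LambdaOps K]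

/-- the γ-series of `e - m` is the polynomial `Σ λ^i(e) t^i (1-t)^{m-i}` -/
theorem gamma_sub_natCast_eq_coeff (h1 : ∀ k : ℕ, 2 ≤ k → LambdaOps.lam k (1 : K) = 0)
    (e : K) (m : ℕ) (hm : ∀ k : ℕ, m < k → LambdaOps.lam k e = 0) (k : ℕ) :
    gamma k (e - (m : K)) =
      (∑ i ∈ range (m + 1), Polynomial.C (LambdaOps.lam i e) *
        (Polynomial.X ^ i * (1 - Polynomial.X) ^ (m - i)) : Polynomial K).coeff k := by
  classical
  set z := e - (m : K) with hz
  have hu := Groth.Agent.S3289.hasSubst_uS (K := K)
  set u := Groth.Agent.S3289.uS K with hudef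
  have hL : lamSeries e = ∑ i ∈ range (m + 1), C (LambdaOps.lam i e) * X ^ i := by
    ext k
    rw [coeff_lamSeries, map_sum]
    simp only [coeff_C_mul, coeff_X_pow]
    by_cases hk : k < m + 1
    · rw [Finset.sum_eq_single k]
      · simp
      · intro b _ hb
        rw [if_neg (Ne.symm hb), mul_zero]
      · intro hk'
        exact absurd (Finset.mem_range.mpr hk) hk'
    · rw [hm k (by omega)]
      symm
      refine Finset.sum_eq_zero fun i hi => ?_
      have := Finset.mem_range.mp hi
      rw [if_neg (by omega), mul_zero]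
  have e1 : lamSeries z * (1 + X) ^ m = lamSeries e := by
    rw [← lamSeries_add_natCast h1, hz, sub_add_cancel]
  have e2 := congrArg (substAlgHom hu) e1
  rw [map_mul, map_pow, map_add, map_one, substAlgHom_X] at e2
  have e4 : (1 + u) * (1 - X) = 1 := by
    rw [add_mul, one_mul, Groth.Agent.S8651.uS_mul_one_sub]; ring
  have e5 : substAlgHom hu (lamSeries z) = substAlgHom hu (lamSeries e) * (1 - X) ^ m := by
    rw [← e2, mul_assoc, ← mul_pow, e4, one_pow, mul_one]
  have e6 : substAlgHom hu (lamSeries e) = ∑ i ∈ range (m + 1), C (LambdaOps.lam i e) * u ^ i := by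
    rw [hL, map_sum]
    refine Finset.sum_congr rfl fun i _ => ?_
    rw [map_mul, map_pow, substAlgHom_X]
    congr 1
    rw [coe_substAlgHom, subst_C]
    rfl
  have e7 : substAlgHom hu (lamSeries z) =
      ∑ i ∈ range (m + 1), C (LambdaOps.lam i e) * (X ^ i * (1 - X) ^ (m - i)) := by
    rw [e5, e6, Finset.sum_mul]
    refine Finset.sum_congr rfl fun i hi => ?_
    have hi' := Finset.mem_range.mp hi
    have hmi : m = i + (m - i) := by omega
    conv_lhs => rw [hmi, pow_add]
    calc C (LambdaOps.lam i e) * u ^ i * ((1 - X) ^ i * (1 - X) ^ (m - i))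
        = C (LambdaOps.lam i e) * ((u * (1 - X)) ^ i * (1 - X) ^ (m - i)) := by
          rw [mul_pow]; ring
      _ = _ := by rw [Groth.Agent.S8651.uS_mul_one_sub]
  rw [Groth.Agent.S3289.gamma_eq_coeff, ← coe_substAlgHom hu, e7, ← Polynomial.coeff_coe]
  congr 1
  have := map_sum (Polynomial.coeToPowerSeries.ringHom (R := K))
    (fun i => Polynomial.C (LambdaOps.lam i e) *
      (Polynomial.X ^ i * (1 - Polynomial.X) ^ (m - i))) (range (m + 1))
  simp only [Polynomial.coeToPowerSeries.ringHom_apply] at this
  rw [this]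
  refine Finset.sum_congr rfl fun i _ => ?_
  simp

/-- `Σ γ^i(e - m) X^{m-i} = Σ λ^i(e) (X-1)^{m-i}` -/
theorem gamma_sub_natCast_identity (h1 : ∀ k : ℕ, 2 ≤ k → LambdaOps.lam k (1 : K) = 0)
    (e : K) (m : ℕ) (hm : ∀ k : ℕ, m < k → LambdaOps.lam k e = 0) :
    (∑ i ∈ range (m + 1), Polynomial.C (gamma i (e - (m : K))) * Polynomial.X ^ (m - i)) =
      ∑ i ∈ range (m + 1), Polynomial.C (LambdaOps.lam i e) * (Polynomial.X - 1) ^ (m - i) := by
  classical
  set G : Polynomial K := ∑ i ∈ range (m + 1), Polynomial.C (LambdaOps.lam i e) *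
        (Polynomial.X ^ i * (1 - Polynomial.X) ^ (m - i)) with hG
  have hgamma : ∀ k, gamma k (e - (m : K)) = G.coeff k :=
    gamma_sub_natCast_eq_coeff h1 e m hm
  have hdeg1 : (1 - Polynomial.X : Polynomial K).natDegree ≤ 1 := by
    refine (Polynomial.natDegree_sub_le _ _).trans ?_
    rw [Polynomial.natDegree_one]
    exact max_le (Nat.zero_le _) Polynomial.natDegree_X_le
  have hdeg : G.natDegree ≤ m := by
    rw [hG]
    refine Polynomial.natDegree_sum_le_of_forall_le _ _ fun i hi => ?_
    have hi' := Finset.mem_range.mp hi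
    refine (Polynomial.natDegree_C_mul_le _ _).trans ?_
    refine (Polynomial.natDegree_mul_le).trans ?_
    have a := Polynomial.natDegree_X_pow_le (R := K) i
    have b : ((1 - Polynomial.X : Polynomial K) ^ (m - i)).natDegree ≤ m - i := by
      refine (Polynomial.natDegree_pow_le).trans ?_
      calc (m - i) * (1 - Polynomial.X : Polynomial K).natDegree ≤ (m - i) * 1 :=
            Nat.mul_le_mul_left _ hdeg1
        _ = m - i := mul_one _
    omega
  have hLHS : (∑ i ∈ range (m + 1), Polynomial.C (gamma i (e - (m : K))) *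
      Polynomial.X ^ (m - i)) = Polynomial.reflect m G := by
    ext j
    rw [Polynomial.coeff_reflect, Polynomial.finsetSum_coeff]
    simp only [Polynomial.coeff_C_mul_X_pow]
    by_cases hj : j ≤ m
    · rw [Polynomial.revAt_le hj, Finset.sum_eq_single (m - j)]
      · rw [if_pos (by omega), hgamma]
      · intro b hb hbne
        have hb' := Finset.mem_range.mp hb
        rw [if_neg (by omega)]
      · intro h
        exact absurd (Finset.mem_range.mpr (by omega)) h
    · rw [Polynomial.revAt_eq_self_of_lt (by omega),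
        Polynomial.coeff_eq_zero_of_natDegree_lt (by omega)]
      refine Finset.sum_eq_zero fun i hi => ?_
      rw [if_neg (by omega)]
  rw [hLHS, hG, reflect_sum]
  refine Finset.sum_congr rfl fun i hi => ?_
  have hi' := Finset.mem_range.mp hi
  rw [Polynomial.reflect_C_mul, reflect_X_pow_mul m i (by omega)]

end Groth.Agent.Lib.helper3.GammaLib
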