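import Mathlib
import Groth.Agent.Lib.Helper3.GenPts
import Groth.Agent.Lib.Helper3.GenImage
import Groth.Agent.Lib.Helper3.QFinTop
import Groth.Agent.Lib.Helper28.QCClosure

/-!
# Number of connected components of the fibres near the generic point (helper3)
-/

set_option autoImplicit false
universe u
open CategoryTheory CategoryTheory.Limits AlgebraicGeometry

namespace Groth.Agent.Lib.helper3.GenConn

open Groth.Agent.Lib.helper3.GenPts Groth.Agent.Lib.helper3.GenImage
  Groth.Agent.Lib.helper3.QFinTop

/-- a finite partition into nonempty closed subsets gives distinct connected components. -/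
theorem card_le_card_connectedComponents {T : Type*} [TopologicalSpace T] {ι : Type*} [Finite ι]
    (G : ι → Set T) (hcl : ∀ i, IsClosed (G i)) (hne : ∀ i, (G i).Nonempty)
    (hdisj : ∀ i j, i ≠ j → Disjoint (G i) (G j)) (hcov : ⋃ i, G i = Set.univ) :
    ENat.card ι ≤ ENat.card (_root_.ConnectedComponents T) := by
  have hopen : ∀ i, IsOpen (G i) := by
    intro i
    have h1 : G i = (⋃ (j : ι) (_ : j ≠ i), G j)ᶜ := by
      ext t
      rw [Set.mem_compl_iff, Set.mem_iUnion₂]
      constructor
      · rintro hti ⟨j, hji, htj⟩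
        exact Set.disjoint_left.mp (hdisj j i hji) htj hti
      · intro hnot
        have : t ∈ ⋃ i, G i := hcov ▸ Set.mem_univ t
        obtain ⟨j, htj⟩ := Set.mem_iUnion.mp this
        by_cases hji : j = i
        · exact hji ▸ htj
        · exact absurd ⟨j, hji, htj⟩ hnot
    rw [h1]
    exact (isClosed_iUnion_of_finite fun j =>
      isClosed_iUnion_of_finite fun _ => hcl j).isOpen_compl
  choose t ht using hne
  let g : ι → _root_.ConnectedComponents T := fun i => ConnectedComponents.mk (t i)
  have hg : Function.Injective g := by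
    intro i j hij
    by_contra hne
    have h1 : connectedComponent (t i) = connectedComponent (t j) :=
      ConnectedComponents.coe_eq_coe.mp hij
    have h2 : connectedComponent (t i) ⊆ G i :=
      IsClopen.connectedComponent_subset (⟨hcl i, hopen i⟩ : IsClopen (G i)) (ht i)
    have h3 : t j ∈ G i := h2 (h1 ▸ mem_connectedComponent)
    exact Set.disjoint_left.mp (hdisj i j hne) h3 (ht j)
  exact ENat.card_le_card_of_injective hg

theorem le_card_connectedComponents_fibre {X Y : Scheme.{u}} (f : X ⟶ Y) [IrreducibleSpace ↑Y] [LocallyOfFiniteType f] [QuasiCompact f] (n : ℕ)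
    (h : ENat.card (_root_.ConnectedComponents ↑(f.fiber (genericPoint ↑Y))) = n) :
    ∃ V : Y.Opens, (V : Set ↑Y).Nonempty ∧ ∀ y ∈ V, (n : ℕ∞) ≤ ENat.card (_root_.ConnectedComponents ↑(f.fiber y)) := by
  set η := genericPoint Y with hη
  set F := f.fiber η with hF
  haveI : Finite (_root_.ConnectedComponents F) := by
    by_contra hinf
    rw [not_finite_iff_infinite] at hinf
    rw [ENat.card_eq_top_of_infinite] at h
    exact ENat.top_ne_natCast n h
  -- the pieces of the generic fibre
  set Fc : _root_.ConnectedComponents F → Set F := fun c => ConnectedComponents.mk ⁻¹' {c} with hFc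
  have hFcl : ∀ c, IsClosed (Fc c) := by
    intro c
    obtain ⟨z, rfl⟩ := ConnectedComponents.surjective_coe c
    rw [hFc]
    simp only
    rw [connectedComponents_preimage_singleton]
    exact isClosed_connectedComponent
  have hFne : ∀ c, ∃ z : F, z ∈ Fc c := fun c => by
    obtain ⟨z, rfl⟩ := ConnectedComponents.surjective_coe c
    exact ⟨z, rfl⟩
  choose ζ hζ using hFne
  set W : _root_.ConnectedComponents F → Set X := fun c => closure (f.fiberι η '' Fc c) with hW
  -- `W c ∩ X_η = F_c`
  have hWη : ∀ (c : _root_.ConnectedComponents F) (z : F), f.fiberι η z ∈ W c → z ∈ Fc c := by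
    intro c z hz
    have h1 : closure (Fc c) = f.fiberι η ⁻¹' closure (f.fiberι η '' Fc c) :=
      (f.fiberι η).isEmbedding.isInducing.closure_eq_preimage_closure_image _
    have h2 : z ∈ closure (Fc c) := by rw [h1]; exact hz
    rwa [(hFcl c).closure_eq] at h2
  -- pairwise intersections miss a neighbourhood of the generic point
  have hD : ∀ c c' : _root_.ConnectedComponents F, c ≠ c' →
      η ∉ closure (f '' (W c ∩ W c')) := by
    intro c c' hcc' hmem
    obtain ⟨x, ⟨hxc, hxc'⟩, hsp⟩ :=
      Groth.Agent.Lib.helper28.QCClosure.exists_specializes_of_mem_closure_image f (W c ∩ W c')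
        (isClosed_closure.inter isClosed_closure) η hmem
    have hfx : f x = η := ((genericPoint_specializes (f x)).antisymm hsp).eq.symm
    obtain ⟨z, rfl⟩ : x ∈ Set.range (f.fiberι η) := by
      rw [f.range_fiberι η]; exact hfx
    have h1 : ConnectedComponents.mk z = c := hWη c z hxc
    have h2 : ConnectedComponents.mk z = c' := hWη c' z hxc'
    exact hcc' (h1.symm.trans h2)
  -- images contain opens
  have hB : ∀ c : _root_.ConnectedComponents F, ∃ V : Y.Opens, (V : Set Y).Nonempty ∧
      ∀ y ∈ V, ∃ x : X, x ∈ W c ∧ f x = y := by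
    intro c
    obtain ⟨V, hVne, hV⟩ := exists_open_subset_image_closure f (f.fiberι η (ζ c))
      (fiberι_mem f η (ζ c))
    refine ⟨V, hVne, fun y hy => ?_⟩
    obtain ⟨x, hx, hfx⟩ := hV hy
    refine ⟨x, closure_mono ?_ hx, hfx⟩
    rintro _ rfl
    exact ⟨ζ c, hζ c, rfl⟩
  choose VB hVBne hVB using hB
  obtain ⟨V₀, hηV₀, hV₀⟩ := exists_open_forall_generization f
  have hηVB : ∀ c, η ∈ VB c := fun c => by
    obtain ⟨y, hy⟩ := hVBne c
    exact (genericPoint_specializes y).mem_open (VB c).isOpen hy
  refine ⟨⟨((V₀ : Set Y) ∩ ⋂ c, (VB c : Set Y)) ∩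
      ⋂ (c : _root_.ConnectedComponents F) (c' : _root_.ConnectedComponents F) (_ : c ≠ c'),
        (closure (f '' (W c ∩ W c')))ᶜ,
    (V₀.isOpen.inter (isOpen_iInter_of_finite fun c => (VB c).isOpen)).inter
      (isOpen_iInter_of_finite fun c => isOpen_iInter_of_finite fun c' =>
        isOpen_iInter_of_finite fun _ => isClosed_closure.isOpen_compl)⟩,
    ⟨η, ⟨hηV₀, Set.mem_iInter.mpr hηVB⟩, ?_⟩, ?_⟩
  · exact Set.mem_iInter.mpr fun c => Set.mem_iInter.mpr fun c' =>
      Set.mem_iInter.mpr fun hcc' => hD c c' hcc'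
  rintro y ⟨⟨hyV₀, hyVB⟩, hyD⟩
  rw [← h]
  refine card_le_card_connectedComponents
    (fun c : _root_.ConnectedComponents F => (f.fiberι y) ⁻¹' (W c))
    (fun c => isClosed_closure.preimage (f.fiberι y).continuous) ?_ ?_ ?_
  · intro c
    obtain ⟨x, hxc, hfx⟩ := hVB c y (Set.mem_iInter.mp hyVB c)
    obtain ⟨z, rfl⟩ : x ∈ Set.range (f.fiberι y) := by
      rw [f.range_fiberι y]; exact hfx
    exact ⟨z, hxc⟩
  · intro c c' hcc'
    rw [Set.disjoint_left]
    intro z hzc hzc'
    have h1 := Set.mem_iInter.mp (Set.mem_iInter.mp (Set.mem_iInter.mp hyD c) c') hcc'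
    apply h1
    apply subset_closure
    exact ⟨f.fiberι y z, ⟨hzc, hzc'⟩, fiberι_mem f y z⟩
  · rw [Set.eq_univ_iff_forall]
    intro z
    obtain ⟨x', hx'sp, hfx'⟩ := hV₀ (f.fiberι y z) (by rw [fiberι_mem f y z]; exact hyV₀)
    obtain ⟨ζ', rfl⟩ : x' ∈ Set.range (f.fiberι η) := by
      rw [f.range_fiberι η]; exact hfx'
    refine Set.mem_iUnion.mpr ⟨ConnectedComponents.mk ζ', ?_⟩
    change f.fiberι y z ∈ W (ConnectedComponents.mk ζ')
    have h2 : f.fiberι η ζ' ∈ W (ConnectedComponents.mk ζ') :=
      subset_closure ⟨ζ', rfl, rfl⟩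
    exact (isClosed_closure.closure_subset_iff.mpr (Set.singleton_subset_iff.mpr h2))
      hx'sp.mem_closure

end Groth.Agent.Lib.helper3.GenConn
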