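import Mathlib
import Groth.Agent.Lib.Helper3.GenPts
import Groth.Agent.Lib.Helper3.QFinTop

/-!
# Closed covers of the generic fibre spread out (helper3)
-/

set_option autoImplicit false
universe u
open CategoryTheory AlgebraicGeometry

namespace Groth.Agent.Lib.helper3.GenCover

/-- = S1299. -/
theorem fibres_covered_near_generic_point {X Y : Scheme.{u}} (f : X ⟶ Y) [IrreducibleSpace ↑Y]
    [LocallyOfFiniteType f] [QuasiCompact f]
    {ι : Type} [Finite ι] (Z : ι → Set ↑(f.fiber (genericPoint ↑Y))) (hZ : ∀ i, IsClosed (Z i))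
    (hcov : ⋃ i, Z i = Set.univ) :
    ∃ V : Y.Opens, (V : Set ↑Y).Nonempty ∧ ∀ y ∈ V,
      ⋃ i, (f.fiberι y) ⁻¹' closure ((f.fiberι (genericPoint ↑Y)) '' Z i) = Set.univ := by
  obtain ⟨V, hηV, hV⟩ := GenPts.exists_open_forall_generization f
  refine ⟨V, ⟨genericPoint Y, hηV⟩, ?_⟩
  intro y hy
  rw [Set.eq_univ_iff_forall]
  intro z
  have hfz : f (f.fiberι y z) = y := QFinTop.fiberι_mem f y z
  obtain ⟨x', hx'sp, hfx'⟩ := hV (f.fiberι y z) (by rw [hfz]; exact hy)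
  have hx'mem : x' ∈ Set.range (f.fiberι (genericPoint Y)) := by
    rw [f.range_fiberι]; exact hfx'
  obtain ⟨w, rfl⟩ := hx'mem
  have hw : w ∈ ⋃ i, Z i := by rw [hcov]; trivial
  obtain ⟨i, hi⟩ := Set.mem_iUnion.mp hw
  refine Set.mem_iUnion.mpr ⟨i, ?_⟩
  change f.fiberι y z ∈ closure ((f.fiberι (genericPoint ↑Y)) '' Z i)
  exact hx'sp.mem_closed isClosed_closure (subset_closure ⟨w, hi, rfl⟩)

end Groth.Agent.Lib.helper3.GenCover
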