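import Mathlib
import Groth.Prelude.Def_EGA43
import Groth.Agent.S0402
import Groth.Agent.S9381
import Groth.Agent.Lib.Helper3.EquidimIrr
import Groth.Agent.Lib.Helper3.EquidimAt
import Groth.Agent.Lib.Helper3.OpenAtComp
import Groth.Agent.Lib.Helper3.FibreDimBC2
/-!
# Helper library (helper3): generic equidimensionality of the fibres (EGA IV 9.5.6 / 13.1.1; = S4781)
-/

set_option autoImplicit false
universe u
open CategoryTheory AlgebraicGeometry Function TopologicalSpace Topology

namespace Groth.Agent.Lib.helper3.GenericEquidim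

open Groth.Agent.Lib.helper3.DimIneq Groth.Agent.Lib.helper3.FTField
  Groth.Agent.Lib.helper3.FibreField Groth.Agent.Lib.helper3.DimFibre
  Groth.Agent.Lib.helper3.RelDim Groth.Agent.Lib.helper3.EquidimAt
  Groth.Agent.Lib.helper3.QFinTop Groth.Agent.Lib.helper3.EquidimIrr
  Groth.Agent.Lib.helper3.OpenAtDim Groth.Agent.Lib.helper3.FibreDimBC

theorem generic_equidim {X S : Scheme.{u}} (f : X ⟶ S)
    [IsNoetherian S] [IrreducibleSpace S] [IrreducibleSpace X] [IsDominant f]
    [LocallyOfFiniteType f] [QuasiCompact f] :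
    ∃ U : S.Opens, genericPoint S ∈ U ∧ ∀ s ∈ U, ∀ T ∈ irreducibleComponents ↥(⇑f ⁻¹' {s}),
      topologicalKrullDim ↥T = topologicalKrullDim ↥(⇑f ⁻¹' {genericPoint S}) := by
  set ξ := genericPoint X with hξdef
  set η := genericPoint S with hηdef
  have hfξ : f ξ = η := genericPoint_map_eq f (IsDominant.denseRange (f := f))
  obtain ⟨e, he⟩ := exists_nat_td_residueFieldMap f ξ
  have hξmax : ∀ ω : X, ω ⤳ ξ → ω = ξ :=
    fun ω h => (h.antisymm (genericPoint_specializes ω)).eq
  have hcomp : closure ({f ξ} : Set S) ∈ irreducibleComponents S := by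
    rw [hfξ]
    apply closure_mem_irreducibleComponents_of_forall_specializes
    intro ω h
    exact (h.antisymm (genericPoint_specializes ω)).eq
  have hfdξ : FlatMor.fibreDimAt f ξ = (e : WithBot ℕ∞) :=
    fibreDimAt_eq_td_of_forall f ξ (fun x' h _ => hξmax x' h) e he
  -- (A)
  have hA : ∀ x : X, FlatMor.fibreDimAt f x ≤ (e : WithBot ℕ∞) →
      (∀ x' : X, x' ⤳ x → f x' = f x → x' = x) →
      td (f.residueFieldMap x).hom = (e : Cardinal.{u}) := by
    intro x hx hmax
    obtain ⟨e', U', hxU', -, hB'⟩ := isEquidimAt_of_irreducible f x e he hcomp hx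
    have hξU' : ξ ∈ U' := (genericPoint_specializes x).mem_open U'.2 hxU'
    have h1 := fibreDimAt_eq_of_isEquidimAt f U' e' hB' ξ hξU'
    have hee : e' = e := by
      rw [h1] at hfdξ; exact_mod_cast hfdξ
    have h3 := fibreDimAt_eq_of_isEquidimAt f U' e' hB' x hxU'
    obtain ⟨n, hn⟩ := exists_nat_td_residueFieldMap f x
    have h4 := fibreDimAt_eq_td_of_forall f x hmax n hn
    rw [h3, hee] at h4
    have : e = n := by exact_mod_cast h4
    rw [hn, this]
  -- (B)
  have hB : ∀ x : X, f x = η → FlatMor.fibreDimAt f x ≤ (e : WithBot ℕ∞) := by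
    intro x hx
    rw [fibreDimAt_le_iff]
    intro x' hsp hfx'
    by_cases h : x' = ξ
    · rw [h, he]
    · have hlt := Groth.Agent.S9381.result f ξ x' (genericPoint_specializes x') (Ne.symm h)
        (hfξ.trans (hx.symm.trans hfx'.symm))
      change td (f.residueFieldMap x').hom < td (f.residueFieldMap ξ).hom at hlt
      rw [he] at hlt
      exact hlt.le
  haveI : IsLocallyNoetherian X := LocallyOfFiniteType.isLocallyNoetherian f
  haveI : CompactSpace X := QuasiCompact.compactSpace_of_compactSpace f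
  haveI : IsNoetherian X := {}
  haveI : NoetherianSpace X := inferInstance
  set C : Set X := {x | FlatMor.fibreDimAt f x ≤ (e : WithBot ℕ∞)}ᶜ with hC
  have hCcl : IsClosed C := (Groth.Agent.S0402.result f e).isClosed_compl
  obtain ⟨Sset, hSf, hSc, hSi, hSU⟩ :=
    NoetherianSpace.exists_finite_set_isClosed_irreducible hCcl
  set B : Set S := ⋃ t ∈ Sset, closure (f '' t) with hBdef
  have hBcl : IsClosed B := hSf.isClosed_biUnion fun t _ => isClosed_closure
  have hCB : f '' C ⊆ B := by
    rintro _ ⟨x, hx, rfl⟩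
    rw [hSU] at hx
    obtain ⟨t, ht, hxt⟩ := hx
    exact Set.mem_biUnion ht (subset_closure ⟨x, hxt, rfl⟩)
  have hηB : η ∉ B := by
    intro hmem
    obtain ⟨t, ht, hηt⟩ := Set.mem_iUnion₂.mp hmem
    obtain ⟨c, hc⟩ := QuasiSober.sober (hSi t ht) (hSc t ht)
    have htc : closure ({c} : Set X) = t := hc.def
    rw [← htc, closure_image_closure f.continuous, Set.image_singleton] at hηt
    have h1 : f c ⤳ η := specializes_iff_mem_closure.mpr hηt
    have h2 : f c = η := (h1.antisymm (genericPoint_specializes (f c))).eq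
    have hcC : c ∈ C := by
      rw [hSU]; exact ⟨t, ht, hc.mem⟩
    exact hcC (hB c h2)
  refine ⟨⟨Bᶜ, hBcl.isOpen_compl⟩, hηB, ?_⟩
  intro s hs T hT
  have hsV : ∀ x : X, f x = s → FlatMor.fibreDimAt f x ≤ (e : WithBot ℕ∞) := by
    intro x hx
    by_contra hcon
    exact hs (hCB ⟨x, hcon, hx⟩)
  -- the generic fibre has dimension e
  have hgen : topologicalKrullDim ↥(⇑f ⁻¹' {η}) = (e : WithBot ℕ∞) := by
    rw [← IsHomeomorph.topologicalKrullDim_eq _ (f.fiberHomeo η).isHomeomorph,
      dim_eq_iSup_localDim]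
    apply le_antisymm
    · refine iSup_le fun z => ?_
      rw [localDim_fiber_eq f η (f.fiberι η z) (fiberι_mem f η z) z rfl]
      exact hB _ (fiberι_mem f η z)
    · have hmem : ξ ∈ Set.range (f.fiberι η) := by rw [f.range_fiberι η]; exact hfξ
      obtain ⟨z, hz⟩ := hmem
      refine le_trans ?_ (le_iSup (fun z => FlatMor.localDim ↥(f.fiber η) z) z)
      rw [localDim_fiber_eq f η ξ hfξ z hz, hfdξ]
  rw [hgen]
  -- transfer to the scheme-theoretic fibre
  set es := f.fiberHomeo s with hes
  have hT' : es ⁻¹' T ∈ irreducibleComponents ↥(f.fiber s) := by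
    apply preimage_mem_irreducibleComponents hT es.isOpenEmbedding
    rw [es.range_coe, Set.inter_univ]
    exact hT.1.1
  have hdimT : topologicalKrullDim ↥T = topologicalKrullDim ↥(es ⁻¹' T) := by
    have himg : es '' (es ⁻¹' T) = T := es.image_preimage T
    have h1 := IsHomeomorph.topologicalKrullDim_eq _ (es.image (es ⁻¹' T)).isHomeomorph
    rw [h1, himg]
  rw [hdimT]
  obtain ⟨ζ, hζ⟩ := QuasiSober.sober hT'.1 (isClosed_of_mem_irreducibleComponents _ hT')
  have hζcl : closure ({ζ} : Set ↥(f.fiber s)) = es ⁻¹' T := hζ.def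
  rw [← hζcl] at hT' ⊢
  have hmaxζ := fibre_maximal_of_closure_mem f s ζ hT'
  have htd := hA (f.fiberι s ζ) (hsV _ (fiberι_mem f s ζ)) hmaxζ
  exact dim_closure_fibre_point f s ζ e htd

end Groth.Agent.Lib.helper3.GenericEquidim
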