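import Mathlib

/-!
# Geometric irreducibility of a reduced closed subscheme via preimages (helper3)
-/

set_option autoImplicit false
universe u

namespace Groth.Agent.Lib.helper3.GeomIrrSub

open AlgebraicGeometry CategoryTheory Limits

/-- the reduced closed subscheme on a closed subset `T` of a `k`-scheme `Y` is geometrically
irreducible as soon as the inverse image of `T` in `Y_K` is irreducible for every `K` -/
theorem geometricallyIrreducible_subschemeι {k : Type u} [Field k] {Y : Scheme.{u}}
    (g : Y ⟶ Spec (CommRingCat.of k)) (T : Set Y) (hT : IsClosed T)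
    (h : ∀ (K : Type u) [Field K] [Algebra k K],
      IsIrreducible ((pullback.fst g (Spec.map (CommRingCat.ofHom (algebraMap k K)))) ⁻¹' T)) :
    GeometricallyIrreducible
      ((Scheme.IdealSheafData.vanishingIdeal ⟨T, hT⟩).subschemeι ≫ g) := by
  refine ⟨(geometrically_iff_of_commRing_of_isClosedUnderIsomorphisms).mpr fun K _ _ => ?_⟩
  let ι := (Scheme.IdealSheafData.vanishingIdeal ⟨T, hT⟩).subschemeι
  have hrange : Set.range ι = T := by
    rw [Scheme.IdealSheafData.range_subschemeι, Scheme.IdealSheafData.coe_support_vanishingIdeal]
    rfl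
  let e := pullbackRightPullbackFstIso g (Spec.map (CommRingCat.ofHom (algebraMap k K))) ι
  have hci : IsClosedImmersion (pullback.snd ι
      (pullback.fst g (Spec.map (CommRingCat.ofHom (algebraMap k K))))) :=
    MorphismProperty.pullback_snd (P := @IsClosedImmersion) _ _ inferInstance
  have hemb : Topology.IsEmbedding (pullback.snd ι
      (pullback.fst g (Spec.map (CommRingCat.ofHom (algebraMap k K))))) :=
    Scheme.Hom.isEmbedding _
  have hr : Set.range (pullback.snd ι
      (pullback.fst g (Spec.map (CommRingCat.ofHom (algebraMap k K))))) =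
      (pullback.fst g (Spec.map (CommRingCat.ofHom (algebraMap k K)))) ⁻¹' T := by
    rw [Scheme.Pullback.range_snd, hrange]
  have h1 : IrreducibleSpace ↥(Set.range (pullback.snd ι
      (pullback.fst g (Spec.map (CommRingCat.ofHom (algebraMap k K)))))) := by
    rw [← isIrreducible_iff_irreducibleSpace, hr]
    exact h K
  have h2 : IrreducibleSpace ↥(pullback ι
      (pullback.fst g (Spec.map (CommRingCat.ofHom (algebraMap k K))))) :=
    hemb.toHomeomorph.irreducibleSpace_iff.mpr h1
  exact e.hom.homeomorph.irreducibleSpace_iff.mp h2

end Groth.Agent.Lib.helper3.GeomIrrSub
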