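import Mathlib

/-!
# Reducedness of `K ⊗ A` from a jointly injective family (helper3)
-/

set_option autoImplicit false
universe u v w

namespace Groth.Agent.Lib.helper3.GeomRed

open TensorProduct

/-- naturality of the coefficients with respect to a basis of the left factor -/
theorem equivFinsuppOfBasisLeft_map {k : Type u} [Field k] {K : Type v} [AddCommGroup K] [Module k K]
    {ι : Type*} [DecidableEq ι] (b : Module.Basis ι k K) {M N : Type*} [AddCommGroup M] [Module k M]
    [AddCommGroup N] [Module k N] (g : M →ₗ[k] N) (t : K ⊗[k] M) (i : ι) :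
    TensorProduct.equivFinsuppOfBasisLeft b (LinearMap.lTensor K g t) i =
      g (TensorProduct.equivFinsuppOfBasisLeft b t i) := by
  induction t with
  | zero => simp
  | tmul c a =>
    rw [LinearMap.lTensor_tmul, TensorProduct.equivFinsuppOfBasisLeft_apply_tmul_apply,
      TensorProduct.equivFinsuppOfBasisLeft_apply_tmul_apply, map_smul]
  | add x y hx hy =>
    rw [map_add, map_add, map_add, Finsupp.add_apply, Finsupp.add_apply, hx, hy, map_add]

/-- Let `A` be a `k`-algebra with a family of `k`-algebra maps `ψ i : A → B i` whose kernels have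
trivial intersection. If all `K ⊗ B i` are reduced then so is `K ⊗ A`. -/
theorem isReduced_tensor_of_family {k : Type u} [Field k] (K : Type v) [Field K] [Algebra k K]
    {A : Type w} [CommRing A] [Algebra k A] {ι : Type*} (B : ι → Type*) [∀ i, CommRing (B i)]
    [∀ i, Algebra k (B i)] (ψ : ∀ i, A →ₐ[k] B i)
    (hker : ∀ a : A, (∀ i, ψ i a = 0) → a = 0) (hB : ∀ i, IsReduced (K ⊗[k] B i)) :
    IsReduced (K ⊗[k] A) := by
  classical
  refine ⟨fun t ht => ?_⟩
  let b := Module.Free.chooseBasis k K
  have h1 : ∀ i, (Algebra.TensorProduct.map (AlgHom.id k K) (ψ i)) t = 0 := fun i =>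
    (ht.map (Algebra.TensorProduct.map (AlgHom.id k K) (ψ i))).eq_zero
  have h2 : ∀ i, LinearMap.lTensor K (ψ i).toLinearMap t = 0 := by
    intro i
    have h3 : ∀ s : K ⊗[k] A, LinearMap.lTensor K (ψ i).toLinearMap s =
        (Algebra.TensorProduct.map (AlgHom.id k K) (ψ i)) s := by
      intro s
      induction s with
      | zero => simp
      | tmul c a => simp
      | add x y hx hy => rw [map_add, map_add, hx, hy]
    rw [h3, h1 i]
  have h4 : TensorProduct.equivFinsuppOfBasisLeft b t = 0 := by
    ext j
    apply hker
    intro i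
    have h5 := equivFinsuppOfBasisLeft_map b (ψ i).toLinearMap t j
    rw [h2 i] at h5
    simpa using h5.symm
  exact (TensorProduct.equivFinsuppOfBasisLeft b).map_eq_zero_iff.mp h4

end Groth.Agent.Lib.helper3.GeomRed
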