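import Mathlib
import Groth.Agent.Lib.Helper3.GrpConn3
import Groth.Agent.S2277

/-!
Translations by rational points of a group scheme locally of finite type over an algebraically
closed field, and affine opens containing finitely many closed points (helper3).
-/

set_option autoImplicit false
universe u

namespace Groth.Agent.Lib.helper3.GrpTransl

open CategoryTheory Limits AlgebraicGeometry MonoidalCategory CartesianMonoidalCategory MonObj GrpObj
open Topology

variable {K : Type u} [Field K] (G : Over (Spec (CommRingCat.of K))) [GrpObj G]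

theorem comp_mulRight_hom (s t : 𝟙_ (Over (Spec (CommRingCat.of K))) ⟶ G) :
    s ≫ (GrpObj.mulRight t).hom = s * t := by
  simp [GrpObj.mulRight, comp_lift_assoc, Hom.mul_def]

theorem comp_mulRight_inv (s t : 𝟙_ (Over (Spec (CommRingCat.of K))) ⟶ G) :
    s ≫ (GrpObj.mulRight t).inv = s * t⁻¹ := by
  simp [GrpObj.mulRight, comp_lift_assoc, Hom.mul_def, Hom.inv_def]

theorem one_left_apply (x : (𝟙_ (Over (Spec (CommRingCat.of K)))).left) :
    (1 : 𝟙_ (Over (Spec (CommRingCat.of K))) ⟶ G).left x = GrpIrr.e G := by
  rw [Hom.one_def, Over.comp_left, Scheme.Hom.comp_apply]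
  exact GrpIrr.unit_apply G _

/-- the closed point of the base -/
noncomputable abbrev pt : (𝟙_ (Over (Spec (CommRingCat.of K)))).left := IsLocalRing.closedPoint K

/-- right translation by a section, as a homeomorphism -/
noncomputable def trHomeo (t : 𝟙_ (Over (Spec (CommRingCat.of K))) ⟶ G) : G.left ≃ₜ G.left :=
  haveI : IsIso (GrpObj.mulRight t).hom.left :=
    inferInstanceAs (IsIso ((Over.forget _).map (GrpObj.mulRight t).hom))
  (GrpObj.mulRight t).hom.left.homeomorph

theorem trHomeo_apply (t : 𝟙_ (Over (Spec (CommRingCat.of K))) ⟶ G) (x : G.left) :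
    trHomeo G t x = (GrpObj.mulRight t).hom.left x := rfl

theorem trHomeo_sec (s t : 𝟙_ (Over (Spec (CommRingCat.of K))) ⟶ G) :
    trHomeo G t (s.left pt) = (s * t).left pt := by
  rw [trHomeo_apply, ← Scheme.Hom.comp_apply, ← Over.comp_left, comp_mulRight_hom]

theorem trHomeo_unit (t : 𝟙_ (Over (Spec (CommRingCat.of K))) ⟶ G) :
    trHomeo G t (GrpIrr.e G) = t.left pt := by
  have := trHomeo_sec G 1 t
  rwa [one_left_apply, _root_.one_mul] at this

theorem mulRight_inv_sec (s t : 𝟙_ (Over (Spec (CommRingCat.of K))) ⟶ G) :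
    (GrpObj.mulRight t).inv.left (s.left pt) = (s * t⁻¹).left pt := by
  rw [← Scheme.Hom.comp_apply, ← Over.comp_left, comp_mulRight_inv]

/-- right translation maps the identity component onto the component of the point -/
theorem image_connectedComponent_unit (t : 𝟙_ (Over (Spec (CommRingCat.of K))) ⟶ G) :
    trHomeo G t '' connectedComponent (GrpIrr.e G) = connectedComponent (t.left pt) := by
  rw [(trHomeo G t).isQuotientMap.image_connectedComponent (by simp [isConnected_singleton]),
    trHomeo_unit]

/-- every connected component through a rational point is irreducible -/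
theorem isIrreducible_connectedComponent_sec (t : 𝟙_ (Over (Spec (CommRingCat.of K))) ⟶ G) :
    IsIrreducible (connectedComponent (t.left pt)) := by
  rw [← image_connectedComponent_unit]
  exact (GrpConn.isIrreducible_connectedComponent_unit G).image _
    (trHomeo G t).continuous.continuousOn

variable [IsAlgClosed K] [LocallyOfFiniteType G.hom]

/-- the section through a closed point -/
noncomputable def sec (x : G.left) (hx : IsClosed ({x} : Set G.left)) :
    𝟙_ (Over (Spec (CommRingCat.of K))) ⟶ G :=
  Over.homMk (pointOfClosedPoint G.hom x hx) (pointOfClosedPoint_comp G.hom x hx)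

theorem sec_apply (x : G.left) (hx : IsClosed ({x} : Set G.left))
    (a : (𝟙_ (Over (Spec (CommRingCat.of K)))).left) : (sec G x hx).left a = x :=
  pointOfClosedPoint_apply G.hom x hx a

theorem locallyConnectedSpace : LocallyConnectedSpace G.left := by
  have : IsLocallyNoetherian G.left := LocallyOfFiniteType.isLocallyNoetherian G.hom
  apply Groth.Agent.S2277.result
  intro x
  obtain ⟨_, ⟨U, hU, rfl⟩, hxU, -⟩ :=
    (G.left.isBasis_affineOpens).exists_subset_of_mem_open (Set.mem_univ x) isOpen_univ
  have : IsNoetherianRing Γ(G.left, U) := IsLocallyNoetherian.component_noetherian ⟨U, hU⟩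
  exact ⟨U, U.isOpen.mem_nhds hxU, noetherianSpace_of_isAffineOpen U hU⟩

theorem jacobsonSpace : JacobsonSpace G.left :=
  LocallyOfFiniteType.jacobsonSpace (Y := Spec _) G.hom

/-- for a finite family of closed points in one connected component, there is an affine open
contained in that component and containing all of them -/
theorem exists_affineOpen_in_component {n : ℕ} (g : Fin n → G.left)
    (hg : ∀ i, IsClosed ({g i} : Set G.left)) (i₀ : Fin n) :
    ∃ U : G.left.Opens, IsAffineOpen U ∧ (U : Set G.left) ⊆ connectedComponent (g i₀) ∧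
      ∀ j, g j ∈ connectedComponent (g i₀) → g j ∈ U := by
  have hlc := locallyConnectedSpace G
  have hjac := jacobsonSpace G
  -- an affine open neighbourhood of the unit inside the identity component
  obtain ⟨_, ⟨V, hV, rfl⟩, heV, hVG⟩ :=
    (G.left.isBasis_affineOpens).exists_subset_of_mem_open
      (mem_connectedComponent (x := GrpIrr.e G)) isOpen_connectedComponent
  let t : Fin n → (𝟙_ (Over (Spec (CommRingCat.of K))) ⟶ G) := fun i => sec G (g i) (hg i)
  have ht : ∀ i, (t i).left pt = g i := fun i => sec_apply G (g i) (hg i) _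
  let C := connectedComponent (g i₀)
  have hCirr : IsIrreducible C := by
    have := isIrreducible_connectedComponent_sec G (t i₀)
    rwa [ht] at this
  -- the morphisms `x ↦ t_j x⁻¹`
  let φ : Fin n → (G.left ⟶ G.left) := fun j => (GrpObj.mulRight (t j)⁻¹).hom.left ≫ ι[G].left
  have hφ : ∀ (j : Fin n) (s : 𝟙_ (Over (Spec (CommRingCat.of K))) ⟶ G),
      φ j (s.left pt) = (t j * s⁻¹).left pt := by
    intro j s
    have h1 : φ j (s.left pt) = ((s ≫ (GrpObj.mulRight (t j)⁻¹).hom) ≫ ι[G]).left pt := rfl
    rw [h1, comp_mulRight_hom, ← Hom.inv_def, _root_.mul_inv_rev, _root_.inv_inv]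
  let W : Fin n → Set G.left := fun j => φ j ⁻¹' (V : Set G.left)
  have hWo : ∀ j, IsOpen (W j) := fun j => V.isOpen.preimage (φ j).continuous
  have hgW : ∀ j, g j ∈ W j := by
    intro j
    show φ j (g j) ∈ V
    rw [← ht j, hφ, _root_.mul_inv_cancel, one_left_apply]
    exact heV
  -- a closed point in the intersection
  classical
  let J : Finset (Fin n) := Finset.univ.filter fun j => g j ∈ C
  have hne : (C ∩ ⋂₀ ((J.image W : Finset (Set G.left)) : Set (Set G.left))).Nonempty := by
    apply isIrreducible_iff_sInter.mp hCirr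
    · intro u hu
      obtain ⟨j, -, rfl⟩ := Finset.mem_image.mp hu
      exact hWo j
    · intro u hu
      obtain ⟨j, hj, rfl⟩ := Finset.mem_image.mp hu
      exact ⟨g j, (Finset.mem_filter.mp hj).2, hgW j⟩
  have hlcl : IsLocallyClosed (C ∩ ⋂₀ ((J.image W : Finset (Set G.left)) : Set (Set G.left))) := by
    apply IsLocallyClosed.inter isClosed_connectedComponent.isLocallyClosed
    apply IsOpen.isLocallyClosed
    apply Set.Finite.isOpen_sInter (Finset.finite_toSet _)
    intro u hu
    obtain ⟨j, -, rfl⟩ := Finset.mem_image.mp hu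
    exact hWo j
  obtain ⟨h₀, ⟨hh₀C, hh₀W⟩, hh₀cl⟩ := nonempty_inter_closedPoints hne hlcl
  have hh₀cl' : IsClosed ({h₀} : Set G.left) := hh₀cl
  let h := sec G h₀ hh₀cl'
  have hh : h.left pt = h₀ := sec_apply G h₀ hh₀cl' _
  have hiso : IsIso (GrpObj.mulRight h).inv.left :=
    inferInstanceAs (IsIso ((Over.forget _).map (GrpObj.mulRight h).inv))
  refine ⟨(GrpObj.mulRight h).inv.left ⁻¹ᵁ V, hV.preimage_of_isIso _, ?_, ?_⟩
  · -- contained in the component
    intro x hx
    have hx' : (GrpObj.mulRight h).inv.left x ∈ connectedComponent (GrpIrr.e G) := hVG hx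
    have h1 : trHomeo G h ((GrpObj.mulRight h).inv.left x) = x := by
      rw [trHomeo_apply, ← Scheme.Hom.comp_apply, ← Over.comp_left, Iso.inv_hom_id]
      rfl
    have h2 : x ∈ trHomeo G h '' connectedComponent (GrpIrr.e G) := ⟨_, hx', h1⟩
    rw [image_connectedComponent_unit, hh] at h2
    rw [connectedComponent_eq hh₀C] 
    exact h2
  · intro j hj
    show (GrpObj.mulRight h).inv.left (g j) ∈ V
    rw [← ht j, mulRight_inv_sec]
    have h1 : h₀ ∈ W j := by
      apply hh₀W
      exact Finset.mem_coe.mpr (Finset.mem_image.mpr ⟨j, Finset.mem_filter.mpr ⟨Finset.mem_univ _, hj⟩, rfl⟩)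
    have h2 : φ j h₀ ∈ V := h1
    rwa [← hh, hφ] at h2

end Groth.Agent.Lib.helper3.GrpTransl
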