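import Mathlib
import Groth.Agent.Lib.Helper3.FTFieldRing

/-!
# Height bound for a prime minimal over an extended prime

`height_le_of_liesOver_of_mem_minimalPrimes`: `P` over `p`, `P` minimal over `pB` ⇒ `ht P ≤ ht p`.
`height_map_le_of_mem_minimalPrimes`: relative version modulo a prime `q0 ≤ q'`.
-/

set_option autoImplicit false
universe u

namespace Groth.Agent.Lib.helper3.HeightMin

open Groth.Agent.Lib.helper3.FTField

theorem height_le_of_liesOver_of_mem_minimalPrimes {A B : Type u} [CommRing A] [CommRing B]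
    [Algebra A B] [IsNoetherianRing A] [IsNoetherianRing B] (p : Ideal A) [p.IsPrime]
    (P : Ideal B) [P.IsPrime] [P.LiesOver p]
    (hmin : P ∈ (p.map (algebraMap A B)).minimalPrimes) : P.height ≤ p.height := by
  have key := Ideal.height_le_height_add_of_liesOver p P
  rw [Ideal.minimalPrimes_eq_comap] at hmin
  obtain ⟨J, hJ, hJP⟩ := hmin
  haveI : J.IsPrime := hJ.1.1
  have h1 : P.map (Ideal.Quotient.mk (p.map (algebraMap A B))) = J := by
    rw [← hJP, Ideal.map_comap_of_surjective _ Ideal.Quotient.mk_surjective]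
  rw [h1, Ideal.height_eq_zero_iff.mpr hJ, add_zero] at key
  exact key

theorem height_map_le_of_mem_minimalPrimes {A B : Type u} [CommRing A] [CommRing B]
    [IsNoetherianRing A] [IsNoetherianRing B] (φ : A →+* B)
    (q0 q' : Ideal B) [q0.IsPrime] [q'.IsPrime] (h0 : q0 ≤ q')
    (hmin : q' ∈ ((q'.comap φ).map φ).minimalPrimes) :
    (q'.map (Ideal.Quotient.mk q0)).height ≤
      ((q'.comap φ).map (Ideal.Quotient.mk (q0.comap φ))).height := by
  have h0' : q0.comap φ ≤ q'.comap φ := Ideal.comap_mono h0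
  letI := (Ideal.quotientMap q0 φ le_rfl).toAlgebra
  set P := q'.map (Ideal.Quotient.mk q0) with hP
  set p := (q'.comap φ).map (Ideal.Quotient.mk (q0.comap φ)) with hp
  haveI : P.IsPrime := map_mk_isPrime q0 q' h0
  haveI : p.IsPrime := map_mk_isPrime (q0.comap φ) (q'.comap φ) h0'
  have hPc : P.comap (Ideal.Quotient.mk q0) = q' := comap_map_mk q0 q' h0
  have hpc : p.comap (Ideal.Quotient.mk (q0.comap φ)) = q'.comap φ :=
    comap_map_mk (q0.comap φ) (q'.comap φ) h0'
  haveI : P.LiesOver p := by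
    refine ⟨?_⟩
    ext a
    obtain ⟨a, rfl⟩ := Ideal.Quotient.mk_surjective a
    change _ ↔ (Ideal.quotientMap q0 φ le_rfl) (Ideal.Quotient.mk _ a) ∈ P
    rw [Ideal.quotientMap_mk, ← Ideal.mem_comap, hpc, ← Ideal.mem_comap, hPc]
    rfl
  refine height_le_of_liesOver_of_mem_minimalPrimes p P ⟨⟨inferInstance, ?_⟩, ?_⟩
  · rw [Ideal.map_le_iff_le_comap]
    exact le_of_eq (Ideal.LiesOver.over (p := p) (P := P))
  · rintro K ⟨hK, hKle⟩ hKP
    have hK'le : K.comap (Ideal.Quotient.mk q0) ≤ q' := by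
      rw [← hPc]; exact Ideal.comap_mono hKP
    have hK'ge : (q'.comap φ).map φ ≤ K.comap (Ideal.Quotient.mk q0) := by
      rw [Ideal.map_le_iff_le_comap]
      intro a ha
      change Ideal.Quotient.mk q0 (φ a) ∈ K
      apply hKle
      have : Ideal.Quotient.mk q0 (φ a) =
          algebraMap (A ⧸ q0.comap φ) (B ⧸ q0) (Ideal.Quotient.mk _ a) := rfl
      rw [this]
      apply Ideal.mem_map_of_mem
      rw [← Ideal.mem_comap, hpc]
      exact ha
    have := hmin.2 ⟨Ideal.IsPrime.comap _, hK'ge⟩ hK'le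
    calc P = q'.map (Ideal.Quotient.mk q0) := rfl
      _ ≤ (K.comap (Ideal.Quotient.mk q0)).map (Ideal.Quotient.mk q0) := Ideal.map_mono this
      _ = K := Ideal.map_comap_of_surjective _ Ideal.Quotient.mk_surjective K

end Groth.Agent.Lib.helper3.HeightMin
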