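import Mathlib

set_option autoImplicit false
set_option linter.style.haveILetI false
set_option linter.unusedSectionVars false
universe u

namespace Groth.Agent.Lib.helper3.HensColim

open CategoryTheory CategoryTheory.Limits Polynomial IsLocalRing

variable {J : Type u} [SmallCategory J] [IsFiltered J] (F : J ⥤ CommRingCat.{u})
  (c : Cocone F) (hc : IsColimit c)

/-- the structure map of the cocone. -/
abbrev inc (j : J) : F.obj j →+* c.pt := (c.ι.app j).hom

theorem inc_map {i j : J} (a : i ⟶ j) (x : F.obj i) :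
    inc F c j ((F.map a).hom x) = inc F c i x := by
  have := c.w a
  have h2 := congrArg (fun φ => φ.hom x) this
  exact h2

include hc

theorem exists_rep (x : c.pt) : ∃ (j : J) (y : F.obj j), inc F c j y = x :=
  Concrete.isColimit_exists_rep F hc x

theorem exists_of_eq {i j : J} (x : F.obj i) (y : F.obj j) (h : inc F c i x = inc F c j y) :
    ∃ (k : J) (f : i ⟶ k) (g : j ⟶ k), (F.map f).hom x = (F.map g).hom y :=
  Concrete.isColimit_exists_of_rep_eq F hc x y h

theorem exists_rep₂ (x y : c.pt) :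
    ∃ (j : J) (x' y' : F.obj j), inc F c j x' = x ∧ inc F c j y' = y := by
  obtain ⟨j₁, x₁, rfl⟩ := exists_rep F c hc x
  obtain ⟨j₂, y₂, rfl⟩ := exists_rep F c hc y
  exact ⟨IsFiltered.max j₁ j₂, (F.map (IsFiltered.leftToMax j₁ j₂)).hom x₁,
    (F.map (IsFiltered.rightToMax j₁ j₂)).hom y₂, inc_map F c _ _, inc_map F c _ _⟩

variable (hloc : ∀ (i j : J) (a : i ⟶ j), IsLocalHom (F.map a).hom)
include hloc

theorem isUnit_of_isUnit_inc {j : J} (y : F.obj j) (h : IsUnit (inc F c j y)) : IsUnit y := by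
  obtain ⟨z, hz⟩ := h.exists_right_inv
  obtain ⟨j', z', rfl⟩ := exists_rep F c hc z
  let k := IsFiltered.max j j'
  let f : j ⟶ k := IsFiltered.leftToMax j j'
  let g : j' ⟶ k := IsFiltered.rightToMax j j'
  have h1 : inc F c k ((F.map f).hom y * (F.map g).hom z') = inc F c k 1 := by
    rw [map_mul, inc_map, inc_map, hz, map_one]
  obtain ⟨k', a, b, hab⟩ := exists_of_eq F c hc _ _ h1
  rw [map_one, map_mul] at hab
  have hu : IsUnit ((F.map a).hom ((F.map f).hom y)) := IsUnit.of_mul_eq_one _ hab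
  haveI := hloc k k' a
  haveI := hloc j k f
  exact isUnit_of_map_unit (F.map f).hom y (isUnit_of_map_unit (F.map a).hom _ hu)

variable (hF : ∀ j, IsLocalRing (F.obj j))
include hF

theorem isLocalRing_pt : IsLocalRing c.pt := by
  haveI : Nontrivial c.pt := by
    refine ⟨⟨0, 1, fun h01 => ?_⟩⟩
    obtain ⟨j₀⟩ := IsFiltered.nonempty (C := J)
    have h1 : inc F c j₀ 0 = inc F c j₀ 1 := by rw [map_zero, map_one]; exact h01
    obtain ⟨k, a, b, hab⟩ := exists_of_eq F c hc _ _ h1
    rw [map_zero, map_one] at hab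
    haveI := hF k
    exact zero_ne_one hab
  refine IsLocalRing.of_isUnit_or_isUnit_of_isUnit_add fun a b hab => ?_
  obtain ⟨j, a', b', rfl, rfl⟩ := exists_rep₂ F c hc a b
  rw [← map_add] at hab
  have hu := isUnit_of_isUnit_inc F c hc hloc _ hab
  haveI := hF j
  rcases IsLocalRing.isUnit_or_isUnit_of_isUnit_add hu with h | h
  · exact Or.inl (h.map _)
  · exact Or.inr (h.map _)

omit hloc hF in
/-- finitely many elements come from a common stage. -/
theorem exists_stage_finset (s : Finset c.pt) :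
    ∃ j : J, ∀ x ∈ s, x ∈ (inc F c j).range := by
  classical
  induction s using Finset.induction_on with
  | empty =>
    obtain ⟨j₀⟩ := IsFiltered.nonempty (C := J)
    exact ⟨j₀, by simp⟩
  | insert x s _ ih =>
    obtain ⟨j₁, h₁⟩ := ih
    obtain ⟨j₂, y, rfl⟩ := exists_rep F c hc x
    refine ⟨IsFiltered.max j₁ j₂, fun z hz => ?_⟩
    rcases Finset.mem_insert.mp hz with rfl | hz
    · exact ⟨(F.map (IsFiltered.rightToMax j₁ j₂)).hom y, inc_map F c _ _⟩
    · obtain ⟨w, rfl⟩ := h₁ z hz
      exact ⟨(F.map (IsFiltered.leftToMax j₁ j₂)).hom w, inc_map F c _ _⟩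

omit hloc hF in
/-- a monic polynomial and an element come from a common stage. -/
theorem exists_stage_poly (f : c.pt[X]) (hf : f.Monic) (a₀ : c.pt) :
    ∃ (j : J) (g : (F.obj j)[X]) (a : F.obj j), g.Monic ∧ g.map (inc F c j) = f ∧
      inc F c j a = a₀ := by
  classical
  obtain ⟨j, hj⟩ := exists_stage_finset F c hc (insert a₀ (f.support.image f.coeff))
  have hlift : f ∈ Polynomial.lifts (inc F c j) := by
    rw [Polynomial.lifts_iff_coeff_lifts]
    intro n
    by_cases hn : n ∈ f.support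
    · exact hj _ (Finset.mem_insert_of_mem (Finset.mem_image_of_mem _ hn))
    · rw [Polynomial.notMem_support_iff.mp hn]; exact ⟨0, map_zero _⟩
  obtain ⟨g, hg, -, hgm⟩ := Polynomial.lifts_and_natDegree_eq_and_monic hlift hf
  obtain ⟨a, ha⟩ := hj a₀ (Finset.mem_insert_self _ _)
  exact ⟨j, g, a, hgm, hg, ha⟩

omit hF in
theorem henselian_pt (hH : ∀ j, HenselianLocalRing (F.obj j)) : HenselianLocalRing c.pt := by
  haveI hL : IsLocalRing c.pt := isLocalRing_pt F c hc hloc (fun j => (hH j).toIsLocalRing)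
  refine { hL with is_henselian := ?_ }
  intro f hf a₀ h1 h2
  obtain ⟨j, g, a, hg, rfl, rfl⟩ := exists_stage_poly F c hc f hf a₀
  haveI := hH j
  have hev : ∀ (p : (F.obj j)[X]) (x : F.obj j),
      (p.map (inc F c j)).eval (inc F c j x) = inc F c j (p.eval x) := fun p x => by
    rw [Polynomial.eval_map, Polynomial.eval₂_at_apply]
  rw [hev] at h1
  rw [Polynomial.derivative_map, hev] at h2
  have h1' : g.eval a ∈ maximalIdeal (F.obj j) := by
    rw [mem_maximalIdeal, mem_nonunits_iff] at h1 ⊢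
    exact fun hu => h1 (hu.map _)
  have h2' : IsUnit (g.derivative.eval a) := isUnit_of_isUnit_inc F c hc hloc _ h2
  obtain ⟨b, hb, hba⟩ := HenselianLocalRing.is_henselian g hg a h1' h2'
  refine ⟨inc F c j b, ?_, ?_⟩
  · rw [Polynomial.IsRoot.def, hev, hb.eq_zero, map_zero]
  · rw [← map_sub, mem_maximalIdeal, mem_nonunits_iff]
    rw [mem_maximalIdeal, mem_nonunits_iff] at hba
    exact fun hu => hba (isUnit_of_isUnit_inc F c hc hloc _ hu)

end Groth.Agent.Lib.helper3.HensColim
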