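import Mathlib
import Groth.Agent.Lib.Helper3.HorizPrime10
/-!
# Horizontal primes through a vertical principal divisor: non-local base, arbitrary rings (helper3)

* `td_quotientMap_of_square` : residue transcendence degrees do not change under compatible
  localizations of source and target;
* `exists_prime_horizontal_nonlocal` : `exists_prime_horizontal` for a base domain which is not
  assumed local;
* `exists_prime_horizontal_general` : the same for an arbitrary ring map of finite type and a
  chosen prime `P₀` (playing the role of the generic point).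
-/

set_option autoImplicit false
set_option linter.style.haveILetI false
set_option linter.unusedSectionVars false
universe u
open Function

namespace Groth.Agent.Lib.helper3.HorizPrime

open Groth.Agent.Lib.helper3.DimIneq Groth.Agent.Lib.helper3.FTField
  Groth.Agent.Lib.helper3.FibreParam Groth.Agent.Lib.helper3.FlatFibDim

theorem td_quotientMap_of_square {R T R' T' : Type u} [CommRing R] [CommRing T] [CommRing R']
    [CommRing T'] (φ : R →+* T) (φ' : R' →+* T') (a : R →+* R') (b : T →+* T')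
    (hcomm : b.comp φ = φ'.comp a) (Q' : Ideal T') [Q'.IsPrime]
    (ha : ∀ r' : R', ∃ s c : R, a s ∉ Q'.comap φ' ∧ a s * r' = a c)
    (hb : ∀ t' : T', ∃ s c : T, b s ∉ Q' ∧ b s * t' = b c) :
    td (Ideal.quotientMap Q' φ' le_rfl) = td (Ideal.quotientMap (Q'.comap b) φ le_rfl) := by
  haveI : IsDomain (T' ⧸ Q') := Ideal.Quotient.isDomain _
  have hideal : (Q'.comap b).comap φ = (Q'.comap φ').comap a := by
    rw [Ideal.comap_comap, Ideal.comap_comap, hcomm]
  symm
  refine td_eq_of_square (Ideal.quotientMap (Q'.comap b) φ le_rfl)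
    (Ideal.quotientMap Q' b le_rfl)
    (Ideal.quotientMap (Q'.comap φ') a (le_of_eq hideal))
    (Ideal.quotientMap Q' φ' le_rfl) ?_ ?_ ?_ ?_ ?_ ?_ ?_
  · apply Ideal.Quotient.ringHom_ext
    ext r
    simp only [RingHom.comp_apply, Ideal.quotientMap_mk]
    have := RingHom.congr_fun hcomm r
    simp only [RingHom.comp_apply] at this
    rw [this]
  · exact Ideal.quotientMap_injective
  · exact Ideal.quotientMap_injective
  · exact Ideal.quotientMap_injective' (le_of_eq hideal.symm)
  · exact Ideal.quotientMap_injective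
  · apply isAlgebraic_of_forall_exists_mul_eq
    intro y
    obtain ⟨t', rfl⟩ := Ideal.Quotient.mk_surjective y
    obtain ⟨s, c, hs, hsc⟩ := hb t'
    refine ⟨Ideal.Quotient.mk _ s, Ideal.Quotient.mk _ c, ?_, ?_⟩
    · intro h0
      rw [Ideal.Quotient.eq_zero_iff_mem] at h0
      exact hs h0
    · rw [Ideal.quotientMap_mk, Ideal.quotientMap_mk, ← map_mul, hsc]
  · apply isAlgebraic_of_forall_exists_mul_eq
    intro y
    obtain ⟨r', rfl⟩ := Ideal.Quotient.mk_surjective y
    obtain ⟨s, c, hs, hsc⟩ := ha r'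
    refine ⟨Ideal.Quotient.mk _ s, Ideal.Quotient.mk _ c, ?_, ?_⟩
    · intro h0
      rw [Ideal.Quotient.eq_zero_iff_mem, hideal] at h0
      exact hs h0
    · rw [Ideal.quotientMap_mk, Ideal.quotientMap_mk, ← map_mul, hsc]

theorem exists_prime_horizontal_of_isLocalization {A C A' C' : Type u} [CommRing A] [IsDomain A]
    [CommRing C] [IsDomain C] [Algebra A C] [Algebra.FiniteType A C] [FaithfulSMul A C]
    [CommRing A'] [CommRing C'] [Algebra A A'] [Algebra C C'] [Algebra A' C'] [Algebra A C']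
    [IsScalarTower A A' C'] [IsScalarTower A C C']
    (q : Ideal C) [q.IsPrime]
    [IsLocalization.AtPrime A' (q.comap (algebraMap A C))]
    [IsLocalization (Algebra.algebraMapSubmonoid C (q.comap (algebraMap A C)).primeCompl) C']
    (g : C) (hg : g ∈ q) (n : ℕ) (hn : Algebra.trdeg A C = n)
    (H2 : ∀ Q : Ideal C, Q.IsPrime → Q ≤ q →
      Q.comap (algebraMap A C) = q.comap (algebraMap A C) → g ∈ Q →
      td (Ideal.quotientMap Q (algebraMap A C) le_rfl) + 1 ≤ (n : Cardinal.{u})) :
    ∃ P : Ideal C, P.IsPrime ∧ g ∈ P ∧ P ≤ q ∧ P.comap (algebraMap A C) = ⊥ := by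
  classical
  set 𝔭 := q.comap (algebraMap A C) with h𝔭
  set M := 𝔭.primeCompl with hM
  set N := Algebra.algebraMapSubmonoid C M with hN
  have hAC : Injective (algebraMap A C) := FaithfulSMul.algebraMap_injective A C
  have hMle : M ≤ nonZeroDivisors A := Ideal.primeCompl_le_nonZeroDivisors 𝔭
  have hNle : N ≤ nonZeroDivisors C := by
    rintro _ ⟨a, haM, rfl⟩
    apply mem_nonZeroDivisors_of_ne_zero
    intro h0
    have : a = 0 := hAC (by rw [h0, map_zero])
    exact (mem_nonZeroDivisors_iff_ne_zero.mp (hMle haM)) this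
  haveI : IsLocalization M A' := ‹IsLocalization.AtPrime A' (q.comap (algebraMap A C))›
  haveI : IsLocalization N C' :=
    ‹IsLocalization (Algebra.algebraMapSubmonoid C (q.comap (algebraMap A C)).primeCompl) C'›
  haveI : IsLocalization (M.map (algebraMap A C)) C' := ‹IsLocalization N C'›
  haveI : IsDomain A' := IsLocalization.isDomain_of_le_nonZeroDivisors (M := M) A' hMle
  haveI : IsDomain C' := IsLocalization.isDomain_of_le_nonZeroDivisors (M := N) C' hNle
  haveI : IsLocalRing A' := IsLocalization.AtPrime.isLocalRing A' 𝔭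
  have hmapeq : algebraMap A' C' =
      IsLocalization.map C' (algebraMap A C) (M.le_comap_map) :=
    IsLocalization.algebraMap_eq_map_map_submonoid M C A' C'
  have hinjA : Injective (algebraMap A A') := IsLocalization.injective A' hMle
  have hinjC : Injective (algebraMap C C') := IsLocalization.injective C' hNle
  have hinj' : Injective (algebraMap A' C') := by
    rw [hmapeq]
    exact IsLocalization.map_injective_of_injective M A' C' hAC
  haveI : FaithfulSMul A' C' := (faithfulSMul_iff_algebraMap_injective A' C').mpr hinj'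
  haveI : Algebra.FiniteType A' C' := by
    have h1 : (algebraMap A C).FiniteType := RingHom.finiteType_algebraMap.mpr inferInstance
    have h2 := RingHom.finiteType_localizationPreserves (algebraMap A C) M A' C' h1
    rw [← hmapeq] at h2
    exact RingHom.finiteType_algebraMap.mp h2
  have hcomm : (algebraMap C C').comp (algebraMap A C) =
      (algebraMap A' C').comp (algebraMap A A') := by
    rw [← IsScalarTower.algebraMap_eq A C C', ← IsScalarTower.algebraMap_eq A A' C']
  -- fractions
  have hfrA : ∀ (J : Ideal A'), J.IsPrime → ∀ r' : A', ∃ s c : A,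
      algebraMap A A' s ∉ J ∧ algebraMap A A' s * r' = algebraMap A A' c := by
    intro J hJ r'
    obtain ⟨⟨c, s⟩, hcs⟩ := IsLocalization.surj M r'
    refine ⟨s, c, ?_, ?_⟩
    · intro hmem
      exact hJ.ne_top (Ideal.eq_top_of_isUnit_mem _ hmem (IsLocalization.map_units A' s))
    · rw [mul_comm]; exact hcs
  have hfrC : ∀ (J : Ideal C'), J.IsPrime → ∀ t' : C', ∃ s c : C,
      algebraMap C C' s ∉ J ∧ algebraMap C C' s * t' = algebraMap C C' c := by
    intro J hJ t'
    obtain ⟨⟨c, s⟩, hcs⟩ := IsLocalization.surj N t'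
    refine ⟨s, c, ?_, ?_⟩
    · intro hmem
      exact hJ.ne_top (Ideal.eq_top_of_isUnit_mem _ hmem (IsLocalization.map_units C' s))
    · rw [mul_comm]; exact hcs
  have htdsq : ∀ (Q' : Ideal C') [Q'.IsPrime],
      td (Ideal.quotientMap Q' (algebraMap A' C') le_rfl) =
        td (Ideal.quotientMap (Q'.comap (algebraMap C C')) (algebraMap A C) le_rfl) := by
    intro Q' hQ'
    exact td_quotientMap_of_square (algebraMap A C) (algebraMap A' C') (algebraMap A A')
      (algebraMap C C') hcomm Q' (hfrA _ (Ideal.comap_isPrime _ _)) (hfrC _ hQ')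
  -- transcendence degree
  have hn' : Algebra.trdeg A' C' = n := by
    rw [← hn, ← td_algebraMap, ← td_algebraMap]
    symm
    refine td_eq_of_square (algebraMap A C) (algebraMap C C') (algebraMap A A')
      (algebraMap A' C') hcomm hAC hinjC hinjA hinj' ?_ ?_
    · apply isAlgebraic_of_forall_exists_mul_eq
      intro y
      obtain ⟨⟨c, s⟩, hcs⟩ := IsLocalization.surj N y
      refine ⟨s, c, mem_nonZeroDivisors_iff_ne_zero.mp (hNle s.2), ?_⟩
      rw [mul_comm]; exact hcs
    · apply isAlgebraic_of_forall_exists_mul_eq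
      intro y
      obtain ⟨⟨c, s⟩, hcs⟩ := IsLocalization.surj M y
      refine ⟨s, c, mem_nonZeroDivisors_iff_ne_zero.mp (hMle s.2), ?_⟩
      rw [mul_comm]; exact hcs
  -- the prime `q'`
  have hdisj : Disjoint (N : Set C) (q : Set C) := by
    rw [Set.disjoint_left]
    rintro _ ⟨a, haM, rfl⟩ hmem
    exact haM hmem
  haveI hq'p : (q.map (algebraMap C C')).IsPrime :=
    IsLocalization.isPrime_of_isPrime_disjoint N C' q inferInstance hdisj
  have hq'c : (q.map (algebraMap C C')).comap (algebraMap C C') = q :=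
    IsLocalization.under_map_of_isPrime_disjoint N C' inferInstance hdisj
  set q' := q.map (algebraMap C C') with hq'
  have hcontr : ∀ Q' : Ideal C', (Q'.comap (algebraMap A' C')).comap (algebraMap A A') =
      (Q'.comap (algebraMap C C')).comap (algebraMap A C) := by
    intro Q'
    rw [Ideal.comap_comap, Ideal.comap_comap, hcomm]
  have hq'm : q'.comap (algebraMap A' C') = IsLocalRing.maximalIdeal A' := by
    have h1 : (q'.comap (algebraMap A' C')).comap (algebraMap A A') = 𝔭 := by
      rw [hcontr, hq'c]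
    have h2 : (IsLocalRing.maximalIdeal A').comap (algebraMap A A') = 𝔭 :=
      IsLocalization.AtPrime.under_maximalIdeal A' 𝔭
    have h3 : ((q'.comap (algebraMap A' C')).comap (algebraMap A A')).map (algebraMap A A') =
        q'.comap (algebraMap A' C') := IsLocalization.map_under M A' _
    have h4 : ((IsLocalRing.maximalIdeal A').comap (algebraMap A A')).map (algebraMap A A') =
        IsLocalRing.maximalIdeal A' := IsLocalization.map_under M A' _
    rw [← h3, h1, ← h2, h4]
  obtain ⟨P', hP'p, hgP', hP'q, hP'A⟩ := exists_prime_horizontal (A := A') (C := C') q' hq'm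
    (algebraMap C C' g) (Ideal.mem_map_of_mem _ hg) n hn' (by
      intro Q' hQ'p hQ'q hQ'c hgQ'
      haveI := hQ'p
      rw [htdsq Q']
      refine H2 (Q'.comap (algebraMap C C')) (Ideal.comap_isPrime _ _) ?_ ?_ hgQ'
      · rw [← hq'c]; exact Ideal.comap_mono hQ'q
      · rw [← hcontr, hQ'c, hcontr, hq'c])
  haveI := hP'p
  refine ⟨P'.comap (algebraMap C C'), Ideal.comap_isPrime _ _, hgP', ?_, ?_⟩
  · rw [← hq'c]; exact Ideal.comap_mono hP'q
  · rw [← hcontr, hP'A]
    exact Ideal.comap_bot_of_injective _ hinjA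

theorem exists_prime_horizontal_nonlocal {A C : Type u} [CommRing A] [IsDomain A]
    [CommRing C] [IsDomain C] [Algebra A C] [Algebra.FiniteType A C] [FaithfulSMul A C]
    (q : Ideal C) [q.IsPrime]
    (g : C) (hg : g ∈ q) (n : ℕ) (hn : Algebra.trdeg A C = n)
    (H2 : ∀ Q : Ideal C, Q.IsPrime → Q ≤ q →
      Q.comap (algebraMap A C) = q.comap (algebraMap A C) → g ∈ Q →
      td (Ideal.quotientMap Q (algebraMap A C) le_rfl) + 1 ≤ (n : Cardinal.{u})) :
    ∃ P : Ideal C, P.IsPrime ∧ g ∈ P ∧ P ≤ q ∧ P.comap (algebraMap A C) = ⊥ :=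
  exists_prime_horizontal_of_isLocalization
    (A' := Localization.AtPrime (q.comap (algebraMap A C)))
    (C' := Localization (Algebra.algebraMapSubmonoid C (q.comap (algebraMap A C)).primeCompl))
    q g hg n hn H2

/-- the general form: `ψ : R → T` of finite type, `P₀ ≤ q` primes of `T`, `g ∈ q`,
`n = trdeg κ(P₀)/κ(P₀ ∩ R)`; if every prime `Q` between `P₀` and `q` over `q ∩ R` containing `g`
has residue transcendence degree `< n`, there is a prime `P` between `P₀` and `q` containing `g`
and lying over `P₀ ∩ R`. -/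
theorem exists_prime_horizontal_general {R T : Type u} [CommRing R] [CommRing T] (ψ : R →+* T)
    (hψ : ψ.FiniteType) (P₀ q : Ideal T) [P₀.IsPrime] [q.IsPrime] (hle : P₀ ≤ q) (g : T)
    (hg : g ∈ q) (n : ℕ) (hn : td (Ideal.quotientMap P₀ ψ le_rfl) = n)
    (H : ∀ Q : Ideal T, Q.IsPrime → P₀ ≤ Q → Q ≤ q → Q.comap ψ = q.comap ψ → g ∈ Q →
      td (Ideal.quotientMap Q ψ le_rfl) + 1 ≤ (n : Cardinal.{u})) :
    ∃ P : Ideal T, P.IsPrime ∧ P₀ ≤ P ∧ P ≤ q ∧ g ∈ P ∧ P.comap ψ = P₀.comap ψ := by
  haveI : (P₀.comap ψ).IsPrime := Ideal.comap_isPrime _ _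
  haveI : IsDomain (R ⧸ P₀.comap ψ) := Ideal.Quotient.isDomain _
  haveI : IsDomain (T ⧸ P₀) := Ideal.Quotient.isDomain _
  letI alg : Algebra (R ⧸ P₀.comap ψ) (T ⧸ P₀) := (Ideal.quotientMap P₀ ψ le_rfl).toAlgebra
  have halg : algebraMap (R ⧸ P₀.comap ψ) (T ⧸ P₀) = Ideal.quotientMap P₀ ψ le_rfl := rfl
  haveI : FaithfulSMul (R ⧸ P₀.comap ψ) (T ⧸ P₀) := by
    rw [faithfulSMul_iff_algebraMap_injective, halg]
    exact Ideal.quotientMap_injective
  haveI : Algebra.FiniteType (R ⧸ P₀.comap ψ) (T ⧸ P₀) := by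
    have h1 : ((Ideal.quotientMap P₀ ψ le_rfl).comp
        (Ideal.Quotient.mk (P₀.comap ψ))).FiniteType := by
      have : (Ideal.quotientMap P₀ ψ le_rfl).comp (Ideal.Quotient.mk (P₀.comap ψ)) =
          (Ideal.Quotient.mk P₀).comp ψ := by
        ext a; rfl
      rw [this]
      exact (RingHom.FiniteType.of_surjective _ Ideal.Quotient.mk_surjective).comp hψ
    exact RingHom.FiniteType.of_comp_finiteType h1
  have hcomm : (algebraMap (R ⧸ P₀.comap ψ) (T ⧸ P₀)).comp (Ideal.Quotient.mk (P₀.comap ψ)) =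
      (Ideal.Quotient.mk P₀).comp ψ := by
    ext a; rfl
  have hcontr : ∀ Qb : Ideal (T ⧸ P₀), (Qb.comap (Ideal.Quotient.mk P₀)).comap ψ =
      (Qb.comap (algebraMap (R ⧸ P₀.comap ψ) (T ⧸ P₀))).comap
        (Ideal.Quotient.mk (P₀.comap ψ)) := by
    intro Qb
    rw [Ideal.comap_comap, Ideal.comap_comap, hcomm]
  have hP₀le : ∀ Qb : Ideal (T ⧸ P₀), P₀ ≤ Qb.comap (Ideal.Quotient.mk P₀) := by
    intro Qb t ht
    rw [Ideal.mem_comap, Ideal.Quotient.eq_zero_iff_mem.mpr ht]
    exact Qb.zero_mem
  haveI hqp := map_mk_isPrime P₀ q hle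
  set qb := q.map (Ideal.Quotient.mk P₀) with hqb
  have hqc : qb.comap (Ideal.Quotient.mk P₀) = q := comap_map_mk P₀ q hle
  have hn' : Algebra.trdeg (R ⧸ P₀.comap ψ) (T ⧸ P₀) = n := hn
  obtain ⟨Pb, hPbp, hgPb, hPbq, hPbA⟩ := exists_prime_horizontal_nonlocal
    (A := R ⧸ P₀.comap ψ) (C := T ⧸ P₀) qb (Ideal.Quotient.mk P₀ g)
    (Ideal.mem_map_of_mem _ hg) n hn' (by
      intro Qb hQbp hQbq hQbc hgQb
      haveI := hQbp
      rw [td_quotientMap_congr_hom _ _ halg Qb, td_quotientMap_quotient ψ P₀ Qb]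
      refine H (Qb.comap (Ideal.Quotient.mk P₀)) (Ideal.comap_isPrime _ _) (hP₀le Qb) ?_ ?_ hgQb
      · rw [← hqc]; exact Ideal.comap_mono hQbq
      · rw [hcontr, hQbc, ← hcontr, hqc])
  haveI := hPbp
  refine ⟨Pb.comap (Ideal.Quotient.mk P₀), Ideal.comap_isPrime _ _, hP₀le Pb, ?_, hgPb, ?_⟩
  · rw [← hqc]; exact Ideal.comap_mono hPbq
  · rw [hcontr, hPbA]
    ext r
    rw [Ideal.mem_comap, Ideal.mem_bot, Ideal.Quotient.eq_zero_iff_mem]

end Groth.Agent.Lib.helper3.HorizPrime
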