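import Mathlib
import Groth.Agent.Lib.Helper3.FlatDescP
import Groth.Agent.Lib.Helper3.FlatDescL
import Groth.Agent.S6883
/-!
# Descent of flatness along an injective integral ring extension, finitely presented case
(helper3, EGA IV 11.5.?)

* `flat_model_of_integral_injective` : model form.
* `flat_of_flat_baseChange_integral_injective` : `B` f.p. over `A`, `A ↪ A'` integral,
  `A' ⊗[A] B` flat over `A'` ⇒ `B` flat over `A`.
-/

set_option autoImplicit false
set_option linter.style.haveILetI false
set_option linter.unusedSectionVars false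
universe u

open TensorProduct

namespace Groth.Agent.Lib.helper3.IntFlatDesc

open Groth.Agent.Lib.helper3.FlatDesc Groth.Agent.Lib.helper3.FlatLocus

/-- an element integral over `A` via a monic polynomial whose coefficients lie in a subalgebra `A1`
is integral over `A1`. -/
theorem isIntegral_subalgebra_of_coeffs {R0 A A' : Type*} [CommRing R0] [CommRing A] [CommRing A']
    [Algebra R0 A] [Algebra A A'] (A1 : Subalgebra R0 A) (t : A') (p : Polynomial A)
    (hp : p.Monic) (hpt : Polynomial.eval₂ (algebraMap A A') t p = 0)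
    (hc : ∀ k, p.coeff k ∈ A1) : IsIntegral A1 t := by
  have hl : p ∈ Polynomial.lifts (algebraMap A1 A) := by
    rw [Polynomial.lifts_iff_coeff_lifts]
    intro k
    exact ⟨⟨p.coeff k, hc k⟩, rfl⟩
  obtain ⟨q, hq, -, hqm⟩ := Polynomial.lifts_and_natDegree_eq_and_monic hl hp
  refine ⟨q, hqm, ?_⟩
  rw [IsScalarTower.algebraMap_eq A1 A A', ← Polynomial.eval₂_map, hq, hpt]

section Model

variable {R0 A A' : Type u} [CommRing R0] [CommRing A] [CommRing A'] [IsNoetherianRing R0]
  [Algebra R0 A] [Algebra A A'] [Algebra R0 A'] [IsScalarTower R0 A A']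
  [Algebra.IsIntegral A A']
  {n b c : ℕ} (v0 : Fin c → (Fin b → MvPolynomial (Fin n) R0))

set_option maxHeartbeats 800000 in
/-- **Descent of flatness along an injective integral extension, model form.** -/
theorem flat_model_of_integral_injective (hinj : Function.Injective (algebraMap A A'))
    (h : Module.Flat A' ((Fin b → MvPolynomial (Fin n) A') ⧸ NB (vmap A' v0))) :
    Module.Flat A ((Fin b → MvPolynomial (Fin n) A) ⧸ NB (vmap A v0)) := by
  classical
  obtain ⟨C, hCfg, hCflat⟩ := exists_fg_subalgebra_flat_model v0 h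
  obtain ⟨T, hT⟩ := hCfg
  have hint : ∀ t : A', ∃ p : Polynomial A, p.Monic ∧ Polynomial.eval₂ (algebraMap A A') t p = 0 :=
    fun t => Algebra.IsIntegral.isIntegral (R := A) t
  choose p hpm hpt using hint
  let S : Finset A := T.biUnion fun t => (p t).coeffs
  let A1 : Subalgebra R0 A := Algebra.adjoin R0 (S : Set A)
  have hA1fg : A1.FG := Subalgebra.fg_adjoin_finset S
  haveI : Algebra.FiniteType R0 A1 := (Subalgebra.fg_iff_finiteType A1).mp hA1fg
  haveI : IsNoetherianRing A1 := Algebra.FiniteType.isNoetherianRing R0 A1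
  have hcoef : ∀ t ∈ T, ∀ k, (p t).coeff k ∈ A1 := by
    intro t ht k
    by_cases hk : (p t).coeff k = 0
    · rw [hk]; exact zero_mem _
    · apply Algebra.subset_adjoin
      simp only [S, Finset.coe_biUnion, Set.mem_iUnion]
      exact ⟨t, ht, Polynomial.coeff_mem_coeffs hk⟩
  have hintT : ∀ t ∈ (T : Set A'), IsIntegral A1 t := fun t ht =>
    isIntegral_subalgebra_of_coeffs A1 t (p t) (hpm t) (hpt t) (hcoef t ht)
  let A1' : Subalgebra A1 A' := Algebra.adjoin A1 (T : Set A')
  have hfg : A1'.toSubmodule.FG := _root_.fg_adjoin_of_finite T.finite_toSet hintT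
  haveI : Module.Finite A1 A1' := Module.Finite.iff_fg.mpr hfg
  haveI : IsNoetherianRing A1' := IsNoetherianRing.of_finite A1 A1'
  have hinj1 : Function.Injective (algebraMap A1 A1') := by
    intro x y hxy
    have h1 : algebraMap A A' (x : A) = algebraMap A A' (y : A) := congrArg Subtype.val hxy
    exact Subtype.ext (hinj h1)
  -- `C ≤ A1'`
  have hCle : ∀ c ∈ C, c ∈ A1' := by
    have : C ≤ A1'.restrictScalars R0 := by
      rw [← hT]
      exact Algebra.adjoin_le (fun t ht => Algebra.subset_adjoin ht)
    exact fun c hc => this hc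
  let ι : C →+* A1' := RingHom.codRestrict (C.val : C →+* A') A1' (fun c => hCle c c.2)
  letI : Algebra C A1' := ι.toAlgebra
  haveI : IsScalarTower R0 C A1' := IsScalarTower.of_algebraMap_eq (fun r => Subtype.ext rfl)
  have h1 : Module.Flat A1' ((Fin b → MvPolynomial (Fin n) A1') ⧸ NB (vmap A1' v0)) := by
    have := flat_model_baseChange (B' := A1') (vmap C v0) hCflat
    rwa [vmap_vmap v0 C] at this
  have h2 : Module.Flat A1' ((Fin b → MvPolynomial (Fin n) A1') ⧸ NB (vmap A1' (vmap A1 v0))) := by
    rwa [vmap_vmap v0 A1]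
  haveI : Module.Flat A1' (A1' ⊗[A1] ((Fin b → MvPolynomial (Fin n) A1) ⧸ NB (vmap A1 v0))) :=
    Module.Flat.of_linearEquiv (modelBaseChangeEquiv (B' := A1') (vmap A1 v0))
  have h3 : Module.Flat A1 ((Fin b → MvPolynomial (Fin n) A1) ⧸ NB (vmap A1 v0)) :=
    Groth.Agent.S6883.result A1 A1' hinj1 _
  have h4 := flat_model_baseChange (B' := A) (vmap A1 v0) h3
  rwa [vmap_vmap v0 A1] at h4

end Model

section Alg

/-- **Descent of flatness along an injective integral extension, algebra form**: `B` finitely
presented over `A`, `A ↪ A'` integral, `A' ⊗[A] B` flat over `A'` ⇒ `B` flat over `A`. -/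
theorem flat_of_flat_baseChange_integral_injective {A A' B : Type u} [CommRing A] [CommRing A']
    [CommRing B] [Algebra A A'] [Algebra.IsIntegral A A']
    (hinj : Function.Injective (algebraMap A A'))
    [Algebra A B] [Algebra.FinitePresentation A B] (h : Module.Flat A' (A' ⊗[A] B)) :
    Module.Flat A B := by
  obtain ⟨n, π, hπ, hfg⟩ := Algebra.FinitePresentation.out (R := A) (A := B)
  obtain ⟨d, w, hw⟩ := Submodule.fg_iff_exists_fin_generating_family.mp hfg
  obtain ⟨R0, hR0, -, w0, rfl⟩ := exists_wmap_eq A w ∅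
  haveI : Algebra.FiniteType ℤ R0 := (Subalgebra.fg_iff_finiteType R0).mp hR0
  haveI : IsNoetherianRing R0 := Algebra.FiniteType.isNoetherianRing ℤ R0
  have hw' : RingHom.ker π = Ideal.span (Set.range (wmap A w0)) := hw.symm
  let e : ((Fin 1 → MvPolynomial (Fin n) A) ⧸ NB (vmap A (vOf w0))) ≃ₗ[A] B :=
    (((modelEquivQuot (wmap A w0)).restrictScalars A).trans
      ((Ideal.quotientEquivAlgOfEq A hw'.symm).trans
        (Ideal.quotientKerAlgEquivOfSurjective hπ)).toLinearEquiv)
  have hflatA' : Module.Flat A' ((Fin 1 → MvPolynomial (Fin n) A') ⧸ NB (vmap A' (vOf w0))) := by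
    haveI : Module.Flat A' (A' ⊗[A] ((Fin 1 → MvPolynomial (Fin n) A) ⧸ NB (vmap A (vOf w0)))) :=
      Module.Flat.of_linearEquiv
        (TensorProduct.AlgebraTensorModule.congr (LinearEquiv.refl A' A') e)
    have h2 : Module.Flat A'
        ((Fin 1 → MvPolynomial (Fin n) A') ⧸ NB (vmap A' (vmap A (vOf w0)))) :=
      Module.Flat.of_linearEquiv (modelBaseChangeEquiv (B' := A') (vmap A (vOf w0))).symm
    rwa [vmap_vmap (vOf w0) A] at h2
  haveI := flat_model_of_integral_injective (vOf w0) hinj hflatA'
  exact Module.Flat.of_linearEquiv e.symm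

/-- pushout form. -/
theorem flat_of_isPushout_integral_injective {A A' B B' : Type u} [CommRing A] [CommRing A']
    [CommRing B] [CommRing B'] [Algebra A A'] [Algebra.IsIntegral A A']
    (hinj : Function.Injective (algebraMap A A'))
    [Algebra A B] [Algebra.FinitePresentation A B] [Algebra A' B'] [Algebra B B'] [Algebra A B']
    [IsScalarTower A A' B'] [IsScalarTower A B B'] [Algebra.IsPushout A A' B B']
    (h : Module.Flat A' B') : Module.Flat A B := by
  apply flat_of_flat_baseChange_integral_injective (A' := A') hinj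
  exact Module.Flat.of_linearEquiv (Algebra.IsPushout.equiv A A' B B').toLinearEquiv

end Alg

end Groth.Agent.Lib.helper3.IntFlatDesc
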