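import Groth.Agent.Lib.Helper3.RootD12

/-! The integral form of a crystallographic root pairing over a domain of characteristic zero: the root
pairing over `ℤ` on the `ℤ`-span of the roots and its dual, with the same indices, the same reflection
permutations and the same Cartan integers. -/

set_option autoImplicit false

namespace Groth.Agent.Lib.helper3.RootDLib

open _root_.RootD

variable {ι R M N : Type*} [CommRing R] [IsDomain R] [CharZero R] [AddCommGroup M] [Module R M]
  [AddCommGroup N] [Module R N] (P : RootPairing ι R M N)

include P in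
lemma isTorsionFree_int_left : Module.IsTorsionFree ℤ M := by
  haveI : Module.IsReflexive R M := .of_isPerfPair P.toLinearMap
  exact .trans_faithfulSMul ℤ R M

lemma intCast_coroot'In [P.IsCrystallographic] (i : ι) (x : P.rootSpan ℤ) :
    ((P.coroot'In ℤ i x : ℤ) : R) = P.toLinearMap (x : M) (P.coroot i) := by
  have := P.algebraMap_coroot'In_apply ℤ i x
  rw [eq_intCast] at this
  exact this

lemma intCast_pairingIn [P.IsCrystallographic] (i j : ι) :
    ((P.pairingIn ℤ i j : ℤ) : R) = P.pairing i j := by
  have := P.algebraMap_pairingIn ℤ i j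
  rw [eq_intCast] at this
  exact this

/-- The integral form. -/
noncomputable def intForm [Finite ι] [P.IsCrystallographic] :
    RootPairing ι ℤ (P.rootSpan ℤ) (Module.Dual ℤ (P.rootSpan ℤ)) :=
  haveI : Module.IsTorsionFree ℤ M := isTorsionFree_int_left P
  haveI : Module.IsReflexive R M := .of_isPerfPair P.toLinearMap
  haveI : IsAddTorsionFree M := .of_isTorsionFree ℤ M
  haveI : Module.Free ℤ (P.rootSpan ℤ) := inferInstance
  RootPairing.mk' (Module.Dual.eval ℤ (P.rootSpan ℤ))
    ⟨fun i => P.rootSpanMem ℤ i, fun i j h => P.root.injective (Subtype.ext_iff.mp h)⟩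
    ⟨fun i => P.coroot'In ℤ i, fun i j h => by
      apply P.coroot.injective
      apply P.injOn_dualMap_subtype_span_root_coroot (Set.mem_range_self i) (Set.mem_range_self j)
      apply LinearMap.ext
      intro x
      obtain ⟨x, hx⟩ := x
      simp only [LinearMap.coe_comp, Function.comp_apply, LinearMap.dualMap_apply,
        Submodule.subtype_apply, LinearMap.flip_apply]
      induction hx using Submodule.span_induction with
      | mem y hy =>
        obtain ⟨k, rfl⟩ := hy
        have h1 := congrArg (fun F : Module.Dual ℤ (P.rootSpan ℤ) => ((F (P.rootSpanMem ℤ k) : ℤ) : R)) h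
        simp only [intCast_coroot'In] at h1
        exact h1
      | zero => simp
      | add y z _ _ hy hz => simp only [map_add, LinearMap.add_apply, hy, hz]
      | smul t y _ hy => simp only [map_smul, LinearMap.smul_apply, hy]⟩
    (fun i => by
      change P.coroot'In ℤ i (P.rootSpanMem ℤ i) = 2
      rw [P.coroot'In_rootSpanMem_eq_pairingIn]
      have : ((P.pairingIn ℤ i i : ℤ) : R) = ((2 : ℤ) : R) := by
        rw [intCast_pairingIn, P.pairing_same]
        norm_num
      exact_mod_cast this)
    (by
      rintro i _ ⟨j, rfl⟩
      refine ⟨P.reflectionPerm i j, ?_⟩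
      apply Subtype.ext
      simp only [Function.Embedding.coeFn_mk, Module.preReflection_apply]
      change P.root (P.reflectionPerm i j) =
        P.root j - (P.coroot'In ℤ i (P.rootSpanMem ℤ j)) • P.root i
      rw [P.coroot'In_rootSpanMem_eq_pairingIn, P.root_reflectionPerm, P.reflection_apply_root,
        ← intCast_pairingIn, Int.cast_smul_eq_zsmul])
    (by
      rintro i _ ⟨j, rfl⟩
      refine ⟨P.reflectionPerm i j, ?_⟩
      simp only [Function.Embedding.coeFn_mk, Module.preReflection_apply]
      apply LinearMap.ext
      intro x
      have hinj : Function.Injective ((Int.cast : ℤ → R)) := Int.cast_injective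
      apply hinj
      change ((P.coroot'In ℤ (P.reflectionPerm i j) x : ℤ) : R) =
        ((P.coroot'In ℤ j x - (P.coroot'In ℤ j (P.rootSpanMem ℤ i)) * P.coroot'In ℤ i x : ℤ) : R)
      rw [Int.cast_sub, Int.cast_mul, intCast_coroot'In, intCast_coroot'In, intCast_coroot'In,
        intCast_coroot'In, P.coroot_reflectionPerm, P.coreflection_apply_coroot, map_sub, map_smul]
      rfl)

lemma intForm_root [Finite ι] [P.IsCrystallographic] (i : ι) :
    (((intForm P).root i : P.rootSpan ℤ) : M) = P.root i := rfl

lemma intForm_coroot [Finite ι] [P.IsCrystallographic] (i : ι) :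
    (intForm P).coroot i = P.coroot'In ℤ i := rfl

lemma intForm_pairing [Finite ι] [P.IsCrystallographic] (i j : ι) :
    (intForm P).pairing i j = P.pairingIn ℤ i j := rfl

lemma intForm_reflectionPerm [Finite ι] [P.IsCrystallographic] (i j : ι) :
    (intForm P).reflectionPerm i j = P.reflectionPerm i j := by
  apply (intForm P).root.injective
  apply Subtype.ext
  rw [(intForm P).root_reflectionPerm, (intForm P).reflection_apply_root, intForm_pairing,
    intForm_root, P.root_reflectionPerm, P.reflection_apply_root, ← intCast_pairingIn,
    Int.cast_smul_eq_zsmul]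
  rfl

lemma intForm_isIndiv [Finite ι] [P.IsCrystallographic] [P.IsReduced] (k : ι) :
    IsIndiv (intForm P) k := by
  haveI : Module.IsTorsionFree ℤ M := isTorsionFree_int_left P
  haveI : IsAddTorsionFree M := .of_isTorsionFree ℤ M
  intro j h
  have h1 : (2 : ℕ) • P.root j ∉ Set.range P.root := P.nsmul_notMem_range_root
  apply h1
  refine ⟨k, ?_⟩
  have h2 := congrArg (Subtype.val) h
  rw [intForm_root] at h2
  rw [h2.symm, ← natCast_zsmul]
  rfl

end Groth.Agent.Lib.helper3.RootDLib
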