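import Mathlib
import Groth.Agent.Lib.Helper9.StageSquares

/-!
# Base change of the dominating component when the base change is integral (helper3; = S4973)

EGA IV 4.x-type: `Y₀`, `Y` integral, `g : Y ⟶ Y₀` dominant, `f₀ : X₀ ⟶ Y₀` with irreducible generic
fibre, `C` the irreducible component of `X₀` meeting the generic fibre.  If `X₀ ×_{Y₀} Y` is integral
then `C ×_{Y₀} Y ⟶ X₀ ×_{Y₀} Y` is an isomorphism.
-/

set_option autoImplicit false
universe u
open CategoryTheory AlgebraicGeometry CategoryTheory.Limits TopologicalSpace Topology Function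

namespace Groth.Agent.Lib.helper3.IntegralBCComponent

theorem genericPoint_map_of_isDominant {Y₀ Y : Scheme.{u}} [IsIntegral Y₀] [IsIntegral Y]
    (g : Y ⟶ Y₀) [IsDominant g] : g.base (genericPoint Y) = genericPoint Y₀ := by
  have h1 : Set.range g.base ⊆ closure {g.base (genericPoint Y)} := by
    rintro _ ⟨y, rfl⟩
    exact ((genericPoint_specializes y).map g.continuous).mem_closure
  have h2 : closure ({g.base (genericPoint Y)} : Set Y₀) = Set.univ := by
    apply Set.univ_subset_iff.mp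
    rw [← g.denseRange.closure_range]
    exact closure_minimal h1 isClosed_closure
  have h3 : IsGenericPoint (g.base (genericPoint Y)) (Set.univ : Set Y₀) := h2
  exact h3.eq (genericPoint_spec Y₀)

theorem aux {C' X₀ Y₀ Y : Scheme.{u}} [IsIntegral Y₀] [IsIntegral Y]
    (g : Y ⟶ Y₀) [IsDominant g] (f₀ : X₀ ⟶ Y₀)
    (hirr : IsIrreducible (f₀.base ⁻¹' {genericPoint Y₀}))
    (ι : C' ⟶ X₀) (hιcl : IsClosedImmersion ι) (C : Set X₀) (hCcl : IsClosed C)
    (hrange : Set.range ι.base = C)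
    (hC : C ∈ irreducibleComponents (X₀ : Type u))
    (hCη : (C ∩ f₀.base ⁻¹' {genericPoint Y₀}).Nonempty) [IsIntegral (pullback f₀ g)]
    (e₁ : (ι ≫ f₀) ≫ 𝟙 Y₀ = ι ≫ f₀) (e₂ : g ≫ 𝟙 Y₀ = 𝟙 Y ≫ g) :
    IsIso (pullback.map (ι ≫ f₀) g f₀ g ι (𝟙 Y) (𝟙 Y₀) e₁ e₂) := by
  haveI := hιcl
  -- the pullback square
  have hΨ1 : pullback.map (ι ≫ f₀) g f₀ g ι (𝟙 Y) (𝟙 Y₀) e₁ e₂ ≫ pullback.fst f₀ g =
      pullback.fst (ι ≫ f₀) g ≫ ι := pullback.lift_fst _ _ _
  have hΨ2 : pullback.map (ι ≫ f₀) g f₀ g ι (𝟙 Y) (𝟙 Y₀) e₁ e₂ ≫ pullback.snd f₀ g =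
      pullback.snd (ι ≫ f₀) g := by
    have h := pullback.lift_snd (f := f₀) (g := g) (pullback.fst (ι ≫ f₀) g ≫ ι)
      (pullback.snd (ι ≫ f₀) g ≫ 𝟙 Y)
      (by rw [Category.assoc, Category.comp_id]; exact pullback.condition)
    exact h.trans (Category.comp_id _)
  have sq : IsPullback (pullback.map (ι ≫ f₀) g f₀ g ι (𝟙 Y) (𝟙 Y₀) e₁ e₂)
      (pullback.fst (ι ≫ f₀) g) (pullback.fst f₀ g) ι := by
    refine IsPullback.of_right ?_ hΨ1 (IsPullback.of_hasPullback f₀ g).flip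
    rw [hΨ2]
    exact (IsPullback.of_hasPullback (ι ≫ f₀) g).flip
  haveI : IsClosedImmersion (pullback.map (ι ≫ f₀) g f₀ g ι (𝟙 Y) (𝟙 Y₀) e₁ e₂) :=
    MorphismProperty.of_isPullback (P := @IsClosedImmersion) sq.flip hιcl
  -- the generic fibre is contained in `C`
  obtain ⟨p, hpC, hpF⟩ := hCη
  have hCirr : IsIrreducible (C : Set X₀) := hC.1
  obtain ⟨c, hc⟩ := QuasiSober.sober hCirr hCcl
  have hcp : c ⤳ p := hc.specializes hpC
  have hmaxη : ∀ y : Y₀, y ⤳ genericPoint Y₀ → y = genericPoint Y₀ := fun y hy =>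
    (hy.antisymm (genericPoint_specializes y)).eq
  have hcF : c ∈ f₀.base ⁻¹' {genericPoint Y₀} := by
    have h1 : f₀.base c ⤳ f₀.base p := hcp.map f₀.continuous
    rw [show f₀.base p = genericPoint Y₀ from hpF] at h1
    exact hmaxη _ h1
  have hFC : f₀.base ⁻¹' {genericPoint Y₀} ⊆ (C : Set X₀) := by
    have h1 : (C : Set X₀) ⊆ closure (f₀.base ⁻¹' {genericPoint Y₀}) := by
      rw [← hc.def]
      exact closure_mono (Set.singleton_subset_iff.mpr hcF)
    exact subset_closure.trans (hC.2 hirr.closure h1)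
  -- the generic point of the pullback
  have hgη : g.base (genericPoint Y) = genericPoint Y₀ := genericPoint_map_of_isDominant g
  obtain ⟨x, hx1, hx2⟩ := Scheme.Pullback.exists_preimage_pullback (f := f₀) (g := g) p
    (genericPoint Y) (by rw [hgη]; exact hpF)
  have hξx : genericPoint ↥(pullback f₀ g) ⤳ x := genericPoint_specializes x
  have hξF : (pullback.fst f₀ g).base (genericPoint ↥(pullback f₀ g)) ∈
      f₀.base ⁻¹' {genericPoint Y₀} := by
    have h1 : f₀.base ((pullback.fst f₀ g).base (genericPoint ↥(pullback f₀ g))) ⤳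
        f₀.base ((pullback.fst f₀ g).base x) :=
      (hξx.map (pullback.fst f₀ g).continuous).map f₀.continuous
    rw [hx1, show f₀.base p = genericPoint Y₀ from hpF] at h1
    exact hmaxη _ h1
  have hξC : (pullback.fst f₀ g).base (genericPoint ↥(pullback f₀ g)) ∈ Set.range ι.base := by
    rw [hrange]; exact hFC hξF
  obtain ⟨c', hc'⟩ := hξC
  obtain ⟨q, hq1, -⟩ := Groth.Agent.Lib.helper9.exists_preimage_of_isPullback sq
    (genericPoint ↥(pullback f₀ g)) c' hc'.symm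
  -- surjectivity
  haveI : AlgebraicGeometry.Surjective (pullback.map (ι ≫ f₀) g f₀ g ι (𝟙 Y) (𝟙 Y₀) e₁ e₂) := by
    constructor
    intro z
    have hcl : IsClosed (Set.range (pullback.map (ι ≫ f₀) g f₀ g ι (𝟙 Y) (𝟙 Y₀) e₁ e₂).base) :=
      (pullback.map (ι ≫ f₀) g f₀ g ι (𝟙 Y) (𝟙 Y₀) e₁ e₂).isClosedEmbedding.isClosed_range
    exact (genericPoint_specializes z).mem_closed hcl ⟨q, hq1⟩
  exact isIso_of_isClosedImmersion_of_surjective _

/-- Statement S4973. -/
theorem main {X₀ Y₀ Y : Scheme.{u}} [IsIntegral Y₀] [IsIntegral Y]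
    (g : Y ⟶ Y₀) [IsDominant g] (f₀ : X₀ ⟶ Y₀)
    (hirr : IsIrreducible (f₀.base ⁻¹' {genericPoint Y₀}))
    (C : TopologicalSpace.Closeds X₀) (hC : (C : Set X₀) ∈ irreducibleComponents (X₀ : Type u))
    (hCη : ((C : Set X₀) ∩ f₀.base ⁻¹' {genericPoint Y₀}).Nonempty) [IsIntegral (pullback f₀ g)]
    (e₁ : ((Scheme.IdealSheafData.vanishingIdeal C).subschemeι ≫ f₀) ≫ 𝟙 Y₀ =
      (Scheme.IdealSheafData.vanishingIdeal C).subschemeι ≫ f₀) (e₂ : g ≫ 𝟙 Y₀ = 𝟙 Y ≫ g) :
    IsIso (pullback.map ((Scheme.IdealSheafData.vanishingIdeal C).subschemeι ≫ f₀) g f₀ g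
      (Scheme.IdealSheafData.vanishingIdeal C).subschemeι (𝟙 Y) (𝟙 Y₀) e₁ e₂) :=
  aux g f₀ hirr (Scheme.IdealSheafData.vanishingIdeal C).subschemeι inferInstance (C : Set X₀)
    C.isClosed (by
      rw [Scheme.IdealSheafData.range_subschemeι, Scheme.IdealSheafData.coe_support_vanishingIdeal])
    hC hCη e₁ e₂

end Groth.Agent.Lib.helper3.IntegralBCComponent
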