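import Groth.Agent.Lib.Helper3.GammaAdams
import Groth.Prelude.Def_W4bkmilneecrracsp2Inv

/-!
λ-rings with positive structure and an involution: splitting lemmas (helper3).
-/

set_option autoImplicit false
universe u

namespace Groth.Agent.Lib.helper3.GammaLib

open LambdaRing Finset
open Groth.Agent.Lib.helper3.AdamsOp

/-- `e_i(v) = e_{n-i}(w) · Π v` when `w_a v_a = 1`. -/
theorem esymm_compl {R : Type*} [CommRing R] {n : ℕ} (v w : Fin n → R) (h : ∀ a, w a * v a = 1)
    (i : ℕ) (hi : i ≤ n) :
    ∑ s ∈ (univ : Finset (Fin n)).powersetCard i, ∏ a ∈ s, v a =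
      (∑ t ∈ (univ : Finset (Fin n)).powersetCard (n - i), ∏ a ∈ t, w a) * ∏ a, v a := by
  classical
  rw [Finset.sum_mul]
  refine Finset.sum_nbij' (fun s => sᶜ) (fun t => tᶜ) ?_ ?_ ?_ ?_ ?_
  · intro s hs
    rw [Finset.mem_powersetCard] at hs ⊢
    refine ⟨Finset.subset_univ _, ?_⟩
    rw [Finset.card_compl, hs.2, Fintype.card_fin]
  · intro t ht
    rw [Finset.mem_powersetCard] at ht ⊢
    refine ⟨Finset.subset_univ _, ?_⟩
    rw [Finset.card_compl, ht.2, Fintype.card_fin]; omega
  · intro s _; exact compl_compl s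
  · intro t _; exact compl_compl t
  · intro s _
    rw [← Finset.prod_mul_prod_compl sᶜ v, compl_compl, ← mul_assoc, ← Finset.prod_mul_distrib,
      Finset.prod_congr rfl (fun a _ => h a), Finset.prod_const_one, one_mul]

variable {L : Type u} [CommRing L] [LambdaOps L] {Q : PosStructure L} {inv' : L → L}

theorem inv_zero (hV : IsInvolution Q inv') : inv' 0 = 0 := by
  have h := hV.map_add 0 0
  rw [add_zero] at h
  exact left_eq_add.mp h

theorem inv_sum (hV : IsInvolution Q inv') {ι : Type*} (s : Finset ι) (g : ι → L) :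
    inv' (∑ i ∈ s, g i) = ∑ i ∈ s, inv' (g i) := by
  classical
  induction s using Finset.induction_on with
  | empty => simpa using inv_zero hV
  | insert a s ha ih => rw [Finset.sum_insert ha, Finset.sum_insert ha, hV.map_add, ih]

section Lines

variable (hV : IsInvolution Q inv') {n : ℕ} (v : Fin n → L) (hv : ∀ i, Q.IsLine (v i))

include hV hv

theorem lam_inv_sum_lines (k : ℕ) :
    LambdaOps.lam k (inv' (∑ a, v a)) =
      ∑ s ∈ (univ : Finset (Fin n)).powersetCard k, ∏ a ∈ s, inv' (v a) := by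
  rw [inv_sum hV, lam_sum_lines Q (fun a => inv' (v a)) (fun a => hV.inv_line _ (hv a))]

omit hV in
theorem lam_top_sum_lines : LambdaOps.lam n (∑ a, v a) = ∏ a, v a := by
  rw [lam_sum_lines Q v hv]
  have : (univ : Finset (Fin n)).powersetCard n = {univ} := by
    have := Finset.powersetCard_self (univ : Finset (Fin n))
    rwa [Finset.card_univ, Fintype.card_fin] at this
  rw [this, Finset.sum_singleton]

/-- `λ^i(e) = λ^(n-i)(e^∨) λ^n(e)` for a sum of `n` line elements. -/
theorem lam_sum_lines_eq_inv (i : ℕ) (hi : i ≤ n) :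
    LambdaOps.lam i (∑ a, v a) =
      LambdaOps.lam (n - i) (inv' (∑ a, v a)) * LambdaOps.lam n (∑ a, v a) := by
  rw [lam_inv_sum_lines hV v hv, lam_top_sum_lines v hv, lam_sum_lines Q v hv]
  exact esymm_compl v (fun a => inv' (v a)) (fun a => hV.inv_mul_self _ (hv a)) i hi

end Lines

/-- Splitting with involution, in `Fin`-indexed form. -/
theorem exists_inv_splitting {K : Type u} [CommRing K] [LambdaOps K] {P : PosStructure K}
    {inv : K → K} (hS : HasInvSplitting P inv) (e : K) (he : e ∈ P.pos) :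
    ∃ (M : PosLambdaRing.{u}) (inv' : M.carrier → M.carrier) (f : K →+* M.carrier),
      IsExtension P M.posStr f ∧ IsInvolution M.posStr inv' ∧ (∀ x : K, f (inv x) = inv' (f x)) ∧
      ∃ v : Fin (P.aug e).toNat → M.carrier, (∀ i, M.posStr.IsLine (v i)) ∧ ∑ i, v i = f e := by
  obtain ⟨M, inv', f, hf, hV', hc, s, hs, hse⟩ := hS e he
  obtain ⟨n, v, hv, hvs⟩ := exists_fin_family M.posStr s hs
  have hn : (P.aug e).toNat = n := by
    rw [← hf.aug_comp, ← hse, ← hvs, toNat_aug_sum_lines M.posStr v hv]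
  subst hn
  exact ⟨M, inv', f, hf, hV', hc, v, hv, hvs.trans hse⟩

end Groth.Agent.Lib.helper3.GammaLib
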