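import Mathlib

/-!
A space covered by pairwise meeting irreducible open subsets is irreducible (helper3).
-/

set_option autoImplicit false
universe u

namespace Groth.Agent.Lib.helper3.IrrCover

/-- a space covered by a nonempty family of irreducible open sets, any two of which meet, is
irreducible -/
theorem irreducibleSpace_of_cover {Z : Type*} [TopologicalSpace Z] {ι : Type*} [Nonempty ι]
    (V : ι → Set Z) (hopen : ∀ i, IsOpen (V i)) (hirr : ∀ i, IsIrreducible (V i))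
    (hcov : ∀ z, ∃ i, z ∈ V i) (hmeet : ∀ i j, (V i ∩ V j).Nonempty) : IrreducibleSpace Z := by
  have hne : Nonempty Z := by
    obtain ⟨i⟩ := ‹Nonempty ι›
    obtain ⟨z, hz⟩ := (hirr i).nonempty
    exact ⟨z⟩
  refine { toNonempty := hne, isPreirreducible_univ := ?_ }
  intro W₁ W₂ hW₁ hW₂ h₁ h₂
  obtain ⟨z₁, -, hz₁⟩ := h₁
  obtain ⟨z₂, -, hz₂⟩ := h₂
  obtain ⟨i, hi⟩ := hcov z₁
  obtain ⟨j, hj⟩ := hcov z₂
  -- step 1: W₁ meets V i ∩ V j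
  obtain ⟨y, hyVi, hyW₁, hyVj⟩ : (V i ∩ (W₁ ∩ V j)).Nonempty :=
    (hirr i).isPreirreducible W₁ (V j) hW₁ (hopen j) ⟨z₁, hi, hz₁⟩ (hmeet i j)
  -- step 2: inside V j
  obtain ⟨x, hxVj, hxW₁, hxW₂⟩ : (V j ∩ (W₁ ∩ W₂)).Nonempty :=
    (hirr j).isPreirreducible W₁ W₂ hW₁ hW₂ ⟨y, hyVj, hyW₁⟩ ⟨z₂, hj, hz₂⟩
  exact ⟨x, Set.mem_univ _, hxW₁, hxW₂⟩

end Groth.Agent.Lib.helper3.IrrCover
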