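import Groth.Agent.Lib.Helper3.FilMod

/-!
The filtration `U_k = γ^d(z) · V_{k-d}` for an element `z` with `γ^k z = 0`, `k > d`:
`γ^l(γ^d z) ∈ U_{max l d}` and `γ^d(γ^d z) ≡ θ_d γ^d z` modulo `U_{d+1}` (helper3).
-/

set_option autoImplicit false
universe u

namespace Groth.Agent.Lib.helper3.UnivGamma

open MvPolynomial Finset LambdaRing
open Groth.Agent.Lib.helper3.GammaLib Groth.Agent.Lib.helper3.GammaFil
open Groth.Agent.Lib.helper3.WeightLib

section Support

/-- every monomial of `Wγ l (n'+1)` involves a variable `X_t`, `t ≥ n'` -/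
theorem Wγ_support_trunc (l n' : ℕ) (hl : 1 ≤ l) :
    ∀ μ ∈ (Wγ l (n' + 1)).support, ∃ t : Fin ((n' + 1) * l), n' ≤ (t : ℕ) ∧ μ t ≠ 0 := by
  classical
  have hlt : ∀ k : Fin n', (k : ℕ) < (n' + 1) * l := by
    intro k
    have := k.isLt
    nlinarith
  have key : aeval (fun t : Fin ((n' + 1) * l) => if t ∈ {t : Fin ((n' + 1) * l) | n' ≤ (t : ℕ)}
      then (0 : MvPolynomial (Fin ((n' + 1) * l)) ℤ) else X t) (Wγ l (n' + 1)) = 0 := by
    have e2 := map_aeval_int'
      ((rename (fun k : Fin n' => (⟨k, hlt k⟩ : Fin ((n' + 1) * l))) :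
        MvPolynomial (Fin n') ℤ →ₐ[ℤ] MvPolynomial (Fin ((n' + 1) * l)) ℤ) :
        MvPolynomial (Fin n') ℤ →+* MvPolynomial (Fin ((n' + 1) * l)) ℤ)
      (fun i : Fin ((n' + 1) * l) =>
        if h : (i : ℕ) < n' then (X ⟨i, h⟩ : MvPolynomial (Fin n') ℤ) else 0) (Wγ l (n' + 1))
    have e3 := congrArg ((rename (fun k : Fin n' => (⟨k, hlt k⟩ : Fin ((n' + 1) * l))) :
        MvPolynomial (Fin n') ℤ →ₐ[ℤ] MvPolynomial (Fin ((n' + 1) * l)) ℤ) :
        MvPolynomial (Fin n') ℤ →+* MvPolynomial (Fin ((n' + 1) * l)) ℤ)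
      (Wγ_trunc_eq_zero l n' hl)
    rw [map_zero] at e3
    have e4 := e2.symm.trans e3
    refine Eq.trans ?_ e4
    congr 2
    funext i
    by_cases h : (i : ℕ) < n'
    · have h' : ¬ (i ∈ {t : Fin ((n' + 1) * l) | n' ≤ (t : ℕ)}) := by
        show ¬ (n' ≤ (i : ℕ)); omega
      simp only [dif_pos h, if_neg h']
      show _ = rename (fun k : Fin n' => (⟨k, hlt k⟩ : Fin ((n' + 1) * l))) (X ⟨i, h⟩)
      rw [rename_X]
    · have h' : i ∈ {t : Fin ((n' + 1) * l) | n' ≤ (t : ℕ)} := by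
        show n' ≤ (i : ℕ); omega
      simp only [dif_neg h, if_pos h']
      rw [map_zero]
  intro μ hμ
  obtain ⟨t, ht, hμt⟩ := exists_mem_of_aeval_kill _ (Wγ l (n' + 1)) key μ hμ
  exact ⟨t, ht, hμt⟩

theorem Wγ_sub_support_trunc (p : ℕ) :
    ∀ μ ∈ (Wγ (p + 1) (p + 1) - C (theta (p + 1)) * Xn ((p + 1) * (p + 1)) p).support,
      ∃ t : Fin ((p + 1) * (p + 1)), p ≤ (t : ℕ) ∧ μ t ≠ 0 := by
  classical
  have hpN : p < (p + 1) * (p + 1) := by nlinarith
  intro μ hμ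
  rw [mem_support_iff, coeff_sub] at hμ
  by_cases h : coeff μ (Wγ (p + 1) (p + 1)) = 0
  · rw [h, zero_sub, neg_ne_zero, coeff_C_mul, Xn, dif_pos hpN, coeff_X] at hμ
    have h2 : Finsupp.single (⟨p, hpN⟩ : Fin ((p + 1) * (p + 1))) 1 = μ := by
      by_contra hne
      rw [if_neg hne, mul_zero] at hμ
      exact hμ rfl
    refine ⟨⟨p, hpN⟩, le_rfl, ?_⟩
    rw [← h2, Finsupp.single_eq_same]
    exact one_ne_zero
  · exact Wγ_support_trunc (p + 1) p (by omega) μ (mem_support_iff.mpr h)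

end Support

section Eval

variable {A : Type u} [CommRing A] [LambdaOps A] {V : ℕ → Ideal A}

/-- evaluation at the `γ^i z` of a polynomial all of whose monomials have weight `≥ n` and involve
a variable of index `≥ n'`, when `γ^k z = 0` for `k > n' + 1` -/
theorem aeval_trunc_mem (hV : IsMulFil V) (M n' : ℕ) (Γ : MvPolynomial (Fin M) ℤ) (n : ℕ)
    (h1 : ∀ μ ∈ Γ.support, n ≤ wt (w1 M) μ)
    (h2 : ∀ μ ∈ Γ.support, ∃ t : Fin M, n' ≤ (t : ℕ) ∧ μ t ≠ 0) (z : A) (hz : GOK V z)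
    (hzhi : ∀ k : ℕ, n' + 1 < k → gamma k z = 0) :
    aeval (fun r : Fin M => gamma ((r : ℕ) + 1) z) Γ ∈
      Ideal.span {gamma (n' + 1) z} * V (n - (n' + 1)) := by
  classical
  apply aeval_mem_of_forall_monomial
  intro μ hμ
  obtain ⟨t, ht, hμt⟩ := h2 μ hμ
  rcases Nat.eq_or_lt_of_le ht with h | h
  · have hle : Finsupp.single t 1 ≤ μ := by
      intro s
      by_cases hs : s = t
      · subst hs
        rw [Finsupp.single_eq_same]
        exact Nat.one_le_iff_ne_zero.mpr hμt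
      · rw [Finsupp.single_eq_of_ne hs]
        exact Nat.zero_le _
    have hμ' : μ = Finsupp.single t 1 + (μ - Finsupp.single t 1) :=
      (add_tsub_cancel_of_le hle).symm
    have hw := h1 μ hμ
    rw [hμ', wt_add, wt_single] at hw
    rw [hμ', Finsupp.prod_add_index' (h := fun (t : Fin M) k => gamma ((t : ℕ) + 1) z ^ k)
      (fun _ => pow_zero _) (fun _ _ _ => pow_add _ _ _),
      Finsupp.prod_single_index (h := fun (t : Fin M) k => gamma ((t : ℕ) + 1) z ^ k) (pow_zero _),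
      pow_one, ← h]
    refine Ideal.mul_mem_mul (Ideal.subset_span rfl) ?_
    refine hV.anti _ _ ?_ (monomial_mem hV (w1 M) _ (fun r => hz _) (μ - Finsupp.single t 1))
    have e : w1 M t = (t : ℕ) + 1 := rfl
    omega
  · have h0 : (μ.prod fun t k => gamma ((t : ℕ) + 1) z ^ k) = 0 := by
      rw [Finsupp.prod]
      apply Finset.prod_eq_zero (Finsupp.mem_support_iff.mpr hμt)
      rw [hzhi _ (by omega)]
      exact zero_pow hμt
    rw [h0]
    exact Ideal.zero_mem _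

end Eval

section Uw

variable {A : Type u} [CommRing A] {V : ℕ → Ideal A}

/-- the filtration `k ↦ w · V_{k-d}` -/
def Uw (V : ℕ → Ideal A) (w : A) (d : ℕ) : ℕ → Ideal A :=
  fun k => if k = 0 then ⊤ else Ideal.span {w} * V (k - d)

theorem Uw_zero (w : A) (d : ℕ) : Uw V w d 0 = ⊤ := by rw [Uw, if_pos rfl]

theorem Uw_pos (w : A) (d k : ℕ) (hk : 1 ≤ k) : Uw V w d k = Ideal.span {w} * V (k - d) := by
  rw [Uw, if_neg (by omega)]

theorem isFilMod_Uw (hV : IsMulFil V) (w : A) (d : ℕ) (hw : w ∈ V d) : IsFilMod V (Uw V w d) where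
  isMulFil :=
    { zero := Uw_zero w d
      mul := by
        intro i j x y hx hy
        rcases Nat.eq_zero_or_pos i with rfl | hi
        · rw [zero_add]; exact Ideal.mul_mem_left _ _ hy
        rcases Nat.eq_zero_or_pos j with rfl | hj
        · rw [add_zero]; exact Ideal.mul_mem_right _ _ hx
        rw [Uw_pos w d i hi, Ideal.mem_span_singleton_mul] at hx
        rw [Uw_pos w d j hj, Ideal.mem_span_singleton_mul] at hy
        obtain ⟨x', hx', rfl⟩ := hx
        obtain ⟨y', hy', rfl⟩ := hy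
        rw [Uw_pos w d (i + j) (by omega), Ideal.mem_span_singleton_mul]
        refine ⟨w * (x' * y'), ?_, by ring⟩
        refine hV.anti _ _ ?_ (hV.mul _ _ _ _ hw (hV.mul _ _ _ _ hx' hy'))
        omega
      anti := by
        intro i j hij
        rcases Nat.eq_zero_or_pos i with rfl | hi
        · rw [Uw_zero]; exact le_top
        rw [Uw_pos w d i hi, Uw_pos w d j (by omega)]
        exact Ideal.mul_mono_right (hV.anti _ _ (by omega)) }
  smul := by
    intro a b x y hb hx hy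
    rw [Uw_pos w d b hb, Ideal.mem_span_singleton_mul] at hy
    obtain ⟨y', hy', rfl⟩ := hy
    rw [Uw_pos w d (a + b) (by omega), Ideal.mem_span_singleton_mul]
    refine ⟨x * y', ?_, by ring⟩
    exact hV.anti _ _ (by omega) (hV.mul _ _ _ _ hx hy')

variable [LambdaOps A]

/-- `γ^l(γ^d z) ∈ γ^d z · V_{max l d - d}` -/
theorem gok_Vmax_Uw_top (hA : IsSpecial A) (hV : IsMulFil V) (n' : ℕ) (z : A) (hz : GOK V z)
    (hzhi : ∀ k : ℕ, n' + 1 < k → gamma k z = 0) :
    GOK (Vmax (Uw V (gamma (n' + 1) z) (n' + 1)) (n' + 1)) (gamma (n' + 1) z) := by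
  rw [gok_Vmax_iff]
  intro l hl
  rw [Uw_pos _ _ _ (le_trans hl (le_max_left _ _)), ← aeval_Wγ hA l (n' + 1) hl (by omega) z]
  exact aeval_trunc_mem hV _ n' (Wγ l (n' + 1)) (max l (n' + 1)) (weight_Wγ l (n' + 1) hl (by omega))
    (Wγ_support_trunc l n' hl) z hz hzhi

/-- `γ^d(γ^d z) ≡ θ_d γ^d z` modulo `γ^d z · V_1` -/
theorem gamma_top_sub_mem (hA : IsSpecial A) (hV : IsMulFil V) (n' : ℕ) (z : A) (hz : GOK V z)
    (hzhi : ∀ k : ℕ, n' + 1 < k → gamma k z = 0) :
    gamma (n' + 1) (gamma (n' + 1) z) - (theta (n' + 1) : A) * gamma (n' + 1) z ∈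
      Uw V (gamma (n' + 1) z) (n' + 1) (n' + 1 + 1) := by
  rw [Uw_pos _ _ _ (by omega), ← aeval_Wγ_sub hA n' z]
  have := aeval_trunc_mem hV _ n' _ (n' + 2) (weight_Wγ_sub n') (Wγ_sub_support_trunc n') z hz hzhi
  have e : n' + 2 - (n' + 1) = n' + 1 + 1 - (n' + 1) := by omega
  rw [e] at this
  exact this

end Uw

end Groth.Agent.Lib.helper3.UnivGamma
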