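import Groth.Agent.Lib.Helper3.LamAltFil
import Groth.Agent.Lib.Helper3.GammaLead

/-!
For `z` in the augmentation ideal with `γ^k z = 0` for `k > d` and `w = γ^d z`:
`γ^p(x w) ∈ w · Fil^{p-d}` for all `x`, and `γ^{i+d}(x w) ≡ θ_{i+d} x w` modulo `w · Fil^{i+1}` for
`x ∈ Fil^i` (helper3).
-/

set_option autoImplicit false
universe u v

namespace Groth.Agent.Lib.helper3.GammaFil

open Finset LambdaRing
open Groth.Agent.Lib.helper3.GammaLib Groth.Agent.Lib.helper3.UnivGamma
open Groth.Agent.Lib.helper3.ScalarLam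

section General

variable {A : Type v} [CommRing A] [LambdaOps A] {U : ℕ → Ideal A}

/-- additivity of `γ^m` modulo `U_{m+1}` on elements of level `m` -/
theorem gamma_add_sub_mem (hU : IsMulFil U) (m : ℕ) (hm : 1 ≤ m) {z z' : A}
    (hz : GOK (Vmax U m) z) (hz' : GOK (Vmax U m) z') :
    gamma m (z + z') - gamma m z - gamma m z' ∈ U (m + 1) := by
  obtain ⟨p, rfl⟩ := Nat.exists_eq_add_of_le' hm
  have h := Groth.Agent.S3289.result A (p + 1) z z'
  rw [Finset.sum_range_succ, Finset.sum_range_succ', Nat.sub_self, gamma_zero_left, gamma_zero_left,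
    Nat.sub_zero, one_mul, mul_one] at h
  have hmid : ∑ i ∈ range p, gamma (i + 1) z * gamma (p + 1 - (i + 1)) z' ∈ U (p + 1 + 1) := by
    refine Ideal.sum_mem _ fun i hi => ?_
    rw [Finset.mem_range] at hi
    have a1 := (gok_Vmax_iff _ _).mp hz (i + 1) (by omega)
    have a2 := (gok_Vmax_iff _ _).mp hz' (p + 1 - (i + 1)) (by omega)
    exact hU.anti _ _ (by omega) (hU.mul _ _ _ _ a1 a2)
  have hdecomp : gamma (p + 1) (z + z') - gamma (p + 1) z - gamma (p + 1) z' =
      ∑ i ∈ range p, gamma (i + 1) z * gamma (p + 1 - (i + 1)) z' := by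
    rw [h]; ring
  rw [hdecomp]
  exact hmid

end General

section Main

variable {K : Type u} [CommRing K] [LambdaOps K] [BinomialRing K]
  {A : Type v} [CommRing A] [LambdaOps A] [Algebra K A]

variable (hKb : IsBinomial K) (hA : IsSpecial A) (ε : A →ₐ[K] K) (hε : IsAugLambdaAlg K A ε)

include hKb hA hε in
/-- `γ^p(x w) ∈ w · Fil^{p-d}` -/
theorem gamma_mul_top_mem (n' : ℕ) (z : A) (hz : ε z = 0)
    (hzhi : ∀ k : ℕ, n' + 1 < k → gamma k z = 0) (x : A) (p : ℕ) (hp : 1 ≤ p) :
    gamma p (x * gamma (n' + 1) z) ∈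
      Ideal.span {gamma (n' + 1) z} * gammaFil (ε : A →+* K) (p - (n' + 1)) := by
  have hF := isMulFil_gammaFil (ε : A →+* K)
  have hz' : (ε : A →+* K) z = 0 := hz
  have hzG := gok_gammaFil _ hz'
  set w := gamma (n' + 1) z with hw
  have hU := isFilMod_Uw hF w (n' + 1) (hzG _)
  have hwtop := gok_Vmax_Uw_top hA hF n' z hzG hzhi
  have hw0 : GOK (Vmax (Uw (gammaFil (ε : A →+* K)) w (n' + 1)) 0) w :=
    GOK.mono_Vmax hU.isMulFil (Nat.zero_le _) hwtop
  have hb' : (ε : A →+* K) (x - algebraMap K A (ε x)) = 0 := by simp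
  have h1 : GOK (Vmax (gammaFil (ε : A →+* K)) 0) (x - algebraMap K A (ε x)) := by
    rw [Vmax_zero hF]
    exact gok_gammaFil _ hb'
  have h2 := GOK.mul_Vmax₂ hA hF hU h1 hw0
  rw [zero_add, Vmax_zero hU.isMulFil] at h2
  have hw0' : GOK (Uw (gammaFil (ε : A →+* K)) w (n' + 1)) w := by
    rw [Vmax_zero hU.isMulFil] at hw0; exact hw0
  have h3 := GOK.smul hKb hA hε.isLambdaAlg hU.isMulFil hw0' (ε x)
  have h4 : x * w = algebraMap K A (ε x) * w + (x - algebraMap K A (ε x)) * w := by ring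
  have h5 := (h3.add hU.isMulFil h2) p
  rw [← h4, Uw_pos _ _ _ hp] at h5
  exact h5

include hKb hA hε in
/-- `γ^{i+d}(x w) ≡ θ_{i+d} x w` modulo `w · Fil^{i+1}` for `x ∈ Fil^i` -/
theorem gamma_mul_top_sub_mem (n' : ℕ) (z : A) (hz : ε z = 0)
    (hzhi : ∀ k : ℕ, n' + 1 < k → gamma k z = 0) (i : ℕ) (x : A)
    (hx : x ∈ gammaFil (ε : A →+* K) i) :
    gamma (i + (n' + 1)) (x * gamma (n' + 1) z) -
      (theta (i + (n' + 1)) : A) * (x * gamma (n' + 1) z) ∈
      Ideal.span {gamma (n' + 1) z} * gammaFil (ε : A →+* K) (i + 1) := by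
  have hF := isMulFil_gammaFil (ε : A →+* K)
  have hz' : (ε : A →+* K) z = 0 := hz
  have hzG := gok_gammaFil _ hz'
  set w := gamma (n' + 1) z with hw
  have hU := isFilMod_Uw hF w (n' + 1) (hzG _)
  have hwtop := gok_Vmax_Uw_top hA hF n' z hzG hzhi
  have hwD := gamma_top_sub_mem hA hF n' z hzG hzhi
  set U := Uw (gammaFil (ε : A →+* K)) w (n' + 1) with hUdef
  have hgoal : Ideal.span {w} * gammaFil (ε : A →+* K) (i + 1) = U (i + (n' + 1) + 1) := by
    rw [hUdef, Uw_pos _ _ _ (by omega)]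
    congr 2
    omega
  rw [hgoal]
  have hwd : ∀ l : ℕ, 1 ≤ l → gamma l w ∈ U (n' + 1) := by
    intro l hl
    exact hU.isMulFil.anti _ _ (le_max_right _ _) ((gok_Vmax_iff _ _).mp hwtop l hl)
  rcases Nat.eq_zero_or_pos i with rfl | hi
  · -- `x` arbitrary
    rw [zero_add]
    have hUm := isMulFil_Vmax hU.isMulFil (n' + 1)
    have hb' : (ε : A →+* K) (x - algebraMap K A (ε x)) = 0 := by simp
    have h1 : GOK (Vmax (gammaFil (ε : A →+* K)) 1) (x - algebraMap K A (ε x)) := by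
      rw [gok_Vmax_iff]
      intro l hl
      rw [max_eq_left hl]
      exact gok_gammaFil _ hb' l
    have h2 := GOK.mul_Vmax₂ hA hF hU h1 hwtop
    have h3 := GOK.smul hKb hA hε.isLambdaAlg hUm hwtop (ε x)
    have h2' : GOK (Vmax U (n' + 1)) ((x - algebraMap K A (ε x)) * w) :=
      GOK.mono_Vmax hU.isMulFil (by omega) h2
    have hadd := gamma_add_sub_mem hU.isMulFil (n' + 1) (by omega) h3 h2'
    have h4 : x * w = algebraMap K A (ε x) * w + (x - algebraMap K A (ε x)) * w := by ring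
    -- the part in `U (d+1)`
    have hx'w : (x - algebraMap K A (ε x)) * w ∈ U (n' + 1 + 1) := by
      have := GOK.mem_of_Vmax h2 hU.isMulFil
      rwa [add_comm] at this
    have hγx'w : gamma (n' + 1) ((x - algebraMap K A (ε x)) * w) ∈ U (n' + 1 + 1) := by
      have := (gok_Vmax_iff _ _).mp h2 (n' + 1) (by omega)
      rwa [max_eq_right (by omega), add_comm] at this
    -- the scalar part
    have hIJ : U (n' + 1) * U (n' + 1) ≤ U (n' + 1 + 1) := by
      rw [Ideal.mul_le]
      intro a ha b hb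
      exact hU.isMulFil.anti _ _ (by omega) (hU.isMulFil.mul _ _ _ _ ha hb)
    have hsm := gamma_smul_sub_mem hKb hA hε.isLambdaAlg _ _ hIJ hwd (ε x) (n' + 1) (by omega)
    have hdecomp : gamma (n' + 1) (x * w) - (theta (n' + 1) : A) * (x * w) =
        (gamma (n' + 1) (algebraMap K A (ε x) * w + (x - algebraMap K A (ε x)) * w) -
          gamma (n' + 1) (algebraMap K A (ε x) * w) -
          gamma (n' + 1) ((x - algebraMap K A (ε x)) * w)) +
        (gamma (n' + 1) (algebraMap K A (ε x) * w) - algebraMap K A (ε x) * gamma (n' + 1) w) +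
        algebraMap K A (ε x) * (gamma (n' + 1) w - (theta (n' + 1) : A) * w) +
        (gamma (n' + 1) ((x - algebraMap K A (ε x)) * w) -
          (theta (n' + 1) : A) * ((x - algebraMap K A (ε x)) * w)) := by
      rw [← h4]; ring
    rw [hdecomp]
    exact Ideal.add_mem _ (Ideal.add_mem _ (Ideal.add_mem _ hadd hsm) (Ideal.mul_mem_left _ _ hwD))
      (Ideal.sub_mem _ hγx'w (Ideal.mul_mem_left _ _ hx'w))
  · -- `x ∈ Fil^i`, `i ≥ 1`
    obtain ⟨p, rfl⟩ := Nat.exists_eq_add_of_le' hi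
    have hgood := good_of_mem hKb hA ε hε (p + 1) (by omega) hx
    have E1 := gamma_mul_sub_mem₂ hA hF hU p n' hgood.1 hwtop
    have hc : ((cab p n' : ℤ) : A) * (theta (p + 1) : A) * (theta (n' + 1) : A) =
        (theta (p + 1 + (n' + 1)) : A) := by
      rw [← cab_theta p n']; push_cast; ring
    have hGw : gamma (n' + 1) w ∈ U (n' + 1) := hwd _ (by omega)
    have hxF : x ∈ gammaFil (ε : A →+* K) (p + 1) := hx
    have e5 := hU.smul _ _ _ _ (by omega) hgood.2 hGw
    have e6 := hU.smul _ _ _ _ (by omega) hxF hwD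
    have hdecomp : gamma (p + 1 + (n' + 1)) (x * w) - (theta (p + 1 + (n' + 1)) : A) * (x * w) =
        (gamma (p + 1 + (n' + 1)) (x * w) -
          (cab p n' : A) * (gamma (p + 1) x * gamma (n' + 1) w)) +
        (cab p n' : A) * ((gamma (p + 1) x - (theta (p + 1) : A) * x) * gamma (n' + 1) w +
          (theta (p + 1) : A) * (x * (gamma (n' + 1) w - (theta (n' + 1) : A) * w))) := by
      rw [← hc]; ring
    rw [hdecomp]
    refine Ideal.add_mem _ E1 (Ideal.mul_mem_left _ _ (Ideal.add_mem _ ?_ (Ideal.mul_mem_left _ _ ?_)))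
    · have e : p + 1 + 1 + (n' + 1) = p + 1 + (n' + 1) + 1 := by omega
      rw [e] at e5
      exact e5
    · exact e6

end Main

end Groth.Agent.Lib.helper3.GammaFil
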