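import Groth.Agent.Lib.Helper3.SpecialLib4

/-!
The composition identity `λ^j(λ^i x) = Q_{i,j}(λ^1 x, …)` from Adams operations (helper3).
-/

set_option autoImplicit false
universe u

namespace Groth.Agent.Lib.helper3.Special

open MvPolynomial Finset LambdaRing
open Groth.Agent.Lib.helper3.AdamsOp

section Comp

variable (i j : ℕ)

/-- `ℚ[X_1..X_{ij}]` -/
local notation "AQ1" => MvPolynomial (Fin (i * j)) ℚ

/-- the polynomial computing `ψ^k(λ^i x)` -/
noncomputable def dpoly (k : ℕ) : AQ1 := LRec (fun l => npoly (i * j) (k * l)) i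

/-- the polynomial computing `λ^j(λ^i x)` -/
noncomputable def wpoly : AQ1 := LRec (dpoly i j) j

theorem eUR_npoly (m : ℕ) (hm : 1 ≤ m) :
    eUR ℚ (i * j) (npoly (i * j) m) = ∑ a : Fin (i * j), (X a : AQ1) ^ m := by
  rw [eUR]
  exact aeval_npoly_esymm (Finset.univ : Finset (Fin (i * j))) (fun v => (X v : AQ1))
    (by simp) m hm

theorem eUR_dpoly (k : ℕ) (hk : 1 ≤ k) :
    eUR ℚ (i * j) (dpoly i j k) =
      ∑ s ∈ (Finset.univ : Finset (Fin (i * j))).powersetCard i, (∏ a ∈ s, (X a : AQ1)) ^ k := by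
  rw [dpoly]
  have h := map_LRec ((eUR ℚ (i * j) : AQ1 →ₐ[ℚ] AQ1) : AQ1 →+* AQ1)
    (fun l => npoly (i * j) (k * l)) i
  rw [RingHom.coe_coe] at h
  rw [h]
  have hc : LRec (fun l => eUR ℚ (i * j) (npoly (i * j) (k * l))) i =
      LRec (fun l => ∑ a ∈ (Finset.univ : Finset (Fin (i * j))), ((X a : AQ1) ^ k) ^ l) i := by
    apply LRec_congr
    intro l hl _
    rw [eUR_npoly i j (k * l) (Nat.mul_pos hk hl)]
    refine Finset.sum_congr rfl fun a _ => ?_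
    rw [pow_mul]
  rw [hc, LRec_psum]
  refine Finset.sum_congr rfl fun s _ => ?_
  rw [Finset.prod_pow]

theorem eUR_wpoly :
    eUR ℚ (i * j) (wpoly i j) =
      ∑ t ∈ ((Finset.univ : Finset (Fin (i * j))).powersetCard i).powersetCard j,
        ∏ s ∈ t, ∏ a ∈ s, (X a : AQ1) := by
  rw [wpoly, ← LRec_psum]
  have h := map_LRec ((eUR ℚ (i * j) : AQ1 →ₐ[ℚ] AQ1) : AQ1 →+* AQ1) (dpoly i j) j
  rw [RingHom.coe_coe] at h
  rw [h]
  apply LRec_congr
  intro k hk _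
  exact eUR_dpoly i j k hk

theorem map_compGen :
    map (Int.castRingHom ℚ) (compGen (i * j) i j) =
      ∑ t ∈ ((Finset.univ : Finset (Fin (i * j))).powersetCard i).powersetCard j,
        ∏ s ∈ t, ∏ a ∈ s, (X a : AQ1) := by
  rw [compGen, Finset.esymm_map_val, map_sum]
  refine Finset.sum_congr rfl fun t _ => ?_
  rw [map_prod]
  refine Finset.prod_congr rfl fun s _ => ?_
  rw [map_prod]
  refine Finset.prod_congr rfl fun a _ => ?_
  rw [map_X]

theorem eUR_map (Q : MvPolynomial (Fin (i * j)) ℤ) :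
    eUR ℚ (i * j) (map (Int.castRingHom ℚ) Q) =
      map (Int.castRingHom ℚ)
        (aeval (fun k : Fin (i * j) => esymm (Fin (i * j)) ℤ ((k : ℕ) + 1)) Q) := by
  induction Q using MvPolynomial.induction_on with
  | C r =>
    rw [map_C, ← algebraMap_eq, AlgHom.commutes, ← algebraMap_eq, AlgHom.commutes, algebraMap_eq,
      algebraMap_eq, map_C]
  | add p q hp hq => simp only [map_add, hp, hq]
  | mul_X p a hp =>
    rw [map_mul, map_mul, hp, map_mul, map_mul]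
    congr 1
    rw [map_X, eUR, aeval_X, aeval_X, map_esymm]

theorem wpoly_eq (Q : MvPolynomial (Fin (i * j)) ℤ) (hQ : IsCompPoly i j Q) :
    wpoly i j = map (Int.castRingHom ℚ) Q := by
  apply eUR_injective ℚ (i * j)
  rw [eUR_wpoly, eUR_map, hQ.1, map_compGen]

variable {i j}
variable {K : Type u} [CommRing K] [LambdaOps K] [Algebra ℚ K]

/-- `ψ^k` as a ring homomorphism -/
noncomputable def psiHom (h1 : ∀ k : ℕ, 1 ≤ k → adamsOp k (1 : K) = 1)
    (hmul : ∀ k : ℕ, 1 ≤ k → ∀ x y : K, adamsOp k (x * y) = adamsOp k x * adamsOp k y)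
    (k : ℕ) (hk : 1 ≤ k) : K →+* K where
  toFun := adamsOp k
  map_one' := h1 k hk
  map_mul' := hmul k hk
  map_zero' := adamsOp_zero_right k
  map_add' := adamsOp_add k

theorem aeval_dpoly (h1 : ∀ k : ℕ, 1 ≤ k → adamsOp k (1 : K) = 1)
    (hmul : ∀ k : ℕ, 1 ≤ k → ∀ x y : K, adamsOp k (x * y) = adamsOp k x * adamsOp k y)
    (hcomp : ∀ k k' : ℕ, 1 ≤ k → 1 ≤ k' → ∀ x : K,
      adamsOp k (adamsOp k' x) = adamsOp (k * k') x)
    (x : K) (k : ℕ) (hk1 : 1 ≤ k) (hk2 : k ≤ j) :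
    aeval (fun m : Fin (i * j) => LambdaOps.lam ((m : ℕ) + 1) x) (dpoly i j k) =
      adamsOp k (LambdaOps.lam i x) := by
  rw [dpoly]
  set ev : AQ1 →ₐ[ℚ] K := aeval (fun m : Fin (i * j) => LambdaOps.lam ((m : ℕ) + 1) x) with hev
  have h := map_LRec ((ev : AQ1 →ₐ[ℚ] K) : AQ1 →+* K) (fun l => npoly (i * j) (k * l)) i
  rw [RingHom.coe_coe] at h
  rw [h]
  have hc : LRec (fun l => ev (npoly (i * j) (k * l))) i =
      LRec (fun l => psiHom h1 hmul k hk1 (adamsOp l x)) i := by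
    apply LRec_congr
    intro l hl1 hl2
    have hle : k * l ≤ i * j := by
      rw [mul_comm i j]
      exact Nat.mul_le_mul hk2 hl2
    rw [hev, aeval_npoly x (k * l) (Nat.mul_pos hk1 hl1) hle]
    exact (hcomp k l hk1 hl1 x).symm
  rw [hc, ← map_LRec (psiHom h1 hmul k hk1) (fun l => adamsOp l x) i, ← lam_eq_LRec]
  rfl

theorem aeval_wpoly (h1 : ∀ k : ℕ, 1 ≤ k → adamsOp k (1 : K) = 1)
    (hmul : ∀ k : ℕ, 1 ≤ k → ∀ x y : K, adamsOp k (x * y) = adamsOp k x * adamsOp k y)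
    (hcomp : ∀ k k' : ℕ, 1 ≤ k → 1 ≤ k' → ∀ x : K,
      adamsOp k (adamsOp k' x) = adamsOp (k * k') x) (x : K) :
    aeval (fun m : Fin (i * j) => LambdaOps.lam ((m : ℕ) + 1) x) (wpoly i j) =
      LambdaOps.lam j (LambdaOps.lam i x) := by
  rw [lam_eq_LRec (LambdaOps.lam i x), wpoly]
  set ev : AQ1 →ₐ[ℚ] K := aeval (fun m : Fin (i * j) => LambdaOps.lam ((m : ℕ) + 1) x) with hev
  have h := map_LRec ((ev : AQ1 →ₐ[ℚ] K) : AQ1 →+* K) (dpoly i j) j
  rw [RingHom.coe_coe] at h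
  rw [h]
  apply LRec_congr
  intro k hk1 hk2
  rw [hev]
  exact aeval_dpoly h1 hmul hcomp x k hk1 hk2

theorem lam_lam_of_adams (h1 : ∀ k : ℕ, 1 ≤ k → adamsOp k (1 : K) = 1)
    (hmul : ∀ k : ℕ, 1 ≤ k → ∀ x y : K, adamsOp k (x * y) = adamsOp k x * adamsOp k y)
    (hcomp : ∀ k k' : ℕ, 1 ≤ k → 1 ≤ k' → ∀ x : K,
      adamsOp k (adamsOp k' x) = adamsOp (k * k') x)
    (i j : ℕ) (Q : MvPolynomial (Fin (i * j)) ℤ) (hQ : IsCompPoly i j Q) (x : K) :
    LambdaOps.lam j (LambdaOps.lam i x) =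
      aeval (fun k : Fin (i * j) => LambdaOps.lam ((k : ℕ) + 1) x) Q := by
  rw [← aeval_wpoly h1 hmul hcomp x, wpoly_eq i j Q hQ]
  exact aeval_map_algebraMap ℚ _ Q

end Comp

end Groth.Agent.Lib.helper3.Special
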