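import Groth.Agent.Lib.Helper3.BinomLib
import Groth.Agent.Lib.Helper3.GammaAdams
import Groth.Agent.S8689

/-!
The split λ-ring `ℚ[u_a : a ∈ σ]` in which the `1 + u_a` are line elements (helper3).
-/

set_option autoImplicit false
universe u

namespace Groth.Agent.Lib.helper3.LamPoly

open MvPolynomial Finset LambdaRing
open Groth.Agent.Lib.helper3.AdamsOp Groth.Agent.Lib.helper3.Special

variable (σ : Type u)

/-- the Adams operations of the split λ-ring: `u_a ↦ (1 + u_a)^k - 1` -/
noncomputable def psi (k : ℕ) : MvPolynomial σ ℚ →ₐ[ℚ] MvPolynomial σ ℚ :=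
  aeval fun a => (1 + X a) ^ k - 1

theorem psi_X (k : ℕ) (a : σ) : psi σ k (X a) = (1 + X a) ^ k - 1 := by
  rw [psi, aeval_X]

theorem psi_one_add_X (k : ℕ) (a : σ) : psi σ k (1 + X a) = (1 + X a) ^ k := by
  rw [map_add, map_one, psi_X]; ring

theorem psi_one : psi σ 1 = AlgHom.id ℚ (MvPolynomial σ ℚ) := by
  apply MvPolynomial.algHom_ext
  intro a
  rw [psi_X]; simp

theorem psi_comp (k l : ℕ) : (psi σ k).comp (psi σ l) = psi σ (k * l) := by
  apply MvPolynomial.algHom_ext
  intro a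
  rw [AlgHom.comp_apply, psi_X, map_sub, map_pow, map_one, psi_one_add_X, psi_X, ← pow_mul]

theorem psi_psi (k l : ℕ) (p : MvPolynomial σ ℚ) : psi σ k (psi σ l p) = psi σ (k * l) p := by
  rw [← psi_comp]; rfl

set_option warn.classDefReducibility false in
/-- the λ-structure on `ℚ[u]` -/
noncomputable def lamOps : LambdaOps (MvPolynomial σ ℚ) :=
  lamOfAdams (fun k => ((psi σ k : MvPolynomial σ ℚ →ₐ[ℚ] MvPolynomial σ ℚ) :
    MvPolynomial σ ℚ →+ MvPolynomial σ ℚ)) (by
      apply AddMonoidHom.ext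
      intro p
      show psi σ 1 p = p
      rw [psi_one]; rfl)

set_option warn.classDefReducibility false in
attribute [local instance] lamOps

theorem adamsOp_eq (k : ℕ) (hk : 1 ≤ k) (p : MvPolynomial σ ℚ) : adamsOp k p = psi σ k p :=
  adamsOp_lamOfAdams _ _ k hk p

theorem isSpecial : IsSpecial (MvPolynomial σ ℚ) := by
  apply Groth.Agent.S8689.result
  · intro k hk
    rw [adamsOp_eq σ k hk, map_one]
  · intro k hk x y
    rw [adamsOp_eq σ k hk, adamsOp_eq σ k hk, adamsOp_eq σ k hk, map_mul]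
  · intro k k' hk hk' x
    rw [adamsOp_eq σ k hk, adamsOp_eq σ k' hk', adamsOp_eq σ (k * k') (Nat.mul_pos hk hk'),
      psi_psi]

end Groth.Agent.Lib.helper3.LamPoly
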