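import Groth.Agent.Lib.Helper3.LamPoly
import Groth.Agent.Lib.Helper3.GammaFil
import Groth.Agent.S8651

/-!
Line elements of the split λ-ring `ℚ[u]` and the `γ`-operations of integral combinations of
monomials: `γ^k(z) ∈ (u)^k` (helper3).
-/

set_option autoImplicit false
universe u

namespace Groth.Agent.Lib.helper3.LamPoly

open MvPolynomial Finset LambdaRing
open Groth.Agent.Lib.helper3.AdamsOp Groth.Agent.Lib.helper3.Special
open Groth.Agent.Lib.helper3.GammaLib Groth.Agent.Lib.helper3.GammaFil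

variable (σ : Type u)

set_option warn.classDefReducibility false in
attribute [local instance] lamOps

/-- line elements of `ℚ[u]`: `ψ^k ℓ = ℓ^k` and `ℓ ≡ 1` modulo `(u)` -/
def IsLn (ℓ : MvPolynomial σ ℚ) : Prop :=
  (∀ k : ℕ, 1 ≤ k → psi σ k ℓ = ℓ ^ k) ∧ ℓ - 1 ∈ idealOfVars σ ℚ

variable {σ}

theorem isLn_one : IsLn σ 1 := by
  refine ⟨fun k _ => by rw [map_one, one_pow], ?_⟩
  rw [sub_self]; exact Ideal.zero_mem _

theorem isLn_T (a : σ) : IsLn σ (1 + X a) := by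
  refine ⟨fun k _ => psi_one_add_X σ k a, ?_⟩
  rw [add_sub_cancel_left]
  exact Ideal.subset_span ⟨a, rfl⟩

theorem IsLn.mul {ℓ ℓ' : MvPolynomial σ ℚ} (h : IsLn σ ℓ) (h' : IsLn σ ℓ') : IsLn σ (ℓ * ℓ') := by
  refine ⟨fun k hk => by rw [map_mul, h.1 k hk, h'.1 k hk, mul_pow], ?_⟩
  have e : ℓ * ℓ' - 1 = (ℓ - 1) * ℓ' + (ℓ' - 1) := by ring
  rw [e]
  exact Ideal.add_mem _ (Ideal.mul_mem_right _ _ h.2) h'.2

theorem lam_of_isLn {ℓ : MvPolynomial σ ℚ} (h : IsLn σ ℓ) (j : ℕ) (hj : 2 ≤ j) :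
    LambdaOps.lam j ℓ = 0 := by
  rw [lam_eq_LRec]
  have hc : LRec (fun k => adamsOp k ℓ) j =
      LRec (fun k => ∑ v ∈ (Finset.univ : Finset Unit), (fun _ => ℓ) v ^ k) j := by
    apply LRec_congr
    intro k hk _
    rw [adamsOp_eq σ k hk, h.1 k hk]
    simp
  rw [hc, LRec_psum, Finset.powersetCard_eq_empty.mpr (by
    rw [Finset.card_univ, Fintype.card_unit]; omega), Finset.sum_empty]

theorem lam_one_eq_zero (k : ℕ) (hk : 2 ≤ k) : LambdaOps.lam k (1 : MvPolynomial σ ℚ) = 0 :=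
  (isSpecial σ).lam_one_eq_zero k hk

theorem gamma_line_sub_one {ℓ : MvPolynomial σ ℚ} (h : IsLn σ ℓ) (k : ℕ) :
    gamma k (ℓ - 1) = if k = 0 then 1 else if k = 1 then ℓ - 1 else 0 := by
  have h1 := Groth.Agent.S8651.result (MvPolynomial σ ℚ) lam_one_eq_zero 1 (fun _ => ℓ)
    (fun _ j hj => lam_of_isLn h j hj) k
  simp only [Finset.univ_unique, Finset.sum_singleton, Nat.cast_one] at h1
  rw [h1]
  rcases k with _ | _ | k
  · simp
  · rw [Finset.powersetCard_one]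
    simp
  · rw [Finset.powersetCard_eq_empty.mpr (by simp)]
    simp

/-- the `(u)`-adic filtration -/
noncomputable def VJ (σ : Type u) : ℕ → Ideal (MvPolynomial σ ℚ) := fun k => idealOfVars σ ℚ ^ k

theorem isMulFil_VJ : IsMulFil (VJ σ) where
  zero := by simp [VJ]
  mul i j a b ha hb := by
    simp only [VJ, pow_add]
    exact Ideal.mul_mem_mul ha hb
  anti i j hij := Ideal.pow_le_pow_right hij

theorem gok_line {ℓ : MvPolynomial σ ℚ} (h : IsLn σ ℓ) : GOK (VJ σ) (ℓ - 1) := by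
  intro k
  rw [gamma_line_sub_one h]
  split_ifs with h0 h1
  · rw [h0]; exact isMulFil_VJ.one_mem
  · rw [h1]; simpa [VJ] using h.2
  · exact Ideal.zero_mem _

/-- the additive group generated by the `ℓ - 1`, `ℓ` a line element -/
noncomputable def ZS (σ : Type u) : AddSubgroup (MvPolynomial σ ℚ) :=
  AddSubgroup.closure {z | ∃ ℓ, IsLn σ ℓ ∧ z = ℓ - 1}

theorem gok_of_mem_ZS {z : MvPolynomial σ ℚ} (hz : z ∈ ZS σ) : GOK (VJ σ) z := by
  induction hz using AddSubgroup.closure_induction with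
  | mem x hx =>
    obtain ⟨ℓ, hℓ, rfl⟩ := hx
    exact gok_line hℓ
  | zero => exact GOK.zero isMulFil_VJ
  | add x y _ _ hx hy => exact hx.add isMulFil_VJ hy
  | neg x _ hx => exact hx.neg isMulFil_VJ

theorem mul_mem_ZS {x y : MvPolynomial σ ℚ} (hx : x ∈ ZS σ) (hy : y ∈ ZS σ) : x * y ∈ ZS σ := by
  induction hx using AddSubgroup.closure_induction with
  | mem x hx =>
    obtain ⟨ℓ, hℓ, rfl⟩ := hx
    induction hy using AddSubgroup.closure_induction with
    | mem y hy =>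
      obtain ⟨ℓ', hℓ', rfl⟩ := hy
      have e : (ℓ - 1) * (ℓ' - 1) = (ℓ * ℓ' - 1) - (ℓ - 1) - (ℓ' - 1) := by ring
      rw [e]
      exact (ZS σ).sub_mem ((ZS σ).sub_mem
        (AddSubgroup.subset_closure ⟨_, hℓ.mul hℓ', rfl⟩)
        (AddSubgroup.subset_closure ⟨_, hℓ, rfl⟩)) (AddSubgroup.subset_closure ⟨_, hℓ', rfl⟩)
    | zero => rw [mul_zero]; exact (ZS σ).zero_mem
    | add a b _ _ ha hb => rw [mul_add]; exact (ZS σ).add_mem ha hb
    | neg a _ ha => rw [mul_neg]; exact (ZS σ).neg_mem ha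
  | zero => rw [zero_mul]; exact (ZS σ).zero_mem
  | add a b _ _ ha hb => rw [add_mul]; exact (ZS σ).add_mem ha hb
  | neg a _ ha => rw [neg_mul]; exact (ZS σ).neg_mem ha

theorem X_mem_ZS (a : σ) : (X a : MvPolynomial σ ℚ) ∈ ZS σ := by
  apply AddSubgroup.subset_closure
  exact ⟨1 + X a, isLn_T a, by ring⟩

theorem prod_mem_ZS {ι : Type*} (s : Finset ι) (hs : s.Nonempty) (f : ι → MvPolynomial σ ℚ)
    (h : ∀ i ∈ s, f i ∈ ZS σ) : ∏ i ∈ s, f i ∈ ZS σ := by
  classical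
  induction hs using Finset.Nonempty.cons_induction with
  | singleton a => simpa using h a (by simp)
  | cons a s ha hs ih =>
    rw [Finset.prod_cons]
    exact mul_mem_ZS (h a (by simp)) (ih fun i hi => h i (by simp [hi]))

end Groth.Agent.Lib.helper3.LamPoly
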