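import Groth.Agent.Lib.Helper3.UnivPoly
import Mathlib.Algebra.MvPolynomial.Equiv

/-!
The fundamental theorem of symmetric polynomials for two families of variables and the
universal polynomial `P_n` (helper3).
-/

set_option autoImplicit false
universe u

namespace Groth.Agent.Lib.helper3.UnivPoly

open MvPolynomial Finset LambdaRing

section TwoFamilies

variable (n : ℕ)

/-- `ℤ[U]` -/
local notation "AA" => MvPolynomial (Fin n) ℤ
/-- `ℤ[U][T]` -/
local notation "BB" => MvPolynomial (Fin n) (MvPolynomial (Fin n) ℤ)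

/-- the substitution `X_k ↦ e_k(T)`, `Y_k ↦ e_k(U)` -/
noncomputable def phi : MvPolynomial (Fin n ⊕ Fin n) ℤ →ₐ[ℤ] MvPolynomial (Fin n ⊕ Fin n) ℤ :=
  aeval (Sum.elim (fun k : Fin n => rename Sum.inl (esymm (Fin n) ℤ ((k : ℕ) + 1)))
      (fun k : Fin n => rename Sum.inr (esymm (Fin n) ℤ ((k : ℕ) + 1))))

/-- `Y_k ↦ e_k(U)` -/
noncomputable def eU : AA →ₐ[ℤ] AA :=
  aeval (fun k : Fin n => esymm (Fin n) ℤ ((k : ℕ) + 1))

/-- `X_k ↦ e_k(T)` over `ℤ[U]` -/
noncomputable def eT : BB →ₐ[AA] BB :=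
  aeval (fun k : Fin n => esymm (Fin n) AA ((k : ℕ) + 1))

theorem sumAlgEquiv_rename_inl (p : AA) :
    sumAlgEquiv ℤ (Fin n) (Fin n) (rename Sum.inl p) = map (algebraMap ℤ AA) p := by
  have h := congrArg (fun f => f p) (sumAlgEquiv_comp_rename_inl (R := ℤ) (S₁ := Fin n) (S₂ := Fin n))
  simpa using h

theorem sumAlgEquiv_rename_inr (p : AA) :
    sumAlgEquiv ℤ (Fin n) (Fin n) (rename Sum.inr p) = C p := by
  have h := congrArg (fun f => f p) (sumAlgEquiv_comp_rename_inr (R := ℤ) (S₁ := Fin n) (S₂ := Fin n))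
  simpa using h

/-- the key identity `Ψ ∘ φ = e_T ∘ map e_U ∘ Ψ` -/
theorem sumAlgEquiv_phi (P : MvPolynomial (Fin n ⊕ Fin n) ℤ) :
    sumAlgEquiv ℤ (Fin n) (Fin n) (phi n P) =
      eT n (map (eU n : AA →+* AA) (sumAlgEquiv ℤ (Fin n) (Fin n) P)) := by
  induction P using MvPolynomial.induction_on with
  | C r =>
    rw [← algebraMap_eq, AlgHom.commutes, algebraMap_eq, sumAlgEquiv_C_inl, map_C]
    have : (eU n : AA →+* AA) (C r) = C r := by
      rw [← algebraMap_eq]; exact (eU n).commutes r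
    rw [this, ← algebraMap_eq (R := AA), AlgHom.commutes]
  | add p q hp hq => simp only [map_add, hp, hq]
  | mul_X p i hp =>
    rw [map_mul, map_mul, hp, map_mul, map_mul, map_mul]
    congr 1
    rcases i with k | k
    · rw [phi, aeval_X, Sum.elim_inl, sumAlgEquiv_rename_inl, map_esymm, sumAlgEquiv_X_inl, map_X,
        eT, aeval_X]
    · rw [phi, aeval_X, Sum.elim_inr, sumAlgEquiv_rename_inr, sumAlgEquiv_X_inr, map_C]
      have : (eU n : AA →+* AA) (X k) = esymm (Fin n) ℤ ((k : ℕ) + 1) := by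
        show eU n (X k) = _
        rw [eU, aeval_X]
      rw [this, ← algebraMap_eq (R := AA), AlgHom.commutes]

theorem sumAlgEquiv_rename_left (σ : Equiv.Perm (Fin n)) (P : MvPolynomial (Fin n ⊕ Fin n) ℤ) :
    sumAlgEquiv ℤ (Fin n) (Fin n) (rename (Sum.map σ id) P) =
      rename σ (sumAlgEquiv ℤ (Fin n) (Fin n) P) := by
  induction P using MvPolynomial.induction_on with
  | C r => simp
  | add p q hp hq => simp only [map_add, hp, hq]
  | mul_X p i hp =>
    rw [map_mul, map_mul, hp, map_mul, map_mul]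
    congr 1
    rcases i with k | k
    · simp
    · simp

theorem sumAlgEquiv_rename_right (τ : Equiv.Perm (Fin n)) (P : MvPolynomial (Fin n ⊕ Fin n) ℤ) :
    sumAlgEquiv ℤ (Fin n) (Fin n) (rename (Sum.map id τ) P) =
      map ((rename τ : AA →ₐ[ℤ] AA) : AA →+* AA) (sumAlgEquiv ℤ (Fin n) (Fin n) P) := by
  induction P using MvPolynomial.induction_on with
  | C r => simp
  | add p q hp hq => simp only [map_add, hp, hq]
  | mul_X p i hp =>
    rw [map_mul, map_mul, hp, map_mul, map_mul]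
    congr 1
    rcases i with k | k
    · simp
    · simp

/-- `map f` commutes with `e_T` -/
theorem map_eT (f : AA →+* AA) (Q : BB) : map f (eT n Q) = eT n (map f Q) := by
  induction Q using MvPolynomial.induction_on with
  | C r =>
    rw [← algebraMap_eq (R := AA), AlgHom.commutes, algebraMap_eq, map_C,
      ← algebraMap_eq (R := AA), AlgHom.commutes]
  | add p q hp hq => simp only [map_add, hp, hq]
  | mul_X p i hp =>
    rw [map_mul, map_mul, hp, map_mul, map_mul]
    congr 1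
    rw [eT, aeval_X, map_X, aeval_X, map_esymm]

theorem eT_injective : Function.Injective (eT n) := by
  intro Q Q' h
  apply esymmAlgHom_fin_injective AA (le_refl n)
  apply Subtype.ext
  rw [esymmAlgHom_apply, esymmAlgHom_apply]
  exact h

theorem mulGen_eq_sum :
    mulGen n n = ∑ t ∈ (Finset.univ : Finset (Fin n × Fin n)).powersetCard n,
      ∏ ab ∈ t, (X (Sum.inl ab.1) * X (Sum.inr ab.2) : MvPolynomial (Fin n ⊕ Fin n) ℤ) := by
  rw [mulGen, Finset.esymm_map_val]

theorem rename_mulGen (σ τ : Equiv.Perm (Fin n)) :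
    rename (Sum.map σ τ) (mulGen n n) = mulGen n n := by
  classical
  rw [mulGen_eq_sum, map_sum]
  set E := (Equiv.prodCongr σ τ).toEmbedding with hE
  have hP : ((Finset.univ : Finset (Fin n × Fin n)).powersetCard n).map
      (Finset.mapEmbedding E).toEmbedding =
      (Finset.univ : Finset (Fin n × Fin n)).powersetCard n := by
    rw [← Finset.powersetCard_map, Finset.map_univ_equiv]
  conv_rhs => rw [← hP, Finset.sum_map]
  refine Finset.sum_congr rfl fun t _ => ?_
  rw [map_prod]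
  show _ = ∏ ab ∈ t.map E, (X (Sum.inl ab.1) * X (Sum.inr ab.2) : MvPolynomial (Fin n ⊕ Fin n) ℤ)
  rw [Finset.prod_map]
  refine Finset.prod_congr rfl fun ab _ => ?_
  rw [map_mul, rename_X, rename_X]
  rfl

/-- the fundamental theorem for two families, applied to `mulGen n n` -/
theorem exists_phi_eq_mulGen : ∃ P₀ : MvPolynomial (Fin n ⊕ Fin n) ℤ, phi n P₀ = mulGen n n := by
  classical
  set G : BB := sumAlgEquiv ℤ (Fin n) (Fin n) (mulGen n n) with hG
  have hsym : G.IsSymmetric := by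
    intro σ
    rw [hG, ← sumAlgEquiv_rename_left]
    congr 1
    have := rename_mulGen n σ (Equiv.refl _)
    simpa using this
  obtain ⟨Q₁, hQ₁⟩ := esymmAlgHom_fin_surjective AA (le_refl n) ⟨G, hsym⟩
  have hQ₁' : eT n Q₁ = G := by
    rw [eT, ← esymmAlgHom_apply, hQ₁]
  have hinv : ∀ τ : Equiv.Perm (Fin n),
      map ((rename τ : AA →ₐ[ℤ] AA) : AA →+* AA) Q₁ = Q₁ := by
    intro τ
    apply eT_injective n
    rw [← map_eT, hQ₁', hG, ← sumAlgEquiv_rename_right]
    congr 1
    have := rename_mulGen n (Equiv.refl _) τ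
    simpa using this
  have hrange : Q₁ ∈ Set.range (map ((eU n : AA →ₐ[ℤ] AA) : AA →+* AA)) := by
    rw [mem_range_map_iff_coeffs_subset]
    intro c hc
    rw [Finset.mem_coe, mem_coeffs_iff] at hc
    obtain ⟨d, _, rfl⟩ := hc
    have hcs : (coeff d Q₁).IsSymmetric := by
      intro τ
      have := congrArg (coeff d) (hinv τ)
      rw [coeff_map] at this
      exact this
    obtain ⟨c₀, hc₀⟩ := esymmAlgHom_fin_surjective ℤ (le_refl n) ⟨coeff d Q₁, hcs⟩
    refine ⟨c₀, ?_⟩
    show eU n c₀ = _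
    rw [eU, ← esymmAlgHom_apply, hc₀]
  obtain ⟨Q₂, hQ₂⟩ := hrange
  refine ⟨(sumAlgEquiv ℤ (Fin n) (Fin n)).symm Q₂, ?_⟩
  apply (sumAlgEquiv ℤ (Fin n) (Fin n)).injective
  rw [sumAlgEquiv_phi, AlgEquiv.apply_symm_apply, hQ₂, hQ₁']

/-- the weights `(k, 0)` for `X_k` and `(0, k)` for `Y_k` -/
def wXY : Fin n ⊕ Fin n → ℕ × ℕ :=
  Sum.elim (fun k : Fin n => (((k : ℕ) + 1, 0) : ℕ × ℕ)) (fun k : Fin n => ((0, (k : ℕ) + 1) : ℕ × ℕ))

/-- the bidegree weights: `(1, 0)` for `T_a` and `(0, 1)` for `U_b` -/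
def wTU : Fin n ⊕ Fin n → ℕ × ℕ :=
  Sum.elim (fun _ : Fin n => ((1, 0) : ℕ × ℕ)) (fun _ : Fin n => ((0, 1) : ℕ × ℕ))

theorem isWeightedHomogeneous_rename_inl_esymm (k : ℕ) :
    IsWeightedHomogeneous (wTU n) (rename Sum.inl (esymm (Fin n) ℤ k)) ((k, 0) : ℕ × ℕ) := by
  rw [esymm, map_sum]
  apply IsWeightedHomogeneous.sum
  intro t ht
  have ht' := Finset.mem_powersetCard.mp ht
  rw [map_prod]
  have h := IsWeightedHomogeneous.prod (w := wTU n) t
    (fun a => rename Sum.inl (X a : MvPolynomial (Fin n) ℤ)) (fun _ => ((1, 0) : ℕ × ℕ))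
    (fun a _ => by
      rw [rename_X]
      exact isWeightedHomogeneous_X ℤ (wTU n) (Sum.inl a))
  simp only [Finset.sum_const, ht'.2, Prod.smul_mk, smul_eq_mul, mul_one, mul_zero] at h
  exact h

theorem isWeightedHomogeneous_rename_inr_esymm (k : ℕ) :
    IsWeightedHomogeneous (wTU n) (rename Sum.inr (esymm (Fin n) ℤ k)) ((0, k) : ℕ × ℕ) := by
  rw [esymm, map_sum]
  apply IsWeightedHomogeneous.sum
  intro t ht
  have ht' := Finset.mem_powersetCard.mp ht
  rw [map_prod]
  have h := IsWeightedHomogeneous.prod (w := wTU n) t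
    (fun a => rename Sum.inr (X a : MvPolynomial (Fin n) ℤ)) (fun _ => ((0, 1) : ℕ × ℕ))
    (fun a _ => by
      rw [rename_X]
      exact isWeightedHomogeneous_X ℤ (wTU n) (Sum.inr a))
  simp only [Finset.sum_const, ht'.2, Prod.smul_mk, smul_eq_mul, mul_one, mul_zero] at h
  exact h

theorem isWeightedHomogeneous_mulGen (N k : ℕ) :
    IsWeightedHomogeneous (wTU N) (mulGen N k) ((k, k) : ℕ × ℕ) := by
  rw [mulGen, Finset.esymm_map_val]
  apply IsWeightedHomogeneous.sum
  intro t ht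
  have ht' := Finset.mem_powersetCard.mp ht
  have h := IsWeightedHomogeneous.prod (w := wTU N) t
    (fun ab => (X (Sum.inl ab.1) * X (Sum.inr ab.2) : MvPolynomial (Fin N ⊕ Fin N) ℤ))
    (fun _ => ((1, 1) : ℕ × ℕ))
    (fun ab _ => (isWeightedHomogeneous_X ℤ (wTU N) (Sum.inl ab.1)).mul
      (isWeightedHomogeneous_X ℤ (wTU N) (Sum.inr ab.2)))
  simp only [Finset.sum_const, ht'.2, Prod.smul_mk, smul_eq_mul, mul_one] at h
  exact h

/-- existence of the universal polynomial `P_n` -/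
theorem exists_isMulPoly : ∃ P : MvPolynomial (Fin n ⊕ Fin n) ℤ, IsMulPoly n P := by
  classical
  obtain ⟨P₀, hP₀⟩ := exists_phi_eq_mulGen n
  refine ⟨weightedHomogeneousComponent (wXY n) ((n, n) : ℕ × ℕ) P₀, ?_,
    weightedHomogeneousComponent_isWeightedHomogeneous _ _⟩
  have hf : ∀ s, IsWeightedHomogeneous (wTU n)
      (Sum.elim (fun k : Fin n => rename Sum.inl (esymm (Fin n) ℤ ((k : ℕ) + 1)))
        (fun k : Fin n => rename Sum.inr (esymm (Fin n) ℤ ((k : ℕ) + 1))) s) (wXY n s) := by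
    rintro (k | k)
    · exact isWeightedHomogeneous_rename_inl_esymm n _
    · exact isWeightedHomogeneous_rename_inr_esymm n _
  rw [aeval_weightedHomogeneousComponent (wXY n) (wTU n) _ hf]
  have h : aeval (Sum.elim (fun k : Fin n => rename Sum.inl (esymm (Fin n) ℤ ((k : ℕ) + 1)))
      (fun k : Fin n => rename Sum.inr (esymm (Fin n) ℤ ((k : ℕ) + 1)))) P₀ = mulGen n n := hP₀
  rw [h]
  exact weightedHomogeneousComponent_eq_self (isWeightedHomogeneous_mulGen n n)

end TwoFamilies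

end Groth.Agent.Lib.helper3.UnivPoly
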