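import Groth.Prelude.Def_LambdaSp
import Mathlib.RingTheory.MvPolynomial.Symmetric.FundamentalTheorem
import Mathlib.RingTheory.MvPolynomial.Homogeneous

/-!
Weighted homogeneous components and substitution; universal polynomials (helper3).
-/

set_option autoImplicit false
universe u

namespace Groth.Agent.Lib.helper3.UnivPoly

open MvPolynomial Finset

variable {σ τ M R : Type*} [CommSemiring R] [AddCommMonoid M]

/-- substituting weighted homogeneous polynomials of weight `w s` for the variables `s` maps a
monomial of weight `m` to a weighted homogeneous polynomial of weight `m`. -/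
theorem isWeightedHomogeneous_aeval_monomial (w : σ → M) (w' : τ → M)
    (f : σ → MvPolynomial τ R) (hf : ∀ s, IsWeightedHomogeneous w' (f s) (w s))
    (d : σ →₀ ℕ) (r : R) :
    IsWeightedHomogeneous w' (aeval f (monomial d r)) (Finsupp.weight w d) := by
  rw [aeval_monomial, Finsupp.weight_apply, Finsupp.prod, Finsupp.sum]
  have h := IsWeightedHomogeneous.prod (w := w') d.support (fun i => f i ^ d i)
    (fun i => d i • w i) (fun i _ => (hf i).pow (d i))
  have h2 := (isWeightedHomogeneous_C w' r).mul h
  rwa [zero_add] at h2

/-- substitution commutes with taking weighted homogeneous components -/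
theorem aeval_weightedHomogeneousComponent (w : σ → M) (w' : τ → M)
    (f : σ → MvPolynomial τ R) (hf : ∀ s, IsWeightedHomogeneous w' (f s) (w s))
    (m : M) (p : MvPolynomial σ R) :
    aeval f (weightedHomogeneousComponent w m p) =
      weightedHomogeneousComponent w' m (aeval f p) := by
  classical
  induction p using MvPolynomial.induction_on' with
  | monomial d r =>
    have h1 : weightedHomogeneousComponent w m (monomial d r) =
        if m = Finsupp.weight w d then monomial d r else 0 :=
      weightedHomogeneousComponent_of_mem
        (isWeightedHomogeneous_monomial w d r rfl)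
    have h2 : weightedHomogeneousComponent w' m (aeval f (monomial d r)) =
        if m = Finsupp.weight w d then aeval f (monomial d r) else 0 :=
      weightedHomogeneousComponent_of_mem
        (isWeightedHomogeneous_aeval_monomial w w' f hf d r)
    rw [h1, h2]
    split_ifs
    · rfl
    · rw [map_zero]
  | add p q hp hq => rw [map_add, map_add, map_add, map_add, hp, hq]

end Groth.Agent.Lib.helper3.UnivPoly

namespace Groth.Agent.Lib.helper3.UnivPoly

open MvPolynomial Finset

theorem isHomogeneous_esymm (σ R : Type*) [CommSemiring R] [Fintype σ] (n : ℕ) :
    (esymm σ R n).IsHomogeneous n := by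
  rw [esymm]
  apply IsHomogeneous.sum
  intro t ht
  have ht' := Finset.mem_powersetCard.mp ht
  have h := IsHomogeneous.prod t (fun a => (X a : MvPolynomial σ R)) (fun _ => 1)
    (fun a _ => isHomogeneous_X R a)
  rwa [Finset.sum_const, ht'.2, smul_eq_mul, mul_one] at h

end Groth.Agent.Lib.helper3.UnivPoly
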