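import Groth.Agent.Lib.Helper3.GammaFil
import Groth.Agent.Lib.Helper18.LambdaOne
import Groth.Agent.S8684
import Groth.Agent.S8685
import Groth.Agent.S8649

/-!
The universal polynomials expressing `γ^n(xy)` and `γ^l(γ^j x)` through the `γ^r(x)`, `γ^r(y)`
in a λ-ring in the strict sense (helper3).
-/

set_option autoImplicit false
universe u

namespace Groth.Agent.Lib.helper3.UnivGamma

open MvPolynomial Finset LambdaRing
open Groth.Agent.Lib.helper3.GammaLib

/-- the variable `X_r` of `ℤ[X_0..X_{n-1}]`, zero for `r ≥ n` -/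
noncomputable def Xn (n r : ℕ) : MvPolynomial (Fin n) ℤ := if h : r < n then X ⟨r, h⟩ else 0

/-- `λ^k` through the `γ^r`: `λ^{k+1} = γ^{k+1} - Σ_{j<k} C(k,j) λ^{j+1}` -/
noncomputable def L (n : ℕ) : ℕ → MvPolynomial (Fin n) ℤ
  | 0 => 1
  | k + 1 => Xn n k - ∑ j : Fin k, (Nat.choose k j : MvPolynomial (Fin n) ℤ) * L n (j + 1)
decreasing_by
  have := j.isLt
  omega

theorem L_zero (n : ℕ) : L n 0 = 1 := by
  rw [L]

theorem L_succ (n k : ℕ) :
    L n (k + 1) = Xn n k - ∑ j : Fin k, (Nat.choose k j : MvPolynomial (Fin n) ℤ) * L n (j + 1) := by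
  rw [L]

section PreLambda

variable {A : Type u} [CommRing A] [LambdaOps A]

theorem gamma_succ_eq (k : ℕ) (x : A) :
    gamma (k + 1) x = ∑ j ∈ range (k + 1), (Nat.choose k j : A) * LambdaOps.lam (j + 1) x := by
  rw [gamma, if_neg (Nat.succ_ne_zero k), Finset.sum_range_succ']
  simp

omit [LambdaOps A] in
theorem aeval_Xn (n r : ℕ) (hr : r < n) (g : Fin n → A) : aeval g (Xn n r) = g ⟨r, hr⟩ := by
  rw [Xn, dif_pos hr, aeval_X]

theorem aeval_L (x : A) (n k : ℕ) (hk : k ≤ n) :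
    aeval (fun r : Fin n => gamma ((r : ℕ) + 1) x) (L n k) = LambdaOps.lam k x := by
  induction k using Nat.strong_induction_on with
  | _ k ih =>
    rcases k with _ | k
    · rw [L_zero, map_one, LambdaOps.lam_zero]
    · rw [L_succ, map_sub, aeval_Xn n k (by omega), map_sum]
      have h := gamma_succ_eq k x
      rw [Finset.sum_range_succ, Nat.choose_self, Nat.cast_one, one_mul] at h
      have h2 : ∑ j : Fin k, (aeval fun r : Fin n => gamma ((r : ℕ) + 1) x)
          ((Nat.choose k j : MvPolynomial (Fin n) ℤ) * L n (j + 1)) =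
          ∑ j ∈ range k, (Nat.choose k j : A) * LambdaOps.lam (j + 1) x := by
        rw [← Fin.sum_univ_eq_sum_range (fun j => (Nat.choose k j : A) * LambdaOps.lam (j + 1) x) k]
        refine Finset.sum_congr rfl fun j _ => ?_
        rw [map_mul, map_natCast, ih (j + 1) (by have := j.isLt; omega) (by have := j.isLt; omega)]
      rw [h2]
      show gamma (k + 1) x - _ = _
      rw [h]; ring

end PreLambda

/-- `λ^m(x + c)` through the `γ^r(x)`, for a natural number `c` -/
noncomputable def Ls (n c m : ℕ) : MvPolynomial (Fin n) ℤ :=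
  ∑ i ∈ range (m + 1), (Nat.choose c (m - i) : MvPolynomial (Fin n) ℤ) * L n i

section One

variable {A : Type u} [CommRing A] [LambdaOps A]

theorem aeval_Ls (h1 : ∀ k : ℕ, 2 ≤ k → LambdaOps.lam k (1 : A) = 0) (x : A) (n c m : ℕ)
    (hm : m ≤ n) :
    aeval (fun r : Fin n => gamma ((r : ℕ) + 1) x) (Ls n c m) = LambdaOps.lam m (x + (c : A)) := by
  rw [← Groth.Agent.Lib.helper18.coeff_lamSeries, Groth.Agent.Lib.helper18.lamSeries_add_natCast h1,
    PowerSeries.coeff_mul, Finset.Nat.sum_antidiagonal_eq_sum_range_succ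
      (fun i j => PowerSeries.coeff i (lamSeries x) *
        PowerSeries.coeff j ((1 + PowerSeries.X : PowerSeries A) ^ c)), Ls, map_sum]
  refine Finset.sum_congr rfl fun i hi => ?_
  rw [Finset.mem_range] at hi
  rw [map_mul, map_natCast, aeval_L x n i (by omega), Groth.Agent.Lib.helper18.coeff_lamSeries,
    Groth.Agent.Lib.helper18.coeff_one_add_X_pow, mul_comm]

end One

/-- the universal polynomial `P_n` -/
noncomputable def Pn (n : ℕ) : MvPolynomial (Fin n ⊕ Fin n) ℤ :=
  Classical.choose (Groth.Agent.S8684.result n)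

theorem isMulPoly_Pn (n : ℕ) : IsMulPoly n (Pn n) := Classical.choose_spec (Groth.Agent.S8684.result n)

/-- the universal polynomial `Q_{i,j}` -/
noncomputable def Qn (i j : ℕ) : MvPolynomial (Fin (i * j)) ℤ :=
  Classical.choose (Groth.Agent.S8685.result i j)

theorem isCompPoly_Qn (i j : ℕ) : IsCompPoly i j (Qn i j) :=
  Classical.choose_spec (Groth.Agent.S8685.result i j)

/-- `γ^n(xy)` through the `γ^r(x)`, `γ^r(y)` -/
noncomputable def Pγ (n : ℕ) : MvPolynomial (Fin n ⊕ Fin n) ℤ :=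
  ∑ k ∈ range n, (Nat.choose (n - 1) k : MvPolynomial (Fin n ⊕ Fin n) ℤ) *
    bind₁ (Sum.elim (fun m : Fin (k + 1) => rename Sum.inl (L n ((m : ℕ) + 1)))
      (fun m : Fin (k + 1) => rename Sum.inr (L n ((m : ℕ) + 1)))) (Pn (k + 1))

/-- `γ^l(γ^j x)` through the `γ^r(x)` -/
noncomputable def Wγ (l j : ℕ) : MvPolynomial (Fin (j * l)) ℤ :=
  ∑ k ∈ range l, (Nat.choose (l - 1) k : MvPolynomial (Fin (j * l)) ℤ) *
    bind₁ (fun m : Fin (j * (k + 1)) => Ls (j * l) (j - 1) ((m : ℕ) + 1)) (Qn j (k + 1))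

section Special

variable {A : Type u} [CommRing A] [LambdaOps A]

theorem aeval_Pγ (hA : IsSpecial A) (n : ℕ) (hn : 1 ≤ n) (x y : A) :
    aeval (Sum.elim (fun r : Fin n => gamma ((r : ℕ) + 1) x)
      (fun r : Fin n => gamma ((r : ℕ) + 1) y)) (Pγ n) = gamma n (x * y) := by
  obtain ⟨n, rfl⟩ := Nat.exists_eq_add_of_le' hn
  rw [gamma_succ_eq, Pγ, map_sum]
  refine Finset.sum_congr rfl fun k hk => ?_
  rw [Finset.mem_range] at hk
  rw [map_mul, map_natCast, Nat.add_sub_cancel, aeval_bind₁, hA.lam_mul (k + 1) (Pn (k + 1))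
    (isMulPoly_Pn (k + 1))]
  congr 2
  congr 1
  funext v
  rcases v with m | m
  · simp only [Sum.elim_inl, aeval_rename]
    have : (Sum.elim (fun r : Fin (n + 1) => gamma ((r : ℕ) + 1) x)
        (fun r : Fin (n + 1) => gamma ((r : ℕ) + 1) y) ∘ Sum.inl) =
        fun r : Fin (n + 1) => gamma ((r : ℕ) + 1) x := by
      funext r; rfl
    rw [this, aeval_L x (n + 1) (m + 1) (by have := m.isLt; omega)]
  · simp only [Sum.elim_inr, aeval_rename]
    have : (Sum.elim (fun r : Fin (n + 1) => gamma ((r : ℕ) + 1) x)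
        (fun r : Fin (n + 1) => gamma ((r : ℕ) + 1) y) ∘ Sum.inr) =
        fun r : Fin (n + 1) => gamma ((r : ℕ) + 1) y := by
      funext r; rfl
    rw [this, aeval_L y (n + 1) (m + 1) (by have := m.isLt; omega)]

theorem aeval_Wγ (hA : IsSpecial A) (l j : ℕ) (hl : 1 ≤ l) (hj : 1 ≤ j) (x : A) :
    aeval (fun r : Fin (j * l) => gamma ((r : ℕ) + 1) x) (Wγ l j) = gamma l (gamma j x) := by
  obtain ⟨l, rfl⟩ := Nat.exists_eq_add_of_le' hl
  rw [gamma_succ_eq, Wγ, map_sum]
  refine Finset.sum_congr rfl fun k hk => ?_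
  rw [Finset.mem_range] at hk
  have hgj : gamma j x = LambdaOps.lam j (x + ((j - 1 : ℕ) : A)) := by
    rw [Groth.Agent.S8649.result A hA.lam_one_eq_zero j x]
    congr 1
    rw [Nat.cast_sub hj, Nat.cast_one]; ring
  rw [map_mul, map_natCast, Nat.add_sub_cancel, aeval_bind₁, hgj,
    hA.lam_lam j (k + 1) (Qn j (k + 1)) (isCompPoly_Qn j (k + 1))]
  congr 2
  congr 1
  funext m
  have hm : (m : ℕ) + 1 ≤ j * (l + 1) := by
    have h1 := m.isLt
    have h2 : j * (k + 1) ≤ j * (l + 1) := Nat.mul_le_mul_left j (by omega)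
    omega
  exact aeval_Ls hA.lam_one_eq_zero x (j * (l + 1)) (j - 1) ((m : ℕ) + 1) hm

end Special

end Groth.Agent.Lib.helper3.UnivGamma
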