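import Groth.Agent.Lib.Helper3.LamPoly3
import Groth.Agent.Lib.Helper3.UnivGamma
import Mathlib.Algebra.Group.ForwardDiff

/-!
In the split λ-ring `ℚ[u]`: `ψ^k z ≡ k^m z`, `λ^j z ≡ (-1)^{j-1} j^{m-1} z` and
`γ^m z ≡ (-1)^{m-1} (m-1)! z` modulo `(u)^{m+1}` for `z ∈ (u)^m` (helper3).
-/

set_option autoImplicit false
universe u

namespace Groth.Agent.Lib.helper3.LamPoly

open MvPolynomial Finset LambdaRing
open Groth.Agent.Lib.helper3.AdamsOp Groth.Agent.Lib.helper3.Special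
open Groth.Agent.Lib.helper3.GammaLib Groth.Agent.Lib.helper3.GammaFil

theorem one_add_pow_sub {R : Type*} [CommRing R] (x : R) (k : ℕ) :
    ∃ q : R, (1 + x) ^ k - 1 - k * x = x ^ 2 * q := by
  induction k with
  | zero => exact ⟨0, by simp⟩
  | succ k ih =>
    obtain ⟨q, hq⟩ := ih
    refine ⟨(1 + x) * q + k, ?_⟩
    have h2 : (1 + x) ^ k = x ^ 2 * q + 1 + k * x := by linear_combination hq
    rw [pow_succ, h2]; push_cast; ring

/-- `Σ_j C(N,j) (-1)^j (j+1)^N = (-1)^N N!` -/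
theorem alt_sum_choose_pow (N : ℕ) :
    ∑ j ∈ range (N + 1), (Nat.choose N j : ℤ) * ((-1) ^ j * ((j : ℤ) + 1) ^ N) =
      (-1) ^ N * (N.factorial : ℤ) := by
  have h1 := fwdDiff_iter_eq_sum_shift (1 : ℤ) (fun r : ℤ => r ^ N) N 1
  rw [fwdDiff_iter_eq_factorial] at h1
  have h2 : ((N.factorial : ℤ → ℤ)) 1 = (N.factorial : ℤ) := by simp
  rw [h2] at h1
  rw [h1, Finset.mul_sum]
  refine Finset.sum_congr rfl fun j hj => ?_
  rw [Finset.mem_range] at hj
  have h3 : (-1 : ℤ) ^ N * ((-1) ^ (N - j)) = (-1) ^ j := by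
    rw [← pow_add]
    have : N + (N - j) = 2 * (N - j) + j := by omega
    rw [this, pow_add, pow_mul]; simp
  simp only [smul_eq_mul, nsmul_eq_mul, mul_one]
  rw [← h3]; ring

variable {σ : Type u}

theorem X_mem_vars (a : σ) : (X a : MvPolynomial σ ℚ) ∈ idealOfVars σ ℚ :=
  Ideal.subset_span ⟨a, rfl⟩

theorem psi_X_sub_mem (k : ℕ) (a : σ) :
    psi σ k (X a) ∈ idealOfVars σ ℚ := psi_mem_idealOfVars k (X_mem_vars a)

theorem psi_sub_self_mem (k : ℕ) (p : MvPolynomial σ ℚ) : psi σ k p - p ∈ idealOfVars σ ℚ := by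
  induction p using MvPolynomial.induction_on with
  | C c =>
    have : psi σ k (C c) = C c := (psi σ k).commutes c
    rw [this, sub_self]; exact Ideal.zero_mem _
  | add p q hp hq =>
    have : psi σ k (p + q) - (p + q) = (psi σ k p - p) + (psi σ k q - q) := by rw [map_add]; ring
    rw [this]; exact Ideal.add_mem _ hp hq
  | mul_X p a hp =>
    have : psi σ k (p * X a) - p * X a = (psi σ k p - p) * psi σ k (X a) +
        p * (psi σ k (X a) - X a) := by rw [map_mul]; ring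
    rw [this]
    refine Ideal.add_mem _ (Ideal.mul_mem_left _ _ (psi_X_sub_mem k a)) (Ideal.mul_mem_left _ _ ?_)
    exact Ideal.sub_mem _ (psi_X_sub_mem k a) (X_mem_vars a)

theorem psi_sub_mul_mem_sq (k : ℕ) {y : MvPolynomial σ ℚ} (hy : y ∈ idealOfVars σ ℚ) :
    psi σ k y - (k : MvPolynomial σ ℚ) * y ∈ idealOfVars σ ℚ ^ 2 := by
  rw [idealOfVars] at hy
  induction hy using Submodule.span_induction with
  | mem y hy =>
    obtain ⟨a, rfl⟩ := hy
    rw [psi_X]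
    obtain ⟨q, hq⟩ := one_add_pow_sub (X a : MvPolynomial σ ℚ) k
    rw [hq]
    exact Ideal.mul_mem_right _ _ (Ideal.pow_mem_pow (X_mem_vars a) 2)
  | zero => simp
  | add x y _ _ hx hy =>
    have : psi σ k (x + y) - (k : MvPolynomial σ ℚ) * (x + y) =
        (psi σ k x - (k : MvPolynomial σ ℚ) * x) + (psi σ k y - (k : MvPolynomial σ ℚ) * y) := by
      rw [map_add]; ring
    rw [this]; exact Ideal.add_mem _ hx hy
  | smul b y hy ih =>
    have hy' : y ∈ idealOfVars σ ℚ := hy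
    have : psi σ k (b • y) - (k : MvPolynomial σ ℚ) * (b • y) =
        (psi σ k b - b) * psi σ k y + b * (psi σ k y - (k : MvPolynomial σ ℚ) * y) := by
      rw [smul_eq_mul, map_mul]; ring
    rw [this]
    refine Ideal.add_mem _ ?_ (Ideal.mul_mem_left _ _ ih)
    rw [pow_two]
    exact Ideal.mul_mem_mul (psi_sub_self_mem k b) (psi_mem_idealOfVars k hy')

/-- `ψ^k z ≡ k^m z` modulo `(u)^{m+1}` for `z ∈ (u)^m` -/
theorem psi_sub_pow_mul_mem (k m : ℕ) {z : MvPolynomial σ ℚ} (hz : z ∈ idealOfVars σ ℚ ^ m) :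
    psi σ k z - (k : MvPolynomial σ ℚ) ^ m * z ∈ idealOfVars σ ℚ ^ (m + 1) := by
  induction m generalizing z with
  | zero =>
    rw [pow_zero, one_mul, zero_add, pow_one]
    exact psi_sub_self_mem k z
  | succ m ih =>
    rw [pow_succ] at hz
    refine Submodule.mul_induction_on hz ?_ ?_
    · intro a ha y hy
      have : psi σ k (a * y) - (k : MvPolynomial σ ℚ) ^ (m + 1) * (a * y) =
          (psi σ k a - (k : MvPolynomial σ ℚ) ^ m * a) * psi σ k y +
          (k : MvPolynomial σ ℚ) ^ m * (a * (psi σ k y - (k : MvPolynomial σ ℚ) * y)) := by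
        rw [map_mul]; ring
      rw [this]
      refine Ideal.add_mem _ ?_ (Ideal.mul_mem_left _ _ ?_)
      · rw [pow_succ (idealOfVars σ ℚ) (m + 1)]
        exact Ideal.mul_mem_mul (ih ha) (psi_mem_idealOfVars k hy)
      · have h2 : m + 1 + 1 = m + 2 := rfl
        rw [h2, pow_add]
        exact Ideal.mul_mem_mul ha (psi_sub_mul_mem_sq k hy)
    · intro x y hx hy
      have : psi σ k (x + y) - (k : MvPolynomial σ ℚ) ^ (m + 1) * (x + y) =
          (psi σ k x - (k : MvPolynomial σ ℚ) ^ (m + 1) * x) +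
          (psi σ k y - (k : MvPolynomial σ ℚ) ^ (m + 1) * y) := by
        rw [map_add]; ring
      rw [this]; exact Ideal.add_mem _ hx hy

theorem mem_of_natCast_mul_mem (I : Ideal (MvPolynomial σ ℚ)) (n : ℕ) (hn : n ≠ 0)
    (x : MvPolynomial σ ℚ) (h : (n : MvPolynomial σ ℚ) * x ∈ I) : x ∈ I := by
  have h2 := I.mul_mem_left (C ((n : ℚ)⁻¹)) h
  have h3 : C ((n : ℚ)⁻¹) * ((n : MvPolynomial σ ℚ) * x) = x := by
    rw [← mul_assoc, ← map_natCast (C : ℚ →+* MvPolynomial σ ℚ) n, ← C_mul,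
      inv_mul_cancel₀ (Nat.cast_ne_zero.mpr hn), C_1, one_mul]
  rwa [h3] at h2

set_option warn.classDefReducibility false in
attribute [local instance] lamOps

/-- `λ^{n+1} z ≡ (-1)^n (n+1)^{m-1} z` modulo `(u)^{m+1}` for `z ∈ (u)^m`, `m ≥ 1` -/
theorem lam_sub_mem (m : ℕ) (hm : 1 ≤ m) {z : MvPolynomial σ ℚ} (hz : z ∈ idealOfVars σ ℚ ^ m)
    (n : ℕ) :
    LambdaOps.lam (n + 1) z - (-1) ^ n * ((n : MvPolynomial σ ℚ) + 1) ^ (m - 1) * z ∈
      idealOfVars σ ℚ ^ (m + 1) := by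
  apply mem_of_natCast_mul_mem _ (n + 1) (Nat.succ_ne_zero n)
  have hpsi : ∀ k : ℕ, 1 ≤ k → ∀ w ∈ idealOfVars σ ℚ ^ m, psi σ k w ∈ idealOfVars σ ℚ ^ m :=
    fun k _ w hw => psi_mem_pow k m hw
  have h1 := LRec_succ (fun k => adamsOp k z) n
  rw [← lam_eq_LRec, Finset.sum_range_succ', LRec_zero, Nat.sub_zero, one_mul,
    adamsOp_eq σ (n + 1) (by omega)] at h1
  have h2 : ((n + 1 : ℕ) : MvPolynomial σ ℚ) *
      (LambdaOps.lam (n + 1) z - (-1) ^ n * ((n : MvPolynomial σ ℚ) + 1) ^ (m - 1) * z) =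
      ∑ i ∈ range n, LRec (fun k => adamsOp k z) (i + 1) *
        ((-1) ^ (n - (i + 1)) * adamsOp (n - (i + 1) + 1) z) +
      (-1) ^ n * (psi σ (n + 1) z - ((n + 1 : ℕ) : MvPolynomial σ ℚ) ^ m * z) := by
    have hm' : m = (m - 1) + 1 := by omega
    have h3 : ((n + 1 : ℕ) : MvPolynomial σ ℚ) ^ m =
        ((n : MvPolynomial σ ℚ) + 1) * ((n : MvPolynomial σ ℚ) + 1) ^ (m - 1) := by
      conv_lhs => rw [hm', pow_succ]
      push_cast; ring
    rw [h3]
    push_cast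
    linear_combination h1
  rw [h2]
  refine Ideal.add_mem _ (Ideal.sum_mem _ fun i hi => ?_)
    (Ideal.mul_mem_left _ _ (psi_sub_pow_mul_mem (n + 1) m hz))
  rw [Finset.mem_range] at hi
  rw [← lam_eq_LRec, adamsOp_eq σ _ (by omega)]
  have h4 : LambdaOps.lam (i + 1) z * ((-1) ^ (n - (i + 1)) * psi σ (n - (i + 1) + 1) z) ∈
      idealOfVars σ ℚ ^ m * idealOfVars σ ℚ ^ m :=
    Ideal.mul_mem_mul (lam_mem_of_psi_stable _ hpsi hz (i + 1) (by omega))
      (Ideal.mul_mem_left _ _ (psi_mem_pow _ m hz))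
  rw [← pow_add] at h4
  exact Ideal.pow_le_pow_right (by omega) h4

/-- `γ^m z ≡ (-1)^{m-1} (m-1)! z` modulo `(u)^{m+1}` for `z ∈ (u)^m`, `m ≥ 1` -/
theorem gamma_sub_mem (m : ℕ) (hm : 1 ≤ m) {z : MvPolynomial σ ℚ} (hz : z ∈ idealOfVars σ ℚ ^ m) :
    gamma m z - (((-1) ^ (m - 1) * ((m - 1).factorial : ℤ) : ℤ) : MvPolynomial σ ℚ) * z ∈
      idealOfVars σ ℚ ^ (m + 1) := by
  obtain ⟨N, rfl⟩ := Nat.exists_eq_add_of_le' hm
  rw [Nat.add_sub_cancel, Groth.Agent.Lib.helper3.UnivGamma.gamma_succ_eq, ← alt_sum_choose_pow N]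
  have h : ∑ j ∈ range (N + 1), (Nat.choose N j : MvPolynomial σ ℚ) * LambdaOps.lam (j + 1) z -
      ((∑ j ∈ range (N + 1), (Nat.choose N j : ℤ) * ((-1) ^ j * ((j : ℤ) + 1) ^ N) : ℤ) :
        MvPolynomial σ ℚ) * z =
      ∑ j ∈ range (N + 1), (Nat.choose N j : MvPolynomial σ ℚ) *
        (LambdaOps.lam (j + 1) z - (-1) ^ j * ((j : MvPolynomial σ ℚ) + 1) ^ (N + 1 - 1) * z) := by
    rw [Nat.add_sub_cancel]
    push_cast
    rw [Finset.sum_mul, ← Finset.sum_sub_distrib]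
    refine Finset.sum_congr rfl fun j _ => ?_
    ring
  rw [h]
  refine Ideal.sum_mem _ fun j _ => Ideal.mul_mem_left _ _ ?_
  exact lam_sub_mem (N + 1) (by omega) hz j

end Groth.Agent.Lib.helper3.LamPoly
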