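import Groth.Agent.Lib.Helper3.LamRing

/-!
The elementary extension `K_e = K[T]/(p_e)` of a λ-ring and the functional `f(ℓ^i) = σ^i(e)`
(helper3).
-/

set_option autoImplicit false
universe v

namespace Groth.Agent.Lib.helper3.LamRing

open PowerSeries LambdaRing KRR Finset

variable {K : Type v} [CommRing K] [LambdaOps K]

/-- The relation `Σ (-1)^i λ^i(e) ℓ^{m-i} = 0` satisfied by the root `ℓ` of `p_e`. -/
theorem extPoly_root_rel (P : PosStructure K) (e : K) :
    ∑ i ∈ range ((P.aug e).toNat + 1), ((-1 : K) ^ i * LambdaOps.lam i e) •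
      (AdjoinRoot.root (extPoly P e)) ^ ((P.aug e).toNat - i) = 0 := by
  have h : AdjoinRoot.mk (extPoly P e) (∑ i ∈ range ((P.aug e).toNat + 1),
      Polynomial.C ((-1 : K) ^ i * LambdaOps.lam i e) *
        Polynomial.X ^ ((P.aug e).toNat - i)) = 0 := AdjoinRoot.mk_self
  rw [map_sum] at h
  rw [← h]
  refine Finset.sum_congr rfl fun i _ => ?_
  rw [map_mul, map_pow, AdjoinRoot.mk_C, AdjoinRoot.mk_X, Algebra.smul_def,
    AdjoinRoot.algebraMap_eq]

theorem toNat_aug {P : PosStructure K} {e : K} {r : ℕ} (hr : P.aug e = r + 1) :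
    (P.aug e).toNat = r + 1 := by
  rw [hr]; omega

/-- `f(ℓ^i) = σ^i(e)` for `i ≤ r` implies the same for all `i`. -/
theorem functional_root_pow (P : PosStructure K) {e : K} (he : e ∈ P.pos) (r : ℕ)
    (hr : P.aug e = r + 1) (f : AdjoinRoot (extPoly P e) →ₗ[K] K)
    (hf : ∀ i : ℕ, i ≤ r → f (AdjoinRoot.root (extPoly P e) ^ i) = sigma i e) (i : ℕ) :
    f (AdjoinRoot.root (extPoly P e) ^ i) = sigma i e := by
  have hm := toNat_aug hr
  induction i using Nat.strong_induction_on with
  | _ i ih =>
    rcases Nat.lt_or_ge i (r + 1) with hi | hi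
    · exact hf i (by omega)
    · obtain ⟨n, rfl⟩ := Nat.exists_eq_add_of_le hi
      have hrel := extPoly_root_rel P e
      rw [hm] at hrel
      have h1 : ∑ j ∈ range (r + 1 + 1), ((-1 : K) ^ j * LambdaOps.lam j e) *
          f (AdjoinRoot.root (extPoly P e) ^ (r + 1 + n - j)) = 0 := by
        have := congrArg (fun z => f (AdjoinRoot.root (extPoly P e) ^ n * z)) hrel
        simp only [mul_zero, map_zero, Finset.mul_sum, map_sum, mul_smul_comm, map_smul,
          smul_eq_mul] at this
        rw [← this]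
        refine Finset.sum_congr rfl fun j hj => ?_
        rw [← pow_add]
        have hj' := Finset.mem_range.mp hj
        congr 3
        omega
      have h2 : ∑ j ∈ range (r + 1 + 1), ((-1 : K) ^ j * LambdaOps.lam j e) *
          sigma (r + 1 + n - j) e = 0 := by
        have := sigma_rec_pos e (r + 1 + n) (by omega)
        rw [← this]
        apply Finset.sum_subset
        · intro j hj
          rw [Finset.mem_range] at hj ⊢
          omega
        · intro j _ hj
          rw [Finset.mem_range, not_lt] at hj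
          rw [P.lam_eq_zero e he j (by rw [hr]; omega), mul_zero, zero_mul]
      rw [Finset.sum_range_succ'] at h1 h2
      have hsum : ∑ j ∈ range (r + 1), ((-1 : K) ^ (j + 1) * LambdaOps.lam (j + 1) e) *
          f (AdjoinRoot.root (extPoly P e) ^ (r + 1 + n - (j + 1))) =
          ∑ j ∈ range (r + 1), ((-1 : K) ^ (j + 1) * LambdaOps.lam (j + 1) e) *
            sigma (r + 1 + n - (j + 1)) e :=
        Finset.sum_congr rfl fun j hj => by rw [ih _ (by omega)]
      rw [hsum] at h1
      simp only [pow_zero, LambdaOps.lam_zero, mul_one, one_mul, Nat.sub_zero] at h1 h2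
      linear_combination h1 - h2

theorem inv_pow_mul_pow_of_le {A : Type*} [CommRing A] {linv l : A} (h : linv * l = 1) {a b : ℕ}
    (hab : a ≤ b) : linv ^ b * l ^ a = linv ^ (b - a) := by
  obtain ⟨c, rfl⟩ := Nat.exists_eq_add_of_le hab
  rw [Nat.add_sub_cancel_left, pow_add, mul_comm (linv ^ a), mul_assoc, ← mul_pow, h, one_pow,
    mul_one]

theorem inv_pow_mul_pow_of_ge {A : Type*} [CommRing A] {linv l : A} (h : linv * l = 1) {a b : ℕ}
    (hab : b ≤ a) : linv ^ b * l ^ a = l ^ (a - b) := by
  obtain ⟨c, rfl⟩ := Nat.exists_eq_add_of_le hab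
  rw [Nat.add_sub_cancel_left, pow_add, ← mul_assoc, ← mul_pow, h, one_pow, one_mul]

/-- `f(ℓ^{-n}) = 0` for `1 ≤ n ≤ r`. -/
theorem functional_inv_pow (P : PosStructure K) {e : K} (he : e ∈ P.pos) (r : ℕ)
    (hr : P.aug e = r + 1) (f : AdjoinRoot (extPoly P e) →ₗ[K] K)
    (hf : ∀ i : ℕ, i ≤ r → f (AdjoinRoot.root (extPoly P e) ^ i) = sigma i e)
    (linv : AdjoinRoot (extPoly P e)) (hlinv : linv * AdjoinRoot.root (extPoly P e) = 1)
    (n : ℕ) (hn1 : 1 ≤ n) (hnr : n ≤ r) : f (linv ^ n) = 0 := by
  have hm := toNat_aug hr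
  have hA := functional_root_pow P he r hr f hf
  induction n using Nat.strong_induction_on with
  | _ n ih =>
    have hrel := extPoly_root_rel P e
    rw [hm] at hrel
    have h1 : ∑ j ∈ range (r + 1 + 1), ((-1 : K) ^ j * LambdaOps.lam j e) *
        f (linv ^ n * AdjoinRoot.root (extPoly P e) ^ (r + 1 - j)) = 0 := by
      have := congrArg (fun z => f (linv ^ n * z)) hrel
      simp only [mul_zero, map_zero, Finset.mul_sum, map_sum, mul_smul_comm, map_smul,
        smul_eq_mul] at this
      exact this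
    rw [← Finset.sum_range_add_sum_Ico _ (show r + 1 - n + 1 ≤ r + 1 + 1 by omega)] at h1
    have hfirst : ∑ j ∈ range (r + 1 - n + 1), ((-1 : K) ^ j * LambdaOps.lam j e) *
        f (linv ^ n * AdjoinRoot.root (extPoly P e) ^ (r + 1 - j)) = 0 := by
      rw [← sigma_rec_pos e (r + 1 - n) (by omega)]
      refine Finset.sum_congr rfl fun j hj => ?_
      have hj' := Finset.mem_range.mp hj
      rw [inv_pow_mul_pow_of_ge hlinv (by omega), hA]
      congr 2
      omega
    rw [hfirst, zero_add, Finset.sum_Ico_succ_top (by omega)] at h1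
    have hsecond : ∑ j ∈ Ico (r + 1 - n + 1) (r + 1), ((-1 : K) ^ j * LambdaOps.lam j e) *
        f (linv ^ n * AdjoinRoot.root (extPoly P e) ^ (r + 1 - j)) = 0 := by
      refine Finset.sum_eq_zero fun j hj => ?_
      have hj' := Finset.mem_Ico.mp hj
      rw [inv_pow_mul_pow_of_le hlinv (by omega), ih _ (by omega) (by omega) (by omega), mul_zero]
    rw [hsecond, zero_add, Nat.sub_self, pow_zero, mul_one] at h1
    have hunit : IsUnit ((-1 : K) ^ (r + 1) * LambdaOps.lam (r + 1) e) := by
      have h := P.isUnit_lam e he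
      rw [hm] at h
      exact (isUnit_one.neg.pow _).mul h
    exact (hunit.mul_right_eq_zero).mp h1

end Groth.Agent.Lib.helper3.LamRing
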