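import Groth.Agent.Lib.Helper3.LamRing2

/-!
More on the elementary extension `K_e`: λ-operations of `e - ℓ`, spanning by powers of `ℓ`,
nondegeneracy of the functional (helper3).
-/

set_option autoImplicit false
universe v

namespace Groth.Agent.Lib.helper3.LamRing

open PowerSeries LambdaRing KRR Finset

variable {K : Type v} [CommRing K] [LambdaOps K]

section SubRoot

variable (P : PosStructure K) (e : K)
  (inst : LambdaOps (AdjoinRoot (extPoly P e)))
  (hext : ∀ (i : ℕ) (x : K), @LambdaOps.lam _ _ inst i (AdjoinRoot.of (extPoly P e) x) =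
      AdjoinRoot.of (extPoly P e) (LambdaOps.lam i x))
  (hroot : ∀ i : ℕ, 2 ≤ i → @LambdaOps.lam _ _ inst i (AdjoinRoot.root (extPoly P e)) = 0)

include hext hroot

theorem lam_sub_root_succ (k : ℕ) :
    AdjoinRoot.of (extPoly P e) (LambdaOps.lam (k + 1) e) =
      @LambdaOps.lam _ _ inst (k + 1) (AdjoinRoot.of (extPoly P e) e - AdjoinRoot.root (extPoly P e)) +
      @LambdaOps.lam _ _ inst k (AdjoinRoot.of (extPoly P e) e - AdjoinRoot.root (extPoly P e)) *
        AdjoinRoot.root (extPoly P e) := by
  set ℓ := AdjoinRoot.root (extPoly P e) with hℓ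
  set q := AdjoinRoot.of (extPoly P e) e - ℓ with hq
  have h := @LambdaOps.lam_add _ _ inst (k + 1) q ℓ
  rw [hq, sub_add_cancel, hext, ← hq, Finset.sum_range_succ, Finset.sum_range_succ] at h
  have hz : ∑ x ∈ Finset.range k, @LambdaOps.lam _ _ inst x q *
      @LambdaOps.lam _ _ inst (k + 1 - x) ℓ = 0 := by
    refine Finset.sum_eq_zero fun x hx => ?_
    have hx' := Finset.mem_range.mp hx
    rw [hroot _ (by omega), mul_zero]
  rw [hz, zero_add, Nat.sub_self, Nat.add_sub_cancel_left, @LambdaOps.lam_zero _ _ inst,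
    @LambdaOps.lam_one _ _ inst, mul_one] at h
  rw [h, add_comm]

theorem lam_sub_root_closed (k : ℕ) :
    @LambdaOps.lam _ _ inst k (AdjoinRoot.of (extPoly P e) e - AdjoinRoot.root (extPoly P e)) =
      ∑ j ∈ Finset.range (k + 1), ((-1 : K) ^ (k - j) * LambdaOps.lam j e) •
        AdjoinRoot.root (extPoly P e) ^ (k - j) := by
  induction k with
  | zero =>
    rw [@LambdaOps.lam_zero _ _ inst]
    simp [LambdaOps.lam_zero]
  | succ k ih =>
    have h := lam_sub_root_succ P e inst hext hroot k
    set ℓ := AdjoinRoot.root (extPoly P e) with hℓ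
    set q := AdjoinRoot.of (extPoly P e) e - ℓ with hq
    have h' : @LambdaOps.lam _ _ inst (k + 1) q =
        AdjoinRoot.of (extPoly P e) (LambdaOps.lam (k + 1) e) -
          @LambdaOps.lam _ _ inst k q * ℓ := by
      rw [h]; ring
    rw [h', ih, Finset.sum_range_succ _ (k + 1), Nat.sub_self, pow_zero, pow_zero, one_mul,
      Finset.sum_mul, Algebra.smul_def, AdjoinRoot.algebraMap_eq, mul_one, sub_eq_add_neg,
      add_comm, ← Finset.sum_neg_distrib]
    congr 1
    refine Finset.sum_congr rfl fun j hj => ?_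
    have hj' := Finset.mem_range.mp hj
    have e1 : k + 1 - j = (k - j) + 1 := by omega
    rw [e1, pow_succ, pow_succ, smul_mul_assoc, ← neg_smul]
    congr 1
    ring

/-- `λ^{m}(e - ℓ) = 0` for `m = ε(e)` (the top exterior power vanishes by the relation). -/
theorem lam_sub_root_top :
    @LambdaOps.lam _ _ inst (P.aug e).toNat
      (AdjoinRoot.of (extPoly P e) e - AdjoinRoot.root (extPoly P e)) = 0 := by
  rw [lam_sub_root_closed P e inst hext hroot]
  have hrel := extPoly_root_rel P e
  have : ∑ j ∈ Finset.range ((P.aug e).toNat + 1),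
      ((-1 : K) ^ ((P.aug e).toNat - j) * LambdaOps.lam j e) •
        AdjoinRoot.root (extPoly P e) ^ ((P.aug e).toNat - j) =
      ((-1 : K) ^ (P.aug e).toNat) • ∑ i ∈ range ((P.aug e).toNat + 1),
        ((-1 : K) ^ i * LambdaOps.lam i e) •
          (AdjoinRoot.root (extPoly P e)) ^ ((P.aug e).toNat - i) := by
    rw [Finset.smul_sum]
    refine Finset.sum_congr rfl fun j hj => ?_
    have hj' := Finset.mem_range.mp hj
    rw [smul_smul]
    congr 1
    have e1 : (-1 : K) ^ ((P.aug e).toNat - j) = (-1 : K) ^ (P.aug e).toNat * (-1 : K) ^ j := by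
      have : (P.aug e).toNat = ((P.aug e).toNat - j) + j := by omega
      conv_rhs => rw [this, pow_add, mul_assoc, ← pow_add, ← two_mul, pow_mul]
      simp
    rw [e1]
    ring
  rw [this, hrel, smul_zero]

end SubRoot

section Span

variable (P : PosStructure K) {e : K} (r : ℕ) (hr : P.aug e = r + 1)

include hr

/-- every power of `ℓ` lies in the span of `1, ℓ, …, ℓ^r` -/
theorem root_pow_mem_span (n : ℕ) :
    AdjoinRoot.root (extPoly P e) ^ n ∈
      Submodule.span K (Set.range fun i : Fin (r + 1) => AdjoinRoot.root (extPoly P e) ^ (i : ℕ)) := by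
  have hm := toNat_aug hr
  induction n using Nat.strong_induction_on with
  | _ n ih =>
    rcases Nat.lt_or_ge n (r + 1) with hn | hn
    · exact Submodule.subset_span ⟨⟨n, hn⟩, rfl⟩
    · obtain ⟨k, rfl⟩ := Nat.exists_eq_add_of_le hn
      have hrel := extPoly_root_rel P e
      rw [hm] at hrel
      have h1 := congrArg (fun z => AdjoinRoot.root (extPoly P e) ^ k * z) hrel
      simp only [mul_zero, Finset.mul_sum, mul_smul_comm] at h1
      rw [Finset.sum_range_succ'] at h1
      simp only [pow_zero, LambdaOps.lam_zero, mul_one, one_smul, Nat.sub_zero] at h1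
      have h2 : AdjoinRoot.root (extPoly P e) ^ (r + 1 + k) =
          -∑ j ∈ range (r + 1), ((-1 : K) ^ (j + 1) * LambdaOps.lam (j + 1) e) •
            (AdjoinRoot.root (extPoly P e) ^ k *
              AdjoinRoot.root (extPoly P e) ^ (r + 1 - (j + 1))) := by
        rw [eq_neg_iff_add_eq_zero, add_comm, pow_add, mul_comm (_ ^ (r + 1))]
        exact h1
      rw [h2]
      refine Submodule.neg_mem _ (Submodule.sum_mem _ fun j hj => ?_)
      have hj' := Finset.mem_range.mp hj
      rw [← pow_add]
      exact Submodule.smul_mem _ _ (ih _ (by omega))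

/-- every element of `K_e` is a `K`-combination of `1, ℓ, …, ℓ^r` -/
theorem exists_repr (y : AdjoinRoot (extPoly P e)) :
    ∃ c : ℕ → K, y = ∑ i ∈ range (r + 1), c i • AdjoinRoot.root (extPoly P e) ^ i := by
  have hy : y ∈ Submodule.span K
      (Set.range fun i : Fin (r + 1) => AdjoinRoot.root (extPoly P e) ^ (i : ℕ)) := by
    obtain ⟨h, rfl⟩ := AdjoinRoot.mk_surjective y
    induction h using Polynomial.induction_on' with
    | add p q hp hq => rw [map_add]; exact Submodule.add_mem _ hp hq
    | monomial n a =>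
      rw [← Polynomial.C_mul_X_pow_eq_monomial, map_mul, map_pow, AdjoinRoot.mk_C, AdjoinRoot.mk_X,
        ← AdjoinRoot.algebraMap_eq, ← Algebra.smul_def]
      exact Submodule.smul_mem _ _ (root_pow_mem_span P r hr n)
  rw [Submodule.mem_span_range_iff_exists_fun] at hy
  obtain ⟨c, hc⟩ := hy
  refine ⟨fun i => if h : i < r + 1 then c ⟨i, h⟩ else 0, ?_⟩
  rw [← hc, ← Fin.sum_univ_eq_sum_range
    (fun i => (if h : i < r + 1 then c ⟨i, h⟩ else 0) • AdjoinRoot.root (extPoly P e) ^ i) (r + 1)]
  refine Finset.sum_congr rfl fun i _ => ?_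
  rw [dif_pos i.2]

/-- nondegeneracy: if `f(y ℓ^{-j}) = 0` for `0 ≤ j ≤ r` then `y = 0` -/
theorem eq_zero_of_functional (he : e ∈ P.pos) (f : AdjoinRoot (extPoly P e) →ₗ[K] K)
    (hf : ∀ i : ℕ, i ≤ r → f (AdjoinRoot.root (extPoly P e) ^ i) = sigma i e)
    (linv : AdjoinRoot (extPoly P e)) (hlinv : linv * AdjoinRoot.root (extPoly P e) = 1)
    (y : AdjoinRoot (extPoly P e)) (hy : ∀ j : ℕ, j ≤ r → f (y * linv ^ j) = 0) : y = 0 := by
  obtain ⟨c, hc⟩ := exists_repr P r hr y
  have hA := functional_root_pow P he r hr f hf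
  have hB := functional_inv_pow P he r hr f hf linv hlinv
  have key : ∀ j : ℕ, j ≤ r → c (r - j) = 0 := by
    intro j
    induction j using Nat.strong_induction_on with
    | _ j ih =>
      intro hj
      have h1 := hy (r - j) (by omega)
      rw [hc, Finset.sum_mul, map_sum] at h1
      have h2 : ∀ i ∈ range (r + 1), f (c i • AdjoinRoot.root (extPoly P e) ^ i * linv ^ (r - j)) =
          if i = r - j then c (r - j) else 0 := by
        intro i hi
        have hi' := Finset.mem_range.mp hi
        rw [smul_mul_assoc, map_smul, smul_eq_mul, mul_comm (_ ^ i)]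
        rcases Nat.lt_trichotomy i (r - j) with hlt | heq | hgt
        · rw [if_neg hlt.ne, inv_pow_mul_pow_of_le hlinv hlt.le,
            hB _ (by omega) (by omega), mul_zero]
        · subst heq
          rw [if_pos rfl, inv_pow_mul_pow_of_le hlinv le_rfl, Nat.sub_self, pow_zero]
          have := hA 0
          rw [pow_zero, sigma_zero] at this
          rw [this, mul_one]
        · rw [if_neg hgt.ne']
          have : c i = 0 := by
            have := ih (r - i) (by omega) (by omega)
            rwa [Nat.sub_sub_self (by omega)] at this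
          rw [this, zero_mul]
      rw [Finset.sum_congr rfl h2, Finset.sum_ite_eq' (range (r + 1)) (r - j),
        if_pos (Finset.mem_range.mpr (by omega))] at h1
      exact h1
  rw [hc]
  refine Finset.sum_eq_zero fun i hi => ?_
  have hi' := Finset.mem_range.mp hi
  have := key (r - i) (by omega)
  rw [Nat.sub_sub_self (by omega)] at this
  rw [this, zero_smul]

end Span

end Groth.Agent.Lib.helper3.LamRing
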