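import Mathlib
import Groth.Prelude.Def_LCI2
import Groth.Agent.Lib.Helper3.LciPerf

/-!
# helper3: Koszul-regular ideals are finitely generated; lci ring maps are of finite presentation
-/

set_option autoImplicit false
universe u

namespace Groth.Agent.Lib.helper3.LciPerf

variable {P : Type u} [CommRing P]

theorem fg_of_isKoszulRegularIdeal (J : Ideal P) (hJ : LCI.IsKoszulRegularIdeal J) : J.FG := by
  obtain ⟨r, f, hf, hgood⟩ := exists_cover J hJ
  refine Ideal.fg_of_localizationSpan (Set.range f) hf ?_
  rintro ⟨_, i, rfl⟩
  rcases hgood i with hg | ⟨l, -, hl2⟩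
  · have htop : J.map (algebraMap P (Localization.Away (f i))) = ⊤ := by
      rw [Ideal.eq_top_iff_one]
      obtain ⟨u, hu⟩ : IsUnit (algebraMap P (Localization.Away (f i)) (f i)) :=
        IsLocalization.Away.algebraMap_isUnit (f i)
      have h1 : algebraMap P (Localization.Away (f i)) (f i) ∈
          J.map (algebraMap P (Localization.Away (f i))) := Ideal.mem_map_of_mem _ hg
      have h2 := Ideal.mul_mem_left _ (↑u⁻¹ : Localization.Away (f i)) h1
      rwa [← hu, Units.inv_mul] at h2
    show (J.map (algebraMap P (Localization.Away (f i)))).FG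
    rw [htop]
    exact ⟨{1}, by simp⟩
  · show (J.map (algebraMap P (Localization.Away (f i)))).FG
    rw [hl2]
    exact Submodule.fg_span (List.finite_toSet l)

theorem finitePresentation_of_isLCI (A B : Type u) [CommRing A] [CommRing B] [Algebra A B]
    (h : LCI.IsLCI A B) : Algebra.FinitePresentation A B := by
  obtain ⟨-, n, f, hf, hK⟩ := h
  exact Algebra.FinitePresentation.of_surjective hf (fg_of_isKoszulRegularIdeal _ hK)

end Groth.Agent.Lib.helper3.LciPerf
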