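import Mathlib
/-!
# Flat base change of the sections supported off `D(I)` (helper3; used by S5107)

`R → R'` flat, `I = (a₁,…,a_r)` an ideal of `R`.  If `R → R'` kills every `b : R` which is killed by
a power of each `a_k`, then every `m' : R'` killed by a power of each image of `a_k` is zero.
-/

set_option autoImplicit false
set_option linter.style.haveILetI false
set_option linter.unusedSectionVars false
universe u

namespace Groth.Agent.Lib.helper3.LimSchDense

/-- elements of the span of the `a k` act nilpotently on `b` if all the `a k` do -/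
theorem exists_pow_mul_eq_zero_of_mem_span {R : Type*} [CommRing R] {ι : Type*} (a : ι → R) (b : R)
    (h : ∀ k, ∃ n : ℕ, a k ^ n * b = 0) {x : R} (hx : x ∈ Ideal.span (Set.range a)) :
    ∃ n : ℕ, x ^ n * b = 0 := by
  have hle : Ideal.span (Set.range a) ≤ ((Ideal.span {b}).annihilator).radical := by
    rw [Ideal.span_le]
    rintro _ ⟨k, rfl⟩
    obtain ⟨n, hn⟩ := h k
    refine ⟨n, ?_⟩
    rw [Submodule.mem_annihilator_span_singleton]
    exact hn
  obtain ⟨n, hn⟩ := hle hx
  rw [Submodule.mem_annihilator_span_singleton] at hn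
  exact ⟨n, hn⟩

/-- **flat base change of `Γ_I`**, in the form needed. -/
theorem eq_zero_of_flat {R R' : Type u} [CommRing R] [CommRing R'] [Algebra R R'] [Module.Flat R R']
    {r : ℕ} (a : Fin r → R)
    (hkill : ∀ b : R, (∀ k, ∃ n : ℕ, a k ^ n * b = 0) → algebraMap R R' b = 0)
    (m' : R') (hm' : ∀ k, ∃ n : ℕ, algebraMap R R' (a k) ^ n * m' = 0) : m' = 0 := by
  classical
  choose n hn using hm'
  set N : ℕ := Finset.univ.sup n with hN
  have hN' : ∀ k, algebraMap R R' (a k) ^ N * m' = 0 := by
    intro k
    have hk : n k ≤ N := Finset.le_sup (Finset.mem_univ k)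
    obtain ⟨d, hd⟩ := Nat.exists_eq_add_of_le hk
    rw [hd, pow_add, mul_comm (_ ^ n k), mul_assoc, hn k, mul_zero]
  -- the relation module
  let f : (Fin r → R) →ₗ[R] R :=
    { toFun := fun e => ∑ k, e k * a k ^ N
      map_add' := fun e e' => by simp [add_mul, Finset.sum_add_distrib]
      map_smul' := fun c e => by simp [Finset.mul_sum, mul_assoc] }
  let x : R →ₗ[R] R' := LinearMap.toSpanSingleton R R' m'
  have hxf : x ∘ₗ f = 0 := by
    ext e
    simp only [LinearMap.comp_apply, LinearMap.zero_apply, x, f, LinearMap.coe_mk, AddHom.coe_mk,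
      LinearMap.toSpanSingleton_apply, Finset.sum_smul]
    refine Finset.sum_eq_zero fun k _ => ?_
    rw [Algebra.smul_def, map_mul, map_pow, mul_assoc, hN' k, mul_zero]
  obtain ⟨l, α, y, hxy, hαf⟩ := Module.Flat.exists_factorization_of_comp_eq_zero_of_free hxf
  have hb : ∀ j : Fin l, ∀ k, a k ^ N * (α 1 j) = 0 := by
    intro j k
    have h1 : α (f (Pi.single k 1)) = 0 := by
      rw [← LinearMap.comp_apply, hαf, LinearMap.zero_apply]
    have h2 : f (Pi.single k 1) = a k ^ N := by
      simp only [f, LinearMap.coe_mk, AddHom.coe_mk]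
      rw [Finset.sum_eq_single k]
      · simp
      · intro k' _ hk'
        simp [Pi.single_apply, hk']
      · intro hk
        exact absurd (Finset.mem_univ k) hk
    rw [h2] at h1
    have h3 : α (a k ^ N) = a k ^ N • α 1 := by
      rw [← map_smul, smul_eq_mul, mul_one]
    rw [h3] at h1
    have := congrArg (fun v => v j) h1
    simpa using this
  have hm : m' = y (α 1) := by
    have := congrArg (fun g => g 1) hxy
    simpa [x] using this
  have hα1 : α 1 = ∑ j, (α 1 j) • Finsupp.single j (1 : R) := by
    ext j'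
    simp [Finsupp.single_apply]
  rw [hm, hα1, map_sum]
  refine Finset.sum_eq_zero fun j _ => ?_
  rw [map_smul, Algebra.smul_def, hkill (α 1 j) (fun k => ⟨N, hb j k⟩), zero_mul]

end Groth.Agent.Lib.helper3.LimSchDense
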