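import Groth.Agent.Lib.Helper3.RestrSepSch3

/-!
# Universal schematic density of an open subscheme is detected on fibres
(helper3, EGA IV 11.10.10, structure sheaf version)
-/

set_option autoImplicit false
set_option linter.style.haveILetI false
set_option linter.unusedSectionVars false
universe u v
open CategoryTheory CategoryTheory.Limits AlgebraicGeometry TopologicalSpace Opposite TensorProduct

namespace Groth.Agent.Lib.helper3.RestrSep

open Groth.Agent.Lib.helper3.SchDomChart Groth.Agent.Lib.helper3.SchDomT5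

section O

variable {Y : Scheme.{u}}

/-- `U` is schematically dense in `Y` -/
def SchDense (U : Y.Opens) : Prop :=
  ∀ (V : Y.Opens) (t : Γ(Y, V)),
    Y.presheaf.map (homOfLE (inf_le_left : V ⊓ U ≤ V)).op t = 0 → t = 0

theorem schDense_iff (U : Y.Opens) :
    SchDense U ↔ ∀ V : Y.Opens, Function.Injective
      (Y.presheaf.map (homOfLE (inf_le_left : V ⊓ U ≤ V)).op) := by
  constructor
  · intro h V
    exact (injective_iff_map_eq_zero (Y.presheaf.map (homOfLE (inf_le_left : V ⊓ U ≤ V)).op).hom).mpr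
      (fun t ht => h V t ht)
  · intro h V t ht
    exact h V (ht.trans (map_zero (Y.presheaf.map (homOfLE (inf_le_left : V ⊓ U ≤ V)).op).hom).symm)

theorem res_res {V₁ V₂ V₃ : Y.Opens} (h₁ : V₂ ≤ V₁) (h₂ : V₃ ≤ V₂) (x : Γ(Y, V₁)) :
    Y.presheaf.map (homOfLE h₂).op (Y.presheaf.map (homOfLE h₁).op x) =
      Y.presheaf.map (homOfLE (h₂.trans h₁)).op x := by
  rw [← ConcreteCategory.comp_apply, ← Functor.map_comp]
  rfl

theorem eq_zero_of_cover_O {ι : Type*} (W : ι → Y.Opens) (V : Y.Opens) (hle : ∀ i, W i ≤ V)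
    (hcov : V ≤ ⨆ i, W i) (x : Γ(Y, V))
    (hx : ∀ i, Y.presheaf.map (homOfLE (hle i)).op x = 0) : x = 0 := by
  apply TopCat.Sheaf.eq_of_locally_eq' Y.sheaf W V (fun i => homOfLE (hle i)) hcov
  intro i
  exact (hx i).trans (map_zero (Y.presheaf.map (homOfLE (hle i)).op).hom).symm

theorem res_basicOpen_eq_zero_of_pow_mul {W : Y.Opens} (a t : Γ(Y, W)) (n : ℕ)
    (hn : a ^ n * t = 0) : Y.presheaf.map (homOfLE (Y.basicOpen_le a)).op t = 0 := by
  have h1 := congrArg (Y.presheaf.map (homOfLE (Y.basicOpen_le a)).op) hn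
  rw [map_mul, map_pow, map_zero] at h1
  have hunit : IsUnit ((Y.presheaf.map (homOfLE (Y.basicOpen_le a)).op a) ^ n) :=
    (RingedSpace.isUnit_res_basicOpen Y.toRingedSpace a).pow n
  exact (hunit.mul_right_eq_zero).mp h1

theorem exists_pow_mul_eq_zero_of_isAffineOpen {W : Y.Opens} (hW : IsAffineOpen W)
    (a t : Γ(Y, W)) (h : Y.presheaf.map (homOfLE (Y.basicOpen_le a)).op t = 0) :
    ∃ n : ℕ, a ^ n * t = 0 := by
  haveI := hW.isLocalization_basicOpen a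
  have h1 : algebraMap Γ(Y, W) Γ(Y, Y.basicOpen a) t = 0 := h
  obtain ⟨⟨_, n, rfl⟩, hn⟩ :=
    (IsLocalization.map_eq_zero_iff (Submonoid.powers a) Γ(Y, Y.basicOpen a) t).mp h1
  exact ⟨n, hn⟩

theorem exists_pow_mul_eq_res_of_isAffineOpen {W : Y.Opens} (hW : IsAffineOpen W)
    (a : Γ(Y, W)) (t : Γ(Y, Y.basicOpen a)) :
    ∃ (n : ℕ) (s : Γ(Y, W)), Y.presheaf.map (homOfLE (Y.basicOpen_le a)).op s =
      (Y.presheaf.map (homOfLE (Y.basicOpen_le a)).op a) ^ n * t := by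
  haveI := hW.isLocalization_basicOpen a
  obtain ⟨⟨s, ⟨_, n, rfl⟩⟩, hs⟩ := IsLocalization.surj (Submonoid.powers a) t
  refine ⟨n, s, ?_⟩
  have hs' : t * algebraMap Γ(Y, W) Γ(Y, Y.basicOpen a) (a ^ n) =
      algebraMap Γ(Y, W) Γ(Y, Y.basicOpen a) s := hs
  rw [mul_comm, map_pow] at hs'
  exact hs'.symm

/-- a function on `W` killed by powers of functions whose basic opens cover `W ∩ U` vanishes, if
`U` is schematically dense -/
theorem eq_zero_of_schDense (U : Y.Opens) (h : SchDense U) {W : Y.Opens} {ι : Type*}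
    (a : ι → Γ(Y, W)) (hcov : W ⊓ U ≤ ⨆ i, Y.basicOpen (a i)) (t : Γ(Y, W))
    (ht : ∀ i, ∃ n : ℕ, a i ^ n * t = 0) : t = 0 := by
  apply h W t
  refine eq_zero_of_cover_O (fun i => Y.basicOpen (a i) ⊓ (W ⊓ U)) (W ⊓ U)
    (fun i => inf_le_right) ?_ _ (fun i => ?_)
  · intro y hy
    obtain ⟨i, hi⟩ := Opens.mem_iSup.mp (hcov hy)
    exact Opens.mem_iSup.mpr ⟨i, hi, hy⟩
  · obtain ⟨n, hn⟩ := ht i
    have h1 := res_basicOpen_eq_zero_of_pow_mul (a i) t n hn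
    rw [res_res]
    have h2 : Y.basicOpen (a i) ⊓ (W ⊓ U) ≤ Y.basicOpen (a i) := inf_le_left
    rw [← res_res (Y.basicOpen_le (a i)) h2, h1, map_zero]

/-- **local criterion**: `U` is schematically dense if `IdSep` holds on an affine open cover -/
theorem schDense_of_idSep (U : Y.Opens)
    (hcov : ∀ y : Y, ∃ (W₀ : Y.Opens) (_ : IsAffineOpen W₀), y ∈ W₀ ∧
      IdSep (vanIdeal W₀ U) Γ(Y, W₀)) : SchDense U := by
  intro V t ht
  have hloc : ∀ x : V, ∃ (W : Y.Opens) (hWV : W ≤ V), x.1 ∈ W ∧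
      Y.presheaf.map (homOfLE hWV).op t = 0 := by
    intro x
    obtain ⟨W₀, hW₀, hxW₀, hsep⟩ := hcov x.1
    obtain ⟨c, hcV, hxc⟩ := hW₀.exists_basicOpen_le (V := V) x hxW₀
    refine ⟨Y.basicOpen c, hcV, hxc, ?_⟩
    set t' := Y.presheaf.map (homOfLE hcV).op t with ht'
    obtain ⟨k, s, hs⟩ := exists_pow_mul_eq_res_of_isAffineOpen hW₀ c t'
    have hs0 : ∀ a ∈ vanIdeal W₀ U, ∃ n : ℕ, (c * a) ^ n • s = 0 := by
      intro a ha
      apply exists_pow_mul_eq_zero_of_isAffineOpen hW₀ (c * a) s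
      have hle : Y.basicOpen (c * a) ≤ Y.basicOpen c := by
        rw [Scheme.basicOpen_mul]; exact inf_le_left
      have hle2 : Y.basicOpen (c * a) ≤ V ⊓ U := by
        rw [Scheme.basicOpen_mul]
        exact inf_le_inf hcV ha
      rw [← res_res (Y.basicOpen_le c) hle, hs, map_mul]
      have h4 : Y.presheaf.map (homOfLE hle).op t' = 0 := by
        rw [ht', res_res, ← res_res (inf_le_left : V ⊓ U ≤ V) hle2, ht, map_zero]
      rw [h4, mul_zero]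
    obtain ⟨n, hn⟩ := hsep c s hs0
    have h5 := res_basicOpen_eq_zero_of_pow_mul c s n hn
    rw [hs] at h5
    have hunit : IsUnit ((Y.presheaf.map (homOfLE (Y.basicOpen_le c)).op c) ^ k) :=
      (RingedSpace.isUnit_res_basicOpen Y.toRingedSpace c).pow k
    exact (hunit.mul_right_eq_zero).mp h5
  choose W hWV hxW hW0 using hloc
  apply eq_zero_of_cover_O W V hWV
  · intro y hy
    exact Opens.mem_iSup.mpr ⟨⟨y, hy⟩, hxW ⟨y, hy⟩⟩
  · intro x
    exact hW0 x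

end O

section ChartO

variable {X S S' : Scheme.{u}} (p : X ⟶ S) (q : S' ⟶ S) (U : X.Opens)
  {S₀ : S.Opens} (hS₀ : IsAffineOpen S₀) {U₀ : X.Opens} (hU₀ : IsAffineOpen U₀)
  {C : Type u} [CommRing C] (i₂ : Spec (CommRingCat.of C) ⟶ S') [IsOpenImmersion i₂]
  [Algebra Γ(S, S₀) Γ(X, U₀)] [Algebra Γ(S, S₀) C]
  (hA : Spec.map (CommRingCat.ofHom (algebraMap Γ(S, S₀) Γ(X, U₀))) ≫ hS₀.fromSpec =
    hU₀.fromSpec ≫ p)
  (hB : Spec.map (CommRingCat.ofHom (algebraMap Γ(S, S₀) C)) ≫ hS₀.fromSpec = i₂ ≫ q)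

include hS₀ hU₀ i₂ hA hB in
/-- **from the base change to the fibre condition on a chart** -/
theorem fib_of_schDense (h : SchDense ((pullback.fst p q) ⁻¹ᵁ U)) :
    Fib Γ(S, S₀) (vanIdeal U₀ U) Γ(X, U₀) C := by
  intro τ hτ
  apply (chartIso p q hS₀ hU₀ i₂ hA hB).commRingCatIsoToRingEquiv.injective
  rw [map_zero]
  have e₀ := image_top_le p q hS₀ hU₀ i₂ hA hB
  refine eq_zero_of_schDense _ h
    (fun a : vanIdeal U₀ U => ((pullback.fst p q).appLE U₀ _ e₀).hom a.1) ?_ _ (fun a => ?_)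
  · rintro y ⟨hyW, hyU⟩
    have h1 : (pullback.fst p q) y ∈ U₀ ⊓ U := ⟨e₀ hyW, hyU⟩
    obtain ⟨a, ha⟩ := Opens.mem_iSup.mp (inf_le_iSup_vanIdeal hU₀ U h1)
    refine Opens.mem_iSup.mpr ⟨a, ?_⟩
    change y ∈ (pullback p q).basicOpen (((pullback.fst p q).appLE U₀ _ e₀) a.1)
    rw [Scheme.basicOpen_appLE]
    exact ⟨hyW, ha⟩
  · obtain ⟨n, hn⟩ := hτ a.1 a.2
    refine ⟨n, ?_⟩
    have h2 : a.1 ^ n • τ =
        (algebraMap Γ(X, U₀) (Γ(X, U₀) ⊗[Γ(S, S₀)] C) (a.1 ^ n)) * τ := by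
      rw [Algebra.smul_def]
    rw [h2] at hn
    have h3 := congrArg (chartIso p q hS₀ hU₀ i₂ hA hB).commRingCatIsoToRingEquiv hn
    rw [map_mul, chartIso_algebraMap, map_zero, map_pow] at h3
    exact h3

/-- **from the ring-level criterion to the functions on a chart** -/
theorem idSep_chart_O
    (h : IdSep ((vanIdeal U₀ U).map (algebraMap Γ(X, U₀) (Γ(X, U₀) ⊗[Γ(S, S₀)] C)))
      (Γ(X, U₀) ⊗[Γ(S, S₀)] C)) :
    IdSep (vanIdeal ((chart p q hS₀ hU₀ i₂ hA hB) ''ᵁ ⊤) ((pullback.fst p q) ⁻¹ᵁ U))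
      Γ(pullback p q, (chart p q hS₀ hU₀ i₂ hA hB) ''ᵁ ⊤) := by
  refine IdSep.of_equiv (chartIso p q hS₀ hU₀ i₂ hA hB).commRingCatIsoToRingEquiv
    (chartIso p q hS₀ hU₀ i₂ hA hB).commRingCatIsoToRingEquiv.toAddEquiv
    (fun r n => by
      change (chartIso p q hS₀ hU₀ i₂ hA hB).commRingCatIsoToRingEquiv (r * n) = _
      rw [map_mul]
      rfl) ?_ h
  intro a' ha'
  have hle : (vanIdeal U₀ U).map (algebraMap Γ(X, U₀) (Γ(X, U₀) ⊗[Γ(S, S₀)] C)) ≤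
      (vanIdeal ((chart p q hS₀ hU₀ i₂ hA hB) ''ᵁ ⊤) ((pullback.fst p q) ⁻¹ᵁ U)).comap
        ((chartIso p q hS₀ hU₀ i₂ hA hB).commRingCatIsoToRingEquiv :
          (Γ(X, U₀) ⊗[Γ(S, S₀)] C) →+* _) := by
    rw [Ideal.map_le_iff_le_comap]
    intro a ha
    change (pullback p q).basicOpen ((chartIso p q hS₀ hU₀ i₂ hA hB).commRingCatIsoToRingEquiv
      (algebraMap Γ(X, U₀) (Γ(X, U₀) ⊗[Γ(S, S₀)] C) a)) ≤ _
    rw [chartIso_algebraMap]
    change (pullback p q).basicOpen (((pullback.fst p q).appLE U₀ _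
      (image_top_le p q hS₀ hU₀ i₂ hA hB)) a) ≤ _
    rw [Scheme.basicOpen_appLE]
    intro y hy
    exact ha hy.2
  exact hle ha'

end ChartO

section MainO

variable {X S : Scheme.{u}} (f : X ⟶ S) (U : X.Opens)

/-- the fibre condition over a field-valued point of the base, transported to a residue field of
the base ring -/
theorem fib_of_field_aux_O {K₀ : Type u} [Field K₀] (q : Spec (CommRingCat.of K₀) ⟶ S)
    (h : SchDense ((pullback.fst f q) ⁻¹ᵁ U))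
    {S₀ : S.Opens} (hS₀ : IsAffineOpen S₀) {U₀ : X.Opens} (hU₀ : IsAffineOpen U₀)
    (eU : U₀ ≤ f ⁻¹ᵁ S₀) (𝔭 : Ideal Γ(S, S₀)) [𝔭.IsPrime]
    (ev : Γ(S, S₀) ⟶ CommRingCat.of K₀) (hev : Spec.map ev ≫ hS₀.fromSpec = q)
    (φ : CommRingCat.of K₀ ⟶ CommRingCat.of 𝔭.ResidueField)
    (hφ : Spec.map (CommRingCat.ofHom (algebraMap Γ(S, S₀) 𝔭.ResidueField)) ≫ hS₀.fromSpec =
      Spec.map φ ≫ q) :
    letI := (f.appLE S₀ U₀ eU).hom.toAlgebra
    Fib Γ(S, S₀) (vanIdeal U₀ U) Γ(X, U₀) 𝔭.ResidueField := by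
  letI algAB : Algebra Γ(S, S₀) Γ(X, U₀) := (f.appLE S₀ U₀ eU).hom.toAlgebra
  have hA : CommRingCat.ofHom (algebraMap Γ(S, S₀) Γ(X, U₀)) = f.appLE S₀ U₀ eU := rfl
  have hA' := hA_spec f hS₀ hU₀ eU hA
  letI algAκ : Algebra Γ(S, S₀) K₀ := ev.hom.toAlgebra
  have hB : Spec.map (CommRingCat.ofHom (algebraMap Γ(S, S₀) K₀)) ≫
      hS₀.fromSpec = 𝟙 (Spec (CommRingCat.of K₀)) ≫ q := by
    rw [Category.id_comp]
    exact hev
  have hfibκ : Fib Γ(S, S₀) (vanIdeal U₀ U) Γ(X, U₀) K₀ :=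
    fib_of_schDense f q U hS₀ hU₀ (𝟙 (Spec (CommRingCat.of K₀))) hA' hB h
  letI : Algebra K₀ 𝔭.ResidueField := φ.hom.toAlgebra
  haveI : IsScalarTower Γ(S, S₀) K₀ 𝔭.ResidueField := by
    have h2 : Spec.map (CommRingCat.ofHom (algebraMap Γ(S, S₀) 𝔭.ResidueField)) ≫ hS₀.fromSpec =
        Spec.map (ev ≫ φ) ≫ hS₀.fromSpec := by
      rw [Spec.map_comp, Category.assoc, hev]
      exact hφ
    have h3 := Spec.map_injective ((cancel_mono hS₀.fromSpec).mp h2)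
    exact IsScalarTower.of_algebraMap_eq (fun a => congr($(h3).hom a))
  exact Fib.ascend hfibκ

/-- the fibrewise hypothesis gives the ring-level fibre condition at every prime of the base -/
theorem fib_of_fibrewise_O
    (H : ∀ s : S, SchDense ((pullback.fst f (S.fromSpecResidueField s)) ⁻¹ᵁ U))
    {S₀ : S.Opens} (hS₀ : IsAffineOpen S₀) {U₀ : X.Opens} (hU₀ : IsAffineOpen U₀)
    (eU : U₀ ≤ f ⁻¹ᵁ S₀) (𝔭 : Ideal Γ(S, S₀)) [𝔭.IsPrime] :
    letI := (f.appLE S₀ U₀ eU).hom.toAlgebra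
    Fib Γ(S, S₀) (vanIdeal U₀ U) Γ(X, U₀) 𝔭.ResidueField := by
  let q₀ : Spec (CommRingCat.of 𝔭.ResidueField) ⟶ S :=
    Spec.map (CommRingCat.ofHom (algebraMap Γ(S, S₀) 𝔭.ResidueField)) ≫ hS₀.fromSpec
  obtain ⟨s, φ, hφ⟩ : ∃ (s : S) (φ : S.residueField s ⟶ CommRingCat.of 𝔭.ResidueField),
      q₀ = Spec.map φ ≫ S.fromSpecResidueField s :=
    ⟨_, _, (Scheme.descResidueField_stalkClosedPointTo_fromSpecResidueField _ S q₀).symm⟩
  have hs : s ∈ S₀ := by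
    let z : Spec (CommRingCat.of 𝔭.ResidueField) := ⟨⊥, Ideal.isPrime_bot⟩
    have h1 : q₀ z = s := by
      rw [hφ, Scheme.Hom.comp_apply]
      exact Scheme.fromSpecResidueField_apply _ _
    have h2 : q₀ z ∈ S₀ := by
      have := Set.mem_range_self (f := hS₀.fromSpec)
        ((Spec.map (CommRingCat.ofHom (algebraMap Γ(S, S₀) 𝔭.ResidueField))) z)
      rw [hS₀.range_fromSpec] at this
      exact this
    rwa [h1] at h2
  have hev : Spec.map (S.evaluation S₀ s hs) ≫ hS₀.fromSpec = S.fromSpecResidueField s :=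
    Groth.Agent.Lib.helper3.FibreChart.SpecMap_evaluation_fromSpec hS₀ s hs
  exact fib_of_field_aux_O f U (S.fromSpecResidueField s) (H s) hS₀ hU₀ eU 𝔭
    (S.evaluation S₀ s hs) hev φ hφ

/-- **EGA IV 11.10.10 (sufficiency), structure sheaf**: for `f` flat and locally of finite
presentation, schematic density of `U` in the fibres implies schematic density of the preimage of
`U` after every base change. -/
theorem schDense_baseChange_of_fibrewise [Flat f] [LocallyOfFinitePresentation f]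
    (H : ∀ s : S, SchDense ((pullback.fst f (S.fromSpecResidueField s)) ⁻¹ᵁ U))
    {S' : Scheme.{u}} (g : S' ⟶ S) : SchDense ((pullback.fst f g) ⁻¹ᵁ U) := by
  refine schDense_of_idSep _ (fun x => ?_)
  obtain ⟨S₀, hS₀, hxS₀, -⟩ := exists_isAffineOpen_mem_and_subset
    (x := f ((pullback.fst f g) x)) (U := ⊤) (Opens.mem_top _)
  have hxS₀' : g ((pullback.snd f g) x) ∈ S₀ := by
    rw [← Scheme.Hom.comp_apply, ← pullback.condition, Scheme.Hom.comp_apply]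
    exact hxS₀
  obtain ⟨U₀, hU₀, hxU₀, eU⟩ := exists_isAffineOpen_mem_and_subset
    (x := (pullback.fst f g) x) (U := f ⁻¹ᵁ S₀) hxS₀
  obtain ⟨T, hT, hxT, eT⟩ := exists_isAffineOpen_mem_and_subset
    (x := (pullback.snd f g) x) (U := g ⁻¹ᵁ S₀) hxS₀'
  letI algAB : Algebra Γ(S, S₀) Γ(X, U₀) := (f.appLE S₀ U₀ eU).hom.toAlgebra
  letI algAC : Algebra Γ(S, S₀) Γ(S', T) := (g.appLE S₀ T eT).hom.toAlgebra
  have hA : CommRingCat.ofHom (algebraMap Γ(S, S₀) Γ(X, U₀)) = f.appLE S₀ U₀ eU := rfl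
  have hA' := hA_spec f hS₀ hU₀ eU hA
  have hB : Spec.map (CommRingCat.ofHom (algebraMap Γ(S, S₀) Γ(S', T))) ≫ hS₀.fromSpec =
      hT.fromSpec ≫ g := IsAffineOpen.SpecMap_appLE_fromSpec g hS₀ hT eT
  have hxW₀ : x ∈ (chart f g hS₀ hU₀ hT.fromSpec hA' hB) ''ᵁ ⊤ := by
    obtain ⟨z, hz⟩ := mem_range_chart f g hS₀ hU₀ hT.fromSpec hA' hB x hxU₀ (by
      rw [hT.range_fromSpec]
      exact hxT)
    exact ⟨z, trivial, hz⟩
  refine ⟨_, (isAffineOpen_top _).image_of_isOpenImmersion _, hxW₀, ?_⟩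
  refine idSep_chart_O f g U hS₀ hU₀ hT.fromSpec hA' hB ?_
  haveI : Algebra.FinitePresentation Γ(S, S₀) Γ(X, U₀) :=
    HasRingHomProperty.appLE (P := @LocallyOfFinitePresentation) f
      ‹LocallyOfFinitePresentation f› ⟨S₀, hS₀⟩ ⟨U₀, hU₀⟩ eU
  haveI : Module.Flat Γ(S, S₀) Γ(X, U₀) :=
    HasRingHomProperty.appLE (P := @Flat) f ‹Flat f› ⟨S₀, hS₀⟩ ⟨U₀, hU₀⟩ eU
  have h1 := idSep_baseChange (I := vanIdeal U₀ U) (M := Γ(X, U₀)) Γ(S', T)
    (fun 𝔭 _ => fib_of_fibrewise_O f U H hS₀ hU₀ eU 𝔭)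
  let ρ := TensorProduct.AlgebraTensorModule.rid Γ(X, U₀) (Γ(X, U₀) ⊗[Γ(S, S₀)] Γ(S', T))
      (Γ(X, U₀) ⊗[Γ(S, S₀)] Γ(S', T))
  exact IdSep.of_equiv (RingEquiv.refl _) ρ.toAddEquiv (fun r n => ρ.map_smul r n)
    (fun a ha => ha) h1

end MainO

end Groth.Agent.Lib.helper3.RestrSep
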