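import Mathlib
import Groth.Agent.Lib.Helper3.LimSchDense1
import Groth.Agent.Lib.Helper3.RestrSepO
/-!
# Schematic density of an open subscheme descends to a finite stage of a cofiltered limit
(helper3; EGA IV 8.x / 11.10, used by S5107)
-/

set_option autoImplicit false
set_option linter.style.haveILetI false
set_option linter.unusedSectionVars false
universe u
open CategoryTheory CategoryTheory.Limits AlgebraicGeometry TopologicalSpace Opposite

namespace Groth.Agent.Lib.helper3.LimSchDense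

open Groth.Agent.Lib.helper3.RestrSep

theorem app_eq_zero_of_eq_comp {X Y Z : Scheme.{u}} (f : X ⟶ Z) (f₂ : X ⟶ Y) (f₁ : Y ⟶ Z)
    (e : f = f₂ ≫ f₁) (W : Z.Opens) (t : Γ(Z, W)) (ht : f₁.app W t = 0) : f.app W t = 0 := by
  subst e
  have h : (f₂ ≫ f₁).app W t = (f₂.app (f₁ ⁻¹ᵁ W)) (f₁.app W t) := by
    rw [Scheme.Hom.comp_app]; rfl
  exact h.trans (by rw [ht]; exact map_zero _)

/-- the restriction of `f.app W t` to `f⁻¹(W ∩ U)` vanishes if `t` vanishes on `W ∩ U`. -/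
theorem res_app_eq_zero {X Z : Scheme.{u}} (f : X ⟶ Z) (W U : Z.Opens) (t : Γ(Z, W))
    (ht : Z.presheaf.map (homOfLE (inf_le_left : W ⊓ U ≤ W)).op t = 0) :
    X.presheaf.map (homOfLE (inf_le_left : f ⁻¹ᵁ W ⊓ f ⁻¹ᵁ U ≤ f ⁻¹ᵁ W)).op (f.app W t) = 0 := by
  have hnat := f.naturality (homOfLE (inf_le_left : W ⊓ U ≤ W)).op
  have h1 := congrArg (fun ψ => ψ.hom t) hnat
  simp only [CommRingCat.hom_comp, RingHom.comp_apply] at h1
  rw [ht, map_zero] at h1
  exact h1.symm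

/-- `IdSep` on the preimage of an affine open under a flat morphism killing the sections supported
off `U`. -/
theorem idSep_preimage {X Z : Scheme.{u}} (f : X ⟶ Z) [Flat f] {W : Z.Opens} (hW : IsAffineOpen W)
    (hW' : IsAffineOpen (f ⁻¹ᵁ W)) [IsNoetherianRing Γ(Z, W)] (U : Z.Opens)
    (hkill : ∀ t : Γ(Z, W), Z.presheaf.map (homOfLE (inf_le_left : W ⊓ U ≤ W)).op t = 0 →
      f.app W t = 0) :
    IdSep (vanIdeal (f ⁻¹ᵁ W) (f ⁻¹ᵁ U)) Γ(X, f ⁻¹ᵁ W) := by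
  classical
  intro c₀ m hcm
  obtain ⟨r, a, ha⟩ := Submodule.fg_iff_exists_fin_generating_family.mp
    (IsNoetherian.noetherian (vanIdeal W U))
  have haI : ∀ k, a k ∈ vanIdeal W U := fun k => by
    rw [← ha]; exact Submodule.subset_span ⟨k, rfl⟩
  have hmem : ∀ k, f.app W (a k) ∈ vanIdeal (f ⁻¹ᵁ W) (f ⁻¹ᵁ U) := by
    intro k
    change X.basicOpen (f.app W (a k)) ≤ f ⁻¹ᵁ U
    rw [← Scheme.preimage_basicOpen]
    exact f.preimage_mono (haI k)
  choose n hn using fun k => hcm _ (hmem k)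
  set N := Finset.univ.sup n with hN
  refine ⟨N, ?_⟩
  have hfl : (f.app W).hom.Flat := by
    rw [Scheme.Hom.app_eq_appLE]
    exact HasRingHomProperty.appLE (P := @Flat) f ‹Flat f› ⟨W, hW⟩ ⟨f ⁻¹ᵁ W, hW'⟩ le_rfl
  letI := (f.app W).hom.toAlgebra
  haveI : Module.Flat Γ(Z, W) Γ(X, f ⁻¹ᵁ W) := hfl
  rw [smul_eq_mul]
  refine eq_zero_of_flat a ?_ (c₀ ^ N * m) ?_
  · intro b hb
    apply hkill
    refine eq_zero_of_cover_O (fun a' : vanIdeal W U => Z.basicOpen (a' : Γ(Z, W)) ⊓ (W ⊓ U))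
      (W ⊓ U) (fun _ => inf_le_right) ?_ _ (fun a' => ?_)
    · intro y hy
      obtain ⟨i, hi⟩ := Opens.mem_iSup.mp (inf_le_iSup_vanIdeal hW U hy)
      exact Opens.mem_iSup.mpr ⟨i, hi, hy⟩
    · obtain ⟨n', hn'⟩ := exists_pow_mul_eq_zero_of_mem_span a b hb (x := a'.1)
        (by rw [Ideal.span, ha]; exact a'.2)
      have h1 := res_basicOpen_eq_zero_of_pow_mul a'.1 b n' hn'
      rw [res_res]
      have h2 : Z.basicOpen a'.1 ⊓ (W ⊓ U) ≤ Z.basicOpen a'.1 := inf_le_left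
      rw [← res_res (Z.basicOpen_le a'.1) h2, h1, map_zero]
  · intro k
    refine ⟨n k, ?_⟩
    have hk : n k ≤ N := Finset.le_sup (Finset.mem_univ k)
    obtain ⟨d, hd⟩ := Nat.exists_eq_add_of_le hk
    have h0 : (c₀ * f.app W (a k)) ^ n k * m = 0 := by
      have := hn k
      rwa [smul_eq_mul] at this
    have halg : algebraMap Γ(Z, W) Γ(X, f ⁻¹ᵁ W) (a k) = f.app W (a k) := rfl
    rw [halg, hd, pow_add]
    calc f.app W (a k) ^ n k * (c₀ ^ n k * c₀ ^ d * m)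
        = c₀ ^ d * ((c₀ * f.app W (a k)) ^ n k * m) := by rw [mul_pow]; ring
      _ = 0 := by rw [h0, mul_zero]

section Lim

variable {I : Type u} [SmallCategory I] [IsCofiltered I] (D : I ⥤ Scheme.{u}) (c : Cone D)
  (hc : IsLimit c) [∀ {i j : I} (g : i ⟶ j), IsAffineHom (D.map g)]

include hc in
/-- finitely many sections over compact opens of a stage dying in the limit die at a common
later stage. -/
theorem exists_stage_kill (i₀ : I)
    (P : Finset (Σ W : (D.obj i₀).Opens, Γ(D.obj i₀, W)))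
    (hP : ∀ p ∈ P, IsCompact (X := D.obj i₀) p.1 ∧ (c.π.app i₀).app p.1 p.2 = 0) :
    ∃ (j : I) (g : j ⟶ i₀), ∀ p ∈ P, (D.map g).app p.1 p.2 = 0 := by
  classical
  induction P using Finset.induction_on with
  | empty => exact ⟨i₀, 𝟙 i₀, by simp⟩
  | insert p P hpP ih =>
    obtain ⟨j₁, g₁, h₁⟩ := ih (fun q hq => hP q (Finset.mem_insert_of_mem hq))
    obtain ⟨hcpt, hp0⟩ := hP p (Finset.mem_insert_self p P)
    obtain ⟨j₂, g₂, h₂⟩ := exists_app_map_eq_zero_of_isLimit D c hc hcpt p.2 hp0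
    obtain ⟨k, e₁, e₂, he⟩ := IsCofiltered.cospan g₁ g₂
    refine ⟨k, e₁ ≫ g₁, ?_⟩
    intro q hq
    rcases Finset.mem_insert.mp hq with rfl | hq
    · exact app_eq_zero_of_eq_comp _ (D.map e₂) (D.map g₂) (by rw [he, D.map_comp]) _ _ h₂
    · exact app_eq_zero_of_eq_comp _ (D.map e₁) (D.map g₁) (D.map_comp _ _) _ _ (h₁ q hq)

include hc in
/-- **Schematic density descends to a stage.** -/
theorem exists_stage_schDense (i₀ : I) [AlgebraicGeometry.IsNoetherian (D.obj i₀)]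
    (hflat : ∀ (j : I) (g : j ⟶ i₀), Flat (D.map g)) (U₀ : (D.obj i₀).Opens)
    (h : SchDense ((c.π.app i₀) ⁻¹ᵁ U₀)) :
    ∃ (j : I) (g : j ⟶ i₀), SchDense ((D.map g) ⁻¹ᵁ U₀) := by
  classical
  have hW : ∀ x : D.obj i₀, ∃ W : (D.obj i₀).Opens, IsAffineOpen W ∧ x ∈ W := fun x => by
    obtain ⟨_, ⟨W, hW, rfl⟩, hxW, -⟩ :=
      (D.obj i₀).isBasis_affineOpens.exists_subset_of_mem_open (Set.mem_univ x) isOpen_univ
    exact ⟨W, hW, hxW⟩
  choose W hWaff hxW using hW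
  obtain ⟨s, hs⟩ := CompactSpace.elim_nhds_subcover (fun x => (W x : Set (D.obj i₀)))
    (fun x => (W x).2.mem_nhds (hxW x))
  let T : ∀ x, Ideal Γ(D.obj i₀, W x) := fun x =>
    RingHom.ker ((D.obj i₀).presheaf.map (homOfLE (inf_le_left : W x ⊓ U₀ ≤ W x)).op).hom
  haveI : ∀ x, IsNoetherianRing Γ(D.obj i₀, W x) := fun x =>
    IsLocallyNoetherian.component_noetherian ⟨W x, hWaff x⟩
  have hfg : ∀ x, (T x).FG := fun x => IsNoetherian.noetherian (T x)
  choose G hG using hfg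
  let P : Finset (Σ V : (D.obj i₀).Opens, Γ(D.obj i₀, V)) :=
    s.biUnion (fun x => (G x).image (fun t => ⟨W x, t⟩))
  have hP : ∀ p ∈ P, IsCompact (X := D.obj i₀) p.1 ∧ (c.π.app i₀).app p.1 p.2 = 0 := by
    intro p hp
    obtain ⟨x, hx, hp⟩ := Finset.mem_biUnion.mp hp
    obtain ⟨t, ht, rfl⟩ := Finset.mem_image.mp hp
    refine ⟨(hWaff x).isCompact, ?_⟩
    have htT : t ∈ T x := by rw [← hG x]; exact Ideal.subset_span ht
    apply h ((c.π.app i₀) ⁻¹ᵁ W x)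
    exact res_app_eq_zero _ _ _ _ (RingHom.mem_ker.mp htT)
  obtain ⟨j, g, hg⟩ := exists_stage_kill D c hc i₀ P hP
  refine ⟨j, g, ?_⟩
  have hkill : ∀ x ∈ s, ∀ t ∈ T x, (D.map g).app (W x) t = 0 := by
    intro x hx t ht
    have hle : T x ≤ RingHom.ker ((D.map g).app (W x)).hom := by
      rw [← hG x, Ideal.span_le]
      intro t' ht'
      exact hg ⟨W x, t'⟩ (Finset.mem_biUnion.mpr ⟨x, hx, Finset.mem_image.mpr ⟨t', ht', rfl⟩⟩)
    exact hle ht
  refine schDense_of_idSep _ (fun y => ?_)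
  obtain ⟨x, hx, hyx⟩ : ∃ x ∈ s, (D.map g) y ∈ W x := by
    have := hs.ge (Set.mem_univ ((D.map g) y))
    simpa using this
  have hWj : IsAffineOpen ((D.map g) ⁻¹ᵁ W x) := (hWaff x).preimage (D.map g)
  haveI := hflat j g
  exact ⟨(D.map g) ⁻¹ᵁ W x, hWj, hyx,
    idSep_preimage (D.map g) (hWaff x) hWj U₀ (fun t ht => hkill x hx t (RingHom.mem_ker.mpr ht))⟩

end Lim

end Groth.Agent.Lib.helper3.LimSchDense
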