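import Mathlib

set_option autoImplicit false
set_option linter.style.haveILetI false
set_option linter.unusedSectionVars false
universe u

namespace Groth.Agent.Lib.helper3.LocBasis

open Module PrimeSpectrum

theorem span_eq_top_iff {A : Type*} [CommRing A] (S : Submonoid A) (A' : Type*) [CommRing A']
    [Algebra A A'] [IsLocalization S A'] {M N : Type*} [AddCommGroup M] [Module A M]
    [AddCommGroup N] [Module A N] [Module A' N] [IsScalarTower A A' N] (f : M →ₗ[A] N)
    [IsLocalizedModule S f] {ι : Type*} (t : ι → M) :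
    Submodule.span A' (Set.range fun j => f (t j)) = ⊤ ↔
      ∀ x : M, ∃ r ∈ S, r • x ∈ Submodule.span A (Set.range t) := by
  have h1 : Submodule.span A' (Set.range fun j => f (t j)) =
      (Submodule.span A (Set.range t)).localized' A' S f := by
    rw [Submodule.localized'_span, ← Set.range_comp]; rfl
  rw [h1]
  constructor
  · intro h x
    have hx : f x ∈ (Submodule.span A (Set.range t)).localized' A' S f := by rw [h]; trivial
    obtain ⟨y, hy, s, hys⟩ := hx
    rw [IsLocalizedModule.mk'_eq_iff] at hys
    have h2 : f y = f ((s : A) • x) := by rw [hys, map_smul]; rfl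
    obtain ⟨u, hu⟩ := IsLocalizedModule.exists_of_eq (S := S) h2
    refine ⟨u * s, (u * s).2, ?_⟩
    have : ((u : A) * (s : A)) • x = (u : A) • y := by
      rw [mul_smul]
      exact hu.symm
    rw [this]
    exact Submodule.smul_mem _ _ hy
  · intro h
    rw [eq_top_iff]
    intro z _
    obtain ⟨⟨x, s⟩, rfl⟩ := IsLocalizedModule.mk'_surjective S f z
    obtain ⟨r, hr, hrx⟩ := h x
    refine ⟨r • x, hrx, ⟨r, hr⟩ * s, ?_⟩
    exact IsLocalizedModule.mk'_cancel_left (f := f) x ⟨r, hr⟩ s

variable {A : Type u} [CommRing A] {M : Type u} [AddCommGroup M] [Module A M]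
  [Module.Finite A M] [Module.Projective A M]

/-- from a basis of `M_g`: the rank at every point of `D(g)` and local generators. -/
theorem of_basis_away (n : ℕ) (g : A)
    (b : Module.Basis (Fin n) (Localization.Away g) (LocalizedModule (Submonoid.powers g) M))
    (p : PrimeSpectrum A) (hg : g ∉ p.asIdeal) :
    Module.rankAtStalk M p = n ∧
      ∃ t : Fin n → M, ∀ x : M, ∃ r ∈ p.asIdeal.primeCompl,
        r • x ∈ Submodule.span A (Set.range t) := by
  have hle : Submonoid.powers g ≤ p.asIdeal.primeCompl := by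
    rw [Submonoid.powers_le]; exact hg
  constructor
  · have hbc : IsBaseChange (Localization.Away g)
        (LocalizedModule.mkLinearMap (Submonoid.powers g) M) :=
      IsLocalizedModule.isBaseChange (Submonoid.powers g) _ _
    have hmem : p ∈ Set.range (PrimeSpectrum.comap (algebraMap A (Localization.Away g))) := by
      rw [PrimeSpectrum.localization_away_comap_range (Localization.Away g) g]
      exact hg
    obtain ⟨p', rfl⟩ := hmem
    rw [← Module.rankAtStalk_isBaseChange hbc p']
    haveI : Module.Free (Localization.Away g) (LocalizedModule (Submonoid.powers g) M) :=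
      Module.Free.of_basis b
    haveI : Nontrivial (Localization.Away g) := PrimeSpectrum.nonempty_iff_nontrivial.mp ⟨p'⟩
    rw [Module.rankAtStalk_eq_finrank_of_free]
    simp [Module.finrank_eq_card_basis b]
  · -- numerators of the basis elements
    have hnum : ∀ j, ∃ (m : M) (s : Submonoid.powers g),
        IsLocalizedModule.mk' (LocalizedModule.mkLinearMap (Submonoid.powers g) M) m s = b j :=
      fun j => by
        obtain ⟨⟨m, s⟩, h⟩ := IsLocalizedModule.mk'_surjective (Submonoid.powers g)
          (LocalizedModule.mkLinearMap (Submonoid.powers g) M) (b j)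
        exact ⟨m, s, h⟩
    choose m s hms using hnum
    refine ⟨m, fun x => ?_⟩
    have hspan : Submodule.span (Localization.Away g)
        (Set.range fun j => LocalizedModule.mkLinearMap (Submonoid.powers g) M (m j)) = ⊤ := by
      rw [eq_top_iff, ← b.span_eq, Submodule.span_le]
      rintro _ ⟨j, rfl⟩
      rw [← hms j]
      have h1 : IsLocalizedModule.mk' (LocalizedModule.mkLinearMap (Submonoid.powers g) M)
          (m j) (s j) = (IsLocalization.mk' (Localization.Away g) (1 : A) (s j)) •
            LocalizedModule.mkLinearMap (Submonoid.powers g) M (m j) := by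
        rw [← IsLocalizedModule.mk'_one (Submonoid.powers g), IsLocalizedModule.mk'_smul_mk',
          one_smul, mul_one]
      rw [h1]
      exact Submodule.smul_mem _ _ (Submodule.subset_span ⟨j, rfl⟩)
    obtain ⟨r, hr, hrx⟩ := (span_eq_top_iff (Submonoid.powers g) (Localization.Away g)
      (LocalizedModule.mkLinearMap (Submonoid.powers g) M) m).mp hspan x
    exact ⟨r, hle hr, hrx⟩

/-- local generation at `q` in terms of the support of the cokernel. -/
theorem notMem_support_quotient_iff {ι : Type*} (t : ι → M) (q : PrimeSpectrum A) :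
    q ∉ Module.support A (M ⧸ Submodule.span A (Set.range t)) ↔
      ∀ x : M, ∃ r ∈ q.asIdeal.primeCompl, r • x ∈ Submodule.span A (Set.range t) := by
  rw [Module.notMem_support_iff']
  constructor
  · intro h x
    obtain ⟨r, hr, hrx⟩ := h (Submodule.Quotient.mk x)
    refine ⟨r, hr, ?_⟩
    rwa [← Submodule.Quotient.mk_smul, Submodule.Quotient.mk_eq_zero] at hrx
  · intro h y
    obtain ⟨x, rfl⟩ := Submodule.Quotient.mk_surjective _ y
    obtain ⟨r, hr, hrx⟩ := h x
    refine ⟨r, hr, ?_⟩
    rwa [← Submodule.Quotient.mk_smul, Submodule.Quotient.mk_eq_zero]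

omit [Module.Projective A M] in
/-- Nakayama: generators modulo `p` generate locally at `p`. -/
theorem gen_of_nakayama {n : ℕ} (p : PrimeSpectrum A) (t₀ s : Fin n → M) (e₀ : A)
    (he₀ : e₀ ∉ p.asIdeal)
    (ht₀ : ∀ x : M, ∃ r ∈ p.asIdeal.primeCompl, r • x ∈ Submodule.span A (Set.range t₀))
    (hs : ∀ j, e₀ • t₀ j - s j ∈ (p.asIdeal • ⊤ : Submodule A M)) :
    ∀ x : M, ∃ r ∈ p.asIdeal.primeCompl, r • x ∈ Submodule.span A (Set.range s) := by
  set Ap := Localization.AtPrime p.asIdeal
  set f := LocalizedModule.mkLinearMap p.asIdeal.primeCompl M with hf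
  refine (span_eq_top_iff p.asIdeal.primeCompl Ap f s).mp ?_
  set Np := Submodule.span Ap (Set.range fun j => f (s j)) with hNp
  rw [eq_top_iff]
  have hfg : (⊤ : Submodule Ap (LocalizedModule p.asIdeal.primeCompl M)).FG :=
    Module.finite_def.mp inferInstance
  refine Submodule.le_of_le_smul_of_le_jacobson_bot hfg
    (IsLocalRing.maximalIdeal_le_jacobson (⊥ : Ideal Ap)) ?_
  set L := Np ⊔ IsLocalRing.maximalIdeal Ap • (⊤ : Submodule Ap _) with hL
  -- images of `pM`
  have hpM : ∀ w ∈ (p.asIdeal • ⊤ : Submodule A M), f w ∈ L := by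
    intro w hw
    refine Submodule.smul_induction_on hw (fun a ha y _ => ?_) (fun y z hy hz => ?_)
    · rw [map_smul, ← algebraMap_smul Ap a (f y)]
      refine Submodule.mem_sup_right (Submodule.smul_mem_smul ?_ Submodule.mem_top)
      exact (IsLocalization.AtPrime.to_map_mem_maximal_iff Ap p.asIdeal a).mpr ha
    · rw [map_add]; exact L.add_mem hy hz
  have hx : ∀ x : M, f x ∈ L := by
    intro x
    obtain ⟨r, hr, hrx⟩ := ht₀ x
    obtain ⟨c, hc⟩ := (Submodule.mem_span_range_iff_exists_fun A).mp hrx
    have hkey : (e₀ * r) • x = ∑ j, c j • s j + ∑ j, c j • (e₀ • t₀ j - s j) := by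
      rw [← Finset.sum_add_distrib, mul_smul, ← hc, Finset.smul_sum]
      refine Finset.sum_congr rfl fun j _ => ?_
      rw [← smul_add, add_sub_cancel, smul_comm]
    have hmem : f ((e₀ * r) • x) ∈ L := by
      rw [hkey, map_add]
      refine L.add_mem ?_ (hpM _ (Submodule.sum_mem _ fun j _ => Submodule.smul_mem _ _ (hs j)))
      rw [map_sum]
      refine Submodule.sum_mem _ fun j _ => ?_
      rw [map_smul, ← algebraMap_smul Ap (c j) (f (s j))]
      exact Submodule.mem_sup_left (Submodule.smul_mem _ _ (Submodule.subset_span ⟨j, rfl⟩))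
    rw [map_smul, ← algebraMap_smul Ap (e₀ * r) (f x)] at hmem
    have hunit : IsUnit (algebraMap A Ap (e₀ * r)) :=
      IsLocalization.map_units Ap ⟨e₀ * r, p.asIdeal.primeCompl.mul_mem he₀ hr⟩
    exact (Submodule.smul_mem_iff_of_isUnit L hunit).mp hmem
  intro z _
  obtain ⟨⟨x, σ⟩, rfl⟩ := IsLocalizedModule.mk'_surjective p.asIdeal.primeCompl f z
  have h1 : IsLocalizedModule.mk' f x σ = (IsLocalization.mk' Ap (1 : A) σ) • f x := by
    rw [← IsLocalizedModule.mk'_one p.asIdeal.primeCompl, IsLocalizedModule.mk'_smul_mk',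
      one_smul, mul_one]
  show IsLocalizedModule.mk' f x σ ∈ L
  rw [h1]
  exact L.smul_mem _ (hx x)

theorem main (n : ℕ) (P : Finset (PrimeSpectrum A))
    (hP : ∀ p ∈ P, ∃ g : A, g ∉ p.asIdeal ∧
      Nonempty (Module.Basis (Fin n) (Localization.Away g)
        (LocalizedModule (Submonoid.powers g) M))) :
    ∃ (s : Fin n → M) (U : Set (PrimeSpectrum A)), IsOpen U ∧ (∀ p ∈ P, p ∈ U) ∧
      ∀ q ∈ U,
        LinearIndependent (Localization.AtPrime q.asIdeal)
            (fun j => LocalizedModule.mkLinearMap q.asIdeal.primeCompl M (s j)) ∧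
          Submodule.span (Localization.AtPrime q.asIdeal)
            (Set.range fun j => LocalizedModule.mkLinearMap q.asIdeal.primeCompl M (s j)) = ⊤ := by
  classical
  -- local data
  have hdata : ∀ p : PrimeSpectrum A, ∃ t : Fin n → M, p ∈ P →
      (Module.rankAtStalk M p = n ∧ ∀ x : M, ∃ r ∈ p.asIdeal.primeCompl,
        r • x ∈ Submodule.span A (Set.range t)) := by
    intro p
    by_cases hp : p ∈ P
    · obtain ⟨g, hg, ⟨b⟩⟩ := hP p hp
      obtain ⟨h1, t, ht⟩ := of_basis_away n g b p hg
      exact ⟨t, fun _ => ⟨h1, ht⟩⟩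
    · exact ⟨fun _ => 0, fun h => (hp h).elim⟩
  choose t ht using hdata
  -- maximal elements
  set P' : Finset (PrimeSpectrum A) := P.filter fun p => Maximal (· ∈ P) p with hP'
  have hP'P : ∀ p ∈ P', p ∈ P := fun p hp => (Finset.mem_filter.mp hp).1
  have hP'max : ∀ p ∈ P', Maximal (· ∈ P) p := fun p hp => (Finset.mem_filter.mp hp).2
  -- avoidance elements
  have hav : ∀ p : PrimeSpectrum A, ∃ e : A, p ∈ P' →
      (e ∉ p.asIdeal ∧ ∀ p' ∈ P', p' ≠ p → e ∈ p'.asIdeal) := by
    intro p
    by_cases hp : p ∈ P'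
    · by_contra hcon
      push Not at hcon
      have hle : (P'.erase p).inf (fun p' => p'.asIdeal) ≤ p.asIdeal := by
        intro e he
        by_contra hep
        obtain ⟨p', hp', hne, hnot⟩ := (hcon e).2 hep
        exact hnot (by
          rw [Submodule.mem_finsetInf] at he
          exact he p' (Finset.mem_erase.mpr ⟨hne, hp'⟩))
      obtain ⟨p', hp', hle'⟩ := (Ideal.IsPrime.inf_le' p.isPrime).mp hle
      obtain ⟨hne, hp'P'⟩ := Finset.mem_erase.mp hp'
      have h1 : p' ≤ p := hle'
      have h2 : p ≤ p' := (hP'max p' hp'P').2 (hP'P p hp) h1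
      exact hne (le_antisymm h1 h2)
    · exact ⟨0, fun h => (hp h).elim⟩
  choose e he using hav
  -- the global elements
  let s : Fin n → M := fun j => ∑ p ∈ P', e p • t p j
  -- generation at the maximal elements
  have hgen : ∀ p ∈ P', ∀ x : M, ∃ r ∈ p.asIdeal.primeCompl,
      r • x ∈ Submodule.span A (Set.range s) := by
    intro p hp
    refine gen_of_nakayama p (t p) s (e p) (he p hp).1 (ht p (hP'P p hp)).2 fun j => ?_
    have hsj : s j = e p • t p j + ∑ p' ∈ P'.erase p, e p' • t p' j := by
      show ∑ p' ∈ P', e p' • t p' j = _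
      rw [← Finset.add_sum_erase P' _ hp]
    rw [hsj, sub_add_cancel_left]
    refine Submodule.neg_mem _ (Submodule.sum_mem _ fun p' hp' => ?_)
    obtain ⟨hne, hp'P'⟩ := Finset.mem_erase.mp hp'
    exact Submodule.smul_mem_smul ((he p' hp'P').2 p hp hne.symm) Submodule.mem_top
  set U : Set (PrimeSpectrum A) :=
    (Module.support A (M ⧸ Submodule.span A (Set.range s)))ᶜ ∩ {q | Module.rankAtStalk M q = n}
    with hU
  have hUopen : IsOpen U := by
    refine IsOpen.inter ?_ ?_
    · exact (Module.isClosed_support).isOpen_compl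
    · haveI : Module.FinitePresentation A M := Module.finitePresentation_of_projective A M
      exact (Module.isLocallyConstant_rankAtStalk (R := A) (M := M)).isOpen_fiber n
  have hP'U : ∀ p ∈ P', p ∈ U := fun p hp =>
    ⟨(notMem_support_quotient_iff s p).mpr (hgen p hp), (ht p (hP'P p hp)).1⟩
  refine ⟨s, U, hUopen, fun p hp => ?_, fun q hq => ?_⟩
  · obtain ⟨p', hpp', hmax⟩ := Finset.exists_le_maximal P hp
    have hp' : p' ∈ P' := Finset.mem_filter.mpr ⟨hmax.1, hmax⟩
    have hsp : p ⤳ p' := (PrimeSpectrum.le_iff_specializes p p').mp hpp'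
    exact hsp.mem_open hUopen (hP'U p' hp')
  · have hspan : Submodule.span (Localization.AtPrime q.asIdeal)
        (Set.range fun j => LocalizedModule.mkLinearMap q.asIdeal.primeCompl M (s j)) = ⊤ :=
      (span_eq_top_iff q.asIdeal.primeCompl (Localization.AtPrime q.asIdeal)
        (LocalizedModule.mkLinearMap q.asIdeal.primeCompl M) s).mpr
        ((notMem_support_quotient_iff s q).mp hq.1)
    refine ⟨?_, hspan⟩
    apply linearIndependent_of_top_le_span_of_card_eq_finrank hspan.ge
    rw [Fintype.card_fin]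
    exact hq.2.symm

end Groth.Agent.Lib.helper3.LocBasis
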