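import Mathlib
import Groth.Agent.Lib.Helper3.LocCrit6
import Groth.Agent.Lib.Helper3.ValFp3
/-!
# Local criterion over a valuation ring for finite modules (helper3)

`injective_and_flat_coker_valuation`: `A` a valuation ring, `A → S` a local homomorphism with `S`
local and essentially of finite presentation, `u : N → M` a map of *finite* `S`-modules with `M` flat
over `A`; if `u` is injective modulo `𝔪_A` then `u` is injective with `A`-flat cokernel.
(`M` is finitely presented by Raynaud–Gruson over valuation rings (`ValFp3`); `N` is replaced by a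
finitely presented cover with the same reduction modulo `𝔪_A`, using that `S/𝔪_A S` is Noetherian.)
-/

set_option autoImplicit false
set_option linter.style.haveILetI false
universe u

open TensorProduct

namespace Groth.Agent.Lib.helper3.LocCrit

open IsLocalRing

theorem span_quot_le_image {S : Type*} [CommRing S] (I : Ideal S) {F : Type*} [AddCommGroup F]
    [Module S F] (X : Set F) {y : F ⧸ (I • ⊤ : Submodule S F)}
    (hy : y ∈ Submodule.span (S ⧸ I) ((I • ⊤ : Submodule S F).mkQ '' X)) :
    ∃ x ∈ Submodule.span S X, (I • ⊤ : Submodule S F).mkQ x = y := by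
  induction hy using Submodule.span_induction with
  | mem y hy =>
    obtain ⟨x, hx, rfl⟩ := hy
    exact ⟨x, Submodule.subset_span hx, rfl⟩
  | zero => exact ⟨0, Submodule.zero_mem _, map_zero _⟩
  | add y z _ _ hy hz =>
    obtain ⟨x1, hx1, rfl⟩ := hy
    obtain ⟨x2, hx2, rfl⟩ := hz
    exact ⟨x1 + x2, Submodule.add_mem _ hx1 hx2, map_add _ _ _⟩
  | smul a y _ hy =>
    obtain ⟨x, hx, rfl⟩ := hy
    obtain ⟨s, rfl⟩ := Ideal.Quotient.mk_surjective a
    exact ⟨s • x, Submodule.smul_mem _ _ hx, rfl⟩

theorem injective_and_flat_coker_valuation {A S N M : Type u} [CommRing A] [IsDomain A]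
    [ValuationRing A] [CommRing S] [IsLocalRing S] [Algebra A S] [IsLocalHom (algebraMap A S)]
    (hS : ∃ (S₀ : Type u) (_ : CommRing S₀) (_ : Algebra A S₀) (_ : Algebra S₀ S)
      (_ : IsScalarTower A S₀ S) (T : Submonoid S₀),
      Algebra.FinitePresentation A S₀ ∧ IsLocalization T S)
    [AddCommGroup N] [Module S N] [Module.Finite S N]
    [AddCommGroup M] [Module S M] [Module A M] [IsScalarTower A S M] [Module.Finite S M]
    [Module.Flat A M] (u : N →ₗ[S] M)
    (hu : ∀ x : N, u x ∈ (maximalIdeal A).map (algebraMap A S) • (⊤ : Submodule S M) →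
      x ∈ (maximalIdeal A).map (algebraMap A S) • (⊤ : Submodule S N)) :
    Function.Injective u ∧ Module.Flat A (M ⧸ LinearMap.range u) := by
  classical
  haveI : Algebra.EssFiniteType A S := by
    obtain ⟨S₀, _, _, _, _, T, hfp, hloc⟩ := hS
    haveI : Algebra.EssFiniteType S₀ S := Algebra.EssFiniteType.of_isLocalization S T
    exact Algebra.EssFiniteType.comp A S₀ S
  haveI : Module.FinitePresentation S M :=
    Groth.Agent.Lib.helper3.ValFp.finitePresentation_of_flat_essFiniteType (A := A)
  set I := (maximalIdeal A).map (algebraMap A S) with hI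
  haveI : IsNoetherianRing (S ⧸ I) := by
    letI : Field (A ⧸ maximalIdeal A) := Ideal.Quotient.field (maximalIdeal A)
    exact Algebra.EssFiniteType.isNoetherianRing (A ⧸ maximalIdeal A) (S ⧸ I)
  obtain ⟨r, π, hπ⟩ := Module.Finite.exists_fin' S N
  set K := LinearMap.ker π with hK
  set IT : Submodule S (Fin r → S) := I • ⊤ with hIT
  haveI : IsScalarTower S (S ⧸ I) ((Fin r → S) ⧸ IT) :=
    IsScalarTower.of_algebraMap_smul (fun s q => by
      obtain ⟨m, rfl⟩ := Submodule.Quotient.mk_surjective _ q
      rfl)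
  haveI : Module.Finite (S ⧸ I) ((Fin r → S) ⧸ IT) :=
    Module.Finite.of_restrictScalars_finite S (S ⧸ I) _
  have hFG : (Submodule.span (S ⧸ I) (IT.mkQ '' (K : Set (Fin r → S)))).FG :=
    IsNoetherian.noetherian _
  obtain ⟨s', hs's, hspan⟩ := (Submodule.fg_span_iff_fg_span_finset_subset _).mp hFG
  obtain ⟨F, hFK, hFs'⟩ := Finset.subset_set_image_iff.mp hs's
  set Kα : Submodule S (Fin r → S) := Submodule.span S (F : Set (Fin r → S)) with hKα
  have hKαK : Kα ≤ K := Submodule.span_le.mpr hFK
  have hKle : K ≤ Kα ⊔ IT := by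
    intro k hk
    have h1 : IT.mkQ k ∈ Submodule.span (S ⧸ I) (IT.mkQ '' (K : Set (Fin r → S))) :=
      Submodule.subset_span ⟨k, hk, rfl⟩
    rw [hspan, ← hFs', Finset.coe_image] at h1
    obtain ⟨y, hy, hyk⟩ := span_quot_le_image I _ h1
    have h2 : k - y ∈ IT := by
      rw [← Submodule.ker_mkQ IT, LinearMap.mem_ker, map_sub, hyk, sub_self]
    have : k = y + (k - y) := by abel
    rw [this]
    exact Submodule.add_mem_sup hy h2
  haveI : Module.FinitePresentation S ((Fin r → S) ⧸ Kα) :=
    Module.finitePresentation_of_surjective Kα.mkQ (Submodule.mkQ_surjective _) (by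
      rw [Submodule.ker_mkQ]; exact Submodule.fg_span F.finite_toSet)
  let π' : ((Fin r → S) ⧸ Kα) →ₗ[S] N := Kα.liftQ π hKαK
  have hπ' : Function.Surjective π' := by
    intro y
    obtain ⟨x, rfl⟩ := hπ y
    exact ⟨Submodule.Quotient.mk x, rfl⟩
  let u' : ((Fin r → S) ⧸ Kα) →ₗ[S] M := u ∘ₗ π'
  have hu' : ∀ x', u' x' ∈ I • (⊤ : Submodule S M) →
      x' ∈ I • (⊤ : Submodule S ((Fin r → S) ⧸ Kα)) := by
    intro x' hx'
    obtain ⟨x, rfl⟩ := Submodule.Quotient.mk_surjective _ x'
    have h1 : π x ∈ I • (⊤ : Submodule S N) := hu _ hx'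
    have h2 : I • (⊤ : Submodule S N) = Submodule.map π IT := by
      rw [hIT, Submodule.map_smul'', Submodule.map_top, LinearMap.range_eq_top.mpr hπ]
    rw [h2] at h1
    obtain ⟨y, hy, hyx⟩ := h1
    have h3 : x - y ∈ K := by
      rw [hK, LinearMap.mem_ker, map_sub, hyx, sub_self]
    rw [quot_mk_mem_smul_top]
    have : x = (x - y) + y := by abel
    rw [this]
    exact Submodule.add_mem _ (hKle h3) (Submodule.mem_sup_right hy)
  obtain ⟨hinj, hflat⟩ := injective_and_flat_coker hS u' hu'
  have hrange : LinearMap.range u' = LinearMap.range u := by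
    rw [LinearMap.range_comp, LinearMap.range_eq_top.mpr hπ', Submodule.map_top]
  constructor
  · rw [injective_iff_map_eq_zero]
    intro y hy
    obtain ⟨x', rfl⟩ := hπ' y
    have : x' = 0 := hinj (by rw [map_zero]; exact hy)
    rw [this, map_zero]
  · rw [← hrange]
    exact hflat

end Groth.Agent.Lib.helper3.LocCrit
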