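import Mathlib
import Groth.Prelude.Def_FlatMod2
import Groth.Agent.Lib.Helper3.FibCritSch
import Groth.Agent.Lib.Helper8.StalkExact
import Groth.Agent.Lib.Helper25.StalkEpi
/-!
# EGA IV 11.3.7 for modules on schemes (helper3)

* `injective_and_flat_coker_iff`: ring-level equivalence (Stacks 046Y and its converse).
* `stalk_injective_and_coker_flat_iff`: scheme version.
-/

set_option autoImplicit false
set_option linter.style.haveILetI false
set_option linter.unusedSectionVars false
universe u

open CategoryTheory CategoryTheory.Limits AlgebraicGeometry TopologicalSpace Opposite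

namespace Groth.Agent.Lib.helper3.LocCritSch

open Groth.Agent.Lib.helper3.FibCritFP Groth.Agent.Lib.helper3.FibCritSch
open Groth.Agent.Lib.helper17.FlatOver7 IsLocalRing

/-- Ring-level form of EGA IV 11.3.7, both directions. -/
theorem injective_and_flat_coker_iff {R S M N C : Type u} [CommRing R] [CommRing S]
    [IsLocalRing R] [IsLocalRing S] [Algebra R S] [IsLocalHom (algebraMap R S)]
    (hS : ∃ (S₀ : Type u) (_ : CommRing S₀) (_ : Algebra R S₀) (_ : Algebra S₀ S)
      (_ : IsScalarTower R S₀ S) (T : Submonoid S₀),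
      Algebra.FinitePresentation R S₀ ∧ IsLocalization T S)
    [AddCommGroup M] [Module S M] [Module.FinitePresentation S M]
    [AddCommGroup N] [Module S N] [Module R N] [IsScalarTower R S N]
    [Module.FinitePresentation S N] [Module.Flat R N]
    [AddCommGroup C] [Module S C] [Module R C] [IsScalarTower R S C]
    (u : M →ₗ[S] N) (π : N →ₗ[S] C) (hπ : Function.Surjective π) (hex : Function.Exact u π) :
    (Function.Injective u ∧ Module.Flat R C) ↔
      ∀ x : M, u x ∈ (maximalIdeal R).map (algebraMap R S) • (⊤ : Submodule S N) →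
        x ∈ (maximalIdeal R).map (algebraMap R S) • (⊤ : Submodule S M) := by
  have hker : LinearMap.ker π = LinearMap.range u := (LinearMap.exact_iff.mp hex)
  constructor
  · rintro ⟨hinj, hflat⟩ x hx
    have hx1 : u x ∈ (maximalIdeal R) • (⊤ : Submodule R N) :=
      (LocCrit.smul_top_iff (R := R) (S := S) (maximalIdeal R) (u x)).mpr hx
    have hπx : (π.restrictScalars R) (u x) = 0 := hex.apply_apply_eq_zero x
    have h1 : Function.Injective ((maximalIdeal R).subtype.rTensor C) :=
      Module.Flat.rTensor_preserves_injective_linearMap _ Subtype.val_injective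
    have hx2 := LocCritMax.mem_smul_ker (maximalIdeal R) (π.restrictScalars R) hπ h1 hx1 hπx
    have hx3 : ∃ x', x' ∈ (maximalIdeal R).map (algebraMap R S) • (⊤ : Submodule S M) ∧
        u x' = u x := by
      refine Submodule.smul_induction_on hx2 ?_ ?_
      · intro r hr y hy
        have hy' : y ∈ LinearMap.range u := by rw [← hker]; exact hy
        obtain ⟨m₀, rfl⟩ := hy'
        refine ⟨algebraMap R S r • m₀,
          Submodule.smul_mem_smul (Ideal.mem_map_of_mem _ hr) trivial, ?_⟩
        rw [map_smul, algebraMap_smul]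
      · rintro _ _ ⟨c₁, h₁, e₁⟩ ⟨c₂, h₂, e₂⟩
        exact ⟨c₁ + c₂, Submodule.add_mem _ h₁ h₂, by rw [map_add, e₁, e₂]⟩
    obtain ⟨x', hx', hux'⟩ := hx3
    rwa [← hinj hux']
  · intro hu
    obtain ⟨hinj, hflat⟩ := LocCrit.injective_and_flat_coker hS u hu
    refine ⟨hinj, ?_⟩
    let e : (N ⧸ LinearMap.range u) ≃ₗ[S] C :=
      (Submodule.quotEquivOfEq _ _ hker.symm).trans (π.quotKerEquivOfSurjective hπ)
    exact Module.Flat.of_linearEquiv (e.restrictScalars R).symm

/-- stalks are right exact: `F'_x → F_x → (coker u)_x → 0`. -/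
theorem stalkLin_exact_cokernel {X : Scheme.{u}} {F' F : X.Modules} (u : F' ⟶ F) (x : X) :
    Function.Exact (stalkLin u x) (stalkLin (cokernel.π u) x) := by
  have w : kernel.ι (cokernel.π u) ≫ cokernel.π u = 0 := kernel.condition _
  have hex : (ShortComplex.mk (kernel.ι (cokernel.π u)) (cokernel.π u) w).Exact :=
    ShortComplex.exact_of_f_is_kernel _ (kernelIsKernel _)
  have h1 := Groth.Agent.Lib.helper8.StalkLen.stalkAdd_exact (kernel.ι (cokernel.π u))
    (cokernel.π u) w hex x
  have hfac : Abelian.factorThruImage u ≫ kernel.ι (cokernel.π u) = u := Abelian.image.fac u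
  have hsurj : Function.Surjective (stalkAdd (Abelian.factorThruImage u) x) :=
    Groth.Agent.Lib.helper25.StalkEpi.stalkAdd_surjective_of_epi _ x
  intro n
  show stalkAdd (cokernel.π u) x n = 0 ↔ n ∈ Set.range (stalkAdd u x)
  rw [h1 n]
  constructor
  · rintro ⟨k, rfl⟩
    obtain ⟨m, rfl⟩ := hsurj k
    exact ⟨m, by rw [← stalkAdd_comp, hfac]⟩
  · rintro ⟨m, rfl⟩
    exact ⟨stalkAdd (Abelian.factorThruImage u) x m, by rw [← stalkAdd_comp, hfac]⟩

/-- **EGA IV 11.3.7** for finitely presented modules on schemes. -/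
theorem stalk_injective_and_coker_flat_iff {X Y : Scheme.{u}} (f : X ⟶ Y)
    [LocallyOfFinitePresentation f] (F F' : X.Modules)
    (hF : CohB1.IsFP F) (hF' : CohB1.IsFP F') (u : F' ⟶ F) (x : X)
    (hflat : FlatMod.IsFlatOverAt f F x) :
    letI J : Ideal ↑(X.presheaf.stalk x) :=
      Ideal.map (f.stalkMap x).hom (IsLocalRing.maximalIdeal ↑(Y.presheaf.stalk (f x)))
    letI ux := (TopCat.Presheaf.stalkFunctor Ab x).map (Scheme.Modules.Hom.mapPresheaf u)
    (Function.Injective ux ∧ FlatMod.IsFlatOverAt f (cokernel u) x) ↔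
      ∀ m : ↑(F'.presheaf.stalk x),
        ux m ∈ (J • (⊤ : Submodule ↑(X.presheaf.stalk x) ↑(F.presheaf.stalk x))) →
          m ∈ (J • (⊤ : Submodule ↑(X.presheaf.stalk x) ↑(F'.presheaf.stalk x))) := by
  letI : Algebra (Y.presheaf.stalk (f x)) (X.presheaf.stalk x) := (f.stalkMap x).hom.toAlgebra
  haveI : IsLocalHom (algebraMap (Y.presheaf.stalk (f x)) (X.presheaf.stalk x)) :=
    (inferInstance : IsLocalHom (f.stalkMap x).hom)
  have hS : ∃ (S₀ : Type u) (_ : CommRing S₀) (_ : Algebra (Y.presheaf.stalk (f x)) S₀)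
      (_ : Algebra S₀ (X.presheaf.stalk x))
      (_ : IsScalarTower (Y.presheaf.stalk (f x)) S₀ (X.presheaf.stalk x)) (T : Submonoid S₀),
      Algebra.FinitePresentation (Y.presheaf.stalk (f x)) S₀ ∧
        IsLocalization T (X.presheaf.stalk x) := by
    obtain ⟨S₀, i, a, b, hab, ha, T, hT⟩ := essFP_stalkMap f x
    refine ⟨S₀, i, a.toAlgebra, b.toAlgebra, ?_, T, ha, hT⟩
    letI := a.toAlgebra
    letI := b.toAlgebra
    exact IsScalarTower.of_algebraMap_eq fun r => (RingHom.congr_fun hab r).symm
  haveI := finitePresentation_stalk F hF x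
  haveI := finitePresentation_stalk F' hF' x
  letI := FlatMod.moduleStalkOver f F x
  haveI : IsScalarTower (Y.presheaf.stalk (f x)) (X.presheaf.stalk x) (F.presheaf.stalk x) :=
    IsScalarTower.of_algebraMap_smul fun _ _ => rfl
  haveI : Module.Flat (Y.presheaf.stalk (f x)) (F.presheaf.stalk x) := hflat
  letI := FlatMod.moduleStalkOver f (cokernel u) x
  haveI : IsScalarTower (Y.presheaf.stalk (f x)) (X.presheaf.stalk x)
      ((cokernel u).presheaf.stalk x) := IsScalarTower.of_algebraMap_smul fun _ _ => rfl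
  have hπ : Function.Surjective (stalkLin (cokernel.π u) x) :=
    Groth.Agent.Lib.helper25.StalkEpi.stalkAdd_surjective_of_epi _ x
  exact injective_and_flat_coker_iff hS (stalkLin u x) (stalkLin (cokernel.π u) x) hπ
    (stalkLin_exact_cokernel u x)

end Groth.Agent.Lib.helper3.LocCritSch
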