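import Mathlib

set_option autoImplicit false
set_option linter.style.haveILetI false
set_option linter.unusedSectionVars false
universe u

namespace Groth.Agent.Lib.helper3.LocSub

variable {B : Type*} [CommRing B]

/-- the localisation of a subring `C ⊆ B` at the elements of `C` which are units of `B`, as a
subring of `B`. -/
def locSub (C : Subring B) : Subring B where
  carrier := {x | ∃ c ∈ C, ∃ d ∈ C, IsUnit d ∧ x * d = c}
  mul_mem' := by
    rintro x y ⟨c, hc, d, hd, hdu, h⟩ ⟨c', hc', d', hd', hdu', h'⟩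
    exact ⟨c * c', C.mul_mem hc hc', d * d', C.mul_mem hd hd', hdu.mul hdu', by
      rw [← h, ← h']; ring⟩
  one_mem' := ⟨1, C.one_mem, 1, C.one_mem, isUnit_one, by ring⟩
  add_mem' := by
    rintro x y ⟨c, hc, d, hd, hdu, h⟩ ⟨c', hc', d', hd', hdu', h'⟩
    exact ⟨c * d' + c' * d, C.add_mem (C.mul_mem hc hd') (C.mul_mem hc' hd), d * d',
      C.mul_mem hd hd', hdu.mul hdu', by rw [← h, ← h']; ring⟩
  zero_mem' := ⟨0, C.zero_mem, 1, C.one_mem, isUnit_one, by ring⟩
  neg_mem' := by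
    rintro x ⟨c, hc, d, hd, hdu, h⟩
    exact ⟨-c, C.neg_mem hc, d, hd, hdu, by rw [← h]; ring⟩

theorem mem_locSub {C : Subring B} {x : B} :
    x ∈ locSub C ↔ ∃ c ∈ C, ∃ d ∈ C, IsUnit d ∧ x * d = c := Iff.rfl

theorem le_locSub (C : Subring B) : C ≤ locSub C := fun c hc =>
  ⟨c, hc, 1, C.one_mem, isUnit_one, by ring⟩

theorem inv_mem_locSub {C : Subring B} {x : B} (hx : x ∈ locSub C) (hu : IsUnit x) :
    ((hu.unit⁻¹ : Bˣ) : B) ∈ locSub C := by
  obtain ⟨c, hc, d, hd, hdu, h⟩ := hx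
  have hcu : IsUnit c := by rw [← h]; exact hu.mul hdu
  refine ⟨d, hd, c, hc, hcu, ?_⟩
  rw [← h, ← mul_assoc, IsUnit.val_inv_mul, one_mul]

instance isLocalHom_subtype (C : Subring B) : IsLocalHom (locSub C).subtype := by
  refine ⟨fun x hx => ?_⟩
  have hx' : IsUnit (x : B) := hx
  refine IsUnit.of_mul_eq_one ⟨((hx'.unit⁻¹ : Bˣ) : B), inv_mem_locSub x.2 hx'⟩ ?_
  apply Subtype.ext
  show (x : B) * ((hx'.unit⁻¹ : Bˣ) : B) = 1
  exact IsUnit.mul_val_inv hx'

theorem isLocalRing_locSub [IsLocalRing B] (C : Subring B) : IsLocalRing (locSub C) :=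
  RingHom.domain_isLocalRing (locSub C).subtype

/-- essential finite type criterion for maps into `locSub C`. -/
theorem essFiniteType_of_closure {R₁ : Type*} [CommRing R₁] (C : Subring B)
    (f : R₁ →+* locSub C) (σ : Finset B) (hσ : ∀ x ∈ σ, x ∈ locSub C)
    (hC : ∀ c ∈ C, c ∈ Subring.closure (Set.range (fun r => ((f r : locSub C) : B)) ∪ σ)) :
    f.EssFiniteType := by
  classical
  letI := f.toAlgebra
  show Algebra.EssFiniteType R₁ (locSub C)
  rw [Algebra.essFiniteType_iff]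
  let σ' : Finset (locSub C) := σ.subtype (· ∈ locSub C)
  refine ⟨σ', ?_⟩
  have hmem : ∀ c (hc : c ∈ C), (⟨c, le_locSub C hc⟩ : locSub C) ∈
      Algebra.adjoin R₁ (σ' : Set (locSub C)) := by
    intro c hc
    have h1 : Subring.closure (Set.range (fun r => ((f r : locSub C) : B)) ∪ σ) ≤
        (Algebra.adjoin R₁ (σ' : Set (locSub C))).toSubring.map (locSub C).subtype := by
      rw [Subring.closure_le]
      rintro y (⟨r, rfl⟩ | hy)
      · exact ⟨f r, (Algebra.adjoin R₁ _).algebraMap_mem r, rfl⟩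
      · refine ⟨⟨y, hσ y hy⟩, Algebra.subset_adjoin ?_, rfl⟩
        rw [Finset.mem_coe, Finset.mem_subtype]
        exact hy
    obtain ⟨c', hc', hcc'⟩ := h1 (hC c hc)
    have : c' = ⟨c, le_locSub C hc⟩ := Subtype.ext hcc'
    rw [← this]; exact hc'
  rintro ⟨x, c, hc, d, hd, hdu, h⟩
  refine ⟨⟨d, le_locSub C hd⟩, hmem d hd, ?_, ?_⟩
  · refine IsUnit.of_mul_eq_one ⟨((hdu.unit⁻¹ : Bˣ) : B), inv_mem_locSub (le_locSub C hd) hdu⟩ ?_
    apply Subtype.ext
    show d * ((hdu.unit⁻¹ : Bˣ) : B) = 1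
    exact IsUnit.mul_val_inv hdu
  · have : (⟨x, c, hc, d, hd, hdu, h⟩ : locSub C) * ⟨d, le_locSub C hd⟩ =
        ⟨c, le_locSub C hc⟩ := Subtype.ext h
    rw [this]; exact hmem c hc

theorem main (R S : Type u) [CommRing R] [CommRing S] [IsLocalRing R]
    [IsLocalRing S] [Algebra R S] [IsLocalHom (algebraMap R S)] (E : Finset R) (F : Finset S) :
    ∃ (R₀ : Subring R) (S₀ : Subring S) (h : ∀ x ∈ R₀, algebraMap R S x ∈ S₀),
      (E : Set R) ⊆ R₀ ∧ (F : Set S) ⊆ S₀ ∧ ∃ (_ : IsLocalRing R₀) (_ : IsLocalRing S₀),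
        IsLocalHom R₀.subtype ∧ IsLocalHom S₀.subtype ∧
          IsLocalHom ((algebraMap R S).restrict R₀ S₀ h) ∧
          (algebraMap ℤ R₀).EssFiniteType ∧ ((algebraMap R S).restrict R₀ S₀ h).EssFiniteType := by
  set CR : Subring R := Subring.closure (E : Set R) with hCR
  set R₀ : Subring R := locSub CR with hR₀
  set CS : Subring S := Subring.closure (algebraMap R S '' (R₀ : Set R) ∪ (F : Set S)) with hCS
  set S₀ : Subring S := locSub CS with hS₀
  have h : ∀ x ∈ R₀, algebraMap R S x ∈ S₀ := fun x hx =>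
    le_locSub CS (Subring.subset_closure (Or.inl ⟨x, hx, rfl⟩))
  have hE : (E : Set R) ⊆ R₀ := fun x hx => le_locSub CR (Subring.subset_closure hx)
  have hF : (F : Set S) ⊆ S₀ := fun x hx => le_locSub CS (Subring.subset_closure (Or.inr hx))
  refine ⟨R₀, S₀, h, hE, hF, isLocalRing_locSub CR, isLocalRing_locSub CS, inferInstance,
    inferInstance, ?_, ?_, ?_⟩
  · refine ⟨fun x hx => ?_⟩
    have h1 : IsUnit (((algebraMap R S).restrict R₀ S₀ h x : S₀) : S) := hx.map S₀.subtype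
    have h2 : IsUnit (algebraMap R S (x : R)) := h1
    have h3 : IsUnit (x : R) := isUnit_of_map_unit (algebraMap R S) _ h2
    exact isUnit_of_map_unit R₀.subtype x h3
  · refine essFiniteType_of_closure CR (algebraMap ℤ R₀) E (fun x hx => hE hx) fun c hc => ?_
    exact Subring.closure_mono Set.subset_union_right hc
  · refine essFiniteType_of_closure CS ((algebraMap R S).restrict R₀ S₀ h) F
      (fun x hx => hF hx) fun c hc => ?_
    refine Subring.closure_mono (Set.union_subset_union_left _ ?_) hc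
    rintro _ ⟨x, hx, rfl⟩
    exact ⟨⟨x, hx⟩, rfl⟩

end Groth.Agent.Lib.helper3.LocSub
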