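import Mathlib
import Groth.Prelude.Def_Found
import Groth.Agent.Lib.Helper3.JacDim1
import Groth.Agent.Lib.Helper3.FTFieldRing
import Groth.Agent.Lib.Helper24.ExcLoc
/-!
# Helper library (helper3): chains of primes avoiding an element in a Noetherian local ring.

* `exists_height_one_prime_not_mem` : in a Noetherian local domain of dimension `≥ 2`, every nonzero
  element is avoided by some height-one prime (Krull's principal ideal theorem + prime avoidance);
* `exists_prime_height_add_one` : in a universally catenary Noetherian local ring `(A, m)`, for a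
  prime `p` with `ht(m/p) = a ≥ 1` and `g ∉ p` there is a prime `q ⊇ p`, `g ∉ q`, `ht(q/p) + 1 = a`
  (the punctured spectrum is "Jacobson").
-/

set_option autoImplicit false
universe u
open Function

namespace Groth.Agent.Lib.helper3.LocalChainAvoid

open Groth.Agent.Lib.helper3.DimIneq Groth.Agent.Lib.helper3.FTField Groth.Agent.Lib.helper3.JacDim

theorem exists_height_one_prime_not_mem {B : Type u} [CommRing B] [IsDomain B]
    [IsNoetherianRing B] (M : Ideal B) [M.IsPrime] (hdim : 2 ≤ M.height) (g : B) (hg : g ≠ 0) :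
    ∃ P : Ideal B, P.IsPrime ∧ P ≤ M ∧ P.height = 1 ∧ g ∉ P := by
  classical
  by_contra hcon
  push Not at hcon
  have hfin : (Ideal.span {g}).minimalPrimes.Finite :=
    Ideal.finite_minimalPrimes_of_isNoetherianRing B _
  -- every height-one prime below `M` is minimal over `(g)`
  have hmem : ∀ P : Ideal B, P.IsPrime → P ≤ M → P.height = 1 → P ∈ (Ideal.span {g}).minimalPrimes := by
    intro P hP hPM h1
    have hgP := hcon P hP hPM h1
    refine ⟨⟨hP, (Ideal.span_singleton_le_iff_mem P).mpr hgP⟩, ?_⟩
    rintro Q ⟨hQ, hgQ⟩ hQP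
    by_contra hne
    have hlt : Q < P := lt_of_le_not_ge hQP hne
    have h2 : Q.height + 1 ≤ P.height := Ideal.height_add_one_le_of_lt_of_isPrime hlt
    rw [h1] at h2
    have h3 : Q.height = 0 := by
      by_contra h0
      have h4 : 1 ≤ Q.height := Order.one_le_iff_pos.mpr (pos_iff_ne_zero.mpr h0)
      have h5 : (1 : ℕ∞) + 1 ≤ 1 := (add_le_add_left h4 1).trans h2
      exact absurd h5 (by decide)
    rw [Ideal.height_eq_zero_iff_eq_bot] at h3
    apply hg
    have : g ∈ Q := (Ideal.span_singleton_le_iff_mem Q).mp hgQ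
    rw [h3] at this
    exact this
  -- `M` is covered by the minimal primes over `(g)`
  have hcover : (M : Set B) ⊆ ⋃ P ∈ (hfin.toFinset : Set (Ideal B)), (P : Set B) := by
    intro x hx
    by_cases hx0 : x = 0
    · -- choose some nonzero element of `M`
      have hMne : M ≠ ⊥ := by
        intro h
        rw [h, Ideal.height_bot] at hdim
        exact absurd hdim (by decide)
      obtain ⟨y, hyM, hy0⟩ := Submodule.exists_mem_ne_zero_of_ne_bot hMne
      obtain ⟨P, hPmin, hPle⟩ := Ideal.exists_minimalPrimes_le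
        (show Ideal.span {y} ≤ M from (Ideal.span_singleton_le_iff_mem M).mpr hyM)
      haveI := hPmin.1.1
      have hh : P.height ≤ 1 := Ideal.height_le_one_of_isPrincipal_of_mem_minimalPrimes _ P hPmin
      have hne : P.height ≠ 0 := by
        rw [Ne, Ideal.height_eq_zero_iff_eq_bot]
        intro h
        apply hy0
        have : y ∈ P := (Ideal.span_singleton_le_iff_mem P).mp hPmin.1.2
        rw [h] at this; exact this
      have h1 : P.height = 1 := le_antisymm hh (Order.one_le_iff_pos.mpr (pos_iff_ne_zero.mpr hne))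
      simp only [Set.mem_iUnion]
      refine ⟨P, ?_, ?_⟩
      · simpa using hmem P hPmin.1.1 hPle h1
      · rw [hx0]; exact P.zero_mem
    · obtain ⟨P, hPmin, hPle⟩ := Ideal.exists_minimalPrimes_le
        (show Ideal.span {x} ≤ M from (Ideal.span_singleton_le_iff_mem M).mpr hx)
      haveI := hPmin.1.1
      have hh : P.height ≤ 1 := Ideal.height_le_one_of_isPrincipal_of_mem_minimalPrimes _ P hPmin
      have hxP : x ∈ P := (Ideal.span_singleton_le_iff_mem P).mp hPmin.1.2
      have hne : P.height ≠ 0 := by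
        rw [Ne, Ideal.height_eq_zero_iff_eq_bot]
        intro h
        apply hx0
        rw [h] at hxP; exact hxP
      have h1 : P.height = 1 := le_antisymm hh (Order.one_le_iff_pos.mpr (pos_iff_ne_zero.mpr hne))
      simp only [Set.mem_iUnion]
      exact ⟨P, by simpa using hmem P hPmin.1.1 hPle h1, hxP⟩
  have hprime : ∀ i ∈ hfin.toFinset, i ≠ (⊥ : Ideal B) → i ≠ (⊥ : Ideal B) → (id i : Ideal B).IsPrime := by
    intro i hi _ _
    have : i ∈ (Ideal.span {g}).minimalPrimes := by simpa using hi
    exact this.1.1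
  obtain ⟨P, hP, hMP⟩ := (Ideal.subset_union_prime (f := fun i : Ideal B => i) ⊥ ⊥ hprime).mp hcover
  have hPmin : P ∈ (Ideal.span {g}).minimalPrimes := by simpa using hP
  haveI := hPmin.1.1
  have hh : P.height ≤ 1 := Ideal.height_le_one_of_isPrincipal_of_mem_minimalPrimes _ P hPmin
  have : M.height ≤ 1 := (Ideal.height_mono hMP).trans hh
  have h21 : (2 : ℕ∞) ≤ 1 := hdim.trans this
  exact absurd h21 (by decide)


theorem uc_atPrime {A : Type u} [CommRing A] [IsNoetherianRing A]
    (hA : CAlg.IsUniversallyCatenary A) (q : Ideal A) [q.IsPrime] :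
    CAlg.IsUniversallyCatenary (Localization.AtPrime q) :=
  Groth.Agent.Lib.Helper24.ExcLoc.isUniversallyCatenary_localization A q.primeCompl
    (Localization.AtPrime q) hA

theorem exists_prime_height_add_one {A : Type u} [CommRing A] [IsNoetherianRing A]
    (hA : CAlg.IsUniversallyCatenary A) (m : Ideal A) [m.IsPrime] (g : A) :
    ∀ (a : ℕ) (p : Ideal A) [p.IsPrime], p ≤ m → g ∉ p →
      (m.map (Ideal.Quotient.mk p)).height = ((a + 1 : ℕ) : ℕ∞) →
      ∃ q : Ideal A, q.IsPrime ∧ p ≤ q ∧ q ≤ m ∧ g ∉ q ∧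
        (q.map (Ideal.Quotient.mk p)).height = (a : ℕ∞) := by
  intro a
  induction a with
  | zero =>
    intro p hp hpm hgp _
    haveI : IsDomain (A ⧸ p) := Ideal.Quotient.isDomain p
    refine ⟨p, hp, le_rfl, hpm, hgp, ?_⟩
    rw [Ideal.map_quotient_self, Ideal.height_bot]
    rfl
  | succ a ih =>
    intro p hp hpm hgp hht
    haveI : IsDomain (A ⧸ p) := Ideal.Quotient.isDomain p
    have hs : Surjective (Ideal.Quotient.mk p) := Ideal.Quotient.mk_surjective
    haveI hMp : (m.map (Ideal.Quotient.mk p)).IsPrime := map_mk_isPrime p m hpm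
    have hdim : 2 ≤ (m.map (Ideal.Quotient.mk p)).height := by
      rw [hht]
      exact_mod_cast (by omega : 2 ≤ a + 1 + 1)
    have hg0 : Ideal.Quotient.mk p g ≠ 0 := by
      rw [Ne, Ideal.Quotient.eq_zero_iff_mem]; exact hgp
    obtain ⟨P, hP, hPM, hP1, hgP⟩ :=
      exists_height_one_prime_not_mem (m.map (Ideal.Quotient.mk p)) hdim _ hg0
    set p1 := P.comap (Ideal.Quotient.mk p) with hp1
    haveI hp1p : p1.IsPrime := Ideal.comap_isPrime _ P
    have hpp1 : p ≤ p1 := by
      intro x hx
      rw [hp1, Ideal.mem_comap, Ideal.Quotient.eq_zero_iff_mem.mpr hx]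
      exact P.zero_mem
    have hp1m : p1 ≤ m := by
      have h1 : p1 ≤ (m.map (Ideal.Quotient.mk p)).comap (Ideal.Quotient.mk p) :=
        Ideal.comap_mono hPM
      rwa [comap_map_mk p m hpm] at h1
    have hgp1 : g ∉ p1 := hgP
    have hmap : p1.map (Ideal.Quotient.mk p) = P := Ideal.map_comap_of_surjective _ hs P
    have h11 : (p1.map (Ideal.Quotient.mk p)).height = 1 := by rw [hmap]; exact hP1
    have hadd1 := height_map_add p p1 m hpp1 hp1m (uc_atPrime hA m)
    rw [hht, h11] at hadd1
    haveI := map_mk_isPrime p1 m hp1m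
    obtain ⟨r, hr⟩ := ENat.ne_top_iff_exists.mp (Ideal.height_ne_top_of_isPrime
      (I := m.map (Ideal.Quotient.mk p1)))
    have hr' : r = a + 1 := by
      rw [← hr] at hadd1
      have : a + 1 + 1 = r + 1 := by exact_mod_cast hadd1
      omega
    obtain ⟨q, hq, hp1q, hqm, hgq, hqh⟩ := ih p1 hp1m hgp1 (by rw [← hr, hr'])
    haveI := hq
    refine ⟨q, hq, hpp1.trans hp1q, hqm, hgq, ?_⟩
    have hadd2 := height_map_add p p1 q hpp1 hp1q (uc_atPrime hA q)
    rw [hadd2, hqh, h11]
    push_cast
    rfl

end Groth.Agent.Lib.helper3.LocalChainAvoid
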