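import Mathlib
import Groth.Agent.Lib.Helper3.JacDim2
import Groth.Agent.Lib.Helper3.JacDim6
import Groth.Agent.Lib.Helper3.DimFormulaSch
import Groth.Agent.Lib.Helper3.DimIneqSch2
import Groth.Agent.Lib.Helper3.FTFieldRing
/-!
# Helper library (helper3): codimension between two primes of a prime spectrum, the dimension of
the closure of a point as a supremum of codimensions, and the dimension formula in intrinsic form.
-/

set_option autoImplicit false
universe u
open CategoryTheory AlgebraicGeometry Function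

namespace Groth.Agent.Lib.helper3.JacDim

open Groth.Agent.Lib.helper3.DimIneq

theorem dim_between_spec {R : Type u} [CommRing R] (P Q : PrimeSpectrum R) (hPQ : P ≤ Q) :
    topologicalKrullDim ↥{w : PrimeSpectrum R | P ⤳ w ∧ w ⤳ Q} =
      (((Q.asIdeal.map (Ideal.Quotient.mk P.asIdeal)).height : ℕ∞) : WithBot ℕ∞) := by
  classical
  haveI : QuasiSober ↥{w : PrimeSpectrum R | P ⤳ w ∧ w ⤳ Q} := quasiSober_between P Q
  let e := Ideal.primeSpectrumQuotientOrderIsoZeroLocus P.asIdeal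
  have hz : ∀ t : ↥{w : PrimeSpectrum R | P ⤳ w ∧ w ⤳ Q},
      t.1 ∈ PrimeSpectrum.zeroLocus (P.asIdeal : Set R) := fun t => by
    rw [PrimeSpectrum.mem_zeroLocus]
    exact (PrimeSpectrum.le_iff_specializes _ _).mpr t.2.1
  have hbz : Q ∈ PrimeSpectrum.zeroLocus (P.asIdeal : Set R) := by
    rw [PrimeSpectrum.mem_zeroLocus]; exact hPQ
  set x : PrimeSpectrum (R ⧸ P.asIdeal) := e.symm ⟨Q, hbz⟩ with hx
  have hxI : x.asIdeal = Q.asIdeal.map (Ideal.Quotient.mk P.asIdeal) := rfl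
  rw [Groth.Agent.Lib.helper11.SpecDim.topologicalKrullDim_eq_krullDim]
  have hheight : (Q.asIdeal.map (Ideal.Quotient.mk P.asIdeal)).height = Order.height x := by
    rw [← hxI]; exact PrimeSpectrum.height_eq_orderHeight x
  rw [hheight, Order.height_eq_krullDim_Iic]
  letI : Preorder ↥{w : PrimeSpectrum R | P ⤳ w ∧ w ⤳ Q} := specializationPreorder _
  have h1 : Order.krullDim ↥{w : PrimeSpectrum R | P ⤳ w ∧ w ⤳ Q} =
      Order.krullDim (↥{w : PrimeSpectrum R | P ⤳ w ∧ w ⤳ Q})ᵒᵈ := Order.krullDim_orderDual.symm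
  have hex : e x = ⟨Q, hbz⟩ := e.apply_symm_apply _
  refine h1.trans (le_antisymm ?_ ?_)
  · let φ1 : (↥{w : PrimeSpectrum R | P ⤳ w ∧ w ⤳ Q})ᵒᵈ → Set.Iic x := fun t =>
      ⟨e.symm ⟨(OrderDual.ofDual t).1, hz _⟩, by
        change e.symm _ ≤ e.symm _
        rw [e.symm.le_iff_le]
        exact (PrimeSpectrum.le_iff_specializes _ _).mpr (OrderDual.ofDual t).2.2⟩
    refine Order.krullDim_le_of_strictMono φ1 ?_
    intro t t' htt'
    have h2 : (OrderDual.ofDual t) ⤳ (OrderDual.ofDual t') ∧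
        ¬ (OrderDual.ofDual t') ⤳ (OrderDual.ofDual t) := htt'
    rw [subtype_specializes_iff, subtype_specializes_iff] at h2
    have h3 : (OrderDual.ofDual t).1 < (OrderDual.ofDual t').1 := by
      refine lt_of_le_not_ge ?_ ?_
      · exact (PrimeSpectrum.le_iff_specializes _ _).mpr h2.1
      · intro h4
        exact h2.2 ((PrimeSpectrum.le_iff_specializes _ _).mp h4)
    change e.symm _ < e.symm _
    exact e.symm.strictMono (Subtype.mk_lt_mk.mpr h3)
  · have hptG : ∀ y : Set.Iic x, (e y.1).1 ∈ {w : PrimeSpectrum R | P ⤳ w ∧ w ⤳ Q} := by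
      intro y
      refine ⟨?_, ?_⟩
      · apply (PrimeSpectrum.le_iff_specializes _ _).mp
        have := (e y.1).2
        rw [PrimeSpectrum.mem_zeroLocus] at this
        exact this
      · apply (PrimeSpectrum.le_iff_specializes _ _).mp
        have h5 : e y.1 ≤ e x := e.monotone y.2
        rw [hex] at h5
        exact h5
    let φ2 : Set.Iic x → (↥{w : PrimeSpectrum R | P ⤳ w ∧ w ⤳ Q})ᵒᵈ := fun y =>
      OrderDual.toDual ⟨(e y.1).1, hptG y⟩
    refine Order.krullDim_le_of_strictMono φ2 ?_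
    intro y y' hyy'
    have h6 : (e y.1).1 < (e y'.1).1 := e.strictMono hyy'
    change (⟨(e y.1).1, hptG y⟩ : ↥{w : PrimeSpectrum R | P ⤳ w ∧ w ⤳ Q}) ⤳ ⟨(e y'.1).1, hptG y'⟩ ∧
      ¬ (⟨(e y'.1).1, hptG y'⟩ : ↥{w : PrimeSpectrum R | P ⤳ w ∧ w ⤳ Q}) ⤳ ⟨(e y.1).1, hptG y⟩
    rw [subtype_specializes_iff, subtype_specializes_iff]
    refine ⟨(PrimeSpectrum.le_iff_specializes _ _).mp h6.le, fun h8 => ?_⟩
    have := (PrimeSpectrum.le_iff_specializes _ _).mpr h8
    exact absurd h6 (not_lt_of_ge this)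

theorem dim_closure_le' {X : Type*} [TopologicalSpace X] [QuasiSober X] [T0Space X] (ξ : X)
    (N : WithBot ℕ∞)
    (h : ∀ z : X, ξ ⤳ z → topologicalKrullDim ↥{w : X | ξ ⤳ w ∧ w ⤳ z} ≤ N) :
    topologicalKrullDim ↥(closure ({ξ} : Set X)) ≤ N := by
  haveI : QuasiSober ↥(closure ({ξ} : Set X)) :=
    (isClosed_closure.isClosedEmbedding_subtypeVal).quasiSober
  apply dim_le_of_forall_ltSeries
  intro l
  have hξh : ξ ⤳ l.head.1 := specializes_iff_mem_closure.mpr l.head.2
  haveI := quasiSober_between ξ l.head.1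
  refine le_trans ?_ (h l.head.1 hξh)
  exact length_le_dim_of_forall_mem l (fun i =>
    ⟨specializes_iff_mem_closure.mpr (l i).2, ltSeries_specializes_head l i⟩)

/-- the dimension formula between `x ⤳ z` in intrinsic form. -/
theorem cd_formula {X S : Scheme.{u}} [IsLocallyNoetherian S] (f : X ⟶ S) [LocallyOfFiniteType f]
    (x z : X) (hxz : x ⤳ z) (huc : CAlg.IsUniversallyCatenary (S.presheaf.stalk (f z)))
    (nx nz : ℕ) (hnx : td (f.residueFieldMap x).hom = nx) (hnz : td (f.residueFieldMap z).hom = nz) :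
    ∃ c cS : ℕ, topologicalKrullDim ↥{w : X | x ⤳ w ∧ w ⤳ z} = (c : WithBot ℕ∞) ∧
      topologicalKrullDim ↥{w : S | f x ⤳ w ∧ w ⤳ f z} = (cS : WithBot ℕ∞) ∧
      c + nz = cS + nx := by
  haveI : IsLocallyNoetherian X := LocallyOfFiniteType.isLocallyNoetherian f
  obtain ⟨V, hV, hsV, -⟩ := exists_isAffineOpen_mem_and_subset (x := f z) (U := ⊤) trivial
  obtain ⟨U, hU, hzU, hUV⟩ := exists_isAffineOpen_mem_and_subset (x := z) (U := f ⁻¹ᵁ V) hsV
  have hxU : x ∈ U := hxz.mem_open U.isOpen hzU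
  haveI : IsNoetherianRing Γ(X, U) := IsLocallyNoetherian.component_noetherian ⟨U, hU⟩
  haveI : IsNoetherianRing Γ(S, V) := IsLocallyNoetherian.component_noetherian ⟨V, hV⟩
  have hle := (specializes_iff_primeIdealOf_le hU x z hxU hzU).mp hxz
  have hfs : f x ⤳ f z := hxz.map f.continuous
  have hleS := (specializes_iff_primeIdealOf_le hV (f x) (f z) (hUV hxU) (hUV hzU)).mp hfs
  have key := dimension_formula_specializes f hV hU hUV x z hxU hzU hle huc
  have d1 := dim_between_eq_height hU x z hxU hzU hxz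
  have d2 := dim_between_eq_height hV (f x) (f z) (hUV hxU) (hUV hzU) hfs
  haveI := Groth.Agent.Lib.helper3.FTField.map_mk_isPrime _ _ hle
  haveI := Groth.Agent.Lib.helper3.FTField.map_mk_isPrime _ _ hleS
  obtain ⟨c, hc⟩ := ENat.ne_top_iff_exists.mp (Ideal.height_ne_top_of_isPrime
    (I := (hU.primeIdealOf ⟨z, hzU⟩).asIdeal.map
      (Ideal.Quotient.mk (hU.primeIdealOf ⟨x, hxU⟩).asIdeal)))
  obtain ⟨cS, hcS⟩ := ENat.ne_top_iff_exists.mp (Ideal.height_ne_top_of_isPrime
    (I := (hV.primeIdealOf ⟨f z, hUV hzU⟩).asIdeal.map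
      (Ideal.Quotient.mk (hV.primeIdealOf ⟨f x, hUV hxU⟩).asIdeal)))
  refine ⟨c, cS, ?_, ?_, ?_⟩
  · rw [d1, ← hc]; rfl
  · rw [d2, ← hcS]; rfl
  · rw [hnx, hnz, ← hc, ← hcS] at key
    have : ((c + nz : ℕ) : Cardinal.{u}) = ((cS + nx : ℕ) : Cardinal.{u}) := by
      push_cast
      simpa using key
    exact_mod_cast this

end Groth.Agent.Lib.helper3.JacDim
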