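import Mathlib
import Groth.Agent.Lib.Helper3.SpecBetween
import Groth.Agent.Lib.Helper3.LocalChainAvoid
import Groth.Agent.Lib.Helper3.JacDim5
import Groth.Agent.Lib.Helper3.ConsNhds
import Groth.Agent.Lib.Helper3.QuasiSectionDed
/-!
# Helper library (helper3): dimension of the closure of a point of a scheme of finite type over a
universally catenary Noetherian local ring (EGA IV 5.6.x / SGA 4 XIV).
-/

set_option autoImplicit false
universe u
open CategoryTheory AlgebraicGeometry Function TopologicalSpace Topology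

namespace Groth.Agent.Lib.helper3.LocalBaseDim

open Groth.Agent.Lib.helper3.DimIneq Groth.Agent.Lib.helper3.FTField Groth.Agent.Lib.helper3.JacDim
  Groth.Agent.Lib.helper3.LocalChainAvoid Groth.Agent.Lib.helper3.ConsNhds

theorem uc_stalk_Spec (A : Type u) [CommRing A] [IsNoetherianRing A]
    (hA : CAlg.IsUniversallyCatenary A) (s : Spec (CommRingCat.of A)) :
    CAlg.IsUniversallyCatenary ((Spec (CommRingCat.of A)).presheaf.stalk s) := by
  letI k : Algebra A ((Spec (CommRingCat.of A)).presheaf.stalk s) :=
    StructureSheaf.stalkAlgebra A s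
  haveI : IsLocalization.AtPrime ((Spec (CommRingCat.of A)).presheaf.stalk s) s.asIdeal :=
    StructureSheaf.IsLocalization.to_stalk A s
  exact Groth.Agent.Lib.Helper24.ExcLoc.isUniversallyCatenary_localization A s.asIdeal.primeCompl
    _ hA

theorem height_maximal_map_eq (A : Type u) [CommRing A] [IsLocalRing A] (p : Ideal A) [p.IsPrime] :
    (((IsLocalRing.maximalIdeal A).map (Ideal.Quotient.mk p)).height : WithBot ℕ∞) =
      ringKrullDim (A ⧸ p) := by
  haveI : Nontrivial (A ⧸ p) := Ideal.Quotient.nontrivial_iff.mpr (Ideal.IsPrime.ne_top inferInstance)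
  haveI : IsLocalRing (A ⧸ p) :=
    IsLocalRing.of_surjective' (Ideal.Quotient.mk p) Ideal.Quotient.mk_surjective
  have hle : p ≤ IsLocalRing.maximalIdeal A := IsLocalRing.le_maximalIdeal (Ideal.IsPrime.ne_top inferInstance)
  haveI hpr := map_mk_isPrime p (IsLocalRing.maximalIdeal A) hle
  have hmax : ((IsLocalRing.maximalIdeal A).map (Ideal.Quotient.mk p)).IsMaximal := by
    rcases Ideal.map_eq_top_or_isMaximal_of_surjective (Ideal.Quotient.mk p)
      Ideal.Quotient.mk_surjective (IsLocalRing.maximalIdeal.isMaximal A) with h | h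
    · exact absurd h hpr.ne_top
    · exact h
  rw [IsLocalRing.eq_maximalIdeal hmax]
  exact IsLocalRing.maximalIdeal_height_eq_ringKrullDim


section main

variable (A : Type u) [CommRing A] [IsNoetherianRing A] [IsLocalRing A]
  (hA : CAlg.IsUniversallyCatenary A) {X : Scheme.{u}} (f : X ⟶ Spec (CommRingCat.of A))
  [LocallyOfFiniteType f]

omit [IsNoetherianRing A] [IsLocalRing A] in
/-- codimension in `Spec A` between two points. -/
theorem cdS_eq (P Q : Spec (CommRingCat.of A)) (h : P ⤳ Q) :
    topologicalKrullDim ↥{w : Spec (CommRingCat.of A) | P ⤳ w ∧ w ⤳ Q} =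
      (((Q.asIdeal.map (Ideal.Quotient.mk P.asIdeal)).height : ℕ∞) : WithBot ℕ∞) :=
  dim_between_spec (R := A) P Q ((PrimeSpectrum.le_iff_specializes _ _).mpr h)

include hA in
omit [IsLocalRing A] in
/-- the key relation for a specialization `z` of `x`. -/
theorem key_rel (x z : X) (hxz : x ⤳ z) (b nz : ℕ) (hb : td (f.residueFieldMap x).hom = b)
    (hnz : td (f.residueFieldMap z).hom = nz) :
    ∃ c cS : ℕ, topologicalKrullDim ↥{w : X | x ⤳ w ∧ w ⤳ z} = (c : WithBot ℕ∞) ∧
      (((f z).asIdeal.map (Ideal.Quotient.mk (f x).asIdeal)).height = (cS : ℕ∞)) ∧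
      c + nz = cS + b := by
  obtain ⟨c, cS, h1, h2, h3⟩ := cd_formula f x z hxz (uc_stalk_Spec A hA (f z)) b nz hb hnz
  refine ⟨c, cS, h1, ?_, h3⟩
  rw [cdS_eq A (f x) (f z) (hxz.map f.continuous)] at h2
  exact_mod_cast h2

omit [IsNoetherianRing A] [IsLocalRing A] in
theorem height_le_of_le (p s t : Ideal A) [p.IsPrime] [s.IsPrime] [t.IsPrime] (hst : s ≤ t) :
    (s.map (Ideal.Quotient.mk p)).height ≤ (t.map (Ideal.Quotient.mk p)).height :=
  Ideal.height_mono (Ideal.map_mono hst)

omit [IsNoetherianRing A] [IsLocalRing A] in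
theorem height_add_one_le_of_lt (p s t : Ideal A) [p.IsPrime] [s.IsPrime] [t.IsPrime]
    (hps : p ≤ s) (hst : s < t) :
    (s.map (Ideal.Quotient.mk p)).height + 1 ≤ (t.map (Ideal.Quotient.mk p)).height := by
  haveI := map_mk_isPrime p s hps
  haveI := map_mk_isPrime p t (hps.trans hst.le)
  apply Ideal.height_add_one_le_of_lt_of_isPrime
  refine lt_of_le_of_ne (Ideal.map_mono hst.le) ?_
  intro heq
  have h1 := congrArg (Ideal.comap (Ideal.Quotient.mk p)) heq
  rw [comap_map_mk p s hps, comap_map_mk p t (hps.trans hst.le)] at h1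
  exact hst.ne h1

include hA in
theorem main [QuasiCompact f] (x : X) (a b d : ℕ)
    (ha : ringKrullDim (A ⧸ (f.base x).asIdeal) = a)
    (hb : letI := (f.residueFieldMap x).hom.toAlgebra;
      Algebra.trdeg ((Spec (CommRingCat.of A)).residueField (f.base x)) (X.residueField x) = b)
    (hd : topologicalKrullDim ↥(closure ({x} : Set X)) = d) :
    ((closure ({x} : Set X) ∩ f.base ⁻¹' {((IsLocalRing.closedPoint A : PrimeSpectrum A) :
        ↥(Spec (CommRingCat.of A)))}).Nonempty → d = a + b) ∧
    (closure ({x} : Set X) ∩ f.base ⁻¹' {((IsLocalRing.closedPoint A : PrimeSpectrum A) :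
        ↥(Spec (CommRingCat.of A)))} = ∅ → d + 1 = a + b) := by
  classical
  haveI : IsLocallyNoetherian X := LocallyOfFiniteType.isLocallyNoetherian f
  have hb' : td (f.residueFieldMap x).hom = b := hb
  set m : Spec (CommRingCat.of A) := (IsLocalRing.closedPoint A : PrimeSpectrum A) with hm
  have hmI : m.asIdeal = IsLocalRing.maximalIdeal A := rfl
  haveI hpprime : (f x).asIdeal.IsPrime := (f x).isPrime
  -- `a` as a height
  have hA' : ((IsLocalRing.maximalIdeal A).map (Ideal.Quotient.mk (f x).asIdeal)).height = (a : ℕ∞) := by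
    have h1 := height_maximal_map_eq A (f x).asIdeal
    rw [ha] at h1
    exact_mod_cast h1
  have hle_m : ∀ s : Spec (CommRingCat.of A), s.asIdeal ≤ IsLocalRing.maximalIdeal A := fun s =>
    IsLocalRing.le_maximalIdeal s.isPrime.ne_top
  -- bounds for every specialization of x
  have hub : ∀ z : X, x ⤳ z → ∀ c : ℕ,
      topologicalKrullDim ↥{w : X | x ⤳ w ∧ w ⤳ z} = (c : WithBot ℕ∞) →
      c ≤ a + b ∧ (f z ≠ m → c + 1 ≤ a + b) := by
    intro z hxz c hc
    obtain ⟨nz, hnz⟩ := exists_nat_td_residueFieldMap f z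
    obtain ⟨c', cS, h1, h2, h3⟩ := key_rel A hA f x z hxz b nz hb' hnz
    have hcc : c = c' := by
      have := hc.symm.trans h1
      exact_mod_cast this
    subst hcc
    haveI := (f z).isPrime
    haveI := IsLocalRing.maximalIdeal.isMaximal A
    have hyz : (f x).asIdeal ≤ (f z).asIdeal :=
      (PrimeSpectrum.le_iff_specializes _ _).mpr (hxz.map f.continuous)
    constructor
    · have h4 := height_le_of_le A (f x).asIdeal (f z).asIdeal (IsLocalRing.maximalIdeal A) (hle_m (f z))
      rw [h2, hA'] at h4
      have : cS ≤ a := by exact_mod_cast h4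
      omega
    · intro hne
      have hlt : (f z).asIdeal < IsLocalRing.maximalIdeal A := by
        refine lt_of_le_of_ne (hle_m (f z)) ?_
        intro heq
        apply hne
        apply PrimeSpectrum.ext
        rw [hmI]; exact heq
      have h4 := height_add_one_le_of_lt A (f x).asIdeal (f z).asIdeal (IsLocalRing.maximalIdeal A)
        hyz hlt
      rw [h2, hA'] at h4
      have : cS + 1 ≤ a := by exact_mod_cast h4
      omega
  -- a specialization closed in its fibre computes the codimension
  have hlb : ∀ z0 : X, x ⤳ z0 → ∀ cS : ℕ,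
      ((f z0).asIdeal.map (Ideal.Quotient.mk (f x).asIdeal)).height = (cS : ℕ∞) →
      ((cS + b : ℕ) : WithBot ℕ∞) ≤ topologicalKrullDim ↥(closure ({x} : Set X)) := by
    intro z0 hxz0 cS hcS
    obtain ⟨z, hz0z, hfz, hcl⟩ := Groth.Agent.Lib.helper3.QuasiSection.exists_closed_in_fibre f z0
    have hxz : x ⤳ z := hxz0.trans hz0z
    have htd : td (f.residueFieldMap z).hom = ((0 : ℕ) : Cardinal.{u}) := by
      rw [Groth.Agent.Lib.helper3.QuasiSection.td_eq_zero_of_closed_in_fibre f z
        (fun x' hx' hsp => hcl x' (hx'.trans hfz) hsp)]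
      simp
    obtain ⟨c, cS', h1, h2, h3⟩ := key_rel A hA f x z hxz b 0 hb' htd
    have hfz' : f z = f z0 := hfz
    rw [hfz', hcS] at h2
    have hcs : cS = cS' := by exact_mod_cast h2
    have hc : c = cS + b := by omega
    rw [← hc, ← h1]
    exact dim_between_le_dim_closure x z
  constructor
  · rintro ⟨z0, hz0x, hz0m⟩
    have hxz0 : x ⤳ z0 := specializes_iff_mem_closure.mpr hz0x
    have hfz0 : f z0 = m := hz0m
    have h1 := hlb z0 hxz0 a (by rw [hfz0, hmI]; exact hA')
    rw [hd] at h1
    have h2 : topologicalKrullDim ↥(closure ({x} : Set X)) ≤ ((a + b : ℕ) : WithBot ℕ∞) := by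
      apply dim_closure_le'
      intro z hxz
      obtain ⟨nz, hnz⟩ := exists_nat_td_residueFieldMap f z
      obtain ⟨c, cS, h1, -, -⟩ := key_rel A hA f x z hxz b nz hb' hnz
      rw [h1]
      exact_mod_cast (hub z hxz c h1).1
    rw [hd] at h2
    have h3 : a + b ≤ d := by exact_mod_cast h1
    have h4 : d ≤ a + b := by exact_mod_cast h2
    omega
  · intro hempty
    have hne : ∀ z : X, x ⤳ z → f z ≠ m := by
      intro z hxz hfz
      have : z ∈ closure ({x} : Set X) ∩ f.base ⁻¹' {m} :=
        ⟨specializes_iff_mem_closure.mp hxz, hfz⟩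
      exact (Set.eq_empty_iff_forall_notMem.mp hempty z) this
    -- upper bound
    have h2 : topologicalKrullDim ↥(closure ({x} : Set X)) + 1 ≤ ((a + b : ℕ) : WithBot ℕ∞) := by
      have hx0 := hub x specializes_rfl
      have hab : 1 ≤ a + b := by
        obtain ⟨nz, hnz⟩ := exists_nat_td_residueFieldMap f x
        obtain ⟨c, cS, h1, -, -⟩ := key_rel A hA f x x specializes_rfl b nz hb' hnz
        have := (hub x specializes_rfl c h1).2 (hne x specializes_rfl)
        omega
      have h3 : topologicalKrullDim ↥(closure ({x} : Set X)) ≤ ((a + b - 1 : ℕ) : WithBot ℕ∞) := by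
        apply dim_closure_le'
        intro z hxz
        obtain ⟨nz, hnz⟩ := exists_nat_td_residueFieldMap f z
        obtain ⟨c, cS, h1, -, -⟩ := key_rel A hA f x z hxz b nz hb' hnz
        rw [h1]
        have := (hub z hxz c h1).2 (hne z hxz)
        exact_mod_cast (by omega : c ≤ a + b - 1)
      calc topologicalKrullDim ↥(closure ({x} : Set X)) + 1
          ≤ ((a + b - 1 : ℕ) : WithBot ℕ∞) + 1 := by gcongr
        _ = ((a + b : ℕ) : WithBot ℕ∞) := by
          have : a + b - 1 + 1 = a + b := by omega
          exact_mod_cast congrArg (Nat.cast : ℕ → WithBot ℕ∞) this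
    rw [hd] at h2
    have h4 : d + 1 ≤ a + b := by exact_mod_cast h2
    -- lower bound
    have hya : 1 ≤ a := by
      have hlt : (f x).asIdeal < IsLocalRing.maximalIdeal A := by
        refine lt_of_le_of_ne (hle_m (f x)) ?_
        intro heq
        apply hne x specializes_rfl
        apply PrimeSpectrum.ext
        rw [hmI]; exact heq
      haveI := IsLocalRing.maximalIdeal.isMaximal A
      have := one_le_height_map _ _ hlt
      rw [hA'] at this
      exact_mod_cast this
    obtain ⟨a', rfl⟩ : ∃ a', a = a' + 1 := ⟨a - 1, by omega⟩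
    -- the image of the closure is a neighbourhood of `f x` in its closure
    have hcons : IsLocallyConstructible (f '' closure ({x} : Set X)) := by
      haveI : LocallyOfFinitePresentation f :=
        LocallyOfFinitePresentation.iff_locallyOfFiniteType.mpr inferInstance
      exact f.isLocallyConstructible_image (isLocallyConstructible_of_isClosed isClosed_closure)
    have hcons' : IsLocallyConstructible
        (f '' closure ({x} : Set X) ∪ (closure ({f x} : Set (Spec (CommRingCat.of A))))ᶜ) :=
      hcons.union (by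
        intro y0
        obtain ⟨U, hxU, hU, hUs⟩ := isLocallyConstructible_of_isClosed
          (X := Spec (CommRingCat.of A)) (s := closure ({f x} : Set (Spec (CommRingCat.of A))))
          isClosed_closure y0
        exact ⟨U, hxU, hU, by simpa using hUs.compl⟩)
    have hnhds := mem_nhds_of_isLocallyConstructible hcons' (f x) (by
      intro y' hy'
      by_cases hy'c : y' ∈ closure ({f x} : Set (Spec (CommRingCat.of A)))
      · left
        have h5 : f x ⤳ y' := specializes_iff_mem_closure.mpr hy'c
        have h6 : y' = f x := (hy'.antisymm h5).eq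
        rw [h6]
        exact ⟨x, subset_closure rfl, rfl⟩
      · right; exact hy'c)
    obtain ⟨W, ⟨g, rfl⟩, hyW, hWE⟩ :=
      (PrimeSpectrum.isTopologicalBasis_basic_opens (R := A)).mem_nhds_iff.mp hnhds
    have hgp : g ∉ (f x).asIdeal := hyW
    haveI := IsLocalRing.maximalIdeal.isMaximal A
    obtain ⟨q, hq, hpq, hqm, hgq, hqh⟩ := exists_prime_height_add_one hA
      (IsLocalRing.maximalIdeal A) g a' (f x).asIdeal (hle_m (f x)) hgp hA'
    set s : Spec (CommRingCat.of A) := (⟨q, hq⟩ : PrimeSpectrum A) with hs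
    have hsW : s ∈ (PrimeSpectrum.basicOpen g : Set (PrimeSpectrum A)) := hgq
    have hsE := hWE hsW
    have hys : f x ⤳ s := (PrimeSpectrum.le_iff_specializes (f x) s).mp hpq
    rcases hsE with ⟨z0, hz0x, hz0s⟩ | hsc
    · have hxz0 : x ⤳ z0 := specializes_iff_mem_closure.mpr hz0x
      have h1 := hlb z0 hxz0 a' (by rw [hz0s]; exact hqh)
      rw [hd] at h1
      have h3 : a' + b ≤ d := by exact_mod_cast h1
      omega
    · exact absurd (specializes_iff_mem_closure.mp hys) hsc

end main

end Groth.Agent.Lib.helper3.LocalBaseDim
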