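import Mathlib

/-!
# Flat modules free modulo a nilpotent ideal are free (helper3)

* `NilFree.eq_top_of_sup_smul_top` / `NilFree.subsingleton_of_le_smul_top`: Nakayama for nilpotent
  ideals (no finiteness).
* `NilFree.free_of_flat_of_nilpotent`: `R → K` surjective with nilpotent kernel, `N` flat over `R`
  with `K ⊗[R] N` free over `K` ⟹ `N` free over `R` (Stacks 051H-like).
-/

set_option autoImplicit false
set_option linter.style.haveILetI false
set_option linter.unusedSectionVars false
universe u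

open TensorProduct

namespace Groth.Agent.Lib.helper3.NilFree

section Nak

variable {R : Type*} [CommRing R] {N : Type*} [AddCommGroup N] [Module R N]

theorem eq_top_of_sup_smul_top {I : Ideal R} {n : ℕ} (hI : I ^ n = ⊥) (N' : Submodule R N)
    (h : N' ⊔ I • (⊤ : Submodule R N) = ⊤) : N' = ⊤ := by
  have key : ∀ k : ℕ, N' ⊔ (I ^ k) • (⊤ : Submodule R N) = ⊤ := by
    intro k
    induction k with
    | zero => simp
    | succ k ih =>
      refine eq_top_iff.mpr (h.symm.le.trans ?_)
      refine sup_le le_sup_left ?_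
      calc I • (⊤ : Submodule R N) = I • (N' ⊔ (I ^ k) • (⊤ : Submodule R N)) := by rw [ih]
        _ = I • N' ⊔ I • ((I ^ k) • (⊤ : Submodule R N)) := Submodule.smul_sup _ _ _
        _ ≤ N' ⊔ (I ^ (k + 1)) • (⊤ : Submodule R N) := by
          refine sup_le_sup Submodule.smul_le_right ?_
          rw [← Submodule.mul_smul, ← pow_succ']
  have := key n
  rwa [hI, Submodule.bot_smul, sup_bot_eq] at this

theorem eq_zero_of_forall_mem_smul_top {I : Ideal R} {n : ℕ} (hI : I ^ n = ⊥)
    (h : ∀ x : N, x ∈ I • (⊤ : Submodule R N)) (x : N) : x = 0 := by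
  have h' : (⊤ : Submodule R N) = I • (⊤ : Submodule R N) :=
    le_antisymm (fun x _ => h x) le_top
  have key : ∀ k : ℕ, (⊤ : Submodule R N) = (I ^ k) • (⊤ : Submodule R N) := by
    intro k
    induction k with
    | zero => simp
    | succ k ih =>
      calc (⊤ : Submodule R N) = I • (⊤ : Submodule R N) := h'
        _ = I • ((I ^ k) • (⊤ : Submodule R N)) := by rw [← ih]
        _ = (I ^ (k + 1)) • (⊤ : Submodule R N) := by rw [← Submodule.mul_smul, ← pow_succ']
  have hx : x ∈ (⊤ : Submodule R N) := Submodule.mem_top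
  rw [key n, hI, Submodule.bot_smul] at hx
  exact (Submodule.mem_bot R).mp hx

end Nak

section Ker

variable {R K : Type*} [CommRing R] [CommRing K] [Algebra R K]

/-- For `R → K` surjective, `1 ⊗ x = 0` in `K ⊗[R] X` iff `x ∈ (ker) • ⊤`. -/
theorem mem_smul_top_of_one_tmul_eq_zero (hsurj : Function.Surjective (algebraMap R K))
    {X : Type*} [AddCommGroup X] [Module R X] (x : X)
    (hx : (1 : K) ⊗ₜ[R] x = 0) : x ∈ RingHom.ker (algebraMap R K) • (⊤ : Submodule R X) := by
  set I := RingHom.ker (algebraMap R K) with hI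
  have hsurj' : Function.Surjective (Algebra.ofId R K) := hsurj
  let e₁ : (R ⧸ RingHom.ker (Algebra.ofId R K)) ≃ₐ[R] K :=
    Ideal.quotientKerAlgEquivOfSurjective hsurj'
  let e₂ : (R ⧸ RingHom.ker (Algebra.ofId R K)) ⊗[R] X ≃ₗ[R] K ⊗[R] X :=
    LinearEquiv.rTensor X e₁.toLinearEquiv
  have h1 : e₂ ((1 : R ⧸ RingHom.ker (Algebra.ofId R K)) ⊗ₜ[R] x) = (1 : K) ⊗ₜ[R] x := by
    simp [e₂]
  have h2 : ((1 : R ⧸ RingHom.ker (Algebra.ofId R K)) ⊗ₜ[R] x) = 0 := by
    apply e₂.injective
    rw [h1, hx, map_zero]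
  have h3 := congrArg (TensorProduct.quotTensorEquivQuotSMul X (RingHom.ker (Algebra.ofId R K))) h2
  rw [map_zero, ← map_one (Ideal.Quotient.mk _), TensorProduct.quotTensorEquivQuotSMul_mk_tmul,
    one_smul, Submodule.Quotient.mk_eq_zero] at h3
  exact h3

end Ker

section Main

variable {R K N : Type*} [CommRing R] [CommRing K] [Algebra R K] [AddCommGroup N] [Module R N]

/-- injectivity can be checked modulo a nilpotent ideal when the target is flat. -/
theorem injective_of_baseChange_injective {F : Type*} [AddCommGroup F] [Module R F]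
    [Module.Flat R N] (hsurj : Function.Surjective (algebraMap R K)) {n : ℕ}
    (hn' : RingHom.ker (algebraMap R K) ^ n = ⊥) (φ : F →ₗ[R] N)
    (hsurjφ : Function.Surjective φ) (hinj : Function.Injective (φ.baseChange K)) :
    Function.Injective φ := by
  rw [← LinearMap.ker_eq_bot, Submodule.eq_bot_iff]
  intro x hx
  have hex : Function.Exact (LinearMap.ker φ).subtype φ := LinearMap.exact_subtype_ker_map φ
  have hinjK := LinearMap.lTensor_injective_of_exact_of_flat (M := ↥(LinearMap.ker φ)) φ hsurjφ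
    (LinearMap.ker φ).subtype (LinearMap.ker φ).injective_subtype hex K
  have hall : ∀ z : LinearMap.ker φ,
      z ∈ RingHom.ker (algebraMap R K) • (⊤ : Submodule R (LinearMap.ker φ)) := by
    intro z
    refine mem_smul_top_of_one_tmul_eq_zero hsurj (X := ↥(LinearMap.ker φ)) z ?_
    apply hinjK
    rw [map_zero, LinearMap.lTensor_tmul]
    apply hinj
    rw [map_zero, LinearMap.baseChange_tmul]
    have : φ ((LinearMap.ker φ).subtype z) = 0 := z.2
    rw [this, TensorProduct.tmul_zero]
  have h0 : (⟨x, hx⟩ : ↥(LinearMap.ker φ)) = 0 :=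
    eq_zero_of_forall_mem_smul_top (N := ↥(LinearMap.ker φ)) hn' hall ⟨x, hx⟩
  exact congrArg Subtype.val h0

/-- surjectivity can be checked modulo a nilpotent ideal. -/
theorem surjective_of_baseChange_surjective {F : Type*} [AddCommGroup F] [Module R F]
    (hsurj : Function.Surjective (algebraMap R K)) {n : ℕ}
    (hn' : RingHom.ker (algebraMap R K) ^ n = ⊥) (φ : F →ₗ[R] N)
    (hs : Function.Surjective (φ.baseChange K)) :
    Function.Surjective φ := by
  rw [← LinearMap.range_eq_top]
  apply eq_top_of_sup_smul_top hn'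
  rw [eq_top_iff]
  intro y _
  obtain ⟨z, hz⟩ := hs ((1 : K) ⊗ₜ[R] y)
  obtain ⟨x, rfl⟩ := TensorProduct.mk_surjective R F K hsurj z
  have h0 : (1 : K) ⊗ₜ[R] (y - φ x) = 0 := by
    rw [TensorProduct.tmul_sub, ← hz]
    simp
  have hmem := mem_smul_top_of_one_tmul_eq_zero hsurj _ h0
  have : y = φ x + (y - φ x) := by abel
  rw [this]
  exact Submodule.add_mem_sup (LinearMap.mem_range_self φ x) hmem

/-- `R → K` surjective with nilpotent kernel, `N` flat over `R`, `K ⊗[R] N` free over `K`
⟹ `N` free over `R`. -/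
theorem free_of_flat_of_nilpotent [Module.Flat R N]
    (hsurj : Function.Surjective (algebraMap R K))
    (hnil : IsNilpotent (RingHom.ker (algebraMap R K)))
    [Module.Free K (K ⊗[R] N)] : Module.Free R N := by
  classical
  obtain ⟨n, hn⟩ := hnil
  have hn' : RingHom.ker (algebraMap R K) ^ n = ⊥ := hn
  obtain ⟨⟨ι, β⟩⟩ := Module.Free.exists_basis (R := K) (M := K ⊗[R] N)
  have hmkN := TensorProduct.mk_surjective R N K hsurj
  choose b hb using fun i => hmkN (β i)
  obtain ⟨φ, hφ⟩ : ∃ φ : (ι →₀ R) →ₗ[R] N, ∀ i, φ (Finsupp.single i 1) = b i :=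
    ⟨Finsupp.linearCombination R b, fun i => by simp⟩
  -- base change of φ is bijective
  obtain ⟨γ, hγ⟩ : ∃ γ : Module.Basis ι K (K ⊗[R] (ι →₀ R)),
      ∀ i, γ i = (1 : K) ⊗ₜ[R] (Finsupp.single i (1 : R)) :=
    ⟨Algebra.TensorProduct.basis K (Finsupp.basisSingleOne), fun i => by simp⟩
  have hφK : φ.baseChange K = (γ.equiv β (Equiv.refl ι)).toLinearMap := by
    apply γ.ext
    intro i
    rw [LinearEquiv.coe_coe, Module.Basis.equiv_apply, hγ, LinearMap.baseChange_tmul, hφ]
    exact hb i
  have hbij : Function.Bijective (φ.baseChange K) := by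
    rw [hφK]; exact (γ.equiv β (Equiv.refl ι)).bijective
  have hsurjφ : Function.Surjective φ :=
    surjective_of_baseChange_surjective hsurj hn' φ hbij.2
  have hinjφ : Function.Injective φ :=
    injective_of_baseChange_injective hsurj hn' φ hsurjφ hbij.1
  exact Module.Free.of_basis (Module.Basis.ofRepr
    (LinearEquiv.ofBijective φ ⟨hinjφ, hsurjφ⟩).symm)

end Main

end Groth.Agent.Lib.helper3.NilFree
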