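import Mathlib
import Groth.Agent.Lib.Helper3.NilFree1
import Groth.Agent.Lib.Helper3.GrobFree5

/-!
# Generic freeness of flat modules over a noetherian ring with prime nilradical (helper3)
-/

set_option autoImplicit false
set_option linter.style.haveILetI false
set_option linter.unusedSectionVars false
universe u

open TensorProduct

namespace Groth.Agent.Lib.helper3.NilFree

open Groth.Agent.Lib.helper3.GrobFree

attribute [local instance] Algebra.TensorProduct.rightAlgebra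
attribute [local instance] awayAlg awayAlg_tower

section KerAway

variable {A₀ : Type*} [CommRing A₀] (P : Ideal A₀) [P.IsPrime] (f₀ : A₀)

/-- kernel of `(A₀)_{f₀} → (A₀/P)_{f̄₀}` is contained in `P (A₀)_{f₀}`. -/
theorem ker_awayMap_le (hf₀ : f₀ ∉ P) :
    RingHom.ker (algebraMap (Localization.Away f₀)
      (Localization.Away (algebraMap A₀ (A₀ ⧸ P) f₀))) ≤
      P.map (algebraMap A₀ (Localization.Away f₀)) := by
  intro x hx
  obtain ⟨a, ⟨_, k, rfl⟩, rfl⟩ := IsLocalization.exists_mk'_eq (Submonoid.powers f₀) x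
  rw [RingHom.mem_ker, RingHom.algebraMap_toAlgebra, Localization.awayMap, IsLocalization.Away.map,
    IsLocalization.map_mk', IsLocalization.mk'_eq_zero_iff] at hx
  obtain ⟨⟨m, l, hl⟩, hm⟩ := hx
  rw [IsLocalization.mk'_mem_map_algebraMap_iff]
  refine ⟨1, one_mem _, ?_⟩
  rw [one_mul]
  have h1 : Ideal.Quotient.mk P (f₀ ^ l * a) = 0 := by
    rw [map_mul, map_pow]
    simpa [← hl] using hm
  have h2 : f₀ ^ l * a ∈ P := Ideal.Quotient.eq_zero_iff_mem.mp h1
  rcases Ideal.IsPrime.mem_or_mem ‹P.IsPrime› h2 with h | h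
  · exact absurd (Ideal.IsPrime.mem_of_pow_mem ‹P.IsPrime› _ h) hf₀
  · exact h

end KerAway

/-- **Noetherian core**: `A₀` noetherian with prime nilradical, `B₀` of finite type, `M₀` finite
over `B₀` and flat over `A₀` ⟹ `M₀` becomes free over `A₀` after inverting a non-nilpotent element. -/
theorem exists_free_away_of_noetherian {A₀ B₀ M₀ : Type u} [CommRing A₀] [IsNoetherianRing A₀]
    [CommRing B₀] [Algebra A₀ B₀] [Algebra.FiniteType A₀ B₀] [AddCommGroup M₀] [Module A₀ M₀]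
    [Module B₀ M₀] [IsScalarTower A₀ B₀ M₀] [Module.Finite B₀ M₀] [Module.Flat A₀ M₀]
    (hprime : (nilradical A₀).IsPrime) :
    ∃ f₀ : A₀, ¬ IsNilpotent f₀ ∧
      Module.Free (Localization.Away f₀) (Localization.Away f₀ ⊗[A₀] M₀) := by
  haveI := hprime
  obtain ⟨U, hUo, hUd, hU⟩ := generic_freeness_reduced (A₀ ⧸ nilradical A₀)
    ((A₀ ⧸ nilradical A₀) ⊗[A₀] B₀) (((A₀ ⧸ nilradical A₀) ⊗[A₀] B₀) ⊗[B₀] M₀)
  obtain ⟨u, hu⟩ := hUd.nonempty
  obtain ⟨f, hfu, -, hfree, -, -, -⟩ := hU u hu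
  obtain ⟨f₀, rfl⟩ := Ideal.Quotient.mk_surjective f
  have hf₀ : f₀ ∉ nilradical A₀ := fun h => hfu (by
    rw [Ideal.Quotient.eq_zero_iff_mem.mpr h]; exact zero_mem _)
  refine ⟨f₀, fun h => hf₀ (mem_nilradical.mpr h), ?_⟩
  have hfree' : Module.Free (Localization.Away (algebraMap A₀ (A₀ ⧸ nilradical A₀) f₀))
      (LocalizedModule (Submonoid.powers (algebraMap A₀ (A₀ ⧸ nilradical A₀) f₀))
        (((A₀ ⧸ nilradical A₀) ⊗[A₀] B₀) ⊗[B₀] M₀)) := hfree
  have hsurj : Function.Surjective (algebraMap (Localization.Away f₀)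
      (Localization.Away (algebraMap A₀ (A₀ ⧸ nilradical A₀) f₀))) :=
    awayMap_surjective (algebraMap A₀ (A₀ ⧸ nilradical A₀)) Ideal.Quotient.mk_surjective f₀
  have hnil : IsNilpotent (RingHom.ker (algebraMap (Localization.Away f₀)
      (Localization.Away (algebraMap A₀ (A₀ ⧸ nilradical A₀) f₀)))) := by
    obtain ⟨n, hn⟩ := IsNoetherianRing.isNilpotent_nilradical A₀
    refine ⟨n, ?_⟩
    have h1 := Ideal.pow_right_mono (ker_awayMap_le (nilradical A₀) f₀ hf₀) n
    rw [← Ideal.map_pow, hn] at h1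
    rw [Ideal.zero_eq_bot, Ideal.map_bot] at h1
    exact le_bot_iff.mp h1
  haveI : Module.Free (Localization.Away (algebraMap A₀ (A₀ ⧸ nilradical A₀) f₀))
      ((Localization.Away (algebraMap A₀ (A₀ ⧸ nilradical A₀) f₀)) ⊗[Localization.Away f₀]
        (Localization.Away f₀ ⊗[A₀] M₀)) := by
    let e1 := AlgebraTensorModule.cancelBaseChange A₀ (Localization.Away f₀)
      (Localization.Away (algebraMap A₀ (A₀ ⧸ nilradical A₀) f₀))
      (Localization.Away (algebraMap A₀ (A₀ ⧸ nilradical A₀) f₀)) M₀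
    let e2 := AlgebraTensorModule.cancelBaseChange A₀ (A₀ ⧸ nilradical A₀)
      (Localization.Away (algebraMap A₀ (A₀ ⧸ nilradical A₀) f₀))
      (Localization.Away (algebraMap A₀ (A₀ ⧸ nilradical A₀) f₀)) M₀
    let e3 := Algebra.IsPushout.cancelBaseChange A₀ (A₀ ⧸ nilradical A₀) B₀
      ((A₀ ⧸ nilradical A₀) ⊗[A₀] B₀) M₀
    let e4 := AlgebraTensorModule.congr
      (LinearEquiv.refl (Localization.Away (algebraMap A₀ (A₀ ⧸ nilradical A₀) f₀))
        (Localization.Away (algebraMap A₀ (A₀ ⧸ nilradical A₀) f₀))) e3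
    let e5 := LocalizedModule.equivTensorProduct
      (Submonoid.powers (algebraMap A₀ (A₀ ⧸ nilradical A₀) f₀))
      (((A₀ ⧸ nilradical A₀) ⊗[A₀] B₀) ⊗[B₀] M₀)
    exact Module.Free.of_equiv (e5 ≪≫ₗ e4 ≪≫ₗ e2 ≪≫ₗ e1.symm)
  exact free_of_flat_of_nilpotent
    (K := Localization.Away (algebraMap A₀ (A₀ ⧸ nilradical A₀) f₀)) hsurj hnil

end Groth.Agent.Lib.helper3.NilFree
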