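import Mathlib
import Groth.Agent.Lib.Helper3.NilFree2
import Groth.Agent.Lib.Helper3.FlatDescQ

/-!
# Generic freeness of flat finitely presented modules over a ring with prime nilradical (helper3)
-/

set_option autoImplicit false
set_option linter.style.haveILetI false
set_option linter.unusedSectionVars false
universe u

open TensorProduct

namespace Groth.Agent.Lib.helper3.NilFree

open Groth.Agent.Lib.helper3.GrobFree

attribute [local instance] awayAlg awayAlg_tower

/-- `A'` with prime nilradical, `B'` a finitely presented `A'`-algebra, `N` a finitely presented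
`B'`-module flat over `A'` ⟹ `N` becomes free over `A'` after inverting a non-nilpotent element. -/
theorem exists_free_away_of_flat {A' B' N : Type u} [CommRing A'] [CommRing B'] [Algebra A' B']
    [Algebra.FinitePresentation A' B'] [AddCommGroup N] [Module B' N] [Module A' N]
    [IsScalarTower A' B' N] [Module.FinitePresentation B' N] [Module.Flat A' N]
    (hnil : (nilradical A').IsPrime) :
    ∃ f : A', ¬ IsNilpotent f ∧
      Module.Free (Localization.Away f) (Localization.Away f ⊗[A'] N) := by
  obtain ⟨A₀, _, _, _, _, hft, hinj, -, B₀, _, _, _, _, hfp, hpo, -, M₀, _, _, _, _, hfin, hflat,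
    ⟨e⟩⟩ := FlatDesc.exists_fg_model_flat_module (A := A') (B := B') (M := N) ∅
  haveI : IsNoetherianRing A₀ := Algebra.FiniteType.isNoetherianRing ℤ A₀
  have hprime₀ : (nilradical A₀).IsPrime := by
    have : nilradical A₀ = (nilradical A').comap (algebraMap A₀ A') := by
      ext x
      simp only [mem_nilradical, Ideal.mem_comap]
      exact (IsNilpotent.map_iff hinj).symm
    rw [this]
    exact Ideal.comap_isPrime _ _
  obtain ⟨f₀, hf₀, hfree⟩ :=
    exists_free_away_of_noetherian (A₀ := A₀) (B₀ := B₀) (M₀ := M₀) hprime₀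
  refine ⟨algebraMap A₀ A' f₀, fun h => hf₀ ((IsNilpotent.map_iff hinj).mp h), ?_⟩
  let eN : A' ⊗[A₀] M₀ ≃ₗ[A'] N :=
    (Algebra.IsPushout.cancelBaseChange A₀ A' B₀ B' M₀).symm ≪≫ₗ e.restrictScalars A'
  let e1 := AlgebraTensorModule.congr
    (LinearEquiv.refl (Localization.Away (algebraMap A₀ A' f₀))
      (Localization.Away (algebraMap A₀ A' f₀))) eN
  let e2 := AlgebraTensorModule.cancelBaseChange A₀ A' (Localization.Away (algebraMap A₀ A' f₀))
    (Localization.Away (algebraMap A₀ A' f₀)) M₀
  let e3 := AlgebraTensorModule.cancelBaseChange A₀ (Localization.Away f₀)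
    (Localization.Away (algebraMap A₀ A' f₀)) (Localization.Away (algebraMap A₀ A' f₀)) M₀
  haveI : Module.Free (Localization.Away (algebraMap A₀ A' f₀))
      ((Localization.Away (algebraMap A₀ A' f₀)) ⊗[Localization.Away f₀]
        (Localization.Away f₀ ⊗[A₀] M₀)) := inferInstance
  exact Module.Free.of_equiv (e3 ≪≫ₗ e2.symm ≪≫ₗ e1)

end Groth.Agent.Lib.helper3.NilFree
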