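import Mathlib
import Groth.Agent.Lib.Helper3.NilFree3
import Groth.Agent.Lib.Helper3.FlatDescP

/-!
# Generic freeness from flatness at the minimal prime (EGA IV 11.2-type statement) (helper3)
-/

set_option autoImplicit false
set_option linter.style.haveILetI false
set_option linter.unusedSectionVars false
universe u

open TensorProduct

namespace Groth.Agent.Lib.helper3.NilFree

open Groth.Agent.Lib.helper3.GrobFree Groth.Agent.Lib.helper3

attribute [local instance] awayAlg awayAlg_tower

/-- `M_p` flat over `A_p` ⟹ `M_t` flat over `A` for some `t ∉ p` (`B` f.p. over `A`, `M` f.p. over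
`B`). -/
theorem exists_flat_away {A B M : Type u} [CommRing A] [CommRing B] [Algebra A B]
    [Algebra.FinitePresentation A B] (p : Ideal A) [p.IsPrime] [AddCommGroup M] [Module B M]
    [Module A M] [IsScalarTower A B M] [Module.FinitePresentation B M]
    (hflat : Module.Flat (Localization.AtPrime p) (LocalizedModule p.primeCompl M)) :
    ∃ t : A, t ∉ p ∧
      Module.Flat A (LocalizedModule (Submonoid.powers (algebraMap A B t)) M) := by
  have hflatA : Module.Flat A (LocalizedModule p.primeCompl M) :=
    Module.Flat.trans A (Localization.AtPrime p) _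
  have hopen := FlatDesc.isOpen_flatLocus_of_finitePresentation (R := A) (S := B) (M := M)
  set U := {q : PrimeSpectrum B | Module.Flat A (LocalizedModule q.asIdeal.primeCompl M)} with hU
  set J := PrimeSpectrum.vanishingIdeal Uᶜ with hJ
  have hZ : PrimeSpectrum.zeroLocus (J : Set B) = Uᶜ := by
    rw [hJ, PrimeSpectrum.zeroLocus_vanishingIdeal_eq_closure, hopen.isClosed_compl.closure_eq]
  by_contra hcon
  push Not at hcon
  have hdisj : Disjoint (J : Set B) (Algebra.algebraMapSubmonoid B p.primeCompl : Set B) := by
    rw [Set.disjoint_left]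
    rintro _ hmemJ ⟨t, ht, rfl⟩
    apply hcon t ht
    apply FlatDesc.flat_localizedModule_powers_of_forall_prime
    intro q₀ hq₀p hq₀
    by_contra hnf
    have hmem : (⟨q₀, hq₀p⟩ : PrimeSpectrum B) ∈ PrimeSpectrum.zeroLocus (J : Set B) := by
      rw [hZ]; exact hnf
    exact hq₀ (hmem hmemJ)
  obtain ⟨q, hqp, hJq, hqS⟩ := Ideal.exists_le_prime_disjoint J _ hdisj
  have hqZ : (⟨q, hqp⟩ : PrimeSpectrum B) ∈ Uᶜ := by
    rw [← hZ]; exact hJq
  apply hqZ
  change Module.Flat A (LocalizedModule q.primeCompl M)
  rw [FlatLocus.flat_iff q.primeCompl (LocalizedModule.mkLinearMap q.primeCompl M)]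
  intro 𝔟 x hx
  obtain ⟨t, ht, htx⟩ := (FlatLocus.flat_iff (R := A) (A := A) p.primeCompl
    (LocalizedModule.mkLinearMap p.primeCompl M)).mp hflatA 𝔟 x hx
  refine ⟨algebraMap A B t, ?_, ?_⟩
  · intro hmem
    exact Set.disjoint_left.mp hqS hmem ⟨t, ht, rfl⟩
  · rw [algebraMap_smul]
    exact htx

/-- transfer: if `T` is a localization of `A` away from `s` and `T ⊗[A] M` is free over `T`, then
`M_s` is free over `A_s`. -/
theorem free_localizedModule_of_free_tensor {A : Type*} [CommRing A] (s : A) (T : Type*)
    [CommRing T] [Algebra A T] [IsLocalization.Away s T] (M : Type*) [AddCommGroup M] [Module A M]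
    [Module.Free T (T ⊗[A] M)] :
    Module.Free (Localization.Away s) (LocalizedModule (Submonoid.powers s) M) := by
  let σ : T ≃ₐ[A] Localization.Away s :=
    IsLocalization.algEquiv (Submonoid.powers s) T (Localization.Away s)
  let σ' : T ≃+* Localization.Away s := σ.toRingEquiv
  haveI := RingHomInvPair.of_ringEquiv σ'
  haveI := RingHomInvPair.of_ringEquiv_symm σ'
  letI : Module T (LocalizedModule (Submonoid.powers s) M) :=
    Module.compHom _ (σ' : T →+* Localization.Away s)
  haveI : IsScalarTower A T (LocalizedModule (Submonoid.powers s) M) :=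
    IsScalarTower.of_algebraMap_smul fun a x => by
      change σ (algebraMap A T a) • x = a • x
      rw [σ.commutes, algebraMap_smul]
  have hbc : IsBaseChange T (LocalizedModule.mkLinearMap (Submonoid.powers s) M) :=
    IsLocalizedModule.isBaseChange (Submonoid.powers s) T _
  haveI hfreeT : Module.Free T (LocalizedModule (Submonoid.powers s) M) :=
    Module.Free.of_equiv hbc.equiv
  let e₂ : LocalizedModule (Submonoid.powers s) M ≃ₛₗ[(σ' : T →+* Localization.Away s)]
      LocalizedModule (Submonoid.powers s) M :=
    { toFun := id
      invFun := id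
      map_add' := fun _ _ => rfl
      map_smul' := fun r x => rfl
      left_inv := fun _ => rfl
      right_inv := fun _ => rfl }
  exact Module.Free.of_equiv e₂

/-- **EGA IV 11.2-type generic freeness**: `A` with a unique minimal prime `p`, `B` a finitely
presented `A`-algebra, `M` a finitely presented `B`-module with `M_p` flat over `A_p`. Then `M_t` is
free over `A_t` for some `t ∉ p`. -/
theorem exists_free_localization_of_flat_at_minimalPrime {A B : Type u} [CommRing A] [CommRing B]
    [Algebra A B] [Algebra.FinitePresentation A B] (p : Ideal A) [p.IsPrime]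
    (hp : minimalPrimes A = {p}) (M : Type u) [AddCommGroup M] [Module B M] [Module A M]
    [IsScalarTower A B M] [Module.FinitePresentation B M]
    (hflat : Module.Flat (Localization.AtPrime p) (LocalizedModule p.primeCompl M)) :
    ∃ t : A, t ∉ p ∧
      Module.Free (Localization.Away t) (LocalizedModule (Submonoid.powers t) M) := by
  obtain ⟨t, ht, hfl⟩ := exists_flat_away (B := B) (M := M) p hflat
  have hpnil : nilradical A = p := by
    have h := Ideal.sInf_minimalPrimes (I := (⊥ : Ideal A))
    rw [show (⊥ : Ideal A).minimalPrimes = {p} from hp, sInf_singleton] at h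
    exact h.symm
  have hdisj : Disjoint (Submonoid.powers t : Set A) (p : Set A) := by
    rw [Set.disjoint_left]
    rintro _ ⟨n, rfl⟩ hmem
    exact ht (Ideal.IsPrime.mem_of_pow_mem ‹p.IsPrime› _ hmem)
  have hnil' : nilradical (Localization.Away t) = p.map (algebraMap A (Localization.Away t)) := by
    have h := IsLocalization.map_radical (Submonoid.powers t) (Localization.Away t) (⊥ : Ideal A)
    rw [Ideal.map_bot] at h
    rw [← hpnil]
    exact h.symm
  have hprime' : (nilradical (Localization.Away t)).IsPrime := by
    rw [hnil']
    exact IsLocalization.isPrime_of_isPrime_disjoint (Submonoid.powers t) _ p ‹_› hdisj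
  letI : Module (Localization.Away t)
      (LocalizedModule (Submonoid.powers (algebraMap A B t)) M) :=
    Module.compHom _ (algebraMap (Localization.Away t) (Localization.Away (algebraMap A B t)))
  haveI tw1 : IsScalarTower (Localization.Away t) (Localization.Away (algebraMap A B t))
      (LocalizedModule (Submonoid.powers (algebraMap A B t)) M) :=
    IsScalarTower.of_algebraMap_smul fun a x => rfl
  haveI tw2 : IsScalarTower A (Localization.Away t)
      (LocalizedModule (Submonoid.powers (algebraMap A B t)) M) :=
    IsScalarTower.of_algebraMap_smul fun a x => by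
      change algebraMap (Localization.Away t) (Localization.Away (algebraMap A B t))
        (algebraMap A (Localization.Away t) a) • x = a • x
      rw [← IsScalarTower.algebraMap_apply, algebraMap_smul]
  haveI : Algebra.FinitePresentation (Localization.Away t)
      (Localization.Away (algebraMap A B t)) := by
    haveI : Algebra.FinitePresentation A (Localization.Away (algebraMap A B t)) :=
      Algebra.FinitePresentation.trans A B _
    exact Algebra.FinitePresentation.of_restrict_scalars_finitePresentation A _ _
  haveI : Module.Flat (Localization.Away t)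
      (LocalizedModule (Submonoid.powers (algebraMap A B t)) M) :=
    (Module.flat_iff_of_isLocalization (Localization.Away t) (Submonoid.powers t) _).mpr hfl
  obtain ⟨f, hf, hfree⟩ := exists_free_away_of_flat (A' := Localization.Away t)
    (B' := Localization.Away (algebraMap A B t))
    (N := LocalizedModule (Submonoid.powers (algebraMap A B t)) M) hprime'
  obtain ⟨f₁, ⟨_, k, rfl⟩, rfl⟩ := IsLocalization.exists_mk'_eq (Submonoid.powers t) f
  have hf₁ : f₁ ∉ p := by
    intro h
    apply hf
    have h1 : IsNilpotent f₁ := by rw [← mem_nilradical, hpnil]; exact h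
    rw [IsLocalization.mk'_eq_mul_mk'_one]
    exact (Commute.all _ _).isNilpotent_mul_right (h1.map _)
  refine ⟨t * f₁, fun h => (Ideal.IsPrime.mem_or_mem ‹p.IsPrime› h).elim ht hf₁, ?_⟩
  haveI hloc : IsLocalization.Away (t * f₁) (Localization.Away
      (IsLocalization.mk' (Localization.Away t) f₁ (⟨t ^ k, k, rfl⟩ : Submonoid.powers t))) := by
    refine IsLocalization.Away.mul_of_associated (S := Localization.Away t) t f₁
      (IsLocalization.mk' (Localization.Away t) f₁ (⟨t ^ k, k, rfl⟩ : Submonoid.powers t)) ?_
    refine ⟨(IsLocalization.map_units (Localization.Away t)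
      (⟨t ^ k, k, rfl⟩ : Submonoid.powers t)).unit⁻¹, ?_⟩
    rw [Units.mul_inv_eq_iff_eq_mul, IsUnit.unit_spec, IsLocalization.mk'_spec]
  have hg₁ : IsLocalizedModule (Submonoid.powers t)
      ((LocalizedModule.mkLinearMap (Submonoid.powers (algebraMap A B t)) M).restrictScalars A) :=
    IsLocalizedModule.restrictScalars_powers t _
  have hbc₁ : IsBaseChange (Localization.Away t)
      ((LocalizedModule.mkLinearMap (Submonoid.powers (algebraMap A B t)) M).restrictScalars A) :=
    IsLocalizedModule.isBaseChange (Submonoid.powers t) (Localization.Away t) _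
  let e1 := AlgebraTensorModule.congr
    (LinearEquiv.refl (Localization.Away
      (IsLocalization.mk' (Localization.Away t) f₁ (⟨t ^ k, k, rfl⟩ : Submonoid.powers t)))
      (Localization.Away
      (IsLocalization.mk' (Localization.Away t) f₁ (⟨t ^ k, k, rfl⟩ : Submonoid.powers t))))
    hbc₁.equiv
  let e2 := AlgebraTensorModule.cancelBaseChange A (Localization.Away t)
    (Localization.Away
      (IsLocalization.mk' (Localization.Away t) f₁ (⟨t ^ k, k, rfl⟩ : Submonoid.powers t)))
    (Localization.Away
      (IsLocalization.mk' (Localization.Away t) f₁ (⟨t ^ k, k, rfl⟩ : Submonoid.powers t))) M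
  haveI : Module.Free (Localization.Away
      (IsLocalization.mk' (Localization.Away t) f₁ (⟨t ^ k, k, rfl⟩ : Submonoid.powers t)))
      ((Localization.Away
      (IsLocalization.mk' (Localization.Away t) f₁ (⟨t ^ k, k, rfl⟩ : Submonoid.powers t)))
        ⊗[A] M) := Module.Free.of_equiv (e1.symm ≪≫ₗ e2)
  exact free_localizedModule_of_free_tensor (t * f₁) (Localization.Away
      (IsLocalization.mk' (Localization.Away t) f₁ (⟨t ^ k, k, rfl⟩ : Submonoid.powers t))) M

end Groth.Agent.Lib.helper3.NilFree
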