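import Mathlib
import Groth.Agent.Lib.Helper19.FibreCone
import Groth.Agent.Lib.Helper19.FibreCone2

/-!
# Noether normalization in a fibre (helper3)
-/

set_option autoImplicit false
universe u
open TensorProduct

namespace Groth.Agent.Lib.helper3.NoetherFibre

variable (A B : Type u) [CommRing A] [CommRing B] [Algebra A B]

/-- clearing denominators in `κ(p) ⊗ B`. -/
theorem exists_smul_eq_one_tmul (p : Ideal A) [p.IsPrime] (z : p.ResidueField ⊗[A] B) :
    ∃ (a : A) (b : B), a ∉ p ∧ a • z = 1 ⊗ₜ[A] b := by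
  induction z using TensorProduct.induction_on with
  | zero => exact ⟨1, 0, fun h => p.ne_top_iff_one.mp (Ideal.IsPrime.ne_top inferInstance) h, by simp⟩
  | tmul x b =>
    obtain ⟨⟨r, s⟩, hrs⟩ := IsLocalization.surj (nonZeroDivisors (A ⧸ p)) x
    obtain ⟨r', rfl⟩ := Ideal.Quotient.mk_surjective r
    obtain ⟨s', hs'⟩ := Ideal.Quotient.mk_surjective (s : A ⧸ p)
    have hs'p : s' ∉ p := by
      intro h
      have h0 : (s : A ⧸ p) = 0 := by rw [← hs']; exact Ideal.Quotient.eq_zero_iff_mem.mpr h
      exact nonZeroDivisors.coe_ne_zero s h0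
    refine ⟨s', r' • b, hs'p, ?_⟩
    have h1 : x * algebraMap A p.ResidueField s' = algebraMap A p.ResidueField r' := by
      have e1 : algebraMap A p.ResidueField s' = algebraMap (A ⧸ p) p.ResidueField (s : A ⧸ p) := by
        rw [← hs']; rfl
      have e2 : algebraMap A p.ResidueField r' =
          algebraMap (A ⧸ p) p.ResidueField (Ideal.Quotient.mk p r') := rfl
      rw [e1, e2]; exact hrs
    rw [TensorProduct.smul_tmul', Algebra.smul_def, mul_comm, h1, ← TensorProduct.smul_tmul,
      ← Algebra.algebraMap_eq_smul_one]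
  | add z₁ z₂ h₁ h₂ =>
    obtain ⟨a₁, b₁, ha₁, h₁⟩ := h₁
    obtain ⟨a₂, b₂, ha₂, h₂⟩ := h₂
    refine ⟨a₁ * a₂, a₂ • b₁ + a₁ • b₂, ?_, ?_⟩
    · intro h
      rcases (Ideal.IsPrime.mem_or_mem inferInstance h) with h | h
      · exact ha₁ h
      · exact ha₂ h
    · rw [smul_add, mul_comm a₁ a₂, mul_smul, h₁, mul_comm a₂ a₁, mul_smul, h₂,
        TensorProduct.tmul_add, TensorProduct.tmul_smul, TensorProduct.tmul_smul]

variable [Algebra.FiniteType A B]

/-- = S7620. -/
theorem exists_algHom_fibre_finite (p : Ideal A) [p.IsPrime] (d : ℕ)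
    (hd : ringKrullDim (p.ResidueField ⊗[A] B) = d) :
    ∃ π : MvPolynomial (Fin d) A →ₐ[A] B,
      (Algebra.TensorProduct.map (AlgHom.id p.ResidueField p.ResidueField) π).toRingHom.Finite := by
  haveI : Nontrivial (p.ResidueField ⊗[A] B) := by
    by_contra hcon
    rw [not_nontrivial_iff_subsingleton] at hcon
    rw [ringKrullDim_eq_bot_of_subsingleton] at hd
    exact WithBot.bot_ne_coe hd
  obtain ⟨s, g, hginj, hgfin⟩ :=
    exists_finite_inj_algHom_of_fg p.ResidueField (p.ResidueField ⊗[A] B)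
  have hs : s = d := by
    have hint : g.toRingHom.IsIntegral := RingHom.IsIntegral.of_finite hgfin
    have h1 := Groth.Agent.Lib.helper19.FibreCone.ringKrullDim_le_of_isIntegral g.toRingHom hint
    have h2 := Groth.Agent.Lib.helper19.FibreCone.ringKrullDim_le_of_isIntegral_of_injective
      g.toRingHom hint hginj
    have h3 : ringKrullDim (MvPolynomial (Fin s) p.ResidueField) = s := by
      rw [MvPolynomial.ringKrullDim_of_isNoetherianRing, ringKrullDim_eq_zero_of_field]
      simp
    have h4 : ((s : ℕ) : WithBot ℕ∞) = d := by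
      rw [← h3, ← hd]; exact le_antisymm h2 h1
    exact_mod_cast h4
  subst hs
  choose a b ha hab using fun i : Fin s =>
    exists_smul_eq_one_tmul A B p (g (MvPolynomial.X i))
  refine ⟨MvPolynomial.aeval b, ?_⟩
  set T := Algebra.TensorProduct.map (AlgHom.id p.ResidueField p.ResidueField)
    (MvPolynomial.aeval b : MvPolynomial (Fin s) A →ₐ[A] B) with hT
  set e := (MvPolynomial.algebraTensorAlgEquiv (σ := Fin s) A p.ResidueField) with he
  -- the scaling endomorphism
  set σ : MvPolynomial (Fin s) p.ResidueField →ₐ[p.ResidueField]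
      MvPolynomial (Fin s) p.ResidueField :=
    MvPolynomial.aeval (fun i => MvPolynomial.C (algebraMap A p.ResidueField (a i)) *
      MvPolynomial.X i) with hσ
  have hu : ∀ i, algebraMap A p.ResidueField (a i) ≠ 0 := fun i h =>
    ha i (Ideal.algebraMap_residueField_eq_zero.mp h)
  have hσsurj : Function.Surjective σ := by
    intro q
    induction q using MvPolynomial.induction_on with
    | C c => exact ⟨MvPolynomial.C c, by simp [hσ]⟩
    | add q₁ q₂ h₁ h₂ =>
      obtain ⟨r₁, rfl⟩ := h₁
      obtain ⟨r₂, rfl⟩ := h₂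
      exact ⟨r₁ + r₂, map_add _ _ _⟩
    | mul_X q i h =>
      obtain ⟨r, rfl⟩ := h
      refine ⟨r * (MvPolynomial.C (algebraMap A p.ResidueField (a i))⁻¹ * MvPolynomial.X i), ?_⟩
      rw [map_mul, map_mul, hσ, MvPolynomial.aeval_X, MvPolynomial.aeval_C]
      congr 1
      rw [MvPolynomial.algebraMap_eq, ← mul_assoc, ← MvPolynomial.C_mul, inv_mul_cancel₀ (hu i),
        MvPolynomial.C_1, one_mul]
  have hcomp : (T.comp e.symm.toAlgHom) = g.comp σ := by
    apply MvPolynomial.algHom_ext
    intro i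
    simp only [AlgHom.comp_apply, AlgEquiv.coe_toAlgHom, hσ, MvPolynomial.aeval_X]
    rw [he, MvPolynomial.algebraTensorAlgEquiv_symm_X, hT, Algebra.TensorProduct.map_tmul,
      MvPolynomial.aeval_X, map_mul]
    simp only [AlgHom.coe_id, id_eq]
    rw [← hab i, ← MvPolynomial.algebraMap_eq, AlgHom.commutes, Algebra.smul_def,
      IsScalarTower.algebraMap_apply A p.ResidueField (p.ResidueField ⊗[A] B)]
  have hTeq : T.toRingHom = (g.comp σ).toRingHom.comp e.toAlgHom.toRingHom := by
    rw [← hcomp]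
    ext z <;> simp
  rw [hTeq]
  refine RingHom.Finite.comp ?_ (RingHom.Finite.of_surjective _ e.surjective)
  exact RingHom.Finite.comp hgfin (RingHom.Finite.of_surjective _ hσsurj)

end Groth.Agent.Lib.helper3.NoetherFibre
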