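import Mathlib

/-!
# Finiteness of a map between pushouts (helper3)
-/

set_option autoImplicit false
universe u
open TensorProduct

namespace Groth.Agent.Lib.helper3.PushoutFinite

theorem finite_algebraMap_of_isPushout (A PA B K PK BK : Type u)
    [CommRing A] [CommRing PA] [CommRing B] [CommRing K] [CommRing PK] [CommRing BK]
    [Algebra A PA] [Algebra A B] [Algebra PA B] [IsScalarTower A PA B]
    [Algebra A K] [Algebra K PK] [Algebra PA PK] [Algebra A PK] [IsScalarTower A K PK]
    [IsScalarTower A PA PK]
    [Algebra K BK] [Algebra B BK] [Algebra A BK] [IsScalarTower A K BK] [IsScalarTower A B BK]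
    [Algebra PK BK] [IsScalarTower K PK BK] [Algebra PA BK] [IsScalarTower PA PK BK]
    [IsScalarTower PA B BK]
    [h1 : Algebra.IsPushout A K PA PK] [h2 : Algebra.IsPushout A K B BK]
    (hfin : (Algebra.TensorProduct.map (AlgHom.id K K)
      (IsScalarTower.toAlgHom A PA B)).toRingHom.Finite) :
    (algebraMap PK BK).Finite := by
  set eP := Algebra.IsPushout.equiv A K PA PK with heP
  set eB := Algebra.IsPushout.equiv A K B BK with heB
  set T := Algebra.TensorProduct.map (AlgHom.id K K) (IsScalarTower.toAlgHom A PA B) with hT
  have key : ∀ z : K ⊗[A] PA, algebraMap PK BK (eP z) = eB (T z) := by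
    intro z
    induction z using TensorProduct.induction_on with
    | zero => simp
    | tmul k x =>
      rw [heP, Algebra.IsPushout.equiv_tmul, hT, Algebra.TensorProduct.map_tmul, heB,
        Algebra.IsPushout.equiv_tmul, map_mul, ← IsScalarTower.algebraMap_apply K PK BK,
        ← IsScalarTower.algebraMap_apply PA PK BK]
      simp only [AlgHom.coe_id, id_eq, IsScalarTower.coe_toAlgHom']
      rw [← IsScalarTower.algebraMap_apply PA B BK]
    | add z₁ z₂ h₁ h₂ => rw [map_add, map_add, map_add, map_add, h₁, h₂]
  have hrw : algebraMap PK BK =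
      (eB.toAlgHom.toRingHom.comp T.toRingHom).comp eP.symm.toAlgHom.toRingHom := by
    ext w
    have := key (eP.symm w)
    rw [AlgEquiv.apply_symm_apply] at this
    rw [this]
    rfl
  rw [hrw]
  refine RingHom.Finite.comp ?_ (RingHom.Finite.of_surjective _ eP.symm.surjective)
  exact RingHom.Finite.comp (RingHom.Finite.of_surjective _ eB.surjective) hfin

end Groth.Agent.Lib.helper3.PushoutFinite
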