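import Mathlib
import Groth.Agent.Lib.Helper3.NoetherFibre2
import Groth.Agent.Lib.Helper3.PushoutFinite
import Groth.Agent.Lib.Helper3.ResidueFrac

/-!
# Noether normalization in a fibre, scheme version (helper3)
-/

set_option autoImplicit false
universe u
open CategoryTheory AlgebraicGeometry CategoryTheory.Limits TensorProduct

namespace Groth.Agent.Lib.helper3.NoetherFibreSch

open Groth.Agent.Lib.helper3

theorem fromSpecResidueField_appTop {Y : Scheme.{u}} (y : Y) :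
    (Y.fromSpecResidueField y).appTop ≫ (Scheme.ΓSpecIso (Y.residueField y)).hom =
      Y.Γevaluation y := by
  rw [Scheme.fromSpecResidueField, Scheme.Hom.comp_appTop, Category.assoc,
    Scheme.ΓSpecIso_naturality, Scheme.fromSpecStalk_appTop]
  simp [Scheme.Γevaluation, Scheme.evaluation]

/-- the pushout square of global sections of a fibre over an affine base. -/
theorem isPushout_fibre {X Y : Scheme.{u}} [IsAffine X] [IsAffine Y] {P : Scheme.{u}}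
    (f : X ⟶ Y) (y : Y) (a : P ⟶ X) (c : P ⟶ Spec (Y.residueField y))
    (sq : IsPullback a c f (Y.fromSpecResidueField y)) :
    IsPushout (Y.Γevaluation y) f.appTop
      ((Scheme.ΓSpecIso (Y.residueField y)).inv ≫ c.appTop) a.appTop := by
  have h := isPushout_appTop_of_isPullback sq.flip
  refine h.of_iso (Iso.refl _) (Scheme.ΓSpecIso _) (Iso.refl _) (Iso.refl _) ?_ ?_ ?_ ?_
  · simp [fromSpecResidueField_appTop]
  · simp
  · simp
  · simp

theorem ringKrullDim_tensor_eq {X Y : Scheme.{u}} [IsAffine X] [IsAffine Y] (f : X ⟶ Y) (y : Y) :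
    letI : Algebra Γ(Y, ⊤) Γ(X, ⊤) := f.appTop.hom.toAlgebra
    letI : Algebra Γ(Y, ⊤) (Y.residueField y) := (Y.Γevaluation y).hom.toAlgebra
    ringKrullDim ((Y.residueField y) ⊗[Γ(Y, ⊤)] Γ(X, ⊤)) = topologicalKrullDim ↥(f.fiber y) := by
  letI algAB : Algebra Γ(Y, ⊤) Γ(X, ⊤) := f.appTop.hom.toAlgebra
  letI algAK : Algebra Γ(Y, ⊤) (Y.residueField y) := (Y.Γevaluation y).hom.toAlgebra
  have sq := isPushout_fibre f y (f.fiberι y) (f.fiberToSpecResidueField y)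
    (IsPullback.of_hasPullback _ _)
  letI : Algebra (Y.residueField y) Γ(f.fiber y, ⊤) :=
    ((Scheme.ΓSpecIso _).inv ≫ (f.fiberToSpecResidueField y).appTop).hom.toAlgebra
  letI : Algebra Γ(X, ⊤) Γ(f.fiber y, ⊤) := (f.fiberι y).appTop.hom.toAlgebra
  letI : Algebra Γ(Y, ⊤) Γ(f.fiber y, ⊤) :=
    ((algebraMap (Y.residueField y) Γ(f.fiber y, ⊤)).comp
      (algebraMap Γ(Y, ⊤) (Y.residueField y))).toAlgebra
  haveI : IsScalarTower Γ(Y, ⊤) (Y.residueField y) Γ(f.fiber y, ⊤) :=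
    IsScalarTower.of_algebraMap_eq' rfl
  haveI : IsScalarTower Γ(Y, ⊤) Γ(X, ⊤) Γ(f.fiber y, ⊤) :=
    IsScalarTower.of_algebraMap_eq' (congrArg CommRingCat.Hom.hom sq.w)
  haveI : Algebra.IsPushout Γ(Y, ⊤) (Y.residueField y) Γ(X, ⊤) Γ(f.fiber y, ⊤) :=
    CommRingCat.isPushout_iff_isPushout.mp sq
  have e1 := (Algebra.IsPushout.equiv Γ(Y, ⊤) (Y.residueField y) Γ(X, ⊤)
    Γ(f.fiber y, ⊤)).toRingEquiv
  rw [ringKrullDim_eq_of_ringEquiv e1, ← PrimeSpectrum.topologicalKrullDim_eq_ringKrullDim]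
  exact (IsHomeomorph.topologicalKrullDim_eq _
    (f.fiber y).isoSpec.hom.homeomorph.isHomeomorph).symm

/-- finiteness on the fibre of a `Y`-morphism to an affine `P` over `Y`, from the ring statement. -/
theorem isFinite_pullback_snd {X Y P : Scheme.{u}} [IsAffine X] [IsAffine Y] [IsAffine P]
    (f : X ⟶ Y) (π : P ⟶ Y) (g : X ⟶ P) (hgf : g ≫ π = f) (y : Y)
    (hfin :
      letI : Algebra Γ(Y, ⊤) Γ(X, ⊤) := f.appTop.hom.toAlgebra
      letI : Algebra Γ(Y, ⊤) (Y.residueField y) := (Y.Γevaluation y).hom.toAlgebra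
      letI : Algebra Γ(Y, ⊤) Γ(P, ⊤) := π.appTop.hom.toAlgebra
      letI : Algebra Γ(P, ⊤) Γ(X, ⊤) := g.appTop.hom.toAlgebra
      haveI : IsScalarTower Γ(Y, ⊤) Γ(P, ⊤) Γ(X, ⊤) := IsScalarTower.of_algebraMap_eq' (by
        change f.appTop.hom = g.appTop.hom.comp π.appTop.hom
        rw [← hgf]; rfl)
      (Algebra.TensorProduct.map (AlgHom.id (Y.residueField y) (Y.residueField y))
        (IsScalarTower.toAlgHom Γ(Y, ⊤) Γ(P, ⊤) Γ(X, ⊤))).toRingHom.Finite) :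
    IsFinite (pullback.snd g (π.fiberι y)) := by
  set ι := π.fiberι y with hι
  set τ := π.fiberToSpecResidueField y with hτ
  set s := pullback.snd g ι with hs
  set t := pullback.fst g ι with ht
  letI algAB : Algebra Γ(Y, ⊤) Γ(X, ⊤) := f.appTop.hom.toAlgebra
  letI algAK : Algebra Γ(Y, ⊤) (Y.residueField y) := (Y.Γevaluation y).hom.toAlgebra
  letI algAP : Algebra Γ(Y, ⊤) Γ(P, ⊤) := π.appTop.hom.toAlgebra
  letI algPB : Algebra Γ(P, ⊤) Γ(X, ⊤) := g.appTop.hom.toAlgebra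
  haveI towAPB : IsScalarTower Γ(Y, ⊤) Γ(P, ⊤) Γ(X, ⊤) := IsScalarTower.of_algebraMap_eq' (by
    change f.appTop.hom = g.appTop.hom.comp π.appTop.hom
    rw [← hgf]; rfl)
  have sq1 : IsPullback ι τ π (Y.fromSpecResidueField y) := IsPullback.of_hasPullback _ _
  have sq2 : IsPullback t (s ≫ τ) f (Y.fromSpecResidueField y) := by
    have := (IsPullback.of_hasPullback g ι).paste_vert sq1
    rwa [hgf] at this
  have po1 := isPushout_fibre π y ι τ sq1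
  have po2 := isPushout_fibre f y t (s ≫ τ) sq2
  haveI : IsAffine (π.fiber y) := IsAffine.of_isPullback sq1.flip
  haveI : IsAffine (pullback g ι) := inferInstance
  letI algKPK : Algebra (Y.residueField y) Γ(π.fiber y, ⊤) :=
    ((Scheme.ΓSpecIso _).inv ≫ τ.appTop).hom.toAlgebra
  letI algPPK : Algebra Γ(P, ⊤) Γ(π.fiber y, ⊤) := ι.appTop.hom.toAlgebra
  letI algAPK : Algebra Γ(Y, ⊤) Γ(π.fiber y, ⊤) :=
    ((algebraMap (Y.residueField y) Γ(π.fiber y, ⊤)).comp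
      (algebraMap Γ(Y, ⊤) (Y.residueField y))).toAlgebra
  haveI : IsScalarTower Γ(Y, ⊤) (Y.residueField y) Γ(π.fiber y, ⊤) :=
    IsScalarTower.of_algebraMap_eq' rfl
  haveI : IsScalarTower Γ(Y, ⊤) Γ(P, ⊤) Γ(π.fiber y, ⊤) :=
    IsScalarTower.of_algebraMap_eq' (congrArg CommRingCat.Hom.hom po1.w)
  letI algKBK : Algebra (Y.residueField y) Γ(pullback g ι, ⊤) :=
    ((Scheme.ΓSpecIso _).inv ≫ (s ≫ τ).appTop).hom.toAlgebra
  letI algBBK : Algebra Γ(X, ⊤) Γ(pullback g ι, ⊤) := t.appTop.hom.toAlgebra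
  letI algABK : Algebra Γ(Y, ⊤) Γ(pullback g ι, ⊤) :=
    ((algebraMap (Y.residueField y) Γ(pullback g ι, ⊤)).comp
      (algebraMap Γ(Y, ⊤) (Y.residueField y))).toAlgebra
  haveI : IsScalarTower Γ(Y, ⊤) (Y.residueField y) Γ(pullback g ι, ⊤) :=
    IsScalarTower.of_algebraMap_eq' rfl
  haveI : IsScalarTower Γ(Y, ⊤) Γ(X, ⊤) Γ(pullback g ι, ⊤) :=
    IsScalarTower.of_algebraMap_eq' (congrArg CommRingCat.Hom.hom po2.w)
  letI algPKBK : Algebra Γ(π.fiber y, ⊤) Γ(pullback g ι, ⊤) := s.appTop.hom.toAlgebra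
  haveI : IsScalarTower (Y.residueField y) Γ(π.fiber y, ⊤) Γ(pullback g ι, ⊤) :=
    IsScalarTower.of_algebraMap_eq' (by
      change ((Scheme.ΓSpecIso _).inv ≫ (s ≫ τ).appTop).hom = _
      rw [Scheme.Hom.comp_appTop]
      rfl)
  letI algPBK : Algebra Γ(P, ⊤) Γ(pullback g ι, ⊤) :=
    ((algebraMap Γ(π.fiber y, ⊤) Γ(pullback g ι, ⊤)).comp
      (algebraMap Γ(P, ⊤) Γ(π.fiber y, ⊤))).toAlgebra
  haveI : IsScalarTower Γ(P, ⊤) Γ(π.fiber y, ⊤) Γ(pullback g ι, ⊤) :=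
    IsScalarTower.of_algebraMap_eq' rfl
  haveI : IsScalarTower Γ(P, ⊤) Γ(X, ⊤) Γ(pullback g ι, ⊤) :=
    IsScalarTower.of_algebraMap_eq' (by
      have h1 : t ≫ g = s ≫ ι := pullback.condition
      have h2 : g.appTop ≫ t.appTop = ι.appTop ≫ s.appTop := by
        rw [← Scheme.Hom.comp_appTop, ← Scheme.Hom.comp_appTop, h1]
      exact (congrArg CommRingCat.Hom.hom h2).symm)
  haveI : Algebra.IsPushout Γ(Y, ⊤) (Y.residueField y) Γ(P, ⊤) Γ(π.fiber y, ⊤) :=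
    CommRingCat.isPushout_iff_isPushout.mp po1
  haveI : Algebra.IsPushout Γ(Y, ⊤) (Y.residueField y) Γ(X, ⊤) Γ(pullback g ι, ⊤) :=
    CommRingCat.isPushout_iff_isPushout.mp po2
  have key := PushoutFinite.finite_algebraMap_of_isPushout Γ(Y, ⊤) Γ(P, ⊤) Γ(X, ⊤)
    (Y.residueField y) Γ(π.fiber y, ⊤) Γ(pullback g ι, ⊤) hfin
  rw [HasAffineProperty.iff_of_isAffine (P := @IsFinite)]
  exact ⟨inferInstance, key⟩

theorem exists_toAffineSpace_finite_on_fibre {X Y : Scheme.{u}} [IsAffine X] [IsAffine Y] (f : X ⟶ Y)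
    [LocallyOfFiniteType f] (y : Y) (hy : y ∈ Set.range f.base) (e : ℕ)
    (he : topologicalKrullDim ↥(f.fiber y) = e) :
    ∃ g : X ⟶ 𝔸(ULift.{u} (Fin e); Y), g ≫ (𝔸(ULift.{u} (Fin e); Y) ↘ Y) = f ∧
      IsFinite (pullback.snd g ((𝔸(ULift.{u} (Fin e); Y) ↘ Y).fiberι y)) := by
  letI algAB : Algebra Γ(Y, ⊤) Γ(X, ⊤) := f.appTop.hom.toAlgebra
  letI algAK : Algebra Γ(Y, ⊤) (Y.residueField y) := (Y.Γevaluation y).hom.toAlgebra
  have hK : ∀ x : Y.residueField y, ∃ r s : Γ(Y, ⊤),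
      algebraMap Γ(Y, ⊤) (Y.residueField y) s ≠ 0 ∧
        x * algebraMap Γ(Y, ⊤) (Y.residueField y) s =
          algebraMap Γ(Y, ⊤) (Y.residueField y) r := by
    intro x
    obtain ⟨r, t, ht, h⟩ := ResidueFrac.exists_evaluation_mul_eq (isAffineOpen_top Y) y trivial x
    refine ⟨r, t, ?_, h⟩
    intro h0
    apply ht
    rw [← DimIneq.ker_evaluation (isAffineOpen_top Y) y trivial]
    exact h0
  haveI : Algebra.FiniteType Γ(Y, ⊤) Γ(X, ⊤) :=
    (HasRingHomProperty.iff_of_isAffine (P := @LocallyOfFiniteType) (f := f)).mp inferInstance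
  have hd : ringKrullDim ((Y.residueField y) ⊗[Γ(Y, ⊤)] Γ(X, ⊤)) = e := by
    rw [← he]
    exact ringKrullDim_tensor_eq f y
  obtain ⟨b, hb⟩ := NoetherFibre2.exists_vector_fibre_finite Γ(Y, ⊤) Γ(X, ⊤)
    (Y.residueField y) hK e hd
  refine ⟨AffineSpace.homOfVector f (fun i : ULift.{u} (Fin e) => b i.down), AffineSpace.homOfVector_over _ _, ?_⟩
  set g := AffineSpace.homOfVector f (fun i : ULift.{u} (Fin e) => b i.down) with hg
  have hgf : g ≫ (𝔸(ULift.{u} (Fin e); Y) ↘ Y) = f := AffineSpace.homOfVector_over _ _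
  apply isFinite_pullback_snd f (𝔸(ULift.{u} (Fin e); Y) ↘ Y) g hgf y
  letI algAP : Algebra Γ(Y, ⊤) Γ(𝔸(ULift.{u} (Fin e); Y), ⊤) :=
    (𝔸(ULift.{u} (Fin e); Y) ↘ Y).appTop.hom.toAlgebra
  letI algPB : Algebra Γ(𝔸(ULift.{u} (Fin e); Y), ⊤) Γ(X, ⊤) := g.appTop.hom.toAlgebra
  haveI towAPB : IsScalarTower Γ(Y, ⊤) Γ(𝔸(ULift.{u} (Fin e); Y), ⊤) Γ(X, ⊤) :=
    IsScalarTower.of_algebraMap_eq' (by
      change f.appTop.hom = g.appTop.hom.comp (𝔸(ULift.{u} (Fin e); Y) ↘ Y).appTop.hom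
      rw [← hgf]; rfl)
  change (Algebra.TensorProduct.map (AlgHom.id (Y.residueField y) (Y.residueField y))
        (IsScalarTower.toAlgHom Γ(Y, ⊤) Γ(𝔸(ULift.{u} (Fin e); Y), ⊤) Γ(X, ⊤))).toRingHom.Finite
  set θ : MvPolynomial (Fin e) Γ(Y, ⊤) →ₐ[Γ(Y, ⊤)] Γ(𝔸(ULift.{u} (Fin e); Y), ⊤) :=
    MvPolynomial.aeval (fun i => AffineSpace.coord Y (ULift.up i)) with hθ
  have hcomp : (IsScalarTower.toAlgHom Γ(Y, ⊤) Γ(𝔸(ULift.{u} (Fin e); Y), ⊤) Γ(X, ⊤)).comp θ =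
      MvPolynomial.aeval b := by
    apply MvPolynomial.algHom_ext
    intro i
    rw [AlgHom.comp_apply, hθ, MvPolynomial.aeval_X, MvPolynomial.aeval_X]
    exact AffineSpace.homOfVector_appTop_coord f (fun i : ULift.{u} (Fin e) => b i.down) (ULift.up i)
  rw [← hcomp] at hb
  have hcomp2 : Algebra.TensorProduct.map (AlgHom.id (Y.residueField y) (Y.residueField y))
      ((IsScalarTower.toAlgHom Γ(Y, ⊤) Γ(𝔸(ULift.{u} (Fin e); Y), ⊤) Γ(X, ⊤)).comp θ) =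
      (Algebra.TensorProduct.map (AlgHom.id (Y.residueField y) (Y.residueField y))
        (IsScalarTower.toAlgHom Γ(Y, ⊤) Γ(𝔸(ULift.{u} (Fin e); Y), ⊤) Γ(X, ⊤))).comp
      (Algebra.TensorProduct.map (AlgHom.id (Y.residueField y) (Y.residueField y)) θ) := by
    rw [← Algebra.TensorProduct.map_comp]
    rfl
  rw [hcomp2] at hb
  exact RingHom.Finite.of_comp_finite hb

end Groth.Agent.Lib.helper3.NoetherFibreSch
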