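import Mathlib
import Groth.Agent.Lib.Helper3.NoetherFibreSch
import Groth.Agent.Lib.Helper3.QFinTop

/-!
# Noether normalization in a fibre: surjectivity and quasi-finiteness (helper3)
-/

set_option autoImplicit false
universe u
open CategoryTheory AlgebraicGeometry CategoryTheory.Limits TensorProduct

namespace Groth.Agent.Lib.helper3.NoetherFibreSch2

open Groth.Agent.Lib.helper3 Groth.Agent.Lib.helper3.NoetherFibreSch

/-- an integral ring map from a domain of dimension `e` to a ring of dimension `e` is injective. -/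
theorem injective_of_isIntegral_of_dim {P Q : Type*} [CommRing P] [IsDomain P] [CommRing Q]
    (m : P →+* Q) (hm : m.IsIntegral) (e : ℕ) (hP : ringKrullDim P = e)
    (hQ : ringKrullDim Q = e) : Function.Injective m := by
  rw [injective_iff_map_eq_zero]
  intro a ha
  by_contra ha0
  have hnzd : a ∈ nonZeroDivisors P := mem_nonZeroDivisors_of_ne_zero ha0
  have hle : Ideal.span {a} ≤ RingHom.ker m := by
    rw [Ideal.span_le, Set.singleton_subset_iff]
    exact ha
  set m' : P ⧸ Ideal.span {a} →+* Q := Ideal.Quotient.lift _ m (fun x hx => hle hx) with hm'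
  have hcomp : m'.comp (Ideal.Quotient.mk _) = m := by
    ext x
    simp [hm']
  have hint : m'.IsIntegral := RingHom.IsIntegral.tower_top (Ideal.Quotient.mk _) m' (by
    rw [hcomp]; exact hm)
  have h1 := Groth.Agent.Lib.helper19.FibreCone.ringKrullDim_le_of_isIntegral m' hint
  have h2 := ringKrullDim_quotient_succ_le_of_nonZeroDivisor hnzd
  rw [hP] at h2
  rw [hQ] at h1
  have h3 : ((e : ℕ) : WithBot ℕ∞) + 1 ≤ e := (add_le_add_left h1 1).trans h2
  have h4 : ((e + 1 : ℕ) : WithBot ℕ∞) ≤ (e : ℕ) := by exact_mod_cast h3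
  have h5 : e + 1 ≤ e := by exact_mod_cast h4
  omega

/-- surjectivity of a morphism of affine schemes from surjectivity on prime spectra. -/
theorem surjective_of_comap_surjective {W Z : Scheme.{u}} [IsAffine W] [IsAffine Z] (s : W ⟶ Z)
    (h : Function.Surjective (PrimeSpectrum.comap s.appTop.hom)) :
    Function.Surjective s.base := by
  intro z
  obtain ⟨q, hq⟩ := h (Z.isoSpec.hom z)
  refine ⟨W.isoSpec.inv q, ?_⟩
  have h1 : Spec.map s.appTop ≫ Z.isoSpec.inv = W.isoSpec.inv ≫ s :=
    Scheme.isoSpec_inv_naturality s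
  have h2 : s (W.isoSpec.inv q) = Z.isoSpec.inv (Spec.map s.appTop q) := by
    rw [← Scheme.Hom.comp_apply, ← h1, Scheme.Hom.comp_apply]
  have h3 : Spec.map s.appTop q = Z.isoSpec.hom z := hq
  change s (W.isoSpec.inv q) = z
  rw [h2, h3, ← Scheme.Hom.comp_apply, Iso.hom_inv_id]
  rfl

/-- the fibre of affine space is the spectrum of a polynomial ring over the residue field. -/
noncomputable def fiberIso (Y : Scheme.{u}) (n : Type u) (y : Y) :
    (𝔸(n; Y) ↘ Y).fiber y ≅ Spec (CommRingCat.of (MvPolynomial n (Y.residueField y))) :=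
  (AffineSpace.isPullback_map (n := n) (Y.fromSpecResidueField y)).isoPullback.symm ≪≫
    AffineSpace.SpecIso n (Y.residueField y)

/-- the coordinate ring of the fibre of affine space. -/
noncomputable def fiberRingEquiv (Y : Scheme.{u}) (n : Type u) (y : Y) :
    Γ((𝔸(n; Y) ↘ Y).fiber y, ⊤) ≃+* MvPolynomial n (Y.residueField y) :=
  ((Scheme.Γ.mapIso (fiberIso Y n y).op).symm ≪≫
    Scheme.ΓSpecIso (CommRingCat.of (MvPolynomial n (Y.residueField y)))).commRingCatIsoToRingEquiv

theorem isDomain_fiber (Y : Scheme.{u}) (n : Type u) (y : Y) :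
    IsDomain Γ((𝔸(n; Y) ↘ Y).fiber y, ⊤) :=
  (fiberRingEquiv Y n y).toMulEquiv.isDomain (MvPolynomial n (Y.residueField y))

theorem ringKrullDim_fiber (Y : Scheme.{u}) (e : ℕ) (y : Y) :
    ringKrullDim Γ((𝔸(ULift.{u} (Fin e); Y) ↘ Y).fiber y, ⊤) = e := by
  rw [ringKrullDim_eq_of_ringEquiv (fiberRingEquiv Y (ULift.{u} (Fin e)) y),
    MvPolynomial.ringKrullDim_of_isNoetherianRing, ringKrullDim_eq_zero_of_field]
  simp

theorem surjective_fibre_and_quasiFinite_nhd {X Y : Scheme.{u}} [IsAffine X] [IsAffine Y]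
    (f : X ⟶ Y) [LocallyOfFiniteType f] (y : Y) (hy : y ∈ Set.range f.base) (e : ℕ)
    (he : topologicalKrullDim ↥(f.fiber y) = e) (g : X ⟶ 𝔸(ULift.{u} (Fin e); Y))
    (hg : g ≫ (𝔸(ULift.{u} (Fin e); Y) ↘ Y) = f)
    (hfin : IsFinite (pullback.snd g ((𝔸(ULift.{u} (Fin e); Y) ↘ Y).fiberι y))) :
    Function.Surjective (pullback.snd g ((𝔸(ULift.{u} (Fin e); Y) ↘ Y).fiberι y)).base ∧
      ∃ U : X.Opens, f.base ⁻¹' {y} ⊆ (U : Set X) ∧ LocallyQuasiFinite (U.ι ≫ g) := by
  set π := 𝔸(ULift.{u} (Fin e); Y) ↘ Y with hπ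
  set ι := π.fiberι y with hι
  set τ := π.fiberToSpecResidueField y with hτ
  set s := pullback.snd g ι with hs
  set t := pullback.fst g ι with ht
  have sq1 : IsPullback ι τ π (Y.fromSpecResidueField y) := IsPullback.of_hasPullback _ _
  have sq2 : IsPullback t (s ≫ τ) f (Y.fromSpecResidueField y) := by
    have := (IsPullback.of_hasPullback g ι).paste_vert sq1
    rwa [hg] at this
  haveI : IsAffine (π.fiber y) := IsAffine.of_isPullback sq1.flip
  haveI : IsAffine (pullback g ι) := inferInstance
  refine ⟨?_, ?_⟩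
  · -- surjectivity
    apply surjective_of_comap_surjective
    have hfin' : RingHom.Finite s.appTop.hom :=
      ((HasAffineProperty.iff_of_isAffine (P := @IsFinite)).mp hfin).2
    have hint : s.appTop.hom.IsIntegral := RingHom.IsIntegral.of_finite hfin'
    refine hint.comap_surjective ?_
    haveI := isDomain_fiber Y (ULift.{u} (Fin e)) y
    refine injective_of_isIntegral_of_dim s.appTop.hom hint e (ringKrullDim_fiber Y e y) ?_
    rw [← he, ← PrimeSpectrum.topologicalKrullDim_eq_ringKrullDim]
    have E : pullback g ι ≅ f.fiber y := sq2.isoPullback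
    rw [← IsHomeomorph.topologicalKrullDim_eq _ E.hom.homeomorph.isHomeomorph]
    exact (IsHomeomorph.topologicalKrullDim_eq _
      (pullback g ι).isoSpec.hom.homeomorph.isHomeomorph).symm
  · haveI : LocallyOfFiniteType (g ≫ π) := by rw [hg]; infer_instance
    haveI : LocallyOfFiniteType g := locallyOfFiniteType_of_comp g π
    have key : ∀ x x' : X, f x = y → g x' = g x → (x' ⤳ x ∨ x ⤳ x') → x' = x := by
      intro x x' hx hxx hsp
      have hx' : f x' = y := by
        rw [← hg, Scheme.Hom.comp_apply, hxx, ← Scheme.Hom.comp_apply, hg, hx]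
      have hrange : Set.range t = g ⁻¹' Set.range ι := Scheme.Pullback.range_fst g ι
      have hι_range : Set.range ι = π ⁻¹' {y} := π.range_fiberι y
      have hmem : ∀ x₀ : X, f x₀ = y → ∃ w, t w = x₀ := by
        intro x₀ hx₀
        have : x₀ ∈ Set.range t := by
          rw [hrange, hι_range]
          change π (g x₀) = y
          rw [← Scheme.Hom.comp_apply, hg, hx₀]
        exact this
      obtain ⟨w, hw⟩ := hmem x hx
      obtain ⟨w', hw'⟩ := hmem x' hx'
      have hcond : t ≫ g = s ≫ ι := pullback.condition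
      have hsw : s w' = s w := by
        apply (ι.isEmbedding.injective)
        rw [← Scheme.Hom.comp_apply, ← Scheme.Hom.comp_apply, ← hcond, Scheme.Hom.comp_apply,
          Scheme.Hom.comp_apply, hw, hw', hxx]
      haveI : IsFinite s := hfin
      have hq : s.QuasiFiniteAt w := s.quasiFiniteAt w
      have hsp' : w' ⤳ w ∨ w ⤳ w' := by
        rcases hsp with h | h
        · left
          rw [← t.isEmbedding.isInducing.specializes_iff, hw, hw']; exact h
        · right
          rw [← t.isEmbedding.isInducing.specializes_iff, hw, hw']; exact h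
      have := QFinTop.eq_of_specializes_of_quasiFiniteAt s hq w' hsw hsp'
      rw [← hw, ← hw', this]
    refine ⟨g.quasiFiniteLocus, ?_, ?_⟩
    · intro x hx
      change g.QuasiFiniteAt x
      apply QFinTop.quasiFiniteAt_of_forall_specializes g x
      · intro x' hx' hsp
        exact key x x' hx hx' (Or.inl hsp)
      · intro x' hx' hsp
        exact key x x' hx hx' (Or.inr hsp)
    · rw [← Scheme.Hom.quasiFiniteLocus_eq_top_iff, Scheme.Hom.quasiFiniteLocus_comp]
      exact Scheme.Opens.ι_preimage_self _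

end Groth.Agent.Lib.helper3.NoetherFibreSch2
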