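import Mathlib
import Groth.Prelude.Def_EGA43
import Groth.Agent.Lib.Helper3.OpenAtComp
import Groth.Agent.Lib.Helper3.TopDim
/-!
# Helper library (helper3): EGA IV 14.2.3 (= S4919), in the topological form of the statement.
-/

set_option autoImplicit false
universe u
open CategoryTheory AlgebraicGeometry Function TopologicalSpace

namespace Groth.Agent.Lib.helper3.OpenAtDim

open Groth.Agent.Lib.helper3.DimIneq Groth.Agent.Lib.helper3.FTField
  Groth.Agent.Lib.helper3.FibreField Groth.Agent.Lib.helper3.DimFibre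
  Groth.Agent.Lib.helper3.RelDim Groth.Agent.Lib.helper3.EquidimAt
  Groth.Agent.Lib.helper3.QFinTop Groth.Agent.Lib.helper3.EquidimIrr
  Groth.Agent.Lib.helper3.TopDim

theorem isIrreducible_closure_inter {T : Type*} [TopologicalSpace T] (ζ : T) (F : Set T)
    (hζ : ζ ∈ F) : IsIrreducible (closure ({ζ} : Set T) ∩ F) := by
  refine ⟨⟨ζ, subset_closure rfl, hζ⟩, ?_⟩
  rintro u v hu hv ⟨a, ⟨ha, -⟩, hau⟩ ⟨b, ⟨hb, -⟩, hbv⟩
  have h1 : ζ ∈ u := (specializes_iff_mem_closure.mpr ha).mem_open hu hau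
  have h2 : ζ ∈ v := (specializes_iff_mem_closure.mpr hb).mem_open hv hbv
  exact ⟨ζ, ⟨subset_closure rfl, hζ⟩, h1, h2⟩

/-- the generic point of a maximal irreducible subset of a fibre. -/
theorem exists_generic_of_fibre_component {X Y : Scheme.{u}} (f : X ⟶ Y) (y : Y) (Z : Set X)
    (hZy : Z ⊆ f.base ⁻¹' {y}) (hZ : IsIrreducible Z)
    (hZmax : ∀ Z' : Set X, IsIrreducible Z' → Z' ⊆ f.base ⁻¹' {y} → Z ⊆ Z' → Z' = Z) :
    ∃ ζ0 : X, f ζ0 = y ∧ ζ0 ∈ Z ∧ Z = closure ({ζ0} : Set X) ∩ f.base ⁻¹' {y} ∧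
      ∀ z' : X, z' ⤳ ζ0 → f z' = f ζ0 → z' = ζ0 := by
  obtain ⟨ζ0, hζ0⟩ := QuasiSober.sober hZ.closure isClosed_closure
  have hcl : closure ({ζ0} : Set X) = closure Z := hζ0.def
  obtain ⟨z, hz⟩ := hZ.nonempty
  have hfζ0 : f ζ0 = y := by
    have h1 : f ζ0 ⤳ y := by
      have : ζ0 ⤳ z := by
        rw [specializes_iff_mem_closure, hcl]; exact subset_closure hz
      have h2 := this.map f.continuous
      have h3 : f z = y := hZy hz
      rwa [h3] at h2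
    have h2 : y ⤳ f ζ0 := by
      have hsub : closure Z ⊆ f.base ⁻¹' closure ({y} : Set Y) := by
        apply closure_minimal _ (isClosed_closure.preimage f.continuous)
        intro a ha
        have : f a = y := hZy ha
        change f a ∈ closure ({y} : Set Y)
        rw [this]; exact subset_closure rfl
      have : ζ0 ∈ closure Z := by rw [← hcl]; exact subset_closure rfl
      exact specializes_iff_mem_closure.mpr (hsub this)
    exact (h1.antisymm h2).eq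
  have hirr := isIrreducible_closure_inter ζ0 (f.base ⁻¹' {y}) hfζ0
  have hZsub : Z ⊆ closure ({ζ0} : Set X) ∩ f.base ⁻¹' {y} := fun a ha =>
    ⟨hcl ▸ subset_closure ha, hZy ha⟩
  have hZeq := hZmax _ hirr Set.inter_subset_right hZsub
  have hζ0Z : ζ0 ∈ Z := by rw [← hZeq]; exact ⟨subset_closure rfl, hfζ0⟩
  refine ⟨ζ0, hfζ0, hζ0Z, hZeq.symm, ?_⟩
  intro z' hsp hfz'
  have hfz'y : f z' = y := hfz'.trans hfζ0
  have hirr' := isIrreducible_closure_inter z' (f.base ⁻¹' {y}) hfz'y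
  have hsub' : Z ⊆ closure ({z'} : Set X) ∩ f.base ⁻¹' {y} := by
    intro a ha
    refine ⟨?_, hZy ha⟩
    have h1 : a ∈ closure ({ζ0} : Set X) := hcl ▸ subset_closure ha
    have h2 : ζ0 ⤳ a := specializes_iff_mem_closure.mpr h1
    exact (hsp.trans h2).mem_closure
  have hZeq' := hZmax _ hirr' Set.inter_subset_right hsub'
  have hz'Z : z' ∈ Z := by rw [← hZeq']; exact ⟨subset_closure rfl, hfz'y⟩
  have h3 : ζ0 ⤳ z' := by
    rw [specializes_iff_mem_closure, hcl]; exact subset_closure hz'Z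
  exact (hsp.antisymm h3).eq

theorem localDim_inter_fibre_eq {X Y : Scheme.{u}} (f : X ⟶ Y) [LocallyOfFiniteType f] (ζ0 : X)
    (y : Y) (hfζ0 : f ζ0 = y)
    (hmax : ∀ z' : X, z' ⤳ ζ0 → f z' = f ζ0 → z' = ζ0) (N : ℕ)
    (hN : td (f.residueFieldMap ζ0).hom = (N : Cardinal.{u}))
    (X' : Set X) (hX' : closure ({ζ0} : Set X) ⊆ X') (hζ : ζ0 ∈ X' ∩ f.base ⁻¹' {y}) :
    FlatMor.localDim ↥(X' ∩ f.base ⁻¹' {y}) ⟨ζ0, hζ⟩ = (N : WithBot ℕ∞) := by
  apply le_antisymm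
  · have hind : Topology.IsInducing
        (fun a : ↥(X' ∩ f.base ⁻¹' {y}) => (⟨a.1, a.2.2⟩ : ↥(f.base ⁻¹' {y}))) := by
      refine Topology.IsInducing.of_comp (Continuous.subtype_mk continuous_subtype_val _)
        continuous_subtype_val ?_
      exact Topology.IsInducing.subtypeVal
    have h1 := localDim_le_of_isInducing hind ⟨ζ0, hζ⟩
    have h2 := localDim_le_of_isInducing (f.fiberHomeo y).symm.isInducing
      (⟨ζ0, hfζ0⟩ : ↥(f.base ⁻¹' {y}))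
    have h3 := Groth.Agent.S0403.localDim_fiber_eq f y ζ0 hfζ0
      ((f.fiberHomeo y).symm ⟨ζ0, hfζ0⟩) (f.fiberι_fiberHomeo_symm y _)
    have h4 := fibreDimAt_eq_td_of_forall f ζ0 hmax N hN
    rw [h3, h4] at h2
    exact h1.trans h2
  · obtain ⟨U0, htU0, hdim⟩ := exists_open_dim_eq_localDim
      (X := ↥(X' ∩ f.base ⁻¹' {y})) ⟨ζ0, hζ⟩
    rw [← hdim]
    obtain ⟨O, hO, hOU⟩ := isOpen_induced_iff.mp U0.isOpen
    have hζO : ζ0 ∈ O := by
      have : (⟨ζ0, hζ⟩ : ↥(X' ∩ f.base ⁻¹' {y})) ∈ Subtype.val ⁻¹' O := by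
        rw [hOU]; exact htU0
      exact this
    obtain ⟨Oo, hOo⟩ : ∃ Oo : X.Opens, (Oo : Set X) = O := ⟨⟨O, hO⟩, rfl⟩
    have hζOo : ζ0 ∈ Oo := by
      change ζ0 ∈ (Oo : Set X)
      rw [hOo]; exact hζO
    have hd := dim_closure_inter_fibre (Oo.ι ≫ f) (⟨ζ0, hζOo⟩ : Oo.toScheme) N
      (by rw [td_comp_opens_ι]; exact hN)
    rw [← hd]
    apply dim_le_of_range_subset
      (f := fun s : ↥(closure ({(⟨ζ0, hζOo⟩ : Oo.toScheme)} : Set Oo.toScheme) ∩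
        (Oo.ι ≫ f).base ⁻¹' {(Oo.ι ≫ f).base ⟨ζ0, hζOo⟩}) => Oo.ι s.1)
      (g := fun b : ↥(U0 : Set ↥(X' ∩ f.base ⁻¹' {y})) => b.1.1)
      (Oo.ι.isOpenEmbedding.isInducing.comp Topology.IsInducing.subtypeVal)
      (Topology.IsInducing.subtypeVal.comp Topology.IsInducing.subtypeVal)
    rintro _ ⟨⟨s, hs1, hs2⟩, rfl⟩
    have hxcl : Oo.ι s ∈ closure ({ζ0} : Set X) := by
      have h1 : (⟨ζ0, hζOo⟩ : Oo.toScheme) ⤳ s := specializes_iff_mem_closure.mpr hs1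
      exact (h1.map Oo.ι.continuous).mem_closure
    have hfx : f (Oo.ι s) = y := by
      have : (Oo.ι ≫ f).base s = (Oo.ι ≫ f).base ⟨ζ0, hζOo⟩ := hs2
      have h2 : f (Oo.ι s) = f ζ0 := this
      rw [h2, hfζ0]
    have hxT : Oo.ι s ∈ X' ∩ f.base ⁻¹' {y} := ⟨hX' hxcl, hfx⟩
    have hxU0 : (⟨Oo.ι s, hxT⟩ : ↥(X' ∩ f.base ⁻¹' {y})) ∈ (U0 : Set ↥(X' ∩ f.base ⁻¹' {y})) := by
      have : (⟨Oo.ι s, hxT⟩ : ↥(X' ∩ f.base ⁻¹' {y})) ∈ Subtype.val ⁻¹' O := by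
        change Oo.ι s ∈ O
        rw [← hOo]; exact s.2
      rw [hOU] at this
      exact this
    exact ⟨⟨⟨Oo.ι s, hxT⟩, hxU0⟩, rfl⟩

/-- EGA IV 14.2.3 (= S4919). -/
theorem exists_component_of_fibre_component {X Y : Scheme.{u}} [IrreducibleSpace Y]
    [IsLocallyNoetherian Y] (f : X ⟶ Y) [LocallyOfFiniteType f] (y : Y) (Z : Set X)
    (hZy : Z ⊆ f.base ⁻¹' {y}) (hZ : IsIrreducible Z)
    (hZmax : ∀ Z' : Set X, IsIrreducible Z' → Z' ⊆ f.base ⁻¹' {y} → Z ⊆ Z' → Z' = Z)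
    (hopen : ∀ ζ ∈ Z, Z ⊆ closure {ζ} → EGA43.IsOpenAt f.base ζ) :
    ∃ X' ∈ irreducibleComponents (X : Type u), Z ⊆ X' ∧ Dense (f.base '' X') ∧
      (∀ ζ ∈ Z, Z ⊆ closure {ζ} → ∀ hζ : ζ ∈ X' ∩ f.base ⁻¹' {y},
        FlatMor.localDim ↥(X' ∩ f.base ⁻¹' {y}) ⟨ζ, hζ⟩ = topologicalKrullDim ↥Z) ∧
      topologicalKrullDim ↥Z = topologicalKrullDim ↥(X' ∩ f.base ⁻¹' {genericPoint Y}) := by
  obtain ⟨ζ0, hfζ0, hζ0Z, hZeq, hmax⟩ := exists_generic_of_fibre_component f y Z hZy hZ hZmax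
  have hZcl : Z ⊆ closure ({ζ0} : Set X) := by rw [hZeq]; exact Set.inter_subset_left
  obtain ⟨ξ', N, hξ'c, hsp, hfξ', htdξ', htdζ⟩ :=
    exists_dominating_component f ζ0 (hopen ζ0 hζ0Z hZcl) hmax
  have hcl01 : closure ({ζ0} : Set X) ⊆ closure ({ξ'} : Set X) :=
    closure_minimal (Set.singleton_subset_iff.mpr hsp.mem_closure) isClosed_closure
  have hdimZ : topologicalKrullDim ↥Z = (N : WithBot ℕ∞) := by
    have := dim_closure_inter_fibre f ζ0 N htdζ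
    have h2 : f.base ζ0 = y := hfζ0
    rw [h2, ← hZeq] at this
    exact this
  refine ⟨closure {ξ'}, hξ'c, hZcl.trans hcl01, ?_, ?_, ?_⟩
  · rw [dense_iff_closure_eq, closure_image_closure f.continuous, Set.image_singleton]
    have : f.base ξ' = genericPoint Y := hfξ'
    rw [this]
    exact (genericPoint_spec Y).def
  · intro ζ hζZ hZζ hζ
    have hζζ0 : ζ = ζ0 := by
      have h1 : ζ ⤳ ζ0 := specializes_iff_mem_closure.mpr (hZζ hζ0Z)
      have h2 : ζ0 ⤳ ζ := specializes_iff_mem_closure.mpr (hZcl hζZ)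
      exact (h1.antisymm h2).eq
    subst hζζ0
    rw [hdimZ]
    exact localDim_inter_fibre_eq f ζ y hfζ0 hmax N htdζ _ hcl01 hζ
  · rw [hdimZ]
    have := dim_closure_inter_fibre f ξ' N htdξ'
    have h2 : f.base ξ' = genericPoint Y := hfξ'
    rw [h2] at this
    exact this.symm

end Groth.Agent.Lib.helper3.OpenAtDim
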