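import Mathlib
import Groth.Agent.Lib.Helper3.PCBC2

/-!
# helper3: flat base change of pseudo-coherent / perfect morphisms of schemes
-/

set_option autoImplicit false
universe u
open CategoryTheory CategoryTheory.Limits AlgebraicGeometry

namespace Groth.Agent.Lib.helper3.PCBC

open Groth.Agent.Lib.helper3.PCHomLoc Groth.Agent.Lib.helper3.PerfHomLoc

section Affine

variable {X Y S T : Scheme.{u}} {f : T ⟶ S} {g : Y ⟶ X} {iX : X ⟶ S} {iY : Y ⟶ T}
  (H : IsPullback g iY iX f)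
  {US : S.Opens} {UT : T.Opens} {UX : X.Opens} (hUST : UT ≤ f ⁻¹ᵁ US) (hUSX : UX ≤ iX ⁻¹ᵁ US)
  {UY : Y.Opens} (hUY : UY = g ⁻¹ᵁ UX ⊓ iY ⁻¹ᵁ UT)

include H hUST hUSX hUY in
lemma isAffineOpen_inf (hUS : IsAffineOpen US) (hUT : IsAffineOpen UT)
    (hUX : IsAffineOpen UX) : IsAffineOpen UY := by
  have : IsAffine _ := hUS
  have : IsAffine _ := hUT
  have : IsAffine _ := hUX
  exact .of_isIso (Scheme.Hom.isPullback_resLE H hUST hUSX hUY).isoPullback.hom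

include H in
lemma isPushout_appLE (hUS : IsAffineOpen US) (hUT : IsAffineOpen UT)
    (hUX : IsAffineOpen UX) :
    IsPushout (iX.appLE US UX hUSX) (f.appLE US UT hUST)
      (g.appLE UX UY (by simp [*])) (iY.appLE UT UY (by simp [*])) :=
  haveI := isIso_pushoutSection_of_isAffineOpen H hUST hUSX hUY hUS hUT hUX
  (isIso_pushoutSection_iff H hUST hUSX hUY).1 inferInstance

end Affine

section BaseChange

variable {X S X' S' : Scheme.{u}} (f : X ⟶ S) (f' : X' ⟶ S') (g' : X' ⟶ X) (g : S' ⟶ S)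

/-- local data for a point of the base-changed source. -/
theorem exists_local_pushout (hc : IsPullback g' f' f g) (x' : X') :
    ∃ (U : X.Opens) (V : S.Opens) (V' : S'.Opens) (UY : X'.Opens) (_ : IsAffineOpen U)
      (_ : IsAffineOpen V) (_ : IsAffineOpen V') (_ : IsAffineOpen UY) (hUV : U ≤ f ⁻¹ᵁ V)
      (hV'V : V' ≤ g ⁻¹ᵁ V) (hUYU : UY ≤ g' ⁻¹ᵁ U) (hUYV' : UY ≤ f' ⁻¹ᵁ V'),
      x' ∈ UY ∧ IsPushout (f.appLE V U hUV) (g.appLE V V' hV'V)
        (g'.appLE U UY hUYU) (f'.appLE V' UY hUYV') := by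
  obtain ⟨V, hV, hxV, -⟩ := exists_affine_nbhd_le (f (g' x')) ⊤ trivial
  have hs : g (f' x') = f (g' x') := by
    have := congrArg (fun φ => φ x') hc.w
    simpa using this.symm
  obtain ⟨V', hV', hxV', hV'V⟩ := exists_affine_nbhd_le (f' x') (g ⁻¹ᵁ V)
    (by show g (f' x') ∈ V; rw [hs]; exact hxV)
  obtain ⟨U, hU, hxU, hUV⟩ := exists_affine_nbhd_le (g' x') (f ⁻¹ᵁ V) hxV
  refine ⟨U, V, V', g' ⁻¹ᵁ U ⊓ f' ⁻¹ᵁ V', hU, hV, hV',
    isAffineOpen_inf hc hV'V hUV rfl hV hV' hU, hUV, hV'V, inf_le_left, inf_le_right,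
    ⟨hxU, hxV'⟩, isPushout_appLE hc hV'V hUV rfl hV hV' hU⟩

theorem baseChange_of_flat [Flat g] (hc : IsPullback g' f' f g) :
    (MoreMor.IsPseudoCoherentMor f → MoreMor.IsPseudoCoherentMor f') ∧
      (MoreMor.IsPerfectMor f → MoreMor.IsPerfectMor f') := by
  constructor
  · intro hf
    rw [isPseudoCoherentMor_iff_exists]
    intro x'
    obtain ⟨U, V, V', UY, hU, hV, hV', hUY, hUV, hV'V, hUYU, hUYV', hx', hpo⟩ :=
      exists_local_pushout f f' g' g hc x'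
    exact ⟨⟨V', hV'⟩, ⟨UY, hUY⟩, hx', hUYV',
      (pch_pfh_of_isPushout hpo (g.flat_appLE hV hV' hV'V)).1 (pch_appLE f hf hU hV hUV)⟩
  · intro hf
    rw [isPerfectMor_iff_exists]
    intro x'
    obtain ⟨U, V, V', UY, hU, hV, hV', hUY, hUV, hV'V, hUYU, hUYV', hx', hpo⟩ :=
      exists_local_pushout f f' g' g hc x'
    exact ⟨⟨V', hV'⟩, ⟨UY, hUY⟩, hx', hUYV',
      (pch_pfh_of_isPushout hpo (g.flat_appLE hV hV' hV'V)).2 (pfh_appLE f hf hU hV hUV)⟩

end BaseChange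

end Groth.Agent.Lib.helper3.PCBC
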