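import Mathlib
import Groth.Agent.Lib.Helper3.PCBC3

/-!
# helper3: fpqc descent of pseudo-coherent / perfect morphisms of schemes
-/

set_option autoImplicit false
universe u
open CategoryTheory CategoryTheory.Limits AlgebraicGeometry

namespace Groth.Agent.Lib.helper3.PCBC

open Groth.Agent.Lib.helper3.PCHomLoc Groth.Agent.Lib.helper3.PerfHomLoc

section Surj

/-- a morphism from an affine scheme which lands in, and surjects onto, an affine open `V`
induces a surjection on prime spectra of `Γ(V) → Γ(T)`. -/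
lemma comap_surjective_of_surjective_onto {T S : Scheme.{u}} (h : T ⟶ S) [IsAffine T]
    (V : S.Opens) (hV : IsAffineOpen V) (hle : (⊤ : T.Opens) ≤ h ⁻¹ᵁ V)
    (hsurj : ∀ v ∈ V, ∃ t, h t = v) :
    Function.Surjective (PrimeSpectrum.comap (h.appLE V ⊤ hle).hom) := by
  intro 𝔭
  have hv : hV.fromSpec 𝔭 ∈ V := by
    have : hV.fromSpec 𝔭 ∈ Set.range hV.fromSpec := ⟨𝔭, rfl⟩
    rw [hV.range_fromSpec] at this
    exact this
  obtain ⟨t, ht⟩ := hsurj _ hv
  refine ⟨(isAffineOpen_top T).primeIdealOf ⟨t, trivial⟩, ?_⟩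
  have h1 := IsAffineOpen.comap_primeIdealOf_appLE (f := h) (x := t) V hV ⊤ (isAffineOpen_top T)
    hle trivial
  rw [h1]
  apply hV.fromSpec.isOpenEmbedding.injective
  rw [hV.fromSpec_primeIdealOf]
  exact ht

end Surj

section Descent

variable {X S X' S' : Scheme.{u}} (f : X ⟶ S) (f' : X' ⟶ S') (g' : X' ⟶ X) (g : S' ⟶ S)

/-- abstract fpqc descent: a property of morphisms given affine-locally by a ring hom property `Qr`
which is stable under flat base change and whose ring hom property descends along faithfully flat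
pushouts descends along flat surjective quasi-compact base change. -/
theorem descent_aux
    (P : ∀ {X Y : Scheme.{u}}, (X ⟶ Y) → Prop)
    (Qr : ∀ {R T : Type u} [CommRing R] [CommRing T], (R →+* T) → Prop)
    (hbc : ∀ {X S X' S' : Scheme.{u}} (f : X ⟶ S) (f' : X' ⟶ S') (g' : X' ⟶ X) (g : S' ⟶ S)
      [Flat g], IsPullback g' f' f g → P f → P f')
    (happ : ∀ {X Y : Scheme.{u}} (f : X ⟶ Y), P f → ∀ {U : X.Opens} {V : Y.Opens}
      (_ : IsAffineOpen U) (_ : IsAffineOpen V) (e : U ≤ f ⁻¹ᵁ V), Qr (f.appLE V U e).hom)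
    (hloc : ∀ {X Y : Scheme.{u}} (f : X ⟶ Y), (∀ x : X, ∃ (U : Y.affineOpens) (V : X.affineOpens)
      (_ : x ∈ V.1) (e : V.1 ≤ f ⁻¹ᵁ U.1), Qr (f.appLE U V e).hom) → P f)
    (hdesc : ∀ {A B A' B' : CommRingCat.{u}} {f : A ⟶ B} {g : A ⟶ A'} {g' : B ⟶ B'}
      {f' : A' ⟶ B'}, IsPushout f g g' f' → g.hom.FaithfullyFlat → Qr f'.hom → Qr f.hom)
    [Flat g] [Surjective g] [QuasiCompact g] (hc : IsPullback g' f' f g) (hf' : P f') : P f := by
  apply hloc
  intro x
  obtain ⟨V, hV, hxV, -⟩ := exists_affine_nbhd_le (f x) ⊤ trivial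
  obtain ⟨U, hU, hxU, hUV⟩ := exists_affine_nbhd_le x (f ⁻¹ᵁ V) hxV
  refine ⟨⟨V, hV⟩, ⟨U, hU⟩, hxU, hUV, ?_⟩
  -- the quasi-compact open `W = g⁻¹ V` of `S'`, dominated by an affine scheme `T`
  let W : S'.Opens := g ⁻¹ᵁ V
  have hWc : IsCompact (W : Set S') := g.isCompact_preimage hV.isCompact
  haveI : CompactSpace W := isCompact_iff_compactSpace.mp hWc
  obtain ⟨T, p, hsurj, hflat, hT⟩ :=
    (W : Scheme.{u}).exists_hom_isAffine_of_isZariskiLocalAtSource @Flat
  haveI := hflat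
  haveI := hT
  let q : T ⟶ S' := p ≫ W.ι
  -- base change of `f'` to `T`
  have hpb1 : IsPullback (pullback.fst f' q) (pullback.snd f' q) f' q := IsPullback.of_hasPullback f' q
  have hsnd : P (pullback.snd f' q) := hbc f' _ _ q hpb1 hf'
  have hpb : IsPullback (pullback.fst f' q ≫ g') (pullback.snd f' q) f (q ≫ g) :=
    hpb1.paste_horiz hc
  have hTV : (⊤ : T.Opens) ≤ (q ≫ g) ⁻¹ᵁ V := by
    intro t _
    show g (W.ι (p t)) ∈ V
    exact (p t).2
  have hTa : IsAffineOpen (⊤ : T.Opens) := isAffineOpen_top T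
  have hUYa := isAffineOpen_inf hpb hTV hUV rfl hV hTa hU
  have hpo := isPushout_appLE hpb hTV hUV rfl hV hTa hU
  refine hdesc hpo ?_ (happ _ hsnd hUYa hTa _)
  rw [RingHom.FaithfullyFlat.iff_flat_and_comap_surjective]
  refine ⟨(q ≫ g).flat_appLE hV hTa hTV, ?_⟩
  refine comap_surjective_of_surjective_onto (q ≫ g) V hV hTV (fun v hv => ?_)
  obtain ⟨s', hs'⟩ := g.surjective v
  have hs'W : s' ∈ W := by
    show g s' ∈ V
    rw [hs']
    exact hv
  obtain ⟨t, ht⟩ := p.surjective ⟨s', hs'W⟩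
  refine ⟨t, ?_⟩
  show g (W.ι (p t)) = v
  rw [ht]
  exact hs'

theorem descent_of_flat_surjective_qc [Flat g] [Surjective g] [QuasiCompact g]
    (hc : IsPullback g' f' f g) :
    (MoreMor.IsPseudoCoherentMor f' → MoreMor.IsPseudoCoherentMor f) ∧
      (MoreMor.IsPerfectMor f' → MoreMor.IsPerfectMor f) := by
  constructor
  · refine descent_aux f f' g' g (fun f => MoreMor.IsPseudoCoherentMor f) @PCH ?_ ?_ ?_ ?_ hc
    · intro X S X' S' f f' g' g _ hc hf
      exact (baseChange_of_flat f f' g' g hc).1 hf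
    · intro X Y f hf U V hU hV e
      exact pch_appLE f hf hU hV e
    · intro X Y f h
      exact (isPseudoCoherentMor_iff_exists f).2 h
    · intro A B A' B' f g g' f' H hg h
      exact (pch_pfh_of_isPushout_of_faithfullyFlat H hg (finiteType_of_pch' _ h)).1 h
  · refine descent_aux f f' g' g (fun f => MoreMor.IsPerfectMor f) @PFH ?_ ?_ ?_ ?_ hc
    · intro X S X' S' f f' g' g _ hc hf
      exact (baseChange_of_flat f f' g' g hc).2 hf
    · intro X Y f hf U V hU hV e
      exact pfh_appLE f hf hU hV e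
    · intro X Y f h
      exact (isPerfectMor_iff_exists f).2 h
    · intro A B A' B' f g g' f' H hg h
      exact (pch_pfh_of_isPushout_of_faithfullyFlat H hg (finiteType_of_pch' _ h.1)).2 h

end Descent

end Groth.Agent.Lib.helper3.PCBC
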