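import Mathlib

/-! Componentwise description of the profinite completion functor (helper3). -/

set_option autoImplicit false

namespace Groth.Agent.Lib.helper3.PC

open CategoryTheory ProfiniteGrp ProfiniteGrp.ProfiniteCompletion

universe u

/-- continuity of the component maps of the profinite completion -/
lemma continuous_val (G : GrpCat.{u}) (H : FiniteIndexNormalSubgroup G) :
    Continuous (fun x : completion G => x.1 H) :=
  (continuous_apply H).comp continuous_subtype_val

set_option backward.isDefEq.respectTransparency false in
/-- closure criterion in the profinite completion -/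
lemma mem_closure_of_forall {G : GrpCat.{u}} (S : Set (completion G)) (x : completion G)
    (h : ∀ H : FiniteIndexNormalSubgroup G, ∃ s ∈ S, s.1 H = x.1 H) : x ∈ closure S := by
  rw [mem_closure_iff]
  rintro U ⟨s, hsO, hsv⟩ hxU
  rw [← hsv, Set.mem_preimage] at hxU
  rcases (isOpen_pi_iff.mp hsO) _ hxU with ⟨J, fJ, hJ1, hJ2⟩
  let M : Subgroup G := iInf fun (j : J) => j.val
  have hM : M.Normal := Subgroup.normal_iInf_normal fun j => inferInstance
  have hMFinite : M.FiniteIndex := by
    apply Subgroup.finiteIndex_iInf
    infer_instance
  let m : FiniteIndexNormalSubgroup G := { toSubgroup := M }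
  obtain ⟨t, htS, ht⟩ := h m
  refine ⟨t, ?_, htS⟩
  rw [← hsv]
  apply hJ2
  intro a a_in_J
  let M_to_Na : m ⟶ a := (iInf_le (fun (j : J) => (j.val.toSubgroup)) ⟨a, a_in_J⟩).hom
  have h1 := t.property M_to_Na
  have h2 := x.property M_to_Na
  have h3 : t.1 a = x.1 a := by
    rw [← h1, ← h2, ht]
  change t.1 a ∈ fJ a
  rw [h3]
  exact (hJ1 a a_in_J).right

/-- `map f` on the image of `G` -/
lemma map_etaFn {G Q : GrpCat.{u}} (f : G ⟶ Q) (a : G) :
    (profiniteCompletion.map f).hom (etaFn G a) = etaFn Q (f.hom a) := by
  have h := lift_eta (f ≫ eta Q)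
  have h2 := ConcreteCategory.congr_hom h a
  exact h2

lemma discreteTopology_obj (G : GrpCat.{u}) (K : FiniteIndexNormalSubgroup G) :
    DiscreteTopology ((ProfiniteCompletion.diagram G).obj K) := ⟨rfl⟩

/-- the map on finite quotients induced by `f`, typed between the diagram objects -/
def qmap {G Q : GrpCat.{u}} (f : G ⟶ Q) (H : FiniteIndexNormalSubgroup Q) :
    (ProfiniteCompletion.diagram G).obj (H.comap f.hom) → (ProfiniteCompletion.diagram Q).obj H :=
  QuotientGroup.map (H.comap f.hom).toSubgroup H.toSubgroup f.hom (le_refl _)

/-- componentwise formula for `map f` -/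
lemma map_val {G Q : GrpCat.{u}} (f : G ⟶ Q) (x : completion G)
    (H : FiniteIndexNormalSubgroup Q) :
    ((profiniteCompletion.map f).hom x).1 H = qmap f H (x.1 (H.comap f.hom)) := by
  have hc1 : Continuous (fun x : completion G => ((profiniteCompletion.map f).hom x).1 H) :=
    (continuous_val Q H).comp (profiniteCompletion.map f).hom.continuous_toFun
  haveI := discreteTopology_obj G (H.comap f.hom)
  have hc2 : Continuous (fun x : completion G => qmap f H (x.1 (H.comap f.hom))) :=
    continuous_of_discreteTopology.comp (continuous_val G (H.comap f.hom))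
  haveI := discreteTopology_obj Q H
  have := (denseRange (G := G)).equalizer hc1 hc2 (by
    funext a
    simp only [Function.comp_apply]
    rw [map_etaFn]
    rfl)
  exact congrFun this x

end Groth.Agent.Lib.helper3.PC
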