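import Mathlib

/-!
For a field extension `Ω/k`, the natural map `Ω ⊗[k] k[[σ]] → Ω[[σ]]` is injective; hence
`Ω ⊗[k] k[[σ]]` is a domain and `Ω ⊗[k] Frac k[[σ]]` is reduced (helper3).
-/

set_option autoImplicit false
universe u v

namespace Groth.Agent.Lib.helper3.PSTensor

open TensorProduct MvPowerSeries

variable (k : Type u) (Ω : Type v) [Field k] [Field Ω] [Algebra k Ω] (σ : Type*)

/-- the natural map `Ω ⊗[k] k[[σ]] → Ω[[σ]]` -/
noncomputable def toPS : Ω ⊗[k] MvPowerSeries σ k →ₐ[k] MvPowerSeries σ Ω :=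
  Algebra.TensorProduct.productMap (IsScalarTower.toAlgHom k Ω (MvPowerSeries σ Ω))
    (MvPowerSeries.mapAlgHom (Algebra.ofId k Ω))

theorem toPS_tmul (a : Ω) (f : MvPowerSeries σ k) :
    toPS k Ω σ (a ⊗ₜ f) = MvPowerSeries.C a * MvPowerSeries.map (algebraMap k Ω) f := by
  rw [toPS, Algebra.TensorProduct.productMap_apply_tmul]
  rfl

theorem toPS_injective : Function.Injective (toPS k Ω σ) := by
  classical
  rw [injective_iff_map_eq_zero]
  intro t ht
  let b := Module.Basis.ofVectorSpace k Ω
  obtain ⟨c, rfl⟩ := (TensorProduct.equivFinsuppOfBasisLeft b).symm.surjective t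
  rw [TensorProduct.equivFinsuppOfBasisLeft_symm_apply] at ht ⊢
  have hc : c = 0 := by
    ext i m
    by_cases hi : i ∈ c.support
    · have h1 : MvPowerSeries.coeff m ((toPS k Ω σ) (c.sum fun i n => b i ⊗ₜ[k] n)) = 0 := by
        rw [ht, map_zero]
      rw [Finsupp.sum, map_sum, map_sum] at h1
      have h2 : ∑ j ∈ c.support, (MvPowerSeries.coeff m (c j)) • b j = 0 := by
        rw [← h1]
        refine Finset.sum_congr rfl fun j _ => ?_
        rw [toPS_tmul, MvPowerSeries.coeff_C_mul, MvPowerSeries.coeff_map, Algebra.smul_def,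
          mul_comm]
      exact linearIndependent_iff'.mp b.linearIndependent c.support
        (fun j => MvPowerSeries.coeff m (c j)) h2 i hi
    · rw [Finsupp.notMem_support_iff.mp hi]
      rfl
  rw [hc, Finsupp.sum_zero_index]

instance isDomain_tensor : IsDomain (Ω ⊗[k] MvPowerSeries σ k) :=
  haveI : IsDomain (MvPowerSeries σ Ω) := NoZeroDivisors.to_isDomain _
  Function.Injective.isDomain (toPS k Ω σ).toRingHom (toPS_injective k Ω σ)

/-- `Ω ⊗[k] Frac(k[[σ]])` is reduced -/
theorem isReduced_tensor_fractionRing :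
    IsReduced (Ω ⊗[k] FractionRing (MvPowerSeries σ k)) := by
  let A := MvPowerSeries σ k
  let M : Submonoid A := nonZeroDivisors A
  let M' : Submonoid (Ω ⊗[k] A) := M.map (Algebra.TensorProduct.includeRight (R := k) (A := Ω))
  let e : Ω ⊗[k] FractionRing A ≃ₐ[Ω] Localization M' :=
    IsLocalization.tensorProductEquivOfMapIncludeRight k Ω M (FractionRing A) (Localization M')
  exact isReduced_of_injective e.toRingEquiv.toRingHom e.injective

end Groth.Agent.Lib.helper3.PSTensor
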