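import Mathlib
import Groth.Agent.Lib.Helper3.PdFibre4
/-!
# helper3: projective dimension is the supremum of the projective dimensions of the fibres

`projectiveDimension_eq_iSup_fibre` : `A → B` flat, `M` a pseudo-coherent `B`-module flat over `A`;
then `pd_B M = ⨆ p, pd_{B ⊗ κ(p)} ((B ⊗ κ(p)) ⊗_B M)`.
-/

set_option autoImplicit false
set_option linter.style.haveILetI false
universe u
open CategoryTheory CategoryTheory.Limits TensorProduct

attribute [local instance] HasDerivedCategory.standard

namespace Groth.Agent.Lib.helper3.PdFibre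

open Groth.Agent.Lib.helper23.DRingPC

attribute [local instance] Algebra.TensorProduct.rightAlgebra

lemma lt_zero_iff_bot (a : WithBot ℕ∞) : a < ((0 : ℕ) : WithBot ℕ∞) ↔ a = ⊥ := by
  rw [Nat.cast_zero, ← WithBot.lt_coe_bot, bot_eq_zero', WithBot.coe_zero]

lemma le_of_forall_lt_natCast {a b : WithBot ℕ∞} (h : ∀ i : ℕ, b < i → a < i) : a ≤ b := by
  induction b with
  | bot =>
    have h0 := h 0 (by exact WithBot.bot_lt_coe _)
    rw [(lt_zero_iff_bot a).1 h0]
  | coe b =>
    induction b with
    | top => exact le_top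
    | coe n =>
      have h1 := h (n + 1) (by
        rw [Nat.cast_add, Nat.cast_one, ENat.WithBot.lt_add_one_iff]
        rfl)
      rw [Nat.cast_add, Nat.cast_one, ENat.WithBot.lt_add_one_iff] at h1
      exact h1

lemma eq_of_forall_lt_natCast_iff {a b : WithBot ℕ∞} (h : ∀ i : ℕ, a < i ↔ b < i) : a = b :=
  le_antisymm (le_of_forall_lt_natCast fun i hi => (h i).2 hi)
    (le_of_forall_lt_natCast fun i hi => (h i).1 hi)

lemma iSup_lt_natCast_iff {ι : Type*} (y : ι → WithBot ℕ∞) (i : ℕ) :
    (⨆ p, y p) < i ↔ ∀ p, y p < i := by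
  cases i with
  | zero =>
    simp only [lt_zero_iff_bot, iSup_eq_bot]
  | succ n =>
    simp only [Nat.cast_add, Nat.cast_one, ENat.WithBot.lt_add_one_iff, iSup_le_iff]

theorem projectiveDimension_eq_iSup_fibre (A B M : Type u) [CommRing A] [CommRing B]
    [Algebra A B] [Module.Flat A B] [AddCommGroup M] [Module B M] [Module A M]
    [IsScalarTower A B M] [Module.Flat A M] (hpc : PCMod B (ModuleCat.of B M)) :
    projectiveDimension (ModuleCat.of B M) =
      ⨆ p : PrimeSpectrum A, projectiveDimension
        (ModuleCat.of (B ⊗[A] p.asIdeal.ResidueField)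
          ((B ⊗[A] p.asIdeal.ResidueField) ⊗[B] M)) := by
  apply eq_of_forall_lt_natCast_iff
  intro i
  rw [iSup_lt_natCast_iff]
  simp only [projectiveDimension_lt_iff]
  constructor
  · intro h p
    exact pd_baseChange_lt (A := A) p.asIdeal.ResidueField (B ⊗[A] p.asIdeal.ResidueField) i M
      hpc h
  · intro h
    exact pd_lt_of_fibres (A := A) i M hpc h

end Groth.Agent.Lib.helper3.PdFibre
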