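import Mathlib

/-! A positive definite quadratic form attains its minimum on the convex hull of a finite set, over
an arbitrary linearly ordered field. -/

set_option autoImplicit false
set_option linter.unusedSectionVars false
set_option linter.unusedSimpArgs false
set_option linter.style.haveILetI false

namespace Groth.Agent.Lib.helper3.PolyMinL

variable {R : Type*} [Field R] [LinearOrder R] [IsStrictOrderedRing R]
variable {V : Type*} [AddCommGroup V] [Module R V]

/-- Linear combination of the elements of a finset with coefficients given by a function. -/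
noncomputable def comb (T : Finset V) : (V → R) →ₗ[R] V :=
  ∑ s ∈ T, (LinearMap.proj s : (V → R) →ₗ[R] R).smulRight s

lemma comb_apply (T : Finset V) (c : V → R) : comb T c = ∑ s ∈ T, c s • s := by
  simp [comb, LinearMap.sum_apply]

/-- Total weight of a coefficient function on a finset. -/
noncomputable def tot (T : Finset V) : (V → R) →ₗ[R] R :=
  ∑ s ∈ T, (LinearMap.proj s : (V → R) →ₗ[R] R)

lemma tot_apply (T : Finset V) (c : V → R) : tot T c = ∑ s ∈ T, c s := by
  simp [tot, LinearMap.sum_apply]

lemma comb_mem_span (T : Finset V) (c : V → R) : comb T c ∈ Submodule.span R (T : Set V) := by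
  rw [comb_apply]
  exact Submodule.sum_mem _ fun s hs => Submodule.smul_mem _ _ (Submodule.subset_span hs)

variable (B : LinearMap.BilinForm R V)

/-- The minimiser on the affine span. -/
lemma exists_affine_min (hBp : ∀ y : V, y ≠ 0 → 0 < B y y) (T : Finset V) (hT : T.Nonempty) :
    ∃ c : V → R, tot T c = 1 ∧ ∀ e : V → R, tot T e = 0 → B (comb T c) (comb T e) = 0 := by
  classical
  obtain ⟨s₀, hs₀⟩ := hT
  set W : Submodule R V := (LinearMap.ker (tot (R := R) T)).map (comb T) with hW
  have hWle : W ≤ Submodule.span R (T : Set V) := by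
    rintro - ⟨e, _, rfl⟩
    exact comb_mem_span T e
  haveI : FiniteDimensional R W := Submodule.finiteDimensional_of_le hWle
  set B' : LinearMap.BilinForm R W := B.restrict W with hB'
  have hB'app : ∀ x y : W, B' x y = B (x : V) (y : V) := fun _ _ => rfl
  have hnd : B'.Nondegenerate := by
    constructor
    · intro x hx
      by_contra hne
      have h1 : (x : V) ≠ 0 := fun h => hne (Subtype.ext h)
      have := hBp x h1
      have h2 : B (x : V) (x : V) = 0 := (hB'app x x).symm.trans (hx x)
      linarith
    · intro x hx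
      by_contra hne
      have h1 : (x : V) ≠ 0 := fun h => hne (Subtype.ext h)
      have := hBp x h1
      have h2 : B (x : V) (x : V) = 0 := (hB'app x x).symm.trans (hx x)
      linarith
  set φ : Module.Dual R W := (B s₀).comp W.subtype with hφ
  set w : W := (B'.toDual hnd).symm φ with hw
  have hwv : ∀ v : W, B' w v = φ v := fun v =>
    LinearMap.BilinForm.apply_toDual_symm_apply (hB := hnd) φ v
  obtain ⟨e₀, he₀, he₀'⟩ := w.2
  have he₀0 : tot T e₀ = 0 := he₀
  have h1 : tot (R := R) T (Pi.single s₀ 1) = 1 := by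
    rw [tot_apply, Finset.sum_pi_single' s₀ (1 : R) T, if_pos hs₀]
  have h2 : comb (R := R) T (Pi.single s₀ 1) = s₀ := by
    rw [comb_apply]
    rw [Finset.sum_eq_single_of_mem s₀ hs₀]
    · simp
    · intro s _ hs
      simp [Pi.single_apply, hs]
  refine ⟨Pi.single s₀ 1 - e₀, by rw [map_sub, h1, he₀0, sub_zero], fun e he => ?_⟩
  have hmem : comb T e ∈ W := ⟨e, he, rfl⟩
  have h3 : B (w : V) (comb T e) = B s₀ (comb T e) :=
    (hB'app w ⟨comb T e, hmem⟩).symm.trans (hwv ⟨comb T e, hmem⟩)
  rw [map_sub, h2, he₀', map_sub, LinearMap.sub_apply, h3, sub_self]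

variable {B}

lemma form_add_of_orth (hBs : ∀ y z : V, B y z = B z y) {x u : V} (h : B x u = 0) (a : R) :
    B (x + a • u) (x + a • u) = B x x + a ^ 2 * B u u := by
  simp only [map_add, map_smul, LinearMap.add_apply, LinearMap.smul_apply, smul_eq_mul]
  rw [hBs u x, h]
  ring

lemma form_self_nonneg (hBp : ∀ y : V, y ≠ 0 → 0 < B y y) (u : V) : 0 ≤ B u u := by
  by_cases hu : u = 0
  · rw [hu]; simp
  · exact (hBp u hu).le

/-- Moving from a point of the simplex towards the affine minimiser until a coefficient
vanishes. -/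
lemma exists_exit (hBs : ∀ y z : V, B y z = B z y) (hBp : ∀ y : V, y ≠ 0 → 0 < B y y)
    (T : Finset V) {c : V → R} (hc1 : tot T c = 1)
    (hc : ∀ e : V → R, tot T e = 0 → B (comb T c) (comb T e) = 0)
    (hneg : ∃ s ∈ T, c s < 0) {c' : V → R} (hc'0 : ∀ s ∈ T, 0 ≤ c' s) (hc'1 : tot T c' = 1) :
    ∃ s₁ ∈ T, ∃ c'' : V → R, (∀ s ∈ T, 0 ≤ c'' s) ∧ tot T c'' = 1 ∧ c'' s₁ = 0 ∧
      B (comb T c'') (comb T c'') ≤ B (comb T c') (comb T c') := by
  classical
  set Tneg := T.filter (fun s => c s < 0) with hTneg
  have hTn : Tneg.Nonempty := by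
    obtain ⟨s, hs, hs'⟩ := hneg
    exact ⟨s, Finset.mem_filter.2 ⟨hs, hs'⟩⟩
  obtain ⟨s₁, hs₁, hmin⟩ := Finset.exists_min_image Tneg (fun s => c' s / (c' s - c s)) hTn
  have hs₁T : s₁ ∈ T := (Finset.mem_filter.1 hs₁).1
  have hs₁n : c s₁ < 0 := (Finset.mem_filter.1 hs₁).2
  set t : R := c' s₁ / (c' s₁ - c s₁) with ht
  have hden : 0 < c' s₁ - c s₁ := by have := hc'0 s₁ hs₁T; linarith
  have ht0 : 0 ≤ t := div_nonneg (hc'0 s₁ hs₁T) hden.le
  have ht1 : t < 1 := by rw [ht, div_lt_one hden]; linarith
  refine ⟨s₁, hs₁T, c' + t • (c - c'), ?_, ?_, ?_, ?_⟩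
  · intro s hs
    simp only [Pi.add_apply, Pi.smul_apply, Pi.sub_apply, smul_eq_mul]
    by_cases hcs : c s < 0
    · have hsn : s ∈ Tneg := Finset.mem_filter.2 ⟨hs, hcs⟩
      have h1 : t ≤ c' s / (c' s - c s) := hmin s hsn
      have hden' : 0 < c' s - c s := by have := hc'0 s hs; linarith
      rw [le_div_iff₀ hden'] at h1
      linarith
    · have h1 := hc'0 s hs
      have h2 : 0 ≤ c s := not_lt.1 hcs
      nlinarith
  · rw [map_add, map_smul, map_sub, hc1, hc'1, sub_self, smul_zero, add_zero]
  · simp only [Pi.add_apply, Pi.smul_apply, Pi.sub_apply, smul_eq_mul]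
    rw [ht]
    field_simp
    ring
  · have he : tot T (c' - c) = 0 := by rw [map_sub, hc1, hc'1, sub_self]
    have horth := hc _ he
    have e1 : comb T (c' + t • (c - c')) = comb T c + (1 - t) • comb T (c' - c) := by
      rw [← map_smul, ← map_add]
      congr 1
      ext s
      simp only [Pi.add_apply, Pi.smul_apply, Pi.sub_apply, smul_eq_mul]
      ring
    have e2 : comb T c' = comb T c + (1 : R) • comb T (c' - c) := by
      rw [one_smul, ← map_add]
      congr 1
      ext s
      simp
    rw [e1, e2, form_add_of_orth hBs horth, form_add_of_orth hBs horth]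
    have h1 := form_self_nonneg hBp (comb T (c' - c))
    have h2 : (1 - t) ^ 2 ≤ 1 ^ 2 := by
      apply pow_le_pow_left₀ (by linarith)
      linarith
    nlinarith

lemma comb_erase (T : Finset V) [DecidableEq V] {c : V → R} {s₁ : V} (h : c s₁ = 0) :
    comb (T.erase s₁) c = comb T c := by
  rw [comb_apply, comb_apply]
  exact Finset.sum_erase _ (by rw [h, zero_smul])

lemma tot_erase (T : Finset V) [DecidableEq V] {c : V → R} {s₁ : V} (h : c s₁ = 0) :
    tot (T.erase s₁) c = tot T c := by
  rw [tot_apply, tot_apply]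
  exact Finset.sum_erase _ h

/-- Existence of a minimiser on the simplex, in coefficient form. -/
theorem exists_min_coeff (hBs : ∀ y z : V, B y z = B z y) (hBp : ∀ y : V, y ≠ 0 → 0 < B y y) :
    ∀ n : ℕ, ∀ T : Finset V, T.card = n → T.Nonempty →
      ∃ c : V → R, (∀ s ∈ T, 0 ≤ c s) ∧ tot T c = 1 ∧
        ∀ c' : V → R, (∀ s ∈ T, 0 ≤ c' s) → tot T c' = 1 →
          B (comb T c) (comb T c) ≤ B (comb T c') (comb T c') := by
  classical
  intro n
  induction n using Nat.strong_induction_on with
  | _ n ih =>
    intro T hTn hT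
    obtain ⟨c, hc1, hc⟩ := exists_affine_min B hBp T hT
    by_cases hpos : ∀ s ∈ T, 0 ≤ c s
    · refine ⟨c, hpos, hc1, fun c' _ hc'1 => ?_⟩
      have he : tot T (c' - c) = 0 := by rw [map_sub, hc1, hc'1, sub_self]
      have e2 : comb T c' = comb T c + (1 : R) • comb T (c' - c) := by
        rw [one_smul, ← map_add]
        congr 1
        ext s
        simp
      rw [e2, form_add_of_orth hBs (hc _ he)]
      have := form_self_nonneg hBp (comb T (c' - c))
      nlinarith
    · simp only [not_forall, not_le] at hpos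
      obtain ⟨sneg, hsnegT, hsneg⟩ := hpos
      have hneg : ∃ s ∈ T, c s < 0 := ⟨sneg, hsnegT, hsneg⟩
      -- `T` has at least two elements
      have hcard : ∀ s ∈ T, (T.erase s).Nonempty := by
        intro s hs
        by_contra hemp
        rw [Finset.not_nonempty_iff_eq_empty] at hemp
        have hT1 : T = {s} := by
          ext v
          constructor
          · intro hv
            by_contra hvs
            have : v ∈ T.erase s := Finset.mem_erase.2 ⟨by simpa using hvs, hv⟩
            rw [hemp] at this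
            exact absurd this (Finset.notMem_empty v)
          · intro hv
            rw [Finset.mem_singleton] at hv
            rw [hv]; exact hs
        rw [hT1, tot_apply, Finset.sum_singleton] at hc1
        rw [hT1, Finset.mem_singleton] at hsnegT
        rw [hsnegT, hc1] at hsneg
        linarith
      have ihs : ∀ s ∈ T, ∃ m : V → R, (∀ v ∈ T.erase s, 0 ≤ m v) ∧ tot (T.erase s) m = 1 ∧
          ∀ c' : V → R, (∀ v ∈ T.erase s, 0 ≤ c' v) → tot (T.erase s) c' = 1 →
            B (comb (T.erase s) m) (comb (T.erase s) m) ≤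
              B (comb (T.erase s) c') (comb (T.erase s) c') := by
        intro s hs
        refine ih (T.erase s).card ?_ (T.erase s) rfl (hcard s hs)
        rw [← hTn]
        exact Finset.card_erase_lt_of_mem hs
      choose! m hm0 hm1 hmmin using ihs
      obtain ⟨sstar, hsstar, hstarmin⟩ := Finset.exists_min_image T
        (fun s => B (comb (T.erase s) (m s)) (comb (T.erase s) (m s))) hT
      set c₀ : V → R := Function.update (m sstar) sstar 0 with hc₀
      have hc₀s : c₀ sstar = 0 := by simp [hc₀]
      have hc₀eq : ∀ v ∈ T.erase sstar, c₀ v = m sstar v := by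
        intro v hv
        rw [hc₀, Function.update_of_ne (Finset.ne_of_mem_erase hv)]
      have hcomb₀ : comb T c₀ = comb (T.erase sstar) (m sstar) := by
        rw [← comb_erase T hc₀s, comb_apply, comb_apply]
        exact Finset.sum_congr rfl fun v hv => by rw [hc₀eq v hv]
      have htot₀ : tot T c₀ = 1 := by
        rw [← tot_erase T hc₀s, tot_apply, ← hm1 sstar hsstar, tot_apply]
        exact Finset.sum_congr rfl fun v hv => hc₀eq v hv
      refine ⟨c₀, ?_, htot₀, ?_⟩
      · intro s hs
        by_cases hss : s = sstar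
        · rw [hss, hc₀s]
        · rw [hc₀eq s (Finset.mem_erase.2 ⟨hss, hs⟩)]
          exact hm0 sstar hsstar s (Finset.mem_erase.2 ⟨hss, hs⟩)
      · intro c' hc'0 hc'1
        obtain ⟨s₁, hs₁, c'', hc''0, hc''1, hc''s, hle⟩ :=
          exists_exit hBs hBp T hc1 hc hneg hc'0 hc'1
        have h1 := hmmin s₁ hs₁ c'' (fun v hv => hc''0 v (Finset.mem_of_mem_erase hv))
          (by rw [tot_erase T hc''s, hc''1])
        rw [comb_erase T hc''s] at h1
        have h2 := hstarmin s₁ hs₁
        rw [hcomb₀]
        exact (h2.trans h1).trans hle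

/-- A positive definite quadratic form attains its minimum on the convex hull of a non-empty
finite set. -/
theorem exists_min_convexHull (hBs : ∀ y z : V, B y z = B z y)
    (hBp : ∀ y : V, y ≠ 0 → 0 < B y y) (T : Finset V) (hT : T.Nonempty) :
    ∃ y₀ ∈ convexHull R (T : Set V), ∀ y ∈ convexHull R (T : Set V), B y₀ y₀ ≤ B y y := by
  obtain ⟨c, hc0, hc1, hmin⟩ := exists_min_coeff hBs hBp T.card T rfl hT
  refine ⟨comb T c, ?_, fun y hy => ?_⟩
  · rw [Finset.mem_convexHull']
    exact ⟨c, hc0, by rw [← tot_apply]; exact hc1, by rw [comb_apply]⟩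
  · rw [Finset.mem_convexHull'] at hy
    obtain ⟨c', hc'0, hc'1, rfl⟩ := hy
    have := hmin c' hc'0 (by rw [tot_apply]; exact hc'1)
    rwa [comb_apply T c'] at this

end Groth.Agent.Lib.helper3.PolyMinL
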