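import Mathlib
import Groth.Agent.Lib.Helper3.SepClosedIn

/-!
# Tensor products of fields with a primary extension: zero divisors are nilpotent (helper3)

`k` separably closed in `K`, `L/k` arbitrary: every non-nilpotent element of `L ⊗[k] K` is a
non-zero-divisor (EGA IV 4.3.2 + absence of embedded primes).
-/

set_option autoImplicit false
set_option linter.style.haveILetI false
set_option linter.unusedSectionVars false
universe u
open TensorProduct

namespace Groth.Agent.Lib.helper3.PrimTensor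

/-- the tensor product of a rational function field with a field extension is a domain -/
theorem isDomain_fractionRing_mvPolynomial_tensor (k K : Type u) [Field k] [Field K] [Algebra k K]
    (σ : Type u) : IsDomain (FractionRing (MvPolynomial σ k) ⊗[k] K) := by
  set P := MvPolynomial σ k with hP
  set Lf := FractionRing P with hLf
  -- `P ⊗ K` is a polynomial ring over `K`
  let eS : (P ⊗[k] K) ≃ₐ[k] MvPolynomial σ K :=
    (Algebra.TensorProduct.comm k P K).trans
      ((MvPolynomial.algebraTensorAlgEquiv k K (σ := σ)).restrictScalars k)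
  haveI : IsDomain (P ⊗[k] K) := eS.injective.isDomain eS.toRingEquiv.toRingHom
  let φ : (P ⊗[k] K) →ₐ[k] (Lf ⊗[k] K) :=
    Algebra.TensorProduct.map (IsScalarTower.toAlgHom k P Lf) (AlgHom.id k K)
  letI algS : Algebra (P ⊗[k] K) (Lf ⊗[k] K) := φ.toRingHom.toAlgebra
  haveI : IsScalarTower P (P ⊗[k] K) (Lf ⊗[k] K) := IsScalarTower.of_algebraMap_eq fun p => by
    change algebraMap P (Lf ⊗[k] K) p = φ (algebraMap P (P ⊗[k] K) p)
    rw [Algebra.TensorProduct.algebraMap_apply, Algebra.TensorProduct.algebraMap_apply]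
    simp [φ]
  have hpo : Algebra.IsPushout P Lf (P ⊗[k] K) (Lf ⊗[k] K) :=
    Algebra.IsPushout.tensorProduct_tensorProduct k K P Lf (by
      ext c
      simp [algS, φ, RingHom.algebraMap_toAlgebra])
  haveI hpo' : Algebra.IsPushout P (P ⊗[k] K) Lf (Lf ⊗[k] K) := hpo.symm
  haveI hloc : IsLocalization (Algebra.algebraMapSubmonoid (P ⊗[k] K) (nonZeroDivisors P))
      (Lf ⊗[k] K) := (Algebra.isLocalization_iff_isPushout (nonZeroDivisors P) Lf).mpr hpo'
  refine IsLocalization.isDomain_of_le_nonZeroDivisors (R := P ⊗[k] K) (Lf ⊗[k] K)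
    (M := Algebra.algebraMapSubmonoid (P ⊗[k] K) (nonZeroDivisors P)) ?_
  rintro _ ⟨p, hp, rfl⟩
  have hinj : Function.Injective (algebraMap P (P ⊗[k] K)) := by
    have := Algebra.TensorProduct.includeLeft_injective (R := k) (S := k) (A := P) (B := K)
      (algebraMap k K).injective
    exact this
  refine mem_nonZeroDivisors_of_ne_zero ?_
  intro h0
  have : p = 0 := hinj (by rw [h0, map_zero])
  exact (nonZeroDivisors.ne_zero hp) this

set_option maxHeartbeats 800000 in
/-- **Zero divisors are nilpotent** in `L ⊗[k] K` when `k` is separably closed in `K`. -/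
theorem eq_zero_of_mul_eq_zero_of_not_isNilpotent {k K L : Type u} [Field k] [Field K] [Field L]
    [Algebra k K] [Algebra k L] (h : separableClosure k K = ⊥) (z w : L ⊗[k] K)
    (hz : ¬ IsNilpotent z) (hzw : z * w = 0) : w = 0 := by
  classical
  obtain ⟨s, hs⟩ := exists_isTranscendenceBasis k L
  set L₀ := IntermediateField.adjoin k (Set.range ((↑) : s → L)) with hL₀
  haveI halg₀ : Algebra.IsAlgebraic L₀ L := hs.isAlgebraic_field
  -- the rational function field
  let e₁ : FractionRing (MvPolynomial s k) ≃ₐ[k] L₀ := hs.1.aevalEquivField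
  let ψ : FractionRing (MvPolynomial s k) →ₐ[k] L := (IntermediateField.val L₀).comp e₁.toAlgHom
  letI algL₁ : Algebra (FractionRing (MvPolynomial s k)) L := ψ.toRingHom.toAlgebra
  haveI : IsScalarTower k (FractionRing (MvPolynomial s k)) L :=
    IsScalarTower.of_algebraMap_eq fun c => (ψ.commutes c).symm
  haveI halg : Algebra.IsAlgebraic (FractionRing (MvPolynomial s k)) L :=
    Algebra.IsAlgebraic.ringHom_of_comp_eq (R := L₀) (A := L) (e₁.symm : L₀ →+* _)
      (RingHom.id L) e₁.symm.injective Function.surjective_id (by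
        ext c
        change ψ (e₁.symm c) = (c : L)
        simp [ψ])
  set L₁ := FractionRing (MvPolynomial s k) with hL₁
  haveI : Algebra.IsIntegral L₁ L := inferInstance
  haveI hdom : IsDomain (L₁ ⊗[k] K) := isDomain_fractionRing_mvPolynomial_tensor k K s
  -- `E` over `E₁`
  let φ : (L₁ ⊗[k] K) →ₐ[k] (L ⊗[k] K) :=
    Algebra.TensorProduct.map (IsScalarTower.toAlgHom k L₁ L) (AlgHom.id k K)
  letI algE : Algebra (L₁ ⊗[k] K) (L ⊗[k] K) := φ.toRingHom.toAlgebra
  haveI : IsScalarTower L₁ (L₁ ⊗[k] K) (L ⊗[k] K) := IsScalarTower.of_algebraMap_eq fun p => by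
    change algebraMap L₁ (L ⊗[k] K) p = φ (algebraMap L₁ (L₁ ⊗[k] K) p)
    rw [Algebra.TensorProduct.algebraMap_apply, Algebra.TensorProduct.algebraMap_apply]
    simp [φ]
  haveI hpo : Algebra.IsPushout L₁ L (L₁ ⊗[k] K) (L ⊗[k] K) :=
    Algebra.IsPushout.tensorProduct_tensorProduct k K L₁ L (by
      ext c
      simp [algE, φ, RingHom.algebraMap_toAlgebra])
  haveI hint : Algebra.IsIntegral (L₁ ⊗[k] K) (L ⊗[k] K) :=
    Algebra.IsPushout.isIntegral L₁ (L₁ ⊗[k] K) L (L ⊗[k] K)
  haveI hpo' : Algebra.IsPushout L₁ (L₁ ⊗[k] K) L (L ⊗[k] K) := hpo.symm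
  haveI hflat : Module.Flat (L₁ ⊗[k] K) (L ⊗[k] K) :=
    Module.Flat.isBaseChange L₁ (L₁ ⊗[k] K) L (L ⊗[k] K) hpo'.out
  -- irreducibility: the nilradical is prime
  haveI hirr : IrreducibleSpace (PrimeSpectrum (L ⊗[k] K)) :=
    SepClosedIn.geomIrr_of_separableClosure_eq_bot h L
  have hprime : (nilradical (L ⊗[k] K)).IsPrime :=
    PrimeSpectrum.irreducibleSpace_iff_isPrime_nilradical.mp hirr
  -- an integral equation for `z`
  obtain ⟨p, hpm, hpz⟩ := hint.isIntegral z
  -- factor out the largest power of `X`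
  obtain ⟨j, q, hq0, hpq⟩ : ∃ (j : ℕ) (q : Polynomial (L₁ ⊗[k] K)), q.coeff 0 ≠ 0 ∧
      p = Polynomial.X ^ j * q := by
    have hp0 : p ≠ 0 := hpm.ne_zero
    obtain ⟨q, hq⟩ := Polynomial.exists_eq_pow_rootMultiplicity_mul_and_not_dvd p hp0 0
    refine ⟨p.rootMultiplicity 0, q, ?_, ?_⟩
    · intro h0
      apply hq.2
      rw [map_zero, sub_zero]
      exact Polynomial.X_dvd_iff.mpr h0
    · have h1 := hq.1
      rw [map_zero, sub_zero] at h1
      exact h1
  have hzq : z ^ j * Polynomial.eval₂ (algebraMap (L₁ ⊗[k] K) (L ⊗[k] K)) z q = 0 := by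
    rw [hpq, Polynomial.eval₂_mul, Polynomial.eval₂_pow, Polynomial.eval₂_X] at hpz
    exact hpz
  -- `q(z)` is nilpotent
  have hqnil : Polynomial.eval₂ (algebraMap (L₁ ⊗[k] K) (L ⊗[k] K)) z q ∈
      nilradical (L ⊗[k] K) := by
    have hmem : z ^ j * Polynomial.eval₂ (algebraMap (L₁ ⊗[k] K) (L ⊗[k] K)) z q ∈
        nilradical (L ⊗[k] K) := by rw [hzq]; exact Ideal.zero_mem _
    rcases hprime.mem_or_mem hmem with h1 | h1
    · exact absurd (mem_nilradical.mp (hprime.mem_of_pow_mem j h1)) hz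
    · exact h1
  obtain ⟨m, hm⟩ := mem_nilradical.mp hqnil
  -- `q(z) w = q(0) w`
  have hqw : Polynomial.eval₂ (algebraMap (L₁ ⊗[k] K) (L ⊗[k] K)) z q * w =
      algebraMap (L₁ ⊗[k] K) (L ⊗[k] K) (q.coeff 0) * w := by
    rw [Polynomial.eval₂_eq_sum_range, Finset.sum_mul, Finset.sum_range_succ']
    have hrest : ∀ i ∈ Finset.range q.natDegree,
        algebraMap (L₁ ⊗[k] K) (L ⊗[k] K) (q.coeff (i + 1)) * z ^ (i + 1) * w = 0 := by
      intro i _
      rw [pow_succ, mul_assoc, mul_assoc, hzw, mul_zero, mul_zero]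
    rw [Finset.sum_eq_zero hrest, zero_add, pow_zero, mul_one]
  have hpow : ∀ n : ℕ, Polynomial.eval₂ (algebraMap (L₁ ⊗[k] K) (L ⊗[k] K)) z q ^ n * w =
      algebraMap (L₁ ⊗[k] K) (L ⊗[k] K) (q.coeff 0 ^ n) * w := by
    intro n
    induction n with
    | zero => simp
    | succ n ih =>
      rw [pow_succ, mul_assoc, hqw, ← mul_assoc, mul_comm _ (algebraMap _ _ (q.coeff 0)),
        mul_assoc, ih, ← mul_assoc, ← map_mul, ← pow_succ']
  have hkill : algebraMap (L₁ ⊗[k] K) (L ⊗[k] K) (q.coeff 0 ^ m) * w = 0 := by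
    rw [← hpow m, hm, zero_mul]
  have hreg : IsSMulRegular (L₁ ⊗[k] K) (q.coeff 0 ^ m) :=
    (IsRegular.of_ne_zero (pow_ne_zero m hq0)).left.isSMulRegular
  have hreg' : IsSMulRegular (L ⊗[k] K) (algebraMap (L₁ ⊗[k] K) (L ⊗[k] K) (q.coeff 0 ^ m)) :=
    IsSMulRegular.of_flat hreg
  apply hreg'
  change algebraMap (L₁ ⊗[k] K) (L ⊗[k] K) (q.coeff 0 ^ m) * w =
    algebraMap (L₁ ⊗[k] K) (L ⊗[k] K) (q.coeff 0 ^ m) * 0
  rw [hkill, mul_zero]

end Groth.Agent.Lib.helper3.PrimTensor
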