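import Mathlib
import Groth.Agent.Lib.Helper3.FlatArtCore
import Groth.Agent.Lib.Helper3.PrimTensor

/-!
# Ring-level core for the "primary residue extension" variant of EGA IV 11.4 (helper3)

* `algebraMap_coeff_eq_zero'`: the core lemma of `FlatArtCore` for an arbitrary multiplicative set
  `T` acting injectively on `M'/𝔪''M'`.
* `mem_of_mul_mem_of_sepClosed`: if the residue field of `A₀` is separably closed in that of `B`,
  then any `t` outside a prime `𝔫 ⊇ 𝔯 = 𝔪_B B' + 𝔪_{A''} B'` is a non-zero-divisor modulo `𝔯`.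
-/

set_option autoImplicit false
set_option linter.style.haveILetI false
set_option linter.unusedSectionVars false
universe u
open TensorProduct IsLocalRing

namespace Groth.Agent.Lib.helper3.PrimCore1

open Groth.Agent.Lib.helper3.FlatLocT Groth.Agent.Lib.helper3.FlatArtCore

section Main

variable {A₀ A'' B B' : Type u} [CommRing A₀] [CommRing A''] [CommRing B] [CommRing B']
  [IsLocalRing A₀] [IsLocalRing A''] [IsLocalRing B] [IsNoetherianRing B]
  [Algebra A₀ A''] [IsLocalHom (algebraMap A₀ A'')] [Algebra A₀ B] [Algebra B B']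
  [Algebra A'' B'] [Algebra A₀ B']
  [IsScalarTower A₀ B B'] [IsScalarTower A₀ A'' B'] [hpo : Algebra.IsPushout A₀ B A'' B']
  {M₁ M' : Type u} [AddCommGroup M₁] [Module B M₁] [Module A₀ M₁] [IsScalarTower A₀ B M₁]
  [Module.Finite B M₁]
  [AddCommGroup M'] [Module B' M'] [Module B M'] [Module A'' M'] [Module A₀ M']
  [IsScalarTower B B' M'] [IsScalarTower A'' B' M'] [IsScalarTower A₀ B' M']
  [IsScalarTower A₀ B M'] [IsScalarTower A₀ A'' M']
  (ψ : M₁ →ₗ[B] M') (hψ : IsBaseChange B' ψ)

include hpo hψ in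
/-- **Core lemma, general multiplicative set.** -/
theorem algebraMap_coeff_eq_zero' (T : Submonoid B')
    (hflatN : Module.Flat A'' (LocalizedModule T M'))
    (hT : ∀ t ∈ T, ∀ y : M', t • y ∈ (maximalIdeal A'' • ⊤ : Submodule A'' M') →
      y ∈ (maximalIdeal A'' • ⊤ : Submodule A'' M'))
    {Λ : Type u} (v : Λ → M₁)
    (hv : ∀ l : Λ →₀ A₀, Finsupp.linearCombination A₀ v l ∈
      (maximalIdeal A₀ • ⊤ : Submodule A₀ M₁) → ∀ i, l i ∈ maximalIdeal A₀)
    (l : Λ →₀ A₀) (hl : Finsupp.linearCombination A₀ v l = 0) :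
    ∀ i, algebraMap A₀ A'' (l i) = 0 := by
  classical
  let w : Λ → LocalizedModule T M' := fun i => LocalizedModule.mkLinearMap T M' (ψ (v i))
  have hsm : ∀ (a : A'') (m : M'), a • LocalizedModule.mkLinearMap T M' m =
      LocalizedModule.mkLinearMap T M' (a • m) := fun a m =>
    (LinearMap.map_smul_of_tower _ a m).symm
  have hcomb : ∀ (s : Finset Λ) (g : Λ → A''), ∑ i ∈ s, g i • w i =
      LocalizedModule.mkLinearMap T M' (∑ i ∈ s, g i • ψ (v i)) := by
    intro s g
    rw [map_sum]
    exact Finset.sum_congr rfl fun i _ => hsm _ _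
  have hli : LinearIndependent A'' w := by
    refine linearIndependent_of_flat_of_mem_smul w (fun l'' hmem => ?_)
    rw [Finsupp.linearCombination_apply, Finsupp.sum, hcomb] at hmem
    obtain ⟨t, ht⟩ := exists_smul_mem_of_mk_mem_smul_top T (maximalIdeal A'') _ hmem
    have hy := hT t t.2 _ ht
    have hθ := theta_eq_zero_of_mem (A₀ := A₀) ψ hψ _ hy
    rw [map_sum] at hθ
    simp only [theta_smul] at hθ
    exact coeff_mem_of_sum_tmul_eq_zero v hv l'' hθ
  have hrel : ∑ i ∈ l.support, (algebraMap A₀ A'' (l i)) • w i = 0 := by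
    rw [hcomb]
    have h1 : ∑ i ∈ l.support, (algebraMap A₀ A'' (l i)) • ψ (v i) =
        ψ (Finsupp.linearCombination A₀ v l) := by
      rw [Finsupp.linearCombination_apply, Finsupp.sum, map_sum]
      refine Finset.sum_congr rfl fun i _ => ?_
      rw [algebraMap_smul]
      exact (LinearMap.map_smul_of_tower ψ (l i) (v i)).symm
    rw [h1, hl, map_zero, map_zero]
  intro i
  by_cases hi : i ∈ l.support
  · exact linearIndependent_iff'.mp hli l.support _ hrel i hi
  · rw [Finsupp.notMem_support_iff.mp hi, map_zero]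

end Main

section NZD

variable {A₀ A'' B B' : Type u} [CommRing A₀] [CommRing A''] [CommRing B] [CommRing B']
  [IsLocalRing A₀] [IsLocalRing A''] [IsLocalRing B]
  [Algebra A₀ A''] [IsLocalHom (algebraMap A₀ A'')] [Algebra A₀ B] [IsLocalHom (algebraMap A₀ B)]
  [Algebra B B'] [Algebra A'' B'] [Algebra A₀ B']
  [IsScalarTower A₀ B B'] [IsScalarTower A₀ A'' B'] [hpo : Algebra.IsPushout A₀ B A'' B']

include hpo in
/-- the kernel of `B' → k'' ⊗_{k₀} K` is `𝔯`, and elements outside a prime containing `𝔯` are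
non-zero-divisors mod `𝔯` when `k₀` is separably closed in `K`. -/
theorem mem_of_mul_mem_of_sepClosed
    (hsep : separableClosure (ResidueField A₀) (ResidueField B) = ⊥)
    (𝔫 : Ideal B') [𝔫.IsPrime]
    (h𝔫 : (maximalIdeal B).map (algebraMap B B') ⊔
      (maximalIdeal A'').map (algebraMap A'' B') ≤ 𝔫)
    {t : B'} (ht : t ∉ 𝔫) {b' : B'}
    (h : t * b' ∈ (maximalIdeal B).map (algebraMap B B') ⊔
      (maximalIdeal A'').map (algebraMap A'' B')) :
    b' ∈ (maximalIdeal B).map (algebraMap B B') ⊔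
      (maximalIdeal A'').map (algebraMap A'' B') := by
  classical
  set 𝔯 := (maximalIdeal B).map (algebraMap B B') ⊔ (maximalIdeal A'').map (algebraMap A'' B')
    with h𝔯
  -- the maps into `Ec = k'' ⊗ K`
  let fB : B →ₐ[A₀] (ResidueField A'' ⊗[ResidueField A₀] ResidueField B) :=
    { toRingHom := (Algebra.TensorProduct.includeRight :
        ResidueField B →ₐ[ResidueField A₀]
          (ResidueField A'' ⊗[ResidueField A₀] ResidueField B)).toRingHom.comp (residue B)
      commutes' := fun a => by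
        change (1 : ResidueField A'') ⊗ₜ[ResidueField A₀] residue B (algebraMap A₀ B a) = _
        rw [Algebra.TensorProduct.algebraMap_apply]
        have h1 : residue B (algebraMap A₀ B a) = residue A₀ a • (1 : ResidueField B) := by
          rw [Algebra.smul_def, mul_one]; rfl
        have h2 : algebraMap A₀ (ResidueField A'') a =
            residue A₀ a • (1 : ResidueField A'') := by
          rw [Algebra.smul_def, mul_one]; rfl
        rw [h1, h2, TensorProduct.smul_tmul] }
  let fA : A'' →ₐ[A₀] (ResidueField A'' ⊗[ResidueField A₀] ResidueField B) :=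
    { toRingHom := (Algebra.TensorProduct.includeLeft :
        ResidueField A'' →ₐ[ResidueField A₀]
          (ResidueField A'' ⊗[ResidueField A₀] ResidueField B)).toRingHom.comp (residue A'')
      commutes' := fun a => by
        change residue A'' (algebraMap A₀ A'' a) ⊗ₜ[ResidueField A₀] (1 : ResidueField B) = _
        rw [Algebra.TensorProduct.algebraMap_apply]
        rfl }
  let τ : B' →ₐ[A₀] (ResidueField A'' ⊗[ResidueField A₀] ResidueField B) :=
    Algebra.pushoutDesc B' fB fA (fun _ _ => mul_comm _ _)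
  have hτB : ∀ b : B, τ (algebraMap B B' b) = (1 : ResidueField A'') ⊗ₜ residue B b := fun b =>
    Algebra.pushoutDesc_left B' fB fA _ b
  have hτA : ∀ a : A'', τ (algebraMap A'' B' a) = residue A'' a ⊗ₜ (1 : ResidueField B) :=
    fun a => Algebra.pushoutDesc_right B' fB fA _ a
  -- the ring homs to `B'/𝔯`
  have h0 : ∀ a ∈ maximalIdeal A₀, ((Ideal.Quotient.mk 𝔯).comp (algebraMap A₀ B')) a = 0 := by
    intro a ha
    rw [RingHom.comp_apply, Ideal.Quotient.eq_zero_iff_mem, IsScalarTower.algebraMap_apply A₀ B B']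
    refine le_sup_left (a := (maximalIdeal B).map (algebraMap B B')) (Ideal.mem_map_of_mem _ ?_)
    have hloc : IsLocalHom (algebraMap A₀ B) := inferInstance
    have hle : (maximalIdeal A₀).map (algebraMap A₀ B) ≤ maximalIdeal B :=
      ((local_hom_TFAE (algebraMap A₀ B)).out 0 2).mp hloc
    exact hle (Ideal.mem_map_of_mem _ ha)
  have hB0 : ∀ b ∈ maximalIdeal B, ((Ideal.Quotient.mk 𝔯).comp (algebraMap B B')) b = 0 := by
    intro b hb
    rw [RingHom.comp_apply, Ideal.Quotient.eq_zero_iff_mem]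
    exact le_sup_left (a := (maximalIdeal B).map (algebraMap B B')) (Ideal.mem_map_of_mem _ hb)
  have hA0 : ∀ a ∈ maximalIdeal A'', ((Ideal.Quotient.mk 𝔯).comp (algebraMap A'' B')) a = 0 := by
    intro a ha
    rw [RingHom.comp_apply, Ideal.Quotient.eq_zero_iff_mem]
    exact le_sup_right (b := (maximalIdeal A'').map (algebraMap A'' B'))
      (Ideal.mem_map_of_mem _ ha)
  let φ₀ : ResidueField A₀ →+* B' ⧸ 𝔯 := Ideal.Quotient.lift (maximalIdeal A₀) _ h0
  let φK : ResidueField B →+* B' ⧸ 𝔯 := Ideal.Quotient.lift (maximalIdeal B) _ hB0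
  let φk : ResidueField A'' →+* B' ⧸ 𝔯 := Ideal.Quotient.lift (maximalIdeal A'') _ hA0
  letI algQ : Algebra (ResidueField A₀) (B' ⧸ 𝔯) := φ₀.toAlgebra
  let σK : ResidueField B →ₐ[ResidueField A₀] B' ⧸ 𝔯 :=
    { toRingHom := φK
      commutes' := fun r => by
        obtain ⟨a, rfl⟩ := residue_surjective r
        change Ideal.Quotient.mk 𝔯 (algebraMap B B' (algebraMap A₀ B a)) =
          Ideal.Quotient.mk 𝔯 (algebraMap A₀ B' a)
        rw [← IsScalarTower.algebraMap_apply] }
  let σk : ResidueField A'' →ₐ[ResidueField A₀] B' ⧸ 𝔯 :=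
    { toRingHom := φk
      commutes' := fun r => by
        obtain ⟨a, rfl⟩ := residue_surjective r
        change Ideal.Quotient.mk 𝔯 (algebraMap A'' B' (algebraMap A₀ A'' a)) =
          Ideal.Quotient.mk 𝔯 (algebraMap A₀ B' a)
        rw [← IsScalarTower.algebraMap_apply] }
  let σ : (ResidueField A'' ⊗[ResidueField A₀] ResidueField B) →ₐ[ResidueField A₀] B' ⧸ 𝔯 :=
    Algebra.TensorProduct.lift σk σK (fun _ _ => Commute.all _ _)
  have hστ : ∀ x : B', σ (τ x) = Ideal.Quotient.mk 𝔯 x := by
    intro x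
    refine hpo.out.inductionOn x (fun x => σ (τ x) = Ideal.Quotient.mk 𝔯 x) ?_ ?_ ?_ ?_
    · rw [map_zero, map_zero, map_zero]
    · intro a
      change σ (τ (algebraMap A'' B' a)) = _
      rw [hτA, Algebra.TensorProduct.lift_tmul, map_one, mul_one]
      rfl
    · intro b n hn
      rw [Algebra.smul_def, map_mul, map_mul, map_mul, hn, hτB,
        Algebra.TensorProduct.lift_tmul, map_one, one_mul]
      rfl
    · intro n₁ n₂ h₁ h₂
      rw [map_add, map_add, map_add, h₁, h₂]
  have hker : ∀ x : B', τ x = 0 → x ∈ 𝔯 := by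
    intro x hx
    rw [← Ideal.Quotient.eq_zero_iff_mem, ← hστ, hx, map_zero]
  have hker' : ∀ x ∈ 𝔯, τ x = 0 := by
    intro x hx
    obtain ⟨x₁, hx₁, x₂, hx₂, rfl⟩ := Submodule.mem_sup.mp hx
    have e1 : τ x₁ = 0 := by
      refine Submodule.span_induction (p := fun x _ => τ x = 0) ?_ ?_ ?_ ?_ hx₁
      · rintro _ ⟨β, hβ, rfl⟩
        rw [hτB]
        have : residue B β = 0 := Ideal.Quotient.eq_zero_iff_mem.mpr hβ
        rw [this, TensorProduct.tmul_zero]
      · exact map_zero _
      · intro x y _ _ hx hy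
        rw [map_add, hx, hy, add_zero]
      · intro c x _ hx
        rw [smul_eq_mul, map_mul, hx, mul_zero]
    have e2 : τ x₂ = 0 := by
      refine Submodule.span_induction (p := fun x _ => τ x = 0) ?_ ?_ ?_ ?_ hx₂
      · rintro _ ⟨β, hβ, rfl⟩
        rw [hτA]
        have : residue A'' β = 0 := Ideal.Quotient.eq_zero_iff_mem.mpr hβ
        rw [this, TensorProduct.zero_tmul]
      · exact map_zero _
      · intro x y _ _ hx hy
        rw [map_add, hx, hy, add_zero]
      · intro c x _ hx
        rw [smul_eq_mul, map_mul, hx, mul_zero]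
    rw [map_add, e1, e2, add_zero]
  -- apply the field-theoretic lemma
  have hnil : ¬ IsNilpotent (τ t) := by
    rintro ⟨n, hn⟩
    rw [← map_pow] at hn
    exact ht (Ideal.IsPrime.mem_of_pow_mem inferInstance n (h𝔫 (hker _ hn)))
  have hmul : τ t * τ b' = 0 := by
    rw [← map_mul]
    exact hker' _ h
  exact hker _ (PrimTensor.eq_zero_of_mul_eq_zero_of_not_isNilpotent hsep _ _ hnil hmul)

end NZD

end Groth.Agent.Lib.helper3.PrimCore1
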