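import Mathlib
import Groth.Agent.Lib.Helper3.FlatArtCore
import Groth.Agent.Lib.Helper3.FlatAdicT1
import Groth.Agent.Lib.Helper3.PrimCore1

/-!
# Block P: elements outside a prime `𝔫 ⊇ 𝔯` act injectively on `M'/𝔪''M'` (helper3)
-/

set_option autoImplicit false
set_option linter.style.haveILetI false
set_option linter.unusedSectionVars false
universe u
open TensorProduct IsLocalRing

namespace Groth.Agent.Lib.helper3.PrimCore2

open Groth.Agent.Lib.helper3.FlatLocT Groth.Agent.Lib.helper3.FlatArtCore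
  Groth.Agent.Lib.helper3.PrimCore1

section General

variable {A'' B' : Type*} [CommRing A''] [CommRing B'] [IsLocalRing A''] [Algebra A'' B']
  {P Q : Type*} [AddCommGroup P] [AddCommGroup Q] [Module B' P] [Module B' Q]
  [Module A'' P] [Module A'' Q] [IsScalarTower A'' B' P] [IsScalarTower A'' B' Q]

theorem map_mem_mtop (φ : P →ₗ[B'] Q) {y : P}
    (hy : y ∈ (maximalIdeal A'' • ⊤ : Submodule A'' P)) :
    φ y ∈ (maximalIdeal A'' • ⊤ : Submodule A'' Q) := by
  refine Submodule.smul_induction_on hy (fun a ha m _ => ?_) (fun x y hx hy => ?_)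
  · rw [LinearMap.map_smul_of_tower]
    exact Submodule.smul_mem_smul ha trivial
  · rw [map_add]
    exact Submodule.add_mem _ hx hy

theorem smul_mem_mtop (b' : B') {y : P}
    (hy : y ∈ (maximalIdeal A'' • ⊤ : Submodule A'' P)) :
    b' • y ∈ (maximalIdeal A'' • ⊤ : Submodule A'' P) :=
  map_mem_mtop (LinearMap.lsmul B' P b') hy

theorem exists_mem_mtop_of_surjective (φ : P →ₗ[B'] Q) (hφ : Function.Surjective φ) {y' : Q}
    (hy' : y' ∈ (maximalIdeal A'' • ⊤ : Submodule A'' Q)) :
    ∃ y ∈ (maximalIdeal A'' • ⊤ : Submodule A'' P), φ y = y' := by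
  refine Submodule.smul_induction_on hy' (fun a ha m _ => ?_) (fun x y hx hy => ?_)
  · obtain ⟨m₀, rfl⟩ := hφ m
    exact ⟨a • m₀, Submodule.smul_mem_smul ha trivial, LinearMap.map_smul_of_tower φ a m₀⟩
  · obtain ⟨x₀, hx₀, rfl⟩ := hx
    obtain ⟨y₀, hy₀, rfl⟩ := hy
    exact ⟨x₀ + y₀, Submodule.add_mem _ hx₀ hy₀, map_add _ _ _⟩

end General

section BlockP

variable {A₀ A'' B B' : Type u} [CommRing A₀] [CommRing A''] [CommRing B] [CommRing B']
  [IsLocalRing A₀] [IsLocalRing A''] [IsLocalRing B]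
  [Algebra A₀ A''] [IsLocalHom (algebraMap A₀ A'')] [Algebra A₀ B] [IsLocalHom (algebraMap A₀ B)]
  [Algebra B B'] [Algebra A'' B'] [Algebra A₀ B']
  [IsScalarTower A₀ B B'] [IsScalarTower A₀ A'' B'] [hpo : Algebra.IsPushout A₀ B A'' B']

include hpo in
/-- (P3) injective maps between modules killed by `𝔪_{A₀}` stay injective mod `𝔪''`. -/
theorem mem_mtop_of_injective {X Y : Type u} [AddCommGroup X] [Module B X] [AddCommGroup Y]
    [Module B Y] (f : X →ₗ[B] Y) (hf : Function.Injective f)
    (hY : ∀ a ∈ maximalIdeal A₀, ∀ y : Y, algebraMap A₀ B a • y = 0)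
    {y : B' ⊗[B] X}
    (hy : f.baseChange B' y ∈ (maximalIdeal A'' • ⊤ : Submodule A'' (B' ⊗[B] Y))) :
    y ∈ (maximalIdeal A'' • ⊤ : Submodule A'' (B' ⊗[B] X)) := by
  letI : Module A₀ X := Module.compHom X (algebraMap A₀ B)
  letI : Module A₀ Y := Module.compHom Y (algebraMap A₀ B)
  haveI : IsScalarTower A₀ B X := IsScalarTower.of_algebraMap_smul fun _ _ => rfl
  haveI : IsScalarTower A₀ B Y := IsScalarTower.of_algebraMap_smul fun _ _ => rfl
  have hY' : ∀ a ∈ maximalIdeal A₀, ∀ y : Y, a • y = 0 := fun a ha y => hY a ha y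
  have hX : ∀ a ∈ maximalIdeal A₀, ∀ x : X, a • x = 0 := by
    intro a ha x
    apply hf
    rw [map_zero]
    change f (algebraMap A₀ B a • x) = 0
    rw [map_smul]
    exact hY a ha _
  have tX : Module.IsTorsionBySet A₀ X (maximalIdeal A₀ : Set A₀) := fun x a => hX a.1 a.2 x
  have tY : Module.IsTorsionBySet A₀ Y (maximalIdeal A₀ : Set A₀) := fun y a => hY' a.1 a.2 y
  letI mkX : Module (ResidueField A₀) X := tX.module
  letI mkY : Module (ResidueField A₀) Y := tY.module
  let f' : X →ₗ[ResidueField A₀] Y :=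
    { toFun := f
      map_add' := map_add f
      map_smul' := fun r x => by
        obtain ⟨a, rfl⟩ := residue_surjective r
        change f (a • x) = a • f x
        exact LinearMap.map_smul_of_tower f a x }
  obtain ⟨g, hg⟩ := f'.exists_leftInverse_of_injective (LinearMap.ker_eq_bot.mpr hf)
  let r : Y →ₗ[A₀] X :=
    { toFun := g
      map_add' := map_add g
      map_smul' := fun a y => by
        change g (residue A₀ a • y) = residue A₀ a • g y
        exact map_smul g _ _ }
  have hrf : r ∘ₗ (f.restrictScalars A₀) = LinearMap.id := by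
    ext x
    exact LinearMap.congr_fun hg x
  -- naturality of θ
  have hnat : ∀ z : B' ⊗[B] X,
      theta A₀ (TensorProduct.mk B B' Y 1) (TensorProduct.isBaseChange B Y B') (maximalIdeal A'')
        (f.baseChange B' z) =
      LinearMap.rTensor (A'' ⧸ maximalIdeal A'') (f.restrictScalars A₀)
        (theta A₀ (TensorProduct.mk B B' X 1) (TensorProduct.isBaseChange B X B')
          (maximalIdeal A'') z) := by
    intro z
    induction z using induction_on_base A₀ A'' (TensorProduct.mk B B' X 1)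
      (TensorProduct.isBaseChange B X B') with
    | h0 => simp
    | hgen a x =>
      rw [LinearMap.map_smul_of_tower, theta_smul]
      have : f.baseChange B' ((TensorProduct.mk B B' X 1) x) = (TensorProduct.mk B B' Y 1) (f x) := by
        simp
      rw [this, theta_smul]
      simp
    | hadd x y hx hy => rw [map_add, map_add, map_add, map_add, hx, hy]
  have h1 := theta_eq_zero_of_mem (A₀ := A₀) (TensorProduct.mk B B' Y 1)
    (TensorProduct.isBaseChange B Y B') _ hy
  rw [hnat] at h1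
  have h2 := congrArg (LinearMap.rTensor (A'' ⧸ maximalIdeal A'') r) h1
  rw [← LinearMap.comp_apply, ← LinearMap.rTensor_comp, hrf, LinearMap.rTensor_id, map_zero,
    LinearMap.id_apply] at h2
  exact mem_of_theta_eq_zero _ _ _ h2

/-- every element of `B' ⊗ B/𝔪_B` is `b' ⊗ 1` -/
theorem exists_eq_tmul_one (y : B' ⊗[B] (B ⧸ maximalIdeal B)) :
    ∃ b' : B', y = b' ⊗ₜ[B] (1 : B ⧸ maximalIdeal B) := by
  induction y using TensorProduct.induction_on with
  | zero => exact ⟨0, (TensorProduct.zero_tmul _ _).symm⟩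
  | tmul b' x =>
    obtain ⟨b, rfl⟩ := Ideal.Quotient.mk_surjective x
    refine ⟨b • b', ?_⟩
    rw [TensorProduct.smul_tmul]
    congr 1
    rw [Algebra.smul_def, mul_one]
    rfl
  | add x y hx hy =>
    obtain ⟨a, rfl⟩ := hx
    obtain ⟨b, rfl⟩ := hy
    exact ⟨a + b, (TensorProduct.add_tmul _ _ _).symm⟩

/-- (P4) the base case: the residue field of `B`. -/
theorem injMod_residue (t : B')
    (hNZD : ∀ b' : B', t * b' ∈ (maximalIdeal B).map (algebraMap B B') ⊔
        (maximalIdeal A'').map (algebraMap A'' B') →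
      b' ∈ (maximalIdeal B).map (algebraMap B B') ⊔ (maximalIdeal A'').map (algebraMap A'' B'))
    (y : B' ⊗[B] (B ⧸ maximalIdeal B))
    (hy : t • y ∈ (maximalIdeal A'' • ⊤ : Submodule A'' (B' ⊗[B] (B ⧸ maximalIdeal B)))) :
    y ∈ (maximalIdeal A'' • ⊤ : Submodule A'' (B' ⊗[B] (B ⧸ maximalIdeal B))) := by
  set 𝔯 := (maximalIdeal B).map (algebraMap B B') ⊔ (maximalIdeal A'').map (algebraMap A'' B')
    with h𝔯
  -- detection map
  have hφ0 : ∀ b ∈ maximalIdeal B, (Algebra.ofId B (B' ⧸ 𝔯)) b = 0 := by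
    intro b hb
    change Ideal.Quotient.mk 𝔯 (algebraMap B B' b) = 0
    rw [Ideal.Quotient.eq_zero_iff_mem]
    exact le_sup_left (a := (maximalIdeal B).map (algebraMap B B')) (Ideal.mem_map_of_mem _ hb)
  let φ : (B ⧸ maximalIdeal B) →ₗ[B] (B' ⧸ 𝔯) :=
    (Ideal.Quotient.liftₐ (maximalIdeal B) (Algebra.ofId B (B' ⧸ 𝔯)) hφ0).toLinearMap
  let δ : B' ⊗[B] (B ⧸ maximalIdeal B) →ₗ[B'] (B' ⧸ 𝔯) := LinearMap.liftBaseChange B' φ
  have hδ1 : ∀ b' : B', δ (b' ⊗ₜ[B] (1 : B ⧸ maximalIdeal B)) = Ideal.Quotient.mk 𝔯 b' := by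
    intro b'
    rw [LinearMap.liftBaseChange_tmul]
    have : φ 1 = 1 := map_one (Ideal.Quotient.liftₐ (maximalIdeal B) (Algebra.ofId B (B' ⧸ 𝔯)) hφ0)
    rw [this, Algebra.smul_def, mul_one]
    rfl
  have hδ0 : ∀ z ∈ (maximalIdeal A'' • ⊤ : Submodule A'' (B' ⊗[B] (B ⧸ maximalIdeal B))),
      δ z = 0 := by
    intro z hz
    refine Submodule.smul_induction_on hz (fun a ha m _ => ?_) (fun x y hx hy => ?_)
    · rw [LinearMap.map_smul_of_tower, Algebra.smul_def]
      have : algebraMap A'' (B' ⧸ 𝔯) a = 0 := by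
        change Ideal.Quotient.mk 𝔯 (algebraMap A'' B' a) = 0
        rw [Ideal.Quotient.eq_zero_iff_mem]
        exact le_sup_right (b := (maximalIdeal A'').map (algebraMap A'' B'))
          (Ideal.mem_map_of_mem _ ha)
      rw [this, zero_mul]
    · rw [map_add, hx, hy, add_zero]
  obtain ⟨b', rfl⟩ := exists_eq_tmul_one y
  have h1 : t * b' ∈ 𝔯 := by
    rw [← Ideal.Quotient.eq_zero_iff_mem, ← hδ1]
    have := hδ0 _ hy
    rwa [TensorProduct.smul_tmul', smul_eq_mul] at this
  obtain ⟨r₁, hr₁, r₂, hr₂, rfl⟩ := Submodule.mem_sup.mp (hNZD b' h1)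
  rw [TensorProduct.add_tmul]
  have e1 : ∀ c : B', (c * r₁) ⊗ₜ[B] (1 : B ⧸ maximalIdeal B) = 0 := by
    refine Submodule.span_induction (p := fun x _ => ∀ c : B',
      (c * x) ⊗ₜ[B] (1 : B ⧸ maximalIdeal B) = 0) ?_ ?_ ?_ ?_ hr₁
    · rintro _ ⟨β, hβ, rfl⟩ c
      have h3 : c * algebraMap B B' β = β • c := by rw [Algebra.smul_def, mul_comm]
      rw [h3, TensorProduct.smul_tmul]
      have h4 : β • (1 : B ⧸ maximalIdeal B) = 0 := by
        rw [Algebra.smul_def, mul_one]
        exact Ideal.Quotient.eq_zero_iff_mem.mpr hβ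
      rw [h4, TensorProduct.tmul_zero]
    · intro c
      rw [mul_zero, TensorProduct.zero_tmul]
    · intro x y _ _ hx hy c
      rw [mul_add, TensorProduct.add_tmul, hx, hy, add_zero]
    · intro c' x _ hx c
      rw [smul_eq_mul, ← mul_assoc]
      exact hx _
  have e2 : ∀ c : B', (c * r₂) ⊗ₜ[B] (1 : B ⧸ maximalIdeal B) ∈
      (maximalIdeal A'' • ⊤ : Submodule A'' (B' ⊗[B] (B ⧸ maximalIdeal B))) := by
    refine Submodule.span_induction (p := fun x _ => ∀ c : B',
      (c * x) ⊗ₜ[B] (1 : B ⧸ maximalIdeal B) ∈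
        (maximalIdeal A'' • ⊤ : Submodule A'' (B' ⊗[B] (B ⧸ maximalIdeal B)))) ?_ ?_ ?_ ?_ hr₂
    · rintro _ ⟨α, hα, rfl⟩ c
      have h3 : c * algebraMap A'' B' α = α • c := by rw [Algebra.smul_def, mul_comm]
      rw [h3, ← TensorProduct.smul_tmul']
      exact Submodule.smul_mem_smul hα trivial
    · intro c
      rw [mul_zero, TensorProduct.zero_tmul]
      exact Submodule.zero_mem _
    · intro x y _ _ hx hy c
      rw [mul_add, TensorProduct.add_tmul]
      exact Submodule.add_mem _ (hx c) (hy c)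
    · intro c' x _ hx c
      rw [smul_eq_mul, ← mul_assoc]
      exact hx _
  have e1' := e1 1
  have e2' := e2 1
  rw [one_mul] at e1' e2'
  rw [e1', zero_add]
  exact e2'

theorem eq_zero_of_subsingleton {X : Type u} [AddCommGroup X] [Module B X] [Subsingleton X]
    (y : B' ⊗[B] X) : y = 0 := by
  induction y using TensorProduct.induction_on with
  | zero => rfl
  | tmul b x => rw [Subsingleton.elim x 0, TensorProduct.tmul_zero]
  | add x y hx hy => rw [hx, hy, add_zero]

include hpo in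
/-- (P6) finite-length modules killed by `𝔪_{A₀}`. -/
theorem injMod_of_isFiniteLength (t : B')
    (hNZD : ∀ b' : B', t * b' ∈ (maximalIdeal B).map (algebraMap B B') ⊔
        (maximalIdeal A'').map (algebraMap A'' B') →
      b' ∈ (maximalIdeal B).map (algebraMap B B') ⊔ (maximalIdeal A'').map (algebraMap A'' B'))
    {X : Type u} [AddCommGroup X] [Module B X] (hfl : IsFiniteLength B X)
    (hX : ∀ a ∈ maximalIdeal A₀, ∀ x : X, algebraMap A₀ B a • x = 0)
    (y : B' ⊗[B] X) (hy : t • y ∈ (maximalIdeal A'' • ⊤ : Submodule A'' (B' ⊗[B] X))) :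
    y ∈ (maximalIdeal A'' • ⊤ : Submodule A'' (B' ⊗[B] X)) := by
  induction hfl with
  | of_subsingleton =>
    rw [eq_zero_of_subsingleton y]
    exact Submodule.zero_mem _
  | @of_simple_quotient M _ _ N hs _ ih =>
    have ihN := ih (fun a ha x => Subtype.ext (hX a ha x.1))
    obtain ⟨I, hI, ⟨e⟩⟩ := isSimpleModule_iff_quot_maximal.mp hs
    have hIm : I = maximalIdeal B := IsLocalRing.eq_maximalIdeal hI
    subst hIm
    have hQ : ∀ y : B' ⊗[B] (M ⧸ N),
        t • y ∈ (maximalIdeal A'' • ⊤ : Submodule A'' (B' ⊗[B] (M ⧸ N))) →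
        y ∈ (maximalIdeal A'' • ⊤ : Submodule A'' (B' ⊗[B] (M ⧸ N))) := by
      intro y hy
      have h0 : t • (e.toLinearMap.baseChange B' y) ∈
          (maximalIdeal A'' • ⊤ : Submodule A'' (B' ⊗[B] (B ⧸ maximalIdeal B))) := by
        rw [← map_smul]
        exact map_mem_mtop (e.toLinearMap.baseChange B') hy
      have h1 := injMod_residue t hNZD _ h0
      have h2 := map_mem_mtop (e.symm.toLinearMap.baseChange B') h1
      have h3 : e.symm.toLinearMap.baseChange B' (e.toLinearMap.baseChange B' y) = y := by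
        rw [← LinearMap.comp_apply, ← LinearMap.baseChange_comp]
        simp
      rwa [h3] at h2
    have hgy := hQ (N.mkQ.baseChange B' y) (by
      rw [← map_smul]
      exact map_mem_mtop (N.mkQ.baseChange B') hy)
    have hsurj : Function.Surjective (N.mkQ.baseChange B') := by
      rw [LinearMap.baseChange_eq_ltensor]
      exact LinearMap.lTensor_surjective B' (Submodule.mkQ_surjective N)
    obtain ⟨y₁, hy₁, hy₁'⟩ := exists_mem_mtop_of_surjective (N.mkQ.baseChange B') hsurj hgy
    have hex : Function.Exact (N.subtype.baseChange B') (N.mkQ.baseChange B') := by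
      rw [LinearMap.baseChange_eq_ltensor, LinearMap.baseChange_eq_ltensor]
      exact lTensor_exact B' (LinearMap.exact_subtype_mkQ N) (Submodule.mkQ_surjective N)
    obtain ⟨z, hz⟩ := (hex (y - y₁)).mp (by rw [map_sub, hy₁', sub_self])
    have h4 : N.subtype.baseChange B' (t • z) ∈
        (maximalIdeal A'' • ⊤ : Submodule A'' (B' ⊗[B] M)) := by
      rw [map_smul, hz, smul_sub]
      exact Submodule.sub_mem _ hy (smul_mem_mtop t hy₁)
    have h5 := mem_mtop_of_injective N.subtype Subtype.val_injective hX h4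
    have h6 := ihN z h5
    have h7 := map_mem_mtop (N.subtype.baseChange B') h6
    have h8 : y = N.subtype.baseChange B' z + y₁ := by rw [hz]; abel
    rw [h8]
    exact Submodule.add_mem _ h7 hy₁

/-- quotients of finite modules over a Noetherian local ring by `𝔪`-primary ideals have finite
length -/
theorem isFiniteLength_quotient [IsNoetherianRing B] {M₁ : Type u} [AddCommGroup M₁] [Module B M₁]
    [Module.Finite B M₁] (I : Ideal B) (n : ℕ) (hI : maximalIdeal B ^ n ≤ I) :
    IsFiniteLength B (M₁ ⧸ (I • ⊤ : Submodule B M₁)) := by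
  by_cases hI' : I = ⊤
  · haveI : Subsingleton (M₁ ⧸ (I • ⊤ : Submodule B M₁)) := by
      rw [hI', Submodule.top_smul]
      exact Submodule.Quotient.subsingleton_iff.mpr rfl
    exact .of_subsingleton
  · haveI := FlatAdicT1.isLocalRing_quotient I hI'
    haveI := FlatAdicT1.isArtinianRing_quotient I n hI
    haveI : Module.Finite (B ⧸ I) (M₁ ⧸ (I • ⊤ : Submodule B M₁)) :=
      Module.Finite.of_restrictScalars_finite B (B ⧸ I) _
    haveI : IsArtinian (B ⧸ I) (M₁ ⧸ (I • ⊤ : Submodule B M₁)) := inferInstance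
    haveI : IsArtinian B (M₁ ⧸ (I • ⊤ : Submodule B M₁)) :=
      isArtinian_of_surjective_algebraMap (R := B ⧸ I) Ideal.Quotient.mk_surjective
    exact isFiniteLength_iff_isNoetherian_isArtinian.mpr ⟨inferInstance, inferInstance⟩

end BlockP

section Final

variable {A₀ A'' B B' : Type u} [CommRing A₀] [CommRing A''] [CommRing B] [CommRing B']
  [IsLocalRing A₀] [IsLocalRing A''] [IsLocalRing B] [IsNoetherianRing B]
  [Algebra A₀ A''] [IsLocalHom (algebraMap A₀ A'')] [Algebra A₀ B] [IsLocalHom (algebraMap A₀ B)]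
  [Algebra B B'] [Algebra A'' B'] [Algebra A₀ B']
  [IsScalarTower A₀ B B'] [IsScalarTower A₀ A'' B'] [hpo : Algebra.IsPushout A₀ B A'' B']
  {M₁ M' : Type u} [AddCommGroup M₁] [Module B M₁] [Module A₀ M₁] [IsScalarTower A₀ B M₁]
  [Module.Finite B M₁]
  [AddCommGroup M'] [Module B' M'] [Module B M'] [Module A'' M'] [Module A₀ M']
  [IsScalarTower B B' M'] [IsScalarTower A'' B' M'] [IsScalarTower A₀ B' M']
  [IsScalarTower A₀ B M'] [IsScalarTower A₀ A'' M']
  (ψ : M₁ →ₗ[B] M') (hψ : IsBaseChange B' ψ)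

include hpo in
/-- (P7), concrete tensor product. -/
theorem mem_mtop_of_smul_mem_tensor (t : B')
    (hNZD : ∀ b' : B', t * b' ∈ (maximalIdeal B).map (algebraMap B B') ⊔
        (maximalIdeal A'').map (algebraMap A'' B') →
      b' ∈ (maximalIdeal B).map (algebraMap B B') ⊔ (maximalIdeal A'').map (algebraMap A'' B'))
    (y : B' ⊗[B] M₁) (hy : t • y ∈ (maximalIdeal A'' • ⊤ : Submodule A'' (B' ⊗[B] M₁))) :
    y ∈ (maximalIdeal A'' • ⊤ : Submodule A'' (B' ⊗[B] M₁)) := by
  set J := (maximalIdeal A'').map (algebraMap A'' B') with hJ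
  have hK1 : ∀ n : ℕ, y ∈ (((maximalIdeal B) ^ n).map (algebraMap B B') ⊔ J) •
      (⊤ : Submodule B' (B' ⊗[B] M₁)) := by
    intro n
    set I : Ideal B := maximalIdeal B ^ n ⊔ (maximalIdeal A₀).map (algebraMap A₀ B) with hI
    set N : Submodule B M₁ := I • ⊤ with hN
    have hfl : IsFiniteLength B (M₁ ⧸ N) := isFiniteLength_quotient I n le_sup_left
    have hkill : ∀ a ∈ maximalIdeal A₀, ∀ x : M₁ ⧸ N, algebraMap A₀ B a • x = 0 := by
      intro a ha x
      obtain ⟨m, rfl⟩ := Submodule.Quotient.mk_surjective N x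
      rw [← Submodule.Quotient.mk_smul, Submodule.Quotient.mk_eq_zero]
      exact Submodule.smul_mem_smul
        (le_sup_right (a := maximalIdeal B ^ n) (Ideal.mem_map_of_mem _ ha)) trivial
    have h1 := injMod_of_isFiniteLength t hNZD hfl hkill (N.mkQ.baseChange B' y) (by
      rw [← map_smul]
      exact map_mem_mtop (N.mkQ.baseChange B') hy)
    have hsurj : Function.Surjective (N.mkQ.baseChange B') := by
      rw [LinearMap.baseChange_eq_ltensor]
      exact LinearMap.lTensor_surjective B' (Submodule.mkQ_surjective N)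
    obtain ⟨y₁, hy₁, hy₁'⟩ := exists_mem_mtop_of_surjective (N.mkQ.baseChange B') hsurj h1
    have hex : Function.Exact (N.subtype.baseChange B') (N.mkQ.baseChange B') := by
      rw [LinearMap.baseChange_eq_ltensor, LinearMap.baseChange_eq_ltensor]
      exact lTensor_exact B' (LinearMap.exact_subtype_mkQ N) (Submodule.mkQ_surjective N)
    obtain ⟨z, hz⟩ := (hex (y - y₁)).mp (by rw [map_sub, hy₁', sub_self])
    have hrange : ∀ z : B' ⊗[B] N, N.subtype.baseChange B' z ∈
        (I.map (algebraMap B B')) • (⊤ : Submodule B' (B' ⊗[B] M₁)) := by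
      intro z
      induction z using TensorProduct.induction_on with
      | zero =>
        rw [map_zero]
        exact Submodule.zero_mem _
      | tmul b' x =>
        rw [LinearMap.baseChange_tmul]
        obtain ⟨x, hx⟩ := x
        change b' ⊗ₜ[B] x ∈ _
        refine Submodule.smul_induction_on hx (fun β hβ m _ => ?_) (fun x₁ x₂ h₁ h₂ => ?_)
        · have h3 : b' ⊗ₜ[B] (β • m) = algebraMap B B' β • (b' ⊗ₜ[B] m) := by
            rw [TensorProduct.smul_tmul', smul_eq_mul, ← Algebra.smul_def,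
              TensorProduct.smul_tmul]
          rw [h3]
          exact Submodule.smul_mem_smul (Ideal.mem_map_of_mem _ hβ) trivial
        · rw [TensorProduct.tmul_add]
          exact Submodule.add_mem _ h₁ h₂
      | add x y hx hy =>
        rw [map_add]
        exact Submodule.add_mem _ hx hy
    have hIle : I.map (algebraMap B B') ≤ ((maximalIdeal B) ^ n).map (algebraMap B B') ⊔ J := by
      rw [hI, Ideal.map_sup]
      refine sup_le le_sup_left (le_trans ?_ le_sup_right)
      rw [Ideal.map_map, ← IsScalarTower.algebraMap_eq, IsScalarTower.algebraMap_eq A₀ A'' B',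
        ← Ideal.map_map]
      have hloc : IsLocalHom (algebraMap A₀ A'') := inferInstance
      exact Ideal.map_mono (((local_hom_TFAE (algebraMap A₀ A'')).out 0 2).mp hloc)
    have hy₁J : y₁ ∈ (J • ⊤ : Submodule B' (B' ⊗[B] M₁)) := by
      have h4 := FibreDescent.smul_top_eq_restrictScalars (maximalIdeal A'') B' (B' ⊗[B] M₁)
      rw [h4] at hy₁
      exact hy₁
    have h8 : y = N.subtype.baseChange B' z + y₁ := by rw [hz]; abel
    rw [h8]
    exact Submodule.add_mem _ (Submodule.smul_mono_left hIle (hrange z))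
      (Submodule.smul_mono_left le_sup_right hy₁J)
  have hK2 : theta A₀ (TensorProduct.mk B B' M₁ 1) (TensorProduct.isBaseChange B M₁ B')
      (maximalIdeal A'') y = 0 := by
    refine eq_zero_of_forall_mem_pow_smul (A₀ := A₀) (A'' := A'') (B := B) (M₁ := M₁) _
      (fun n => ?_)
    exact theta_mem_pow_smul _ _ n (hK1 n)
  exact mem_of_theta_eq_zero _ _ _ hK2

include hpo hψ in
/-- (P7), abstract base change. -/
theorem mem_mtop_of_smul_mem (t : B')
    (hNZD : ∀ b' : B', t * b' ∈ (maximalIdeal B).map (algebraMap B B') ⊔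
        (maximalIdeal A'').map (algebraMap A'' B') →
      b' ∈ (maximalIdeal B).map (algebraMap B B') ⊔ (maximalIdeal A'').map (algebraMap A'' B'))
    (y : M') (hy : t • y ∈ (maximalIdeal A'' • ⊤ : Submodule A'' M')) :
    y ∈ (maximalIdeal A'' • ⊤ : Submodule A'' M') := by
  obtain ⟨z, rfl⟩ := hψ.equiv.surjective y
  have h1 : t • z ∈ (maximalIdeal A'' • ⊤ : Submodule A'' (B' ⊗[B] M₁)) := by
    have := map_mem_mtop (A'' := A'') hψ.equiv.symm.toLinearMap hy
    rwa [LinearEquiv.coe_coe, map_smul, LinearEquiv.symm_apply_apply] at this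
  have h2 := mem_mtop_of_smul_mem_tensor (A₀ := A₀) t hNZD z h1
  exact map_mem_mtop (A'' := A'') hψ.equiv.toLinearMap h2

include hpo hψ in
/-- **Core lemma, primary residue extension, one prime.** -/
theorem algebraMap_coeff_eq_zero_of_prime
    (hsep : separableClosure (ResidueField A₀) (ResidueField B) = ⊥)
    (𝔫 : Ideal B') [𝔫.IsPrime]
    (hB : (maximalIdeal B).map (algebraMap B B') ≤ 𝔫)
    (hA : (maximalIdeal A'').map (algebraMap A'' B') ≤ 𝔫)
    (hflat : Module.Flat A'' (LocalizedModule 𝔫.primeCompl M'))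
    {Λ : Type u} (v : Λ → M₁)
    (hv : ∀ l : Λ →₀ A₀, Finsupp.linearCombination A₀ v l ∈
      (maximalIdeal A₀ • ⊤ : Submodule A₀ M₁) → ∀ i, l i ∈ maximalIdeal A₀)
    (l : Λ →₀ A₀) (hl : Finsupp.linearCombination A₀ v l = 0) :
    ∀ i, algebraMap A₀ A'' (l i) = 0 := by
  refine algebraMap_coeff_eq_zero' ψ hψ 𝔫.primeCompl hflat (fun t ht y hy => ?_) v hv l hl
  refine mem_mtop_of_smul_mem (A₀ := A₀) ψ hψ t (fun b' hb' => ?_) y hy
  exact mem_of_mul_mem_of_sepClosed (A₀ := A₀) hsep 𝔫 (sup_le hB hA) ht hb'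

end Final

end Groth.Agent.Lib.helper3.PrimCore2
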