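import Groth.Prelude.Def_FlatMod2
import Groth.Prelude.Def_Coh
import Mathlib
import Groth.Agent.Lib.Helper3.FlatRed
import Groth.Agent.Lib.Helper3.FlatChart2
import Groth.Agent.Lib.Helper3.FlatFinDesc
import Groth.Agent.Lib.Helper3.FlatArtCore
import Groth.Agent.Lib.Helper3.FlatArtDesc
import Groth.Agent.Lib.Helper3.PrimCore2
import Groth.Agent.Lib.Helper16.QCohPullback2

/-!
# Descent of flatness over an Artinian local base, one point per member of the family, primary
residue field extension (helper3, EGA IV 11.4 "exists" variant)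
-/

set_option autoImplicit false
set_option linter.style.haveILetI false
set_option linter.unusedSectionVars false
universe u
open CategoryTheory CategoryTheory.Limits AlgebraicGeometry TopologicalSpace Opposite TensorProduct
  IsLocalRing

namespace Groth.Agent.Lib.helper3.PrimDesc

open Groth.Agent.Lib.helper3.FlatRed Groth.Agent.Lib.helper3.FlatChart2
  Groth.Agent.Lib.helper3.FlatFinDesc Groth.Agent.Lib.helper3.FlatArtCore
  Groth.Agent.Lib.helper3.FlatArtDesc Groth.Agent.Lib.helper3.PrimCore2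
  Groth.Agent.Lib.helper17.FlatOver1

/-- transfer of "separably closed in" along a commutative square with isomorphisms. -/
theorem separableClosure_eq_bot_of_square {A₀ B₀ R T : Type u} [CommRing A₀] [CommRing B₀]
    [CommRing R] [CommRing T] [IsLocalRing A₀] [IsLocalRing B₀] [IsLocalRing R] [IsLocalRing T]
    [Algebra A₀ B₀] [IsLocalHom (algebraMap A₀ B₀)] (φ : R →+* T) [IsLocalHom φ]
    (eγ : A₀ ≃+* R) (eβ : B₀ ≃+* T) (hsq : ∀ a, eβ (algebraMap A₀ B₀ a) = φ (eγ a))
    (hprim : ∀ a : ResidueField T, (∃ p : Polynomial (ResidueField R), p.Separable ∧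
      p.eval₂ (ResidueField.map φ) a = 0) → a ∈ (ResidueField.map φ).range) :
    separableClosure (ResidueField A₀) (ResidueField B₀) = ⊥ := by
  rw [eq_bot_iff]
  intro b hb
  rw [mem_separableClosure_iff] at hb
  rw [IntermediateField.mem_bot]
  haveI : IsLocalHom eγ.toRingHom := ⟨fun a ha => (isLocalHom_equiv eγ).map_nonunit a ha⟩
  haveI : IsLocalHom eβ.toRingHom := ⟨fun a ha => (isLocalHom_equiv eβ).map_nonunit a ha⟩
  let γ' : ResidueField A₀ →+* ResidueField R := ResidueField.map eγ.toRingHom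
  let β' : ResidueField B₀ →+* ResidueField T := ResidueField.map eβ.toRingHom
  have hcomp : (ResidueField.map φ).comp γ' =
      β'.comp (algebraMap (ResidueField A₀) (ResidueField B₀)) := by
    ext r
    obtain ⟨a, rfl⟩ := residue_surjective r
    change residue T (φ (eγ a)) = residue T (eβ (algebraMap A₀ B₀ a))
    rw [hsq]
  set p := minpoly (ResidueField A₀) b with hp
  have h0 : Polynomial.eval₂ (ResidueField.map φ) (β' b) (p.map γ') = 0 := by
    rw [Polynomial.eval₂_map, hcomp, ← Polynomial.hom_eval₂, ← Polynomial.aeval_def,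
      minpoly.aeval, map_zero]
  obtain ⟨r, hr⟩ := hprim _ ⟨p.map γ', Polynomial.Separable.map hb, h0⟩
  obtain ⟨r₀, rfl⟩ := residue_surjective r
  refine ⟨residue A₀ (eγ.symm r₀), ?_⟩
  apply β'.injective
  rw [← hr]
  have h1 := RingHom.congr_fun hcomp (residue A₀ (eγ.symm r₀))
  simp only [RingHom.comp_apply] at h1
  rw [← h1]
  change residue T (φ (eγ (eγ.symm r₀))) = _
  rw [RingEquiv.apply_symm_apply]
  rfl

/-- the statement's form of primarity gives the instance-free form -/
theorem hprim_eval₂ {X S : Scheme.{u}} (f : X ⟶ S) (x : X)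
    (hprim : letI := (f.residueFieldMap x).hom.toAlgebra
      ∀ a : ↑(X.residueField x), IsSeparable ↑(S.residueField (f x)) a →
        a ∈ (f.residueFieldMap x).hom.range) :
    ∀ a : ResidueField (X.presheaf.stalk x),
      (∃ p : Polynomial (ResidueField (S.presheaf.stalk (f x))), p.Separable ∧
        p.eval₂ (ResidueField.map (f.stalkMap x).hom) a = 0) →
      a ∈ (ResidueField.map (f.stalkMap x).hom).range := by
  rintro (a : ↑(X.residueField x)) ⟨p, hp, hpa⟩
  letI := (f.residueFieldMap x).hom.toAlgebra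
  refine hprim a ?_
  change (minpoly ↑(S.residueField (f x)) a).Separable
  refine hp.of_dvd (minpoly.dvd ↑(S.residueField (f x)) a ?_)
  rw [Polynomial.aeval_def]
  exact hpa

/-- the square relating the global sections of `Spec 𝒪_{X,x} ⟶ X ⟶ S` and the stalk map. -/
theorem appLE_fromSpecStalk_comp {X S : Scheme.{u}} (f : X ⟶ S) (x : X)
    (h : (⊤ : (Spec (X.presheaf.stalk x)).Opens) ≤ (X.fromSpecStalk x ≫ f) ⁻¹ᵁ ⊤) :
    (X.fromSpecStalk x ≫ f).appLE ⊤ ⊤ h ≫ (Scheme.ΓSpecIso (X.presheaf.stalk x)).hom =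
      S.presheaf.germ ⊤ (f x) trivial ≫ f.stalkMap x := by
  have h1 : (X.fromSpecStalk x ≫ f).appLE ⊤ ⊤ h = (X.fromSpecStalk x ≫ f).appTop := by
    simp [Scheme.Hom.appLE]
  rw [h1, Scheme.Hom.comp_appTop, Category.assoc, Scheme.fromSpecStalk_appTop]
  simp only [Category.assoc]
  have h2 : (Spec (X.presheaf.stalk x)).presheaf.map (homOfLE le_top).op ≫
      (Scheme.ΓSpecIso (X.presheaf.stalk x)).hom = (Scheme.ΓSpecIso (X.presheaf.stalk x)).hom := by
    simp
  rw [h2, Iso.inv_hom_id, Category.comp_id]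
  exact (Scheme.Hom.germ_stalkMap f ⊤ x trivial).symm

/-- the germ map at the closed point of the spectrum of a local ring is bijective. -/
theorem bijective_germ_of_eq_closedPoint (R : CommRingCat.{u}) [IsLocalRing R] (p : Spec R)
    (hp : p = closedPoint R) :
    Function.Bijective ((Spec R).presheaf.germ ⊤ p trivial).hom := by
  subst hp
  have h := germ_stalkClosedPointIso_hom R
  have h2 : (Spec R).presheaf.germ ⊤ (closedPoint R) trivial =
      (Scheme.ΓSpecIso R).hom ≫ (stalkClosedPointIso R).inv := by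
    rw [← h, Category.assoc, Iso.hom_inv_id, Category.comp_id]
  rw [h2]
  exact ConcreteCategory.bijective_of_isIso _

/-- a prime of `Γ(Spec R, ⊤)` mapping to the closed point is the maximal ideal -/
theorem eq_maximalIdeal_of_fromSpec_eq_closedPoint (R : CommRingCat.{u}) [IsLocalRing R]
    [IsLocalRing Γ(Spec R, ⊤)] (p : Spec Γ(Spec R, ⊤))
    (hp : (isAffineOpen_top (Spec R)).fromSpec p = closedPoint R) :
    p.asIdeal = maximalIdeal Γ(Spec R, ⊤) := by
  set q : Spec Γ(Spec R, ⊤) := ⟨maximalIdeal _, inferInstance⟩ with hq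
  have h1 : p ⤳ q := (PrimeSpectrum.le_iff_specializes p q).mp (le_maximalIdeal p.2.ne_top)
  have h2 : (isAffineOpen_top (Spec R)).fromSpec p ⤳ (isAffineOpen_top (Spec R)).fromSpec q :=
    h1.map (isAffineOpen_top (Spec R)).fromSpec.continuous
  rw [hp] at h2
  have h3 : (isAffineOpen_top (Spec R)).fromSpec q ⤳ closedPoint R :=
    IsLocalRing.specializes_closedPoint _
  have h4 : (isAffineOpen_top (Spec R)).fromSpec q = closedPoint R := (h3.antisymm h2).eq
  have h5 : p = q :=
    (isAffineOpen_top (Spec R)).fromSpec.isOpenEmbedding.injective (hp.trans h4.symm)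
  rw [h5]

set_option maxHeartbeats 3200000 in
/-- **EGA IV 11.4, one point per member of the family, primary residue field extension**; abstract
cartesian squares. -/
theorem isFlatOverAt_of_jointly_injective_primary {A : Type u} [CommRing A] [IsArtinianRing A]
    [IsLocalRing A] {X : Scheme.{u}} (f : X ⟶ Spec (CommRingCat.of A)) [LocallyOfFiniteType f]
    (F : X.Modules) (hF : Coh.IsCoh F) (x : X)
    {ι : Type*} (A' : ι → Type u) [∀ i, CommRing (A' i)] [∀ i, IsLocalRing (A' i)]
    (u : ∀ i, A →+* A' i) (hu : ∀ a : A, (∀ i, u i a = 0) → a = 0)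
    (hprim : ∀ a : ResidueField (X.presheaf.stalk x),
      (∃ p : Polynomial (ResidueField ((Spec (CommRingCat.of A)).presheaf.stalk (f x))),
        p.Separable ∧ p.eval₂ (ResidueField.map (f.stalkMap x).hom) a = 0) →
      a ∈ (ResidueField.map (f.stalkMap x).hom).range)
    (X' : ι → Scheme.{u}) (g' : ∀ i, X' i ⟶ X)
    (f' : ∀ i, X' i ⟶ Spec (CommRingCat.of (A' i)))
    (hc : ∀ i, IsPullback (g' i) (f' i) f (Spec.map (CommRingCat.ofHom (u i))))
    (hflat : ∀ i : ι, ∃ x' : X' i, g' i x' = x ∧ f' i x' = closedPoint (A' i) ∧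
      FlatMod.IsFlatOverAt (f' i) ((Scheme.Modules.pullback (g' i)).obj F) x') :
    FlatMod.IsFlatOverAt f F x := by
  haveI : F.IsQuasicoherent := hF.1
  apply isFlatOverAt_of_fromSpecStalk
  haveI : IsLocallyNoetherian X := LocallyOfFiniteType.isLocallyNoetherian f
  set j := X.fromSpecStalk x with hj
  set G := (Scheme.Modules.pullback j).obj F with hG
  haveI : G.IsQuasicoherent :=
    Groth.Agent.Lib.helper16.QCohPullback.isQuasicoherent_pullback j F
  have hGcoh : Coh.IsCoh G :=
    ⟨inferInstance, Groth.Agent.Lib.helper16.QCohPullback2.isFiniteType_pullback j F hF.2⟩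
  have hUSX : (⊤ : (Spec (X.presheaf.stalk x)).Opens) ≤ (j ≫ f) ⁻¹ᵁ ⊤ := fun _ _ => trivial
  have hUS := isAffineOpen_top (Spec (CommRingCat.of A))
  have hUX := isAffineOpen_top (Spec (X.presheaf.stalk x))
  letI algAB : Algebra Γ(Spec (CommRingCat.of A), ⊤) Γ(Spec (X.presheaf.stalk x), ⊤) :=
    ((j ≫ f).appLE ⊤ ⊤ hUSX).hom.toAlgebra
  letI mA₀M₁ : Module Γ(Spec (CommRingCat.of A), ⊤) Γ(G, ⊤) := modSecBase (j ≫ f) G hUSX
  haveI : IsScalarTower Γ(Spec (CommRingCat.of A), ⊤) Γ(Spec (X.presheaf.stalk x), ⊤) Γ(G, ⊤) :=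
    isScalarTower_sections (j ≫ f) G hUSX
  -- ring-theoretic properties
  let eA : Γ(Spec (CommRingCat.of A), ⊤) ≃+* A :=
    (Scheme.ΓSpecIso (CommRingCat.of A)).commRingCatIsoToRingEquiv
  let eB : Γ(Spec (X.presheaf.stalk x), ⊤) ≃+* X.presheaf.stalk x :=
    (Scheme.ΓSpecIso (X.presheaf.stalk x)).commRingCatIsoToRingEquiv
  haveI : IsLocalRing Γ(Spec (CommRingCat.of A), ⊤) := eA.symm.isLocalRing
  haveI : IsArtinianRing Γ(Spec (CommRingCat.of A), ⊤) := eA.symm.isArtinianRing
  haveI : IsLocalRing Γ(Spec (X.presheaf.stalk x), ⊤) := eB.symm.isLocalRing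
  haveI : IsNoetherianRing Γ(Spec (X.presheaf.stalk x), ⊤) :=
    isNoetherianRing_of_ringEquiv _ eB.symm
  haveI : Module.Finite Γ(Spec (X.presheaf.stalk x), ⊤) Γ(G, ⊤) :=
    Groth.Agent.Lib.helper16.CohFinite.finite_sections_of_isCoh G hGcoh hUX
  have hnil : IsNilpotent (maximalIdeal Γ(Spec (CommRingCat.of A), ⊤)) := by
    have := IsArtinianRing.isNilpotent_jacobson_bot (R := Γ(Spec (CommRingCat.of A), ⊤))
    rwa [IsLocalRing.jacobson_eq_maximalIdeal _ bot_ne_top] at this
  haveI hlocB : IsLocalHom (algebraMap Γ(Spec (CommRingCat.of A), ⊤)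
      Γ(Spec (X.presheaf.stalk x), ⊤)) := isLocalHom_of_isNilpotent hnil _
  -- the residue field extension is primary
  have hsep : separableClosure (ResidueField Γ(Spec (CommRingCat.of A), ⊤))
      (ResidueField Γ(Spec (X.presheaf.stalk x), ⊤)) = ⊥ := by
    have hfx : f x = closedPoint (CommRingCat.of A) := by
      apply PrimeSpectrum.ext
      haveI : (f x).asIdeal.IsMaximal := IsArtinianRing.isMaximal_of_isPrime (R := A) _
      exact IsLocalRing.eq_maximalIdeal (R := A) inferInstance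
    let eγ : Γ(Spec (CommRingCat.of A), ⊤) ≃+*
        (Spec (CommRingCat.of A)).presheaf.stalk (f x) :=
      RingEquiv.ofBijective _ (bijective_germ_of_eq_closedPoint (CommRingCat.of A) (f x) hfx)
    refine separableClosure_eq_bot_of_square (f.stalkMap x).hom eγ eB ?_ hprim
    intro a
    exact congrArg (fun φ => φ.hom a) (appLE_fromSpecStalk_comp f x hUSX)
  have hflat₀ : Module.Flat Γ(Spec (CommRingCat.of A), ⊤) Γ(G, ⊤) := by
    refine flat_of_relations_vanish hnil ?_
    intro Λ v hv l hl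
    ext k
    rw [Finsupp.zero_apply]
    -- it suffices to kill the coefficient in each `A' i`
    apply eA.injective
    rw [map_zero]
    apply hu
    intro i
    -- the `i`-th chart
    have hUST : (⊤ : (Spec (CommRingCat.of (A' i))).Opens) ≤
        Spec.map (CommRingCat.ofHom (u i)) ⁻¹ᵁ ⊤ := fun _ _ => trivial
    have hUT := isAffineOpen_top (Spec (CommRingCat.of (A' i)))
    letI algAA' : Algebra Γ(Spec (CommRingCat.of A), ⊤) Γ(Spec (CommRingCat.of (A' i)), ⊤) :=
      ((Spec.map (CommRingCat.ofHom (u i))).appLE ⊤ ⊤ hUST).hom.toAlgebra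
    have hc₁ := isPullback_red (hc i) x
    obtain ⟨B', _, _, _, _, _, _, _, M', _, _, _, _, _, _, ψ, hψ, -, hpoints⟩ :=
      exists_chart_data' hc₁ G hUS hUT hUX hUST hUSX
    let eA' : Γ(Spec (CommRingCat.of (A' i)), ⊤) ≃+* A' i :=
      (Scheme.ΓSpecIso (CommRingCat.of (A' i))).commRingCatIsoToRingEquiv
    haveI : IsLocalRing Γ(Spec (CommRingCat.of (A' i)), ⊤) := eA'.symm.isLocalRing
    haveI : IsLocalHom (algebraMap Γ(Spec (CommRingCat.of A), ⊤)
        Γ(Spec (CommRingCat.of (A' i)), ⊤)) := isLocalHom_of_isNilpotent hnil _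
    have halg : ∀ a : Γ(Spec (CommRingCat.of A), ⊤),
        eA' (algebraMap Γ(Spec (CommRingCat.of A), ⊤) Γ(Spec (CommRingCat.of (A' i)), ⊤) a) =
          u i (eA a) := by
      intro a
      change eA' (((Spec.map (CommRingCat.ofHom (u i))).appLE ⊤ ⊤ hUST).hom a) = _
      rw [appLE_top_eq]
      change (Scheme.ΓSpecIso (CommRingCat.of (A' i))).hom.hom
        ((Scheme.ΓSpecIso (CommRingCat.of (A' i))).inv.hom (u i
          ((Scheme.ΓSpecIso (CommRingCat.of A)).hom.hom a))) = _
      rw [← CommRingCat.comp_apply, Iso.inv_hom_id]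
      rfl
    -- module structures over `A₀` on `M'`
    letI mA₀M' : Module Γ(Spec (CommRingCat.of A), ⊤) M' :=
      Module.compHom M' (algebraMap Γ(Spec (CommRingCat.of A), ⊤) B')
    haveI : IsScalarTower Γ(Spec (CommRingCat.of A), ⊤) B' M' :=
      IsScalarTower.of_algebraMap_smul fun _ _ => rfl
    haveI : IsScalarTower Γ(Spec (CommRingCat.of A), ⊤) Γ(Spec (X.presheaf.stalk x), ⊤) M' :=
      IsScalarTower.of_algebraMap_smul fun a m => by
        rw [← algebraMap_smul B' (algebraMap Γ(Spec (CommRingCat.of A), ⊤)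
          Γ(Spec (X.presheaf.stalk x), ⊤) a) m, ← IsScalarTower.algebraMap_apply]
        rfl
    haveI : IsScalarTower Γ(Spec (CommRingCat.of A), ⊤) Γ(Spec (CommRingCat.of (A' i)), ⊤) M' :=
      IsScalarTower.of_algebraMap_smul fun a m => by
        rw [← algebraMap_smul B' (algebraMap Γ(Spec (CommRingCat.of A), ⊤)
          Γ(Spec (CommRingCat.of (A' i)), ⊤) a) m, ← IsScalarTower.algebraMap_apply]
        rfl
    -- the point
    obtain ⟨x', hx'1, hx'2, hx'fl⟩ := hflat i
    obtain ⟨z', hz'1, hz'2⟩ := Scheme.Pullback.exists_preimage_pullback (f := j) (g := g' i)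
      (closedPoint (X.presheaf.stalk x)) x' (by
        rw [hx'1]
        exact Scheme.fromSpecStalk_closedPoint)
    have hzfl := isFlatOverAt_red F x z' (by rw [hz'2]; exact hx'fl)
    obtain ⟨𝔫, h𝔫, hn1, hn2, hnfl⟩ := hpoints z' trivial trivial
    haveI := h𝔫
    have hB : (maximalIdeal Γ(Spec (X.presheaf.stalk x), ⊤)).map
        (algebraMap Γ(Spec (X.presheaf.stalk x), ⊤) B') ≤ 𝔫 := by
      rw [Ideal.map_le_iff_le_comap]
      rw [hz'1] at hn1
      have h1 := eq_maximalIdeal_of_fromSpec_eq_closedPoint (X.presheaf.stalk x)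
        ⟨𝔫.comap (algebraMap Γ(Spec (X.presheaf.stalk x), ⊤) B'), inferInstance⟩ hn1.symm
      exact h1.ge
    have hA : (maximalIdeal Γ(Spec (CommRingCat.of (A' i)), ⊤)).map
        (algebraMap Γ(Spec (CommRingCat.of (A' i)), ⊤) B') ≤ 𝔫 := by
      rw [Ideal.map_le_iff_le_comap]
      have h0 : (pullback.snd j (g' i) ≫ f' i) z' = closedPoint (A' i) := by
        rw [Scheme.Hom.comp_apply, hz'2, hx'2]
      rw [h0] at hn2
      have h1 := eq_maximalIdeal_of_fromSpec_eq_closedPoint (CommRingCat.of (A' i))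
        ⟨𝔫.comap (algebraMap Γ(Spec (CommRingCat.of (A' i)), ⊤) B'), inferInstance⟩ hn2.symm
      exact h1.ge
    have hcore := algebraMap_coeff_eq_zero_of_prime (A₀ := Γ(Spec (CommRingCat.of A), ⊤))
      (A'' := Γ(Spec (CommRingCat.of (A' i)), ⊤)) ψ hψ hsep 𝔫 hB hA (hnfl hzfl) v hv l hl k
    rw [← halg, hcore, map_zero]
  exact isFlatOverAt_of_flat_sections (j ≫ f) G hUSX hUX hUS hflat₀ _ trivial

end Groth.Agent.Lib.helper3.PrimDesc
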