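import Groth.Prelude.Def_FlatMod2
import Groth.Prelude.Def_Coh
import Mathlib
import Groth.Agent.Lib.Helper3.FlatAdicDesc
import Groth.Agent.Lib.Helper3.PrimDesc

/-!
# Adic descent of flatness, one point per member of the family, primary residue field extension
(helper3, EGA IV 11.5 "exists" variant)
-/

set_option autoImplicit false
set_option linter.style.haveILetI false
set_option linter.unusedSectionVars false
universe u
open CategoryTheory CategoryTheory.Limits AlgebraicGeometry TopologicalSpace Opposite TensorProduct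
  IsLocalRing

namespace Groth.Agent.Lib.helper3.PrimAdic

open Groth.Agent.Lib.helper3.FlatRed Groth.Agent.Lib.helper3.FlatChart
  Groth.Agent.Lib.helper3.FlatFinDesc Groth.Agent.Lib.helper3.FlatAdicRL
  Groth.Agent.Lib.helper3.FlatAdicT1 Groth.Agent.Lib.helper3.FlatAdicDesc
  Groth.Agent.Lib.helper3.PrimDesc Groth.Agent.Lib.helper17.FlatOver1
  Groth.Agent.Lib.helper17.FlatOver6 Groth.Agent.Lib.helper17.FlatOver7

/-- a homomorphism of fields is *primary* if every element of the target which is a root of a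
separable polynomial over the source lies in the image. -/
def Prim {k K : Type*} [Field k] [Field K] (ι : k →+* K) : Prop :=
  ∀ a : K, (∃ p : Polynomial k, p.Separable ∧ p.eval₂ ι a = 0) → a ∈ ι.range

theorem Prim.comp_left {k K K' : Type*} [Field k] [Field K] [Field K'] {ι : k →+* K}
    (h : Prim ι) (β : K →+* K') (hβ : Function.Surjective β) : Prim (β.comp ι) := by
  rintro a' ⟨p, hp, hpa⟩
  obtain ⟨a, rfl⟩ := hβ a'
  have h1 : β (p.eval₂ ι a) = 0 := by
    rw [Polynomial.hom_eval₂]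
    exact hpa
  have h0 : p.eval₂ ι a = 0 := β.injective (by rw [h1, map_zero])
  obtain ⟨c, hc⟩ := h a ⟨p, hp, h0⟩
  exact ⟨c, by rw [RingHom.comp_apply, hc]⟩

theorem Prim.of_comp_right {k' k K : Type*} [Field k'] [Field k] [Field K] {ι : k →+* K}
    (γ : k' →+* k) (hγ : Function.Surjective γ) (h : Prim (ι.comp γ)) : Prim ι := by
  rintro a ⟨p, hp, hpa⟩
  obtain ⟨p', rfl⟩ := Polynomial.map_surjective γ hγ p
  have hp' : p'.Separable := (Polynomial.separable_map γ).mp hp
  obtain ⟨c, hc⟩ := h a ⟨p', hp', by rw [← Polynomial.eval₂_map]; exact hpa⟩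
  exact ⟨γ c, hc⟩

theorem surjective_residueFieldMap {X Y : Scheme.{u}} (g : X ⟶ Y) [SurjectiveOnStalks g] (x : X) :
    Function.Surjective (g.residueFieldMap x).hom := by
  intro a
  obtain ⟨t, rfl⟩ := IsLocalRing.residue_surjective a
  obtain ⟨s, rfl⟩ := g.stalkMap_surjective x t
  exact ⟨IsLocalRing.residue _ s, rfl⟩

/-- primarity of the residue field extension is inherited by base change along a preimmersion. -/
theorem prim_pullback {X Y S : Scheme.{u}} (f : X ⟶ Y) (q : S ⟶ Y) [IsPreimmersion q]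
    (x₀ : ↥(pullback f q))
    (h : Prim (f.residueFieldMap (pullback.fst f q x₀)).hom) :
    Prim ((pullback.snd f q).residueFieldMap x₀).hom := by
  have e : pullback.fst f q ≫ f = pullback.snd f q ≫ q := pullback.condition
  have h1 := Scheme.residueFieldMap_comp (pullback.fst f q) f x₀
  have h2 := Scheme.residueFieldMap_comp (pullback.snd f q) q x₀
  have h3 := Scheme.Hom.residueFieldMap_congr e x₀
  have hg := surjective_residueFieldMap (pullback.fst f q) x₀
  have hq := surjective_residueFieldMap q (pullback.snd f q x₀)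
  have ha := h.comp_left _ hg
  have hpt : f (pullback.fst f q x₀) = q (pullback.snd f q x₀) := congr(($e) x₀)
  have heq : ((pullback.fst f q).residueFieldMap x₀).hom.comp
      (f.residueFieldMap (pullback.fst f q x₀)).hom =
      ((pullback.snd f q).residueFieldMap x₀).hom.comp
        ((q.residueFieldMap (pullback.snd f q x₀)).hom.comp
          (Y.residueFieldCongr hpt).hom.hom) := by
    have h4 := h1.symm.trans (h3.trans (by rw [h2]))
    exact congrArg CommRingCat.Hom.hom h4
  rw [heq] at ha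
  have hγ : Function.Surjective ((q.residueFieldMap (pullback.snd f q x₀)).hom.comp
      (Y.residueFieldCongr hpt).hom.hom) := by
    rw [RingHom.coe_comp]
    exact hq.comp (ConcreteCategory.bijective_of_isIso (Y.residueFieldCongr hpt).hom).2
  exact Prim.of_comp_right _ hγ ha

set_option maxHeartbeats 1600000 in
/-- flatness over the Artinian quotient `𝒪_{Y,y}/𝔞` of the base change of `F`, at the points over
`x`; one point per member of the family, primary residue extension. -/
theorem isFlatOverAt_quotient' {X Y : Scheme.{u}} [IsLocallyNoetherian Y]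
    (f : X ⟶ Y) [LocallyOfFiniteType f] (F : X.Modules) (hF : Coh.IsCoh F) (x : X)
    (hprim : Prim (f.residueFieldMap x).hom)
    {ι : Type u} (A : ι → Type u) [∀ i, CommRing (A i)] [∀ i, IsLocalRing (A i)]
    (φ : ∀ i, (Y.presheaf.stalk (f x) : Type u) →+* A i) [∀ i, IsLocalHom (φ i)]
    (hflat : ∀ (i : ι), ∃
      (x' : ↥(pullback f (Spec.map (CommRingCat.ofHom (φ i)) ≫ Y.fromSpecStalk (f x)))),
      pullback.fst f (Spec.map (CommRingCat.ofHom (φ i)) ≫ Y.fromSpecStalk (f x)) x' = x ∧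
      pullback.snd f (Spec.map (CommRingCat.ofHom (φ i)) ≫ Y.fromSpecStalk (f x)) x' =
        closedPoint (A i) ∧
      FlatMod.IsFlatOverAt
        (pullback.snd f (Spec.map (CommRingCat.ofHom (φ i)) ≫ Y.fromSpecStalk (f x)))
        ((Scheme.Modules.pullback
          (pullback.fst f (Spec.map (CommRingCat.ofHom (φ i)) ≫ Y.fromSpecStalk (f x)))).obj F) x')
    (s : Finset (ι × ℕ)) (hs : adicIdeal A φ s ≠ ⊤) :
    ∀ (x₀ : ↥(pullback f (Spec.map (CommRingCat.ofHom (Ideal.Quotient.mk (adicIdeal A φ s))) ≫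
      Y.fromSpecStalk (f x)))),
    pullback.fst f (Spec.map (CommRingCat.ofHom (Ideal.Quotient.mk (adicIdeal A φ s))) ≫
      Y.fromSpecStalk (f x)) x₀ = x →
    FlatMod.IsFlatOverAt
      (pullback.snd f (Spec.map (CommRingCat.ofHom (Ideal.Quotient.mk (adicIdeal A φ s))) ≫
        Y.fromSpecStalk (f x)))
      ((Scheme.Modules.pullback
        (pullback.fst f (Spec.map (CommRingCat.ofHom (Ideal.Quotient.mk (adicIdeal A φ s))) ≫
          Y.fromSpecStalk (f x)))).obj F) x₀ := by
  haveI : F.IsQuasicoherent := hF.1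
  set 𝔞 := adicIdeal A φ s with h𝔞
  haveI hloc : IsLocalRing ((Y.presheaf.stalk (f x) : Type u) ⧸ 𝔞) := isLocalRing_quotient 𝔞 hs
  haveI : IsArtinianRing ((Y.presheaf.stalk (f x) : Type u) ⧸ 𝔞) :=
    isArtinianRing_quotient 𝔞 _ (pow_sup_le_adicIdeal A φ s)
  haveI hpre : IsPreimmersion (Spec.map (CommRingCat.ofHom (Ideal.Quotient.mk 𝔞)) ≫
      Y.fromSpecStalk (f x)) := inferInstance
  set q := Spec.map (CommRingCat.ofHom (Ideal.Quotient.mk 𝔞)) ≫ Y.fromSpecStalk (f x) with hq
  set F₀ := (Scheme.Modules.pullback (pullback.fst f q)).obj F with hF₀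
  haveI : F₀.IsQuasicoherent :=
    Groth.Agent.Lib.helper16.QCohPullback.isQuasicoherent_pullback _ F
  have hF₀coh : Coh.IsCoh F₀ :=
    ⟨inferInstance, Groth.Agent.Lib.helper16.QCohPullback2.isFiniteType_pullback _ F hF.2⟩
  intro x₀ hx₀
  have hprim₀ : Prim ((pullback.snd f q).residueFieldMap x₀).hom :=
    prim_pullback f q x₀ (hx₀.symm ▸ hprim)
  haveI : ∀ p : {p : ι × ℕ // p ∈ s ∧ p.2 ≠ 0},
      IsLocalRing (A p.1.1 ⧸ (maximalIdeal (A p.1.1) ^ p.1.2)) :=
    fun p => isLocalRing_quotient _ (pow_ne_top A p.1.1 p.1.2 p.2.2)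
  let u : ∀ p : {p : ι × ℕ // p ∈ s ∧ p.2 ≠ 0},
      ((Y.presheaf.stalk (f x) : Type u) ⧸ 𝔞) →+* A p.1.1 ⧸ (maximalIdeal (A p.1.1) ^ p.1.2) :=
    fun p => Ideal.quotientMap _ (φ p.1.1) (adicIdeal_le A φ s p.1 p.2.1)
  have hu : ∀ a : (Y.presheaf.stalk (f x) : Type u) ⧸ 𝔞, (∀ p, u p a = 0) → a = 0 := by
    intro a ha
    obtain ⟨r, rfl⟩ := Ideal.Quotient.mk_surjective a
    rw [Ideal.Quotient.eq_zero_iff_mem, h𝔞, adicIdeal, Ideal.mem_iInf]
    intro p
    rw [Ideal.mem_iInf]
    intro hp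
    by_cases hn : p.2 = 0
    · rw [hn, pow_zero, Ideal.one_eq_top, Ideal.comap_top]
      trivial
    · have := ha ⟨p, hp, hn⟩
      rw [Ideal.mem_comap]
      exact Ideal.Quotient.eq_zero_iff_mem.mp this
  have key : ∀ p : {p : ι × ℕ // p ∈ s ∧ p.2 ≠ 0}, ∃ (X' : Scheme.{u}) (g' : X' ⟶ pullback f q)
      (f' : X' ⟶ Spec (CommRingCat.of (A p.1.1 ⧸ (maximalIdeal (A p.1.1) ^ p.1.2)))),
      IsPullback g' f' (pullback.snd f q) (Spec.map (CommRingCat.ofHom (u p))) ∧
      ∃ x' : X', g' x' = x₀ ∧ f' x' = closedPoint _ ∧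
        FlatMod.IsFlatOverAt f' ((Scheme.Modules.pullback g').obj F₀) x' := by
    rintro ⟨⟨i, n⟩, hp, hn⟩
    set gi := Spec.map (CommRingCat.ofHom (φ i)) ≫ Y.fromSpecStalk (f x) with hgi
    set ρ := CommRingCat.ofHom (Ideal.Quotient.mk (maximalIdeal (A i) ^ n)) with hρ
    have t : IsPullback (pullback.fst f q) (pullback.snd f q) f q := IsPullback.of_hasPullback f q
    have s₁ : IsPullback (pullback.fst (pullback.snd f gi) (Spec.map ρ))
        (pullback.snd (pullback.snd f gi) (Spec.map ρ)) (pullback.snd f gi) (Spec.map ρ) :=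
      IsPullback.of_hasPullback _ _
    have s₂ : IsPullback (pullback.fst f gi) (pullback.snd f gi) f gi :=
      IsPullback.of_hasPullback _ _
    have hpaste := s₁.paste_horiz s₂
    have hring : Spec.map (CommRingCat.ofHom (u ⟨(i, n), hp, hn⟩)) ≫ q = Spec.map ρ ≫ gi := by
      rw [hq, hgi, ← Category.assoc, ← Category.assoc, ← Spec.map_comp, ← Spec.map_comp]
      rfl
    set c := t.lift (pullback.fst (pullback.snd f gi) (Spec.map ρ) ≫ pullback.fst f gi)
      (pullback.snd (pullback.snd f gi) (Spec.map ρ) ≫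
        Spec.map (CommRingCat.ofHom (u ⟨(i, n), hp, hn⟩)))
      (by rw [Category.assoc, Category.assoc, hring, s₂.w, s₁.w_assoc]) with hc
    have hcfst : c ≫ pullback.fst f q =
        pullback.fst (pullback.snd f gi) (Spec.map ρ) ≫ pullback.fst f gi := t.lift_fst _ _ _
    have hcsnd : c ≫ pullback.snd f q = pullback.snd (pullback.snd f gi) (Spec.map ρ) ≫
        Spec.map (CommRingCat.ofHom (u ⟨(i, n), hp, hn⟩)) := t.lift_snd _ _ _
    have hsq : IsPullback c (pullback.snd (pullback.snd f gi) (Spec.map ρ)) (pullback.snd f q)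
        (Spec.map (CommRingCat.ofHom (u ⟨(i, n), hp, hn⟩))) := by
      refine IsPullback.of_right ?_ hcsnd t
      rw [hcfst, hring]
      exact hpaste
    refine ⟨_, c, pullback.snd (pullback.snd f gi) (Spec.map ρ), hsq, ?_⟩
    haveI : Nontrivial (A i ⧸ maximalIdeal (A i) ^ n) :=
      Ideal.Quotient.nontrivial_iff.mpr (pow_ne_top A i n hn)
    haveI : IsLocalRing (A i ⧸ maximalIdeal (A i) ^ n) :=
      isLocalRing_quotient _ (pow_ne_top A i n hn)
    haveI : IsLocalHom (Ideal.Quotient.mk (maximalIdeal (A i) ^ n)) :=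
      IsLocalHom.of_surjective _ Ideal.Quotient.mk_surjective
    obtain ⟨xi, hxi1, hxi2, hxifl⟩ := hflat i
    obtain ⟨x'', hx''1, hx''2⟩ := Scheme.Pullback.exists_preimage_pullback
      (f := pullback.snd f gi) (g := Spec.map ρ) xi
      (closedPoint (A i ⧸ maximalIdeal (A i) ^ n)) (by
        rw [hxi2]
        exact (IsLocalRing.comap_closedPoint (Ideal.Quotient.mk (maximalIdeal (A i) ^ n))).symm)
    refine ⟨x'', ?_, hx''2, ?_⟩
    · apply (pullback.fst f q).isEmbedding.injective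
      rw [hx₀]
      have h3 : pullback.fst f q (c x'') = (c ≫ pullback.fst f q) x'' := rfl
      rw [h3, hcfst]
      change pullback.fst f gi (pullback.fst (pullback.snd f gi) (Spec.map ρ) x'') = x
      rw [hx''1, hxi1]
    · set P := (Scheme.Modules.pullback (pullback.fst f gi)).obj F with hP
      haveI : P.IsQuasicoherent :=
        Groth.Agent.Lib.helper16.QCohPullback.isQuasicoherent_pullback _ F
      have hfl := (isFlatOverAt_baseChange_both s₁ P x'').1 (by rw [hx''1]; exact hxifl)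
      let e : (Scheme.Modules.pullback (pullback.fst (pullback.snd f gi) (Spec.map ρ))).obj P ≅
          (Scheme.Modules.pullback c).obj F₀ :=
        (Scheme.Modules.pullbackComp (pullback.fst (pullback.snd f gi) (Spec.map ρ))
            (pullback.fst f gi)).app F ≪≫
          (Scheme.Modules.pullbackCongr hcfst.symm).app F ≪≫
          ((Scheme.Modules.pullbackComp c (pullback.fst f q)).app F).symm
      exact (isFlatOverAt_iff_of_iso _ e x'').mp hfl
  choose X' g' f' hc hfl using key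
  exact isFlatOverAt_of_jointly_injective_primary (pullback.snd f q) F₀ hF₀coh x₀ _ u hu hprim₀
    X' g' f' hc hfl

set_option maxHeartbeats 1600000 in
/-- **EGA IV 11.5 (adic family of local homomorphisms), one point per member, primary residue
field extension.** -/
theorem isFlatOverAt_of_adic_family_primary {X Y : Scheme.{u}} [IsLocallyNoetherian Y]
    (f : X ⟶ Y) [LocallyOfFiniteType f] (F : X.Modules) (hF : Coh.IsCoh F) (x : X)
    (hprim : Prim (f.residueFieldMap x).hom)
    {ι : Type u} (A : ι → Type u) [∀ i, CommRing (A i)] [∀ i, IsLocalRing (A i)]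
    (φ : ∀ i, (Y.presheaf.stalk (f x) : Type u) →+* A i) [∀ i, IsLocalHom (φ i)]
    (htop : ∀ N : ℕ, ∃ s : Finset (ι × ℕ),
      ⨅ p ∈ s, Ideal.comap (φ p.1) (IsLocalRing.maximalIdeal (A p.1) ^ p.2) ≤
        IsLocalRing.maximalIdeal ↑(Y.presheaf.stalk (f x)) ^ N)
    (hflat : ∀ (i : ι), ∃
      (x' : ↥(pullback f (Spec.map (CommRingCat.ofHom (φ i)) ≫ Y.fromSpecStalk (f x)))),
      pullback.fst f (Spec.map (CommRingCat.ofHom (φ i)) ≫ Y.fromSpecStalk (f x)) x' = x ∧
      pullback.snd f (Spec.map (CommRingCat.ofHom (φ i)) ≫ Y.fromSpecStalk (f x)) x' =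
        closedPoint (A i) ∧
      FlatMod.IsFlatOverAt
        (pullback.snd f (Spec.map (CommRingCat.ofHom (φ i)) ≫ Y.fromSpecStalk (f x)))
        ((Scheme.Modules.pullback
          (pullback.fst f (Spec.map (CommRingCat.ofHom (φ i)) ≫ Y.fromSpecStalk (f x)))).obj F)
        x') :
    FlatMod.IsFlatOverAt f F x := by
  haveI : F.IsQuasicoherent := hF.1
  haveI : IsLocallyNoetherian X := LocallyOfFiniteType.isLocallyNoetherian f
  apply isFlatOverAt_of_fromSpecStalk
  have hj : X.fromSpecStalk x ≫ f = Spec.map (f.stalkMap x) ≫ Y.fromSpecStalk (f x) :=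
    (Scheme.SpecMap_stalkMap_fromSpecStalk (f := f) (x := x)).symm
  rw [hj]
  apply isFlatOverAt_comp_fromSpecStalk
  set σ := f.stalkMap x with hσ
  set G := (Scheme.Modules.pullback (X.fromSpecStalk x)).obj F with hG
  haveI : G.IsQuasicoherent :=
    Groth.Agent.Lib.helper16.QCohPullback.isQuasicoherent_pullback (X.fromSpecStalk x) F
  have hGcoh : Coh.IsCoh G :=
    ⟨inferInstance,
      Groth.Agent.Lib.helper16.QCohPullback2.isFiniteType_pullback (X.fromSpecStalk x) F hF.2⟩
  have hUSX : (⊤ : (Spec (X.presheaf.stalk x)).Opens) ≤ Spec.map σ ⁻¹ᵁ ⊤ := fun _ _ => trivial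
  have hUS := isAffineOpen_top (Spec (Y.presheaf.stalk (f x)))
  have hUX := isAffineOpen_top (Spec (X.presheaf.stalk x))
  letI algAB : Algebra Γ(Spec (Y.presheaf.stalk (f x)), ⊤) Γ(Spec (X.presheaf.stalk x), ⊤) :=
    ((Spec.map σ).appLE ⊤ ⊤ hUSX).hom.toAlgebra
  letI mA₀M₁ : Module Γ(Spec (Y.presheaf.stalk (f x)), ⊤) Γ(G, ⊤) :=
    modSecBase (Spec.map σ) G hUSX
  haveI : IsScalarTower Γ(Spec (Y.presheaf.stalk (f x)), ⊤) Γ(Spec (X.presheaf.stalk x), ⊤)
      Γ(G, ⊤) := isScalarTower_sections (Spec.map σ) G hUSX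
  let eA : Γ(Spec (Y.presheaf.stalk (f x)), ⊤) ≃+* Y.presheaf.stalk (f x) :=
    (Scheme.ΓSpecIso (Y.presheaf.stalk (f x))).commRingCatIsoToRingEquiv
  let eB : Γ(Spec (X.presheaf.stalk x), ⊤) ≃+* X.presheaf.stalk x :=
    (Scheme.ΓSpecIso (X.presheaf.stalk x)).commRingCatIsoToRingEquiv
  haveI : IsLocalRing Γ(Spec (Y.presheaf.stalk (f x)), ⊤) := eA.symm.isLocalRing
  haveI : IsNoetherianRing Γ(Spec (Y.presheaf.stalk (f x)), ⊤) :=
    isNoetherianRing_of_ringEquiv _ eA.symm
  haveI : IsLocalRing Γ(Spec (X.presheaf.stalk x), ⊤) := eB.symm.isLocalRing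
  haveI : IsNoetherianRing Γ(Spec (X.presheaf.stalk x), ⊤) :=
    isNoetherianRing_of_ringEquiv _ eB.symm
  haveI : Module.Finite Γ(Spec (X.presheaf.stalk x), ⊤) Γ(G, ⊤) :=
    Groth.Agent.Lib.helper16.CohFinite.finite_sections_of_isCoh G hGcoh hUX
  haveI : IsLocalHom (algebraMap Γ(Spec (Y.presheaf.stalk (f x)), ⊤)
      Γ(Spec (X.presheaf.stalk x), ⊤)) := by
    change IsLocalHom ((Spec.map σ).appLE ⊤ ⊤ hUSX).hom
    rw [appLE_top_eq]
    infer_instance
  refine isFlatOverAt_of_flat_sections (Spec.map σ) G hUSX hUX hUS ?_ _ trivial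
  refine flat_of_forall_flat_quotient_pow_local (B₀ := Γ(Spec (X.presheaf.stalk x), ⊤))
    fun N hN => ?_
  obtain ⟨s, hs⟩ := htop N
  have hs' : adicIdeal A φ s ≤ maximalIdeal ↑(Y.presheaf.stalk (f x)) ^ N := hs
  have hne : adicIdeal A φ s ≠ ⊤ := by
    intro h
    rw [h] at hs'
    have h1 : maximalIdeal ↑(Y.presheaf.stalk (f x)) ^ N ≤
        maximalIdeal ↑(Y.presheaf.stalk (f x)) := Ideal.pow_le_self hN.ne'
    exact (maximalIdeal.isMaximal _).ne_top (top_le_iff.mp (hs'.trans h1))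
  refine flat_quotient_sections f F x _
    (CommRingCat.ofHom (Ideal.Quotient.mk (adicIdeal A φ s))) Ideal.Quotient.mk_surjective
    (isFlatOverAt_quotient' f F hF x hprim A φ hflat s hne) _ ?_
  intro a ha
  have h1 : eA a ∈ adicIdeal A φ s := Ideal.Quotient.eq_zero_iff_mem.mp ha
  have h2 : eA a ∈ maximalIdeal ↑(Y.presheaf.stalk (f x)) ^ N := hs' h1
  have h3 : eA.symm (eA a) ∈ (maximalIdeal ↑(Y.presheaf.stalk (f x)) ^ N).map
      (eA.symm : ↑(Y.presheaf.stalk (f x)) →+* Γ(Spec (Y.presheaf.stalk (f x)), ⊤)) :=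
    Ideal.mem_map_of_mem _ h2
  rw [RingEquiv.symm_apply_apply, Ideal.map_pow] at h3
  refine Ideal.pow_right_mono ?_ N h3
  have hloc : IsLocalHom (eA.symm : ↑(Y.presheaf.stalk (f x)) →+*
      Γ(Spec (Y.presheaf.stalk (f x)), ⊤)) := inferInstance
  exact ((local_hom_TFAE (eA.symm : ↑(Y.presheaf.stalk (f x)) →+*
    Γ(Spec (Y.presheaf.stalk (f x)), ⊤))).out 0 2).mp hloc

end Groth.Agent.Lib.helper3.PrimAdic
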