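import Mathlib
/-!
# Localization at a prime of a ring with finite spectrum is principal (helper3)

* `exists_away_isLocalization_atPrime` : `Finite (PrimeSpectrum R)`, `m` prime ⇒ `R_m = R_b`;
* `etale_of_isLocalization_atPrime` : local-étale over a ring with finite spectrum is étale.
-/

set_option autoImplicit false
set_option linter.style.haveILetI false
universe u

namespace Groth.Agent.Lib.helper3.PrimeAway

/-- in a ring with finite spectrum, the localization at a prime `P` is a principal
localization. -/
theorem exists_away_isLocalization_atPrime {R : Type*} [CommRing R] [Finite (PrimeSpectrum R)]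
    (m : Ideal R) [hm : m.IsPrime] :
    ∃ b : R, b ∉ m ∧ IsLocalization.AtPrime (Localization.Away b) m := by
  classical
  haveI := Fintype.ofFinite (PrimeSpectrum R)
  let s : Finset (PrimeSpectrum R) := Finset.univ.filter (fun p => ¬ p.asIdeal ≤ m)
  have hnot : ¬ (s.inf (fun p => p.asIdeal) ≤ m) := by
    rw [Ideal.IsPrime.inf_le' hm]
    rintro ⟨i, his, hle⟩
    exact (Finset.mem_filter.mp his).2 hle
  obtain ⟨b, hbI, hbm⟩ := SetLike.not_le_iff_exists.mp hnot
  refine ⟨b, hbm, ?_⟩
  have hle : Submonoid.powers b ≤ m.primeCompl := by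
    rw [Submonoid.powers_le]
    exact hbm
  refine IsLocalization.of_le (M := Submonoid.powers b) (S := Localization.Away b)
    m.primeCompl hle ?_
  intro r hr
  by_contra hu
  obtain ⟨P, hP, hrP⟩ := exists_max_ideal_of_mem_nonunits (mem_nonunits_iff.mpr hu)
  have hPp : (P.comap (algebraMap R (Localization.Away b))).IsPrime :=
    Ideal.comap_isPrime _ _
  have hb : b ∉ P.comap (algebraMap R (Localization.Away b)) := by
    intro hb
    rw [Ideal.mem_comap] at hb
    exact hP.ne_top (Ideal.eq_top_of_isUnit_mem _ hb
      (IsLocalization.map_units (Localization.Away b) (⟨b, Submonoid.mem_powers b⟩ :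
        Submonoid.powers b)))
  have hPm : P.comap (algebraMap R (Localization.Away b)) ≤ m := by
    by_contra hnle
    apply hb
    have hmem : (⟨_, hPp⟩ : PrimeSpectrum R) ∈ s :=
      Finset.mem_filter.mpr ⟨Finset.mem_univ _, hnle⟩
    exact (Finset.inf_le hmem : s.inf (fun p => p.asIdeal) ≤ _) hbI
  exact hr (hPm (Ideal.mem_comap.mpr hrP))

/-- local-étale over a ring with finite spectrum is étale. -/
theorem etale_of_isLocalization_atPrime (A B C : Type u) [CommRing A] [CommRing B] [CommRing C]
    [Algebra A B] [Algebra B C] [Algebra A C] [IsScalarTower A B C] [Algebra.Etale A B]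
    [Finite (PrimeSpectrum A)] (P : Ideal B) [P.IsPrime] [IsLocalization.AtPrime C P] :
    Algebra.Etale A C := by
  haveI : Algebra.QuasiFinite A B := inferInstance
  haveI : Finite (PrimeSpectrum B) := Algebra.QuasiFinite.finite_primeSpectrum A B
  obtain ⟨b, hb, hloc⟩ := exists_away_isLocalization_atPrime P
  let e : Localization.Away b ≃ₐ[B] C := IsLocalization.algEquiv P.primeCompl _ _
  haveI : Algebra.Etale B (Localization.Away b) := inferInstance
  haveI : Algebra.Etale B C := Algebra.Etale.of_equiv e
  exact Algebra.Etale.comp A B C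

end Groth.Agent.Lib.helper3.PrimeAway
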