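import Mathlib
import Groth.Agent.Lib.Helper3.PrimeAway
/-!
# `Spec 𝒪_{X,x} → X` is an open immersion for locally quasi-finite `X` over a ring with finite
spectrum (helper3)
-/

set_option autoImplicit false
set_option linter.style.haveILetI false
universe u

open AlgebraicGeometry CategoryTheory

namespace Groth.Agent.Lib.helper3.PrimeAwaySch

theorem main (R : Type u) [CommRing R] [Finite (PrimeSpectrum R)]
    {X : Scheme.{u}} (f : X ⟶ Spec (CommRingCat.of R)) [LocallyOfFiniteType f] [LocallyQuasiFinite f]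
    (x : X) :
    IsOpenImmersion (X.fromSpecStalk x) ∧ LocallyOfFiniteType (X.fromSpecStalk x ≫ f) := by
  obtain ⟨U, hU, hxU, -⟩ := exists_isAffineOpen_mem_and_subset (x := x) (U := ⊤) trivial
  -- the base ring has finite spectrum
  have hfinA : Finite (PrimeSpectrum Γ(Spec (CommRingCat.of R), ⊤)) := by
    let e : Γ(Spec (CommRingCat.of R), ⊤) ≃+* R :=
      (Scheme.ΓSpecIso (CommRingCat.of R)).commRingCatIsoToRingEquiv
    exact Finite.of_equiv _ (PrimeSpectrum.comapEquiv e).toEquiv.symm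
  -- quasi-finiteness of the ring map
  have hq : (f.appLE ⊤ U le_top).hom.QuasiFinite :=
    HasRingHomProperty.appLE (P := @LocallyQuasiFinite) f inferInstance
      ⟨⊤, isAffineOpen_top _⟩ ⟨U, hU⟩ le_top
  have hfinB : Finite (PrimeSpectrum Γ(X, U)) := by
    letI := (f.appLE ⊤ U le_top).hom.toAlgebra
    haveI : Algebra.QuasiFinite Γ(Spec (CommRingCat.of R), ⊤) Γ(X, U) := hq
    exact Algebra.QuasiFinite.finite_primeSpectrum Γ(Spec (CommRingCat.of R), ⊤) Γ(X, U)
  -- the stalk is a principal localization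
  letI : Algebra Γ(X, U) (X.presheaf.stalk x) :=
    TopCat.Presheaf.algebra_section_stalk X.presheaf ⟨x, hxU⟩
  haveI hloc : IsLocalization.AtPrime (X.presheaf.stalk x) (hU.primeIdealOf ⟨x, hxU⟩).asIdeal :=
    hU.isLocalization_stalk ⟨x, hxU⟩
  obtain ⟨b, hb, hlocb⟩ := Groth.Agent.Lib.helper3.PrimeAway.exists_away_isLocalization_atPrime
    (hU.primeIdealOf ⟨x, hxU⟩).asIdeal
  let e : Localization.Away b ≃ₐ[Γ(X, U)] X.presheaf.stalk x :=
    IsLocalization.algEquiv (hU.primeIdealOf ⟨x, hxU⟩).asIdeal.primeCompl _ _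
  haveI : IsLocalization.Away b (X.presheaf.stalk x) :=
    IsLocalization.isLocalization_of_algEquiv (.powers b) e
  have h1 : IsOpenImmersion (Spec.map (X.presheaf.germ U x hxU)) :=
    IsOpenImmersion.of_isLocalization (R := Γ(X, U)) (S := X.presheaf.stalk x) b
  have h2 : IsOpenImmersion (X.fromSpecStalk x) := by
    rw [← hU.fromSpecStalk_eq_fromSpecStalk hxU, IsAffineOpen.fromSpecStalk]
    infer_instance
  exact ⟨h2, inferInstance⟩

end Groth.Agent.Lib.helper3.PrimeAwaySch
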