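import Mathlib
/-!
# Flattening ideal of a surjection out of a projective module, II (helper3; for S1229)

Variant of `ProjFlatten.exists_ideal_of_projective` with a weaker finiteness hypothesis: the ideal
is finitely generated as soon as some finitely generated `B`-submodule `K₀ ≤ ker u` has the same
"content" as `ker u`.
-/

set_option autoImplicit false
set_option linter.style.haveILetI false
set_option linter.unusedSectionVars false
universe u

open TensorProduct

namespace Groth.Agent.Lib.helper3.ProjFlatten

theorem exists_ideal_of_projective' {A B : Type u} [CommRing A] [CommRing B] [Algebra A B]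
    (N : Type u) [AddCommGroup N] [Module B N] [Module A N] [IsScalarTower A B N]
    [Module.Projective A N]
    (N' : Type u) [AddCommGroup N'] [Module B N'] [Module A N'] [IsScalarTower A B N']
    (u : N →ₗ[B] N') (hu : Function.Surjective u) :
    ∃ I : Ideal A, (∀ (A' : Type u) [CommRing A'] [Algebra A A'],
        Function.Bijective ((u.restrictScalars A).baseChange A') ↔
          I.map (algebraMap A A') = ⊥) ∧
      ((∃ K₀ : Submodule B N, K₀.FG ∧ K₀ ≤ LinearMap.ker u ∧
        ∀ J : Ideal A, (∀ k ∈ K₀, k ∈ J • (⊤ : Submodule A N)) →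
          ∀ k ∈ LinearMap.ker u, k ∈ J • (⊤ : Submodule A N)) → I.FG) := by
  classical
  obtain ⟨s, hs⟩ := Module.projective_def'.mp (inferInstance : Module.Projective A N)
  have hrepr : ∀ x : N, x = ∑ n ∈ (s x).support, (s x n) • n := by
    intro x
    have h1 := LinearMap.congr_fun hs x
    simp only [LinearMap.comp_apply, LinearMap.id_apply] at h1
    rw [Finsupp.linearCombination_apply, Finsupp.sum] at h1
    exact h1.symm
  set uA : N →ₗ[A] N' := u.restrictScalars A with huA
  set K : Submodule A N := LinearMap.ker uA with hK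
  set I : Ideal A := Ideal.span {a | ∃ k ∈ K, ∃ n, a = s k n} with hI
  refine ⟨I, ?_, ?_⟩
  · intro A' _ _
    have hex : Function.Exact (K.subtype.lTensor A') (uA.lTensor A') :=
      lTensor_exact A' (LinearMap.exact_subtype_ker_map uA) hu
    constructor
    · intro hbij
      rw [Ideal.map_span, Ideal.span_eq_bot]
      rintro _ ⟨a, ⟨k, hk, n₀, rfl⟩, rfl⟩
      let φ : N →ₗ[A] A := (Finsupp.lapply n₀) ∘ₗ s
      have h1 : (uA.baseChange A') ((1 : A') ⊗ₜ[A] k) = 0 := by
        rw [LinearMap.baseChange_tmul]
        have : uA k = 0 := hk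
        rw [this, TensorProduct.tmul_zero]
      have h2 : ((1 : A') ⊗ₜ[A] k : A' ⊗[A] N) = 0 := hbij.1 (h1.trans (map_zero _).symm)
      have h3 := congrArg (fun z => AlgebraTensorModule.rid A A' A' ((φ.baseChange A') z)) h2
      simp only [LinearMap.baseChange_tmul, map_zero, AlgebraTensorModule.rid_tmul] at h3
      have h4 : φ k = s k n₀ := rfl
      rw [h4, Algebra.smul_def, mul_one] at h3
      exact h3
    · intro hIA
      have hzero : ∀ (a' : A') (k : K), (a' ⊗ₜ[A] (k : N) : A' ⊗[A] N) = 0 := by
        intro a' k
        conv_lhs => rw [hrepr (k : N)]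
        rw [TensorProduct.tmul_sum]
        apply Finset.sum_eq_zero
        intro n _
        have h5 : algebraMap A A' (s (k : N) n) = 0 := by
          have hmem : algebraMap A A' (s (k : N) n) ∈ I.map (algebraMap A A') :=
            Ideal.mem_map_of_mem _ (Ideal.subset_span ⟨k, k.2, n, rfl⟩)
          rw [hIA] at hmem
          exact hmem
        rw [TensorProduct.tmul_smul, TensorProduct.smul_tmul', Algebra.smul_def, h5, zero_mul,
          TensorProduct.zero_tmul]
      refine ⟨?_, LinearMap.lTensor_surjective A' hu⟩
      rw [injective_iff_map_eq_zero]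
      intro z hz
      have hz' : uA.lTensor A' z = 0 := hz
      obtain ⟨w, rfl⟩ := (hex z).mp hz'
      induction w using TensorProduct.induction_on with
      | zero => simp
      | tmul a' k => rw [LinearMap.lTensor_tmul]; exact hzero a' k
      | add x y hx hy =>
        rw [map_add]
        have hx' : uA.lTensor A' (K.subtype.lTensor A' x) = 0 := (hex _).mpr ⟨x, rfl⟩
        have hy' : uA.lTensor A' (K.subtype.lTensor A' y) = 0 := (hex _).mpr ⟨y, rfl⟩
        rw [hx hx' hx', hy hy' hy', add_zero]
  · rintro ⟨K₀, ⟨t, ht⟩, hK₀le, hcontent⟩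
    set I₀ : Ideal A :=
      Ideal.span (↑(t.biUnion (fun k => (s k).support.image (fun n => s k n))) : Set A) with hI₀
    have hI₀fg : I₀.FG := ⟨_, rfl⟩
    have htK : ∀ k ∈ t, k ∈ K := by
      intro k hk
      have : k ∈ LinearMap.ker u := hK₀le (ht ▸ Submodule.subset_span hk)
      exact this
    have hcoord : ∀ k ∈ t, ∀ n, s k n ∈ I₀ := by
      intro k hk n
      by_cases hn : n ∈ (s k).support
      · apply Ideal.subset_span
        rw [Finset.mem_coe, Finset.mem_biUnion]
        exact ⟨k, hk, Finset.mem_image_of_mem _ hn⟩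
      · rw [Finsupp.notMem_support_iff.mp hn]
        exact zero_mem _
    have hstable : ∀ (b : B) (y : N), y ∈ I₀ • (⊤ : Submodule A N) →
        b • y ∈ I₀ • (⊤ : Submodule A N) := by
      intro b y hy
      refine Submodule.smul_induction_on hy ?_ ?_
      · intro a ha x _
        rw [smul_comm]
        exact Submodule.smul_mem_smul ha Submodule.mem_top
      · intro x y hx hy
        rw [smul_add]
        exact add_mem hx hy
    have hK₀ : ∀ k ∈ K₀, k ∈ I₀ • (⊤ : Submodule A N) := by
      intro k hk
      rw [← ht] at hk
      refine Submodule.span_induction ?_ ?_ ?_ ?_ hk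
      · intro x hx
        rw [hrepr x]
        exact Submodule.sum_mem _ fun n _ =>
          Submodule.smul_mem_smul (hcoord x hx n) Submodule.mem_top
      · exact zero_mem _
      · intro x y _ _ hx hy
        exact add_mem hx hy
      · intro b x _ hx
        exact hstable b x hx
    have hKle : ∀ k, k ∈ LinearMap.ker u → k ∈ I₀ • (⊤ : Submodule A N) :=
      hcontent I₀ hK₀
    have hcoord' : ∀ y, y ∈ I₀ • (⊤ : Submodule A N) → ∀ n, s y n ∈ I₀ := by
      intro y hy n
      refine Submodule.smul_induction_on hy ?_ ?_
      · intro a ha x _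
        rw [map_smul, Finsupp.smul_apply, smul_eq_mul]
        exact Ideal.mul_mem_right _ _ ha
      · intro x y hx hy
        rw [map_add, Finsupp.add_apply]
        exact add_mem hx hy
    have hle : I ≤ I₀ := by
      rw [hI, Ideal.span_le]
      rintro _ ⟨k, hk, n, rfl⟩
      exact hcoord' k (hKle k hk) n
    have hge : I₀ ≤ I := by
      rw [hI₀, Ideal.span_le]
      intro a ha
      rw [Finset.mem_coe, Finset.mem_biUnion] at ha
      obtain ⟨k, hk, ha⟩ := ha
      rw [Finset.mem_image] at ha
      obtain ⟨n, _, rfl⟩ := ha
      exact Ideal.subset_span ⟨k, htK k hk, n, rfl⟩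
    rw [le_antisymm hle hge]
    exact hI₀fg

end Groth.Agent.Lib.helper3.ProjFlatten
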