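import Mathlib
import Groth.Prelude.Def_Found
import Groth.Agent.Lib.Helper3.PruferDimFn3
import Groth.Agent.Lib.Helper3.FibreChev

/-!
# Finite type algebras over finite-dimensional Prüfer domains are catenary (helper3; = S14734)
-/

set_option autoImplicit false
universe u
open Function

namespace Groth.Agent.Lib.helper3.PruferDimFn

open Groth.Agent.Lib.helper3 Groth.Agent.Lib.helper3.DimIneq

section abstract

variable {X : Type*} [PartialOrder X] (δ : X → ℤ)

theorem series_le (h1 : ∀ a b : X, a < b → δ b < δ a) (s : LTSeries X) :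
    ∀ i : Fin (s.length + 1), ((i : ℕ) : ℤ) ≤ δ (s 0) - δ (s i) := by
  intro i
  induction i using Fin.induction with
  | zero => simp
  | succ i ih =>
    have := h1 _ _ (s.step i)
    have hi : ((i.succ : Fin (s.length + 1)) : ℕ) = (i : ℕ) + 1 := by simp
    have hc : ((i.castSucc : Fin (s.length + 1)) : ℕ) = (i : ℕ) := by simp
    rw [hi]
    rw [hc] at ih
    push_cast
    omega

theorem series_eq (h2 : ∀ a b : X, a ⋖ b → δ a = δ b + 1) (s : LTSeries X)
    (hs : ∀ i : Fin s.length, s i.castSucc ⋖ s i.succ) :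
    ∀ i : Fin (s.length + 1), ((i : ℕ) : ℤ) = δ (s 0) - δ (s i) := by
  intro i
  induction i using Fin.induction with
  | zero => simp
  | succ i ih =>
    have := h2 _ _ (hs i)
    have hi : ((i.succ : Fin (s.length + 1)) : ℕ) = (i : ℕ) + 1 := by simp
    have hc : ((i.castSucc : Fin (s.length + 1)) : ℕ) = (i : ℕ) := by simp
    rw [hi]
    rw [hc] at ih
    push_cast
    omega

end abstract

/-- a ring whose spectrum carries a bounded dimension function is catenary of finite dimension. -/
theorem isCatenary_of_dimFn {A : Type u} [CommRing A] (δ : PrimeSpectrum A → ℤ) (lo hi : ℤ)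
    (hb : ∀ x, lo ≤ δ x ∧ δ x ≤ hi)
    (h1 : ∀ a b : PrimeSpectrum A, a < b → δ b < δ a)
    (h2 : ∀ a b : PrimeSpectrum A, a ⋖ b → δ a = δ b + 1) :
    CAlg.IsCatenary A ∧ ringKrullDim A < ⊤ := by
  have hlen : ∀ s : LTSeries (PrimeSpectrum A), (s.length : ℤ) ≤ δ s.head - δ s.last := by
    intro s
    have := series_le δ h1 s (Fin.last _)
    simp only [Fin.val_last] at this
    exact this
  have hlen' : ∀ s : LTSeries (PrimeSpectrum A),
      (∀ i : Fin s.length, s i.castSucc ⋖ s i.succ) → (s.length : ℤ) = δ s.head - δ s.last := by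
    intro s hs
    have := series_eq δ h2 s hs (Fin.last _)
    simp only [Fin.val_last] at this
    exact this
  refine ⟨⟨?_, ?_⟩, ?_⟩
  · intro p q _
    refine ⟨(δ p - δ q).toNat, fun s hp hq => ?_⟩
    have := hlen s
    rw [hp, hq] at this
    omega
  · intro s t hh hl hs ht
    have e1 := hlen' s hs
    have e2 := hlen' t ht
    rw [hh, hl] at e1
    omega
  · have : ringKrullDim A < (((hi - lo).toNat + 1 : ℕ) : WithBot ℕ∞) := by
      unfold ringKrullDim
      rw [Order.krullDim_lt_coe_iff]
      intro s
      have := hlen s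
      have b1 := hb s.head
      have b2 := hb s.last
      omega
    exact lt_of_lt_of_le this le_top

section concrete

variable {R : Type u} [CommRing R] [IsDomain R] {S : Type u} [CommRing S] [Algebra R S]

/-- the dimension function. -/
noncomputable def delta (R : Type u) [CommRing R] {S : Type u} [CommRing S] [Algebra R S]
    (P : PrimeSpectrum S) : ℤ :=
  (Cardinal.toNat (Algebra.trdeg (R ⧸ P.asIdeal.under R) (S ⧸ P.asIdeal)) : ℤ) -
    ((P.asIdeal.under R).height.toNat : ℤ)

theorem exists_nat_of_lt_top (x : WithBot ℕ∞) (h : x < ⊤) : ∃ d : ℕ, x ≤ (d : WithBot ℕ∞) := by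
  induction x using WithBot.recBotCoe with
  | bot => exact ⟨0, bot_le⟩
  | coe a =>
    induction a using ENat.recTopCoe with
    | top => exact absurd h (lt_irrefl _)
    | coe n => exact ⟨n, le_rfl⟩

theorem delta_bounds (hdim : ringKrullDim R < ⊤) [Algebra.FiniteType R S] :
    ∃ lo hi : ℤ, ∀ P : PrimeSpectrum S, lo ≤ delta R P ∧ delta R P ≤ hi := by
  obtain ⟨n, f, hf⟩ := Algebra.FiniteType.iff_quotient_mvPolynomial''.mp
    (inferInstance : Algebra.FiniteType R S)
  obtain ⟨d, hd⟩ := exists_nat_of_lt_top _ hdim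
  refine ⟨-(d : ℤ), (n : ℤ), fun P => ?_⟩
  obtain ⟨nP, hnP⟩ := exists_nat_td_quotientMap (R := R) P.asIdeal
  have h1 : nP ≤ n := by
    have := FibreParam.td_quotientMap_le_card f hf P.asIdeal
    rw [hnP, Fintype.card_fin] at this
    exact_mod_cast this
  haveI : (P.asIdeal.comap (algebraMap R S)).IsPrime := Ideal.comap_isPrime _ _
  obtain ⟨hp, hhp⟩ := ENat.ne_top_iff_exists.mp
    (height_ne_top_of_dim hdim (P.asIdeal.comap (algebraMap R S)))
  have h2 : hp ≤ d := by
    have := (Ideal.height_le_ringKrullDim_of_isPrime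
      (I := P.asIdeal.comap (algebraMap R S))).trans hd
    rw [← hhp] at this
    exact_mod_cast this
  unfold delta
  rw [trdeg_quotient_eq_td, hnP, Ideal.under_def, ← hhp]
  simp only [Cardinal.toNat_natCast, ENat.toNat_natCast]
  constructor <;> omega

/-- **S14734**, first half. -/
theorem isCatenary_of_prufer
    (hR : ∀ (p : Ideal R) [p.IsPrime], ValuationRing (Localization.AtPrime p))
    (hdim : ringKrullDim R < ⊤) [Algebra.FiniteType R S] :
    CAlg.IsCatenary S ∧ ringKrullDim S < ⊤ := by
  obtain ⟨lo, hi, hb⟩ := delta_bounds (R := R) (S := S) hdim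
  exact isCatenary_of_dimFn (delta R) lo hi hb
    (fun a b hab => (dimension_function hR hdim a.asIdeal b.asIdeal hab).1)
    (fun a b hab => ((dimension_function hR hdim a.asIdeal b.asIdeal hab.lt).2).mp hab)

/-- **S14734**, second half: localizations. -/
theorem isCatenary_localization_of_prufer
    (hR : ∀ (p : Ideal R) [p.IsPrime], ValuationRing (Localization.AtPrime p))
    (hdim : ringKrullDim R < ⊤) [Algebra.FiniteType R S]
    (M : Submonoid S) (T : Type u) [CommRing T] [Algebra S T] [IsLocalization M T] :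
    CAlg.IsCatenary T ∧ ringKrullDim T < ⊤ := by
  obtain ⟨lo, hi, hb⟩ := delta_bounds (R := R) (S := S) hdim
  set c : PrimeSpectrum T → PrimeSpectrum S := PrimeSpectrum.comap (algebraMap S T) with hc
  have hinj : Injective c := PrimeSpectrum.localization_comap_injective T M
  have hle : ∀ a b : PrimeSpectrum T, a ≤ b ↔ c a ≤ c b := by
    intro a b
    constructor
    · intro h
      exact Ideal.comap_mono (f := algebraMap S T) h
    · intro h
      change a.asIdeal ≤ b.asIdeal
      rw [← IsLocalization.map_under M T a.asIdeal, ← IsLocalization.map_under M T b.asIdeal]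
      exact Ideal.map_mono h
  have hlt : ∀ a b : PrimeSpectrum T, a < b ↔ c a < c b := by
    intro a b
    rw [lt_iff_le_and_ne, lt_iff_le_and_ne, hle a b, hinj.ne_iff]
  have hcov : ∀ a b : PrimeSpectrum T, a ⋖ b → c a ⋖ c b := by
    intro a b hab
    refine ⟨(hlt a b).mp hab.lt, fun P' h1 h2 => ?_⟩
    have hb' : c b ∈ Set.range c := ⟨b, rfl⟩
    rw [PrimeSpectrum.localization_comap_range T M] at hb'
    have hd : Disjoint (M : Set S) (P'.asIdeal : Set S) :=
      Set.disjoint_of_subset_right (show (P'.asIdeal : Set S) ⊆ (c b).asIdeal from h2.le) hb'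
    have hP' : P' ∈ Set.range c := by
      rw [PrimeSpectrum.localization_comap_range T M]; exact hd
    obtain ⟨e, rfl⟩ := hP'
    exact hab.2 ((hlt a e).mpr h1) ((hlt e b).mpr h2)
  exact isCatenary_of_dimFn (fun a => delta R (c a)) lo hi (fun a => hb (c a))
    (fun a b hab => (dimension_function hR hdim (c a).asIdeal (c b).asIdeal
      ((hlt a b).mp hab)).1)
    (fun a b hab => ((dimension_function hR hdim (c a).asIdeal (c b).asIdeal
      ((hlt a b).mp hab.lt)).2).mp (hcov a b hab))

end concrete

end Groth.Agent.Lib.helper3.PruferDimFn
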