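import Mathlib
import Groth.Agent.Lib.Helper3.UOImageDim2
import Groth.Agent.Lib.Helper3.EquidimIrr
import Groth.Agent.Lib.Helper3.FibreGeneric

/-!
# Irreducible schemes dominating a valuation ring: closed and generic fibre have the same
dimension (helper3; = S4932, EGA IV 14.3.10)
-/

set_option autoImplicit false
universe u
open CategoryTheory AlgebraicGeometry CategoryTheory.Limits TopologicalSpace Topology Function

namespace Groth.Agent.Lib.helper3.ValFibreDimIrr

open Groth.Agent.Lib.helper3 Groth.Agent.Lib.helper3.DimIneq Groth.Agent.Lib.helper3.JacDim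
  Groth.Agent.Lib.helper3.UOImageDim

theorem dim_fiber_eq_dim_preimage {X S : Scheme.{u}} (f : X ⟶ S) (t : S) :
    topologicalKrullDim ↥(f.fiber t) = topologicalKrullDim ↥(f.base ⁻¹' {t} ∩ Set.univ) := by
  rw [IsHomeomorph.topologicalKrullDim_eq _ (f.fiberHomeo t).isHomeomorph]
  exact dim_congr (Set.inter_univ _).symm

theorem main {A : Type u} [CommRing A] [IsDomain A]
    [ValuationRing A] {X : Scheme.{u}} [IrreducibleSpace X] (f : X ⟶ Spec (CommRingCat.of A))
    [LocallyOfFiniteType f] [IsDominant f]
    (h0 : Nonempty ↥(f.fiber (IsLocalRing.closedPoint A))) :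
    topologicalKrullDim ↥(f.fiber (IsLocalRing.closedPoint A)) =
      topologicalKrullDim ↥(f.fiber (genericPoint (Spec (CommRingCat.of A)))) := by
  set ξ := genericPoint X with hξ
  have hξη : f.base ξ = genericPoint (Spec (CommRingCat.of A)) :=
    RelDim.genericPoint_map_eq f f.denseRange
  obtain ⟨n, hn⟩ := exists_nat_td_residueFieldMap f ξ
  have hgen : topologicalKrullDim ↥(f.fiber (genericPoint (Spec (CommRingCat.of A)))) =
      (n : WithBot ℕ∞) := by
    rw [dim_fiber_eq_dim_preimage, ← hξη, ← DimCriteria.dim_closure_inter_fibre f ξ n hn]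
    apply dim_congr
    rw [(genericPoint_spec X).def, Set.inter_comm]
  rw [hgen, dim_fiber_eq_dim_preimage]
  apply le_antisymm
  · apply dim_fibre_inter_le_of_forall_td_le f _ _ isClosed_univ
    intro c _ _
    obtain ⟨m, hm⟩ := exists_nat_td_residueFieldMap f c
    have hle := td_le_of_specializes A f c ξ (genericPoint_specializes c)
    rw [hm, hn] at hle
    exact ⟨m, hm, by exact_mod_cast hle⟩
  · obtain ⟨x₀⟩ := h0
    set x := (f.fiberι (IsLocalRing.closedPoint A)).base x₀ with hx
    have hfx : f.base x = IsLocalRing.closedPoint A := by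
      have h1 : x ∈ Set.range (f.fiberι (IsLocalRing.closedPoint A)).base := ⟨x₀, rfl⟩
      rw [f.range_fiberι] at h1
      exact h1
    obtain ⟨z, N, hzx, hfz, hzmax, hN, -⟩ := EquidimIrr.exists_maximal_fibre_point f x
    have h1 := ValFibreGeneric.td_eq_of_specializes_of_maximal A f z ξ (genericPoint_specializes z)
      hzmax
    rw [hN, hn] at h1
    have hNn : n = N := by exact_mod_cast h1
    rw [hNn]
    exact td_le_dim_fibre_inter f _ _ isClosed_univ z trivial (hfz.trans hfx) N hN

end Groth.Agent.Lib.helper3.ValFibreDimIrr
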