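import Mathlib
import Groth.Agent.Lib.Helper3.ValFibreDimIrr
import Groth.Agent.Lib.Helper3.ValFibreGeneric
import Groth.Agent.Lib.Helper3.PruferDimFn

/-!
# Irreducible schemes dominating a Prüfer domain: nonempty fibres have the dimension of the
generic fibre (helper3; Prüfer version of `ValFibreDimIrr`, = S14733)

* `prufer_of_ringEquiv` : the Prüfer property transfers along ring isomorphisms;
* `td_le_of_specializes'`, `td_eq_of_specializes_of_maximal'` : scheme-level Prüfer versions;
* `main` : `dim f⁻¹(γ) = dim f⁻¹(η)` for nonempty fibres.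
-/

set_option autoImplicit false
set_option linter.style.haveILetI false
set_option linter.unusedSimpArgs false
universe u
open CategoryTheory AlgebraicGeometry CategoryTheory.Limits TopologicalSpace Topology Function

namespace Groth.Agent.Lib.helper3.PruferFibreDim

open Groth.Agent.Lib.helper3 Groth.Agent.Lib.helper3.DimIneq Groth.Agent.Lib.helper3.JacDim
  Groth.Agent.Lib.helper3.UOImageDim Groth.Agent.Lib.helper3.ValFibreGeneric
  Groth.Agent.Lib.helper3.PruferDimFn

theorem prufer_of_ringEquiv {A B : Type u} [CommRing A] [IsDomain A] [CommRing B] [IsDomain B]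
    (hB : ∀ (p : Ideal B) [p.IsPrime], ValuationRing (Localization.AtPrime p)) (e : A ≃+* B)
    (p : Ideal A) [p.IsPrime] : ValuationRing (Localization.AtPrime p) := by
  haveI : (p.comap e.symm.toRingHom).IsPrime := Ideal.comap_isPrime _ _
  haveI := hB (p.comap e.symm.toRingHom)
  have hc : (p.comap e.symm.toRingHom).comap e.toRingHom = p := by
    ext x
    simp [Ideal.mem_comap]
  refine Function.Surjective.valuationRing
    (Localization.localRingHom (p.comap e.symm.toRingHom) p e.symm.toRingHom ?_)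
    (RingHom.surjective_localRingHom_of_surjective e.symm.toRingHom e.symm.surjective p)
  rfl

section scheme

variable (R : Type u) [CommRing R] [IsDomain R]
  (hR : ∀ (p : Ideal R) [p.IsPrime], ValuationRing (Localization.AtPrime p))
  {X : Scheme.{u}} (φ : X ⟶ Spec (CommRingCat.of R)) [LocallyOfFiniteType φ]

include hR

/-- over a Prüfer domain the residue transcendence degree decreases under specialization. -/
theorem td_le_of_specializes' (x x' : X) (hgen : x' ⤳ x) :
    td (φ.residueFieldMap x).hom ≤ td (φ.residueFieldMap x').hom := by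
  obtain ⟨W, hW, hxW, -⟩ := exists_isAffineOpen_mem_and_subset (x := x) (U := ⊤) trivial
  have hx'W : x' ∈ W := hgen.mem_open W.2 hxW
  have hV := isAffineOpen_top (Spec (CommRingCat.of R))
  have e : W ≤ φ ⁻¹ᵁ ⊤ := le_top
  set ψ := (φ.appLE ⊤ W e).hom with hψ
  have hψft : ψ.FiniteType :=
    HasRingHomProperty.appLE (P := @LocallyOfFiniteType) φ inferInstance ⟨⊤, hV⟩ ⟨W, hW⟩ e
  let eR : Γ(Spec (CommRingCat.of R), ⊤) ≃+* R :=
    (Scheme.ΓSpecIso (CommRingCat.of R)).commRingCatIsoToRingEquiv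
  haveI : IsDomain Γ(Spec (CommRingCat.of R), ⊤) := MulEquiv.isDomain R eR.toMulEquiv
  have hΓ : ∀ (p : Ideal Γ(Spec (CommRingCat.of R), ⊤)) [p.IsPrime],
      ValuationRing (Localization.AtPrime p) := fun p _ => prufer_of_ringEquiv hR eR p
  letI := ψ.toAlgebra
  haveI : Algebra.FiniteType Γ(Spec (CommRingCat.of R), ⊤) Γ(X, W) := hψft
  set P := (hW.primeIdealOf ⟨x', hx'W⟩).asIdeal with hP
  set Q := (hW.primeIdealOf ⟨x, hxW⟩).asIdeal with hQ
  have hPQ : P ≤ Q := (specializes_iff_primeIdealOf_le hW x' x hx'W hxW).mp hgen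
  have key := td_quotientMap_le_of_le (A := Γ(Spec (CommRingCat.of R), ⊤)) hΓ P Q hPQ
  rw [← td_quotientMap_eq φ hV hW e x' hx'W, ← td_quotientMap_eq φ hV hW e x hxW]
  exact key

/-- over a Prüfer domain, a generization of a fibre-generic point has the same residue
transcendence degree. -/
theorem td_eq_of_specializes_of_maximal' (x x' : X) (hgen : x' ⤳ x)
    (hx : ∀ y : X, y ⤳ x → φ y = φ x → y = x) :
    td (φ.residueFieldMap x').hom = td (φ.residueFieldMap x).hom := by
  obtain ⟨W, hW, hxW, -⟩ := exists_isAffineOpen_mem_and_subset (x := x) (U := ⊤) trivial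
  have hx'W : x' ∈ W := hgen.mem_open W.2 hxW
  have hV := isAffineOpen_top (Spec (CommRingCat.of R))
  have e : W ≤ φ ⁻¹ᵁ ⊤ := le_top
  set ψ := (φ.appLE ⊤ W e).hom with hψ
  have hψft : ψ.FiniteType :=
    HasRingHomProperty.appLE (P := @LocallyOfFiniteType) φ inferInstance ⟨⊤, hV⟩ ⟨W, hW⟩ e
  let eR : Γ(Spec (CommRingCat.of R), ⊤) ≃+* R :=
    (Scheme.ΓSpecIso (CommRingCat.of R)).commRingCatIsoToRingEquiv
  haveI : IsDomain Γ(Spec (CommRingCat.of R), ⊤) := MulEquiv.isDomain R eR.toMulEquiv
  have hΓ : ∀ (p : Ideal Γ(Spec (CommRingCat.of R), ⊤)) [p.IsPrime],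
      ValuationRing (Localization.AtPrime p) := fun p _ => prufer_of_ringEquiv hR eR p
  letI := ψ.toAlgebra
  haveI : Algebra.FiniteType Γ(Spec (CommRingCat.of R), ⊤) Γ(X, W) := hψft
  set P := (hW.primeIdealOf ⟨x', hx'W⟩).asIdeal with hP
  set Q := (hW.primeIdealOf ⟨x, hxW⟩).asIdeal with hQ
  have hPQ : P ≤ Q := (specializes_iff_primeIdealOf_le hW x' x hx'W hxW).mp hgen
  have hcomap : ∀ (y : X) (hy : y ∈ W), (hW.primeIdealOf ⟨y, hy⟩).asIdeal.comap ψ =
      (hV.primeIdealOf ⟨φ y, e hy⟩).asIdeal := by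
    intro y hy
    have := IsAffineOpen.comap_primeIdealOf_appLE (f := φ) (x := y) ⊤ hV W hW e hy
    exact congrArg PrimeSpectrum.asIdeal this
  have key := td_quotientMap_eq_of_maximal' (A := Γ(Spec (CommRingCat.of R), ⊤)) hΓ P Q hPQ ?_
  · rw [← td_quotientMap_eq φ hV hW e x' hx'W, ← td_quotientMap_eq φ hV hW e x hxW]
    exact key.symm
  · intro Q' hQ' hPQ' hQ'Q hc
    haveI := hQ'
    obtain ⟨w, hwW, hwQ⟩ := exists_point_of_prime hW Q'
    have hwx : w ⤳ x :=
      (specializes_iff_primeIdealOf_le hW w x hwW hxW).mpr (by rw [hwQ]; exact hQ'Q)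
    have hφw : φ w = φ x := by
      have h1 : (hV.primeIdealOf ⟨φ w, e hwW⟩).asIdeal =
          (hV.primeIdealOf ⟨φ x, e hxW⟩).asIdeal := by
        rw [← hcomap w hwW, ← hcomap x hxW, hwQ]
        exact hc
      have h2 : hV.primeIdealOf ⟨φ w, e hwW⟩ = hV.primeIdealOf ⟨φ x, e hxW⟩ :=
        PrimeSpectrum.ext h1
      have h3 := congrArg hV.fromSpec h2
      rw [hV.fromSpec_primeIdealOf, hV.fromSpec_primeIdealOf] at h3
      exact h3
    have hwx' := hx w hwx hφw
    subst hwx'
    rw [← hwQ]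

end scheme

open ValFibreDimIrr in
/-- **S14733.** -/
theorem main {A : Type u} [CommRing A] [IsDomain A]
    (hA : ∀ (p : Ideal A) [p.IsPrime], ValuationRing (Localization.AtPrime p))
    {X : Scheme.{u}} [IrreducibleSpace X] (f : X ⟶ Spec (CommRingCat.of A))
    [LocallyOfFiniteType f] [IsDominant f] (γ : Spec (CommRingCat.of A))
    (h0 : Nonempty ↥(f.fiber γ)) :
    topologicalKrullDim ↥(f.fiber γ) =
      topologicalKrullDim ↥(f.fiber (genericPoint (Spec (CommRingCat.of A)))) := by
  set ξ := genericPoint X with hξ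
  have hξη : f.base ξ = genericPoint (Spec (CommRingCat.of A)) :=
    RelDim.genericPoint_map_eq f f.denseRange
  obtain ⟨n, hn⟩ := exists_nat_td_residueFieldMap f ξ
  have hgen : topologicalKrullDim ↥(f.fiber (genericPoint (Spec (CommRingCat.of A)))) =
      (n : WithBot ℕ∞) := by
    rw [dim_fiber_eq_dim_preimage, ← hξη, ← DimCriteria.dim_closure_inter_fibre f ξ n hn]
    apply dim_congr
    rw [(genericPoint_spec X).def, Set.inter_comm]
  rw [hgen, dim_fiber_eq_dim_preimage]
  apply le_antisymm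
  · apply dim_fibre_inter_le_of_forall_td_le f _ _ isClosed_univ
    intro c _ _
    obtain ⟨m, hm⟩ := exists_nat_td_residueFieldMap f c
    have hle := td_le_of_specializes' A hA f c ξ (genericPoint_specializes c)
    rw [hm, hn] at hle
    exact ⟨m, hm, by exact_mod_cast hle⟩
  · obtain ⟨x₀⟩ := h0
    set x := (f.fiberι γ).base x₀ with hx
    have hfx : f.base x = γ := by
      have h1 : x ∈ Set.range (f.fiberι γ).base := ⟨x₀, rfl⟩
      rw [f.range_fiberι] at h1
      exact h1
    obtain ⟨z, N, hzx, hfz, hzmax, hN, -⟩ := EquidimIrr.exists_maximal_fibre_point f x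
    have h1 := td_eq_of_specializes_of_maximal' A hA f z ξ (genericPoint_specializes z) hzmax
    rw [hN, hn] at h1
    have hNn : n = N := by exact_mod_cast h1
    rw [hNn]
    exact td_le_dim_fibre_inter f _ _ isClosed_univ z trivial (hfz.trans hfx) N hN

end Groth.Agent.Lib.helper3.PruferFibreDim
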