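import Mathlib
import Groth.Agent.Lib.Helper3.PruferDimFn3
/-!
# Semilocal Prüfer domains of finite Krull dimension (helper3)

* `finite_of_total_of_krullDim_lt_top` : a totally ordered poset of finite Krull dimension is finite;
* `finite_primeSpectrum` : a semilocal Prüfer domain of finite Krull dimension has finite spectrum;
* `noetherianSpace_of_finite_primeSpectrum` : finite type algebras over a ring with finite spectrum
  have Noetherian spectrum; `noetherianSpace_localization`;
* `exists_mem_iff_eq`, `exists_away_isLocalization_atPrime` : in a ring with finite spectrum, a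
  maximal ideal `m` is `V(a)` and `R_m = R[1/b]`.
-/

set_option autoImplicit false
set_option linter.style.haveILetI false
universe u
open TopologicalSpace TensorProduct

namespace Groth.Agent.Lib.helper3.PruferSemilocal

/-- a totally ordered partial order of finite Krull dimension is finite. -/
theorem finite_of_total_of_krullDim_lt_top {α : Type*} [PartialOrder α]
    (htot : ∀ a b : α, a ≤ b ∨ b ≤ a) (h : Order.krullDim α < ⊤) : Finite α := by
  classical
  by_contra hinf
  rw [not_finite_iff_infinite] at hinf
  letI : LinearOrder α :=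
    { (inferInstance : PartialOrder α) with
      le_total := htot
      toDecidableLE := Classical.decRel _ }
  have hge : ∀ n : ℕ, (n : WithBot ℕ∞) ≤ Order.krullDim α := by
    intro n
    obtain ⟨s, hs⟩ := Infinite.exists_subset_card_eq α (n + 1)
    let e := s.orderEmbOfFin hs
    let p : LTSeries α := ⟨n, fun i => e i, fun i => e.strictMono (Fin.castSucc_lt_succ)⟩
    exact Order.LTSeries.length_le_krullDim p
  obtain ⟨d, hd⟩ : ∃ d : ℕ, Order.krullDim α ≤ d := by
    have : Order.krullDim α ≠ ⊤ := h.ne
    cases hk : Order.krullDim α with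
    | bot => exact ⟨0, bot_le⟩
    | coe k =>
      cases hk' : k with
      | top => rw [hk, hk'] at this; exact absurd rfl this
      | coe m => exact ⟨m, le_rfl⟩
  have := (hge (d + 1)).trans hd
  norm_cast at this
  omega

variable {R : Type u} [CommRing R] [IsDomain R]
  (hR : ∀ (p : Ideal R) [p.IsPrime], ValuationRing (Localization.AtPrime p))
include hR

/-- a semilocal Prüfer domain of finite Krull dimension has finitely many primes. -/
theorem finite_primeSpectrum (hfin : Finite (MaximalSpectrum R)) (hdim : ringKrullDim R < ⊤) :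
    Finite (PrimeSpectrum R) := by
  classical
  have hsub : ∀ m : MaximalSpectrum R,
      Finite {p : PrimeSpectrum R // p.asIdeal ≤ m.asIdeal} := by
    intro m
    haveI := m.isMaximal.isPrime
    apply finite_of_total_of_krullDim_lt_top
    · rintro ⟨p, hp⟩ ⟨q, hq⟩
      have := PruferDimFn.le_total_of_le hR m.asIdeal p.asIdeal q.asIdeal hp hq
      exact this
    · refine lt_of_le_of_lt ?_ hdim
      exact Order.krullDim_le_of_strictMono (fun p => p.1) (fun a b hab => hab)
  have : (Set.univ : Set (PrimeSpectrum R)) =
      ⋃ m : MaximalSpectrum R, {p : PrimeSpectrum R | p.asIdeal ≤ m.asIdeal} := by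
    ext p
    simp only [Set.mem_univ, Set.mem_iUnion, Set.mem_ofPred_eq, true_iff]
    obtain ⟨m, hm, hpm⟩ := Ideal.exists_le_maximal p.asIdeal p.2.ne_top
    exact ⟨⟨m, hm⟩, hpm⟩
  rw [← Set.finite_univ_iff, this]
  exact Set.finite_iUnion (fun m => Set.finite_coe_iff.mp (hsub m))

omit hR in
/-- a finite type algebra over a ring with finite spectrum has Noetherian spectrum. -/
theorem noetherianSpace_of_finite_primeSpectrum {R S : Type u} [CommRing R] [CommRing S]
    [Algebra R S] [Algebra.FiniteType R S] [Finite (PrimeSpectrum R)] :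
    NoetherianSpace (PrimeSpectrum S) := by
  have hfib : ∀ p : PrimeSpectrum R,
      NoetherianSpace ↥(PrimeSpectrum.comap (algebraMap R S) ⁻¹' {p}) := by
    intro p
    haveI : Algebra.FiniteType p.asIdeal.ResidueField (p.asIdeal.Fiber S) :=
      inferInstanceAs (Algebra.FiniteType p.asIdeal.ResidueField (p.asIdeal.ResidueField ⊗[R] S))
    haveI : IsNoetherianRing (p.asIdeal.Fiber S) :=
      Algebra.FiniteType.isNoetherianRing p.asIdeal.ResidueField _
    exact (PrimeSpectrum.preimageHomeomorphFiber R S p).isInducing.noetherianSpace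
  have hU := NoetherianSpace.iUnion
    (fun p : PrimeSpectrum R => PrimeSpectrum.comap (algebraMap R S) ⁻¹' {p}) (hf := hfib)
  have : (⋃ p : PrimeSpectrum R, PrimeSpectrum.comap (algebraMap R S) ⁻¹' {p}) = Set.univ := by
    ext q
    simp
  rw [this] at hU
  exact noetherian_univ_iff.mp hU

omit hR in
theorem noetherianSpace_localization {S T : Type u} [CommRing S] [CommRing T] [Algebra S T]
    (M : Submonoid S) [IsLocalization M T] [NoetherianSpace (PrimeSpectrum S)] :
    NoetherianSpace (PrimeSpectrum T) :=
  (PrimeSpectrum.localization_comap_isEmbedding T M).isInducing.noetherianSpace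

omit hR [IsDomain R] in
/-- in a ring with finite spectrum, a maximal ideal is the zero locus of one element. -/
theorem exists_mem_iff_eq [Finite (PrimeSpectrum R)] (m : Ideal R) [hm : m.IsMaximal] :
    ∃ a : R, ∀ (p : Ideal R), p.IsPrime → (a ∈ p ↔ p = m) := by
  classical
  haveI := Fintype.ofFinite (PrimeSpectrum R)
  let s : Finset (PrimeSpectrum R) := Finset.univ.filter (fun p => p.asIdeal ≠ m)
  have hnot : ¬ ((m : Set R) ⊆ ⋃ i ∈ (↑s : Set (PrimeSpectrum R)), (i.asIdeal : Set R)) := by
    intro h
    obtain ⟨i, his, hle⟩ := (Ideal.subset_union_prime (s := s) (f := fun p => p.asIdeal)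
      ⟨m, hm.isPrime⟩ ⟨m, hm.isPrime⟩ (fun i _ _ _ => i.2)).mp h
    have : i.asIdeal ≠ m := (Finset.mem_filter.mp his).2
    exact this (hm.eq_of_le i.2.ne_top hle).symm
  obtain ⟨a, ham, ha⟩ := Set.not_subset.mp hnot
  refine ⟨a, fun p hp => ⟨fun hap => ?_, fun h => h ▸ ham⟩⟩
  by_contra hne
  apply ha
  simp only [Set.mem_iUnion]
  exact ⟨⟨p, hp⟩, Finset.mem_coe.mpr (Finset.mem_filter.mpr ⟨Finset.mem_univ _, hne⟩), hap⟩

omit hR [IsDomain R] in
/-- in a ring with finite spectrum, the localization at a maximal ideal `m` such that the primes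
contained in `m` ... is a principal localization. -/
theorem exists_away_isLocalization_atPrime [Finite (PrimeSpectrum R)] (m : Ideal R)
    [hm : m.IsMaximal] :
    ∃ b : R, b ∉ m ∧ IsLocalization.AtPrime (Localization.Away b) m := by
  classical
  haveI := Fintype.ofFinite (PrimeSpectrum R)
  let s : Finset (PrimeSpectrum R) := Finset.univ.filter (fun p => ¬ p.asIdeal ≤ m)
  have hnot : ¬ (s.inf (fun p => p.asIdeal) ≤ m) := by
    rw [Ideal.IsPrime.inf_le' hm.isPrime]
    rintro ⟨i, his, hle⟩
    exact (Finset.mem_filter.mp his).2 hle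
  obtain ⟨b, hbI, hbm⟩ := SetLike.not_le_iff_exists.mp hnot
  refine ⟨b, hbm, ?_⟩
  have hle : Submonoid.powers b ≤ m.primeCompl := by
    rw [Submonoid.powers_le]
    exact hbm
  refine IsLocalization.of_le (M := Submonoid.powers b) (S := Localization.Away b)
    m.primeCompl hle ?_
  intro r hr
  by_contra hu
  obtain ⟨P, hP, hrP⟩ := exists_max_ideal_of_mem_nonunits (mem_nonunits_iff.mpr hu)
  have hPp : (P.comap (algebraMap R (Localization.Away b))).IsPrime :=
    Ideal.comap_isPrime _ _
  have hb : b ∉ P.comap (algebraMap R (Localization.Away b)) := by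
    intro hb
    rw [Ideal.mem_comap] at hb
    exact hP.ne_top (Ideal.eq_top_of_isUnit_mem _ hb
      (IsLocalization.map_units (Localization.Away b) (⟨b, Submonoid.mem_powers b⟩ :
        Submonoid.powers b)))
  have hPm : P.comap (algebraMap R (Localization.Away b)) ≤ m := by
    by_contra hnle
    apply hb
    have hmem : (⟨_, hPp⟩ : PrimeSpectrum R) ∈ s :=
      Finset.mem_filter.mpr ⟨Finset.mem_univ _, hnle⟩
    exact (Finset.inf_le hmem : s.inf (fun p => p.asIdeal) ≤ _) hbI
  exact hr (hPm (Ideal.mem_comap.mpr hrP))

end Groth.Agent.Lib.helper3.PruferSemilocal
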