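import Mathlib

/-!
Tensor products with a purely inseparable field extension (helper3): every element of `k' ⊗ K`
has a `q^n`-th power in `K`; if `K` is a field, every element is a unit or nilpotent, and the only
prime ideal of `k' ⊗ K` is the nilradical.
-/

set_option autoImplicit false
universe u v w

namespace Groth.Agent.Lib.helper3.PurInsepLocal

open TensorProduct

/-- a high `q`-power of any element of `k' ⊗ K` comes from `K` -/
theorem exists_pow_mem_range (k : Type u) (k' : Type v) (K : Type w) [Field k] [Field k']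
    [Algebra k k'] [IsPurelyInseparable k k'] [CommRing K] [Algebra k K] (q : ℕ) [ExpChar k q]
    (x : k' ⊗[k] K) :
    ∃ n : ℕ, x ^ (q ^ n) ∈ Set.range (Algebra.TensorProduct.includeRight : K →ₐ[k] k' ⊗[k] K) := by
  rcases subsingleton_or_nontrivial (k' ⊗[k] K) with h | h
  · exact ⟨0, 0, Subsingleton.elim _ _⟩
  have : ExpChar (k' ⊗[k] K) q :=
    expChar_of_injective_algebraMap (algebraMap k (k' ⊗[k] K)).injective q
  induction x using TensorProduct.induction_on with
  | zero => exact ⟨0, 0, by simp⟩
  | tmul c a =>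
    obtain ⟨n, b, hb⟩ := IsPurelyInseparable.pow_mem k q c
    refine ⟨n, b • a ^ (q ^ n), ?_⟩
    rw [Algebra.TensorProduct.tmul_pow, ← hb, Algebra.TensorProduct.includeRight_apply,
      Algebra.algebraMap_eq_smul_one, TensorProduct.smul_tmul]
  | add x y hx hy =>
    obtain ⟨n₁, a₁, h₁⟩ := hx
    obtain ⟨n₂, a₂, h₂⟩ := hy
    refine ⟨n₁ + n₂, a₁ ^ (q ^ n₂) + a₂ ^ (q ^ n₁), ?_⟩
    rw [add_pow_expChar_pow, map_add, map_pow, map_pow, h₁, h₂, ← pow_mul, ← pow_mul,
      ← pow_add, ← pow_add, add_comm n₂ n₁]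

/-- every element of `k' ⊗ K` (`K` a field, `k'/k` purely inseparable) is a unit or nilpotent -/
theorem isUnit_or_isNilpotent (k : Type u) (k' : Type v) (K : Type w) [Field k] [Field k']
    [Algebra k k'] [IsPurelyInseparable k k'] [Field K] [Algebra k K] (x : k' ⊗[k] K) :
    IsUnit x ∨ IsNilpotent x := by
  obtain ⟨n, a, ha⟩ := exists_pow_mem_range k k' K (ringExpChar k) x
  have hq : ringExpChar k ^ n ≠ 0 := pow_ne_zero _ (expChar_pos k (ringExpChar k)).ne'
  by_cases h0 : a = 0
  · right
    refine ⟨ringExpChar k ^ n, ?_⟩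
    rw [← ha, h0, map_zero]
  · left
    have : IsUnit (x ^ (ringExpChar k ^ n)) := by
      rw [← ha]
      exact (IsUnit.mk0 a h0).map _
    exact (isUnit_pow_iff hq).mp this

/-- the only prime of `k' ⊗ K` is the nilradical -/
theorem eq_nilradical_of_isPrime (k : Type u) (k' : Type v) (K : Type w) [Field k] [Field k']
    [Algebra k k'] [IsPurelyInseparable k k'] [Field K] [Algebra k K] (m : Ideal (k' ⊗[k] K))
    [hm : m.IsPrime] : m = nilradical (k' ⊗[k] K) := by
  refine le_antisymm (fun x hx => ?_) (nilradical_le_prime m)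
  rcases isUnit_or_isNilpotent k k' K x with h | h
  · exact absurd (Ideal.eq_top_of_isUnit_mem _ hx h) hm.ne_top
  · exact mem_nilradical.mpr h

end Groth.Agent.Lib.helper3.PurInsepLocal
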