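import Mathlib
import Groth.Agent.Lib.Helper3.GeomRed2

/-!
Converse direction to `PurInsepRed.core` (helper3): if `(k' ⊗ A)/nilradical` is geometrically
reduced over `k'`, then for every extension field `P` of `k'` the nilradical of `P ⊗ A` is generated
by the nilradical of `k' ⊗ A`.
-/

set_option autoImplicit false
universe u

namespace Groth.Agent.Lib.helper3.PurInsepRed

open TensorProduct

/-- the nilradical of a ring corresponds to the nilradical under a ring isomorphism -/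
theorem map_nilradical_of_equiv {R S : Type*} [CommRing R] [CommRing S] (e : R ≃+* S) :
    (nilradical R).map (e : R →+* S) = nilradical S := by
  ext x
  rw [Ideal.map_comap_of_equiv, Ideal.mem_comap, mem_nilradical, mem_nilradical]
  exact IsNilpotent.map_iff e.symm.injective

/-- if the reduction of `k' ⊗ A` is geometrically reduced, the nilradical of `P ⊗ A` is the
extension of the nilradical of `k' ⊗ A` -/
theorem map_nilradical_eq {k : Type u} [Field k] (k' : Type u) [Field k'] [Algebra k k']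
    (P : Type u) [Field P] [Algebra k P] [Algebra k' P] [IsScalarTower k k' P]
    (A : Type u) [CommRing A] [Algebra k A]
    (h : Algebra.IsGeometricallyReduced k' ((k' ⊗[k] A) ⧸ nilradical (k' ⊗[k] A))) :
    (nilradical (k' ⊗[k] A)).map
      (Algebra.TensorProduct.map (IsScalarTower.toAlgHom k k' P) (AlgHom.id k A)) =
      nilradical (P ⊗[k] A) := by
  set ι := Algebra.TensorProduct.map (IsScalarTower.toAlgHom k k' P) (AlgHom.id k A) with hιdef
  let e : P ⊗[k'] (k' ⊗[k] A) ≃ₐ[k'] P ⊗[k] A :=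
    Algebra.TensorProduct.cancelBaseChange k k' k' P A
  let incl : k' ⊗[k] A →ₐ[k'] P ⊗[k'] (k' ⊗[k] A) := Algebra.TensorProduct.includeRight
  let J : Ideal (P ⊗[k'] (k' ⊗[k] A)) := (nilradical (k' ⊗[k] A)).map incl
  have hcomp : ∀ x, e (incl x) = ι x := by
    intro x
    induction x using TensorProduct.induction_on with
    | zero => simp
    | tmul c a => simp [e, incl, ι, Algebra.smul_def]
    | add x y hx hy => rw [map_add, map_add, map_add, hx, hy]
  let q : P ⊗[k'] ((k' ⊗[k] A) ⧸ nilradical (k' ⊗[k] A)) ≃ₐ[k'] (P ⊗[k'] (k' ⊗[k] A)) ⧸ J :=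
    Algebra.TensorProduct.tensorQuotientEquiv (R := k') k' (k' ⊗[k] A) P (nilradical (k' ⊗[k] A))
  have hred : _root_.IsReduced (P ⊗[k'] ((k' ⊗[k] A) ⧸ nilradical (k' ⊗[k] A))) :=
    GeomRed.isReduced_tensor_of_isGeometricallyReduced k' P _
  let g : (P ⊗[k'] (k' ⊗[k] A)) ⧸ J →+* P ⊗[k'] ((k' ⊗[k] A) ⧸ nilradical (k' ⊗[k] A)) :=
    (q.symm : (P ⊗[k'] (k' ⊗[k] A)) ⧸ J →+* P ⊗[k'] ((k' ⊗[k] A) ⧸ nilradical (k' ⊗[k] A)))
  have hg : Function.Injective g := q.symm.injective
  have hred' : _root_.IsReduced ((P ⊗[k'] (k' ⊗[k] A)) ⧸ J) := isReduced_of_injective g hg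
  have hrad : J.IsRadical := (Ideal.isRadical_iff_quotient_reduced _).mpr hred'
  have hJ : J = nilradical (P ⊗[k'] (k' ⊗[k] A)) := by
    refine le_antisymm ?_ ?_
    · refine Ideal.map_le_iff_le_comap.mpr fun x hx => ?_
      exact mem_nilradical.mpr ((mem_nilradical.mp hx).map incl)
    · calc nilradical (P ⊗[k'] (k' ⊗[k] A)) ≤ J.radical := Ideal.radical_mono bot_le
        _ = J := hrad.radical
  have h1 : Ideal.map (e.toRingEquiv : P ⊗[k'] (k' ⊗[k] A) →+* P ⊗[k] A)
      (Ideal.map (incl : k' ⊗[k] A →+* P ⊗[k'] (k' ⊗[k] A)) (nilradical (k' ⊗[k] A))) =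
      Ideal.map ((e.toRingEquiv : P ⊗[k'] (k' ⊗[k] A) →+* P ⊗[k] A).comp
        (incl : k' ⊗[k] A →+* P ⊗[k'] (k' ⊗[k] A))) (nilradical (k' ⊗[k] A)) := Ideal.map_map _ _
  have h2 : (e.toRingEquiv : P ⊗[k'] (k' ⊗[k] A) →+* P ⊗[k] A).comp
        (incl : k' ⊗[k] A →+* P ⊗[k'] (k' ⊗[k] A)) = (ι : k' ⊗[k] A →+* P ⊗[k] A) :=
    RingHom.ext hcomp
  rw [h2] at h1
  have h3 : Ideal.map (e.toRingEquiv : P ⊗[k'] (k' ⊗[k] A) →+* P ⊗[k] A) J =
      nilradical (P ⊗[k] A) := by
    rw [hJ]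
    exact map_nilradical_of_equiv e.toRingEquiv
  exact h1.symm.trans h3

end Groth.Agent.Lib.helper3.PurInsepRed
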