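import Mathlib
/-!
# Sections of flat quasi-finite morphisms, part 1 (helper3): the final algebra step

`R → B'` flat, `J` a finitely generated ideal of `R` killing `g ∈ B'`, and `h : Fin r → B'` a
"basis of `B'/JB'` over `R/J`".  Then with `F = Ann_R(J)` the map `F^r → B'`, `t ↦ ∑ tᵢ hᵢ` is
injective and its image contains `g`.
-/

set_option autoImplicit false
set_option linter.style.haveILetI false
set_option linter.unusedSectionVars false
universe u
open Function

namespace Groth.Agent.Lib.helper3.QFSec

/-- the annihilator of an ideal, as an ideal. -/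
def annIdeal {R : Type u} [CommRing R] (J : Ideal R) : Ideal R where
  carrier := {t | ∀ p ∈ J, t * p = 0}
  add_mem' := by
    intro a b ha hb p hp
    rw [add_mul, ha p hp, hb p hp, add_zero]
  zero_mem' := by
    intro p _
    exact zero_mul p
  smul_mem' := by
    intro c t ht p hp
    rw [smul_eq_mul, mul_assoc, ht p hp, mul_zero]

theorem mem_annIdeal {R : Type u} [CommRing R] (J : Ideal R) (t : R) :
    t ∈ annIdeal J ↔ ∀ p ∈ J, t * p = 0 := Iff.rfl

theorem smul_eq_zero_of_mem_annIdeal {R B' : Type u} [CommRing R] [CommRing B'] [Algebra R B']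
    (J : Ideal R) {t : R} (ht : t ∈ annIdeal J) {z : B'}
    (hz : z ∈ J • (⊤ : Submodule R B')) : t • z = 0 := by
  refine Submodule.smul_induction_on hz ?_ ?_
  · intro p hp b _
    rw [smul_smul, ht p hp, zero_smul]
  · intro x y hx hy
    rw [smul_add, hx, hy, add_zero]

/-- the map `F^r → B'`. -/
noncomputable def phi {R B' : Type u} [CommRing R] [CommRing B'] [Algebra R B'] (F : Ideal R)
    {r : ℕ} (h : Fin r → B') : (Fin r → F) →ₗ[R] B' :=
  (Fintype.linearCombination R h) ∘ₗ ((Submodule.subtype F).compLeft (Fin r))

theorem phi_apply {R B' : Type u} [CommRing R] [CommRing B'] [Algebra R B'] (F : Ideal R)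
    {r : ℕ} (h : Fin r → B') (t : Fin r → F) : phi F h t = ∑ i, (t i : R) • h i := by
  unfold phi
  rw [LinearMap.comp_apply, Fintype.linearCombination_apply]
  rfl

theorem stepL {R B' : Type u} [CommRing R] [CommRing B'] [Algebra R B'] [Module.Flat R B']
    (J : Ideal R) (hJ : J.FG) (g : B') (hg : ∀ i ∈ J, i • g = 0) {r : ℕ} (h : Fin r → B')
    (hgen : ∀ b : B', ∃ c : Fin r → R, b - ∑ i, c i • h i ∈ J • (⊤ : Submodule R B'))
    (hind : ∀ c : Fin r → R, ∑ i, c i • h i ∈ J • (⊤ : Submodule R B') → ∀ i, c i ∈ J) :
    Injective (phi (annIdeal J) h) ∧ g ∈ LinearMap.range (phi (annIdeal J) h) := by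
  classical
  constructor
  · -- injectivity
    rw [injective_iff_map_eq_zero]
    intro t ht
    rw [phi_apply] at ht
    obtain ⟨k, α, y, hy, hα⟩ := Module.Flat.isTrivialRelation_of_sum_smul_eq_zero
      (f := fun i => (t i : R)) (x := h) ht
    choose d hd using fun j => hgen (y j)
    -- the matrix `m`
    have key : ∀ i k', (if i = k' then (1 : R) else 0) - ∑ j, α i j * d j k' ∈ J := by
      intro i
      apply hind
      have e1 : ∑ k', ((if i = k' then (1 : R) else 0) - ∑ j, α i j * d j k') • h k' =
          ∑ j, α i j • (y j - ∑ k', d j k' • h k') := by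
        have e2 : ∑ k', ((if i = k' then (1 : R) else 0) - ∑ j, α i j * d j k') • h k' =
            h i - ∑ k', ∑ j, (α i j * d j k') • h k' := by
          simp only [sub_smul, Finset.sum_sub_distrib, ite_smul, one_smul, zero_smul,
            Finset.sum_ite_eq, Finset.mem_univ, if_true, Finset.sum_smul]
        rw [e2, hy i]
        simp only [smul_sub, Finset.sum_sub_distrib, Finset.smul_sum, smul_smul]
        rw [Finset.sum_comm]
      rw [e1]
      exact Submodule.sum_mem _ fun j _ => Submodule.smul_mem _ _ (hd j)
    funext k'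
    apply Subtype.ext
    change (t k' : R) = 0
    have e3 : (t k' : R) = ∑ i, (t i : R) * ((if i = k' then (1 : R) else 0) -
        ∑ j, α i j * d j k') + ∑ j, (∑ i, (t i : R) * α i j) * d j k' := by
      simp only [mul_sub, Finset.sum_sub_distrib, mul_ite, mul_one, mul_zero, Finset.sum_ite_eq',
        Finset.mem_univ, if_true, Finset.mul_sum, Finset.sum_mul]
      rw [Finset.sum_comm]
      simp only [mul_assoc]
      ring
    rw [e3]
    have e4 : ∀ i, (t i : R) * ((if i = k' then (1 : R) else 0) - ∑ j, α i j * d j k') = 0 :=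
      fun i => (t i).2 _ (key i k')
    simp only [e4, Finset.sum_const_zero, zero_add, hα, zero_mul]
  · -- `g` is in the range
    haveI : Module.Finite R J := Module.Finite.iff_fg.mpr hJ
    have hx : (LinearMap.toSpanSingleton R B' g) ∘ₗ (Submodule.subtype J) = 0 := by
      ext p
      simp only [LinearMap.comp_apply, Submodule.subtype_apply, LinearMap.toSpanSingleton_apply,
        LinearMap.zero_apply]
      exact hg p.1 p.2
    obtain ⟨k, a, y, hya, haf⟩ :=
      Module.Flat.exists_factorization_of_comp_eq_zero_of_free (R := R) (M := B') hx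
    set v := a 1 with hv
    have hvF : ∀ l, v l ∈ annIdeal J := by
      intro l p hp
      have h1 : a p = 0 := by
        have := LinearMap.congr_fun haf ⟨p, hp⟩
        simpa using this
      have h2 : a p = p • v := by
        rw [hv, ← map_smul, smul_eq_mul, mul_one]
      rw [h2] at h1
      have h3 := DFunLike.congr_fun h1 l
      rw [Finsupp.smul_apply, smul_eq_mul, Finsupp.zero_apply] at h3
      rw [mul_comm]
      exact h3
    have hg1 : g = ∑ l, v l • y (Finsupp.single l 1) := by
      have h1 : g = y v := by
        have := LinearMap.congr_fun hya 1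
        simpa using this
      rw [h1]
      conv_lhs => rw [← Finsupp.univ_sum_single v]
      rw [map_sum]
      refine Finset.sum_congr rfl fun l _ => ?_
      rw [← map_smul, Finsupp.smul_single, smul_eq_mul, mul_one]
    choose d hd using fun l => hgen (y (Finsupp.single l 1))
    have hg2 : g = ∑ i, (∑ l, v l * d l i) • h i := by
      rw [hg1]
      have e1 : ∀ l, v l • y (Finsupp.single l 1) = ∑ i, (v l * d l i) • h i := by
        intro l
        have h0 := smul_eq_zero_of_mem_annIdeal J (hvF l) (hd l)
        rw [smul_sub, sub_eq_zero] at h0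
        rw [h0, Finset.smul_sum]
        simp only [smul_smul]
      simp only [e1, Finset.sum_smul]
      rw [Finset.sum_comm]
    refine ⟨fun i => ⟨∑ l, v l * d l i, ?_⟩, ?_⟩
    · exact Ideal.sum_mem _ fun l _ => Ideal.mul_mem_right _ _ (hvF l)
    · rw [phi_apply]
      exact hg2.symm

end Groth.Agent.Lib.helper3.QFSec
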