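import Mathlib
import Groth.Agent.Lib.Helper28.FiberMod
/-!
# Sections of flat quasi-finite morphisms, part 2 (helper3): local tools

* `exists_smul_pow_le` : a finitely generated ideal inside a minimal prime `𝔭` of `I` has a power
  which is contained in `I` after multiplication by some `s ∉ 𝔭`;
* `stab` : a stability argument for submodules of a finitely generated algebra;
* `exists_fibre_basis` : lifting a basis of the fibre `κ(𝔭) ⊗ B` to `B`.
-/

set_option autoImplicit false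
set_option linter.style.haveILetI false
set_option linter.unusedSectionVars false
universe u
open Function TensorProduct

namespace Groth.Agent.Lib.helper3.QFSec

section Nil

variable {A : Type u} [CommRing A]

/-- the saturation of `I` at `𝔭`. -/
def satIdeal (I 𝔭 : Ideal A) [𝔭.IsPrime] : Ideal A where
  carrier := {x | ∃ s, s ∉ 𝔭 ∧ s * x ∈ I}
  add_mem' := by
    rintro x y ⟨s, hs, hsx⟩ ⟨t, ht, hty⟩
    refine ⟨s * t, fun h => (Ideal.IsPrime.mem_or_mem ‹_› h).elim hs ht, ?_⟩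
    have : s * t * (x + y) = t * (s * x) + s * (t * y) := by ring
    rw [this]
    exact I.add_mem (I.mul_mem_left _ hsx) (I.mul_mem_left _ hty)
  zero_mem' := ⟨1, fun h => (Ideal.IsPrime.ne_top ‹_›) ((Ideal.eq_top_iff_one _).mpr h), by simp⟩
  smul_mem' := by
    rintro c x ⟨s, hs, hsx⟩
    refine ⟨s, hs, ?_⟩
    have : s * (c • x) = c * (s * x) := by rw [smul_eq_mul]; ring
    rw [this]
    exact I.mul_mem_left _ hsx

theorem mem_satIdeal (I 𝔭 : Ideal A) [𝔭.IsPrime] (x : A) :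
    x ∈ satIdeal I 𝔭 ↔ ∃ s, s ∉ 𝔭 ∧ s * x ∈ I := Iff.rfl

theorem le_radical_satIdeal (I 𝔭 : Ideal A) [𝔭.IsPrime] (h𝔭 : 𝔭 ∈ I.minimalPrimes) :
    𝔭 ≤ (satIdeal I 𝔭).radical := by
  intro π hπ
  by_contra hcon
  set S : Submonoid A := 𝔭.primeCompl ⊔ Submonoid.powers π with hS
  have hdisj : Disjoint (I : Set A) (S : Set A) := by
    rw [Set.disjoint_left]
    intro x hxI hxS
    obtain ⟨s, hs, t, ⟨n, rfl⟩, rfl⟩ := Submonoid.mem_sup.mp hxS
    exact hcon ⟨n, s, hs, hxI⟩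
  obtain ⟨𝔮, h𝔮p, hI𝔮, h𝔮S⟩ := Ideal.exists_le_prime_disjoint I S hdisj
  have h𝔮𝔭 : 𝔮 ≤ 𝔭 := by
    intro x hx
    by_contra hx𝔭
    exact Set.disjoint_left.mp h𝔮S hx (Submonoid.mem_sup_left (show x ∈ 𝔭.primeCompl from hx𝔭))
  have h𝔭𝔮 : 𝔭 ≤ 𝔮 := h𝔭.2 ⟨h𝔮p, hI𝔮⟩ h𝔮𝔭
  exact Set.disjoint_left.mp h𝔮S (h𝔭𝔮 hπ)
    (Submonoid.mem_sup_right (Submonoid.mem_powers π))

theorem exists_mul_mem_of_fg_le_satIdeal (I 𝔭 J' : Ideal A) [𝔭.IsPrime] (hfg : J'.FG)
    (hle : J' ≤ satIdeal I 𝔭) : ∃ s, s ∉ 𝔭 ∧ ∀ x ∈ J', s * x ∈ I := by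
  classical
  obtain ⟨T, rfl⟩ := hfg
  have h1 : ∀ t : A, ∃ s, t ∈ T → (s ∉ 𝔭 ∧ s * t ∈ I) := by
    intro t
    by_cases ht : t ∈ T
    · obtain ⟨s, hs, hst⟩ := hle (Ideal.subset_span ht)
      exact ⟨s, fun _ => ⟨hs, hst⟩⟩
    · exact ⟨0, fun h => absurd h ht⟩
  choose σ hσ using h1
  refine ⟨∏ t ∈ T, σ t, ?_, ?_⟩
  · have : ∏ t ∈ T, σ t ∈ 𝔭.primeCompl :=
      Submonoid.prod_mem _ fun t ht => (hσ t ht).1
    exact this
  · intro x hx
    refine Submodule.span_induction ?_ ?_ ?_ ?_ hx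
    · intro t ht
      rw [← Finset.mul_prod_erase T σ ht]
      have : (σ t * ∏ x ∈ T.erase t, σ x) * t = (∏ x ∈ T.erase t, σ x) * (σ t * t) := by ring
      rw [this]
      exact I.mul_mem_left _ (hσ t ht).2
    · simp
    · intro x y _ _ hx hy
      rw [mul_add]; exact I.add_mem hx hy
    · intro c x _ hx
      have : (∏ t ∈ T, σ t) * (c • x) = c * ((∏ t ∈ T, σ t) * x) := by rw [smul_eq_mul]; ring
      rw [this]
      exact I.mul_mem_left _ hx

theorem exists_smul_pow_le (I 𝔭 𝔭' : Ideal A) [𝔭.IsPrime] (h𝔭 : 𝔭 ∈ I.minimalPrimes)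
    (hle : 𝔭' ≤ 𝔭) (hfg : 𝔭'.FG) :
    ∃ s, s ∉ 𝔭 ∧ ∃ N : ℕ, ∀ x ∈ 𝔭' ^ N, s * x ∈ I := by
  obtain ⟨N, hN⟩ := Ideal.exists_pow_le_of_le_radical_of_fg
    (hle.trans (le_radical_satIdeal I 𝔭 h𝔭)) hfg
  obtain ⟨s, hs, hsx⟩ := exists_mul_mem_of_fg_le_satIdeal I 𝔭 (𝔭' ^ N) (hfg.pow) hN
  exact ⟨s, hs, N, hsx⟩

end Nil

section Stab

variable {A B : Type u} [CommRing A] [CommRing B] [Algebra A B]

theorem stab (N : Submodule A B) (s : A) (Y : Set B)
    (hY : Algebra.adjoin A Y = ⊤) (h1 : ∃ k : ℕ, s ^ k • (1 : B) ∈ N)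
    (h2 : ∀ y ∈ Y, ∀ x ∈ N, ∃ k : ℕ, s ^ k • (y * x) ∈ N) :
    ∀ b : B, ∃ n : ℕ, s ^ n • b ∈ N := by
  have hP : ∀ b ∈ Algebra.adjoin A Y, ∀ x ∈ N, ∃ n : ℕ, s ^ n • (b * x) ∈ N := by
    intro b hb
    induction hb using Algebra.adjoin_induction with
    | mem y hy => exact h2 y hy
    | algebraMap r =>
      intro x hx
      refine ⟨0, ?_⟩
      rw [pow_zero, one_smul, ← Algebra.smul_def]
      exact N.smul_mem r hx
    | add b₁ b₂ _ _ ih₁ ih₂ =>
      intro x hx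
      obtain ⟨n₁, hn₁⟩ := ih₁ x hx
      obtain ⟨n₂, hn₂⟩ := ih₂ x hx
      refine ⟨n₁ + n₂, ?_⟩
      have : s ^ (n₁ + n₂) • ((b₁ + b₂) * x) =
          s ^ n₂ • (s ^ n₁ • (b₁ * x)) + s ^ n₁ • (s ^ n₂ • (b₂ * x)) := by
        rw [add_mul, smul_add, smul_smul, smul_smul, pow_add, mul_comm (s ^ n₁) (s ^ n₂)]
      rw [this]
      exact N.add_mem (N.smul_mem _ hn₁) (N.smul_mem _ hn₂)
    | mul b₁ b₂ _ _ ih₁ ih₂ =>
      intro x hx
      obtain ⟨n₂, hn₂⟩ := ih₂ x hx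
      obtain ⟨n₁, hn₁⟩ := ih₁ _ hn₂
      refine ⟨n₁ + n₂, ?_⟩
      have : s ^ (n₁ + n₂) • (b₁ * b₂ * x) = s ^ n₁ • (b₁ * s ^ n₂ • (b₂ * x)) := by
        rw [mul_smul_comm, smul_smul, pow_add, mul_assoc]
      rw [this]
      exact hn₁
  intro b
  obtain ⟨k, hk⟩ := h1
  obtain ⟨n, hn⟩ := hP b (by rw [hY]; trivial) _ hk
  refine ⟨n + k, ?_⟩
  have : s ^ (n + k) • b = s ^ n • (b * s ^ k • (1 : B)) := by
    rw [mul_smul_comm, mul_one, smul_smul, pow_add]
  rw [this]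
  exact hn

end Stab

section Fibre

variable {A B : Type u} [CommRing A] [CommRing B] [Algebra A B]

theorem exists_frac (𝔭 : Ideal A) [𝔭.IsPrime] (l : 𝔭.ResidueField) :
    ∃ s, s ∉ 𝔭 ∧ ∃ c : A, algebraMap A 𝔭.ResidueField s * l = algebraMap A 𝔭.ResidueField c := by
  obtain ⟨x, rfl⟩ := IsLocalRing.residue_surjective l
  obtain ⟨⟨c, s⟩, rfl⟩ := IsLocalization.mk'_surjective 𝔭.primeCompl x
  refine ⟨s.1, s.2, c, ?_⟩
  rw [IsScalarTower.algebraMap_apply A (Localization.AtPrime 𝔭) 𝔭.ResidueField,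
    IsScalarTower.algebraMap_apply A (Localization.AtPrime 𝔭) 𝔭.ResidueField,
    IsLocalRing.ResidueField.algebraMap_eq, ← map_mul]
  congr 1
  exact IsLocalization.mk'_spec' _ c s

theorem exists_fibre_basis [Algebra.QuasiFinite A B] (𝔭 : Ideal A) [𝔭.IsPrime] :
    ∃ (r : ℕ) (h : Fin r → B),
      (∀ b : B, ∃ s, s ∉ 𝔭 ∧ ∃ c : Fin r → A,
        s • b - ∑ i, c i • h i ∈ 𝔭 • (⊤ : Submodule A B)) ∧
      (∀ c : Fin r → A, (∃ s, s ∉ 𝔭 ∧ s • ∑ i, c i • h i ∈ 𝔭 • (⊤ : Submodule A B)) →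
        ∀ i, c i ∈ 𝔭) := by
  classical
  set κ := 𝔭.ResidueField with hκ
  set ι : B →ₗ[A] (κ ⊗[A] B) := TensorProduct.mk A κ B 1 with hι
  haveI : Module.Finite κ (κ ⊗[A] B) := Algebra.QuasiFinite.finite_fiber 𝔭
  have hspan : Submodule.span κ (Set.range ι) = ⊤ := by
    rw [eq_top_iff]
    rintro x -
    induction x using TensorProduct.induction_on with
    | zero => exact Submodule.zero_mem _
    | tmul m n =>
      have : m ⊗ₜ[A] n = m • ι n := by
        rw [hι, TensorProduct.mk_apply, TensorProduct.smul_tmul', smul_eq_mul, mul_one]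
      rw [this]
      exact Submodule.smul_mem _ _ (Submodule.subset_span ⟨n, rfl⟩)
    | add x y hx hy => exact Submodule.add_mem _ hx hy
  obtain ⟨bs, hbs, hbspan, hbli⟩ := exists_linearIndependent κ (Set.range ι)
  have hfin : bs.Finite := hbli.setFinite
  haveI : Finite bs := hfin
  set r := Nat.card bs with hr
  let e : Fin r ≃ bs := (Finite.equivFin bs).symm
  have hpre : ∀ i : Fin r, ∃ b : B, ι b = (e i : κ ⊗[A] B) := fun i => hbs (e i).2
  choose h hh using hpre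
  have hli : LinearIndependent κ (fun i => ι (h i)) := by
    have : (fun i => ι (h i)) = (fun x : bs => (x : κ ⊗[A] B)) ∘ e := by
      funext i; exact hh i
    rw [this]
    exact hbli.comp e e.injective
  have hspan' : Submodule.span κ (Set.range (fun i => ι (h i))) = ⊤ := by
    have : Set.range (fun i => ι (h i)) = bs := by
      ext x
      constructor
      · rintro ⟨i, rfl⟩
        change ι (h i) ∈ bs
        rw [hh i]; exact (e i).2
      · intro hx
        refine ⟨e.symm ⟨x, hx⟩, ?_⟩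
        change ι (h (e.symm ⟨x, hx⟩)) = x
        rw [hh, Equiv.apply_symm_apply]
    rw [this, hbspan, hspan]
  have hker : ∀ z ∈ 𝔭 • (⊤ : Submodule A B), ι z = 0 := by
    intro z hz
    refine Submodule.smul_induction_on hz ?_ ?_
    · intro π hπ b _
      rw [map_smul, ← algebraMap_smul κ π (ι b), Ideal.algebraMap_residueField_eq_zero.mpr hπ,
        zero_smul]
    · intro x y hx hy
      rw [map_add, hx, hy, add_zero]
  refine ⟨r, h, ?_, ?_⟩
  · intro b
    have hb : ι b ∈ Submodule.span κ (Set.range (fun i => ι (h i))) := by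
      rw [hspan']; trivial
    obtain ⟨l, hl⟩ := (Submodule.mem_span_range_iff_exists_fun κ).mp hb
    choose σ hσ c hc using fun i => exists_frac 𝔭 (l i)
    set s := ∏ i, σ i with hs
    have hs𝔭 : s ∉ 𝔭 := by
      have : s ∈ 𝔭.primeCompl := Submonoid.prod_mem _ fun i _ => hσ i
      exact this
    set c' : Fin r → A := fun i => c i * ∏ j ∈ Finset.univ.erase i, σ j with hc'
    have hc'l : ∀ i, algebraMap A κ s * l i = algebraMap A κ (c' i) := by
      intro i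
      rw [hs, ← Finset.mul_prod_erase Finset.univ σ (Finset.mem_univ i), map_mul, hc', map_mul,
        ← hc i]
      ring
    have h0 : ι (s • b - ∑ i, c' i • h i) = 0 := by
      rw [map_sub, map_smul, map_sum, ← hl, ← algebraMap_smul κ s, Finset.smul_sum]
      rw [sub_eq_zero]
      refine Finset.sum_congr rfl fun i _ => ?_
      rw [smul_smul, hc'l i, map_smul, algebraMap_smul]
    obtain ⟨s', hs', hmem⟩ := Groth.Agent.Lib.helper28.residueField_tmul_eq_zero 𝔭 B _ h0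
    refine ⟨s' * s, fun hh' => (Ideal.IsPrime.mem_or_mem ‹_› hh').elim hs' hs𝔭,
      fun i => s' * c' i, ?_⟩
    have : (s' * s) • b - ∑ i, (s' * c' i) • h i = s' • (s • b - ∑ i, c' i • h i) := by
      rw [smul_sub, smul_smul, Finset.smul_sum]
      simp only [smul_smul]
    rw [this]
    exact hmem
  · rintro c ⟨s, hs, hmem⟩ i
    have h0 := hker _ hmem
    rw [map_smul, map_sum, ← algebraMap_smul κ s] at h0
    have hsne : algebraMap A κ s ≠ 0 := by
      intro h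
      exact hs (Ideal.algebraMap_residueField_eq_zero.mp h)
    have h1 : ∑ i, algebraMap A κ (c i) • ι (h i) = 0 := by
      have := (smul_eq_zero.mp h0).resolve_left hsne
      rw [← this]
      refine Finset.sum_congr rfl fun i _ => ?_
      rw [map_smul, algebraMap_smul]
    have h2 := Fintype.linearIndependent_iff.mp hli (fun i => algebraMap A κ (c i)) h1 i
    exact Ideal.algebraMap_residueField_eq_zero.mp h2

end Fibre

end Groth.Agent.Lib.helper3.QFSec
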