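import Mathlib
import Groth.Agent.Lib.Helper3.QFSec2
/-!
# Sections of flat quasi-finite morphisms, part 3 (helper3): generation modulo a f.g. ideal

`A → B` of finite type and quasi-finite, `𝔭` a minimal prime over `I`.  Lifting a basis `h` of the
fibre at `𝔭` we find `a₁ ∉ 𝔭` and a finitely generated ideal `I'' ≤ I` such that `h` generates
`B/I''B` over `A/I''` up to powers of `a₁`.
-/

set_option autoImplicit false
set_option linter.style.haveILetI false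
set_option linter.unusedSectionVars false
universe u
open Function TensorProduct

namespace Groth.Agent.Lib.helper3.QFSec

variable {A B : Type u} [CommRing A] [CommRing B] [Algebra A B]

theorem mul_mem_smul_top (J : Ideal A) (b : B) {z : B} (hz : z ∈ J • (⊤ : Submodule A B)) :
    b * z ∈ J • (⊤ : Submodule A B) := by
  refine Submodule.smul_induction_on hz ?_ ?_
  · intro π hπ b' _
    rw [mul_smul_comm]
    exact Submodule.smul_mem_smul hπ trivial
  · intro x y hx hy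
    rw [mul_add]; exact Submodule.add_mem _ hx hy

theorem smul_mem_mul_smul_top {J₁ J₂ : Ideal A} {π : A} (hπ : π ∈ J₁) {z : B}
    (hz : z ∈ J₂ • (⊤ : Submodule A B)) : π • z ∈ (J₁ * J₂) • (⊤ : Submodule A B) := by
  refine Submodule.smul_induction_on hz ?_ ?_
  · intro π₂ hπ₂ b' _
    rw [smul_smul]
    exact Submodule.smul_mem_smul (Ideal.mul_mem_mul hπ hπ₂) trivial
  · intro x y hx hy
    rw [smul_add]; exact Submodule.add_mem _ hx hy

theorem exists_fg_le_mem_smul_top (J : Ideal A) {x : B} (hx : x ∈ J • (⊤ : Submodule A B)) :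
    ∃ J' : Ideal A, J' ≤ J ∧ J'.FG ∧ x ∈ J' • (⊤ : Submodule A B) := by
  refine Submodule.smul_induction_on hx ?_ ?_
  · intro π hπ b _
    refine ⟨Ideal.span {π}, (Ideal.span_singleton_le_iff_mem _).mpr hπ,
      Submodule.fg_span_singleton π, ?_⟩
    exact Submodule.smul_mem_smul (Ideal.subset_span rfl) trivial
  · rintro x y ⟨J₁, h₁, hfg₁, hx⟩ ⟨J₂, h₂, hfg₂, hy⟩
    refine ⟨J₁ ⊔ J₂, sup_le h₁ h₂, Submodule.FG.sup hfg₁ hfg₂, ?_⟩
    exact Submodule.add_mem _ (Submodule.smul_mono_left le_sup_left hx)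
      (Submodule.smul_mono_left le_sup_right hy)

theorem exists_gen [Algebra.FiniteType A B] [Algebra.QuasiFinite A B]
    (I 𝔭 : Ideal A) [𝔭.IsPrime] (h𝔭 : 𝔭 ∈ I.minimalPrimes) :
    ∃ (r : ℕ) (h : Fin r → B),
      (∀ c : Fin r → A, (∃ s, s ∉ 𝔭 ∧ s • ∑ i, c i • h i ∈ 𝔭 • (⊤ : Submodule A B)) →
        ∀ i, c i ∈ 𝔭) ∧
      ∃ a₁, a₁ ∉ 𝔭 ∧ ∃ I'' : Ideal A, I''.FG ∧ I'' ≤ I ∧
        ∀ b : B, ∃ n : ℕ, ∃ c : Fin r → A,
          a₁ ^ n • b - ∑ i, c i • h i ∈ I'' • (⊤ : Submodule A B) := by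
  classical
  obtain ⟨r, h, hgen₀, hind₀⟩ := exists_fibre_basis (A := A) (B := B) 𝔭
  refine ⟨r, h, hind₀, ?_⟩
  obtain ⟨Y, hY⟩ := (Algebra.FiniteType.out : (⊤ : Subalgebra A B).FG)
  have hI𝔭 : I ≤ 𝔭 := h𝔭.1.2
  -- choices for all elements
  have hall : ∀ w : B, ∃ (s : A) (c : Fin r → A) (P' : Ideal A), s ∉ 𝔭 ∧ P' ≤ 𝔭 ∧ P'.FG ∧
      s • w - ∑ i, c i • h i ∈ P' • (⊤ : Submodule A B) := by
    intro w
    obtain ⟨s, hs, c, hc⟩ := hgen₀ w
    obtain ⟨P', hP', hfg, hmem⟩ := exists_fg_le_mem_smul_top 𝔭 hc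
    exact ⟨s, c, P', hs, hP', hfg, hmem⟩
  choose σ cc P' hσ hP'le hP'fg hP'mem using hall
  set W : Finset B := insert 1 ((Y ×ˢ (Finset.univ : Finset (Fin r))).image
    fun p => p.1 * h p.2) with hW
  set s₀ := ∏ w ∈ W, σ w with hs₀
  have hs₀𝔭 : s₀ ∉ 𝔭 := by
    have : s₀ ∈ 𝔭.primeCompl := Submonoid.prod_mem _ fun w _ => hσ w
    exact this
  set 𝔭' : Ideal A := W.sup P' with h𝔭'
  have h𝔭'le : 𝔭' ≤ 𝔭 := Finset.sup_le fun w _ => hP'le w
  have h𝔭'fg : 𝔭'.FG := Submodule.fg_finset_sup W P' fun w _ => hP'fg w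
  set Sp : Submodule A B := Submodule.span A (Set.range h) with hSp
  have hsumSp : ∀ c : Fin r → A, ∑ i, c i • h i ∈ Sp := fun c =>
    Submodule.sum_mem _ fun i _ => Submodule.smul_mem _ _ (Submodule.subset_span ⟨i, rfl⟩)
  have hWmem : ∀ w ∈ W, s₀ • w ∈ Sp ⊔ 𝔭' • (⊤ : Submodule A B) := by
    intro w hw
    have h1 : σ w • w ∈ Sp ⊔ 𝔭' • (⊤ : Submodule A B) := by
      have : σ w • w = ∑ i, cc w i • h i + (σ w • w - ∑ i, cc w i • h i) := by abel
      rw [this]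
      refine Submodule.add_mem _ (Submodule.mem_sup_left (hsumSp _)) (Submodule.mem_sup_right ?_)
      exact Submodule.smul_mono_left (Finset.le_sup (f := P') hw) (hP'mem w)
    rw [hs₀, ← Finset.mul_prod_erase W σ hw, mul_comm, mul_smul]
    exact Submodule.smul_mem _ _ h1
  -- stability
  have hstab : ∀ b : B, ∃ n : ℕ, s₀ ^ n • b ∈ Sp ⊔ 𝔭' • (⊤ : Submodule A B) := by
    apply stab _ s₀ (Y : Set B) hY
    · exact ⟨1, by rw [pow_one]; exact hWmem 1 (Finset.mem_insert_self _ _)⟩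
    · intro y hy x hx
      refine ⟨1, ?_⟩
      rw [pow_one]
      obtain ⟨u, hu, z, hz, rfl⟩ := Submodule.mem_sup.mp hx
      obtain ⟨c, rfl⟩ := (Submodule.mem_span_range_iff_exists_fun A).mp hu
      rw [mul_add, smul_add, Finset.mul_sum, Finset.smul_sum]
      refine Submodule.add_mem _ (Submodule.sum_mem _ fun i _ => ?_) (Submodule.mem_sup_right ?_)
      · rw [mul_smul_comm, smul_comm]
        refine Submodule.smul_mem _ _ (hWmem _ ?_)
        rw [hW]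
        refine Finset.mem_insert_of_mem (Finset.mem_image.mpr ⟨(y, i), ?_, rfl⟩)
        exact Finset.mem_product.mpr ⟨hy, Finset.mem_univ i⟩
      · exact Submodule.smul_mem _ _ (mul_mem_smul_top 𝔭' y hz)
  -- iteration
  have hiter : ∀ k : ℕ, ∀ b : B, ∃ n : ℕ,
      s₀ ^ n • b ∈ Sp ⊔ (𝔭' ^ (k + 1)) • (⊤ : Submodule A B) := by
    intro k
    induction k with
    | zero =>
      intro b
      obtain ⟨n, hn⟩ := hstab b
      exact ⟨n, by rwa [zero_add, pow_one]⟩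
    | succ k ih =>
      have hsub : ∀ z ∈ (𝔭' ^ (k + 1)) • (⊤ : Submodule A B), ∃ m : ℕ,
          s₀ ^ m • z ∈ Sp ⊔ (𝔭' ^ (k + 1 + 1)) • (⊤ : Submodule A B) := by
        intro z hz
        refine Submodule.smul_induction_on hz ?_ ?_
        · intro π hπ b' _
          obtain ⟨m, hm⟩ := hstab b'
          refine ⟨m, ?_⟩
          obtain ⟨u, hu, z', hz', he⟩ := Submodule.mem_sup.mp hm
          rw [smul_comm, ← he, smul_add]
          refine Submodule.add_mem _ (Submodule.mem_sup_left (Submodule.smul_mem _ _ hu))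
            (Submodule.mem_sup_right ?_)
          rw [pow_succ (𝔭') (k + 1)]
          exact smul_mem_mul_smul_top hπ hz'
        · rintro x y ⟨m₁, h₁⟩ ⟨m₂, h₂⟩
          refine ⟨m₁ + m₂, ?_⟩
          have : s₀ ^ (m₁ + m₂) • (x + y) = s₀ ^ m₂ • (s₀ ^ m₁ • x) + s₀ ^ m₁ • (s₀ ^ m₂ • y) := by
            rw [smul_add, smul_smul, smul_smul, pow_add, mul_comm (s₀ ^ m₁)]
          rw [this]
          exact Submodule.add_mem _ (Submodule.smul_mem _ _ h₁) (Submodule.smul_mem _ _ h₂)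
      intro b
      obtain ⟨n, hn⟩ := ih b
      obtain ⟨u, hu, z, hz, he⟩ := Submodule.mem_sup.mp hn
      obtain ⟨m, hm⟩ := hsub z hz
      refine ⟨m + n, ?_⟩
      have e1 : s₀ ^ (m + n) • b = s₀ ^ m • u + s₀ ^ m • z := by
        rw [← smul_add, he, smul_smul, pow_add]
      rw [e1]
      exact Submodule.add_mem _ (Submodule.mem_sup_left (Submodule.smul_mem _ _ hu)) hm
  -- nilpotency
  obtain ⟨s₁, hs₁, N, hN⟩ := exists_smul_pow_le I 𝔭 𝔭' h𝔭 h𝔭'le h𝔭'fg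
  set I'' : Ideal A := Ideal.span {s₁} * 𝔭' ^ (N + 1) with hI''
  have hI''fg : I''.FG := Ideal.FG.mul (Submodule.fg_span_singleton s₁) (Ideal.FG.pow h𝔭'fg)
  have hI''le : I'' ≤ I := by
    rw [hI'', Ideal.mul_le]
    intro t ht x hx
    obtain ⟨c, rfl⟩ := Ideal.mem_span_singleton'.mp ht
    rw [mul_assoc]
    exact I.mul_mem_left _ (hN x (Ideal.pow_le_pow_right (Nat.le_succ N) hx))
  refine ⟨s₀ * s₁, fun hh => (Ideal.IsPrime.mem_or_mem ‹_› hh).elim hs₀𝔭 hs₁, I'', hI''fg,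
    hI''le, ?_⟩
  intro b
  obtain ⟨n, hn⟩ := hiter N b
  obtain ⟨u, hu, z, hz, he⟩ := Submodule.mem_sup.mp hn
  have h1 : s₁ • (s₀ ^ n • b) ∈ Sp ⊔ I'' • (⊤ : Submodule A B) := by
    rw [← he, smul_add]
    refine Submodule.add_mem _ (Submodule.mem_sup_left (Submodule.smul_mem _ _ hu))
      (Submodule.mem_sup_right ?_)
    exact smul_mem_mul_smul_top (J₁ := Ideal.span {s₁}) (J₂ := 𝔭' ^ (N + 1))
      (Ideal.mem_span_singleton_self s₁) hz
  have h2 : (s₀ * s₁) ^ (n + 1) • b ∈ Sp ⊔ I'' • (⊤ : Submodule A B) := by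
    have : (s₀ * s₁) ^ (n + 1) • b = (s₀ * s₁ ^ n) • (s₁ • (s₀ ^ n • b)) := by
      rw [smul_smul, smul_smul]
      congr 1
      ring
    rw [this]
    exact Submodule.smul_mem _ _ h1
  obtain ⟨u', hu', z', hz', he'⟩ := Submodule.mem_sup.mp h2
  obtain ⟨c, rfl⟩ := (Submodule.mem_span_range_iff_exists_fun A).mp hu'
  refine ⟨n + 1, c, ?_⟩
  rw [← he', add_sub_cancel_left]
  exact hz'

end Groth.Agent.Lib.helper3.QFSec
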