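import Mathlib
import Groth.Agent.Lib.Helper3.QFSec3
/-!
# Sections of flat quasi-finite morphisms, part 4 (helper3): independence at the prime

`B` flat over `A`, `J ≤ 𝔭`, `h` independent modulo `𝔭` and generating modulo `J` up to powers of
`a₁ ∉ 𝔭`.  Then any relation `∑ cᵢ hᵢ ∈ JB` (up to powers of `a₁`) has `s cᵢ ∈ J` for some `s ∉ 𝔭`.
-/

set_option autoImplicit false
set_option linter.style.haveILetI false
set_option linter.unusedSectionVars false
universe u
open Function TensorProduct Matrix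

namespace Groth.Agent.Lib.helper3.QFSec

variable {A B : Type u} [CommRing A] [CommRing B] [Algebra A B]

theorem exists_sum_of_mem_smul_top (J : Ideal A) {z : B} (hz : z ∈ J • (⊤ : Submodule A B)) :
    ∃ (ι : Type) (_ : Fintype ι) (jj : ι → A) (bb : ι → B),
      (∀ l, jj l ∈ J) ∧ z = ∑ l, jj l • bb l := by
  refine Submodule.smul_induction_on hz ?_ ?_
  · intro π hπ b _
    exact ⟨Unit, inferInstance, fun _ => π, fun _ => b, fun _ => hπ, by simp⟩
  · rintro x y ⟨ι₁, _, j₁, b₁, hj₁, rfl⟩ ⟨ι₂, _, j₂, b₂, hj₂, rfl⟩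
    refine ⟨ι₁ ⊕ ι₂, inferInstance, Sum.elim j₁ j₂, Sum.elim b₁ b₂, ?_, ?_⟩
    · rintro (l | l)
      · exact hj₁ l
      · exact hj₂ l
    · rw [Fintype.sum_sum_type]
      rfl

theorem ind_at_prime [Module.Flat A B] (𝔭 : Ideal A) [𝔭.IsPrime] (J : Ideal A) (hJ𝔭 : J ≤ 𝔭)
    {r : ℕ} (h : Fin r → B)
    (hind₀ : ∀ c : Fin r → A, (∃ s, s ∉ 𝔭 ∧ s • ∑ i, c i • h i ∈ 𝔭 • (⊤ : Submodule A B)) →
      ∀ i, c i ∈ 𝔭)
    (a₁ : A) (ha₁ : a₁ ∉ 𝔭)
    (hgen : ∀ b : B, ∃ n : ℕ, ∃ c : Fin r → A,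
      a₁ ^ n • b - ∑ i, c i • h i ∈ J • (⊤ : Submodule A B))
    (c : Fin r → A) (hc : ∃ n : ℕ, a₁ ^ n • ∑ i, c i • h i ∈ J • (⊤ : Submodule A B)) :
    ∃ s, s ∉ 𝔭 ∧ ∀ i, s * c i ∈ J := by
  classical
  obtain ⟨n, hz⟩ := hc
  obtain ⟨ι, _, jj, bb, hjj, hzsum⟩ := exists_sum_of_mem_smul_top J hz
  -- the relation
  set f : Fin r ⊕ ι → A := Sum.elim (fun i => a₁ ^ n * c i) (fun l => -(jj l)) with hf
  set x : Fin r ⊕ ι → B := Sum.elim h bb with hx
  have hrel : ∑ i', f i' • x i' = 0 := by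
    rw [Fintype.sum_sum_type]
    simp only [hf, hx, Sum.elim_inl, Sum.elim_inr, neg_smul, Finset.sum_neg_distrib]
    rw [← hzsum, Finset.smul_sum]
    simp only [smul_smul]
    exact add_neg_cancel _
  obtain ⟨k, α, y, hy, hα⟩ := Module.Flat.isTrivialRelation_of_sum_smul_eq_zero
    (R := A) (M := B) (f := f) (x := x) hrel
  have hαJ : ∀ j, ∑ i, a₁ ^ n * c i * α (Sum.inl i) j ∈ J := by
    intro j
    have h1 := hα j
    rw [Fintype.sum_sum_type] at h1
    simp only [hf, Sum.elim_inl, Sum.elim_inr, neg_mul, Finset.sum_neg_distrib] at h1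
    rw [add_neg_eq_zero] at h1
    rw [h1]
    exact J.sum_mem fun l _ => J.mul_mem_right _ (hjj l)
  choose nn dd hdd using fun j => hgen (y j)
  set n' := ∑ j, nn j with hn'
  have hnn : ∀ j, nn j ≤ n' := fun j => Finset.single_le_sum (f := nn) (fun _ _ => Nat.zero_le _)
    (Finset.mem_univ j)
  set d' : Fin k → Fin r → A := fun j k' => a₁ ^ (n' - nn j) * dd j k' with hd'
  have hd'mem : ∀ j, a₁ ^ n' • y j - ∑ k', d' j k' • h k' ∈ J • (⊤ : Submodule A B) := by
    intro j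
    have : a₁ ^ n' • y j - ∑ k', d' j k' • h k' =
        a₁ ^ (n' - nn j) • (a₁ ^ nn j • y j - ∑ k', dd j k' • h k') := by
      rw [smul_sub, smul_smul, ← pow_add, Nat.sub_add_cancel (hnn j), Finset.smul_sum]
      simp only [hd', smul_smul]
    rw [this]
    exact Submodule.smul_mem _ _ (hdd j)
  set m : Fin r → Fin r → A := fun i k' => ∑ j, α (Sum.inl i) j * d' j k' with hm
  -- entries of `a₁^n' - m` lie in `𝔭`
  have hE : ∀ i k', (if i = k' then a₁ ^ n' else 0) - m i k' ∈ 𝔭 := by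
    intro i
    apply hind₀
    refine ⟨1, fun h1 => (Ideal.IsPrime.ne_top ‹_›) ((Ideal.eq_top_iff_one _).mpr h1), ?_⟩
    rw [one_smul]
    have e1 : ∑ k', ((if i = k' then a₁ ^ n' else 0) - m i k') • h k' =
        ∑ j, α (Sum.inl i) j • (a₁ ^ n' • y j - ∑ k', d' j k' • h k') := by
      have e2 : ∑ k', ((if i = k' then a₁ ^ n' else 0) - m i k') • h k' =
          a₁ ^ n' • h i - ∑ k', ∑ j, (α (Sum.inl i) j * d' j k') • h k' := by
        simp only [hm, sub_smul, Finset.sum_sub_distrib, ite_smul, zero_smul,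
          Finset.sum_ite_eq, Finset.mem_univ, if_true, Finset.sum_smul]
      rw [e2]
      have e3 : h i = ∑ j, α (Sum.inl i) j • y j := hy (Sum.inl i)
      rw [e3]
      simp only [smul_sub, Finset.sum_sub_distrib, Finset.smul_sum, smul_smul]
      rw [Finset.sum_comm (f := fun k' j => (α (Sum.inl i) j * d' j k') • h k')]
      congr 1
      refine Finset.sum_congr rfl fun j _ => ?_
      rw [mul_comm]
    rw [e1]
    refine Submodule.sum_mem _ fun j _ => Submodule.smul_mem _ _ ?_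
    exact Submodule.smul_mono_left hJ𝔭 (hd'mem j)
  -- the matrix
  set M : Matrix (Fin r) (Fin r) A := Matrix.of m with hM
  set c' : Fin r → A := fun i => a₁ ^ n * c i with hc'
  have hcM : ∀ k', (c' ᵥ* M) k' ∈ J := by
    intro k'
    have : (c' ᵥ* M) k' = ∑ j, (∑ i, a₁ ^ n * c i * α (Sum.inl i) j) * d' j k' := by
      simp only [Matrix.vecMul, dotProduct, hM, Matrix.of_apply, hm, hc', Finset.mul_sum,
        Finset.sum_mul]
      rw [Finset.sum_comm]
      simp only [mul_assoc]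
    rw [this]
    exact J.sum_mem fun j _ => J.mul_mem_right _ (hαJ j)
  have hkey : M.det • c' = (c' ᵥ* M) ᵥ* M.adjugate := by
    rw [Matrix.vecMul_vecMul, Matrix.mul_adjugate, Matrix.vecMul_smul, Matrix.vecMul_one]
  have hdet : M.det ∉ 𝔭 := by
    intro hdet
    have h1 : Ideal.Quotient.mk 𝔭 M.det = 0 := Ideal.Quotient.eq_zero_iff_mem.mpr hdet
    rw [RingHom.map_det] at h1
    have h2 : (Ideal.Quotient.mk 𝔭).mapMatrix M =
        (Ideal.Quotient.mk 𝔭 (a₁ ^ n')) • (1 : Matrix (Fin r) (Fin r) (A ⧸ 𝔭)) := by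
      ext i k'
      rw [RingHom.mapMatrix_apply, Matrix.map_apply, Matrix.smul_apply, Matrix.one_apply,
        smul_eq_mul, mul_ite, mul_one, mul_zero]
      have h3 := Ideal.Quotient.eq_zero_iff_mem.mpr (hE i k')
      rw [map_sub, sub_eq_zero] at h3
      rw [hM, Matrix.of_apply, ← h3]
      split_ifs <;> simp
    rw [h2, Matrix.det_smul, Matrix.det_one, mul_one, Fintype.card_fin, ← map_pow,
      Ideal.Quotient.eq_zero_iff_mem] at h1
    exact ha₁ (Ideal.IsPrime.mem_of_pow_mem ‹_› _ (Ideal.IsPrime.mem_of_pow_mem ‹_› _ h1))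
  refine ⟨M.det * a₁ ^ n, ?_, ?_⟩
  · intro hh
    rcases Ideal.IsPrime.mem_or_mem ‹_› hh with h1 | h1
    · exact hdet h1
    · exact ha₁ (Ideal.IsPrime.mem_of_pow_mem ‹_› _ h1)
  · intro i
    have h1 : M.det * a₁ ^ n * c i = (M.det • c') i := by
      rw [Pi.smul_apply, smul_eq_mul, hc', mul_assoc]
    rw [h1, hkey]
    simp only [Matrix.vecMul, dotProduct]
    exact J.sum_mem fun l _ => J.mul_mem_right _ (hcM l)

end Groth.Agent.Lib.helper3.QFSec
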