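import Mathlib
import Groth.Agent.Lib.Helper3.QFSec4
/-!
# Sections of flat quasi-finite morphisms, part 5 (helper3): the relation module is f.g.

`A → B` of finite presentation, `h` generating `B/I''B` over `A/I''` up to powers of `a₁`.
Then the module of relations among the `hᵢ` modulo `I''B` (up to powers of `a₁`) is finitely
generated modulo `I''`.
-/

set_option autoImplicit false
set_option linter.style.haveILetI false
set_option linter.unusedSectionVars false
universe u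
open Function TensorProduct

namespace Groth.Agent.Lib.helper3.QFSec

variable {A B : Type u} [CommRing A] [CommRing B] [Algebra A B]

theorem quot_one_tmul_eq_zero_iff (I : Ideal A) (N : Type u) [AddCommGroup N] [Module A N]
    (n : N) : (1 : A ⧸ I) ⊗ₜ[A] n = 0 ↔ n ∈ I • (⊤ : Submodule A N) := by
  rw [← (quotTensorEquivQuotSMul N I).map_eq_zero_iff, quotTensorEquivQuotSMul_mk_one_tmul,
    Submodule.Quotient.mk_eq_zero]

theorem away_one_tmul_eq_zero_iff {R : Type u} [CommRing R] {M : Type u} [AddCommGroup M]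
    [Module R M] (a : R) (m : M) :
    (1 : Localization.Away a) ⊗ₜ[R] m = 0 ↔ ∃ n : ℕ, a ^ n • m = 0 := by
  have h := IsLocalizedModule.eq_zero_iff (Submonoid.powers a)
    (TensorProduct.mk R (Localization.Away a) M 1) (m := m)
  constructor
  · intro h0
    obtain ⟨⟨_, n, rfl⟩, hn⟩ := h.mp h0
    exact ⟨n, hn⟩
  · rintro ⟨n, hn⟩
    exact h.mpr ⟨⟨a ^ n, n, rfl⟩, hn⟩

/-- the kernel of `B → (A/I'')_{a₁} ⊗_A B`. -/
theorem kernel_lemma (a₁ : A) (I'' : Ideal A) (x : B) :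
    (1 : Localization.Away (Ideal.Quotient.mk I'' a₁)) ⊗ₜ[A] x = 0 ↔
      ∃ n : ℕ, a₁ ^ n • x ∈ I'' • (⊤ : Submodule A B) := by
  set Q₀ := A ⧸ I'' with hQ₀
  set ā : Q₀ := Ideal.Quotient.mk I'' a₁ with hā
  set Q := Localization.Away ā with hQ
  have h1 : (1 : Q) ⊗ₜ[A] x = (TensorProduct.AlgebraTensorModule.cancelBaseChange A Q₀ Q Q B)
      ((1 : Q) ⊗ₜ[Q₀] ((1 : Q₀) ⊗ₜ[A] x)) := by
    rw [TensorProduct.AlgebraTensorModule.cancelBaseChange_tmul, one_smul]
  rw [h1, LinearEquiv.map_eq_zero_iff, away_one_tmul_eq_zero_iff]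
  have h2 : ∀ n : ℕ, ā ^ n • ((1 : Q₀) ⊗ₜ[A] x) = (1 : Q₀) ⊗ₜ[A] (a₁ ^ n • x) := by
    intro n
    rw [TensorProduct.smul_tmul', smul_eq_mul, mul_one, TensorProduct.tmul_smul,
      TensorProduct.smul_tmul', hā, ← map_pow]
    congr 1
    rw [Algebra.smul_def, mul_one]
    rfl
  constructor
  · rintro ⟨n, hn⟩
    rw [h2, quot_one_tmul_eq_zero_iff] at hn
    exact ⟨n, hn⟩
  · rintro ⟨n, hn⟩
    refine ⟨n, ?_⟩
    rw [h2, quot_one_tmul_eq_zero_iff]
    exact hn

theorem algebraMap_away_eq_zero_iff (a₁ : A) (I'' : Ideal A) (x : A) :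
    algebraMap A (Localization.Away (Ideal.Quotient.mk I'' a₁)) x = 0 ↔
      ∃ n : ℕ, a₁ ^ n * x ∈ I'' := by
  rw [IsScalarTower.algebraMap_apply A (A ⧸ I'') (Localization.Away (Ideal.Quotient.mk I'' a₁)),
    IsLocalization.map_eq_zero_iff (Submonoid.powers (Ideal.Quotient.mk I'' a₁))]
  constructor
  · rintro ⟨⟨_, n, rfl⟩, hn⟩
    refine ⟨n, ?_⟩
    rw [← Ideal.Quotient.eq_zero_iff_mem, map_mul, map_pow]
    exact hn
  · rintro ⟨n, hn⟩
    refine ⟨⟨_, n, rfl⟩, ?_⟩
    rw [← Ideal.Quotient.eq_zero_iff_mem, map_mul, map_pow] at hn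
    exact hn

theorem kfg [Algebra.FinitePresentation A B] (a₁ : A) (I'' : Ideal A) {r : ℕ} (h : Fin r → B)
    (hgen : ∀ b : B, ∃ n : ℕ, ∃ c : Fin r → A,
      a₁ ^ n • b - ∑ i, c i • h i ∈ I'' • (⊤ : Submodule A B)) :
    ∃ (ι : Type u) (_ : Fintype ι) (C : ι → Fin r → A),
      (∀ q, ∃ n : ℕ, a₁ ^ n • ∑ i, C q i • h i ∈ I'' • (⊤ : Submodule A B)) ∧
      ∀ c : Fin r → A, (∃ n : ℕ, a₁ ^ n • ∑ i, c i • h i ∈ I'' • (⊤ : Submodule A B)) →
        ∃ (n : ℕ) (l : ι → A), ∀ i, a₁ ^ n * c i - ∑ q, l q * C q i ∈ I'' := by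
  classical
  set ā : A ⧸ I'' := Ideal.Quotient.mk I'' a₁ with hā
  set Q := Localization.Away ā with hQ
  set u : Q := algebraMap A Q a₁ with hu
  have hunit : IsUnit u := by
    rw [hu, IsScalarTower.algebraMap_apply A (A ⧸ I'') Q]
    exact IsLocalization.Away.algebraMap_isUnit ā
  have hfrac : ∀ q : Q, ∃ (n : ℕ) (x : A), u ^ n * q = algebraMap A Q x := by
    intro q
    obtain ⟨n, a', hn⟩ := IsLocalization.Away.surj ā q
    obtain ⟨x, rfl⟩ := Ideal.Quotient.mk_surjective a'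
    refine ⟨n, x, ?_⟩
    rw [mul_comm, hu, IsScalarTower.algebraMap_apply A (A ⧸ I'') Q,
      IsScalarTower.algebraMap_apply A (A ⧸ I'') Q]
    exact hn
  -- the tensor product
  set ψ : (Fin r → Q) →ₗ[Q] (Q ⊗[A] B) :=
    Fintype.linearCombination Q (fun i => (1 : Q) ⊗ₜ[A] h i) with hψ
  have hψρ : ∀ c : Fin r → A, ψ (fun i => algebraMap A Q (c i)) =
      (1 : Q) ⊗ₜ[A] (∑ i, c i • h i) := by
    intro c
    rw [hψ, Fintype.linearCombination_apply, TensorProduct.tmul_sum]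
    refine Finset.sum_congr rfl fun i _ => ?_
    rw [TensorProduct.tmul_smul, algebraMap_smul]
  have hsmulu : ∀ (n : ℕ) (t : Q ⊗[A] B), a₁ ^ n • t = u ^ n • t := by
    intro n t
    rw [hu, ← map_pow, algebraMap_smul]
  have hsurj : Surjective ψ := by
    rw [← LinearMap.range_eq_top, eq_top_iff]
    rintro t -
    induction t using TensorProduct.induction_on with
    | zero => exact Submodule.zero_mem _
    | add x y hx hy => exact Submodule.add_mem _ hx hy
    | tmul q b =>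
      have h1 : q ⊗ₜ[A] b = q • ((1 : Q) ⊗ₜ[A] b) := by
        rw [TensorProduct.smul_tmul', smul_eq_mul, mul_one]
      rw [h1]
      refine Submodule.smul_mem _ _ ?_
      obtain ⟨n, c, hc⟩ := hgen b
      have h2 : (1 : Q) ⊗ₜ[A] (a₁ ^ n • b - ∑ i, c i • h i) = 0 :=
        (kernel_lemma a₁ I'' _).mpr ⟨0, by rwa [pow_zero, one_smul]⟩
      rw [TensorProduct.tmul_sub, sub_eq_zero, TensorProduct.tmul_smul, hsmulu, ← hψρ] at h2
      have h3 : (1 : Q) ⊗ₜ[A] b = (hunit.unit ^ n)⁻¹.1 • (u ^ n • ((1 : Q) ⊗ₜ[A] b)) := by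
        rw [smul_smul]
        have : ((hunit.unit ^ n)⁻¹ : Qˣ).1 * u ^ n = 1 := by
          have : u ^ n = ((hunit.unit ^ n : Qˣ) : Q) := by simp
          rw [this, Units.inv_mul]
        rw [this, one_smul]
      rw [h3, h2]
      exact Submodule.smul_mem _ _ ⟨_, rfl⟩
  haveI : Module.Finite Q (Q ⊗[A] B) := Module.Finite.of_surjective ψ hsurj
  haveI : Module.FinitePresentation Q (Q ⊗[A] B) :=
    Module.FinitePresentation.of_finite_of_finitePresentation Q (Q ⊗[A] B)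
  obtain ⟨S, hS⟩ := Module.FinitePresentation.fg_ker ψ hsurj
  -- lift the generators
  have hlift : ∀ v : Fin r → Q, ∃ (n : ℕ) (C : Fin r → A),
      ∀ i, u ^ n * v i = algebraMap A Q (C i) := by
    intro v
    choose nn xx hx using fun i => hfrac (v i)
    refine ⟨∑ i, nn i, fun i => a₁ ^ (∑ j, nn j - nn i) * xx i, fun i => ?_⟩
    have hle : nn i ≤ ∑ j, nn j :=
      Finset.single_le_sum (f := nn) (fun _ _ => Nat.zero_le _) (Finset.mem_univ i)
    rw [map_mul, ← hx i, map_pow, ← hu, ← mul_assoc, ← pow_add, Nat.sub_add_cancel hle]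
  choose nS CS hCS using hlift
  refine ⟨↥S, inferInstance, fun κ => CS κ.1, ?_, ?_⟩
  · intro κ
    have h1 : ψ κ.1 = 0 := by
      have : κ.1 ∈ LinearMap.ker ψ := by rw [← hS]; exact Submodule.subset_span κ.2
      exact this
    have h2 : ψ (fun i => algebraMap A Q (CS κ.1 i)) = 0 := by
      have : (fun i => algebraMap A Q (CS κ.1 i)) = u ^ nS κ.1 • κ.1 := by
        funext i
        rw [Pi.smul_apply, smul_eq_mul, hCS]
      rw [this, map_smul, h1, smul_zero]
    rw [hψρ] at h2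
    exact (kernel_lemma a₁ I'' _).mp h2
  · rintro c hc
    have h1 : ψ (fun i => algebraMap A Q (c i)) = 0 := by
      rw [hψρ]
      obtain ⟨n, hn⟩ := hc
      have h2 := (kernel_lemma a₁ I'' (a₁ ^ n • ∑ i, c i • h i)).mpr
        ⟨0, by rw [pow_zero, one_smul]; exact hn⟩
      rw [TensorProduct.tmul_smul, hsmulu] at h2
      exact (hunit.pow n).smul_eq_zero.mp h2
    have h2 : (fun i => algebraMap A Q (c i)) ∈ Submodule.span Q (S : Set (Fin r → Q)) := by
      rw [hS]; exact h1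
    obtain ⟨μ, hμ⟩ := Submodule.mem_span_finset'.mp h2
    -- clear denominators of `μ`
    choose kk ll hll using fun κ : S => hfrac (μ κ)
    set K := ∑ κ : S, (kk κ + nS κ.1) with hK
    have hKle : ∀ κ : S, kk κ + nS κ.1 ≤ K := fun κ =>
      Finset.single_le_sum (f := fun κ : S => kk κ + nS κ.1) (fun _ _ => Nat.zero_le _)
        (Finset.mem_univ κ)
    set l : S → A := fun κ => a₁ ^ (K - (kk κ + nS κ.1)) * ll κ with hl
    have h3 : ∀ i, algebraMap A Q (a₁ ^ K * c i - ∑ κ : S, l κ * CS κ.1 i) = 0 := by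
      intro i
      have h4 := congrFun hμ i
      rw [Finset.sum_apply] at h4
      rw [map_sub, map_mul, map_pow, ← hu, ← h4, Finset.mul_sum, map_sum, sub_eq_zero]
      refine Finset.sum_congr rfl fun κ _ => ?_
      rw [Pi.smul_apply, smul_eq_mul, map_mul, hl, map_mul, ← hll κ, ← hCS κ.1 i, map_pow, ← hu]
      have : u ^ K = u ^ (K - (kk κ + nS κ.1)) * u ^ kk κ * u ^ nS κ.1 := by
        rw [mul_assoc, ← pow_add, ← pow_add, Nat.sub_add_cancel (hKle κ)]
      rw [this]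
      ring
    choose mm hmm using fun i => (algebraMap_away_eq_zero_iff a₁ I'' _).mp (h3 i)
    set Mx := ∑ i, mm i with hMx
    refine ⟨Mx + K, fun κ => a₁ ^ Mx * l κ, fun i => ?_⟩
    have hle : mm i ≤ Mx :=
      Finset.single_le_sum (f := mm) (fun _ _ => Nat.zero_le _) (Finset.mem_univ i)
    have : a₁ ^ (Mx + K) * c i - ∑ κ : S, a₁ ^ Mx * l κ * CS κ.1 i =
        a₁ ^ (Mx - mm i) * (a₁ ^ mm i * (a₁ ^ K * c i - ∑ κ : S, l κ * CS κ.1 i)) := by
      rw [← mul_assoc, ← pow_add, Nat.sub_add_cancel hle, mul_sub, Finset.mul_sum, pow_add]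
      congr 1
      · ring
      · refine Finset.sum_congr rfl fun κ _ => ?_
        ring
    rw [this]
    exact I''.mul_mem_left _ (hmm i)

end Groth.Agent.Lib.helper3.QFSec
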