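import Mathlib
import Groth.Agent.Lib.Helper3.QFSec5
/-!
# Sections of flat quasi-finite morphisms, part 6 (helper3): the core statement over `A → B`
-/

set_option autoImplicit false
set_option linter.style.haveILetI false
set_option linter.unusedSectionVars false
universe u
open Function TensorProduct

namespace Groth.Agent.Lib.helper3.QFSec

variable {A B : Type u} [CommRing A] [CommRing B] [Algebra A B]

theorem core [Module.Flat A B] [Algebra.FinitePresentation A B] [Algebra.QuasiFinite A B]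
    (g : B) (hg : g ≠ 0) :
    ∃ (a : A) (I'' : Ideal A) (r : ℕ) (h : Fin r → B),
      (∀ n : ℕ, a ^ n • g ≠ 0) ∧ I''.FG ∧ (∀ i ∈ I'', i • g = 0) ∧
      (∀ b : B, ∃ n : ℕ, ∃ c : Fin r → A,
        a ^ n • b - ∑ i, c i • h i ∈ I'' • (⊤ : Submodule A B)) ∧
      (∀ c : Fin r → A, (∃ n : ℕ, a ^ n • ∑ i, c i • h i ∈ I'' • (⊤ : Submodule A B)) →
        ∃ n : ℕ, ∀ i, a ^ n * c i ∈ I'') := by
  classical
  set I : Ideal A := LinearMap.ker (LinearMap.toSpanSingleton A B g) with hI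
  have hImem : ∀ t : A, t ∈ I ↔ t • g = 0 := by
    intro t
    rw [hI, LinearMap.mem_ker, LinearMap.toSpanSingleton_apply]
  have hIne : I ≠ ⊤ := by
    intro h
    have : (1 : A) ∈ I := by rw [h]; trivial
    rw [hImem, one_smul] at this
    exact hg this
  obtain ⟨M, hM, hIM⟩ := Ideal.exists_le_maximal I hIne
  haveI := hM.isPrime
  obtain ⟨𝔭, h𝔭, -⟩ := Ideal.exists_minimalPrimes_le hIM
  haveI : 𝔭.IsPrime := h𝔭.1.1
  have hI𝔭 : I ≤ 𝔭 := h𝔭.1.2
  haveI : Algebra.FiniteType A B := inferInstance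
  obtain ⟨r, h, hind₀, a₁, ha₁, I'', hfg, hle, hgen⟩ := exists_gen (B := B) I 𝔭 h𝔭
  obtain ⟨ι, _, C, hCa, hCb⟩ := kfg a₁ I'' h hgen
  have hs : ∀ q : ι, ∃ s, s ∉ 𝔭 ∧ ∀ i, s * C q i ∈ I'' := fun q =>
    ind_at_prime 𝔭 I'' (hle.trans hI𝔭) h hind₀ a₁ ha₁ hgen (C q) (hCa q)
  choose σ hσ hσC using hs
  set e := ∏ q, σ q with he
  have he𝔭 : e ∉ 𝔭 := by
    have : e ∈ 𝔭.primeCompl := Submonoid.prod_mem _ fun q _ => hσ q
    exact this
  have heC : ∀ q i, e * C q i ∈ I'' := by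
    intro q i
    rw [he, ← Finset.mul_prod_erase Finset.univ σ (Finset.mem_univ q)]
    have : (σ q * ∏ x ∈ Finset.univ.erase q, σ x) * C q i =
        (∏ x ∈ Finset.univ.erase q, σ x) * (σ q * C q i) := by ring
    rw [this]
    exact I''.mul_mem_left _ (hσC q i)
  have ha𝔭 : a₁ * e ∉ 𝔭 := fun hh => (Ideal.IsPrime.mem_or_mem ‹_› hh).elim ha₁ he𝔭
  refine ⟨a₁ * e, I'', r, h, ?_, hfg, ?_, ?_, ?_⟩
  · intro n hn
    have : (a₁ * e) ^ n ∈ I := (hImem _).mpr hn
    exact ha𝔭 (Ideal.IsPrime.mem_of_pow_mem ‹_› _ (hI𝔭 this))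
  · intro i hi
    exact (hImem i).mp (hle hi)
  · intro b
    obtain ⟨n, c, hc⟩ := hgen b
    refine ⟨n, fun i => e ^ n * c i, ?_⟩
    have : (a₁ * e) ^ n • b - ∑ i, (e ^ n * c i) • h i =
        e ^ n • (a₁ ^ n • b - ∑ i, c i • h i) := by
      rw [smul_sub, smul_smul, Finset.smul_sum, mul_pow, mul_comm (a₁ ^ n)]
      simp only [smul_smul]
    rw [this]
    exact Submodule.smul_mem _ _ hc
  · rintro c ⟨n, hn⟩
    have h1 : ∃ n' : ℕ, a₁ ^ n' • ∑ i, (e ^ n * c i) • h i ∈ I'' • (⊤ : Submodule A B) := by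
      refine ⟨n, ?_⟩
      have : a₁ ^ n • ∑ i, (e ^ n * c i) • h i = (a₁ * e) ^ n • ∑ i, c i • h i := by
        rw [Finset.smul_sum, Finset.smul_sum]
        refine Finset.sum_congr rfl fun i _ => ?_
        rw [smul_smul, smul_smul, mul_pow, mul_assoc]
      rw [this]
      exact hn
    obtain ⟨n', l, hl⟩ := hCb _ h1
    refine ⟨n + 1 + n', fun i => ?_⟩
    have h2 : e ^ (n + 1) * a₁ ^ n' * c i ∈ I'' := by
      have h3 : e ^ (n + 1) * a₁ ^ n' * c i =
          e * (a₁ ^ n' * (e ^ n * c i) - ∑ q, l q * C q i) + ∑ q, l q * (e * C q i) := by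
        rw [mul_sub, Finset.mul_sum, pow_succ]
        have : ∑ q, e * (l q * C q i) = ∑ q, l q * (e * C q i) :=
          Finset.sum_congr rfl fun q _ => by ring
        rw [this]
        ring
      rw [h3]
      exact I''.add_mem (I''.mul_mem_left _ (hl i))
        (I''.sum_mem fun q _ => I''.mul_mem_left _ (heC q i))
    have h4 : (a₁ * e) ^ (n + 1 + n') * c i =
        (a₁ ^ (n + 1) * e ^ n') * (e ^ (n + 1) * a₁ ^ n' * c i) := by
      rw [mul_pow, pow_add a₁, pow_add e]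
      ring
    rw [h4]
    exact I''.mul_mem_left _ h2

end Groth.Agent.Lib.helper3.QFSec
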