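import Mathlib
import Groth.Agent.Lib.Helper3.QFSec1
import Groth.Agent.Lib.Helper3.QFSec6
/-!
# Sections of flat quasi-finite morphisms, part 7 (helper3): the ring-level theorem

`A → B` flat, of finite presentation and quasi-finite, `g ≠ 0` in `B`.  Then there is `a ∈ A`
such that over `A' = A_a`, `B' = B_a` the image of `g` is nonzero and lies in the image of an
injective `A'`-linear map `F^r → B'` for an ideal `F` of `A'` and some `r > 0`.
-/

set_option autoImplicit false
set_option linter.style.haveILetI false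
set_option linter.unusedSectionVars false
universe u
open Function TensorProduct

namespace Groth.Agent.Lib.helper3.QFSec

theorem ring_main {A B : Type u} [CommRing A] [CommRing B] [Algebra A B] [Module.Flat A B]
    [Algebra.FinitePresentation A B] [Algebra.QuasiFinite A B] (g : B) (hg : g ≠ 0) :
    ∃ a : A, ∀ (A' B' : Type u) [CommRing A'] [CommRing B'] [Algebra A A'] [Algebra B B']
      [Algebra A' B'] [Algebra A B'] [IsScalarTower A A' B'] [IsScalarTower A B B']
      [IsLocalization.Away a A'] [IsLocalization.Away (algebraMap A B a) B'],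
      algebraMap B B' g ≠ 0 ∧ ∃ (F : Ideal A') (r : ℕ), 0 < r ∧
        ∃ φ : (Fin r → F) →ₗ[A'] B', Injective φ ∧ algebraMap B B' g ∈ LinearMap.range φ := by
  classical
  obtain ⟨a, I'', r, h, hne, hfg, hkill, hgen, hind⟩ := core (A := A) (B := B) g hg
  refine ⟨a, ?_⟩
  intro A' B' _ _ _ _ _ _ _ _ _ _
  set α := algebraMap A B a with hα
  set v := algebraMap A A' a with hv
  have hvu : IsUnit v := IsLocalization.Away.algebraMap_isUnit a
  have hmapsm : ∀ (t : A) (b : B),
      algebraMap B B' (t • b) = algebraMap A A' t • algebraMap B B' b := by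
    intro t b
    rw [Algebra.smul_def, map_mul, ← IsScalarTower.algebraMap_apply A B B',
      IsScalarTower.algebraMap_apply A A' B', ← Algebra.smul_def]
  haveI : Module.Flat B B' := IsLocalization.flat B' (Submonoid.powers α)
  haveI : Module.Flat A B' := Module.Flat.trans A B B'
  haveI : Module.Flat A' B' :=
    (Module.flat_iff_of_isLocalization A' (Submonoid.powers a) B').mpr inferInstance
  set g' := algebraMap B B' g with hg'
  have hg'ne : g' ≠ 0 := by
    intro h0
    obtain ⟨⟨_, n, rfl⟩, hn⟩ := (IsLocalization.map_eq_zero_iff (Submonoid.powers α) B' g).mp h0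
    apply hne n
    rw [Algebra.smul_def, map_pow]
    exact hn
  set J : Ideal A' := I''.map (algebraMap A A') with hJ
  have hJfg : J.FG := hfg.map _
  -- `J` kills `g'`
  have hJkill : ∀ j ∈ J, j • g' = 0 := by
    intro j hj
    refine Submodule.span_induction ?_ ?_ ?_ ?_ hj
    · rintro _ ⟨i, hi, rfl⟩
      rw [← hmapsm, hkill i hi, map_zero]
    · exact zero_smul _ _
    · intro x y _ _ hx hy
      rw [add_smul, hx, hy, add_zero]
    · intro c x _ hx
      rw [smul_eq_mul, mul_smul, hx, smul_zero]
  set h' : Fin r → B' := fun i => algebraMap B B' (h i) with hh'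
  -- images of `I''B`
  have himg : ∀ z ∈ I'' • (⊤ : Submodule A B),
      algebraMap B B' z ∈ J • (⊤ : Submodule A' B') := by
    intro z hz
    refine Submodule.smul_induction_on hz ?_ ?_
    · intro i hi b _
      rw [hmapsm]
      exact Submodule.smul_mem_smul (Ideal.mem_map_of_mem _ hi) trivial
    · intro x y hx hy
      rw [map_add]; exact Submodule.add_mem _ hx hy
  have hmapsum : ∀ c : Fin r → A, algebraMap B B' (∑ i, c i • h i) =
      ∑ i, algebraMap A A' (c i) • h' i := by
    intro c
    rw [map_sum]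
    exact Finset.sum_congr rfl fun i _ => hmapsm _ _
  -- preimages
  have hpre : ∀ x : B, algebraMap B B' x ∈ J • (⊤ : Submodule A' B') →
      ∃ n : ℕ, a ^ n • x ∈ I'' • (⊤ : Submodule A B) := by
    intro x hx
    rw [Ideal.smul_top_eq_map, Submodule.restrictScalars_mem, hJ, Ideal.map_map,
      ← IsScalarTower.algebraMap_eq A A' B', IsScalarTower.algebraMap_eq A B B',
      ← Ideal.map_map, IsLocalization.mem_map_algebraMap_iff (Submonoid.powers α) B'] at hx
    obtain ⟨⟨⟨i, hi⟩, ⟨_, m, rfl⟩⟩, hx⟩ := hx
    rw [← map_mul, IsLocalization.eq_iff_exists (Submonoid.powers α) B'] at hx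
    obtain ⟨⟨_, m', rfl⟩, hx⟩ := hx
    refine ⟨m' + m, ?_⟩
    rw [Ideal.smul_top_eq_map, Submodule.restrictScalars_mem]
    have : a ^ (m' + m) • x = α ^ m' * (x * α ^ m) := by
      rw [Algebra.smul_def, map_pow, pow_add]
      ring
    rw [this, hx]
    exact Ideal.mul_mem_left _ _ hi
  -- generation
  have hgen' : ∀ b' : B', ∃ c' : Fin r → A',
      b' - ∑ i, c' i • h' i ∈ J • (⊤ : Submodule A' B') := by
    intro b'
    obtain ⟨k, b, hb⟩ := IsLocalization.Away.surj α b'
    obtain ⟨n, c, hc⟩ := hgen b
    have h1 := himg _ hc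
    rw [map_sub, hmapsm, hmapsum, map_pow, ← hv] at h1
    have hαv : ∀ y : B', y * algebraMap B B' α ^ k = v ^ k • y := by
      intro y
      rw [hα, ← IsScalarTower.algebraMap_apply A B B', IsScalarTower.algebraMap_apply A A' B',
        ← map_pow, Algebra.smul_def, mul_comm]
    rw [hαv] at hb
    rw [← hb, smul_smul, ← pow_add] at h1
    set w : A' := (((hvu.unit ^ (n + k))⁻¹ : A'ˣ) : A') with hw
    have hwv : w * v ^ (n + k) = 1 := by
      have : v ^ (n + k) = ((hvu.unit ^ (n + k) : A'ˣ) : A') := by simp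
      rw [this, hw, Units.inv_mul]
    refine ⟨fun i => w * algebraMap A A' (c i), ?_⟩
    have h2 : b' - ∑ i, (w * algebraMap A A' (c i)) • h' i =
        w • (v ^ (n + k) • b' - ∑ i, algebraMap A A' (c i) • h' i) := by
      rw [smul_sub, smul_smul, hwv, one_smul, Finset.smul_sum]
      simp only [smul_smul]
    rw [h2]
    exact Submodule.smul_mem _ _ h1
  -- independence
  have hind' : ∀ c' : Fin r → A', ∑ i, c' i • h' i ∈ J • (⊤ : Submodule A' B') →
      ∀ i, c' i ∈ J := by
    intro c' hc'
    have hfr : ∀ i, ∃ (n : ℕ) (x : A), c' i * v ^ n = algebraMap A A' x := fun i =>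
      IsLocalization.Away.surj a (c' i)
    choose nn xx hxx using hfr
    set K := ∑ i, nn i with hK
    have hKle : ∀ i, nn i ≤ K := fun i =>
      Finset.single_le_sum (f := nn) (fun _ _ => Nat.zero_le _) (Finset.mem_univ i)
    set c : Fin r → A := fun i => a ^ (K - nn i) * xx i with hc
    have hcc : ∀ i, algebraMap A A' (c i) = v ^ K * c' i := by
      intro i
      rw [hc, map_mul, ← hxx i, map_pow, ← hv]
      have : v ^ K = v ^ (K - nn i) * v ^ nn i := by
        rw [← pow_add, Nat.sub_add_cancel (hKle i)]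
      rw [this]
      ring
    have h1 : algebraMap B B' (∑ i, c i • h i) ∈ J • (⊤ : Submodule A' B') := by
      rw [hmapsum]
      have : ∑ i, algebraMap A A' (c i) • h' i = v ^ K • ∑ i, c' i • h' i := by
        rw [Finset.smul_sum]
        refine Finset.sum_congr rfl fun i _ => ?_
        rw [hcc i, mul_smul]
      rw [this]
      exact Submodule.smul_mem _ _ hc'
    obtain ⟨n, hn⟩ := hpre _ h1
    obtain ⟨n', hn'⟩ := hind c ⟨n, hn⟩
    intro i
    set w : A' := (((hvu.unit ^ (n' + K))⁻¹ : A'ˣ) : A') with hw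
    have hwv : w * v ^ (n' + K) = 1 := by
      have : v ^ (n' + K) = ((hvu.unit ^ (n' + K) : A'ˣ) : A') := by simp
      rw [this, hw, Units.inv_mul]
    have h2 : c' i = w * algebraMap A A' (a ^ n' * c i) := by
      rw [map_mul, hcc i, map_pow, ← hv, ← mul_assoc, ← mul_assoc, mul_assoc w, ← pow_add, hwv,
        one_mul]
    rw [h2]
    exact Ideal.mul_mem_left _ _ (Ideal.mem_map_of_mem _ (hn' i))
  obtain ⟨hinj, hrange⟩ := stepL J hJfg g' hJkill h' hgen' hind'
  refine ⟨hg'ne, annIdeal J, r, ?_, phi (annIdeal J) h', hinj, hrange⟩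
  by_contra hr
  have hr0 : r = 0 := by omega
  subst hr0
  obtain ⟨t, ht⟩ := hrange
  rw [phi_apply, Finset.univ_eq_empty, Finset.sum_empty] at ht
  exact hg'ne ht.symm

end Groth.Agent.Lib.helper3.QFSec
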