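import Mathlib
import Groth.Agent.Lib.Helper3.QFSec7
/-!
# Sections of flat quasi-finite morphisms, part 8 (helper3): the scheme-level statement (= S1480)
-/

set_option autoImplicit false
set_option linter.style.haveILetI false
set_option linter.unusedSectionVars false
universe u
open CategoryTheory AlgebraicGeometry Function TopologicalSpace Opposite

namespace Groth.Agent.Lib.helper3.QFSec

theorem exists_affine_ne_zero {X S : Scheme.{u}} (f : X ⟶ S) (g : Γ(X, ⊤)) (hg : g ≠ 0) :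
    ∃ (U₀ : S.Opens) (_ : IsAffineOpen U₀) (V₀ : X.Opens) (_ : IsAffineOpen V₀)
      (_ : V₀ ≤ f ⁻¹ᵁ U₀), X.presheaf.map (homOfLE le_top).op g ≠ (0 : Γ(X, V₀)) := by
  by_contra hcon
  push Not at hcon
  apply hg
  let I := {V : X.Opens // IsAffineOpen V ∧ ∃ U : S.Opens, IsAffineOpen U ∧ V ≤ f ⁻¹ᵁ U}
  refine X.sheaf.eq_of_locally_eq' (fun i : I => i.1) ⊤ (fun i => homOfLE le_top) ?_ g 0
    (fun i => ?_)
  · intro x _
    obtain ⟨_, ⟨U₀, hU₀ : IsAffineOpen U₀, rfl⟩, hsU, -⟩ :=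
      S.isBasis_affineOpens.exists_subset_of_mem_open (Set.mem_univ (f x)) isOpen_univ
    obtain ⟨_, ⟨V₀, hV₀ : IsAffineOpen V₀, rfl⟩, hxV, hVU⟩ :=
      X.isBasis_affineOpens.exists_subset_of_mem_open
        (show x ∈ (f ⁻¹ᵁ U₀ : Set X) from hsU) (f ⁻¹ᵁ U₀).isOpen
    exact Opens.mem_iSup.mpr ⟨⟨V₀, hV₀, U₀, hU₀, hVU⟩, hxV⟩
  · obtain ⟨V₀, hV₀, U₀, hU₀, hVU⟩ := i
    rw [map_zero]
    exact hcon U₀ hU₀ V₀ hV₀ hVU

theorem main {X S : Scheme.{u}} (f : X ⟶ S) [Flat f] [LocallyOfFinitePresentation f]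
    [LocallyQuasiFinite f] (g : Γ(X, ⊤)) (hg : g ≠ 0) :
    ∃ (U : S.Opens) (hU : IsAffineOpen U) (V : X.Opens) (hV : IsAffineOpen V)
      (hVU : V ≤ f ⁻¹ᵁ U),
      X.presheaf.map (homOfLE le_top).op g ≠ (0 : Γ(X, V)) ∧
      ∃ (F : Ideal Γ(S, U)) (r : ℕ), 0 < r ∧
        letI := (f.appLE U V hVU).hom.toAlgebra
        ∃ φ : (Fin r → ↥F) →ₗ[Γ(S, U)] Γ(X, V), Function.Injective φ ∧
          X.presheaf.map (homOfLE le_top).op g ∈ LinearMap.range φ := by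
  obtain ⟨U₀, hU₀, V₀, hV₀, e₀, hg₀⟩ := exists_affine_ne_zero f g hg
  set g₀ : Γ(X, V₀) := X.presheaf.map (homOfLE le_top).op g with hg₀def
  letI alg : Algebra Γ(S, U₀) Γ(X, V₀) := (f.appLE U₀ V₀ e₀).hom.toAlgebra
  haveI : Module.Flat Γ(S, U₀) Γ(X, V₀) := f.flat_appLE hU₀ hV₀ e₀
  haveI : Algebra.FinitePresentation Γ(S, U₀) Γ(X, V₀) := f.finitePresentation_appLE hU₀ hV₀ e₀
  haveI : Algebra.QuasiFinite Γ(S, U₀) Γ(X, V₀) :=
    LocallyQuasiFinite.quasiFinite_appLE hU₀ hV₀ e₀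
  obtain ⟨a, H⟩ := ring_main (A := Γ(S, U₀)) (B := Γ(X, V₀)) g₀ hg₀
  have hVU : X.basicOpen ((f.appLE U₀ V₀ e₀).hom a) ≤ f ⁻¹ᵁ (S.basicOpen a) := by
    rw [Scheme.basicOpen_appLE]
    exact inf_le_right
  refine ⟨S.basicOpen a, hU₀.basicOpen a, X.basicOpen ((f.appLE U₀ V₀ e₀).hom a),
    hV₀.basicOpen _, hVU, ?_⟩
  letI algAB : Algebra Γ(S, S.basicOpen a) Γ(X, X.basicOpen ((f.appLE U₀ V₀ e₀).hom a)) :=
    (f.appLE (S.basicOpen a) (X.basicOpen ((f.appLE U₀ V₀ e₀).hom a)) hVU).hom.toAlgebra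
  letI algAB' : Algebra Γ(S, U₀) Γ(X, X.basicOpen ((f.appLE U₀ V₀ e₀).hom a)) :=
    ((f.appLE (S.basicOpen a) (X.basicOpen ((f.appLE U₀ V₀ e₀).hom a)) hVU).hom.comp
      (algebraMap Γ(S, U₀) Γ(S, S.basicOpen a))).toAlgebra
  haveI : IsScalarTower Γ(S, U₀) Γ(S, S.basicOpen a)
      Γ(X, X.basicOpen ((f.appLE U₀ V₀ e₀).hom a)) := IsScalarTower.of_algebraMap_eq (fun x => rfl)
  haveI : IsScalarTower Γ(S, U₀) Γ(X, V₀)
      Γ(X, X.basicOpen ((f.appLE U₀ V₀ e₀).hom a)) := by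
    refine IsScalarTower.of_algebraMap_eq (fun x => ?_)
    change (f.appLE (S.basicOpen a) (X.basicOpen ((f.appLE U₀ V₀ e₀).hom a)) hVU).hom
      ((S.presheaf.map (homOfLE (S.basicOpen_le a)).op).hom x) =
      (X.presheaf.map (homOfLE (X.basicOpen_le _)).op).hom ((f.appLE U₀ V₀ e₀).hom x)
    rw [← RingHom.comp_apply, ← RingHom.comp_apply, ← CommRingCat.hom_comp,
      ← CommRingCat.hom_comp, Scheme.Hom.map_appLE, Scheme.Hom.appLE_map]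
  haveI : IsLocalization.Away a Γ(S, S.basicOpen a) := hU₀.isLocalization_basicOpen a
  haveI : IsLocalization.Away (algebraMap Γ(S, U₀) Γ(X, V₀) a)
      Γ(X, X.basicOpen ((f.appLE U₀ V₀ e₀).hom a)) := hV₀.isLocalization_basicOpen _
  obtain ⟨hne, F, r, hr, φ, hinj, hrange⟩ := H Γ(S, S.basicOpen a)
    Γ(X, X.basicOpen ((f.appLE U₀ V₀ e₀).hom a))
  have hgg : algebraMap Γ(X, V₀) Γ(X, X.basicOpen ((f.appLE U₀ V₀ e₀).hom a)) g₀ =
      X.presheaf.map (homOfLE le_top).op g := by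
    change (X.presheaf.map (homOfLE (X.basicOpen_le _)).op).hom
      ((X.presheaf.map (homOfLE le_top).op).hom g) = _
    rw [← RingHom.comp_apply, ← CommRingCat.hom_comp, ← Functor.map_comp]
    rfl
  rw [hgg] at hne hrange
  exact ⟨hne, F, r, hr, φ, hinj, hrange⟩

end Groth.Agent.Lib.helper3.QFSec
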