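import Mathlib
import Groth.Prelude.Def_EGA43
import Groth.Agent.S0402
import Groth.Agent.S9381
import Groth.Agent.Lib.Helper3.QuasiSectionDed
import Groth.Agent.Lib.Helper5.FibreDimLocal
/-!
# Helper library (helper3): locally quasi-finite morphisms to affine space (EGA IV 13.3.1)

* `cut_step`, `cut_all`: on an affine scheme `X₀` of finite type over `Y₀`, a point `x₀` closed in its fibre with
  `fibreDimAt ≤ d` is cut out in its fibre (up to generizations) by `d` global sections.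
* `quasiFiniteAt_homOfVector`: the corresponding morphism `X₀ ⟶ 𝔸^d_{Y₀}` is quasi-finite at `x₀`.
-/

set_option autoImplicit false
universe u
open CategoryTheory AlgebraicGeometry Function TopologicalSpace Topology

namespace Groth.Agent.Lib.helper3.QFinAffineSpace

open Groth.Agent.Lib.helper3.DimIneq Groth.Agent.Lib.helper3.FTField
  Groth.Agent.Lib.helper3.FibreField Groth.Agent.Lib.helper3.DimFibre
  Groth.Agent.Lib.helper3.RelDim Groth.Agent.Lib.helper3.EquidimAt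
  Groth.Agent.Lib.helper3.QFinTop Groth.Agent.Lib.helper3.EquidimIrr
  Groth.Agent.Lib.helper3.QuasiSection

/-- all generizations of `x₀` inside `Z` and the fibre have transcendence degree `≤ d`. -/
def Meas {X₀ Y₀ : Scheme.{u}} (f₀ : X₀ ⟶ Y₀) (x₀ : X₀) (Z : Set X₀) (d : ℕ) : Prop :=
  ∀ x' : X₀, x' ∈ Z → f₀ x' = f₀ x₀ → x' ⤳ x₀ → td (f₀.residueFieldMap x').hom ≤ (d : Cardinal.{u})

theorem cut_step {X₀ Y₀ : Scheme.{u}} [IsAffine X₀] (f₀ : X₀ ⟶ Y₀) [LocallyOfFiniteType f₀]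
    [QuasiCompact f₀] (x₀ : X₀)
    (hcl₀ : ∀ x' : X₀, f₀ x' = f₀ x₀ → x₀ ⤳ x' → x' = x₀) (Z : Set X₀) (hZ : IsClosed Z)
    (d : ℕ) (hm : Meas f₀ x₀ Z (d + 1)) :
    ∃ g : Γ(X₀, ⊤), x₀ ∈ X₀.zeroLocus ({g} : Set Γ(X₀, ⊤)) ∧
      Meas f₀ x₀ (Z ∩ X₀.zeroLocus ({g} : Set Γ(X₀, ⊤))) d := by
  set S : Set X₀ := {z | z ∈ Z ∧ f₀ z = f₀ x₀ ∧ z ⤳ x₀ ∧
    td (f₀.residueFieldMap z).hom = ((d + 1 : ℕ) : Cardinal.{u})} with hS
  have htd0 : td (f₀.residueFieldMap x₀).hom = 0 := td_eq_zero_of_closed_in_fibre f₀ x₀ hcl₀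
  have hne : ∀ z ∈ S, ¬ x₀ ⤳ z := by
    rintro z ⟨-, hfz, -, htd⟩ hsp
    have : z = x₀ := hcl₀ z hfz hsp
    rw [this, htd0] at htd
    have h0 : ((0 : ℕ) : Cardinal.{u}) = ((d + 1 : ℕ) : Cardinal.{u}) := by
      rw [← htd]; simp
    exact absurd (Nat.cast_injective h0) (by omega)
  have hfin : S.Finite := by
    set Zc : TopologicalSpace.Closeds X₀ := ⟨Z, hZ⟩ with hZc
    set ι := (Scheme.IdealSheafData.vanishingIdeal Zc).subschemeι with hι
    have hr : Set.range ι = Z := by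
      rw [hι, Scheme.IdealSheafData.range_subschemeι,
        Scheme.IdealSheafData.coe_support_vanishingIdeal]
      rfl
    have hfm := finite_fibre_maximal (ι ≫ f₀) (f₀ x₀)
    apply (hfm.image ι).subset
    rintro z ⟨hzZ, hfz, hzx, htd⟩
    obtain ⟨w, rfl⟩ : z ∈ Set.range ι := by rw [hr]; exact hzZ
    refine ⟨w, ⟨hfz, ?_⟩, rfl⟩
    intro w' hfw' hcl
    have hsp : w' ⤳ w := specializes_iff_mem_closure.mpr hcl
    have hsp' : ι w' ⤳ ι w := hsp.map ι.continuous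
    have hw'Z : ι w' ∈ Z := by rw [← hr]; exact ⟨w', rfl⟩
    have hle := hm (ι w') hw'Z hfw' (hsp'.trans hzx)
    by_contra hne'
    have hne'' : ι w' ≠ ι w := fun h => hne' (ι.isEmbedding.injective h)
    have hlt : td (f₀.residueFieldMap (ι w)).hom < td (f₀.residueFieldMap (ι w')).hom :=
      Groth.Agent.S9381.result f₀ (ι w') (ι w) hsp' hne'' (hfw'.trans hfz.symm)
    rw [htd] at hlt
    exact absurd (hlt.trans_le hle) (lt_irrefl _)
  obtain ⟨g, hgx, hgS⟩ := exists_section_avoiding x₀ S hfin hne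
  refine ⟨g, hgx, ?_⟩
  rintro x' ⟨hx'Z, hx'g⟩ hfx' hx'x
  have hle := hm x' hx'Z hfx' hx'x
  obtain ⟨n, hn⟩ := exists_nat_td_residueFieldMap f₀ x'
  rw [hn] at hle ⊢
  have hle' : n ≤ d + 1 := by exact_mod_cast hle
  have hne1 : n ≠ d + 1 := by
    intro h
    apply hgS x' ⟨hx'Z, hfx', hx'x, by rw [hn, h]⟩ hx'g
  have : n ≤ d := by omega
  exact_mod_cast this

theorem cut_all {X₀ Y₀ : Scheme.{u}} [IsAffine X₀] (f₀ : X₀ ⟶ Y₀) [LocallyOfFiniteType f₀]
    [QuasiCompact f₀] (x₀ : X₀)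
    (hcl₀ : ∀ x' : X₀, f₀ x' = f₀ x₀ → x₀ ⤳ x' → x' = x₀) :
    ∀ (d : ℕ) (Z : Set X₀), IsClosed Z → Meas f₀ x₀ Z d →
      ∃ G : Fin d → Γ(X₀, ⊤), (∀ i, x₀ ∉ X₀.basicOpen (G i)) ∧
        Meas f₀ x₀ (Z ∩ {x | ∀ i, x ∉ X₀.basicOpen (G i)}) 0 := by
  intro d
  induction d with
  | zero =>
    intro Z _ hm
    refine ⟨Fin.elim0, fun i => i.elim0, ?_⟩
    intro x' hx' hfx' hsp
    exact hm x' hx'.1 hfx' hsp
  | succ d ih =>
    intro Z hZ hm
    obtain ⟨g, hgx, hm'⟩ := cut_step f₀ x₀ hcl₀ Z hZ d hm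
    obtain ⟨G', hG'x, hm''⟩ := ih (Z ∩ X₀.zeroLocus ({g} : Set Γ(X₀, ⊤)))
      (hZ.inter (X₀.zeroLocus_isClosed _)) hm'
    refine ⟨Fin.cons g G', ?_, ?_⟩
    · intro i
      refine Fin.cases ?_ (fun j => ?_) i
      · simpa using hgx
      · simpa using hG'x j
    · intro x' hx' hfx' hsp
      refine hm'' x' ⟨⟨hx'.1, ?_⟩, ?_⟩ hfx' hsp
      · have := hx'.2 0
        simpa using this
      · intro j
        have := hx'.2 j.succ
        simpa using this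

/-- the morphism to affine space given by sections cutting out `x₀` is quasi-finite at `x₀`. -/
theorem quasiFiniteAt_homOfVector {X₀ Y₀ : Scheme.{u}} (f₀ : X₀ ⟶ Y₀) [LocallyOfFiniteType f₀]
    (x₀ : X₀) (hcl₀ : ∀ x' : X₀, f₀ x' = f₀ x₀ → x₀ ⤳ x' → x' = x₀) {n : Type u}
    (v : n → Γ(X₀, ⊤)) (hvx : ∀ i, x₀ ∉ X₀.basicOpen (v i))
    (hm : Meas f₀ x₀ {x | ∀ i, x ∉ X₀.basicOpen (v i)} 0)
    [LocallyOfFiniteType (AffineSpace.homOfVector f₀ v)] :
    (AffineSpace.homOfVector f₀ v).QuasiFiniteAt x₀ := by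
  set π := AffineSpace.homOfVector f₀ v with hπ
  have hover : π ≫ (𝔸(n; Y₀) ↘ Y₀) = f₀ := AffineSpace.homOfVector_over f₀ v
  have hf : ∀ x' : X₀, π x' = π x₀ → f₀ x' = f₀ x₀ := by
    intro x' h
    rw [← hover, Scheme.Hom.comp_apply, Scheme.Hom.comp_apply, h]
  have hcoord : ∀ (x' : X₀) (i : n), x' ∈ X₀.basicOpen (v i) ↔
      π x' ∈ (𝔸(n; Y₀)).basicOpen (AffineSpace.coord Y₀ i) := by
    intro x' i
    have h1 := Scheme.preimage_basicOpen_top π (AffineSpace.coord Y₀ i)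
    rw [AffineSpace.homOfVector_appTop_coord] at h1
    rw [← h1]
    rfl
  apply quasiFiniteAt_of_forall_specializes π x₀
  · intro x' hπx' hsp
    have hx'Z : x' ∈ {x | ∀ i, x ∉ X₀.basicOpen (v i)} := by
      intro i hmem
      apply hvx i
      rw [hcoord] at hmem ⊢
      rwa [← hπx']
    have hle := hm x' hx'Z (hf x' hπx') hsp
    by_contra hne
    have hlt : td (f₀.residueFieldMap x₀).hom < td (f₀.residueFieldMap x').hom :=
      Groth.Agent.S9381.result f₀ x' x₀ hsp hne (hf x' hπx')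
    have : td (f₀.residueFieldMap x').hom = 0 := by
      apply le_antisymm _ zero_le
      exact_mod_cast hle
    rw [this] at hlt
    exact not_lt_zero hlt
  · intro x' hπx' hsp
    exact hcl₀ x' (hf x' hπx') hsp

end Groth.Agent.Lib.helper3.QFinAffineSpace
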