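import Groth.Agent.Lib.Helper3.QFinAffineSpace
/-!
# Helper library (helper3): existence of a locally quasi-finite morphism to affine space near a point
(= S7625, EGA IV 13.3.1.1 / Stacks 0CVI-type statement).
-/

set_option autoImplicit false
universe u
open CategoryTheory AlgebraicGeometry Function TopologicalSpace Topology

namespace Groth.Agent.Lib.helper3.QFinAffineSpace

open Groth.Agent.Lib.helper3.DimIneq Groth.Agent.Lib.helper3.FTField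
  Groth.Agent.Lib.helper3.FibreField Groth.Agent.Lib.helper3.DimFibre
  Groth.Agent.Lib.helper3.RelDim Groth.Agent.Lib.helper3.EquidimAt
  Groth.Agent.Lib.helper3.QFinTop Groth.Agent.Lib.helper3.EquidimIrr
  Groth.Agent.Lib.helper3.QuasiSection

theorem exists_qfin_affineSpace {X S : Scheme.{u}} (f : X ⟶ S) [LocallyOfFiniteType f] (x : ↥X)
    (V : S.Opens) (hV : IsAffineOpen V) (hxV : f x ∈ V) (d : ℕ)
    (hd : FlatMor.fibreDimAt f x ≤ (d : WithBot ℕ∞)) :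
    ∃ (U : X.Opens), IsAffineOpen U ∧ x ∈ U ∧
      ∃ (g : (U : Scheme.{u}) ⟶ (V : Scheme.{u}))
        (π : (U : Scheme.{u}) ⟶ 𝔸(ULift.{u} (Fin d); (V : Scheme.{u}))),
        g ≫ V.ι = U.ι ≫ f ∧ π ≫ (𝔸(ULift.{u} (Fin d); (V : Scheme.{u})) ↘ (V : Scheme.{u})) = g ∧
          LocallyQuasiFinite π ∧ LocallyOfFiniteType π := by
  set W : X.Opens := ⟨{z | FlatMor.fibreDimAt f z ≤ (d : WithBot ℕ∞)}, Groth.Agent.S0402.result f d⟩ ⊓
    f ⁻¹ᵁ V with hW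
  have hxW : x ∈ W := ⟨hd, hxV⟩
  set h := W.ι ≫ f with hh
  obtain ⟨w₀, hsp, hfw, hcl⟩ := exists_closed_in_fibre h ⟨x, hxW⟩
  set x₀ : X := W.ι w₀ with hx₀
  have hx₀W : x₀ ∈ W := w₀.2
  obtain ⟨U₀, hU₀, hx₀U₀, hU₀W⟩ := exists_isAffineOpen_mem_and_subset (x := x₀) (U := W) hx₀W
  have hxx₀ : x ⤳ x₀ := hsp.map W.ι.continuous
  have hxU₀ : x ∈ U₀ := hxx₀.mem_open U₀.2 hx₀U₀
  have hrange : Set.range (U₀.ι ≫ f) ⊆ Set.range V.ι := by
    rintro _ ⟨u, rfl⟩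
    rw [Scheme.Opens.range_ι]
    exact (hU₀W u.2).2
  set f₀ : (U₀ : Scheme.{u}) ⟶ (V : Scheme.{u}) := IsOpenImmersion.lift V.ι (U₀.ι ≫ f) hrange with hf₀def
  have hf₀ : f₀ ≫ V.ι = U₀.ι ≫ f := IsOpenImmersion.lift_fac _ _ _
  haveI : IsAffine (U₀ : Scheme.{u}) := hU₀
  haveI : IsAffine (V : Scheme.{u}) := hV
  haveI : LocallyOfFiniteType (f₀ ≫ V.ι) := by rw [hf₀]; infer_instance
  haveI : LocallyOfFiniteType f₀ := locallyOfFiniteType_of_comp f₀ V.ι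
  haveI : QuasiCompact f₀ := inferInstance
  set x₀' : (U₀ : Scheme.{u}) := ⟨x₀, hx₀U₀⟩ with hx₀'
  have hfapp : ∀ u : (U₀ : Scheme.{u}), V.ι (f₀ u) = f (U₀.ι u) := by
    intro u
    rw [← Scheme.Hom.comp_apply, hf₀, Scheme.Hom.comp_apply]
  have hcl₀ : ∀ x' : (U₀ : Scheme.{u}), f₀ x' = f₀ x₀' → x₀' ⤳ x' → x' = x₀' := by
    intro x' hfx' hspx'
    set w' : (W : Scheme.{u}) := ⟨U₀.ι x', hU₀W x'.2⟩ with hw'
    have h1 : h w' = h ⟨x, hxW⟩ := by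
      rw [← hfw]
      change f (U₀.ι x') = f x₀
      rw [← hfapp x', hfx', hfapp x₀']
      rfl
    have h2 : w₀ ⤳ w' := by
      rw [← W.ι.isEmbedding.isInducing.specializes_iff]
      exact hspx'.map U₀.ι.continuous
    have h3 := hcl w' h1 h2
    apply Subtype.ext
    have := congrArg (fun w : (W : Scheme.{u}) => W.ι w) h3
    exact this
  have hfd₀ : FlatMor.fibreDimAt f₀ x₀' ≤ (d : WithBot ℕ∞) := by
    rw [Groth.Agent.Lib.helper5.FibreDimLocal.fibreDimAt_eq_of_comm U₀.ι V.ι f₀ f hf₀.symm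
      U₀.ι.isOpenEmbedding V.ι.isOpenEmbedding.injective x₀']
    exact hx₀W.1
  have hm : Meas f₀ x₀' Set.univ d := fun x' _ hfx' hspx' =>
    (fibreDimAt_le_iff f₀ x₀' d).mp hfd₀ x' hspx' hfx'
  obtain ⟨G, hGx, hm0⟩ := cut_all f₀ x₀' hcl₀ d Set.univ isClosed_univ hm
  set v : ULift.{u} (Fin d) → Γ((U₀ : Scheme.{u}), ⊤) := fun i => G i.down with hv
  set π₀ := AffineSpace.homOfVector f₀ v with hπ₀
  have hover : π₀ ≫ (𝔸(ULift.{u} (Fin d); (V : Scheme.{u})) ↘ (V : Scheme.{u})) = f₀ :=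
    AffineSpace.homOfVector_over f₀ v
  haveI : LocallyOfFiniteType (π₀ ≫ (𝔸(ULift.{u} (Fin d); (V : Scheme.{u})) ↘ (V : Scheme.{u}))) := by
    rw [hover]; infer_instance
  haveI : LocallyOfFiniteType π₀ := locallyOfFiniteType_of_comp π₀ (𝔸(ULift.{u} (Fin d); (V : Scheme.{u})) ↘ (V : Scheme.{u}))
  have hq : π₀.QuasiFiniteAt x₀' := by
    apply quasiFiniteAt_homOfVector f₀ x₀' hcl₀ v (fun i => hGx i.down)
    intro x' hx' hfx' hspx'
    exact hm0 x' ⟨trivial, fun i => hx' ⟨i⟩⟩ hfx' hspx'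
  set L := π₀.quasiFiniteLocus with hL
  have hx₀L : x₀' ∈ L := hq
  have hxL : (⟨x, hxU₀⟩ : (U₀ : Scheme.{u})) ∈ L := by
    have hsp' : (⟨x, hxU₀⟩ : (U₀ : Scheme.{u})) ⤳ x₀' := by
      apply (U₀.ι.isEmbedding.isInducing.specializes_iff).mp
      exact hxx₀
    exact hsp'.mem_open L.2 hx₀L
  have hxim : x ∈ U₀.ι ''ᵁ L := ⟨⟨x, hxU₀⟩, hxL, rfl⟩
  obtain ⟨U, hU, hxU, hUL⟩ := exists_isAffineOpen_mem_and_subset (x := x) (U := U₀.ι ''ᵁ L) hxim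
  have hUU₀ : U ≤ U₀ := by
    intro u hu
    obtain ⟨u₀, -, rfl⟩ := hUL hu
    exact u₀.2
  set j := X.homOfLE hUU₀ with hj
  have hjι : j ≫ U₀.ι = U.ι := X.homOfLE_ι hUU₀
  refine ⟨U, hU, hxU, j ≫ f₀, j ≫ π₀, ?_, ?_, ?_, inferInstance⟩
  · rw [Category.assoc, hf₀, ← Category.assoc, hjι]
  · rw [Category.assoc, hover]
  · rw [← Scheme.Hom.quasiFiniteLocus_eq_top_iff, Scheme.Hom.quasiFiniteLocus_comp]
    apply top_le_iff.mp
    intro u _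
    change j u ∈ L
    obtain ⟨u₀, hu₀L, hu₀⟩ := hUL u.2
    have : j u = u₀ := by
      apply U₀.ι.isEmbedding.injective
      have h1 : U₀.ι (j u) = U.ι u := by rw [← Scheme.Hom.comp_apply, hjι]
      rw [h1]
      exact hu₀.symm
    rw [this]; exact hu₀L

end Groth.Agent.Lib.helper3.QFinAffineSpace
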