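import Mathlib
import Groth.Agent.Lib.Helper3.QFinAlgAt
import Groth.Agent.Lib.Helper3.QFinClosedRing

/-!
# Quasi-finite quotients of essentially finite type local algebras (helper3)
-/

set_option autoImplicit false
universe u
open IsLocalRing

namespace Groth.Agent.Lib.helper3.QFinLocalRing

section

variable {A D : Type u} [CommRing A] [CommRing D] [IsLocalRing A] [IsLocalRing D]
  [Algebra A D] [IsLocalHom (algebraMap A D)] [Algebra.EssFiniteType A D]

/-- a local, essentially finite type `A`-algebra with algebraic residue field extension whose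
closed fibre is a single point is quasi-finite. -/
theorem quasiFinite_of_isLocalRing
    [Algebra.IsAlgebraic (ResidueField A) (ResidueField D)]
    (huniq : ∀ t : Ideal D, t.IsPrime → (maximalIdeal A).map (algebraMap A D) ≤ t →
      t = maximalIdeal D) :
    Algebra.QuasiFinite A D := by
  set C := Algebra.EssFiniteType.subalgebra A D with hC
  set M := Algebra.EssFiniteType.submonoid A D with hM
  haveI : IsLocalization M D := Algebra.EssFiniteType.isLocalization A D
  set ψ : C →+* ResidueField D := (residue D).comp (algebraMap C D) with hψ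
  set n : Ideal C := (maximalIdeal D).comap (algebraMap C D) with hn
  haveI hnprime : n.IsPrime := Ideal.comap_isPrime _ _
  have hker : RingHom.ker ψ = n := by
    rw [hψ, ← RingHom.comap_ker, ker_residue]
  have hMn : M = n.primeCompl := by
    ext c
    change IsUnit (algebraMap C D c) ↔ c ∉ n
    rw [hn, Ideal.mem_comap, ← IsLocalRing.notMem_maximalIdeal]
  haveI : IsLocalization.AtPrime D n := by
    change IsLocalization n.primeCompl D
    rw [← hMn]; infer_instance
  have hnA : n.comap (algebraMap A C) = maximalIdeal A := by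
    rw [hn, Ideal.comap_comap, ← IsScalarTower.algebraMap_eq]
    exact IsLocalRing.maximalIdeal_comap (algebraMap A D)
  -- `n` is maximal
  have hnmax : n.IsMaximal := by
    let Sub : Subalgebra (ResidueField A) (ResidueField D) :=
      { ψ.range with
        algebraMap_mem' := by
          intro x
          obtain ⟨a, rfl⟩ := residue_surjective x
          refine ⟨algebraMap A C a, ?_⟩
          change residue D (algebraMap C D (algebraMap A C a)) = _
          rw [← IsScalarTower.algebraMap_apply]
          rfl }
    have hfield : IsField Sub := Subalgebra.isField_of_algebraic Sub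
    have hfield' : IsField ψ.range := hfield
    have e := RingHom.quotientKerEquivRange ψ
    have h3 : IsField (C ⧸ RingHom.ker ψ) := e.toMulEquiv.isField hfield'
    rw [hker] at h3
    exact Ideal.Quotient.maximal_of_isField n h3
  have hqf : Algebra.QuasiFiniteAt A n := by
    refine QFinAlgAt.quasiFiniteAt_of_forall_le n ?_ ?_
    · intro n' hn' hle hcomap
      haveI := hn'
      have hdisj : Disjoint (n.primeCompl : Set C) (n' : Set C) := by
        rw [Set.disjoint_left]
        intro c hc hc'
        exact hc (hle hc')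
      have htprime : (n'.map (algebraMap C D)).IsPrime :=
        IsLocalization.isPrime_of_isPrime_disjoint n.primeCompl D n' hn' hdisj
      have htcomap : (n'.map (algebraMap C D)).comap (algebraMap C D) = n' :=
        IsLocalization.under_map_of_isPrime_disjoint n.primeCompl D hn' hdisj
      have hmA : (maximalIdeal A).map (algebraMap A D) ≤ n'.map (algebraMap C D) := by
        rw [IsScalarTower.algebraMap_eq A C D, ← Ideal.map_map]
        apply Ideal.map_mono
        rw [Ideal.map_le_iff_le_comap, hcomap, hnA]
      have := huniq _ htprime hmA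
      rw [← htcomap, this]
    · intro n' hn' hle _
      exact (hnmax.eq_of_le hn'.ne_top hle).symm
  have hqf' : Algebra.QuasiFinite A (Localization.AtPrime n) := hqf
  let e : Localization.AtPrime n ≃ₐ[C] D := IsLocalization.algEquiv n.primeCompl _ _
  exact Algebra.QuasiFinite.of_surjective_algHom (e.restrictScalars A).toAlgHom
    (e.restrictScalars A).surjective

end

section

variable {A B : Type u} [CommRing A] [CommRing B] [IsLocalRing A] [IsLocalRing B]
  [IsNoetherianRing A] [Algebra A B] [IsLocalHom (algebraMap A B)] [Algebra.EssFiniteType A B]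
  [Module.Finite (ResidueField A) (ResidueField B)]

/-- = S1394. -/
theorem exists_prime_quasiFinite
    (V : Set (PrimeSpectrum B)) (hV : IsOpen V)
    (hne : ∃ q ∈ V, q.asIdeal.comap (algebraMap A B) ≠ maximalIdeal A) :
    ∃ q ∈ V, q.asIdeal.comap (algebraMap A B) ≠ maximalIdeal A ∧
      Algebra.QuasiFinite A (B ⧸ q.asIdeal) := by
  haveI : IsNoetherianRing B := Algebra.EssFiniteType.isNoetherianRing A B
  set I : Ideal B := (maximalIdeal A).map (algebraMap A B) with hI
  set J : Ideal B := PrimeSpectrum.vanishingIdeal Vᶜ with hJ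
  have hIiff : ∀ q : Ideal B, q.IsPrime →
      (I ≤ q ↔ q.comap (algebraMap A B) = maximalIdeal A) := by
    intro q hq
    constructor
    · intro h
      refine le_antisymm (IsLocalRing.le_maximalIdeal (Ideal.comap_ne_top _ hq.ne_top)) ?_
      rwa [← Ideal.map_le_iff_le_comap]
    · intro h
      rw [hI, Ideal.map_le_iff_le_comap, h]
  have hJiff : ∀ q : PrimeSpectrum B, (J ≤ q.asIdeal ↔ q ∉ V) := by
    intro q
    have h0 : PrimeSpectrum.zeroLocus (J : Set B) = Vᶜ := by
      rw [hJ, PrimeSpectrum.zeroLocus_vanishingIdeal_eq_closure]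
      exact hV.isClosed_compl.closure_eq
    have h1 : q ∈ PrimeSpectrum.zeroLocus (J : Set B) ↔ q ∉ V := by
      rw [h0]; rfl
    rw [← h1, PrimeSpectrum.mem_zeroLocus, SetLike.coe_subset_coe]
  set 𝒮 : Set (Ideal B) := {P | P.IsPrime ∧ ¬ I ≤ P ∧ ¬ J ≤ P} with h𝒮
  have hne' : 𝒮.Nonempty := by
    obtain ⟨q, hqV, hq⟩ := hne
    refine ⟨q.asIdeal, q.isPrime, ?_, ?_⟩
    · intro h; exact hq ((hIiff _ q.isPrime).mp h)
    · intro h; exact (hJiff q).mp h hqV
  obtain ⟨P, ⟨hPprime, hIP, hJP⟩, hPmax⟩ :=
    (set_has_maximal_iff_noetherian (R := B) (M := B)).mpr inferInstance 𝒮 hne'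
  haveI := hPprime
  refine ⟨⟨P, hPprime⟩, ?_, ?_, ?_⟩
  · by_contra hnot
    exact hJP ((hJiff ⟨P, hPprime⟩).mpr hnot)
  · intro h
    exact hIP ((hIiff P hPprime).mpr h)
  · change Algebra.QuasiFinite A (B ⧸ P)
    have hsurj : Function.Surjective (Ideal.Quotient.mk P) := Ideal.Quotient.mk_surjective
    haveI : IsLocalRing (B ⧸ P) := IsLocalRing.of_surjective' (Ideal.Quotient.mk P) hsurj
    haveI hloc1 : IsLocalHom (Ideal.Quotient.mk P) := IsLocalHom.of_surjective _ hsurj
    haveI : IsLocalHom (algebraMap A (B ⧸ P)) := by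
      have : algebraMap A (B ⧸ P) = (Ideal.Quotient.mk P).comp (algebraMap A B) := rfl
      rw [this]
      exact RingHom.isLocalHom_comp _ _
    haveI hlocalg : IsLocalHom (Ideal.Quotient.mkₐ A P) :=
      ⟨fun a ha => hloc1.map_nonunit a ha⟩
    haveI : Module.Finite (ResidueField A) (ResidueField (B ⧸ P)) := by
      refine Module.Finite.of_surjective
        (ResidueField.mapAlgHom' (Ideal.Quotient.mkₐ A P)).toLinearMap ?_
      intro x
      obtain ⟨d, rfl⟩ := residue_surjective x
      obtain ⟨b, rfl⟩ := hsurj d
      exact ⟨residue B b, rfl⟩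
    haveI : Algebra.IsAlgebraic (ResidueField A) (ResidueField (B ⧸ P)) :=
      Algebra.IsAlgebraic.of_finite _ _
    refine quasiFinite_of_isLocalRing ?_
    intro t ht hmt
    haveI := ht
    set t' : Ideal B := t.comap (Ideal.Quotient.mk P) with ht'
    haveI ht'prime : t'.IsPrime := Ideal.comap_isPrime _ _
    have hPt' : P ≤ t' := by
      intro b hb
      rw [ht', Ideal.mem_comap, Ideal.Quotient.eq_zero_iff_mem.mpr hb]
      exact t.zero_mem
    have hIt' : I ≤ t' := by
      rw [hI, Ideal.map_le_iff_le_comap, ht', Ideal.comap_comap]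
      rw [Ideal.map_le_iff_le_comap] at hmt
      exact hmt
    have ht'M : t' ≤ maximalIdeal B := IsLocalRing.le_maximalIdeal ht'prime.ne_top
    have ht'eq : t' = maximalIdeal B := by
      by_contra hne2
      obtain ⟨P', hP'prime, hPP', hP'ne, -, hIP', hJP'⟩ :=
        QFinClosed.exists_prime_between P (maximalIdeal B) I J hIP hJP t' hPt' ht'M hne2 hIt'
      exact hPmax P' ⟨hP'prime, hIP', hJP'⟩ (lt_of_le_of_ne hPP' (Ne.symm hP'ne))
    refine le_antisymm (IsLocalRing.le_maximalIdeal ht.ne_top) ?_
    intro d hd
    obtain ⟨b, rfl⟩ := hsurj d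
    have hb : b ∈ maximalIdeal B := by
      rw [IsLocalRing.mem_maximalIdeal, mem_nonunits_iff] at hd ⊢
      intro hu
      exact hd (hu.map _)
    rw [← ht'eq] at hb
    exact hb

end

end Groth.Agent.Lib.helper3.QFinLocalRing
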