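import Mathlib
import Groth.Agent.Lib.Helper3.FibreRingBridge
import Groth.Agent.Lib.Helper3.QFinAffineSpace2

/-!
# Quasi-finite maps from polynomial rings, ring version (helper3)
-/

set_option autoImplicit false
universe u
open CategoryTheory AlgebraicGeometry CategoryTheory.Limits TensorProduct

namespace Groth.Agent.Lib.helper3.QFinRing

open Groth.Agent.Lib.helper3 Groth.Agent.Lib.helper3.FibreRingBridge

variable (R S : Type u) [CommRing R] [CommRing S] [Algebra R S]

theorem exists_quasiFinite_mvPolynomial_away_aux [Algebra.FiniteType R S] (q : PrimeSpectrum S)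
    (n : ℕ) (hdim : FlatMor.fibreDimAt (Spec.map (CommRingCat.ofHom (algebraMap R S))) q = n) :
    ∃ g : S, g ∉ q.asIdeal ∧ ∃ φ : MvPolynomial (Fin n) R →ₐ[R] Localization.Away g,
      φ.toRingHom.FiniteType ∧ φ.toRingHom.QuasiFinite := by
  set f := Spec.map (CommRingCat.ofHom (algebraMap R S)) with hf
  haveI : LocallyOfFiniteType f := by
    rw [HasRingHomProperty.Spec_iff (P := @LocallyOfFiniteType)]
    change (algebraMap R S).FiniteType
    rw [RingHom.finiteType_algebraMap]
    infer_instance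
  obtain ⟨U, hU, hxU, g', π, hg', hπ, hlqf, hlft⟩ :=
    QFinAffineSpace.exists_qfin_affineSpace f q ⊤ (isAffineOpen_top _) trivial n hdim.le
  -- a basic open inside `U`
  obtain ⟨_, ⟨g, rfl⟩, hqg, hgU⟩ := TopologicalSpace.Opens.isBasis_iff_nbhd.mp
    PrimeSpectrum.isBasis_basic_opens (U := (U : TopologicalSpace.Opens (PrimeSpectrum S)))
    (x := q) hxU
  refine ⟨g, fun h => hqg h, ?_⟩
  set ι₀ : Spec (CommRingCat.of (Localization.Away g)) ⟶ Spec (CommRingCat.of S) :=
    Spec.map (CommRingCat.ofHom (algebraMap S (Localization.Away g))) with hι₀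
  have hrange : Set.range ι₀ ⊆ Set.range U.ι := by
    rw [Scheme.Opens.range_ι]
    have h1 : Set.range ι₀ = (PrimeSpectrum.basicOpen g : Set (PrimeSpectrum S)) :=
      PrimeSpectrum.localization_away_comap_range (Localization.Away g) g
    rw [h1]
    exact hgU
  set j : Spec (CommRingCat.of (Localization.Away g)) ⟶ (U : Scheme.{u}) :=
    IsOpenImmersion.lift U.ι ι₀ hrange with hj
  have hjι : j ≫ U.ι = ι₀ := IsOpenImmersion.lift_fac _ _ _
  haveI : IsOpenImmersion (j ≫ U.ι) := by rw [hjι]; infer_instance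
  haveI : IsOpenImmersion j := IsOpenImmersion.of_comp j U.ι
  haveI hisoι : IsIso (⊤ : (Spec (CommRingCat.of R)).Opens).ι := by
    rw [← Scheme.topIso_hom]; infer_instance
  haveI : IsIso (AffineSpace.map (ULift.{u} (Fin n)) (⊤ : (Spec (CommRingCat.of R)).Opens).ι) :=
    ((AffineSpace.functor.obj (Opposite.op (ULift.{u} (Fin n)))).mapIso
      (asIso (⊤ : (Spec (CommRingCat.of R)).Opens).ι)).isIso_hom
  set π₂ : Spec (CommRingCat.of (Localization.Away g)) ⟶
      Spec (CommRingCat.of (MvPolynomial (ULift.{u} (Fin n)) R)) :=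
    j ≫ π ≫ AffineSpace.map (ULift.{u} (Fin n)) (⊤ : (Spec (CommRingCat.of R)).Opens).ι ≫
      (AffineSpace.SpecIso (ULift.{u} (Fin n)) (CommRingCat.of R)).hom with hπ₂
  haveI : LocallyQuasiFinite π₂ := by rw [hπ₂]; infer_instance
  obtain ⟨ψ, hψ⟩ := Spec.map_surjective π₂
  have hψqf : ψ.hom.QuasiFinite := by
    have h1 : LocallyQuasiFinite (Spec.map ψ) := by rw [hψ]; infer_instance
    rwa [HasRingHomProperty.Spec_iff (P := @LocallyQuasiFinite)] at h1
  have hover : π₂ ≫ Spec.map (CommRingCat.ofHom (MvPolynomial.C : R →+* MvPolynomial (ULift.{u} (Fin n)) R)) = ι₀ ≫ f := by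
    have h1 : (AffineSpace.SpecIso (ULift.{u} (Fin n)) (CommRingCat.of R)).hom ≫
        Spec.map (CommRingCat.ofHom (MvPolynomial.C : R →+* MvPolynomial (ULift.{u} (Fin n)) R)) =
        (𝔸(ULift.{u} (Fin n); Spec (CommRingCat.of R)) ↘ Spec (CommRingCat.of R)) := by
      have h0 := AffineSpace.SpecIso_inv_over (n := ULift.{u} (Fin n)) (CommRingCat.of R)
      rw [← Iso.eq_inv_comp] 
      exact h0.symm
    rw [hπ₂, Category.assoc, Category.assoc, Category.assoc, h1, AffineSpace.map_over,
      ← Category.assoc π, hπ, hg', ← Category.assoc, hjι]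
  have hC : ψ.hom.comp (MvPolynomial.C : R →+* MvPolynomial (ULift.{u} (Fin n)) R) = algebraMap R (Localization.Away g) := by
    have h2 : Spec.map (CommRingCat.ofHom (MvPolynomial.C : R →+* MvPolynomial (ULift.{u} (Fin n)) R) ≫ ψ) =
        Spec.map (CommRingCat.ofHom (algebraMap R S) ≫
          CommRingCat.ofHom (algebraMap S (Localization.Away g))) := by
      rw [Spec.map_comp, Spec.map_comp, hψ, hover]
    have h3 := congrArg CommRingCat.Hom.hom (Spec.map_injective h2)
    rw [CommRingCat.hom_comp, CommRingCat.hom_comp] at h3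
    rw [IsScalarTower.algebraMap_eq R S (Localization.Away g)]
    exact h3
  let ρ : MvPolynomial (Fin n) R ≃ₐ[R] MvPolynomial (ULift.{u} (Fin n)) R :=
    MvPolynomial.renameEquiv R Equiv.ulift.symm
  let φ : MvPolynomial (Fin n) R →ₐ[R] Localization.Away g :=
    { toRingHom := ψ.hom.comp ρ.toAlgHom.toRingHom
      commutes' := fun r => by
        change ψ.hom (ρ (algebraMap R _ r)) = _
        rw [ρ.commutes]
        exact congrArg (fun h : R →+* Localization.Away g => h r) hC }
  refine ⟨φ, ?_, ?_⟩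
  · haveI : Algebra.FiniteType S (Localization.Away g) :=
      IsLocalization.finiteType_of_monoid_fg (Submonoid.powers g) _
    haveI : Algebra.FiniteType R (Localization.Away g) :=
      Algebra.FiniteType.trans (S := S) inferInstance inferInstance
    have h1 : (φ.toRingHom.comp (algebraMap R (MvPolynomial (Fin n) R))).FiniteType := by
      rw [AlgHom.toRingHom_eq_coe, φ.comp_algebraMap, RingHom.finiteType_algebraMap]
      infer_instance
    exact RingHom.FiniteType.of_comp_finiteType h1
  · exact RingHom.QuasiFinite.respectsIso.2 ψ.hom ρ.toRingEquiv hψqf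

theorem exists_quasiFinite_mvPolynomial_away [Algebra.FiniteType R S] (p : Ideal R) [p.IsPrime]
    (q : Ideal S) [q.IsPrime] [q.LiesOver p] (Q : PrimeSpectrum (p.Fiber S))
    (hQ : Q.asIdeal.comap (Algebra.TensorProduct.includeRight.toRingHom) = q) (n : ℕ)
    (hdim : FlatMor.localDim (PrimeSpectrum (p.Fiber S)) Q = (n : WithBot ℕ∞)) :
    ∃ g : S, g ∉ q ∧ ∃ φ : MvPolynomial (Fin n) R →ₐ[R] Localization.Away g,
      φ.toRingHom.FiniteType ∧ φ.toRingHom.QuasiFinite := by
  obtain rfl : p = q.under R := Ideal.over_def q p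
  set q' : PrimeSpectrum S := ⟨q, inferInstance⟩ with hq'
  have h1 : Q = fibrePoint R S q' := eq_fibrePoint R S q' Q hQ
  have h2 : FlatMor.fibreDimAt (Spec.map (CommRingCat.ofHom (algebraMap R S))) q' = n := by
    rw [← localDim_fibrePoint, ← h1]
    exact hdim
  exact exists_quasiFinite_mvPolynomial_away_aux R S q' n h2

end Groth.Agent.Lib.helper3.QFinRing
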