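import Mathlib
import Groth.Agent.S2493
import Groth.Agent.S2495
import Groth.Agent.S3398
import Groth.Agent.S15542
import Groth.Agent.Lib.Helper9.ProConsMore

/-!
# Descent of locally closed pro-constructible subsets along quasi-flat surjective quasi-compact
morphisms (helper3; = S4648)
-/

set_option autoImplicit false
universe u
open CategoryTheory AlgebraicGeometry TopologicalSpace Topology Function

namespace Groth.Agent.Lib.helper3.QuasiFlatLC

theorem preimage_closure_of_isProConstructible {X Y : Scheme.{u}} (f : X ⟶ Y)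
    (hf : FDesc.IsQuasiFlat f) (Z : Set ↥Y) (hZ : ProCons.IsProConstructible Z) :
    f.base ⁻¹' closure Z = closure (f.base ⁻¹' Z) := by
  apply subset_antisymm
  · intro x hx
    obtain ⟨y', hy'Z, hy'⟩ :=
      (Groth.Agent.Lib.helper9.mem_closure_iff_of_isProConstructible hZ (f.base x)).mp hx
    obtain ⟨x', hx'x, hx'⟩ := Groth.Agent.S2493.result f hf hy'
    refine hx'x.mem_closed isClosed_closure (subset_closure ?_)
    change f.base x' ∈ Z
    rw [hx']
    exact hy'Z
  · exact closure_minimal (Set.preimage_mono subset_closure)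
      (isClosed_closure.preimage f.continuous)

theorem main {X Y : Scheme.{u}} (f : X ⟶ Y)
    (hf : FDesc.IsQuasiFlat f) [AlgebraicGeometry.Surjective f] [QuasiCompact f] (Z : Set ↥Y) :
    (IsLocallyClosed Z ∧ ProCons.IsProConstructible Z) ↔
      (IsLocallyClosed (⇑f ⁻¹' Z) ∧ ProCons.IsProConstructible (⇑f ⁻¹' Z)) := by
  constructor
  · rintro ⟨h1, h2⟩
    exact ⟨h1.preimage f.continuous, Groth.Agent.S15542.result f Z h2⟩
  · rintro ⟨h1, h2⟩
    have hZeq : f.base '' (f.base ⁻¹' Z) = Z := Set.image_preimage_eq Z f.surjective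
    have hZpc : ProCons.IsProConstructible Z := by
      rw [← hZeq]
      exact Groth.Agent.S3398.result f _ h2
    refine ⟨?_, hZpc⟩
    have hq : Topology.IsQuotientMap f.base := Groth.Agent.S2495.result f hf
    rw [isLocallyClosed_iff_isOpen_coborder, ← hq.isOpen_preimage]
    have hcl := preimage_closure_of_isProConstructible f hf Z hZpc
    have : f.base ⁻¹' coborder Z = coborder (f.base ⁻¹' Z) := by
      simp only [coborder, Set.preimage_compl, Set.preimage_sdiff, hcl]
    rw [this]
    exact h1.isOpen_coborder

end Groth.Agent.Lib.helper3.QuasiFlatLC
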