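import Mathlib
import Groth.Prelude.Def_EGA43
import Groth.Agent.Lib.Helper3.QuasiSection
import Groth.Agent.Lib.Helper3.HensFinite
/-!
# Helper library (helper3): EGA IV 14.5.x — quasi-sections over a complete local domain.
-/

set_option autoImplicit false
universe u
open CategoryTheory AlgebraicGeometry Function TopologicalSpace Topology IsLocalRing

namespace Groth.Agent.Lib.helper3.QuasiSection

open Groth.Agent.Lib.helper3.HensFinite

/-- an integral affine scheme, quasi-finite and dominant over the spectrum of a henselian local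
domain, with a point over the closed point, is the spectrum of a finite local domain. -/
theorem affine_quasiFinite_over_henselian {A : Type u} [CommRing A] [IsDomain A]
    [HenselianLocalRing A] {T : Scheme.{u}} [IsIntegral T] [IsAffine T]
    (g : T ⟶ Spec (CommRingCat.of A)) [LocallyOfFiniteType g] [LocallyQuasiFinite g]
    [IsDominant g] (t₀ : T) (ht₀ : g t₀ = closedPoint A) :
    ∃ φ : CommRingCat.of A ⟶ Γ(T, ⊤), T.isoSpec.inv ≫ g = Spec.map φ ∧
      Injective φ.hom ∧
      (letI := φ.hom.toAlgebra; Module.Finite A Γ(T, ⊤)) ∧ IsLocalRing Γ(T, ⊤) := by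
  set φ : CommRingCat.of A ⟶ Γ(T, ⊤) := (Scheme.ΓSpecIso (CommRingCat.of A)).inv ≫ g.appTop
    with hφ
  have hg : T.isoSpec.inv ≫ g = Spec.map φ := by
    rw [Iso.inv_comp_eq, Scheme.isoSpec_hom, hφ, Spec.map_comp, ← Category.assoc,
      ← Scheme.toSpecΓ_naturality, Category.assoc, ← SpecMap_ΓSpecIso_hom, ← Spec.map_comp,
      Iso.inv_hom_id, Spec.map_id, Category.comp_id]
  haveI hlft : LocallyOfFiniteType (Spec.map φ) := by rw [← hg]; infer_instance
  haveI hlqf : LocallyQuasiFinite (Spec.map φ) := by rw [← hg]; infer_instance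
  haveI hdom : IsDominant (Spec.map φ) := by rw [← hg]; infer_instance
  have hft : φ.hom.FiniteType := (HasRingHomProperty.Spec_iff (P := @LocallyOfFiniteType)).mp hlft
  have hqf : φ.hom.QuasiFinite := (HasRingHomProperty.Spec_iff (P := @LocallyQuasiFinite)).mp hlqf
  letI := φ.hom.toAlgebra
  haveI : Algebra.FiniteType A Γ(T, ⊤) := hft
  haveI : Algebra.QuasiFinite A Γ(T, ⊤) := hqf
  -- injectivity
  have hinj : Injective φ.hom := by
    have h1 : DenseRange (PrimeSpectrum.comap φ.hom) := hdom.denseRange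
    rw [PrimeSpectrum.denseRange_comap_iff_ker_le_nilRadical, nilradical_eq_zero, ] at h1
    exact (RingHom.injective_iff_ker_eq_bot _).mpr (le_bot_iff.mp h1)
  -- the prime
  set q : PrimeSpectrum Γ(T, ⊤) := T.isoSpec.hom t₀ with hq
  have hqlies : (Spec.map φ) q = closedPoint A := by
    rw [← hg, hq]
    have : (T.isoSpec.inv ≫ g) (T.isoSpec.hom t₀) = g t₀ := by
      have h2 : (T.isoSpec.hom ≫ T.isoSpec.inv ≫ g) t₀ = g t₀ := by rw [Iso.hom_inv_id_assoc]
      exact h2
    rw [this, ht₀]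
  haveI : q.asIdeal.LiesOver (maximalIdeal A) := by
    refine ⟨?_⟩
    have := congrArg PrimeSpectrum.asIdeal hqlies
    exact this.symm
  haveI : IsDomain Γ(T, ⊤) := inferInstance
  haveI hfin : Module.Finite A Γ(T, ⊤) := finite_of_quasiFiniteAt A Γ(T, ⊤) q.asIdeal
  exact ⟨φ, hg, hinj, hfin, isLocalRing_of_finite A Γ(T, ⊤)⟩


/-- EGA IV 14.5.x (= S4974). -/
theorem quasiSection_complete {A : Type u} [CommRing A] [IsDomain A]
    [IsNoetherianRing A] [IsLocalRing A] [IsAdicComplete (IsLocalRing.maximalIdeal A) A] {X : Scheme.{u}}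
    (f : X ⟶ Spec (CommRingCat.of A)) [LocallyOfFiniteType f] (x : X) (hx : f.base x = IsLocalRing.closedPoint A)
    (hf : EGA43.IsEquidimAt f x) (hcl : ∀ x' : X, f.base x' = f.base x → x ⤳ x' → x' = x) :
    ∃ (A' : Type u) (_ : CommRing A') (_ : IsDomain A') (_ : IsLocalRing A') (_ : Algebra A A') (_ : Module.Finite A A'),
      Function.Injective (algebraMap A A') ∧
      ∃ h : Spec (CommRingCat.of A') ⟶ X, h ≫ f = Spec.map (CommRingCat.ofHom (algebraMap A A')) ∧
        IsImmersion h ∧ x ∈ Set.range h.base := by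
  haveI : HenselianLocalRing A := henselianLocalRing_of_isAdicComplete A
  obtain ⟨T₀, i, hi, hirr, hred, ⟨t₀, ht₀⟩, hlft, hlqf, hqc, hdom⟩ := hasQuasiSection f x hf hcl
  obtain ⟨W, hW, ht₀W, -⟩ := exists_isAffineOpen_mem_and_subset (x := t₀) (U := ⊤) trivial
  haveI : IsAffine W.toScheme := hW
  haveI : IrreducibleSpace ↥W := irreducibleSpace_opens W t₀ ht₀W
  haveI : IrreducibleSpace ↥W.toScheme := ‹IrreducibleSpace ↥W›
  haveI : IsIntegral W.toScheme := isIntegral_of_irreducibleSpace_of_isReduced _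
  haveI : IsDominant W.ι := by
    refine ⟨?_⟩
    rw [DenseRange, Scheme.Opens.range_ι]
    exact W.isOpen.dense ⟨t₀, ht₀W⟩
  haveI : LocallyOfFiniteType (W.ι ≫ i ≫ f) := inferInstance
  haveI : LocallyQuasiFinite (W.ι ≫ i ≫ f) := inferInstance
  haveI : IsDominant (W.ι ≫ i ≫ f) := inferInstance
  have hgt : (W.ι ≫ i ≫ f) ⟨t₀, ht₀W⟩ = closedPoint A := by
    change f (i t₀) = _
    have : i t₀ = x := ht₀
    rw [this]; exact hx
  obtain ⟨φ, hg, hinj, hfin, hloc⟩ :=
    affine_quasiFinite_over_henselian (W.ι ≫ i ≫ f) ⟨t₀, ht₀W⟩ hgt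
  refine ⟨Γ(W.toScheme, ⊤), inferInstance, inferInstance, hloc, φ.hom.toAlgebra, hfin, hinj,
    W.toScheme.isoSpec.inv ≫ W.ι ≫ i, ?_, inferInstance, ?_⟩
  · rw [Category.assoc, Category.assoc]
    exact hg
  · refine ⟨W.toScheme.isoSpec.hom ⟨t₀, ht₀W⟩, ?_⟩
    have h2 : (W.toScheme.isoSpec.hom ≫ W.toScheme.isoSpec.inv ≫ W.ι ≫ i) ⟨t₀, ht₀W⟩ =
        (W.ι ≫ i) ⟨t₀, ht₀W⟩ := by rw [Iso.hom_inv_id_assoc]
    exact h2.trans ht₀

end Groth.Agent.Lib.helper3.QuasiSection
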