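import Mathlib
import Groth.Prelude.Def_FlatMod2
import Groth.Agent.Lib.Helper3.FibCritSch
import Groth.Agent.Lib.Helper3.FibreFlatMap
import Groth.Agent.Lib.Helper3.FibreDescent
import Groth.Agent.Lib.Helper17.StalkPullback
/-!
# Relative flat locus and base change (helper3)

`F` flat over `S`; `F'` on `X' = X ×_S S'` flat over `Y' = Y ×_S S'` at `x'` implies `F` flat over
`Y` at the image of `x'` (critère de platitude par fibres + descent along the fibre rings).
-/

set_option autoImplicit false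
set_option linter.style.haveILetI false
set_option linter.unusedSectionVars false
universe u

open CategoryTheory CategoryTheory.Limits AlgebraicGeometry TopologicalSpace IsLocalRing

namespace Groth.Agent.Lib.helper3.RelFlatBC

open Groth.Agent.Lib.helper3.FibCritSch Groth.Agent.Lib.helper3.FibreFlatMap
  Groth.Agent.Lib.helper3.FibreDescent Groth.Agent.Lib.helper17.StalkPullback

set_option maxHeartbeats 1600000 in
theorem isFlatOverAt_of_baseChange {X Y S X' Y' S' : Scheme.{u}} (f : X ⟶ Y) (g : Y ⟶ S)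
    [LocallyOfFinitePresentation (f ≫ g)] [LocallyOfFiniteType g]
    (F : X.Modules) [F.IsQuasicoherent] (hfp : CohB1.IsFP F)
    (h : S' ⟶ S) (gY : Y' ⟶ Y) (g' : Y' ⟶ S') (hY : IsPullback gY g' g h)
    (gX : X' ⟶ X) (f' : X' ⟶ Y') (hX : IsPullback gX (f' ≫ g') (f ≫ g) h)
    (w : gX ≫ f = f' ≫ gY) (x' : X')
    (hfl : FlatMod.IsFlatOverAt (f ≫ g) F (gX x'))
    (hfl' : FlatMod.IsFlatOverAt f' ((Scheme.Modules.pullback gX).obj F) x') :
    FlatMod.IsFlatOverAt f F (gX x') := by
  by_cases hx : Nontrivial ↑(F.presheaf.stalk (gX x'))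
  swap
  · haveI : Subsingleton ↑(F.presheaf.stalk (gX x')) := not_nontrivial_iff_subsingleton.mp hx
    unfold FlatMod.IsFlatOverAt
    infer_instance
  refine ((critere_module f g F hfp (gX x') hx).mp ⟨hfl, ?_⟩).2
  set P := (Scheme.Modules.pullback gX).obj F with hP
  have hyx : gY (f' x') = f (gX x') := by
    have := congr(($w) x')
    rw [Scheme.Hom.comp_apply, Scheme.Hom.comp_apply] at this
    exact this.symm
  -- algebras
  letI algAB : Algebra (Y.presheaf.stalk (f (gX x'))) (X.presheaf.stalk (gX x')) :=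
    (f.stalkMap (gX x')).hom.toAlgebra
  letI algAA' : Algebra (Y.presheaf.stalk (f (gX x'))) (Y'.presheaf.stalk (f' x')) :=
    ((gY.stalkMap (f' x')).hom.comp
      (Y.presheaf.stalkSpecializes (specializes_of_eq hyx)).hom).toAlgebra
  letI algBB' : Algebra (X.presheaf.stalk (gX x')) (X'.presheaf.stalk x') :=
    (gX.stalkMap x').hom.toAlgebra
  letI algA'B' : Algebra (Y'.presheaf.stalk (f' x')) (X'.presheaf.stalk x') :=
    (f'.stalkMap x').hom.toAlgebra
  letI algAB' : Algebra (Y.presheaf.stalk (f (gX x'))) (X'.presheaf.stalk x') :=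
    ((gX.stalkMap x').hom.comp (f.stalkMap (gX x')).hom).toAlgebra
  haveI : IsScalarTower (Y.presheaf.stalk (f (gX x'))) (X.presheaf.stalk (gX x'))
      (X'.presheaf.stalk x') := IsScalarTower.of_algebraMap_eq fun _ => rfl
  have hsq : (gX.stalkMap x').hom.comp (f.stalkMap (gX x')).hom =
      (f'.stalkMap x').hom.comp ((gY.stalkMap (f' x')).hom.comp
        (Y.presheaf.stalkSpecializes (specializes_of_eq hyx)).hom) := by
    have h1 := Scheme.Hom.stalkMap_congr_hom (gX ≫ f) (f' ≫ gY) w x'
    rw [Scheme.Hom.stalkMap_comp, Scheme.Hom.stalkMap_comp] at h1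
    exact congr(($h1).hom)
  haveI : IsScalarTower (Y.presheaf.stalk (f (gX x'))) (Y'.presheaf.stalk (f' x'))
      (X'.presheaf.stalk x') := IsScalarTower.of_algebraMap_eq fun a => RingHom.congr_fun hsq a
  haveI : IsLocalHom (algebraMap (X.presheaf.stalk (gX x')) (X'.presheaf.stalk x')) :=
    inferInstanceAs (IsLocalHom (gX.stalkMap x').hom)
  -- modules
  letI mAM : Module (Y.presheaf.stalk (f (gX x'))) (F.presheaf.stalk (gX x')) :=
    FlatMod.moduleStalkOver f F (gX x')
  haveI : IsScalarTower (Y.presheaf.stalk (f (gX x'))) (X.presheaf.stalk (gX x'))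
      (F.presheaf.stalk (gX x')) := isScalarTower_moduleStalkOver f F (gX x')
  letI mA'M' : Module (Y'.presheaf.stalk (f' x')) (P.presheaf.stalk x') :=
    FlatMod.moduleStalkOver f' P x'
  haveI : IsScalarTower (Y'.presheaf.stalk (f' x')) (X'.presheaf.stalk x')
      (P.presheaf.stalk x') := isScalarTower_moduleStalkOver f' P x'
  letI mBM' : Module (X.presheaf.stalk (gX x')) (P.presheaf.stalk x') :=
    FlatMod.moduleStalkOver gX P x'
  haveI : IsScalarTower (X.presheaf.stalk (gX x')) (X'.presheaf.stalk x')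
      (P.presheaf.stalk x') := isScalarTower_moduleStalkOver gX P x'
  obtain ⟨ψ, hψ⟩ := exists_isBaseChange_stalk_pullback gX F x'
  -- the ideals
  set I : Ideal (Y.presheaf.stalk (f (gX x'))) :=
    (maximalIdeal (S.presheaf.stalk (g (f (gX x'))))).map (g.stalkMap (f (gX x'))).hom with hI
  set I' : Ideal (Y'.presheaf.stalk (f' x')) :=
    (maximalIdeal (S'.presheaf.stalk (g' (f' x')))).map (g'.stalkMap (f' x')).hom with hI'
  have e : ((f ≫ g).stalkMap (gX x')).hom =
      (f.stalkMap (gX x')).hom.comp (g.stalkMap (f (gX x'))).hom := by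
    rw [Scheme.Hom.stalkMap_comp]
    rfl
  have e' : ((f' ≫ g').stalkMap x').hom =
      (f'.stalkMap x').hom.comp (g'.stalkMap (f' x')).hom := by
    rw [Scheme.Hom.stalkMap_comp]
    rfl
  have hIB : I.map (algebraMap (Y.presheaf.stalk (f (gX x'))) (X.presheaf.stalk (gX x'))) =
      (maximalIdeal (S.presheaf.stalk ((f ≫ g) (gX x')))).map ((f ≫ g).stalkMap (gX x')).hom := by
    rw [hI, Ideal.map_map, e]
    rfl
  have hI'B' : I'.map (algebraMap (Y'.presheaf.stalk (f' x')) (X'.presheaf.stalk x')) =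
      (maximalIdeal (S'.presheaf.stalk ((f' ≫ g') x'))).map ((f' ≫ g').stalkMap x').hom := by
    rw [hI', Ideal.map_map, e']
    rfl
  have hne : I'.map (algebraMap (Y'.presheaf.stalk (f' x')) (X'.presheaf.stalk x')) ≠ ⊤ := by
    rw [hI'B']
    have hle : (maximalIdeal (S'.presheaf.stalk ((f' ≫ g') x'))).map
        ((f' ≫ g').stalkMap x').hom ≤ maximalIdeal (X'.presheaf.stalk x') :=
      ((IsLocalRing.local_hom_TFAE ((f' ≫ g').stalkMap x').hom).out 0 2 rfl rfl).mp inferInstance
    exact ne_top_of_le_ne_top (maximalIdeal.isMaximal _).ne_top hle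
  have hA : ∃ hle : I ≤ I'.comap (algebraMap (Y.presheaf.stalk (f (gX x')))
      (Y'.presheaf.stalk (f' x'))),
      (Ideal.quotientMap I' (algebraMap (Y.presheaf.stalk (f (gX x')))
        (Y'.presheaf.stalk (f' x'))) hle).Flat :=
    flat_fibre_map hY (f' x') (f (gX x')) hyx
  have hB : ∃ hle : I.map (algebraMap (Y.presheaf.stalk (f (gX x')))
        (X.presheaf.stalk (gX x'))) ≤
      (I'.map (algebraMap (Y'.presheaf.stalk (f' x')) (X'.presheaf.stalk x'))).comap
        (algebraMap (X.presheaf.stalk (gX x')) (X'.presheaf.stalk x')),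
      (Ideal.quotientMap (I'.map (algebraMap (Y'.presheaf.stalk (f' x'))
        (X'.presheaf.stalk x'))) (algebraMap (X.presheaf.stalk (gX x'))
        (X'.presheaf.stalk x')) hle).Flat := by
    rw [hIB, hI'B']
    exact flat_fibre_map' hX x'
  have hM' : Module.Flat (Y'.presheaf.stalk (f' x') ⧸ I')
      (P.presheaf.stalk x' ⧸ (I' • ⊤ : Submodule (Y'.presheaf.stalk (f' x'))
        (P.presheaf.stalk x'))) := by
    haveI : Module.Flat (Y'.presheaf.stalk (f' x')) (P.presheaf.stalk x') := hfl'
    haveI := isScalarTower_quot I' (M := P.presheaf.stalk x')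
    exact Module.Flat.isBaseChange (Y'.presheaf.stalk (f' x')) (Y'.presheaf.stalk (f' x') ⧸ I')
      (P.presheaf.stalk x') _ (isBaseChange_mkQ I' (P.presheaf.stalk x'))
  exact flat_fibre_descent ψ hψ I I' hne hA hB hM'

end Groth.Agent.Lib.helper3.RelFlatBC
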