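import Mathlib
import Groth.Agent.Lib.Helper3.RegFib6

/-!
# Injectivity of restriction to an open subset: fibrewise criterion, ring form (helper3,
EGA IV 11.10.10 / 11.9.x for flat finitely presented modules)

`B` a finitely presented `A`-algebra, `M` a finitely presented `B`-module flat over `A`, `I` an
ideal of `B` (`D(I) = U ∩ Spec B`).  `IdSep I M`: a section of `M~` over a basic open `D(c)` vanishing
on `D(c) ∩ D(I)` is zero.  `Fib A I M K`: the same for global sections of the fibre over the
`A`-field `K`.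
-/

set_option autoImplicit false
set_option linter.style.haveILetI false
set_option linter.unusedSectionVars false
universe u

open TensorProduct

namespace Groth.Agent.Lib.helper3.RestrSep

open Groth.Agent.Lib.helper3.RegFib

section Defs

variable {B : Type*} [CommRing B] (I : Ideal B) (M : Type*) [AddCommGroup M] [Module B M]

/-- sections of `M~` over basic opens `D(c)` which vanish on `D(c) ∩ D(I)` are zero -/
def IdSep : Prop :=
  ∀ (c : B) (m : M), (∀ a ∈ I, ∃ n : ℕ, (c * a) ^ n • m = 0) → ∃ n : ℕ, c ^ n • m = 0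

variable {I M}

theorem IdSep.mono {J : Ideal B} (h : I ≤ J) (hI : IdSep I M) : IdSep J M :=
  fun c m hm => hI c m (fun a ha => hm a (h ha))

end Defs

section Fib

variable (A : Type u) [CommRing A] {B : Type u} [CommRing B] [Algebra A B] (I : Ideal B)
  (M : Type u) [AddCommGroup M] [Module B M] [Module A M] [IsScalarTower A B M]

/-- global sections of the fibre of `M~` over the `A`-algebra `K` which vanish on `D(I)` are
zero -/
def Fib (K : Type u) [CommRing K] [Algebra A K] : Prop :=
  ∀ x : M ⊗[A] K, (∀ a ∈ I, ∃ n : ℕ, a ^ n • x = 0) → x = 0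

variable {A I M}

/-- descent of `Fib` along an extension of fields -/
theorem Fib.descend {K₀ K : Type u} [Field K₀] [Field K] [Algebra A K₀] [Algebra A K]
    [Algebra K₀ K] [IsScalarTower A K₀ K] (h : Fib A I M K) : Fib A I M K₀ := by
  intro x hx
  let i : K₀ →ₗ[A] K := (IsScalarTower.toAlgHom A K₀ K).toLinearMap
  obtain ⟨r, hr⟩ := LinearMap.exists_leftInverse_of_injective (Algebra.linearMap K₀ K)
    (LinearMap.ker_eq_bot.mpr (algebraMap K₀ K).injective)
  let r' : K →ₗ[A] K₀ := r.restrictScalars A
  let f : M ⊗[A] K₀ →ₗ[B] M ⊗[A] K := TensorProduct.AlgebraTensorModule.map LinearMap.id i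
  let g : M ⊗[A] K →ₗ[B] M ⊗[A] K₀ := TensorProduct.AlgebraTensorModule.map LinearMap.id r'
  have hgf : ∀ y, g (f y) = y := by
    intro y
    induction y using TensorProduct.induction_on with
    | zero => simp
    | tmul m k =>
      change m ⊗ₜ[A] (r (algebraMap K₀ K k)) = _
      have := LinearMap.congr_fun hr k
      simp only [LinearMap.comp_apply, Algebra.linearMap_apply, LinearMap.id_apply] at this
      rw [this]
    | add y z hy hz => simp only [map_add, hy, hz]
  have h1 : f x = 0 := by
    apply h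
    intro a ha
    obtain ⟨n, hn⟩ := hx a ha
    exact ⟨n, by rw [← map_smul, hn, map_zero]⟩
  rw [← hgf x, h1, map_zero]

/-- ascent of `Fib` along an extension of fields -/
theorem Fib.ascend {K₀ K : Type u} [Field K₀] [Field K] [Algebra A K₀] [Algebra A K]
    [Algebra K₀ K] [IsScalarTower A K₀ K] (h : Fib A I M K₀) : Fib A I M K := by
  classical
  intro x hx
  let bas := Module.Free.chooseBasis K₀ K
  let J := Module.Free.ChooseBasisIndex K₀ K
  let e : K ≃ₗ[A] (J →₀ K₀) := bas.repr.restrictScalars A
  let E : M ⊗[A] K ≃ₗ[B] J →₀ (M ⊗[A] K₀) :=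
    (TensorProduct.AlgebraTensorModule.congr (LinearEquiv.refl B M) e) ≪≫ₗ
      TensorProduct.finsuppRight A B M K₀ J
  apply E.injective
  rw [map_zero]
  ext j
  rw [Finsupp.zero_apply]
  apply h
  intro a ha
  obtain ⟨n, hn⟩ := hx a ha
  refine ⟨n, ?_⟩
  rw [← Finsupp.smul_apply, ← map_smul, hn, map_zero, Finsupp.zero_apply]

end Fib

section Main

variable {A : Type u} [CommRing A] {B : Type u} [CommRing B] [Algebra A B] (I : Ideal B)
  (M : Type u) [AddCommGroup M] [Module B M] [Module A M] [IsScalarTower A B M]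

/-- **prime avoidance on the fibre**: if global sections of the fibre vanishing on `D(I)` are zero,
some element of `I` is a nonzerodivisor on the fibre module -/
theorem exists_regular_of_fib [Algebra.FiniteType A B] [Module.Finite B M] (K : Type u) [Field K]
    [Algebra A K] (h : Fib A I M K) : ∃ a ∈ I, IsSMulRegular (M ⊗[A] K) a := by
  classical
  haveI := isNoetherianRing_fibre (A := A) (B := B) K
  have hfin : (associatedPrimes (B ⊗[A] K) ((B ⊗[A] K) ⊗[B] M)).Finite :=
    associatedPrimes.finite _ _
  have hQ : ∀ Q ∈ associatedPrimes (B ⊗[A] K) ((B ⊗[A] K) ⊗[B] M),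
      ¬ I ≤ Q.comap (algebraMap B (B ⊗[A] K)) := by
    intro Q hQ hIQ
    obtain ⟨hprime, x, hx⟩ := (isAssociatedPrime_iff).mp hQ
    have hx0 : x = 0 := by
      apply (eFib M K).injective
      rw [map_zero]
      apply h
      intro a ha
      refine ⟨1, ?_⟩
      rw [pow_one, ← map_smul]
      have h1 : algebraMap B (B ⊗[A] K) a ∈ Q := hIQ ha
      rw [hx, Submodule.mem_colon_singleton, Submodule.mem_bot, algebraMap_smul] at h1
      rw [h1, map_zero]
    apply hprime.ne_top
    rw [hx, Ideal.eq_top_iff_one, Submodule.mem_colon_singleton, hx0, smul_zero]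
    exact Submodule.zero_mem _
  by_contra hcon
  push Not at hcon
  have hsub : (I : Set B) ⊆ ⋃ Q ∈ (↑hfin.toFinset : Set (Ideal (B ⊗[A] K))),
      ((Q.comap (algebraMap B (B ⊗[A] K)) : Ideal B) : Set B) := by
    intro a ha
    have h1 := hcon a ha
    rw [← isSMulRegular_fibre_iff] at h1
    have hmem : (a ⊗ₜ[A] (1 : K)) ∈
        ({r : B ⊗[A] K | IsSMulRegular ((B ⊗[A] K) ⊗[B] M) r}ᶜ : Set (B ⊗[A] K)) := h1
    rw [← biUnion_associatedPrimes_eq_compl_regular (B ⊗[A] K) ((B ⊗[A] K) ⊗[B] M)] at hmem
    simp only [Set.mem_iUnion] at hmem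
    obtain ⟨Q, hQmem, haQ⟩ := hmem
    simp only [Set.mem_iUnion]
    exact ⟨Q, by simpa using hQmem, haQ⟩
  obtain ⟨Q, hQmem, hle⟩ := (Ideal.subset_union_prime (R := B)
    (f := fun Q : Ideal (B ⊗[A] K) => Q.comap (algebraMap B (B ⊗[A] K))) ⊥ ⊥
    (fun Q hQmem _ _ => by
      have hQ' : Q ∈ associatedPrimes (B ⊗[A] K) ((B ⊗[A] K) ⊗[B] M) := by simpa using hQmem
      haveI := hQ'.isPrime
      exact Ideal.comap_isPrime _ _)).mp hsub
  exact hQ Q (by simpa using hQmem) hle

variable {I M}

/-- **fibrewise criterion**: for a finitely presented module flat over the base, vanishing of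
sections vanishing on `D(I)` can be tested on the global sections of the fibres -/
theorem idSep_of_fib [Algebra.FinitePresentation A B] [Module.FinitePresentation B M]
    [Module.Flat A M] (h : ∀ (p : Ideal A) [p.IsPrime], Fib A I M p.ResidueField) :
    IdSep I M := by
  intro c m hm
  by_contra hne
  push Not at hne
  let J : Ideal B :=
    { carrier := {b | ∃ n : ℕ, c ^ n • b • m = 0}
      add_mem' := by
        rintro x y ⟨n, hn⟩ ⟨k, hk⟩
        refine ⟨n + k, ?_⟩
        rw [add_smul, smul_add, pow_add, mul_smul, mul_smul, hk, smul_zero, add_zero,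
          smul_comm (c ^ n), hn, smul_zero]
      zero_mem' := ⟨0, by rw [zero_smul, smul_zero]⟩
      smul_mem' := by
        rintro r x ⟨n, hn⟩
        refine ⟨n, ?_⟩
        rw [smul_eq_mul, mul_smul, smul_comm (c ^ n), hn, smul_zero] }
  have hJ : J ≠ ⊤ := by
    intro hJ
    have h1 : (1 : B) ∈ J := hJ ▸ Submodule.mem_top
    obtain ⟨n, hn⟩ := h1
    rw [one_smul] at hn
    exact hne n hn
  obtain ⟨q, hq, hJq⟩ := Ideal.exists_le_maximal J hJ
  haveI : q.IsPrime := hq.isPrime
  obtain ⟨a, haI, hreg⟩ := exists_regular_of_fib I M (q.comap (algebraMap A B)).ResidueField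
    (h (q.comap (algebraMap A B)))
  have h1' := IsSMulRegular.of_isLocalizedModule (Localization.AtPrime q) q.primeCompl
    (LocalizedModule.mkLinearMap q.primeCompl (M ⊗[A] (q.comap (algebraMap A B)).ResidueField)) hreg
  have h1 : IsSMulRegular
      (LocalizedModule q.primeCompl (M ⊗[A] (q.comap (algebraMap A B)).ResidueField)) a := by
    intro u v huv
    apply h1'
    simpa only [algebraMap_smul] using huv
  have hflat : Module.Flat A (LocalizedModule q.primeCompl M) :=
    Groth.Agent.Lib.helper3.FpLocal.flat_localizedModule _ _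
  have h2 := isSMulRegular_localized q M a hflat h1
  obtain ⟨n, hn⟩ := hm a haI
  have h3 : a ^ n • (LocalizedModule.mkLinearMap q.primeCompl M (c ^ n • m)) = 0 := by
    rw [← map_smul, smul_smul, ← mul_pow, mul_comm, hn, map_zero]
  have h4 : LocalizedModule.mkLinearMap q.primeCompl M (c ^ n • m) = 0 :=
    (h2.pow n) (h3.trans (smul_zero (a ^ n)).symm)
  obtain ⟨s, hs⟩ := (IsLocalizedModule.eq_zero_iff q.primeCompl
    (LocalizedModule.mkLinearMap q.primeCompl M)).mp h4
  exact s.2 (hJq ⟨n, by rw [smul_comm]; exact hs⟩)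

end Main

end Groth.Agent.Lib.helper3.RestrSep
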