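import Mathlib
import Groth.Agent.Lib.Helper3.RestrSepRing

/-!
# Base change of the fibrewise criterion for injectivity of restriction (helper3)
-/

set_option autoImplicit false
set_option linter.style.haveILetI false
set_option linter.unusedSectionVars false
universe u

open TensorProduct

namespace Groth.Agent.Lib.helper3.RestrSep

section BC

variable {A : Type u} [CommRing A] {B : Type u} [CommRing B] [Algebra A B] (I : Ideal B)
  (M : Type u) [AddCommGroup M] [Module B M] [Module A M] [IsScalarTower A B M]
  (C : Type u) [CommRing C] [Algebra A C]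

attribute [local instance] Algebra.TensorProduct.rightAlgebra

/-- the comparison of the fibres of the base change with the fibres of the module -/
noncomputable def fibEquiv (K : Type u) [CommRing K] [Algebra C K] [Algebra A K]
    [IsScalarTower A C K] : ((B ⊗[A] C) ⊗[B] M) ⊗[C] K ≃+ M ⊗[A] K :=
  (TensorProduct.congr (Algebra.IsPushout.cancelBaseChange A C B (B ⊗[A] C) M)
      (LinearEquiv.refl C K)).toAddEquiv.trans
    ((TensorProduct.comm C (C ⊗[A] M) K).toAddEquiv.trans
      ((TensorProduct.AlgebraTensorModule.cancelBaseChange A C K K M).toAddEquiv.trans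
        (TensorProduct.comm A K M).toAddEquiv))

theorem fibEquiv_symm_tmul (K : Type u) [CommRing K] [Algebra C K] [Algebra A K]
    [IsScalarTower A C K] (m : M) (k : K) :
    (fibEquiv (B := B) M C K).symm (m ⊗ₜ[A] k) = ((1 : B ⊗[A] C) ⊗ₜ[B] m) ⊗ₜ[C] k := by
  simp [fibEquiv]

theorem fibEquiv_symm_smul (K : Type u) [CommRing K] [Algebra C K] [Algebra A K]
    [IsScalarTower A C K] (b : B) (y : M ⊗[A] K) :
    (fibEquiv (B := B) M C K).symm (b • y) = algebraMap B (B ⊗[A] C) b • (fibEquiv (B := B) M C K).symm y := by
  induction y using TensorProduct.induction_on with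
  | zero => simp
  | tmul m k =>
    rw [TensorProduct.smul_tmul', fibEquiv_symm_tmul, fibEquiv_symm_tmul,
      TensorProduct.smul_tmul', TensorProduct.smul_tmul', Algebra.smul_def, mul_one,
      ← TensorProduct.smul_tmul, Algebra.smul_def, mul_one, Algebra.algebraMap_self,
      RingHom.id_apply]
  | add y z hy hz => simp only [smul_add, map_add, hy, hz]

variable {I M}

/-- transport of `Fib` to the base change -/
theorem Fib.baseChange (K : Type u) [CommRing K] [Algebra C K] [Algebra A K] [IsScalarTower A C K]
    (h : Fib A I M K) :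
    Fib C (I.map (algebraMap B (B ⊗[A] C))) ((B ⊗[A] C) ⊗[B] M) K := by
  intro x hx
  obtain ⟨y, rfl⟩ := (fibEquiv (B := B) M C K).symm.surjective x
  have hy : y = 0 := by
    apply h
    intro a ha
    obtain ⟨n, hn⟩ := hx _ (Ideal.mem_map_of_mem _ ha)
    refine ⟨n, (fibEquiv (B := B) M C K).symm.injective ?_⟩
    rw [fibEquiv_symm_smul, map_pow, hn, map_zero]
  rw [hy, map_zero]

/-- **base change of the fibrewise criterion** -/
theorem idSep_baseChange [Algebra.FinitePresentation A B] [Module.FinitePresentation B M]
    [Module.Flat A M] (h : ∀ (p : Ideal A) [p.IsPrime], Fib A I M p.ResidueField) :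
    IdSep (I.map (algebraMap B (B ⊗[A] C))) ((B ⊗[A] C) ⊗[B] M) := by
  haveI : Algebra.FinitePresentation C (B ⊗[A] C) := by
    let e : C ⊗[A] B ≃ₐ[C] B ⊗[A] C :=
      AlgEquiv.ofRingEquiv (f := (Algebra.TensorProduct.comm A C B).toRingEquiv) (fun c => by
        change (Algebra.TensorProduct.comm A C B) (c ⊗ₜ[A] (1 : B)) = _
        rw [Algebra.TensorProduct.comm_tmul]
        rfl)
    exact Algebra.FinitePresentation.equiv e
  haveI : Module.Flat C ((B ⊗[A] C) ⊗[B] M) :=
    Module.Flat.of_linearEquiv (Algebra.IsPushout.cancelBaseChange A C B (B ⊗[A] C) M)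
  refine idSep_of_fib (A := C) (fun p' _ => ?_)
  refine Fib.baseChange C p'.ResidueField ?_
  let p : Ideal A := p'.comap (algebraMap A C)
  let φ : p.ResidueField →ₐ[A] p'.ResidueField :=
    Ideal.ResidueField.mapₐ p p' (Algebra.ofId A C) rfl
  letI : Algebra p.ResidueField p'.ResidueField := φ.toRingHom.toAlgebra
  haveI : IsScalarTower A p.ResidueField p'.ResidueField :=
    IsScalarTower.of_algebraMap_eq (fun a => (φ.commutes a).symm)
  exact Fib.ascend (h p)

end BC

end Groth.Agent.Lib.helper3.RestrSep
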