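import Groth.Agent.Lib.Helper3.SepFibre2
import Groth.Agent.Lib.Helper3.RestrSepBC

/-!
# Injectivity of restriction to an open subset, scheme level (helper3, EGA IV 11.10.10)
-/

set_option autoImplicit false
set_option linter.style.haveILetI false
set_option linter.unusedSectionVars false
universe u v
open CategoryTheory CategoryTheory.Limits AlgebraicGeometry TopologicalSpace Opposite TensorProduct

namespace Groth.Agent.Lib.helper3.RestrSep

open Scheme.Modules Groth.Agent.Lib.helper16.CohFinite Groth.Agent.Lib.helper16.QCohPullback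
  Groth.Agent.Lib.helper3.SepPull Groth.Agent.Lib.helper3.SepPullFP

section Ring

/-- transport of `IdSep` along a semilinear isomorphism -/
theorem IdSep.of_equiv {R R' : Type*} [CommRing R] [CommRing R'] (e : R ≃+* R')
    {N N' : Type*} [AddCommGroup N] [AddCommGroup N'] [Module R N] [Module R' N']
    (ε : N ≃+ N') (hε : ∀ (r : R) (n : N), ε (r • n) = e r • ε n)
    {J : Ideal R} {J' : Ideal R'} (hJ : ∀ a ∈ J, e a ∈ J') (h : IdSep J N) : IdSep J' N' := by
  intro c' m' hm'
  obtain ⟨n, hn⟩ := h (e.symm c') (ε.symm m') (fun a ha => by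
    obtain ⟨n, hn⟩ := hm' (e a) (hJ a ha)
    refine ⟨n, ε.injective ?_⟩
    rw [hε, map_pow, map_mul, RingEquiv.apply_symm_apply, AddEquiv.apply_symm_apply, hn, map_zero])
  refine ⟨n, ?_⟩
  have := congrArg ε hn
  rw [hε, map_pow, RingEquiv.apply_symm_apply, AddEquiv.apply_symm_apply, map_zero] at this
  exact this

end Ring

section Defs

variable {Y : Scheme.{u}}

/-- restriction to `U` is injective on the sections of `G` over every open -/
def RestrInj (G : Y.Modules) (U : Y.Opens) : Prop :=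
  ∀ (V : Y.Opens) (t : Γ(G, V)),
    G.presheaf.map (homOfLE (inf_le_left : V ⊓ U ≤ V)).op t = 0 → t = 0

theorem restrInj_iff (G : Y.Modules) (U : Y.Opens) :
    RestrInj G U ↔ ∀ V : Y.Opens, Function.Injective
      (G.presheaf.map (homOfLE (inf_le_left : V ⊓ U ≤ V)).op) := by
  constructor
  · intro h V
    exact (injective_iff_map_eq_zero (G.presheaf.map (homOfLE (inf_le_left : V ⊓ U ≤ V)).op).hom).mpr
      (fun t ht => h V t ht)
  · intro h V t ht
    exact h V (ht.trans (map_zero (G.presheaf.map (homOfLE (inf_le_left : V ⊓ U ≤ V)).op).hom).symm)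

/-- functions on `W` whose nonvanishing locus lies in `U` -/
def vanIdeal (W U : Y.Opens) : Ideal Γ(Y, W) where
  carrier := {a | Y.basicOpen a ≤ U}
  add_mem' := fun {a b} ha hb => (Y.basicOpen_add_le a b).trans (sup_le ha hb)
  zero_mem' := by
    change Y.basicOpen (0 : Γ(Y, W)) ≤ U
    rw [Scheme.basicOpen_zero]
    exact bot_le
  smul_mem' := fun c a ha => by
    change Y.basicOpen (c * a) ≤ U
    rw [Scheme.basicOpen_mul]
    exact inf_le_right.trans ha

theorem mem_vanIdeal {W U : Y.Opens} (a : Γ(Y, W)) : a ∈ vanIdeal W U ↔ Y.basicOpen a ≤ U :=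
  Iff.rfl

/-- an affine open meets `U` in the union of the basic opens of the functions in `vanIdeal` -/
theorem inf_le_iSup_vanIdeal {W : Y.Opens} (hW : IsAffineOpen W) (U : Y.Opens) :
    W ⊓ U ≤ ⨆ a : vanIdeal W U, Y.basicOpen (a : Γ(Y, W)) := by
  rintro y ⟨hyW, hyU⟩
  obtain ⟨a, haU, hya⟩ := hW.exists_basicOpen_le (V := U) ⟨y, hyU⟩ hyW
  exact Opens.mem_iSup.mpr ⟨⟨a, haU⟩, hya⟩

end Defs

section Core

variable {Y : Scheme.{u}} (G : Y.Modules)

/-- a section over `W` killed by powers of functions whose basic opens cover `W ∩ U` vanishes, if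
restriction to `U` is injective -/
theorem eq_zero_of_restrInj (U : Y.Opens) (h : RestrInj G U) {W : Y.Opens} {ι : Type*}
    (a : ι → Γ(Y, W)) (hcov : W ⊓ U ≤ ⨆ i, Y.basicOpen (a i)) (t : Γ(G, W))
    (ht : ∀ i, ∃ n : ℕ, a i ^ n • t = 0) : t = 0 := by
  apply h W t
  refine eq_zero_of_cover G (fun i => Y.basicOpen (a i) ⊓ (W ⊓ U)) (W ⊓ U)
    (fun i => inf_le_right) ?_ _ (fun i => ?_)
  · intro y hy
    obtain ⟨i, hi⟩ := Opens.mem_iSup.mp (hcov hy)
    exact Opens.mem_iSup.mpr ⟨i, hi, hy⟩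
  · obtain ⟨n, hn⟩ := ht i
    have h1 := map_basicOpen_eq_zero_of_pow_smul G (a i) t n hn
    rw [Groth.Agent.Lib.helper7.map_map]
    have h2 : Y.basicOpen (a i) ⊓ (W ⊓ U) ≤ Y.basicOpen (a i) := inf_le_left
    rw [← Groth.Agent.Lib.helper7.map_map G (Y.basicOpen_le (a i)) h2, h1, map_zero]

variable [G.IsQuasicoherent]

/-- **local criterion**: restriction to `U` is injective if `IdSep` holds on an affine open cover -/
theorem restrInj_of_idSep (U : Y.Opens)
    (hcov : ∀ y : Y, ∃ (W₀ : Y.Opens) (_ : IsAffineOpen W₀), y ∈ W₀ ∧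
      IdSep (vanIdeal W₀ U) Γ(G, W₀)) : RestrInj G U := by
  intro V t ht
  have hloc : ∀ x : V, ∃ (W : Y.Opens) (hWV : W ≤ V), x.1 ∈ W ∧
      G.presheaf.map (homOfLE hWV).op t = 0 := by
    intro x
    obtain ⟨W₀, hW₀, hxW₀, hsep⟩ := hcov x.1
    obtain ⟨c, hcV, hxc⟩ := hW₀.exists_basicOpen_le (V := V) x hxW₀
    refine ⟨Y.basicOpen c, hcV, hxc, ?_⟩
    set t' := G.presheaf.map (homOfLE hcV).op t with ht'
    obtain ⟨k, s, hs⟩ :=
      Groth.Agent.Lib.helper7.exists_pow_smul_eq_map_of_isAffineOpen hW₀ G c t'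
    -- `s` vanishes on `D(c a)` for `a ∈ vanIdeal`
    have hs0 : ∀ a ∈ vanIdeal W₀ U, ∃ n : ℕ, (c * a) ^ n • s = 0 := by
      intro a ha
      apply Groth.Agent.Lib.helper7.exists_pow_smul_eq_zero_of_isAffineOpen hW₀ G (c * a) s
      have hle : Y.basicOpen (c * a) ≤ Y.basicOpen c := by
        rw [Scheme.basicOpen_mul]; exact inf_le_left
      have hle2 : Y.basicOpen (c * a) ≤ V ⊓ U := by
        rw [Scheme.basicOpen_mul]
        exact inf_le_inf hcV ha
      rw [← Groth.Agent.Lib.helper7.map_map G (Y.basicOpen_le c) hle, hs]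
      have h3 := Scheme.Modules.map_smul G (homOfLE hle)
        ((Y.presheaf.map (homOfLE (Y.basicOpen_le c)).op c) ^ k) t'
      refine h3.trans ?_
      have h4 : G.presheaf.map (homOfLE hle).op t' = 0 := by
        rw [ht', Groth.Agent.Lib.helper7.map_map,
          ← Groth.Agent.Lib.helper7.map_map G (inf_le_left : V ⊓ U ≤ V) hle2, ht, map_zero]
      rw [h4, smul_zero]
    obtain ⟨n, hn⟩ := hsep c s hs0
    have h5 := map_basicOpen_eq_zero_of_pow_smul G c s n hn
    rw [hs] at h5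
    have hunit : IsUnit ((Y.presheaf.map (homOfLE (Y.basicOpen_le c)).op c) ^ k) :=
      (RingedSpace.isUnit_res_basicOpen Y.toRingedSpace c).pow k
    obtain ⟨v, hv⟩ := hunit
    rw [← hv] at h5
    have := congrArg (fun y => (↑v⁻¹ : Γ(Y, Y.basicOpen c)) • y) h5
    simpa [smul_smul] using this
  choose W hWV hxW hW0 using hloc
  apply eq_zero_of_cover G W V hWV
  · intro y hy
    exact Opens.mem_iSup.mpr ⟨⟨y, hy⟩, hxW ⟨y, hy⟩⟩
  · intro x
    exact hW0 x

end Core

end Groth.Agent.Lib.helper3.RestrSep
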