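import Groth.Agent.Lib.Helper3.RestrSepSch1

/-!
# Injectivity of restriction to an open subset: charts of a base change (helper3, EGA IV 11.10.10)
-/

set_option autoImplicit false
set_option linter.style.haveILetI false
set_option linter.unusedSectionVars false
universe u v
open CategoryTheory CategoryTheory.Limits AlgebraicGeometry TopologicalSpace Opposite TensorProduct

namespace Groth.Agent.Lib.helper3.RestrSep

open Scheme.Modules Groth.Agent.Lib.helper16.CohFinite Groth.Agent.Lib.helper16.QCohPullback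
  Groth.Agent.Lib.helper3.SepPull Groth.Agent.Lib.helper3.SepPullFP
  Groth.Agent.Lib.helper3.SchDomChart

section Chart

variable {X S S' : Scheme.{u}} (p : X ⟶ S) (q : S' ⟶ S) (F : X.Modules) [F.IsQuasicoherent]
  (U : X.Opens)
  {S₀ : S.Opens} (hS₀ : IsAffineOpen S₀) {U₀ : X.Opens} (hU₀ : IsAffineOpen U₀)
  {C : Type u} [CommRing C] (i₂ : Spec (CommRingCat.of C) ⟶ S') [IsOpenImmersion i₂]
  [Algebra Γ(S, S₀) Γ(X, U₀)] [Algebra Γ(S, S₀) C]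
  (hA : Spec.map (CommRingCat.ofHom (algebraMap Γ(S, S₀) Γ(X, U₀))) ≫ hS₀.fromSpec =
    hU₀.fromSpec ≫ p)
  (hB : Spec.map (CommRingCat.ofHom (algebraMap Γ(S, S₀) C)) ≫ hS₀.fromSpec = i₂ ≫ q)

/-- the chart is affine -/
theorem isAffineOpen_chart : IsAffineOpen ((chart p q hS₀ hU₀ i₂ hA hB) ''ᵁ ⊤) :=
  (isAffineOpen_top _).image_of_isOpenImmersion _

/-- the `Γ(X,U₀)`-algebra structure on the functions on the chart -/
@[reducible] noncomputable def chartAlg :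
    Algebra Γ(X, U₀) Γ(pullback p q, (chart p q hS₀ hU₀ i₂ hA hB) ''ᵁ ⊤) :=
  ((pullback.fst p q).appLE U₀ _ (image_top_le p q hS₀ hU₀ i₂ hA hB)).hom.toAlgebra

/-- the algebra isomorphism `Γ(X,U₀) ⊗ C ≃ Γ(X ×_S S', W₀)` -/
noncomputable def chartAlgEquiv :
    letI := chartAlg p q hS₀ hU₀ i₂ hA hB
    (Γ(X, U₀) ⊗[Γ(S, S₀)] C) ≃ₐ[Γ(X, U₀)]
      Γ(pullback p q, (chart p q hS₀ hU₀ i₂ hA hB) ''ᵁ ⊤) :=
  letI := chartAlg p q hS₀ hU₀ i₂ hA hB
  AlgEquiv.ofRingEquiv (f := (chartIso p q hS₀ hU₀ i₂ hA hB).commRingCatIsoToRingEquiv)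
    (fun a => by
      have := chartIso_compat p q hS₀ hU₀ i₂ hA hB
      exact (congr($(this).hom a)).symm)

/-- the semilinear identification of the base-changed section module with the sections of the
pullback over the chart -/
noncomputable def chartModEquiv :
    (Γ(X, U₀) ⊗[Γ(S, S₀)] C) ⊗[Γ(X, U₀)] Γ(F, U₀) ≃+
      Γ((Scheme.Modules.pullback (pullback.fst p q)).obj F,
        (chart p q hS₀ hU₀ i₂ hA hB) ''ᵁ ⊤) :=
  letI := chartAlg p q hS₀ hU₀ i₂ hA hB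
  (LinearEquiv.rTensor Γ(F, U₀) (chartAlgEquiv p q hS₀ hU₀ i₂ hA hB).toLinearEquiv).toAddEquiv.trans
    (pullbackSectionsEquiv (pullback.fst p q) F hU₀ (isAffineOpen_chart p q hS₀ hU₀ i₂ hA hB)
      (image_top_le p q hS₀ hU₀ i₂ hA hB)).symm.toAddEquiv

set_option maxRecDepth 8000 in
theorem chartModEquiv_smul (r : Γ(X, U₀) ⊗[Γ(S, S₀)] C)
    (y : (Γ(X, U₀) ⊗[Γ(S, S₀)] C) ⊗[Γ(X, U₀)] Γ(F, U₀)) :
    chartModEquiv p q F hS₀ hU₀ i₂ hA hB (r • y) =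
      (chartIso p q hS₀ hU₀ i₂ hA hB).commRingCatIsoToRingEquiv r •
        chartModEquiv p q F hS₀ hU₀ i₂ hA hB y := by
  letI := chartAlg p q hS₀ hU₀ i₂ hA hB
  change (pullbackSectionsEquiv (pullback.fst p q) F hU₀ (isAffineOpen_chart p q hS₀ hU₀ i₂ hA hB)
      (image_top_le p q hS₀ hU₀ i₂ hA hB)).symm
      ((LinearEquiv.rTensor Γ(F, U₀) (chartAlgEquiv p q hS₀ hU₀ i₂ hA hB).toLinearEquiv) (r • y)) = _
  rw [Groth.Agent.Lib.helper3.SepPullField.rTensor_equiv_smul, LinearEquiv.map_smul]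
  rfl

theorem chartIso_algebraMap (a : Γ(X, U₀)) :
    (chartIso p q hS₀ hU₀ i₂ hA hB).commRingCatIsoToRingEquiv
      (algebraMap Γ(X, U₀) (Γ(X, U₀) ⊗[Γ(S, S₀)] C) a) =
    ((pullback.fst p q).appLE U₀ _ (image_top_le p q hS₀ hU₀ i₂ hA hB)).hom a := by
  have := chartIso_compat p q hS₀ hU₀ i₂ hA hB
  exact (congr($(this).hom a)).symm

include hS₀ hU₀ i₂ hA hB in
/-- **from the base change to the fibre condition on a chart** -/
theorem tfib_of_restrInj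
    (h : RestrInj ((Scheme.Modules.pullback (pullback.fst p q)).obj F) ((pullback.fst p q) ⁻¹ᵁ U))
    (τ : (Γ(X, U₀) ⊗[Γ(S, S₀)] C) ⊗[Γ(X, U₀)] Γ(F, U₀))
    (hτ : ∀ a ∈ vanIdeal U₀ U, ∃ n : ℕ, a ^ n • τ = 0) : τ = 0 := by
  apply (chartModEquiv p q F hS₀ hU₀ i₂ hA hB).injective
  rw [map_zero]
  have e₀ := image_top_le p q hS₀ hU₀ i₂ hA hB
  refine eq_zero_of_restrInj _ _ h
    (fun a : vanIdeal U₀ U => ((pullback.fst p q).appLE U₀ _ e₀).hom a.1) ?_ _ (fun a => ?_)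
  · rintro y ⟨hyW, hyU⟩
    have h1 : (pullback.fst p q) y ∈ U₀ ⊓ U := ⟨e₀ hyW, hyU⟩
    obtain ⟨a, ha⟩ := Opens.mem_iSup.mp (inf_le_iSup_vanIdeal hU₀ U h1)
    refine Opens.mem_iSup.mpr ⟨a, ?_⟩
    change y ∈ (pullback p q).basicOpen (((pullback.fst p q).appLE U₀ _ e₀) a.1)
    rw [Scheme.basicOpen_appLE]
    exact ⟨hyW, ha⟩
  · obtain ⟨n, hn⟩ := hτ a.1 a.2
    refine ⟨n, ?_⟩
    have h2 : a.1 ^ n • τ =
        (algebraMap Γ(X, U₀) (Γ(X, U₀) ⊗[Γ(S, S₀)] C) (a.1 ^ n)) • τ :=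
      (algebraMap_smul _ _ _).symm
    rw [h2] at hn
    have h3 := congrArg (chartModEquiv p q F hS₀ hU₀ i₂ hA hB) hn
    rw [chartModEquiv_smul, chartIso_algebraMap, map_zero, map_pow] at h3
    exact h3

set_option maxRecDepth 8000 in
/-- **from the ring-level criterion to the sections over a chart** -/
theorem idSep_chart
    (h : IdSep ((vanIdeal U₀ U).map (algebraMap Γ(X, U₀) (Γ(X, U₀) ⊗[Γ(S, S₀)] C)))
      ((Γ(X, U₀) ⊗[Γ(S, S₀)] C) ⊗[Γ(X, U₀)] Γ(F, U₀))) :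
    IdSep (vanIdeal ((chart p q hS₀ hU₀ i₂ hA hB) ''ᵁ ⊤) ((pullback.fst p q) ⁻¹ᵁ U))
      Γ((Scheme.Modules.pullback (pullback.fst p q)).obj F,
        (chart p q hS₀ hU₀ i₂ hA hB) ''ᵁ ⊤) := by
  refine IdSep.of_equiv (chartIso p q hS₀ hU₀ i₂ hA hB).commRingCatIsoToRingEquiv
    (chartModEquiv p q F hS₀ hU₀ i₂ hA hB) (chartModEquiv_smul p q F hS₀ hU₀ i₂ hA hB) ?_ h
  intro a' ha'
  have hle : (vanIdeal U₀ U).map (algebraMap Γ(X, U₀) (Γ(X, U₀) ⊗[Γ(S, S₀)] C)) ≤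
      (vanIdeal ((chart p q hS₀ hU₀ i₂ hA hB) ''ᵁ ⊤) ((pullback.fst p q) ⁻¹ᵁ U)).comap
        ((chartIso p q hS₀ hU₀ i₂ hA hB).commRingCatIsoToRingEquiv :
          (Γ(X, U₀) ⊗[Γ(S, S₀)] C) →+* _) := by
    rw [Ideal.map_le_iff_le_comap]
    intro a ha
    change (pullback p q).basicOpen ((chartIso p q hS₀ hU₀ i₂ hA hB).commRingCatIsoToRingEquiv
      (algebraMap Γ(X, U₀) (Γ(X, U₀) ⊗[Γ(S, S₀)] C) a)) ≤ _
    rw [chartIso_algebraMap]
    change (pullback p q).basicOpen (((pullback.fst p q).appLE U₀ _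
      (image_top_le p q hS₀ hU₀ i₂ hA hB)) a) ≤ _
    rw [Scheme.basicOpen_appLE]
    intro y hy
    exact ha hy.2
  exact hle ha'

end Chart

end Groth.Agent.Lib.helper3.RestrSep
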