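import Groth.Agent.Lib.Helper3.RestrSepSch2
import Groth.Agent.Lib.Helper3.FibreChart
import Groth.Agent.Lib.Helper16.CohFP

/-!
# Universal injectivity of restriction to an open subset is detected on fibres
(helper3, EGA IV 11.10.10)
-/

set_option autoImplicit false
set_option linter.style.haveILetI false
set_option linter.unusedSectionVars false
universe u v
open CategoryTheory CategoryTheory.Limits AlgebraicGeometry TopologicalSpace Opposite TensorProduct

namespace Groth.Agent.Lib.helper3.RestrSep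

open Scheme.Modules Groth.Agent.Lib.helper16.CohFinite Groth.Agent.Lib.helper16.QCohPullback
  Groth.Agent.Lib.helper3.SepPull Groth.Agent.Lib.helper3.SepPullFP
  Groth.Agent.Lib.helper3.SchDomChart Groth.Agent.Lib.helper3.SchDomT5
  Groth.Agent.Lib.helper3.RegFib Groth.Agent.Lib.helper17.FlatOver1

section Main

variable {X S : Scheme.{u}} (f : X ⟶ S) (F : X.Modules) [F.IsQuasicoherent] (U : X.Opens)

/-- restriction to the preimage of `U` is injective after the base change `q` -/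
def RestrBC {S' : Scheme.{u}} (q : S' ⟶ S) : Prop :=
  RestrInj ((Scheme.Modules.pullback (pullback.fst f q)).obj F) ((pullback.fst f q) ⁻¹ᵁ U)

/-- the fibre condition over a field-valued point of the base, transported to a residue field of
the base ring -/
theorem fib_of_field_aux {K₀ : Type u} [Field K₀] (q : Spec (CommRingCat.of K₀) ⟶ S)
    (h : RestrBC f F U q)
    {S₀ : S.Opens} (hS₀ : IsAffineOpen S₀) {U₀ : X.Opens} (hU₀ : IsAffineOpen U₀)
    (eU : U₀ ≤ f ⁻¹ᵁ S₀) (𝔭 : Ideal Γ(S, S₀)) [𝔭.IsPrime]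
    (ev : Γ(S, S₀) ⟶ CommRingCat.of K₀) (hev : Spec.map ev ≫ hS₀.fromSpec = q)
    (φ : CommRingCat.of K₀ ⟶ CommRingCat.of 𝔭.ResidueField)
    (hφ : Spec.map (CommRingCat.ofHom (algebraMap Γ(S, S₀) 𝔭.ResidueField)) ≫ hS₀.fromSpec =
      Spec.map φ ≫ q) :
    letI := (f.appLE S₀ U₀ eU).hom.toAlgebra
    letI := modSecBase f F eU
    haveI := isScalarTower_sections f F eU
    Fib Γ(S, S₀) (vanIdeal U₀ U) Γ(F, U₀) 𝔭.ResidueField := by
  letI algAB : Algebra Γ(S, S₀) Γ(X, U₀) := (f.appLE S₀ U₀ eU).hom.toAlgebra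
  letI modAM := modSecBase f F eU
  haveI := isScalarTower_sections f F eU
  have hA : CommRingCat.ofHom (algebraMap Γ(S, S₀) Γ(X, U₀)) = f.appLE S₀ U₀ eU := rfl
  have hA' := hA_spec f hS₀ hU₀ eU hA
  letI algAκ : Algebra Γ(S, S₀) K₀ := ev.hom.toAlgebra
  have hB : Spec.map (CommRingCat.ofHom (algebraMap Γ(S, S₀) K₀)) ≫
      hS₀.fromSpec = 𝟙 (Spec (CommRingCat.of K₀)) ≫ q := by
    rw [Category.id_comp]
    exact hev
  have hfibκ : Fib Γ(S, S₀) (vanIdeal U₀ U) Γ(F, U₀) K₀ := by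
    intro x hx
    have h1 := tfib_of_restrInj f q F U hS₀ hU₀ (𝟙 (Spec (CommRingCat.of K₀))) hA' hB h
      ((eFib Γ(F, U₀) K₀).symm x) (fun a ha => by
        obtain ⟨n, hn⟩ := hx a ha
        exact ⟨n, by rw [← _root_.map_smul, hn, map_zero]⟩)
    exact (LinearEquiv.map_eq_zero_iff _).mp h1
  letI : Algebra K₀ 𝔭.ResidueField := φ.hom.toAlgebra
  haveI : IsScalarTower Γ(S, S₀) K₀ 𝔭.ResidueField := by
    have h2 : Spec.map (CommRingCat.ofHom (algebraMap Γ(S, S₀) 𝔭.ResidueField)) ≫ hS₀.fromSpec =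
        Spec.map (ev ≫ φ) ≫ hS₀.fromSpec := by
      rw [Spec.map_comp, Category.assoc, hev]
      exact hφ
    have h3 := Spec.map_injective ((cancel_mono hS₀.fromSpec).mp h2)
    exact IsScalarTower.of_algebraMap_eq (fun a => congr($(h3).hom a))
  exact Fib.ascend hfibκ

/-- the fibrewise hypothesis gives the ring-level fibre condition at every prime of the base -/
theorem fib_of_fibrewise (H : ∀ s : S, RestrBC f F U (S.fromSpecResidueField s))
    {S₀ : S.Opens} (hS₀ : IsAffineOpen S₀) {U₀ : X.Opens} (hU₀ : IsAffineOpen U₀)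
    (eU : U₀ ≤ f ⁻¹ᵁ S₀) (𝔭 : Ideal Γ(S, S₀)) [𝔭.IsPrime] :
    letI := (f.appLE S₀ U₀ eU).hom.toAlgebra
    letI := modSecBase f F eU
    haveI := isScalarTower_sections f F eU
    Fib Γ(S, S₀) (vanIdeal U₀ U) Γ(F, U₀) 𝔭.ResidueField := by
  let q₀ : Spec (CommRingCat.of 𝔭.ResidueField) ⟶ S :=
    Spec.map (CommRingCat.ofHom (algebraMap Γ(S, S₀) 𝔭.ResidueField)) ≫ hS₀.fromSpec
  obtain ⟨s, φ, hφ⟩ : ∃ (s : S) (φ : S.residueField s ⟶ CommRingCat.of 𝔭.ResidueField),
      q₀ = Spec.map φ ≫ S.fromSpecResidueField s :=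
    ⟨_, _, (Scheme.descResidueField_stalkClosedPointTo_fromSpecResidueField _ S q₀).symm⟩
  have hs : s ∈ S₀ := by
    let z : Spec (CommRingCat.of 𝔭.ResidueField) := ⟨⊥, Ideal.isPrime_bot⟩
    have h1 : q₀ z = s := by
      rw [hφ, Scheme.Hom.comp_apply]
      exact Scheme.fromSpecResidueField_apply _ _
    have h2 : q₀ z ∈ S₀ := by
      have := Set.mem_range_self (f := hS₀.fromSpec)
        ((Spec.map (CommRingCat.ofHom (algebraMap Γ(S, S₀) 𝔭.ResidueField))) z)
      rw [hS₀.range_fromSpec] at this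
      exact this
    rwa [h1] at h2
  have hev : Spec.map (S.evaluation S₀ s hs) ≫ hS₀.fromSpec = S.fromSpecResidueField s :=
    Groth.Agent.Lib.helper3.FibreChart.SpecMap_evaluation_fromSpec hS₀ s hs
  exact fib_of_field_aux f F U (S.fromSpecResidueField s) (H s) hS₀ hU₀ eU 𝔭
    (S.evaluation S₀ s hs) hev φ hφ

/-- **EGA IV 11.10.10 (sufficiency)**: for `f` locally of finite presentation and `F`
quasi-coherent of finite presentation and flat over `S`, injectivity of restriction to `U` on the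
fibres implies injectivity of restriction to the preimage of `U` after every base change. -/
theorem restrBC_of_fibrewise [LocallyOfFinitePresentation f]
    (hF : SheafOfModules.IsFinitePresentation (R := X.ringCatSheaf) F)
    (hflat : FlatMod.IsFlatOver f F)
    (H : ∀ s : S, RestrBC f F U (S.fromSpecResidueField s)) {S' : Scheme.{u}} (g : S' ⟶ S) :
    RestrBC f F U g := by
  haveI : ((Scheme.Modules.pullback (pullback.fst f g)).obj F).IsQuasicoherent :=
    Groth.Agent.Lib.helper16.QCohPullback.isQuasicoherent_pullback _ F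
  refine restrInj_of_idSep _ _ (fun x => ?_)
  obtain ⟨S₀, hS₀, hxS₀, -⟩ := exists_isAffineOpen_mem_and_subset
    (x := f ((pullback.fst f g) x)) (U := ⊤) (Opens.mem_top _)
  have hxS₀' : g ((pullback.snd f g) x) ∈ S₀ := by
    rw [← Scheme.Hom.comp_apply, ← pullback.condition, Scheme.Hom.comp_apply]
    exact hxS₀
  obtain ⟨U₀, hU₀, hxU₀, eU⟩ := exists_isAffineOpen_mem_and_subset
    (x := (pullback.fst f g) x) (U := f ⁻¹ᵁ S₀) hxS₀
  obtain ⟨T, hT, hxT, eT⟩ := exists_isAffineOpen_mem_and_subset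
    (x := (pullback.snd f g) x) (U := g ⁻¹ᵁ S₀) hxS₀'
  letI algAB : Algebra Γ(S, S₀) Γ(X, U₀) := (f.appLE S₀ U₀ eU).hom.toAlgebra
  letI algAC : Algebra Γ(S, S₀) Γ(S', T) := (g.appLE S₀ T eT).hom.toAlgebra
  letI modAM := modSecBase f F eU
  haveI := isScalarTower_sections f F eU
  have hA : CommRingCat.ofHom (algebraMap Γ(S, S₀) Γ(X, U₀)) = f.appLE S₀ U₀ eU := rfl
  have hA' := hA_spec f hS₀ hU₀ eU hA
  have hB : Spec.map (CommRingCat.ofHom (algebraMap Γ(S, S₀) Γ(S', T))) ≫ hS₀.fromSpec =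
      hT.fromSpec ≫ g := IsAffineOpen.SpecMap_appLE_fromSpec g hS₀ hT eT
  have hxW₀ : x ∈ (chart f g hS₀ hU₀ hT.fromSpec hA' hB) ''ᵁ ⊤ := by
    obtain ⟨z, hz⟩ := mem_range_chart f g hS₀ hU₀ hT.fromSpec hA' hB x hxU₀ (by
      rw [hT.range_fromSpec]
      exact hxT)
    exact ⟨z, trivial, hz⟩
  refine ⟨_, isAffineOpen_chart f g hS₀ hU₀ hT.fromSpec hA' hB, hxW₀, ?_⟩
  refine idSep_chart f g F U hS₀ hU₀ hT.fromSpec hA' hB ?_
  haveI : Algebra.FinitePresentation Γ(S, S₀) Γ(X, U₀) :=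
    HasRingHomProperty.appLE (P := @LocallyOfFinitePresentation) f
      ‹LocallyOfFinitePresentation f› ⟨S₀, hS₀⟩ ⟨U₀, hU₀⟩ eU
  haveI : Module.FinitePresentation Γ(X, U₀) Γ(F, U₀) :=
    Groth.Agent.Lib.helper16.CohFP.fp_sections_of_isFinitePresentation F hF hU₀
  haveI : Module.Flat Γ(S, S₀) Γ(F, U₀) :=
    flat_sections_of_isFlatOverAt f F eU hU₀ hS₀ (fun x _ => hflat x)
  exact idSep_baseChange (I := vanIdeal U₀ U) (M := Γ(F, U₀)) Γ(S', T)
    (fun 𝔭 _ => fib_of_fibrewise f F U H hS₀ hU₀ eU 𝔭)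

end Main

end Groth.Agent.Lib.helper3.RestrSep
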