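import Mathlib
import Groth.Prelude.Def_RootCh2

/-! Foundations for the `RootCh` family: reflected bases, positivity, distance between bases. -/

set_option autoImplicit false
set_option linter.unusedSectionVars false
set_option linter.unusedSimpArgs false

namespace Groth.Agent.Lib.helper3.RootChL

open RootPairing

variable {ι R M N : Type*} [Field R] [LinearOrder R] [IsStrictOrderedRing R]
  [AddCommGroup M] [Module R M] [AddCommGroup N] [Module R N]
  {P : RootPairing ι R M N}

lemma base_ext {b b' : P.Base} (h : b.support = b'.support) : b = b' := by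
  cases b; cases b'; simp_all

/-- The image of a base under the reflection in the root `i`. -/
noncomputable def reflBase (b : P.Base) (i : ι) : P.Base where
  support := b.support.map (P.reflectionPerm i).toEmbedding
  linearIndepOn_root := by
    have h1 : LinearIndepOn R ((P.reflection i : M →ₗ[R] M) ∘ P.root) (b.support : Set ι) :=
      b.linearIndepOn_root.map_injOn _ (P.reflection i).injective.injOn
    have h2 : LinearIndepOn R (P.root ∘ (P.reflectionPerm i)) (b.support : Set ι) := by
      convert h1 using 1
      ext j
      simp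
    have := LinearIndepOn.image_of_comp _ _ h2
    simpa using this
  linearIndepOn_coroot := by
    have h1 : LinearIndepOn R ((P.coreflection i : N →ₗ[R] N) ∘ P.coroot) (b.support : Set ι) :=
      b.linearIndepOn_coroot.map_injOn _ (P.coreflection i).injective.injOn
    have h2 : LinearIndepOn R (P.coroot ∘ (P.reflectionPerm i)) (b.support : Set ι) := by
      convert h1 using 1
      ext j
      simp
    have := LinearIndepOn.image_of_comp _ _ h2
    simpa using this
  root_mem_or_neg_mem j := by
    have key : ∀ x ∈ AddSubmonoid.closure (P.root '' (b.support : Set ι)),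
        P.reflection i x ∈ AddSubmonoid.closure
          (P.root '' ((b.support.map (P.reflectionPerm i).toEmbedding : Finset ι) : Set ι)) := by
      intro x hx
      refine AddSubmonoid.closure_induction ?_ ?_ ?_ hx
      · rintro - ⟨k, hk, rfl⟩
        apply AddSubmonoid.subset_closure
        refine ⟨P.reflectionPerm i k, ?_, by simp⟩
        simpa using hk
      · simp
      · intro x y _ _ hx hy
        rw [map_add]
        exact add_mem hx hy
    rcases b.root_mem_or_neg_mem (P.reflectionPerm i j) with h | h
    · left
      have := key _ h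
      simpa using this
    · right
      have := key _ h
      simpa using this
  coroot_mem_or_neg_mem j := by
    have key : ∀ x ∈ AddSubmonoid.closure (P.coroot '' (b.support : Set ι)),
        P.coreflection i x ∈ AddSubmonoid.closure
          (P.coroot '' ((b.support.map (P.reflectionPerm i).toEmbedding : Finset ι) : Set ι)) := by
      intro x hx
      refine AddSubmonoid.closure_induction ?_ ?_ ?_ hx
      · rintro - ⟨k, hk, rfl⟩
        apply AddSubmonoid.subset_closure
        refine ⟨P.reflectionPerm i k, ?_, by simp⟩
        simpa using hk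
      · simp
      · intro x y _ _ hx hy
        rw [map_add]
        exact add_mem hx hy
    rcases b.coroot_mem_or_neg_mem (P.reflectionPerm i j) with h | h
    · left
      have := key _ h
      simpa using this
    · right
      have := key _ h
      simpa using this

@[simp] lemma reflBase_support (b : P.Base) (i : ι) :
    (reflBase b i).support = b.support.map (P.reflectionPerm i).toEmbedding := rfl

lemma mem_reflBase_support {b : P.Base} {i j : ι} :
    j ∈ (reflBase b i).support ↔ P.reflectionPerm i j ∈ b.support := by
  simp only [reflBase_support, Finset.mem_map, Equiv.coe_toEmbedding]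
  constructor
  · rintro ⟨k, hk, rfl⟩
    simpa using hk
  · intro h
    exact ⟨_, h, by simp⟩

lemma reflBase_reflBase (b : P.Base) (i : ι) : reflBase (reflBase b i) i = b := by
  apply base_ext
  ext j
  simp [mem_reflBase_support]


/-! ### Positivity -/

lemma exists_nat_of_mem_closure (b : P.Base) {x : M}
    (hx : x ∈ AddSubmonoid.closure (P.root '' (b.support : Set ι))) :
    ∃ f : ι → ℕ, x = ∑ k ∈ b.support, f k • P.root k := by
  classical
  induction hx using AddSubmonoid.closure_induction with
  | mem x hx =>
    obtain ⟨j, hj, rfl⟩ := hx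
    refine ⟨Pi.single j 1, ?_⟩
    rw [Finset.sum_eq_single_of_mem j hj]
    · simp
    · intro k _ hk
      simp [Pi.single_apply, hk]
  | zero => exact ⟨0, by simp⟩
  | add x y _ _ hx hy =>
    obtain ⟨f, hf⟩ := hx
    obtain ⟨g, hg⟩ := hy
    exact ⟨f + g, by simp [hf, hg, add_smul, Finset.sum_add_distrib]⟩

lemma sum_nat_mem_closure (b : P.Base) (f : ι → ℕ) :
    ∑ k ∈ b.support, f k • P.root k ∈ AddSubmonoid.closure (P.root '' (b.support : Set ι)) := by
  refine sum_mem fun k hk => ?_
  exact nsmul_mem (AddSubmonoid.subset_closure (Set.mem_image_of_mem _ hk)) _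

lemma isPos_iff_mem_closure (b : P.Base) (j : ι) :
    b.IsPos j ↔ P.root j ∈ AddSubmonoid.closure (P.root '' (b.support : Set ι)) := by
  constructor
  · intro h
    rcases b.root_mem_or_neg_mem j with h' | h'
    · exact h'
    · exfalso
      obtain ⟨f, hf⟩ := exists_nat_of_mem_closure b h'
      have h2 : P.root j = ∑ k ∈ b.support, (fun k => -(f k : ℤ)) k • P.root k := by
        rw [← neg_neg (P.root j), hf]
        simp [Finset.sum_neg_distrib]
      rw [b.isPos_iff, RootPairing.Base.height_eq_sum h2] at h
      have : (0 : ℤ) ≤ ∑ k ∈ b.support, (f k : ℤ) := Finset.sum_nonneg fun _ _ => by positivity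
      simp only [Finset.sum_neg_distrib] at h
      omega
  · intro h
    obtain ⟨f, hf⟩ := exists_nat_of_mem_closure b h
    have h2 : P.root j = ∑ k ∈ b.support, (fun k => (f k : ℤ)) k • P.root k := by
      rw [hf]
      simp
    rw [b.isPos_iff', RootPairing.Base.height_eq_sum h2]
    exact Finset.sum_nonneg fun _ _ => by positivity

lemma isPos_neg_iff (b : P.Base) (j : ι) :
    b.IsPos (P.reflectionPerm j j) ↔ ¬ b.IsPos j :=
  RootPairing.Base.IsPos.neg_iff_not b j

lemma reflection_mem_closure_reflBase (b : P.Base) (i : ι) {x : M}
    (hx : x ∈ AddSubmonoid.closure (P.root '' (b.support : Set ι))) :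
    P.reflection i x ∈ AddSubmonoid.closure (P.root '' ((reflBase b i).support : Set ι)) := by
  refine AddSubmonoid.closure_induction ?_ ?_ ?_ hx
  · rintro - ⟨k, hk, rfl⟩
    apply AddSubmonoid.subset_closure
    refine ⟨P.reflectionPerm i k, ?_, by simp⟩
    simpa using hk
  · simp
  · intro x y _ _ hx hy
    rw [map_add]
    exact add_mem hx hy

lemma isPos_reflBase_iff (b : P.Base) (i j : ι) :
    (reflBase b i).IsPos j ↔ b.IsPos (P.reflectionPerm i j) := by
  constructor
  · intro h
    rw [isPos_iff_mem_closure] at h ⊢
    have := reflection_mem_closure_reflBase (reflBase b i) i h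
    rwa [reflBase_reflBase, ← root_reflectionPerm] at this
  · intro h
    rw [isPos_iff_mem_closure] at h ⊢
    have := reflection_mem_closure_reflBase b i h
    rwa [← root_reflectionPerm, reflectionPerm_self] at this

section Reduced

variable [Finite ι] [P.IsCrystallographic] [P.IsReduced]

/-- Reflecting in a simple root only changes the sign of that root. -/
lemma isPos_reflBase_of_ne {b : P.Base} {i : ι} (hi : i ∈ b.support) {j : ι} (hj : j ≠ i)
    (hj' : j ≠ P.reflectionPerm i i) : (reflBase b i).IsPos j ↔ b.IsPos j := by
  rw [isPos_reflBase_iff]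
  constructor
  · intro h
    have h1 : P.reflectionPerm i j ≠ i := by
      intro h2
      apply hj'
      rw [← P.reflectionPerm_self i j, h2]
    have := h.reflectionPerm hi h1
    rwa [reflectionPerm_self] at this
  · intro h
    exact h.reflectionPerm hi hj

lemma not_isPos_reflBase_self {b : P.Base} {i : ι} (hi : i ∈ b.support) :
    ¬ (reflBase b i).IsPos i := by
  rw [isPos_reflBase_iff, isPos_neg_iff]
  exact not_not.2 (RootPairing.Base.isPos_of_mem_support hi)

lemma isPos_reflBase_neg_self {b : P.Base} {i : ι} (hi : i ∈ b.support) :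
    (reflBase b i).IsPos (P.reflectionPerm i i) := by
  rw [isPos_reflBase_iff, reflectionPerm_self]
  exact RootPairing.Base.isPos_of_mem_support hi

/-- The hypothesis of axiom (B2) for a base and its reflection in a simple root. -/
lemma isPos_and_not_isPos_reflBase_iff {b : P.Base} {i : ι} (hi : i ∈ b.support) (j : ι) :
    (b.IsPos j ∧ ¬ (reflBase b i).IsPos j) ↔ j = i := by
  constructor
  · rintro ⟨h1, h2⟩
    by_contra hne
    by_cases hj' : j = P.reflectionPerm i i
    · subst hj'
      rw [isPos_neg_iff] at h1
      exact h1 (RootPairing.Base.isPos_of_mem_support hi)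
    · exact h2 ((isPos_reflBase_of_ne hi hne hj').2 h1)
  · rintro rfl
    exact ⟨RootPairing.Base.isPos_of_mem_support hi, not_isPos_reflBase_self hi⟩

/-- A simple root of `b` is simple for any base with the same positive roots. -/
lemma support_subset_of_isPos_iff {b b' : P.Base} (h : ∀ j, b.IsPos j ↔ b'.IsPos j) :
    b.support ⊆ b'.support := by
  intro i hi
  by_contra hi'
  have hpos : b'.IsPos i := (h i).1 (RootPairing.Base.isPos_of_mem_support hi)
  obtain ⟨k, hk, hk0⟩ := hpos.exists_mem_support_pos_pairingIn
  have hik : i ≠ k := fun e => hi' (e ▸ hk)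
  have hk0' : 0 < P.pairingIn ℤ i k := (P.zero_lt_pairingIn_iff' ℤ).1 hk0
  obtain ⟨l, hl⟩ := P.root_sub_root_mem_of_pairingIn_pos hk0' hik
  have hlpos : b'.IsPos l := hpos.sub hk hl
  have hsum : P.root i = P.root l + P.root k := by rw [hl]; abel
  have h1 := b.height_add hsum
  rw [RootPairing.Base.height_one_of_mem_support hi] at h1
  have h2 : 0 < b.height l := (h l).2 hlpos
  have h3 : 0 < b.height k := (h k).2 (RootPairing.Base.isPos_of_mem_support hk)
  omega

/-- A base all of whose simple roots are positive for `b₀` equals `b₀`. -/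
lemma eq_of_forall_isPos {b₀ b : P.Base} (h : ∀ i ∈ b.support, b₀.IsPos i) : b = b₀ := by
  have h1 : ∀ j, b.IsPos j → b₀.IsPos j := by
    intro j hj
    rw [isPos_iff_mem_closure] at hj ⊢
    refine (AddSubmonoid.closure_le.2 ?_) hj
    rintro - ⟨k, hk, rfl⟩
    exact (isPos_iff_mem_closure b₀ k).1 (h k hk)
  have h2 : ∀ j, b.IsPos j ↔ b₀.IsPos j := by
    intro j
    refine ⟨h1 j, fun hj => ?_⟩
    by_contra hj'
    have := h1 _ ((isPos_neg_iff b j).2 hj')
    exact (isPos_neg_iff b₀ j).1 this hj
  apply base_ext
  exact subset_antisymm (support_subset_of_isPos_iff h2)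
    (support_subset_of_isPos_iff fun j => (h2 j).symm)

/-- The number of roots positive for `b₀` but not for `b`. -/
noncomputable def bdist (b₀ b : P.Base) : ℕ := {j | b₀.IsPos j ∧ ¬ b.IsPos j}.ncard

lemma bdist_reflBase {b₀ b : P.Base} {i : ι} (hi : i ∈ b.support) (hneg : ¬ b₀.IsPos i) :
    bdist b₀ (reflBase b i) + 1 = bdist b₀ b := by
  have hfin : ({j | b₀.IsPos j ∧ ¬ (reflBase b i).IsPos j} : Set ι).Finite := Set.toFinite _
  have hset : {j | b₀.IsPos j ∧ ¬ b.IsPos j} =
      insert (P.reflectionPerm i i) {j | b₀.IsPos j ∧ ¬ (reflBase b i).IsPos j} := by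
    ext j
    simp only [Set.mem_ofPred_eq, Set.mem_insert_iff]
    by_cases hj : j = i
    · subst hj
      constructor
      · rintro ⟨h1, _⟩
        exact absurd h1 hneg
      · rintro (h1 | ⟨h1, _⟩)
        · exfalso
          have := P.ne_neg j
          exact this h1
        · exact absurd h1 hneg
    by_cases hj' : j = P.reflectionPerm i i
    · subst hj'
      simp only [true_or, iff_true]
      refine ⟨(isPos_neg_iff b₀ i).2 hneg, ?_⟩
      rw [isPos_neg_iff]
      exact not_not.2 (RootPairing.Base.isPos_of_mem_support hi)
    · rw [isPos_reflBase_of_ne hi hj hj']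
      simp [hj']
  have hnot : P.reflectionPerm i i ∉ {j | b₀.IsPos j ∧ ¬ (reflBase b i).IsPos j} := by
    intro h
    exact h.2 (isPos_reflBase_neg_self hi)
  rw [bdist, bdist, hset, Set.ncard_insert_of_notMem hnot hfin]

/-- Induction over bases starting from `b₀`, moving by reflections in simple roots that are
negative for `b₀`. -/
lemma base_induction (b₀ : P.Base) (Q : P.Base → Prop) (h0 : Q b₀)
    (hstep : ∀ b : P.Base, ∀ i ∈ b.support, ¬ b₀.IsPos i → Q (reflBase b i) → Q b) :
    ∀ b, Q b := by
  intro b
  induction hn : bdist b₀ b using Nat.strong_induction_on generalizing b with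
  | _ n ih =>
    by_cases hb : b = b₀
    · rw [hb]; exact h0
    · have : ¬ ∀ i ∈ b.support, b₀.IsPos i := fun h => hb (eq_of_forall_isPos h)
      simp only [not_forall] at this
      obtain ⟨i, hi, hneg⟩ := this
      have hd := bdist_reflBase hi hneg
      exact hstep b i hi hneg (ih (bdist b₀ (reflBase b i)) (by omega) _ rfl)

end Reduced

end Groth.Agent.Lib.helper3.RootChL
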