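import Groth.Agent.Lib.Helper3.RootChA

/-! Foundations for the `RootCh` family: fundamental weights, chambers, the master lemma. -/

set_option autoImplicit false
set_option linter.unusedSectionVars false
set_option linter.unusedSimpArgs false
set_option linter.style.haveILetI false

namespace Groth.Agent.Lib.helper3.RootChL

open RootPairing RootCh

variable {ι R M N : Type*} [Field R] [LinearOrder R] [IsStrictOrderedRing R]
  [AddCommGroup M] [Module R M] [AddCommGroup N] [Module R N]
  {P : RootPairing ι R M N} [P.IsRootSystem]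

open scoped Classical in
lemma coroot'_fundWeight (b : P.Base) (i j : b.support) :
    P.coroot' j (fundWeight b i) = if j = i then 1 else 0 := by
  split_ifs with h
  · subst h; exact coroot'_fundWeight_self b j
  · exact coroot'_fundWeight_of_ne b i j h

/-- A vector pairing to zero with all simple coroots of a base is zero. -/
lemma eq_zero_of_forall_coroot'_eq_zero (b : P.Base) {x : M}
    (h : ∀ i ∈ b.support, P.coroot' i x = 0) : x = 0 := by
  have h1 : P.toLinearMap x = 0 := by
    apply b.toCoweightBasis.ext
    intro i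
    rw [b.toCoweightBasis_apply]
    simpa using h i i.2
  have hinj : Function.Injective P.toLinearMap := (LinearMap.IsPerfPair.bijective_left _).injective
  exact hinj (by simpa using h1)

lemma eq_of_forall_coroot'_eq (b : P.Base) {x y : M}
    (h : ∀ i ∈ b.support, P.coroot' i x = P.coroot' i y) : x = y := by
  rw [← sub_eq_zero]
  apply eq_zero_of_forall_coroot'_eq_zero b
  intro i hi
  rw [map_sub, h i hi, sub_self]

/-- Expansion of a vector in the basis of fundamental weights. -/
lemma eq_sum_fundWeight (b : P.Base) (x : M) :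
    x = ∑ i : b.support, P.coroot' i x • fundWeight b i := by
  classical
  apply eq_of_forall_coroot'_eq b
  intro j hj
  rw [map_sum]
  simp only [map_smul, smul_eq_mul]
  rw [Finset.sum_eq_single (⟨j, hj⟩ : b.support)]
  · rw [coroot'_fundWeight_self b ⟨j, hj⟩, mul_one]
  · intro k _ hk
    rw [coroot'_fundWeight_of_ne b k ⟨j, hj⟩ (Ne.symm hk), mul_zero]
  · intro h; exact absurd (Finset.mem_univ _) h

open scoped Classical in
lemma fundWeight_eq_of_forall (b : P.Base) (i : b.support) {x : M}
    (h : ∀ j : b.support, P.coroot' j x = if j = i then 1 else 0) : x = fundWeight b i := by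
  apply eq_of_forall_coroot'_eq b
  intro j hj
  rw [h ⟨j, hj⟩, coroot'_fundWeight b i ⟨j, hj⟩]

lemma fundWeight_ne_zero (b : P.Base) (i : b.support) : fundWeight b i ≠ 0 := by
  intro h
  have := coroot'_fundWeight_self b i
  rw [h, map_zero] at this
  exact zero_ne_one this

lemma fundWeight_injective (b : P.Base) : Function.Injective (fundWeight b) := by
  intro i j h
  by_contra hij
  have h1 := coroot'_fundWeight_self b i
  rw [h, coroot'_fundWeight_of_ne b j i hij] at h1
  exact zero_ne_one h1

/-- The index in the reflected base corresponding to `j`. -/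
def reflIdx (b : P.Base) (i : ι) (j : b.support) : (reflBase b i).support :=
  ⟨P.reflectionPerm i j, by rw [mem_reflBase_support, reflectionPerm_self]; exact j.2⟩

lemma fundWeight_reflBase (b : P.Base) (i : ι) (j : b.support) :
    fundWeight (reflBase b i) (reflIdx b i j) = P.reflection i (fundWeight b j) := by
  symm
  apply fundWeight_eq_of_forall
  intro k
  rw [coroot'_reflection]
  have hk : P.reflectionPerm i k ∈ b.support := mem_reflBase_support.1 k.2
  have := coroot'_fundWeight b j ⟨_, hk⟩
  rw [this]
  congr 1
  simp only [reflIdx, Subtype.ext_iff, eq_iff_iff]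
  constructor
  · intro h; rw [← h, reflectionPerm_self]
  · intro h; rw [h, reflectionPerm_self]

lemma reflIdx_surjective (b : P.Base) (i : ι) : Function.Surjective (reflIdx b i) := by
  intro k
  refine ⟨⟨P.reflectionPerm i k, mem_reflBase_support.1 k.2⟩, ?_⟩
  simp [reflIdx, Subtype.ext_iff]

/-- Reflection in a simple root fixes the other fundamental weights. -/
lemma reflection_fundWeight_of_ne (b : P.Base) (i j : b.support) (h : i ≠ j) :
    P.reflection i (fundWeight b j) = fundWeight b j := by
  rw [reflection_apply, coroot'_fundWeight_of_ne b j i h, zero_smul, sub_zero]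

lemma reflection_fundWeight_self (b : P.Base) (i : b.support) :
    P.reflection i (fundWeight b i) = fundWeight b i - P.root i := by
  rw [reflection_apply, coroot'_fundWeight_self b i, one_smul]


/-! ### Invariant forms -/

omit [P.IsRootSystem] in
/-- For a bilinear form invariant under the reflection `i`:
`B(αᵢ, αᵢ) ⟨x, αᵢ^∨⟩ = 2 B(x, αᵢ)`. -/
lemma form_root_mul_coroot' (B : LinearMap.BilinForm R M) (i : ι)
    (hB : ∀ x y, B (P.reflection i x) (P.reflection i y) = B x y) (x : M) :
    B (P.root i) (P.root i) * P.coroot' i x = 2 * B x (P.root i) := by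
  have h := hB x (P.root i)
  rw [reflection_apply_self, reflection_apply, map_neg, map_sub, LinearMap.sub_apply, map_smul,
    LinearMap.smul_apply, smul_eq_mul] at h
  linarith

section Fin

variable [Finite ι]

variable (P) in
/-- The canonical invariant form (root form) for a finite index type. -/
noncomputable def iform : LinearMap.BilinForm R M :=
  letI := Fintype.ofFinite ι
  P.RootForm

omit [P.IsRootSystem] in
lemma iform_symm (x y : M) : iform P x y = iform P y x := by
  letI := Fintype.ofFinite ι
  have := P.rootForm_symmetric.eq x y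
  simpa [iform] using this

omit [P.IsRootSystem] in
lemma iform_reflection (i : ι) (x y : M) :
    iform P (P.reflection i x) (P.reflection i y) = iform P x y := by
  letI := Fintype.ofFinite ι
  exact P.rootForm_reflection_reflection_apply i x y

lemma iform_pos {x : M} (hx : x ≠ 0) : 0 < iform P x x := by
  letI := Fintype.ofFinite ι
  exact P.rootForm_pos_of_ne_zero (by simp [rootSpan]) hx

lemma iform_root_pos (i : ι) : 0 < iform P (P.root i) (P.root i) := iform_pos (P.ne_zero i)

omit [P.IsRootSystem] in
lemma iform_root_mul_coroot' (i : ι) (x : M) :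
    iform P (P.root i) (P.root i) * P.coroot' i x = 2 * iform P x (P.root i) :=
  form_root_mul_coroot' _ i (iform_reflection i) x

/-- Expansion of the pairing with a coroot whose root is a combination of simple roots. -/
lemma coroot'_expand (b : P.Base) {k : ι} (n : ι → ℕ)
    (hn : P.root k = ∑ l ∈ b.support, n l • P.root l) (x : M) :
    iform P (P.root k) (P.root k) * P.coroot' k x =
      ∑ l ∈ b.support, (n l : R) * (iform P (P.root l) (P.root l) * P.coroot' l x) := by
  rw [iform_root_mul_coroot', hn, map_sum, Finset.mul_sum]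
  refine Finset.sum_congr rfl fun l _ => ?_
  rw [iform_root_mul_coroot', map_nsmul, nsmul_eq_mul]
  ring

lemma exists_nat_of_isPos (b : P.Base) {k : ι} (hk : b.IsPos k) :
    ∃ n : ι → ℕ, P.root k = ∑ l ∈ b.support, n l • P.root l :=
  exists_nat_of_mem_closure b ((isPos_iff_mem_closure b k).1 hk)

lemma coroot'_nonneg_of_isPos {b : P.Base} {x : M} (hx : x ∈ closedChamber b) {k : ι}
    (hk : b.IsPos k) : 0 ≤ P.coroot' k x := by
  obtain ⟨n, hn⟩ := exists_nat_of_isPos b hk
  have h := coroot'_expand b n hn x
  have h1 : 0 ≤ ∑ l ∈ b.support, (n l : R) * (iform P (P.root l) (P.root l) * P.coroot' l x) :=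
    Finset.sum_nonneg fun l hl =>
      mul_nonneg (Nat.cast_nonneg _) (mul_nonneg (iform_root_pos l).le (hx l hl))
  rw [← h] at h1
  exact nonneg_of_mul_nonneg_right h1 (iform_root_pos k)

lemma coroot'_nonpos_of_not_isPos {b : P.Base} {x : M} (hx : x ∈ closedChamber b) {k : ι}
    (hk : ¬ b.IsPos k) : P.coroot' k x ≤ 0 := by
  have h2 : P.coroot' (P.reflectionPerm k k) x = - P.coroot' k x := by
    rw [coroot'_reflectionPerm, LinearMap.comp_apply, LinearEquiv.coe_coe, reflection_apply,
      map_sub, map_smul, smul_eq_mul]
    have : P.coroot' k (P.root k) = 2 := by simp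
    rw [this]; ring
  have h3 := coroot'_nonneg_of_isPos hx ((isPos_neg_iff b k).2 hk)
  rw [h2] at h3
  linarith

omit [P.IsRootSystem] in
/-- For large `t`, the vector `ζ + t • x` has the strict signs of `x`. -/
lemma exists_large (x ζ : M) : ∃ t : R, 0 < t ∧ ∀ k,
    (0 < P.coroot' k x → 0 < P.coroot' k (ζ + t • x)) ∧
    (P.coroot' k x < 0 → P.coroot' k (ζ + t • x) < 0) := by
  letI := Fintype.ofFinite ι
  set T : R := ∑ k, |P.coroot' k ζ| / |P.coroot' k x| with hT
  have hT0 : 0 ≤ T := Finset.sum_nonneg fun k _ => div_nonneg (abs_nonneg _) (abs_nonneg _)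
  have key : ∀ k, P.coroot' k x ≠ 0 → |P.coroot' k ζ| < (T + 1) * |P.coroot' k x| := by
    intro k hk
    have h1 : |P.coroot' k ζ| / |P.coroot' k x| ≤ T :=
      Finset.single_le_sum (f := fun k => |P.coroot' k ζ| / |P.coroot' k x|)
        (fun k _ => div_nonneg (abs_nonneg _) (abs_nonneg _)) (Finset.mem_univ k)
    have h2 : 0 < |P.coroot' k x| := abs_pos.2 hk
    rw [div_le_iff₀ h2] at h1
    nlinarith
  refine ⟨T + 1, by linarith, fun k => ⟨fun hk => ?_, fun hk => ?_⟩⟩
  · have h := key k hk.ne'
    rw [abs_of_pos hk] at h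
    rw [map_add, map_smul, smul_eq_mul]
    have := neg_abs_le (P.coroot' k ζ)
    linarith
  · have h := key k hk.ne
    rw [abs_of_neg hk] at h
    rw [map_add, map_smul, smul_eq_mul]
    have := le_abs_self (P.coroot' k ζ)
    linarith

omit [P.IsRootSystem] in
lemma exists_regular : ∃ ζ : M, ∀ k, P.coroot' k ζ ≠ 0 := by
  haveI : Infinite R := Infinite.of_injective (fun n : ℕ => (n : R)) Nat.cast_injective
  refine Module.Dual.exists_forall_ne_zero_of_forall_exists (fun k => P.coroot' k) fun k => ?_
  exact ⟨P.root k, by simp⟩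

section Reduced

variable [P.IsCrystallographic] [P.IsReduced]

/-- A regular vector lies in the open chamber of some base. -/
lemma exists_base_of_regular (x' : M) (hx' : ∀ k, P.coroot' k x' ≠ 0) :
    ∃ b : P.Base, ∀ i ∈ b.support, 0 < P.coroot' i x' := by
  let f : Module.Dual R M := iform P x'
  have hfk : ∀ k, f (P.root k) = iform P (P.root k) (P.root k) * P.coroot' k x' / 2 := by
    intro k
    have := iform_root_mul_coroot' (P := P) k x'
    change iform P x' (P.root k) = _
    linarith
  have hf : ∀ k, f (P.root k) ≠ 0 := by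
    intro k
    rw [hfk]
    exact div_ne_zero (mul_ne_zero (iform_root_pos k).ne' (hx' k)) two_ne_zero
  let := P.indexNeg
  have hli := P.linearIndepOn_root_baseOf' (S := R) f hf
  have hsp : ∀ i, P.root i ∈ AddSubmonoid.closure
        (P.root '' IsAddIndecomposable.baseOf P.root (f : M →+ R)) ∨
      -P.root i ∈ AddSubmonoid.closure
        (P.root '' IsAddIndecomposable.baseOf P.root (f : M →+ R)) :=
    fun i => IsAddIndecomposable.mem_or_neg_mem_closure_baseOf P.root (f : M →+ R) i (hf i)
      (by simp)
  refine ⟨RootPairing.Base.mk' P _ hli hsp, fun i hi => ?_⟩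
  have hi' : i ∈ IsAddIndecomposable.baseOf P.root (f : M →+ R) := by
    simpa [RootPairing.Base.mk'] using hi
  have h0 : 0 < f (P.root i) := IsAddIndecomposable.baseOf_subset_pos _ _ hi'
  rw [hfk] at h0
  have h1 : 0 < iform P (P.root i) (P.root i) * P.coroot' i x' := by linarith
  exact (pos_iff_pos_of_mul_pos h1).1 (iform_root_pos i)

/-- Every vector lies in the closed chamber of some base. -/
lemma exists_base_closedChamber (x : M) : ∃ b : P.Base, x ∈ closedChamber b := by
  obtain ⟨ζ, hζ⟩ := exists_regular (P := P)
  obtain ⟨t, ht, hL⟩ := exists_large (P := P) x ζ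
  have hreg : ∀ k, P.coroot' k (ζ + t • x) ≠ 0 := by
    intro k
    rcases lt_trichotomy (P.coroot' k x) 0 with h | h | h
    · exact ((hL k).2 h).ne
    · rw [map_add, map_smul, h, smul_zero, add_zero]; exact hζ k
    · exact ((hL k).1 h).ne'
  obtain ⟨b, hb⟩ := exists_base_of_regular (ζ + t • x) hreg
  refine ⟨b, fun i hi => ?_⟩
  by_contra h
  exact absurd (hb i hi) (not_lt.2 ((hL i).2 (not_le.1 h)).le)

/-- Two vectors: there is a base whose closed chamber contains `x₀` and `ξ + t • x₀` for some
`t > 0`. -/
lemma exists_base_closedChamber₂ (x₀ ξ : M) :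
    ∃ b : P.Base, ∃ t : R, 0 < t ∧ x₀ ∈ closedChamber b ∧ ξ + t • x₀ ∈ closedChamber b := by
  obtain ⟨t, ht, hL⟩ := exists_large (P := P) x₀ ξ
  obtain ⟨b, hb⟩ := exists_base_closedChamber (P := P) (ξ + t • x₀)
  refine ⟨b, t, ht, fun i hi => ?_, hb⟩
  by_contra h
  exact absurd (hb i hi) (not_le.2 ((hL i).2 (not_le.1 h)))

end Reduced

end Fin

end Groth.Agent.Lib.helper3.RootChL
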