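import Groth.Agent.Lib.Helper3.RootChB

/-! Foundations for the `RootCh` family: coweights under reflection, the master lemma on corners. -/

set_option autoImplicit false
set_option linter.unusedSectionVars false
set_option linter.unusedSimpArgs false
set_option linter.style.haveILetI false

namespace Groth.Agent.Lib.helper3.RootChL

open RootPairing RootCh

variable {ι R M N : Type*} [Field R] [LinearOrder R] [IsStrictOrderedRing R]
  [AddCommGroup M] [Module R M] [AddCommGroup N] [Module R N]
  {P : RootPairing ι R M N} [P.IsRootSystem]

lemma fundCoweight_reflBase (b : P.Base) (i : ι) (j : b.support) :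
    fundCoweight (reflBase b i) (reflIdx b i j) = P.coreflection i (fundCoweight b j) :=
  fundWeight_reflBase (P := P.flip) b.flip i j

lemma coreflection_fundCoweight_of_ne (b : P.Base) (i j : b.support) (h : i ≠ j) :
    P.coreflection i (fundCoweight b j) = fundCoweight b j := by
  rw [coreflection_apply, root'_fundCoweight_of_ne b j i h, zero_smul, sub_zero]

section Reduced

variable [Finite ι] [P.IsCrystallographic] [P.IsReduced]

/-- Master lemma: a fundamental weight of any base lying in the closed chamber of `b₀` is a
fundamental weight of `b₀`, with the same corresponding coweight. -/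
lemma master (b₀ : P.Base) : ∀ b : P.Base, ∀ j : b.support, fundWeight b j ∈ closedChamber b₀ →
    ∃ i : b₀.support, fundWeight b₀ i = fundWeight b j ∧ fundCoweight b₀ i = fundCoweight b j := by
  refine base_induction b₀ _ (fun j _ => ⟨j, rfl, rfl⟩) ?_
  intro b i hi hneg IH j hj
  have h1 : P.coroot' i (fundWeight b j) ≤ 0 := coroot'_nonpos_of_not_isPos hj hneg
  have hne : (⟨i, hi⟩ : b.support) ≠ j := by
    rintro rfl
    have := coroot'_fundWeight_self b ⟨i, hi⟩
    simp only at this
    rw [this] at h1
    exact absurd h1 (not_le.2 one_pos)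
  have e1 : fundWeight (reflBase b i) (reflIdx b i j) = fundWeight b j := by
    rw [fundWeight_reflBase]
    exact reflection_fundWeight_of_ne b ⟨i, hi⟩ j hne
  have e2 : fundCoweight (reflBase b i) (reflIdx b i j) = fundCoweight b j := by
    rw [fundCoweight_reflBase]
    exact coreflection_fundCoweight_of_ne b ⟨i, hi⟩ j hne
  obtain ⟨i₀, h₁, h₂⟩ := IH (reflIdx b i j) (by rw [e1]; exact hj)
  exact ⟨i₀, h₁.trans e1, h₂.trans e2⟩

lemma fundWeight_mem_closedChamber (b : P.Base) (i : b.support) :
    fundWeight b i ∈ closedChamber b := by
  classical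
  intro j hj
  rw [coroot'_fundWeight b i ⟨j, hj⟩]
  split_ifs <;> simp

/-- `S14227`: the corners of the chamber of `b` are the fundamental weights of `b`. -/
lemma baseCorners_eq (b : P.Base) : baseCorners b = Set.range (fundWeight b) := by
  ext m
  constructor
  · rintro ⟨⟨b', j, rfl⟩, hm⟩
    obtain ⟨i, hi, _⟩ := master b b' j hm
    exact ⟨i, hi⟩
  · rintro ⟨i, rfl⟩
    exact ⟨⟨b, i, rfl⟩, fundWeight_mem_closedChamber b i⟩

/-- The correspondence between fundamental weights and coweights is functional. -/
lemma corr_unique {m : M} {y y' : N} (h : Corr P m y) (h' : Corr P m y') : y = y' := by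
  obtain ⟨b, i, rfl, rfl⟩ := h
  obtain ⟨b', i', hm, rfl⟩ := h'
  obtain ⟨i₀, h1, h2⟩ := master b b' i' (by rw [hm]; exact fundWeight_mem_closedChamber b i)
  have : i₀ = i := fundWeight_injective b (h1.trans hm)
  rw [← h2, this]

end Reduced

end Groth.Agent.Lib.helper3.RootChL
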