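import Groth.Agent.Lib.Helper3.RootChC

/-! Foundations for the `RootCh` family: sign vectors on closed chambers, facets and corners. -/

set_option autoImplicit false
set_option linter.unusedSectionVars false
set_option linter.unusedSimpArgs false
set_option linter.style.haveILetI false

namespace Groth.Agent.Lib.helper3.RootChL

open RootPairing RootCh

variable {ι R M N : Type*} [Field R] [LinearOrder R] [IsStrictOrderedRing R]
  [AddCommGroup M] [Module R M] [AddCommGroup N] [Module R N]
  {P : RootPairing ι R M N} [P.IsRootSystem]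

omit [P.IsRootSystem] in
lemma coroot'_neg_idx (k : ι) (y : M) :
    P.coroot' (P.reflectionPerm k k) y = - P.coroot' k y := by
  rw [coroot'_reflectionPerm, LinearMap.comp_apply, LinearEquiv.coe_coe, reflection_apply,
    map_sub, map_smul, smul_eq_mul]
  have : P.coroot' k (P.root k) = 2 := by simp
  rw [this]; ring

omit [P.IsRootSystem] in
lemma root'_neg_idx (k : ι) (z : N) :
    P.root' (P.reflectionPerm k k) z = - P.root' k z :=
  coroot'_neg_idx (P := P.flip) k z

section Fin

variable [Finite ι]

lemma coroot'_pos_iff {b : P.Base} {y : M} (hy : y ∈ closedChamber b) {k : ι} (n : ι → ℕ)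
    (hn : P.root k = ∑ l ∈ b.support, n l • P.root l) :
    0 < P.coroot' k y ↔ ∃ l ∈ b.support, n l ≠ 0 ∧ 0 < P.coroot' l y := by
  have h := coroot'_expand b n hn y
  have hterm : ∀ l ∈ b.support,
      0 ≤ (n l : R) * (iform P (P.root l) (P.root l) * P.coroot' l y) := fun l hl =>
    mul_nonneg (Nat.cast_nonneg _) (mul_nonneg (iform_root_pos l).le (hy l hl))
  constructor
  · intro hk
    by_contra hcon
    simp only [not_exists, not_and] at hcon
    have h0 : ∑ l ∈ b.support, (n l : R) * (iform P (P.root l) (P.root l) * P.coroot' l y) = 0 := by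
      refine Finset.sum_eq_zero fun l hl => ?_
      by_cases hnl : n l = 0
      · simp [hnl]
      · have : P.coroot' l y = 0 := le_antisymm (not_lt.1 (hcon l hl hnl)) (hy l hl)
        simp [this]
    rw [h0] at h
    have := mul_pos (iform_root_pos (P := P) k) hk
    linarith
  · rintro ⟨l, hl, hnl, hpos⟩
    have h1 : 0 < (n l : R) * (iform P (P.root l) (P.root l) * P.coroot' l y) :=
      mul_pos (Nat.cast_pos.2 (Nat.pos_of_ne_zero hnl)) (mul_pos (iform_root_pos l) hpos)
    have h2 : 0 < ∑ l ∈ b.support, (n l : R) * (iform P (P.root l) (P.root l) * P.coroot' l y) :=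
      lt_of_lt_of_le h1 (Finset.single_le_sum (f := fun l => (n l : R) *
        (iform P (P.root l) (P.root l) * P.coroot' l y)) hterm hl)
    rw [← h] at h2
    exact (pos_iff_pos_of_mul_pos h2).1 (iform_root_pos k)

omit [P.IsRootSystem] [Finite ι] in
lemma root'_pos_iff {b : P.Base} {z : N} (hz : ∀ i ∈ b.support, 0 ≤ P.root' i z) {k : ι}
    (n : ι → ℕ) (hn : P.root k = ∑ l ∈ b.support, n l • P.root l) :
    0 < P.root' k z ↔ ∃ l ∈ b.support, n l ≠ 0 ∧ 0 < P.root' l z := by
  have h : P.root' k z = ∑ l ∈ b.support, (n l : R) * P.root' l z := by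
    change P.toLinearMap (P.root k) z = _
    rw [hn, map_sum, LinearMap.sum_apply]
    refine Finset.sum_congr rfl fun l _ => ?_
    rw [map_nsmul, LinearMap.smul_apply, nsmul_eq_mul]
  have hterm : ∀ l ∈ b.support, 0 ≤ (n l : R) * P.root' l z := fun l hl =>
    mul_nonneg (Nat.cast_nonneg _) (hz l hl)
  constructor
  · intro hk
    by_contra hcon
    simp only [not_exists, not_and] at hcon
    have h0 : ∑ l ∈ b.support, (n l : R) * P.root' l z = 0 := by
      refine Finset.sum_eq_zero fun l hl => ?_
      by_cases hnl : n l = 0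
      · simp [hnl]
      · have : P.root' l z = 0 := le_antisymm (not_lt.1 (hcon l hl hnl)) (hz l hl)
        simp [this]
    rw [h, h0] at hk
    exact lt_irrefl _ hk
  · rintro ⟨l, hl, hnl, hpos⟩
    have h1 : 0 < (n l : R) * P.root' l z :=
      mul_pos (Nat.cast_pos.2 (Nat.pos_of_ne_zero hnl)) hpos
    rw [h]
    exact lt_of_lt_of_le h1 (Finset.single_le_sum (f := fun l => (n l : R) * P.root' l z) hterm hl)

/-- On a closed chamber the sign vector is determined by which simple coroots pair positively. -/
lemma sgnVec_eq_of_simple {b : P.Base} {y y' : M} (hy : y ∈ closedChamber b)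
    (hy' : y' ∈ closedChamber b)
    (h : ∀ i ∈ b.support, (0 < P.coroot' i y ↔ 0 < P.coroot' i y')) :
    sgnVec P y = sgnVec P y' := by
  have hpos : ∀ k, b.IsPos k → (0 < P.coroot' k y ↔ 0 < P.coroot' k y') := by
    intro k hk
    obtain ⟨n, hn⟩ := exists_nat_of_isPos b hk
    rw [coroot'_pos_iff hy n hn, coroot'_pos_iff hy' n hn]
    constructor
    · rintro ⟨l, hl, hnl, hp⟩; exact ⟨l, hl, hnl, (h l hl).1 hp⟩
    · rintro ⟨l, hl, hnl, hp⟩; exact ⟨l, hl, hnl, (h l hl).2 hp⟩
  funext k
  change SignType.sign (P.coroot' k y) = SignType.sign (P.coroot' k y')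
  by_cases hk : b.IsPos k
  · have h1 := coroot'_nonneg_of_isPos hy hk
    have h2 := coroot'_nonneg_of_isPos hy' hk
    by_cases hp : 0 < P.coroot' k y
    · rw [sign_pos hp, sign_pos ((hpos k hk).1 hp)]
    · have e1 : P.coroot' k y = 0 := le_antisymm (not_lt.1 hp) h1
      have e2 : P.coroot' k y' = 0 := le_antisymm (not_lt.1 fun h' => hp ((hpos k hk).2 h')) h2
      rw [e1, e2]
  · have hk' := (isPos_neg_iff b k).2 hk
    have h1 := coroot'_nonneg_of_isPos hy hk'
    have h2 := coroot'_nonneg_of_isPos hy' hk'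
    have hiff := hpos _ hk'
    rw [coroot'_neg_idx] at h1 h2
    rw [coroot'_neg_idx, coroot'_neg_idx] at hiff
    by_cases hp : P.coroot' k y < 0
    · have hp' : P.coroot' k y' < 0 := by
        have := hiff.1 (by linarith); linarith
      rw [sign_neg hp, sign_neg hp']
    · have e1 : P.coroot' k y = 0 := le_antisymm (by linarith) (not_lt.1 hp)
      have e2 : P.coroot' k y' = 0 := by
        refine le_antisymm (by linarith) (not_lt.1 fun h' => hp ?_)
        have := hiff.2 (by linarith); linarith
      rw [e1, e2]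

/-- Dual version: the sign vector of `y ∈ M` equals the co-sign vector of `z ∈ N` when both are
dominant for `b` with the same strictly positive simple indices. -/
lemma sgnVec_eq_cosgnVec_of_simple {b : P.Base} {y : M} {z : N} (hy : y ∈ closedChamber b)
    (hz : ∀ i ∈ b.support, 0 ≤ P.root' i z)
    (h : ∀ i ∈ b.support, (0 < P.coroot' i y ↔ 0 < P.root' i z)) :
    sgnVec P y = cosgnVec P z := by
  have hpos : ∀ k, b.IsPos k → (0 < P.coroot' k y ↔ 0 < P.root' k z) := by
    intro k hk
    obtain ⟨n, hn⟩ := exists_nat_of_isPos b hk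
    rw [coroot'_pos_iff hy n hn, root'_pos_iff hz n hn]
    constructor
    · rintro ⟨l, hl, hnl, hp⟩; exact ⟨l, hl, hnl, (h l hl).1 hp⟩
    · rintro ⟨l, hl, hnl, hp⟩; exact ⟨l, hl, hnl, (h l hl).2 hp⟩
  have hznn : ∀ k, b.IsPos k → 0 ≤ P.root' k z := by
    intro k hk
    obtain ⟨n, hn⟩ := exists_nat_of_isPos b hk
    by_contra hcon
    have h1 : P.root' k z = ∑ l ∈ b.support, (n l : R) * P.root' l z := by
      change P.toLinearMap (P.root k) z = _
      rw [hn, map_sum, LinearMap.sum_apply]
      refine Finset.sum_congr rfl fun l _ => ?_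
      rw [map_nsmul, LinearMap.smul_apply, nsmul_eq_mul]
    rw [h1] at hcon
    exact hcon (Finset.sum_nonneg fun l hl => mul_nonneg (Nat.cast_nonneg _) (hz l hl))
  funext k
  change SignType.sign (P.coroot' k y) = SignType.sign (P.root' k z)
  by_cases hk : b.IsPos k
  · have h1 := coroot'_nonneg_of_isPos hy hk
    have h2 := hznn k hk
    by_cases hp : 0 < P.coroot' k y
    · rw [sign_pos hp, sign_pos ((hpos k hk).1 hp)]
    · have e1 : P.coroot' k y = 0 := le_antisymm (not_lt.1 hp) h1
      have e2 : P.root' k z = 0 := le_antisymm (not_lt.1 fun h' => hp ((hpos k hk).2 h')) h2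
      rw [e1, e2]
  · have hk' := (isPos_neg_iff b k).2 hk
    have h1 := coroot'_nonneg_of_isPos hy hk'
    have h2 := hznn _ hk'
    have hiff := hpos _ hk'
    rw [coroot'_neg_idx] at h1
    rw [root'_neg_idx] at h2
    rw [coroot'_neg_idx, root'_neg_idx] at hiff
    by_cases hp : P.coroot' k y < 0
    · have hp' : P.root' k z < 0 := by
        have := hiff.1 (by linarith); linarith
      rw [sign_neg hp, sign_neg hp']
    · have e1 : P.coroot' k y = 0 := le_antisymm (by linarith) (not_lt.1 hp)
      have e2 : P.root' k z = 0 := by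
        refine le_antisymm (by linarith) (not_lt.1 fun h' => hp ?_)
        have := hiff.2 (by linarith); linarith
      rw [e1, e2]

end Fin

end Groth.Agent.Lib.helper3.RootChL
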