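import Groth.Agent.Lib.Helper3.RootChD

/-! Foundations for the `RootCh` family: facets, adjacent chambers and corners. -/

set_option autoImplicit false
set_option linter.unusedSectionVars false
set_option linter.unusedSimpArgs false
set_option linter.style.haveILetI false

namespace Groth.Agent.Lib.helper3.RootChL

open RootPairing RootCh

variable {ι R M N : Type*} [Field R] [LinearOrder R] [IsStrictOrderedRing R]
  [AddCommGroup M] [Module R M] [AddCommGroup N] [Module R N]
  {P : RootPairing ι R M N} [P.IsRootSystem]

open scoped Classical in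
/-- The fundamental weights of a base as a basis of `M`. -/
noncomputable def fundBasis (b : P.Base) : Module.Basis b.support R M :=
  b.toCoweightBasis.dualBasis.map P.toPerfPair.symm

lemma fundBasis_apply (b : P.Base) (i : b.support) : fundBasis b i = fundWeight b i := by
  simp [fundBasis, fundWeight]

lemma linearIndependent_fundWeight (b : P.Base) : LinearIndependent R (fundWeight b) := by
  have := (fundBasis b).linearIndependent
  convert this using 1
  ext i
  rw [fundBasis_apply]

lemma fundBasis_repr (b : P.Base) (x : M) (i : b.support) :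
    (fundBasis b).repr x i = P.coroot' i x := by
  classical
  conv_lhs => rw [eq_sum_fundWeight b x]
  rw [map_sum]
  simp only [map_smul, ← fundBasis_apply, Module.Basis.repr_self, Finsupp.coe_finsetSum,
    Finsupp.coe_smul, Finset.sum_apply, Pi.smul_apply, smul_eq_mul]
  rw [Finset.sum_eq_single i]
  · simp
  · intro j _ hj
    simp [Finsupp.single_apply, hj]
  · intro h; exact absurd (Finset.mem_univ _) h

omit [P.IsRootSystem] in
lemma sgn_eq_sign {F : Facet P} {x : M} (hx : x ∈ F.carrier) (k : ι) :
    F.sgn k = SignType.sign (P.coroot' k x) := by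
  have : sgnVec P x = F.sgn := hx
  rw [← this]; rfl

omit [P.IsRootSystem] in
lemma carrier_nonempty (F : Facet P) : F.carrier.Nonempty := F.exists_sgnVec_eq

omit [P.IsRootSystem] in
lemma mem_cham_iff (F : Facet P) (b : P.Base) : b ∈ F.cham ↔ ∀ i ∈ b.support, F.sgn i ≠ -1 := by
  constructor
  · intro hb i hi
    obtain ⟨x, hx⟩ := carrier_nonempty F
    rw [sgn_eq_sign hx i, Ne, sign_eq_neg_one_iff, not_lt]
    exact hb hx i hi
  · intro h y hy i hi
    have := h i hi
    rw [sgn_eq_sign hy i, Ne, sign_eq_neg_one_iff, not_lt] at this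
    exact this

section Fin

variable [Finite ι]

/-- Strict positivity of coroot pairings propagates from simple coroots to all coroots. -/
lemma coroot'_pos_imp {b : P.Base} {y x : M} (hy : y ∈ closedChamber b)
    (hx : x ∈ closedChamber b) (h : ∀ i ∈ b.support, 0 < P.coroot' i y → 0 < P.coroot' i x)
    (k : ι) (hk : 0 < P.coroot' k y) : 0 < P.coroot' k x := by
  have hpos : b.IsPos k := by
    by_contra hneg
    exact absurd hk (not_lt.2 (coroot'_nonpos_of_not_isPos hy hneg))
  obtain ⟨n, hn⟩ := exists_nat_of_isPos b hpos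
  rw [coroot'_pos_iff hy n hn] at hk
  rw [coroot'_pos_iff hx n hn]
  obtain ⟨l, hl, hnl, hp⟩ := hk
  exact ⟨l, hl, hnl, h l hl hp⟩

section Reduced

variable [P.IsCrystallographic] [P.IsReduced]

lemma exists_mem_cham (F : Facet P) : ∃ b : P.Base, b ∈ F.cham := by
  obtain ⟨x, hx⟩ := carrier_nonempty F
  obtain ⟨b, hb⟩ := exists_base_closedChamber (P := P) x
  refine ⟨b, (mem_cham_iff F b).2 fun i hi => ?_⟩
  rw [sgn_eq_sign hx i, Ne, sign_eq_neg_one_iff, not_lt]
  exact hb i hi

end Reduced

lemma mem_carrier_iff_of_mem_cham {F : Facet P} {b : P.Base} (hb : b ∈ F.cham) (y : M) :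
    y ∈ F.carrier ↔ ∀ i ∈ b.support, SignType.sign (P.coroot' i y) = F.sgn i := by
  constructor
  · intro hy i _
    exact (sgn_eq_sign hy i).symm
  · intro h
    obtain ⟨x, hx⟩ := carrier_nonempty F
    have hyc : y ∈ closedChamber b := by
      intro i hi
      have h1 := (mem_cham_iff F b).1 hb i hi
      rw [← h i hi, Ne, sign_eq_neg_one_iff, not_lt] at h1
      exact h1
    have hxc : x ∈ closedChamber b := hb hx
    have : sgnVec P y = sgnVec P x := by
      apply sgnVec_eq_of_simple hyc hxc
      intro i hi
      rw [← sign_eq_one_iff, ← sign_eq_one_iff, h i hi, sgn_eq_sign hx i]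
    exact this.trans hx

lemma mem_closure_iff_of_mem_cham {F : Facet P} {b : P.Base} (hb : b ∈ F.cham) (y : M) :
    y ∈ F.closure ↔ ∀ i ∈ b.support, 0 ≤ P.coroot' i y ∧ (F.sgn i = 0 → P.coroot' i y = 0) := by
  constructor
  · intro hy i hi
    have h1 := (mem_cham_iff F b).1 hb i hi
    rcases hy i with h | h
    · have : P.coroot' i y = 0 := sign_eq_zero_iff.1 h
      exact ⟨this.ge, fun _ => this⟩
    · change SignType.sign (P.coroot' i y) = F.sgn i at h
      constructor
      · rw [← h, Ne, sign_eq_neg_one_iff, not_lt] at h1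
        exact h1
      · intro h0
        rw [h0] at h
        exact sign_eq_zero_iff.1 h
  · intro h k
    obtain ⟨x, hx⟩ := carrier_nonempty F
    have hyc : y ∈ closedChamber b := fun i hi => (h i hi).1
    have hxc : x ∈ closedChamber b := hb hx
    have himp : ∀ i ∈ b.support, 0 < P.coroot' i y → 0 < P.coroot' i x := by
      intro i hi hp
      have h1 := (mem_cham_iff F b).1 hb i hi
      have h0 : F.sgn i ≠ 0 := fun h0 => hp.ne' ((h i hi).2 h0)
      have h2 : F.sgn i = 1 := by
        rcases hs : F.sgn i with _ | _ | _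
        · exact absurd hs h0
        · exact absurd hs h1
        · rfl
      rw [sgn_eq_sign hx i, sign_eq_one_iff] at h2
      exact h2
    change SignType.sign (P.coroot' k y) = 0 ∨ SignType.sign (P.coroot' k y) = F.sgn k
    rcases lt_trichotomy (P.coroot' k y) 0 with hk | hk | hk
    · right
      have h1 : 0 < P.coroot' (P.reflectionPerm k k) y := by rw [coroot'_neg_idx]; linarith
      have h2 := coroot'_pos_imp hyc hxc himp _ h1
      rw [coroot'_neg_idx] at h2
      rw [sgn_eq_sign hx k, sign_neg hk, sign_neg (by linarith)]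
    · left; rw [hk]; simp
    · right
      have h2 := coroot'_pos_imp hyc hxc himp _ hk
      rw [sgn_eq_sign hx k, sign_pos hk, sign_pos h2]

lemma closure_subset_closedChamber {F : Facet P} {b : P.Base} (hb : b ∈ F.cham) :
    F.closure ⊆ closedChamber b := fun y hy i hi =>
  ((mem_closure_iff_of_mem_cham hb y).1 hy i hi).1

section Reduced

variable [P.IsCrystallographic] [P.IsReduced]

/-- The corners of a facet are the fundamental weights of an adjacent chamber on which the facet
is strictly positive. -/
lemma corners_eq_of_mem_cham {F : Facet P} {b : P.Base} (hb : b ∈ F.cham) :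
    F.corners = fundWeight b '' {i : b.support | F.sgn i = 1} := by
  classical
  ext m
  constructor
  · rintro ⟨hm, hmc⟩
    have h1 : m ∈ baseCorners b := ⟨hm, closure_subset_closedChamber hb hmc⟩
    rw [baseCorners_eq] at h1
    obtain ⟨i, rfl⟩ := h1
    refine ⟨i, ?_, rfl⟩
    have h2 := (mem_closure_iff_of_mem_cham hb _).1 hmc i i.2
    have h3 := (mem_cham_iff F b).1 hb i i.2
    change F.sgn i = 1
    rcases hs : F.sgn i with _ | _ | _
    · have := h2.2 hs
      rw [coroot'_fundWeight_self b i] at this
      exact absurd this one_ne_zero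
    · exact absurd hs h3
    · rfl
  · rintro ⟨i, hi, rfl⟩
    refine ⟨⟨b, i, rfl⟩, (mem_closure_iff_of_mem_cham hb _).2 fun j hj => ?_⟩
    rw [coroot'_fundWeight b i ⟨j, hj⟩]
    constructor
    · split_ifs <;> simp
    · intro h0
      rw [if_neg]
      rintro rfl
      change F.sgn j = 1 at hi
      rw [hi] at h0
      exact absurd h0 (by decide)

lemma corners_subset_baseCorners {F : Facet P} {b : P.Base} (hb : b ∈ F.cham) :
    F.corners ⊆ baseCorners b := by
  rw [corners_eq_of_mem_cham hb, baseCorners_eq]
  rintro - ⟨i, _, rfl⟩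
  exact ⟨i, rfl⟩

end Reduced

end Fin

end Groth.Agent.Lib.helper3.RootChL
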