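import Groth.Agent.Lib.Helper3.RootChE

/-! Foundations for the `RootCh` family: facets of vectors, sums of fundamental weights, dual facets. -/

set_option autoImplicit false
set_option linter.unusedSectionVars false
set_option linter.unusedSimpArgs false
set_option linter.style.haveILetI false

namespace Groth.Agent.Lib.helper3.RootChL

open RootPairing RootCh

variable {ι R M N : Type*} [Field R] [LinearOrder R] [IsStrictOrderedRing R]
  [AddCommGroup M] [Module R M] [AddCommGroup N] [Module R N]
  {P : RootPairing ι R M N} [P.IsRootSystem]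

omit [P.IsRootSystem] in
lemma mem_carrier_ofVec (y : M) : y ∈ (Facet.ofVec P y).carrier := rfl

omit [P.IsRootSystem] in
lemma ofVec_sgn (y : M) (k : ι) : (Facet.ofVec P y).sgn k = SignType.sign (P.coroot' k y) := rfl

omit [P.IsRootSystem] in
lemma mem_cham_ofVec {b : P.Base} {y : M} (hy : y ∈ closedChamber b) :
    b ∈ (Facet.ofVec P y).cham := by
  rw [mem_cham_iff]
  intro i hi
  rw [ofVec_sgn, Ne, sign_eq_neg_one_iff, not_lt]
  exact hy i hi

omit [P.IsRootSystem] in
lemma ofVec_eq_of_mem_carrier {F : Facet P} {y : M} (hy : y ∈ F.carrier) :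
    Facet.ofVec P y = F := by
  ext k
  rw [ofVec_sgn, sgn_eq_sign hy]

section Fin

variable [Finite ι] [P.IsCrystallographic] [P.IsReduced]

lemma corners_ofVec {b : P.Base} {y : M} (hy : y ∈ closedChamber b) :
    (Facet.ofVec P y).corners = fundWeight b '' {i : b.support | 0 < P.coroot' i y} := by
  rw [corners_eq_of_mem_cham (mem_cham_ofVec hy)]
  congr 1
  ext i
  simp only [Set.mem_ofPred_eq, ofVec_sgn, sign_eq_one_iff]

end Fin

open scoped Classical in
/-- The pairing of a sum of fundamental weights with a simple coroot. -/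
lemma coroot'_sum_fundWeight (b : P.Base) (T : Finset b.support) (l : b.support) :
    P.coroot' l (∑ i ∈ T, fundWeight b i) = if l ∈ T then 1 else 0 := by
  rw [map_sum]
  simp only [coroot'_fundWeight b _ l]
  rw [Finset.sum_ite_eq T l]

lemma sum_fundWeight_mem_closedChamber (b : P.Base) (T : Finset b.support) :
    ∑ i ∈ T, fundWeight b i ∈ closedChamber b := by
  classical
  intro l hl
  rw [coroot'_sum_fundWeight b T ⟨l, hl⟩]
  split_ifs <;> simp

end Groth.Agent.Lib.helper3.RootChL
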