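import Groth.Agent.Lib.Helper3.RootChF

/-! Foundations for the `RootCh` family: dual facets and dual corners. -/

set_option autoImplicit false
set_option linter.unusedSectionVars false
set_option linter.unusedSimpArgs false
set_option linter.style.haveILetI false

namespace Groth.Agent.Lib.helper3.RootChL

open RootPairing RootCh

variable {ι R M N : Type*} [Field R] [LinearOrder R] [IsStrictOrderedRing R]
  [AddCommGroup M] [Module R M] [AddCommGroup N] [Module R N]
  {P : RootPairing ι R M N} [P.IsRootSystem]

open scoped Classical in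
lemma root'_sum_fundCoweight (b : P.Base) (T : Finset b.support) (l : b.support) :
    P.root' l (∑ i ∈ T, fundCoweight b i) = if l ∈ T then 1 else 0 :=
  coroot'_sum_fundWeight (P := P.flip) b.flip T l

omit [P.IsRootSystem] in
lemma sgnVec_flip (z : N) : sgnVec P.flip z = cosgnVec P z := rfl

section Fin

variable [Finite ι] [P.IsCrystallographic] [P.IsReduced]

lemma exists_cosgnVec_eq (F : Facet P) : ∃ z : N, cosgnVec P z = F.sgn := by
  classical
  obtain ⟨b, hb⟩ := exists_mem_cham F
  obtain ⟨x₀, hx₀⟩ := carrier_nonempty F
  set T : Finset b.support := Finset.univ.filter (fun i : b.support => F.sgn i = 1) with hT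
  refine ⟨∑ i ∈ T, fundCoweight b i, ?_⟩
  have hz : ∀ i ∈ b.support, 0 ≤ P.root' i (∑ i ∈ T, fundCoweight b i) := by
    intro i hi
    rw [root'_sum_fundCoweight b T ⟨i, hi⟩]
    split_ifs <;> simp
  have h : ∀ i ∈ b.support, (0 < P.coroot' i x₀ ↔ 0 < P.root' i (∑ i ∈ T, fundCoweight b i)) := by
    intro i hi
    rw [root'_sum_fundCoweight b T ⟨i, hi⟩, ← sign_eq_one_iff, ← sgn_eq_sign hx₀ i]
    split_ifs with h
    · rw [hT, Finset.mem_filter] at h
      simp [h.2]
    · rw [hT, Finset.mem_filter] at h
      simp only [Finset.mem_univ, true_and] at h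
      simp [h]
  rw [← sgnVec_eq_cosgnVec_of_simple (hb hx₀) hz h]
  exact hx₀

/-- The facet of the dual root system with the same sign vector. -/
noncomputable def dualFacet (F : Facet P) : Facet P.flip := ⟨F.sgn, exists_cosgnVec_eq F⟩

@[simp] lemma dualFacet_sgn (F : Facet P) : (dualFacet F).sgn = F.sgn := rfl

lemma dualFacet_carrier (F : Facet P) : (dualFacet F).carrier = F.dualCarrier := rfl

lemma dualFacet_closure (F : Facet P) : (dualFacet F).closure = F.dualClosure := rfl

lemma dualFacet_corners (F : Facet P) : (dualFacet F).corners = F.dualCorners := rfl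

lemma flip_mem_cham_dualFacet {F : Facet P} {b : P.Base} (hb : b ∈ F.cham) :
    b.flip ∈ (dualFacet F).cham := by
  rw [mem_cham_iff] at hb ⊢
  exact hb

lemma mem_cham_of_flip_mem_cham_dualFacet {F : Facet P} {b : P.Base}
    (hb : b.flip ∈ (dualFacet F).cham) : b ∈ F.cham := by
  rw [mem_cham_iff] at hb ⊢
  exact hb

/-- The corners of the dual facet are the fundamental coweights of an adjacent chamber on which the
facet is strictly positive. -/
lemma dualCorners_eq_of_mem_cham {F : Facet P} {b : P.Base} (hb : b ∈ F.cham) :
    F.dualCorners = fundCoweight b '' {i : b.support | F.sgn i = 1} := by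
  rw [← dualFacet_corners, corners_eq_of_mem_cham (flip_mem_cham_dualFacet hb)]
  rfl

/-- The dual carrier is non-empty. -/
lemma dualCarrier_nonempty (F : Facet P) : F.dualCarrier.Nonempty := exists_cosgnVec_eq F

end Fin

end Groth.Agent.Lib.helper3.RootChL
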