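import Groth.Agent.Lib.Helper3.RootChG
import Groth.Agent.Lib.Helper3.Farkas

/-! The `RootCh` family: complementary convex solids, monotonicity along galleries, the dual solid
as an intersection of half-spaces. -/

set_option autoImplicit false
set_option linter.unusedSectionVars false
set_option linter.unusedSimpArgs false
set_option linter.style.haveILetI false

namespace Groth.Agent.Lib.helper3.RootChL

open RootPairing RootCh

variable {ι R M N : Type*} [Field R] [LinearOrder R] [IsStrictOrderedRing R]
  [AddCommGroup M] [Module R M] [AddCommGroup N] [Module R N]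
  {P : RootPairing ι R M N} [P.IsRootSystem]

omit [P.IsRootSystem] in
instance [Finite ι] : Finite P.Base :=
  Finite.of_injective (fun b : P.Base => b.support) (fun _ _ h => base_ext h)

/-- A vector of `N` pairing to zero with all fundamental weights of a base is zero. -/
lemma eq_zero_of_forall_fundWeight (b : P.Base) {v : N}
    (h : ∀ j : b.support, P.toLinearMap (fundWeight b j) v = 0) : v = 0 := by
  have h1 : P.toLinearMap.flip v = 0 := by
    apply (fundBasis b).ext
    intro j
    rw [fundBasis_apply]
    simpa using h j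
  have hinj : Function.Injective P.toLinearMap.flip :=
    (LinearMap.IsPerfPair.bijective_right P.toLinearMap).injective
  exact hinj (by simpa using h1)

lemma pairing_expand (b : P.Base) (ξ : M) (y : N) :
    P.toLinearMap ξ y = ∑ i : b.support, P.coroot' i ξ * P.toLinearMap (fundWeight b i) y := by
  conv_lhs => rw [eq_sum_fundWeight b ξ]
  rw [map_sum, LinearMap.sum_apply]
  refine Finset.sum_congr rfl fun i _ => ?_
  rw [map_smul, LinearMap.smul_apply, smul_eq_mul]

section CCS

variable [Finite ι] [P.IsCrystallographic] [P.IsReduced]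

lemma fundWeight_reflBase_of_ne (b : P.Base) {i : ι} (hi : i ∈ b.support) (j : b.support)
    (hj : (⟨i, hi⟩ : b.support) ≠ j) :
    fundWeight (reflBase b i) (reflIdx b i j) = fundWeight b j := by
  rw [fundWeight_reflBase]
  exact reflection_fundWeight_of_ne b ⟨i, hi⟩ j hj

lemma baseCorners_inter_reflBase (b : P.Base) {i : ι} (hi : i ∈ b.support) :
    baseCorners b ∩ baseCorners (reflBase b i) =
      fundWeight b '' {j : b.support | (⟨i, hi⟩ : b.support) ≠ j} := by
  rw [baseCorners_eq, baseCorners_eq]
  ext m
  constructor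
  · rintro ⟨⟨j, rfl⟩, ⟨k, hk⟩⟩
    refine ⟨j, ?_, rfl⟩
    intro hij
    subst hij
    obtain ⟨k', rfl⟩ := reflIdx_surjective b i k
    rw [fundWeight_reflBase] at hk
    by_cases hk' : (⟨i, hi⟩ : b.support) = k'
    · subst hk'
      rw [reflection_fundWeight_self b ⟨i, hi⟩] at hk
      have : P.root i = 0 := by
        have h2 := sub_eq_self.1 hk
        simpa using h2
      exact P.ne_zero i this
    · rw [reflection_fundWeight_of_ne b ⟨i, hi⟩ k' hk'] at hk
      exact hk' (fundWeight_injective b hk).symm
  · rintro ⟨j, hj, rfl⟩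
    exact ⟨⟨j, rfl⟩, ⟨reflIdx b i j, fundWeight_reflBase_of_ne b hi j hj⟩⟩

lemma ncard_baseCorners_inter_reflBase (b : P.Base) {i : ι} (hi : i ∈ b.support) :
    (baseCorners b ∩ baseCorners (reflBase b i)).ncard + 1 = b.support.card := by
  classical
  rw [baseCorners_inter_reflBase b hi, Set.ncard_image_of_injective _ (fundWeight_injective b)]
  have h1 : {j : b.support | (⟨i, hi⟩ : b.support) ≠ j} = Set.univ \ {⟨i, hi⟩} := by
    ext j
    simp [eq_comm]
  rw [h1, Set.ncard_sdiff_singleton_add_one (Set.mem_univ _) Set.finite_univ, Set.ncard_univ,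
    Nat.card_eq_fintype_card, Fintype.card_coe]

variable {d : P.Base → N}

/-- Across a wall, `d` moves by a non-negative multiple of the coroot. -/
lemma exists_adj (hd : IsCCS d) (b : P.Base) {i : ι} (hi : i ∈ b.support) :
    ∃ c : R, 0 ≤ c ∧ d (reflBase b i) = d b + c • P.coroot i := by
  set c : R := P.toLinearMap (fundWeight b ⟨i, hi⟩) (d (reflBase b i) - d b) with hc
  have hv : d (reflBase b i) - d b - c • P.coroot i = 0 := by
    apply eq_zero_of_forall_fundWeight b
    intro j
    by_cases hj : (⟨i, hi⟩ : b.support) = j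
    · subst hj
      rw [map_sub, map_smul, ← hc]
      have : P.toLinearMap (fundWeight b ⟨i, hi⟩) (P.coroot i) = 1 :=
        coroot'_fundWeight_self b ⟨i, hi⟩
      rw [this, smul_eq_mul, mul_one, sub_self]
    · have h1 : fundWeight b j ∈ baseCorners b ∩ baseCorners (reflBase b i) := by
        rw [baseCorners_inter_reflBase b hi]
        exact ⟨j, hj, rfl⟩
      have h2 := hd.corner_eq b (reflBase b i) _ h1.1 h1.2
      have h3 : P.toLinearMap (fundWeight b j) (P.coroot i) = 0 :=
        coroot'_fundWeight_of_ne b j ⟨i, hi⟩ hj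
      rw [map_sub, map_sub, map_smul, h3, smul_zero, sub_zero, h2, sub_self]
  have hb2 := hd.wall_le b (reflBase b i) i (ncard_baseCorners_inter_reflBase b hi)
    (isPos_and_not_isPos_reflBase_iff hi)
  have heq : d (reflBase b i) = d b + c • P.coroot i := by
    rw [sub_sub, sub_eq_zero] at hv
    exact hv
  refine ⟨c, ?_, heq⟩
  rw [heq, map_add, map_smul] at hb2
  have : P.root' i (P.coroot i) = 2 := by simp
  rw [this, smul_eq_mul] at hb2
  linarith

/-- Moving away from a chamber `b₀`, the pairing of `d` with a dominant vector of `b₀` does not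
decrease. -/
lemma ccs_mono (hd : IsCCS d) (b₀ : P.Base) :
    ∀ b : P.Base, ∀ m ∈ closedChamber b₀, P.toLinearMap m (d b₀) ≤ P.toLinearMap m (d b) := by
  refine base_induction b₀ _ (fun m _ => le_rfl) ?_
  intro b i hi hneg IH m hm
  obtain ⟨c, hc0, hc⟩ := exists_adj hd b hi
  have h1 := IH m hm
  rw [hc, map_add, map_smul, smul_eq_mul] at h1
  have h2 : P.toLinearMap m (P.coroot i) ≤ 0 := coroot'_nonpos_of_not_isPos hm hneg
  nlinarith

lemma convex_rhs (F : Facet P) :
    Convex R ((⋂ m ∈ F.corners, hyper d m) ∩ ⋂ m ∈ F.corners', halfClosed d m) := by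
  intro x hx y hy a c ha hc hac
  simp only [Set.mem_inter_iff, Set.mem_iInter] at hx hy ⊢
  constructor
  · intro m hm b hb
    have h1 := hx.1 m hm b hb
    have h2 := hy.1 m hm b hb
    rw [map_add, map_smul, map_smul, h1, h2, smul_eq_mul, smul_eq_mul, ← add_mul, hac, one_mul]
  · intro m hm b hb
    have h1 := hx.2 m hm b hb
    have h2 := hy.2 m hm b hb
    rw [map_add, map_smul, map_smul, smul_eq_mul, smul_eq_mul]
    calc P.toLinearMap m (d b) = a * P.toLinearMap m (d b) + c * P.toLinearMap m (d b) := by
          rw [← add_mul, hac, one_mul]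
      _ ≤ _ := add_le_add (mul_le_mul_of_nonneg_left h1 ha) (mul_le_mul_of_nonneg_left h2 hc)

/-- `S14238`: the dual solid of a facet as an intersection of hyperplanes and half-spaces. -/
theorem dualSolid_eq (hd : IsCCS d) (F : Facet P) :
    dualSolid d F = (⋂ m ∈ F.corners, hyper d m) ∩ ⋂ m ∈ F.corners', halfClosed d m := by
  apply subset_antisymm
  · refine convexHull_min ?_ (convex_rhs F)
    rintro - ⟨b, hb, rfl⟩
    simp only [Set.mem_inter_iff, Set.mem_iInter]
    constructor
    · intro m hm b' hb'
      exact hd.corner_eq b b' m (corners_subset_baseCorners hb hm) hb'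
    · intro m _ b' hb'
      exact ccs_mono hd b' b m hb'.2
  · intro y hy
    by_contra hcon
    simp only [Set.mem_inter_iff, Set.mem_iInter] at hy
    obtain ⟨f, hf⟩ := FarkasL.exists_dual_lt_of_notMem_convexHull
      (Set.toFinite (d '' F.cham)) hcon
    set ξ : M := P.toPerfPair.symm f with hξ
    have hξf : P.toLinearMap ξ = f := P.toLinearMap.apply_symm_toPerfPair_self f
    obtain ⟨x₀, hx₀⟩ := carrier_nonempty F
    obtain ⟨b, t, ht, hx₀b, hξb⟩ := exists_base_closedChamber₂ (P := P) x₀ ξ
    have hb : b ∈ F.cham := by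
      have := mem_cham_ofVec hx₀b
      rwa [ofVec_eq_of_mem_carrier hx₀] at this
    have hcor := corners_eq_of_mem_cham hb
    -- pairing with `ξ + t x₀`
    have h1 : P.toLinearMap (ξ + t • x₀) (d b) ≤ P.toLinearMap (ξ + t • x₀) y := by
      rw [pairing_expand b _ (d b), pairing_expand b _ y]
      refine Finset.sum_le_sum fun i _ => ?_
      refine mul_le_mul_of_nonneg_left ?_ (hξb i i.2)
      have hi : fundWeight b i ∈ baseCorners b := by rw [baseCorners_eq]; exact ⟨i, rfl⟩
      have hi' : fundWeight b i ∈ F.corners' := by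
        simp only [Facet.corners', Set.mem_iUnion]
        exact ⟨b, hb, hi⟩
      exact hy.2 _ hi' b hi
    have h2 : P.toLinearMap x₀ y = P.toLinearMap x₀ (d b) := by
      rw [pairing_expand b _ (d b), pairing_expand b _ y]
      refine Finset.sum_congr rfl fun i _ => ?_
      by_cases hi : F.sgn i = 1
      · have hi1 : fundWeight b i ∈ F.corners := by rw [hcor]; exact ⟨i, hi, rfl⟩
        rw [hy.1 _ hi1 b (corners_subset_baseCorners hb hi1)]
      · have h1' := (mem_cham_iff F b).1 hb i i.2
        have h0 : F.sgn i = 0 := by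
          rcases hs : F.sgn i with _ | _ | _
          · rfl
          · exact absurd hs h1'
          · exact absurd hs hi
        rw [sgn_eq_sign hx₀ i, sign_eq_zero_iff] at h0
        rw [h0, zero_mul, zero_mul]
    have h3 := hf (d b) ⟨b, hb, rfl⟩
    rw [← hξf] at h3
    rw [map_add, map_smul, LinearMap.add_apply, LinearMap.add_apply, LinearMap.smul_apply,
      LinearMap.smul_apply, h2] at h1
    linarith

end CCS

end Groth.Agent.Lib.helper3.RootChL
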