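import Groth.Agent.Lib.Helper3.RootChH

/-! The `RootCh` family: the solid, semistability criteria. -/

set_option autoImplicit false
set_option linter.unusedSectionVars false
set_option linter.unusedSimpArgs false
set_option linter.style.haveILetI false

namespace Groth.Agent.Lib.helper3.RootChL

open RootPairing RootCh

variable {ι R M N : Type*} [Field R] [LinearOrder R] [IsStrictOrderedRing R]
  [AddCommGroup M] [Module R M] [AddCommGroup N] [Module R N]
  {P : RootPairing ι R M N} [P.IsRootSystem]

omit [P.IsRootSystem] in
lemma origin_sgn (k : ι) : (Facet.origin P).sgn k = 0 := by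
  change SignType.sign (P.coroot' k 0) = 0
  simp

omit [P.IsRootSystem] in
lemma origin_cham : (Facet.origin P).cham = Set.univ := by
  ext b
  simp only [Set.mem_univ, iff_true]
  rw [mem_cham_iff]
  intro i _
  rw [origin_sgn]
  decide

section CCS

variable [Finite ι] [P.IsCrystallographic] [P.IsReduced] {d : P.Base → N}

lemma origin_corners : (Facet.origin P).corners = ∅ := by
  obtain ⟨b, hb⟩ := exists_mem_cham (Facet.origin P)
  rw [corners_eq_of_mem_cham hb]
  ext m
  simp only [Set.mem_image, Set.mem_ofPred_eq, Set.mem_empty_iff_false, iff_false, not_exists,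
    not_and]
  intro i hi
  rw [origin_sgn] at hi
  exact absurd hi (by decide)

omit [P.IsRootSystem] [Finite ι] [P.IsCrystallographic] [P.IsReduced] in
lemma solid_eq_dualSolid_origin : solid d = dualSolid d (Facet.origin P) := by
  rw [solid, dualSolid, origin_cham, Set.image_univ]

lemma mem_solid_iff (hd : IsCCS d) (y : N) :
    y ∈ solid d ↔ ∀ b : P.Base, ∀ m ∈ baseCorners b, P.toLinearMap m (d b) ≤ P.toLinearMap m y := by
  rw [solid_eq_dualSolid_origin, dualSolid_eq hd, origin_corners]
  simp only [Set.mem_inter_iff, Set.mem_iInter, Set.mem_empty_iff_false, IsEmpty.forall_iff,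
    implies_true, true_and, Facet.corners', origin_cham, Set.mem_univ, Set.mem_iUnion, exists_true_left,
    exists_prop, true_and, forall_exists_index]
  constructor
  · intro h b m hm
    exact h m b hm b hm
  · intro h m b' _ b hm
    exact h b m hm

/-- `S14241`. -/
theorem forall_corner_nonpos_iff (hd : IsCCS d) :
    (∀ (b : P.Base), ∀ m ∈ baseCorners b, P.toLinearMap m (d b) ≤ 0) ↔ IsSemistable d := by
  rw [IsSemistable, mem_solid_iff hd]
  simp

end CCS

end Groth.Agent.Lib.helper3.RootChL
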