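import Groth.Agent.Lib.Helper3.RootChI
import Groth.Agent.S14237
import Groth.Agent.S14229

/-! The `RootCh` family: degrees of facets. -/

set_option autoImplicit false
set_option linter.unusedSectionVars false
set_option linter.unusedSimpArgs false
set_option linter.style.haveILetI false

namespace Groth.Agent.Lib.helper3.RootChL

open RootPairing RootCh

variable {ι : Type*} {R : Type*} {M : Type*} {N : Type*} [Field R] [LinearOrder R] [IsStrictOrderedRing R]
  [AddCommGroup M] [Module R M] [AddCommGroup N] [Module R N]
  {P : RootPairing ι R M N} [P.IsRootSystem]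

section CCS

variable [Finite ι] [P.IsCrystallographic] [P.IsReduced] {d : P.Base → N}

/-- The sum of the roots of the parabolic set of a facet. -/
noncomputable def twoRho (F : Facet P) : M := ∑ i ∈ (Set.toFinite F.parab).toFinset, P.root i

lemma twoRho_mem_carrier (F : Facet P) : twoRho F ∈ F.carrier :=
  Groth.Agent.S14237.result P F

omit [P.IsRootSystem] [P.IsCrystallographic] [P.IsReduced] in
lemma deg_eq (F : Facet P) (b : P.Base) : F.deg d b = P.toLinearMap (twoRho F) (d b) := by
  rw [Facet.deg, twoRho, map_sum, LinearMap.sum_apply]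

lemma span_carrier_eq (F : Facet P) :
    Submodule.span R F.carrier = Submodule.span R F.corners :=
  Groth.Agent.S14229.result P F

lemma pairing_eq_of_mem_span_corners (hd : IsCCS d) {F : Facet P} {b b' : P.Base}
    (hb : b ∈ F.cham) (hb' : b' ∈ F.cham) {x : M} (hx : x ∈ Submodule.span R F.corners) :
    P.toLinearMap x (d b) = P.toLinearMap x (d b') := by
  induction hx using Submodule.span_induction with
  | mem m hm =>
    exact hd.corner_eq b b' m (corners_subset_baseCorners hb hm) (corners_subset_baseCorners hb' hm)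
  | zero => simp
  | add x y _ _ hx hy => rw [map_add, LinearMap.add_apply, LinearMap.add_apply, hx, hy]
  | smul a x _ hx => rw [map_smul, LinearMap.smul_apply, LinearMap.smul_apply, hx]

lemma twoRho_mem_span_corners (F : Facet P) : twoRho F ∈ Submodule.span R F.corners := by
  rw [← span_carrier_eq]
  exact Submodule.subset_span (twoRho_mem_carrier F)

/-- `S14249`. -/
theorem deg_eq_deg (hd : IsCCS d) (F : Facet P) {b b' : P.Base} (hb : b ∈ F.cham)
    (hb' : b' ∈ F.cham) : F.deg d b = F.deg d b' := by
  rw [deg_eq, deg_eq]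
  exact pairing_eq_of_mem_span_corners hd hb hb' (twoRho_mem_span_corners F)

lemma deg_nonpos_of_semistable (hd : IsCCS d) (hss : IsSemistable d) (F : Facet P) {b : P.Base}
    (hb : b ∈ F.cham) : F.deg d b ≤ 0 := by
  rw [deg_eq, pairing_expand b]
  refine Finset.sum_nonpos fun i _ => ?_
  have h1 : 0 ≤ P.coroot' i (twoRho F) := hb (twoRho_mem_carrier F) i i.2
  have h2 : P.toLinearMap (fundWeight b i) (d b) ≤ 0 :=
    (forall_corner_nonpos_iff hd).2 hss b _ (by rw [baseCorners_eq]; exact ⟨i, rfl⟩)
  exact mul_nonpos_of_nonneg_of_nonpos h1 h2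

/-- The facet of a fundamental weight: its vectors are the positive multiples. -/
lemma mem_carrier_ofVec_fundWeight (b : P.Base) (i : b.support) {y : M}
    (hy : y ∈ (Facet.ofVec P (fundWeight b i)).carrier) :
    ∃ a : R, 0 < a ∧ y = a • fundWeight b i := by
  classical
  have hb : b ∈ (Facet.ofVec P (fundWeight b i)).cham :=
    mem_cham_ofVec (fundWeight_mem_closedChamber b i)
  have h := (mem_carrier_iff_of_mem_cham hb y).1 hy
  refine ⟨P.coroot' i y, ?_, ?_⟩
  · have := h i i.2
    rw [ofVec_sgn, coroot'_fundWeight_self b i, sign_one, sign_eq_one_iff] at this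
    exact this
  · conv_lhs => rw [eq_sum_fundWeight b y]
    rw [Finset.sum_eq_single i]
    · intro j _ hj
      have := h j j.2
      rw [ofVec_sgn, coroot'_fundWeight_of_ne b i j hj, sign_zero, sign_eq_zero_iff] at this
      rw [this, zero_smul]
    · intro h; exact absurd (Finset.mem_univ _) h

lemma corner_nonpos_of_deg (b : P.Base) (i : b.support)
    (h : (Facet.ofVec P (fundWeight b i)).deg d b ≤ 0) :
    P.toLinearMap (fundWeight b i) (d b) ≤ 0 := by
  obtain ⟨a, ha, hy⟩ := mem_carrier_ofVec_fundWeight b i (twoRho_mem_carrier _)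
  rw [deg_eq, hy, map_smul, LinearMap.smul_apply, smul_eq_mul] at h
  by_contra hcon
  have := mul_pos ha (not_le.1 hcon)
  linarith

/-- `S14239`. -/
theorem forall_deg_nonpos_iff (hd : IsCCS d) :
    (∀ (F : Facet P) (b : P.Base), b ∈ F.cham → F.deg d b ≤ 0) ↔ IsSemistable d := by
  constructor
  · intro h
    rw [← forall_corner_nonpos_iff hd]
    intro b m hm
    rw [baseCorners_eq] at hm
    obtain ⟨i, rfl⟩ := hm
    exact corner_nonpos_of_deg b i
      (h _ b (mem_cham_ofVec (fundWeight_mem_closedChamber b i)))
  · intro hss F b hb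
    exact deg_nonpos_of_semistable hd hss F hb

lemma dim_ofVec_fundWeight (b : P.Base) (i : b.support) :
    (Facet.ofVec P (fundWeight b i)).dim = 1 := by
  classical
  rw [Facet.dim, span_carrier_eq, corners_ofVec (fundWeight_mem_closedChamber b i)]
  have : {j : b.support | 0 < P.coroot' j (fundWeight b i)} = {i} := by
    ext j
    simp only [Set.mem_ofPred_eq, Set.mem_singleton_iff]
    rw [coroot'_fundWeight b i j]
    split_ifs with h
    · simp [h]
    · simp [h]
  rw [this, Set.image_singleton]
  exact finrank_span_singleton (fundWeight_ne_zero b i)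

/-- `S14240`. -/
theorem forall_deg_nonpos_of_dim_one_iff (hd : IsCCS d) :
    (∀ (F : Facet P) (b : P.Base), F.dim = 1 → b ∈ F.cham → F.deg d b ≤ 0) ↔ IsSemistable d := by
  constructor
  · intro h
    rw [← forall_corner_nonpos_iff hd]
    intro b m hm
    rw [baseCorners_eq] at hm
    obtain ⟨i, rfl⟩ := hm
    exact corner_nonpos_of_deg b i
      (h _ b (dim_ofVec_fundWeight b i) (mem_cham_ofVec (fundWeight_mem_closedChamber b i)))
  · intro hss F b _ hb
    exact deg_nonpos_of_semistable hd hss F hb

end CCS

end Groth.Agent.Lib.helper3.RootChL
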