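import Groth.Agent.Lib.Helper3.RootChJ

/-! The `RootCh` family: invariant forms and fundamental (co)weights, the locus `yLocus`,
elementary sets of roots and numerical invariants. -/

set_option autoImplicit false
set_option linter.unusedSectionVars false
set_option linter.unusedSimpArgs false
set_option linter.style.haveILetI false

namespace Groth.Agent.Lib.helper3.RootChL

open RootPairing RootCh

variable {ι : Type*} {R : Type*} {M : Type*} {N : Type*} [Field R] [LinearOrder R] [IsStrictOrderedRing R]
  [AddCommGroup M] [Module R M] [AddCommGroup N] [Module R N]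
  {P : RootPairing ι R M N} [P.IsRootSystem]

lemma fundWeight_flip (b : P.Base) (j : b.support) :
    fundWeight (P := P.flip) b.flip j = fundCoweight b j := rfl

lemma fundCoweight_flip (b : P.Base) (j : b.support) :
    fundCoweight (P := P.flip) b.flip j = fundWeight b j := rfl

open scoped Classical in
lemma root'_fundCoweight (b : P.Base) (i j : b.support) :
    P.root' j (fundCoweight b i) = if j = i then 1 else 0 :=
  coroot'_fundWeight (P := P.flip) b.flip i j

/-- For a reflection-invariant bilinear form `B` on `M`:
`B(λ_j, x) = (B(α_j, α_j) / 2) ⟨x, λ_j^∨⟩`. -/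
lemma form_fundWeight (B : LinearMap.BilinForm R M)
    (hB : ∀ i x y, B (P.reflection i x) (P.reflection i y) = B x y) (b : P.Base) (j : b.support)
    (x : M) :
    B (fundWeight b j) x = B (P.root j) (P.root j) / 2 * P.toLinearMap x (fundCoweight b j) := by
  classical
  have hk : ∀ k : b.support, B (fundWeight b j) (P.root k) =
      B (P.root j) (P.root j) / 2 * P.toLinearMap (P.root k) (fundCoweight b j) := by
    intro k
    have h1 := form_root_mul_coroot' (P := P) B k (hB k) (fundWeight b j)
    rw [coroot'_fundWeight b j k] at h1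
    have h2 : P.toLinearMap (P.root k) (fundCoweight b j) = if k = j then 1 else 0 :=
      root'_fundCoweight b j k
    rw [h2]
    split_ifs with hkj
    · subst hkj
      rw [if_pos rfl] at h1
      linarith
    · rw [if_neg hkj] at h1
      linarith
  have hx : x ∈ Submodule.span R (Set.range fun k : b.support => P.root k) := by
    have := b.toWeightBasis.span_eq
    have h2 : (Set.range fun k : b.support => P.root k) = Set.range b.toWeightBasis := by
      congr 1
      ext k
      rw [b.toWeightBasis_apply]
    rw [h2, this]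
    exact Submodule.mem_top
  induction hx using Submodule.span_induction with
  | mem x hx =>
    obtain ⟨k, rfl⟩ := hx
    exact hk k
  | zero => simp
  | add x y _ _ hx hy => rw [map_add, map_add, LinearMap.add_apply, hx, hy, mul_add]
  | smul a x _ hx =>
    rw [map_smul, map_smul, LinearMap.smul_apply, hx, smul_eq_mul, smul_eq_mul]
    ring

/-- For a coreflection-invariant bilinear form `B` on `N`:
`B(λ_j^∨, z) = (B(α_j^∨, α_j^∨) / 2) ⟨λ_j, z⟩`. -/
lemma form_fundCoweight (B : LinearMap.BilinForm R N)
    (hB : ∀ i x y, B (P.coreflection i x) (P.coreflection i y) = B x y) (b : P.Base)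
    (j : b.support) (z : N) :
    B (fundCoweight b j) z =
      B (P.coroot j) (P.coroot j) / 2 * P.toLinearMap (fundWeight b j) z :=
  form_fundWeight (P := P.flip) B hB b.flip j z

/-- Expansion of a vector of `N` in fundamental coweights. -/
lemma eq_sum_fundCoweight (b : P.Base) (z : N) :
    z = ∑ i : b.support, P.root' i z • fundCoweight b i :=
  eq_sum_fundWeight (P := P.flip) b.flip z

lemma pairing_expand' (b : P.Base) (x : M) (z : N) :
    P.toLinearMap x z = ∑ i : b.support, P.root' i z * P.toLinearMap x (fundCoweight b i) :=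
  pairing_expand (P := P.flip) b.flip z x

section Fin

variable [Finite ι] [P.IsCrystallographic] [P.IsReduced]

lemma sgn_eq_zero_of_ne_one {F : Facet P} {b : P.Base} (hb : b ∈ F.cham) {l : ι}
    (hl : l ∈ b.support) (h1 : F.sgn l ≠ 1) : F.sgn l = 0 := by
  have h2 := (mem_cham_iff F b).1 hb l hl
  rcases hs : F.sgn l with _ | _ | _
  · rfl
  · exact absurd hs h2
  · exact absurd hs h1

lemma mem_dualCarrier_iff_of_mem_cham {F : Facet P} {b : P.Base} (hb : b ∈ F.cham) (z : N) :
    z ∈ F.dualCarrier ↔ ∀ i ∈ b.support, SignType.sign (P.root' i z) = F.sgn i :=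
  mem_carrier_iff_of_mem_cham (P := P.flip) (F := dualFacet F) (flip_mem_cham_dualFacet hb) z

lemma root'_eq_zero_of_mem_span_dualCarrier {F : Facet P} {b : P.Base} (hb : b ∈ F.cham)
    {z : N} (hz : z ∈ Submodule.span R F.dualCarrier) {l : ι} (hl : l ∈ b.support)
    (h1 : F.sgn l ≠ 1) : P.root' l z = 0 := by
  have h0 := sgn_eq_zero_of_ne_one hb hl h1
  induction hz using Submodule.span_induction with
  | mem z hz =>
    have := (mem_dualCarrier_iff_of_mem_cham hb z).1 hz l hl
    rw [h0, sign_eq_zero_iff] at this
    exact this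
  | zero => simp
  | add x y _ _ hx hy => rw [map_add, hx, hy, add_zero]
  | smul a x _ hx => rw [map_smul, hx, smul_zero]

lemma coroot'_eq_zero_of_mem_span_corners {F : Facet P} {b : P.Base} (hb : b ∈ F.cham)
    {x : M} (hx : x ∈ Submodule.span R F.corners) {l : ι} (hl : l ∈ b.support)
    (h1 : F.sgn l ≠ 1) : P.coroot' l x = 0 := by
  rw [corners_eq_of_mem_cham hb] at hx
  induction hx using Submodule.span_induction with
  | mem x hx =>
    obtain ⟨i, hi, rfl⟩ := hx
    refine coroot'_fundWeight_of_ne b i ⟨l, hl⟩ ?_
    rintro rfl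
    exact h1 hi
  | zero => simp
  | add x y _ _ hx hy => rw [map_add, hx, hy, add_zero]
  | smul a x _ hx => rw [map_smul, hx, smul_zero]

lemma mem_span_corners_of_forall {F : Facet P} {b : P.Base} (hb : b ∈ F.cham) {x : M}
    (h : ∀ l ∈ b.support, F.sgn l ≠ 1 → P.coroot' l x = 0) :
    x ∈ Submodule.span R F.corners := by
  rw [corners_eq_of_mem_cham hb, eq_sum_fundWeight b x]
  refine Submodule.sum_mem _ fun i _ => ?_
  by_cases hi : F.sgn i = 1
  · exact Submodule.smul_mem _ _ (Submodule.subset_span ⟨i, hi, rfl⟩)
  · rw [h i i.2 hi, zero_smul]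
    exact Submodule.zero_mem _

variable {d : P.Base → N}

lemma mem_hyper_iff (hd : IsCCS d) {m : M} {b : P.Base} (hm : m ∈ baseCorners b) (y : N) :
    y ∈ hyper d m ↔ P.toLinearMap m y = P.toLinearMap m (d b) := by
  constructor
  · intro h; exact h b hm
  · intro h b' hb'
    rw [h]
    exact hd.corner_eq b b' m hm hb'

lemma pairing_eq_of_mem_span_corners_hyper {F : Facet P} {b : P.Base}
    (hb : b ∈ F.cham) {y : N} (hy : y ∈ ⋂ m ∈ F.corners, hyper d m) {x : M}
    (hx : x ∈ Submodule.span R F.corners) :
    P.toLinearMap x y = P.toLinearMap x (d b) := by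
  simp only [Set.mem_iInter] at hy
  induction hx using Submodule.span_induction with
  | mem m hm => exact hy m hm b (corners_subset_baseCorners hb hm)
  | zero => simp
  | add x y _ _ hx hy => rw [map_add, LinearMap.add_apply, LinearMap.add_apply, hx, hy]
  | smul a x _ hx => rw [map_smul, LinearMap.smul_apply, LinearMap.smul_apply, hx]

/-- The locus `yLocus d F` has at most one point. -/
lemma yLocus_subsingleton (F : Facet P) {y y' : N} (hy : y ∈ yLocus d F)
    (hy' : y' ∈ yLocus d F) : y = y' := by
  obtain ⟨b, hb⟩ := exists_mem_cham F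
  set z := y - y' with hz
  have hzspan : z ∈ Submodule.span R F.dualCarrier := Submodule.sub_mem _ hy.2 hy'.2
  have hzero : ∀ i : b.support, F.sgn i = 1 → P.toLinearMap (fundWeight b i) z = 0 := by
    intro i hi
    have hi1 : fundWeight b i ∈ Submodule.span R F.corners := by
      rw [corners_eq_of_mem_cham hb]; exact Submodule.subset_span ⟨i, hi, rfl⟩
    rw [hz, map_sub, pairing_eq_of_mem_span_corners_hyper hb hy.1 hi1,
      pairing_eq_of_mem_span_corners_hyper hb hy'.1 hi1, sub_self]
  have hB : iform P.flip z z = 0 := by
    have e1 : iform P.flip z z =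
        iform P.flip (∑ i : b.support, P.root' i z • fundCoweight b i) z :=
      congrArg (fun w => iform P.flip w z) (eq_sum_fundCoweight b z)
    rw [e1, map_sum, LinearMap.sum_apply]
    refine Finset.sum_eq_zero fun i _ => ?_
    rw [map_smul, LinearMap.smul_apply, smul_eq_mul]
    by_cases hi : F.sgn i = 1
    · have := form_fundCoweight (P := P) (iform P.flip)
        (fun k x y => iform_reflection (P := P.flip) k x y) b i z
      rw [this, hzero i hi, mul_zero, mul_zero]
    · rw [root'_eq_zero_of_mem_span_dualCarrier hb hzspan i.2 hi, zero_mul]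
  have : z = 0 := by
    by_contra hne
    exact (iform_pos (P := P.flip) hne).ne' hB
  exact sub_eq_zero.1 this

end Fin

end Groth.Agent.Lib.helper3.RootChL
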