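import Groth.Agent.Lib.Helper3.RootChK

/-! The `RootCh` family: elementary sets of roots `Psi` and numerical invariants. -/

set_option autoImplicit false
set_option linter.unusedSectionVars false
set_option linter.unusedSimpArgs false
set_option linter.style.haveILetI false

namespace Groth.Agent.Lib.helper3.RootChL

open RootPairing RootCh

variable {ι : Type*} {R : Type*} {M : Type*} {N : Type*} [Field R] [LinearOrder R] [IsStrictOrderedRing R]
  [AddCommGroup M] [Module R M] [AddCommGroup N] [Module R N]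
  {P : RootPairing ι R M N} [P.IsRootSystem]

section Fin

variable [Finite ι] [P.IsCrystallographic] [P.IsReduced]

lemma corr_fund (b : P.Base) (i : b.support) : Corr P (fundWeight b i) (fundCoweight b i) :=
  ⟨b, i, rfl, rfl⟩

lemma mem_Psi_iff {F : Facet P} {b : P.Base} (hb : b ∈ F.cham) (i₀ : b.support) (k : ι) :
    k ∈ F.Psi (fundWeight b i₀) ↔ P.root' k (fundCoweight b i₀) = 1 ∧
      ∀ j : b.support, F.sgn j = 1 → j ≠ i₀ → P.root' k (fundCoweight b j) = 0 := by
  constructor
  · rintro ⟨h1, h2⟩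
    refine ⟨h1 _ (corr_fund b i₀), fun j hj hne => ?_⟩
    have hjc : fundWeight b j ∈ F.corners := by
      rw [corners_eq_of_mem_cham hb]; exact ⟨j, hj, rfl⟩
    exact h2 _ hjc (fun h => hne (fundWeight_injective b h)) _ (corr_fund b j)
  · rintro ⟨h1, h2⟩
    refine ⟨fun x hx => ?_, fun w' hw' hne x hx => ?_⟩
    · rw [← corr_unique (corr_fund b i₀) hx]; exact h1
    · rw [corners_eq_of_mem_cham hb] at hw'
      obtain ⟨j, hj, rfl⟩ := hw'
      rw [← corr_unique (corr_fund b j) hx]
      exact h2 j hj (fun h => hne (h ▸ rfl))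

lemma simple_mem_Psi {F : Facet P} {b : P.Base} (hb : b ∈ F.cham) (i₀ : b.support) :
    (i₀ : ι) ∈ F.Psi (fundWeight b i₀) := by
  rw [mem_Psi_iff hb]
  exact ⟨root'_fundCoweight_self b i₀, fun j _ hne => root'_fundCoweight_of_ne b j i₀ hne.symm⟩

/-- On vectors of `N` supported on the dual corners, a root of `Psi(F, λ_{i₀})` pairs like the
simple root `i₀`. -/
lemma root'_eq_of_mem_Psi {F : Facet P} {b : P.Base} (hb : b ∈ F.cham) (i₀ : b.support)
    {k : ι} (hk : k ∈ F.Psi (fundWeight b i₀)) {z : N}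
    (hz : ∀ l ∈ b.support, F.sgn l ≠ 1 → P.root' l z = 0) :
    P.root' k z = P.root' i₀ z := by
  classical
  rw [mem_Psi_iff hb] at hk
  change P.toLinearMap (P.root k) z = _
  rw [pairing_expand' b (P.root k) z, Finset.sum_eq_single i₀]
  · have : P.toLinearMap (P.root k) (fundCoweight b i₀) = 1 := hk.1
    rw [this, mul_one]
  · intro j _ hj
    by_cases hj1 : F.sgn j = 1
    · have : P.toLinearMap (P.root k) (fundCoweight b j) = 0 := hk.2 j hj1 hj
      rw [this, mul_zero]
    · rw [hz j j.2 hj1, zero_mul]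
  · intro h; exact absurd (Finset.mem_univ _) h

/-- The sum of the roots of the elementary set. -/
noncomputable def psiSum (F : Facet P) (m : M) : M :=
  ∑ i ∈ (Set.toFinite (F.Psi m)).toFinset, P.root i

lemma numInv_eq (d : P.Base → N) (F : Facet P) (m : M) (b : P.Base) :
    F.numInv d m b = P.toLinearMap (psiSum F m) (d b) := by
  rw [Facet.numInv, psiSum, map_sum, LinearMap.sum_apply]

lemma reflectionPerm_mem_Psi {F : Facet P} {b : P.Base} (hb : b ∈ F.cham) (i₀ : b.support)
    {l : ι} (hl : l ∈ b.support) (hl1 : F.sgn l ≠ 1) {k : ι}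
    (hk : k ∈ F.Psi (fundWeight b i₀)) (hi₀ : F.sgn i₀ = 1) :
    P.reflectionPerm l k ∈ F.Psi (fundWeight b i₀) := by
  rw [mem_Psi_iff hb] at hk ⊢
  have key : ∀ j : b.support, F.sgn j = 1 →
      P.root' (P.reflectionPerm l k) (fundCoweight b j) = P.root' k (fundCoweight b j) := by
    intro j hj
    change P.toLinearMap (P.root (P.reflectionPerm l k)) _ = P.toLinearMap (P.root k) _
    rw [root_reflectionPerm, reflection_apply, map_sub, LinearMap.sub_apply, map_smul,
      LinearMap.smul_apply]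
    have : P.toLinearMap (P.root l) (fundCoweight b j) = 0 := by
      refine root'_fundCoweight_of_ne b j ⟨l, hl⟩ ?_
      rintro rfl
      exact hl1 hj
    rw [this, smul_zero, sub_zero]
  exact ⟨by rw [key i₀ hi₀]; exact hk.1, fun j hj hne => by rw [key j hj]; exact hk.2 j hj hne⟩

/-- `S14242` (in terms of an adjacent chamber). -/
lemma psiSum_mem_span_corners {F : Facet P} {b : P.Base} (hb : b ∈ F.cham) (i₀ : b.support)
    (hi₀ : F.sgn i₀ = 1) : psiSum F (fundWeight b i₀) ∈ Submodule.span R F.corners := by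
  apply mem_span_corners_of_forall hb
  intro l hl hl1
  have hrefl : P.reflection l (psiSum F (fundWeight b i₀)) = psiSum F (fundWeight b i₀) := by
    rw [psiSum, map_sum]
    refine Finset.sum_equiv (P.reflectionPerm l) ?_ ?_
    · intro k
      simp only [Set.Finite.mem_toFinset]
      constructor
      · intro hk; exact reflectionPerm_mem_Psi hb i₀ hl hl1 hk hi₀
      · intro hk
        have := reflectionPerm_mem_Psi hb i₀ hl hl1 hk hi₀
        rwa [reflectionPerm_self] at this
    · intro k _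
      rw [root_reflectionPerm]
  rw [reflection_apply, sub_eq_self, smul_eq_zero] at hrefl
  exact hrefl.resolve_right (P.ne_zero l)

lemma exists_idx_of_mem_corners {F : Facet P} {b : P.Base} (hb : b ∈ F.cham) {m : M}
    (hm : m ∈ F.corners) : ∃ i₀ : b.support, F.sgn i₀ = 1 ∧ m = fundWeight b i₀ := by
  rw [corners_eq_of_mem_cham hb] at hm
  obtain ⟨i, hi, rfl⟩ := hm
  exact ⟨i, hi, rfl⟩

variable {d : P.Base → N}

/-- `S14250`. -/
theorem numInv_eq_numInv (hd : IsCCS d) (F : Facet P) {m : M} (hm : m ∈ F.corners)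
    {b b' : P.Base} (hb : b ∈ F.cham) (hb' : b' ∈ F.cham) :
    F.numInv d m b = F.numInv d m b' := by
  obtain ⟨i₀, hi₀, rfl⟩ := exists_idx_of_mem_corners hb hm
  rw [numInv_eq, numInv_eq]
  exact pairing_eq_of_mem_span_corners hd hb hb' (psiSum_mem_span_corners hb i₀ hi₀)

/-- The numerical invariant in terms of a point of the `y`-locus. -/
lemma numInv_eq_card_mul {F : Facet P} {b : P.Base} (hb : b ∈ F.cham) (i₀ : b.support)
    (hi₀ : F.sgn i₀ = 1) {y : N} (hy1 : y ∈ ⋂ m ∈ F.corners, hyper d m)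
    (hy2 : y ∈ Submodule.span R F.dualCarrier) :
    F.numInv d (fundWeight b i₀) b =
      ((Set.toFinite (F.Psi (fundWeight b i₀))).toFinset.card : R) * P.root' i₀ y := by
  rw [numInv_eq, ← pairing_eq_of_mem_span_corners_hyper hb hy1 (psiSum_mem_span_corners hb i₀ hi₀),
    psiSum, map_sum, LinearMap.sum_apply]
  rw [Finset.sum_congr rfl (g := fun _ => P.root' i₀ y)]
  · rw [Finset.sum_const, nsmul_eq_mul]
  · intro k hk
    rw [Set.Finite.mem_toFinset] at hk
    exact root'_eq_of_mem_Psi hb i₀ hk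
      (fun l hl hl1 => root'_eq_zero_of_mem_span_dualCarrier hb hy2 hl hl1)

lemma card_Psi_pos {F : Facet P} {b : P.Base} (hb : b ∈ F.cham) (i₀ : b.support) :
    (0 : R) < ((Set.toFinite (F.Psi (fundWeight b i₀))).toFinset.card : R) := by
  rw [Nat.cast_pos, Finset.card_pos]
  exact ⟨i₀, (Set.Finite.mem_toFinset _).2 (simple_mem_Psi hb i₀)⟩

end Fin

end Groth.Agent.Lib.helper3.RootChL
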