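import Groth.Agent.Lib.Helper3.RootChL

/-! The `RootCh` family: special facets. -/

set_option autoImplicit false
set_option linter.unusedSectionVars false
set_option linter.unusedSimpArgs false
set_option linter.style.haveILetI false

namespace Groth.Agent.Lib.helper3.RootChL

open RootPairing RootCh

variable {ι : Type*} {R : Type*} {M : Type*} {N : Type*} [Field R] [LinearOrder R] [IsStrictOrderedRing R]
  [AddCommGroup M] [Module R M] [AddCommGroup N] [Module R N]
  {P : RootPairing ι R M N} [P.IsRootSystem]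

section Fin

variable [Finite ι] [P.IsCrystallographic] [P.IsReduced] {d : P.Base → N}

omit [P.IsRootSystem] [Finite ι] [P.IsCrystallographic] [P.IsReduced] in
lemma dualSolid_subset_solid (F : Facet P) : dualSolid d F ⊆ solid d :=
  convexHull_mono (Set.image_subset_range _ _)

lemma special_point_mem_yLocus (hd : IsCCS d) {F : Facet P} {y₀ : N}
    (hy : y₀ ∈ dualSolid d F) (hy' : y₀ ∈ Submodule.span R F.dualCarrier) : y₀ ∈ yLocus d F := by
  rw [dualSolid_eq hd] at hy
  exact ⟨hy.1, hy'⟩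

lemma yLocus_eq_singleton {F : Facet P} {y₀ : N} (hy : y₀ ∈ yLocus d F) :
    yLocus d F = {y₀} := by
  ext y
  simp only [Set.mem_singleton_iff]
  exact ⟨fun h => yLocus_subsingleton F h hy, fun h => h ▸ hy⟩

/-- `S14251`. -/
theorem exists_yLocus_eq_and_inter_eq (hd : IsCCS d) (F : Facet P) (hF : IsSpecial d F) :
    ∃ y₀ : N, yLocus d F = {y₀} ∧ F.dualCarrier ∩ dualSolid d F = {y₀} := by
  obtain ⟨y₀, hy1, hy2⟩ := hF
  have hy₀ := special_point_mem_yLocus hd hy2 (Submodule.subset_span hy1)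
  refine ⟨y₀, yLocus_eq_singleton hy₀, ?_⟩
  ext y
  simp only [Set.mem_singleton_iff]
  constructor
  · rintro ⟨h1, h2⟩
    exact yLocus_subsingleton F (special_point_mem_yLocus hd h2 (Submodule.subset_span h1)) hy₀
  · rintro rfl
    exact ⟨hy1, hy2⟩

/-- `S14243`. -/
theorem numInv_pos_and_meets_iff (hd : IsCCS d) (F : Facet P) :
    ((∀ m ∈ F.corners, ∀ b ∈ F.cham, 0 < F.numInv d m b) ∧
        (dualSolid d F ∩ (Submodule.span R F.dualCarrier : Set N)).Nonempty) ↔
      IsSpecial d F := by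
  constructor
  · rintro ⟨h1, y, hy1, hy2⟩
    obtain ⟨b, hb⟩ := exists_mem_cham F
    have hy3 := (special_point_mem_yLocus hd hy1 hy2).1
    refine ⟨y, ?_, hy1⟩
    rw [mem_dualCarrier_iff_of_mem_cham hb]
    intro i hi
    by_cases hi1 : F.sgn i = 1
    · have hm : fundWeight b ⟨i, hi⟩ ∈ F.corners := by
        rw [corners_eq_of_mem_cham hb]; exact ⟨⟨i, hi⟩, hi1, rfl⟩
      have h2 := h1 _ hm b hb
      rw [numInv_eq_card_mul hb ⟨i, hi⟩ hi1 hy3 hy2] at h2
      rw [hi1, sign_eq_one_iff]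
      exact (pos_iff_pos_of_mul_pos h2).1 (card_Psi_pos hb ⟨i, hi⟩)
    · rw [sgn_eq_zero_of_ne_one hb hi hi1, sign_eq_zero_iff]
      exact root'_eq_zero_of_mem_span_dualCarrier hb hy2 hi hi1
  · rintro ⟨y₀, hy1, hy2⟩
    have hy3 := (special_point_mem_yLocus hd hy2 (Submodule.subset_span hy1)).1
    refine ⟨fun m hm b hb => ?_, ⟨y₀, hy2, Submodule.subset_span hy1⟩⟩
    obtain ⟨i₀, hi₀, rfl⟩ := exists_idx_of_mem_corners hb hm
    rw [numInv_eq_card_mul hb i₀ hi₀ hy3 (Submodule.subset_span hy1)]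
    refine mul_pos (card_Psi_pos hb i₀) ?_
    have := (mem_dualCarrier_iff_of_mem_cham hb y₀).1 hy1 i₀ i₀.2
    rw [hi₀, sign_eq_one_iff] at this
    exact this

end Fin

end Groth.Agent.Lib.helper3.RootChL
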