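import Groth.Agent.Lib.Helper3.RootChM

/-! The `RootCh` family: the special facet is the greatest facet of maximal degree. -/

set_option autoImplicit false
set_option linter.unusedSectionVars false
set_option linter.unusedSimpArgs false
set_option linter.style.haveILetI false

namespace Groth.Agent.Lib.helper3.RootChL

open RootPairing RootCh

variable {ι : Type*} {R : Type*} {M : Type*} {N : Type*} [Field R] [LinearOrder R] [IsStrictOrderedRing R]
  [AddCommGroup M] [Module R M] [AddCommGroup N] [Module R N]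
  {P : RootPairing ι R M N} [P.IsRootSystem]

omit [P.IsRootSystem] in
lemma sgn_neg_idx (F : Facet P) (k : ι) : F.sgn (P.reflectionPerm k k) = - F.sgn k := by
  obtain ⟨x, hx⟩ := carrier_nonempty F
  rw [sgn_eq_sign hx, sgn_eq_sign hx k, coroot'_neg_idx, Left.sign_neg]

omit [P.IsRootSystem] in
lemma dual_sgn_eq_sign {F : Facet P} {y : N} (hy : y ∈ F.dualCarrier) (k : ι) :
    F.sgn k = SignType.sign (P.root' k y) := by
  have : cosgnVec P y = F.sgn := hy
  rw [← this]; rfl

section Fin

variable [Finite ι] [P.IsCrystallographic] [P.IsReduced] {d : P.Base → N}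

omit [P.IsRootSystem] [P.IsCrystallographic] [P.IsReduced] in
lemma twoRho_pairing_eq (G : Facet P) (y : N) :
    P.toLinearMap (twoRho G) y = ∑ k ∈ (Set.toFinite G.posPart).toFinset, P.root' k y := by
  classical
  rw [twoRho, map_sum, LinearMap.sum_apply]
  have hinv : Function.Involutive (fun k : ι => P.reflectionPerm k k) := by
    intro k
    exact (P.indexNeg).neg_neg k
  have := Groth.Agent.S14237.sum_eq_sum_filter (Set.toFinite G.parab).toFinset
    (fun k : ι => P.reflectionPerm k k) hinv (fun k => P.root' k y) (fun k => root'_neg_idx k y)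
  change ∑ k ∈ (Set.toFinite G.parab).toFinset, P.root' k y = _
  rw [this]
  refine Finset.sum_congr ?_ fun _ _ => rfl
  ext k
  simp only [Finset.mem_filter, Set.Finite.mem_toFinset, Facet.parab, Facet.posPart,
    Set.mem_ofPred_eq, sgn_neg_idx]
  rcases hs : G.sgn k with _ | _ | _ <;> simp

omit [P.IsRootSystem] [P.IsCrystallographic] [P.IsReduced] in
lemma twoRho_pairing_le (G : Facet P) (y : N) :
    P.toLinearMap (twoRho G) y ≤
      ∑ k ∈ (Set.toFinite {k | 0 < P.root' k y}).toFinset, P.root' k y := by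
  classical
  rw [twoRho_pairing_eq]
  set A := (Set.toFinite G.posPart).toFinset
  set Q := (Set.toFinite {k | 0 < P.root' k y}).toFinset with hQ
  have hQmem : ∀ k, k ∈ Q ↔ 0 < P.root' k y := fun k => by simp [hQ]
  calc ∑ k ∈ A, P.root' k y = ∑ k ∈ A ∩ Q, P.root' k y + ∑ k ∈ A \ Q, P.root' k y :=
        (Finset.sum_inter_add_sum_sdiff A Q _).symm
    _ ≤ ∑ k ∈ A ∩ Q, P.root' k y := by
        have : ∑ k ∈ A \ Q, P.root' k y ≤ 0 := Finset.sum_nonpos fun k hk => by
          rw [Finset.mem_sdiff, hQmem] at hk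
          exact not_lt.1 hk.2
        linarith
    _ ≤ ∑ k ∈ Q, P.root' k y :=
        Finset.sum_le_sum_of_subset_of_nonneg Finset.inter_subset_right
          (fun k hk _ => ((hQmem k).1 hk).le)

omit [P.IsRootSystem] [P.IsCrystallographic] [P.IsReduced] in
lemma twoRho_pairing_eq_of_mem_dualCarrier {F : Facet P} {y : N} (hy : y ∈ F.dualCarrier) :
    P.toLinearMap (twoRho F) y =
      ∑ k ∈ (Set.toFinite {k | 0 < P.root' k y}).toFinset, P.root' k y := by
  rw [twoRho_pairing_eq]
  refine Finset.sum_congr ?_ fun _ _ => rfl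
  ext k
  simp only [Set.Finite.mem_toFinset, Facet.posPart, Set.mem_ofPred_eq]
  rw [dual_sgn_eq_sign hy, sign_eq_one_iff]

omit [P.IsRootSystem] [P.IsCrystallographic] [P.IsReduced] in
lemma le_of_twoRho_pairing_eq {F G : Facet P} {y : N} (hy : y ∈ F.dualCarrier)
    (h : P.toLinearMap (twoRho G) y = P.toLinearMap (twoRho F) y) : G ≤ F := by
  classical
  rw [twoRho_pairing_eq_of_mem_dualCarrier hy, twoRho_pairing_eq] at h
  set A := (Set.toFinite G.posPart).toFinset with hA
  set Q := (Set.toFinite {k | 0 < P.root' k y}).toFinset with hQ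
  have hQmem : ∀ k, k ∈ Q ↔ 0 < P.root' k y := fun k => by simp [hQ]
  have hAmem : ∀ k, k ∈ A ↔ G.sgn k = 1 := fun k => by simp [hA, Facet.posPart]
  have hsub : Q ⊆ A := by
    intro k₀ hk₀
    by_contra hk₀A
    have h1 : ∑ k ∈ A, P.root' k y ≤ ∑ k ∈ A ∩ Q, P.root' k y := by
      have e : ∑ k ∈ A, P.root' k y = ∑ k ∈ A ∩ Q, P.root' k y + ∑ k ∈ A \ Q, P.root' k y :=
        (Finset.sum_inter_add_sum_sdiff A Q _).symm
      have : ∑ k ∈ A \ Q, P.root' k y ≤ 0 := Finset.sum_nonpos fun k hk => by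
        rw [Finset.mem_sdiff, hQmem] at hk
        exact not_lt.1 hk.2
      linarith
    have h2 : ∑ k ∈ A ∩ Q, P.root' k y ≤ ∑ k ∈ Q.erase k₀, P.root' k y := by
      refine Finset.sum_le_sum_of_subset_of_nonneg ?_ (fun k hk _ => ?_)
      · intro k hk
        rw [Finset.mem_inter] at hk
        exact Finset.mem_erase.2 ⟨fun e => hk₀A (e ▸ hk.1), hk.2⟩
      · exact ((hQmem k).1 (Finset.mem_of_mem_erase hk)).le
    have h3 : ∑ k ∈ Q.erase k₀, P.root' k y + P.root' k₀ y = ∑ k ∈ Q, P.root' k y :=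
      Finset.sum_erase_add _ _ hk₀
    have h4 := (hQmem k₀).1 hk₀
    linarith
  intro k
  rcases lt_trichotomy (P.root' k y) 0 with hk | hk | hk
  · right
    have h1 : 0 < P.root' (P.reflectionPerm k k) y := by rw [root'_neg_idx]; linarith
    have h2 := (hAmem _).1 (hsub ((hQmem _).2 h1))
    rw [sgn_neg_idx] at h2
    rw [dual_sgn_eq_sign hy, sign_neg hk]
    rw [neg_eq_iff_eq_neg] at h2
    exact h2.symm
  · left
    rw [dual_sgn_eq_sign hy, hk, sign_zero]
  · right
    have h2 := (hAmem _).1 (hsub ((hQmem _).2 hk))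
    rw [dual_sgn_eq_sign hy, sign_pos hk, h2]

/-- `S14248`. -/
theorem isGreatest_of_isSpecial (hd : IsCCS d) (F : Facet P) {b : P.Base} (hb : b ∈ F.cham)
    (hF : IsSpecial d F) :
    (∀ (G : Facet P) (c : P.Base), c ∈ G.cham → G.deg d c ≤ F.deg d b) ∧
      ∀ (G : Facet P) (c : P.Base), c ∈ G.cham → G.deg d c = F.deg d b → G ≤ F := by
  obtain ⟨y₀, hy1, hy2⟩ := hF
  have hy3 := (special_point_mem_yLocus hd hy2 (Submodule.subset_span hy1)).1
  have hsolid : y₀ ∈ solid d := dualSolid_subset_solid F hy2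
  have h1 : F.deg d b = P.toLinearMap (twoRho F) y₀ := by
    rw [deg_eq, pairing_eq_of_mem_span_corners_hyper hb hy3 (twoRho_mem_span_corners F)]
  have h2 : ∀ (G : Facet P) (c : P.Base), c ∈ G.cham →
      G.deg d c ≤ P.toLinearMap (twoRho G) y₀ := by
    intro G c hc
    rw [deg_eq, pairing_expand c _ (d c), pairing_expand c _ y₀]
    refine Finset.sum_le_sum fun i _ => ?_
    refine mul_le_mul_of_nonneg_left ?_ (hc (twoRho_mem_carrier G) i i.2)
    exact (mem_solid_iff hd y₀).1 hsolid c _ (by rw [baseCorners_eq]; exact ⟨i, rfl⟩)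
  have h3 : ∀ G : Facet P, P.toLinearMap (twoRho G) y₀ ≤ P.toLinearMap (twoRho F) y₀ := by
    intro G
    rw [twoRho_pairing_eq_of_mem_dualCarrier hy1]
    exact twoRho_pairing_le G y₀
  refine ⟨fun G c hc => ?_, fun G c hc heq => ?_⟩
  · rw [h1]; exact (h2 G c hc).trans (h3 G)
  · apply le_of_twoRho_pairing_eq hy1
    have := h2 G c hc
    have := h3 G
    linarith

end Fin

end Groth.Agent.Lib.helper3.RootChL
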