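import Groth.Agent.Lib.Helper3.RootChN

/-! The `RootCh` family: the special point is the point of the solid closest to the origin. -/

set_option autoImplicit false
set_option linter.unusedSectionVars false
set_option linter.unusedSimpArgs false
set_option linter.style.haveILetI false

namespace Groth.Agent.Lib.helper3.RootChL

open RootPairing RootCh

variable {ι : Type*} {R : Type*} {M : Type*} {N : Type*} [Field R] [LinearOrder R] [IsStrictOrderedRing R]
  [AddCommGroup M] [Module R M] [AddCommGroup N] [Module R N]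
  {P : RootPairing ι R M N} [P.IsRootSystem]

/-- First-order optimality for the minimum of a positive definite quadratic form on a convex
set. -/
lemma form_nonneg_of_min {V : Type*} [AddCommGroup V] [Module R V] (B : LinearMap.BilinForm R V)
    (hBs : ∀ y z : V, B y z = B z y) (hBp : ∀ y : V, y ≠ 0 → 0 < B y y)
    {C : Set V} (hC : Convex R C) {y₀ : V} (hy₀ : y₀ ∈ C) (hmin : ∀ y ∈ C, B y₀ y₀ ≤ B y y)
    {z : V} (hz : z ∈ C) : 0 ≤ B y₀ (z - y₀) := by
  by_contra hneg
  rw [not_le] at hneg
  set w := z - y₀ with hw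
  have hw0 : w ≠ 0 := by
    intro h
    rw [h, map_zero] at hneg
    exact lt_irrefl _ hneg
  have hww := hBp w hw0
  set t : R := min 1 (-(B y₀ w) / B w w) with ht
  have ht0 : 0 < t := lt_min one_pos (div_pos (by linarith) hww)
  have ht1 : t ≤ 1 := min_le_left _ _
  have ht2 : t * B w w ≤ -(B y₀ w) := by
    have : t ≤ -(B y₀ w) / B w w := min_le_right _ _
    rwa [le_div_iff₀ hww] at this
  have hmem : y₀ + t • w ∈ C := by
    have : y₀ + t • w = (1 - t) • y₀ + t • z := by
      rw [hw, smul_sub, sub_smul, one_smul]; abel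
    rw [this]
    exact hC hy₀ hz (by linarith) ht0.le (by ring)
  have h1 := hmin _ hmem
  have h2 : B (y₀ + t • w) (y₀ + t • w) = B y₀ y₀ + t * (2 * B y₀ w + t * B w w) := by
    simp only [map_add, map_smul, LinearMap.add_apply, LinearMap.smul_apply, smul_eq_mul]
    rw [hBs w y₀]
    ring
  rw [h2] at h1
  have h3 : t * (2 * B y₀ w + t * B w w) < 0 := mul_neg_of_pos_of_neg ht0 (by linarith)
  linarith

lemma form_expand (B : LinearMap.BilinForm R N)
    (hBi : ∀ (i : ι) (y z : N), B (P.coreflection i y) (P.coreflection i z) = B y z)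
    (b : P.Base) (y w : N) :
    B y w = ∑ i : b.support, P.root' i y *
      (B (P.coroot i) (P.coroot i) / 2 * P.toLinearMap (fundWeight b i) w) := by
  have e1 : B y w = B (∑ i : b.support, P.root' i y • fundCoweight b i) w :=
    congrArg (fun v => B v w) (eq_sum_fundCoweight b y)
  rw [e1, map_sum, LinearMap.sum_apply]
  refine Finset.sum_congr rfl fun i _ => ?_
  rw [map_smul, LinearMap.smul_apply, smul_eq_mul, form_fundCoweight B hBi b i w]

section Fin

variable [Finite ι] [P.IsCrystallographic] [P.IsReduced] {d : P.Base → N}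

/-- `S14244`. -/
theorem exists_yLocus_eq_and_isMinOn (hd : IsCCS d)
    (B : LinearMap.BilinForm R N) (hBs : ∀ y z : N, B y z = B z y)
    (hBp : ∀ y : N, y ≠ 0 → 0 < B y y)
    (hBi : ∀ (i : ι) (y z : N), B (P.coreflection i y) (P.coreflection i z) = B y z)
    (F : Facet P) (hF : IsSpecial d F) :
    ∃ y₀ : N, yLocus d F = {y₀} ∧ y₀ ∈ solid d ∧
      ∀ y ∈ solid d, y ≠ y₀ → B y₀ y₀ < B y y := by
  obtain ⟨y₀, hy1, hy2⟩ := hF
  have hy₀ := special_point_mem_yLocus hd hy2 (Submodule.subset_span hy1)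
  have hsolid : y₀ ∈ solid d := dualSolid_subset_solid F hy2
  refine ⟨y₀, yLocus_eq_singleton hy₀, hsolid, fun y hy hne => ?_⟩
  obtain ⟨b, hb⟩ := exists_mem_cham F
  set w := y - y₀ with hw
  have hw0 : w ≠ 0 := sub_ne_zero.2 hne
  have h1 : 0 ≤ B y₀ w := by
    rw [form_expand B hBi b y₀ w]
    refine Finset.sum_nonneg fun i _ => ?_
    have hsgn := (mem_dualCarrier_iff_of_mem_cham hb y₀).1 hy1 i i.2
    by_cases hi1 : F.sgn i = 1
    · rw [hi1, sign_eq_one_iff] at hsgn
      refine mul_nonneg hsgn.le (mul_nonneg ?_ ?_)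
      · have := hBp (P.coroot i) (P.flip.ne_zero i)
        linarith
      · have hm : fundWeight b i ∈ F.corners := by
          rw [corners_eq_of_mem_cham hb]; exact ⟨i, hi1, rfl⟩
        have hmb := corners_subset_baseCorners hb hm
        have e1 : P.toLinearMap (fundWeight b i) y₀ = P.toLinearMap (fundWeight b i) (d b) := by
          have := hy₀.1
          simp only [Set.mem_iInter] at this
          exact this _ hm b hmb
        have e2 := (mem_solid_iff hd y).1 hy b _ hmb
        rw [hw, map_sub, e1]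
        linarith
    · rw [sgn_eq_zero_of_ne_one hb i.2 hi1, sign_eq_zero_iff] at hsgn
      rw [hsgn, zero_mul]
  have h2 : B y y = B y₀ y₀ + 2 * B y₀ w + B w w := by
    have : y = y₀ + w := by rw [hw]; abel
    rw [this]
    simp only [map_add, LinearMap.add_apply]
    rw [hBs w y₀]
    ring
  have := hBp w hw0
  linarith

/-- `S14245`. -/
theorem isSpecial_of_isMinOn (hd : IsCCS d)
    (B : LinearMap.BilinForm R N) (hBs : ∀ y z : N, B y z = B z y)
    (hBp : ∀ y : N, y ≠ 0 → 0 < B y y)
    (hBi : ∀ (i : ι) (y z : N), B (P.coreflection i y) (P.coreflection i z) = B y z)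
    (y₀ : N) (hy₀ : y₀ ∈ solid d) (hmin : ∀ y ∈ solid d, B y₀ y₀ ≤ B y y)
    (F : Facet P) (hF : y₀ ∈ F.dualCarrier) :
    IsSpecial d F ∧ yLocus d F = {y₀} := by
  obtain ⟨b, hb⟩ := exists_mem_cham F
  have hdb : d b ∈ solid d := subset_convexHull R _ ⟨b, rfl⟩
  have h0 := form_nonneg_of_min B hBs hBp (convex_convexHull R _) hy₀ hmin hdb
  rw [form_expand B hBi b y₀ (d b - y₀)] at h0
  have hterm : ∀ i : b.support, P.root' i y₀ *
      (B (P.coroot i) (P.coroot i) / 2 * P.toLinearMap (fundWeight b i) (d b - y₀)) ≤ 0 := by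
    intro i
    have hsgn := (mem_dualCarrier_iff_of_mem_cham hb y₀).1 hF i i.2
    have h1 : 0 ≤ P.root' i y₀ := by
      have := (mem_cham_iff F b).1 hb i i.2
      rw [← hsgn, Ne, sign_eq_neg_one_iff, not_lt] at this
      exact this
    have h2 : 0 < B (P.coroot i) (P.coroot i) / 2 := by
      have := hBp (P.coroot i) (P.flip.ne_zero i)
      linarith
    have h3 : P.toLinearMap (fundWeight b i) (d b - y₀) ≤ 0 := by
      have := (mem_solid_iff hd y₀).1 hy₀ b _ (by rw [baseCorners_eq]; exact ⟨i, rfl⟩)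
      rw [map_sub]; linarith
    exact mul_nonpos_of_nonneg_of_nonpos h1 (mul_nonpos_of_nonneg_of_nonpos h2.le h3)
  have hzero : ∀ i : b.support, P.root' i y₀ *
      (B (P.coroot i) (P.coroot i) / 2 * P.toLinearMap (fundWeight b i) (d b - y₀)) = 0 := by
    intro i
    have := (Finset.sum_eq_zero_iff_of_nonpos (fun i _ => hterm i)).1
      (le_antisymm (Finset.sum_nonpos fun i _ => hterm i) h0) i (Finset.mem_univ _)
    exact this
  have hhyper : y₀ ∈ ⋂ m ∈ F.corners, hyper d m := by
    simp only [Set.mem_iInter]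
    intro m hm
    obtain ⟨i, hi, rfl⟩ := exists_idx_of_mem_corners hb hm
    rw [mem_hyper_iff hd (corners_subset_baseCorners hb hm)]
    have hsgn := (mem_dualCarrier_iff_of_mem_cham hb y₀).1 hF i i.2
    rw [hi, sign_eq_one_iff] at hsgn
    have h2 : 0 < B (P.coroot i) (P.coroot i) / 2 := by
      have := hBp (P.coroot i) (P.flip.ne_zero i)
      linarith
    have := hzero i
    rw [mul_eq_zero, mul_eq_zero] at this
    rcases this with h | h | h
    · exact absurd h hsgn.ne'
    · exact absurd h h2.ne'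
    · rw [map_sub, sub_eq_zero] at h
      exact h.symm
  have hmem : y₀ ∈ dualSolid d F := by
    rw [dualSolid_eq hd]
    refine ⟨hhyper, ?_⟩
    simp only [Set.mem_iInter]
    intro m _ b' hb'
    exact (mem_solid_iff hd y₀).1 hy₀ b' m hb'
  exact ⟨⟨y₀, hF, hmem⟩,
    yLocus_eq_singleton (special_point_mem_yLocus hd hmem (Submodule.subset_span hF))⟩

end Fin

end Groth.Agent.Lib.helper3.RootChL
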