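import Groth.Agent.Lib.Helper3.RootChO
import Groth.Agent.Lib.Helper3.PolyMin

/-! The `RootCh` family: existence and uniqueness of the special facet. -/

set_option autoImplicit false
set_option linter.unusedSectionVars false
set_option linter.unusedSimpArgs false
set_option linter.style.haveILetI false

namespace Groth.Agent.Lib.helper3.RootChL

open RootPairing RootCh

variable {ι : Type*} {R : Type*} {M : Type*} {N : Type*} [Field R] [LinearOrder R] [IsStrictOrderedRing R]
  [AddCommGroup M] [Module R M] [AddCommGroup N] [Module R N]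
  {P : RootPairing ι R M N} [P.IsRootSystem]

section Fin

variable [Finite ι] [P.IsCrystallographic] [P.IsReduced] {d : P.Base → N}

/-- The facet of `P` whose dual facet contains a given vector of `N`. -/
noncomputable def facetOfCovec (y : N) : Facet P :=
  ⟨cosgnVec P y, exists_cosgnVec_eq (P := P.flip) (Facet.ofVec P.flip y)⟩

lemma mem_dualCarrier_facetOfCovec (y : N) : y ∈ (facetOfCovec (P := P) y).dualCarrier := rfl

omit [P.IsRootSystem] [Finite ι] [P.IsCrystallographic] [P.IsReduced] in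
lemma facet_eq_of_mem_dualCarrier {F F' : Facet P} {y : N} (h : y ∈ F.dualCarrier)
    (h' : y ∈ F'.dualCarrier) : F = F' := by
  ext k
  have h1 : cosgnVec P y = F.sgn := h
  have h2 : cosgnVec P y = F'.sgn := h'
  rw [← h1, ← h2]

lemma exists_min_solid (d : P.Base → N) :
    ∃ y₀ ∈ solid d, ∀ y ∈ solid d, iform P.flip y₀ y₀ ≤ iform P.flip y y := by
  classical
  obtain ⟨b₀⟩ := P.nonempty_base
  have hT : (Set.toFinite (Set.range d)).toFinset.Nonempty :=
    ⟨d b₀, (Set.Finite.mem_toFinset _).2 ⟨b₀, rfl⟩⟩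
  have := PolyMinL.exists_min_convexHull (B := iform P.flip)
    (fun y z => iform_symm (P := P.flip) y z) (fun y hy => iform_pos (P := P.flip) hy) _ hT
  rwa [Set.Finite.coe_toFinset] at this

/-- `S14246`. -/
theorem existsUnique_isSpecial (hd : IsCCS d) : ∃! F : Facet P, IsSpecial d F := by
  have hBs : ∀ y z : N, iform P.flip y z = iform P.flip z y :=
    fun y z => iform_symm (P := P.flip) y z
  have hBp : ∀ y : N, y ≠ 0 → 0 < iform P.flip y y := fun y hy => iform_pos (P := P.flip) hy
  have hBi : ∀ (i : ι) (y z : N),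
      iform P.flip (P.coreflection i y) (P.coreflection i z) = iform P.flip y z :=
    fun i y z => iform_reflection (P := P.flip) i y z
  obtain ⟨y₀, hy₀, hmin⟩ := exists_min_solid d
  have hsp := (isSpecial_of_isMinOn hd (iform P.flip) hBs hBp hBi y₀ hy₀ hmin
    (facetOfCovec y₀) (mem_dualCarrier_facetOfCovec y₀)).1
  refine ⟨facetOfCovec y₀, hsp, fun F' hF' => ?_⟩
  -- the special point of `F'` is the strict minimiser, hence equals `y₀`
  obtain ⟨y₁, hy1, hy2⟩ := hF'
  obtain ⟨y₂, hloc, _, hstrict⟩ :=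
    exists_yLocus_eq_and_isMinOn hd (iform P.flip) hBs hBp hBi F' ⟨y₁, hy1, hy2⟩
  have h12 : y₁ = y₂ := by
    have := special_point_mem_yLocus hd hy2 (Submodule.subset_span hy1)
    rw [hloc] at this
    exact this
  have h02 : y₀ = y₂ := by
    by_contra hne
    have h1 := hstrict y₀ hy₀ hne
    have h2 := hmin y₂ (by rw [← h12]; exact dualSolid_subset_solid F' hy2)
    linarith
  apply facet_eq_of_mem_dualCarrier (y := y₀) _ (mem_dualCarrier_facetOfCovec y₀)
  rw [h02, ← h12]
  exact hy1

/-- `S14247`. -/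
theorem isSpecial_of_maximal (hd : IsCCS d) (F : Facet P) (b : P.Base) (hb : b ∈ F.cham)
    (hmax : ∀ (G : Facet P) (c : P.Base), c ∈ G.cham → G.deg d c ≤ F.deg d b)
    (hmaxl : ∀ (G : Facet P) (c : P.Base), c ∈ G.cham → G.deg d c = F.deg d b → F ≤ G → G = F) :
    IsSpecial d F := by
  obtain ⟨F₀, hF₀, _⟩ := existsUnique_isSpecial hd
  obtain ⟨b₀, hb₀⟩ := exists_mem_cham F₀
  obtain ⟨h1, h2⟩ := isGreatest_of_isSpecial hd F₀ hb₀ hF₀
  have heq : F.deg d b = F₀.deg d b₀ := le_antisymm (h1 F b hb) (hmax F₀ b₀ hb₀)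
  have hle : F ≤ F₀ := h2 F b hb heq
  have := hmaxl F₀ b₀ hb₀ heq.symm hle
  rw [← this]
  exact hF₀

end Fin

end Groth.Agent.Lib.helper3.RootChL
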