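import Groth.Agent.Lib.Helper3.RootChP
import Groth.Agent.S14230

/-! The `RootCh` family: parabolic sets of roots and facets. -/

set_option autoImplicit false
set_option linter.unusedSectionVars false
set_option linter.unusedSimpArgs false
set_option linter.style.haveILetI false

namespace Groth.Agent.Lib.helper3.RootChL

open RootPairing RootCh

variable {ι : Type*} {R : Type*} {M : Type*} {N : Type*} [Field R] [LinearOrder R] [IsStrictOrderedRing R]
  [AddCommGroup M] [Module R M] [AddCommGroup N] [Module R N]
  {P : RootPairing ι R M N} [P.IsRootSystem]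

omit [P.IsRootSystem] in
lemma root_neg_idx (k : ι) : P.root (P.reflectionPerm k k) = - P.root k := by simp

omit [P.IsRootSystem] in
lemma neg_idx_neg_idx (k : ι) :
    P.reflectionPerm (P.reflectionPerm k k) (P.reflectionPerm k k) = k :=
  (P.indexNeg).neg_neg k

omit [P.IsRootSystem] in
lemma mem_parab_iff (F : Facet P) (k : ι) : k ∈ F.parab ↔ F.sgn k ≠ -1 := Iff.rfl

section Fin

variable [Finite ι] [P.IsCrystallographic] [P.IsReduced]

/-- The order on facets in terms of parabolic sets. -/
lemma le_iff_parab_subset (F G : Facet P) : F ≤ G ↔ F.parab ⊆ G.parab := by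
  constructor
  · intro h k hk
    rw [mem_parab_iff] at hk ⊢
    rcases h k with h0 | h0
    · rw [h0]; decide
    · rw [h0]; exact hk
  · intro h k
    by_cases hG0 : G.sgn k = 0
    · exact Or.inl hG0
    · right
      rcases hs : G.sgn k with _ | _ | _
      · exact absurd hs hG0
      · -- `G.sgn k = -1`
        have h1 : k ∉ G.parab := fun hk => hk hs
        have h2 : k ∉ F.parab := fun hk => h1 (h hk)
        rw [mem_parab_iff, not_not] at h2
        exact h2.symm
      · -- `G.sgn k = 1`
        have h1 : P.reflectionPerm k k ∉ G.parab := by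
          rw [mem_parab_iff, not_not, sgn_neg_idx, hs]; rfl
        have h2 : P.reflectionPerm k k ∉ F.parab := fun hk => h1 (h hk)
        rw [mem_parab_iff, not_not, sgn_neg_idx, neg_eq_iff_eq_neg] at h2
        rw [h2]; rfl

lemma eq_of_parab_eq {F G : Facet P} (h : F.parab = G.parab) : F = G :=
  le_antisymm ((le_iff_parab_subset F G).2 h.le) ((le_iff_parab_subset G F).2 h.ge)

/-- The parabolic set of a facet is a parabolic subset. -/
lemma isParabolicSubset_parab (F : Facet P) : IsParabolicSubset P F.parab := by
  obtain ⟨x, hx⟩ := carrier_nonempty F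
  constructor
  · intro i j k hi hj hk
    rw [mem_parab_iff, sgn_eq_sign hx, Ne, sign_eq_neg_one_iff, not_lt] at hi hj ⊢
    have h1 := iform_root_mul_coroot' (P := P) i x
    have h2 := iform_root_mul_coroot' (P := P) j x
    have h3 := iform_root_mul_coroot' (P := P) k x
    have h4 : iform P x (P.root k) = iform P x (P.root i) + iform P x (P.root j) := by
      rw [hk, map_add]
    have hpos : 0 ≤ iform P (P.root k) (P.root k) * P.coroot' k x := by
      rw [h3, h4]
      have e1 := mul_nonneg (iform_root_pos (P := P) i).le hi
      have e2 := mul_nonneg (iform_root_pos (P := P) j).le hj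
      linarith
    exact nonneg_of_mul_nonneg_right hpos (iform_root_pos k)
  · intro i
    by_cases hi : F.sgn i = -1
    · right
      rw [mem_parab_iff, sgn_neg_idx, hi]
      decide
    · exact Or.inl hi

lemma root'_nonneg_of_isPos {b : P.Base} {z : N} (hz : ∀ i ∈ b.support, 0 ≤ P.root' i z)
    {k : ι} (hk : b.IsPos k) : 0 ≤ P.root' k z := by
  obtain ⟨n, hn⟩ := exists_nat_of_isPos b hk
  have h1 : P.root' k z = ∑ l ∈ b.support, (n l : R) * P.root' l z := by
    change P.toLinearMap (P.root k) z = _
    rw [hn, map_sum, LinearMap.sum_apply]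
    refine Finset.sum_congr rfl fun l _ => ?_
    rw [map_nsmul, LinearMap.smul_apply, nsmul_eq_mul]
  rw [h1]
  exact Finset.sum_nonneg fun l hl => mul_nonneg (Nat.cast_nonneg _) (hz l hl)

/-- A parabolic subset contains the positive roots of some base. -/
lemma exists_base_pos_subset {S : Set ι} (hS : IsParabolicSubset P S) :
    ∃ b : P.Base, ∀ k, b.IsPos k → k ∈ S := by
  classical
  haveI : Nonempty P.Base := P.nonempty_base
  obtain ⟨b, hb⟩ := Finite.exists_max (fun b : P.Base => (S ∩ {k | b.IsPos k}).ncard)
  have hsimple : ∀ i ∈ b.support, i ∈ S := by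
    intro i hi
    by_contra hiS
    have hneg : P.reflectionPerm i i ∈ S := (hS.2 i).resolve_left hiS
    have hset : S ∩ {k | (reflBase b i).IsPos k} =
        insert (P.reflectionPerm i i) (S ∩ {k | b.IsPos k}) := by
      ext k
      simp only [Set.mem_inter_iff, Set.mem_ofPred_eq, Set.mem_insert_iff]
      by_cases hk1 : k = P.reflectionPerm i i
      · subst hk1
        simp only [true_or, iff_true]
        exact ⟨hneg, isPos_reflBase_neg_self hi⟩
      by_cases hk2 : k = i
      · subst hk2
        simp only [hk1, false_or]
        constructor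
        · rintro ⟨h, _⟩; exact absurd h hiS
        · rintro ⟨h, _⟩; exact absurd h hiS
      · rw [isPos_reflBase_of_ne hi hk2 hk1]
        simp [hk1]
    have hnot : P.reflectionPerm i i ∉ S ∩ {k | b.IsPos k} := by
      rintro ⟨_, h⟩
      exact (isPos_neg_iff b i).1 h (RootPairing.Base.isPos_of_mem_support hi)
    have := hb (reflBase b i)
    rw [hset, Set.ncard_insert_of_notMem hnot (Set.toFinite _)] at this
    omega
  refine ⟨b, fun k hk => ?_⟩
  have : b.IsPos k ∧ k ∈ S := by
    refine hk.induction_on_add (p := fun k => b.IsPos k ∧ k ∈ S)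
      (fun i hi => ⟨RootPairing.Base.isPos_of_mem_support hi, hsimple i hi⟩) ?_
    intro i j k hk hi hj
    exact ⟨hi.1.add (RootPairing.Base.isPos_of_mem_support hj) hk,
      hS.1 i j k hi.2 (hsimple j hj) hk⟩
  exact this.2

/-- Every parabolic subset is the parabolic set of a facet. -/
lemma exists_facet_parab_eq {S : Set ι} (hS : IsParabolicSubset P S) :
    ∃ F : Facet P, F.parab = S := by
  classical
  obtain ⟨b, hb⟩ := exists_base_pos_subset hS
  set T : Finset b.support :=
    Finset.univ.filter (fun l : b.support => P.reflectionPerm l l ∉ S) with hT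
  set z : N := ∑ l ∈ T, fundCoweight b l with hz
  have hzs : ∀ l : b.support, P.root' l z = if l ∈ T then 1 else 0 :=
    fun l => root'_sum_fundCoweight b T l
  have hz0 : ∀ i ∈ b.support, 0 ≤ P.root' i z := by
    intro i hi
    rw [hzs ⟨i, hi⟩]
    split_ifs <;> simp
  -- the key equivalence for negatives of positive roots
  have key : ∀ k, b.IsPos k → (P.reflectionPerm k k ∈ S ↔ P.root' k z = 0) := by
    intro k hk
    have : b.IsPos k ∧ (P.reflectionPerm k k ∈ S ↔ P.root' k z = 0) := by
      refine hk.induction_on_add
        (p := fun k => b.IsPos k ∧ (P.reflectionPerm k k ∈ S ↔ P.root' k z = 0)) ?_ ?_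
      · intro i hi
        refine ⟨RootPairing.Base.isPos_of_mem_support hi, ?_⟩
        rw [hzs ⟨i, hi⟩]
        by_cases hiT : (⟨i, hi⟩ : b.support) ∈ T
        · rw [if_pos hiT]
          rw [hT, Finset.mem_filter] at hiT
          simp only [one_ne_zero, iff_false]
          exact hiT.2
        · rw [if_neg hiT]
          rw [hT, Finset.mem_filter] at hiT
          simp only [Finset.mem_univ, true_and, not_not] at hiT
          simp only [iff_true]
          exact hiT
      · intro i j k hk hi hj
        have hjpos := RootPairing.Base.isPos_of_mem_support hj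
        have hkpos : b.IsPos k := hi.1.add hjpos hk
        refine ⟨hkpos, ?_⟩
        have hsum : P.root' k z = P.root' i z + P.root' j z := by
          change P.toLinearMap (P.root k) z = _
          rw [hk, map_add, LinearMap.add_apply]
        have hi0 := root'_nonneg_of_isPos hz0 hi.1
        have hj0 := hz0 j hj
        have hjiff : P.reflectionPerm j j ∈ S ↔ P.root' j z = 0 := by
          rw [hzs ⟨j, hj⟩]
          by_cases hjT : (⟨j, hj⟩ : b.support) ∈ T
          · rw [if_pos hjT]
            rw [hT, Finset.mem_filter] at hjT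
            simp only [one_ne_zero, iff_false]
            exact hjT.2
          · rw [if_neg hjT]
            rw [hT, Finset.mem_filter] at hjT
            simp only [Finset.mem_univ, true_and, not_not] at hjT
            simp only [iff_true]
            exact hjT
        constructor
        · intro hkS
          -- `-i = -k + j`, `-j = -k + i`
          have hnegi : P.reflectionPerm i i ∈ S := by
            refine hS.1 (P.reflectionPerm k k) j _ hkS (hb j hjpos) ?_
            rw [root_neg_idx, root_neg_idx, hk]; abel
          have hnegj : P.reflectionPerm j j ∈ S := by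
            refine hS.1 (P.reflectionPerm k k) i _ hkS (hb i hi.1) ?_
            rw [root_neg_idx, root_neg_idx, hk]; abel
          rw [hsum, hi.2.1 hnegi, hjiff.1 hnegj, add_zero]
        · intro h0
          rw [hsum] at h0
          have e1 : P.root' i z = 0 := by linarith
          have e2 : P.root' j z = 0 := by linarith
          refine hS.1 (P.reflectionPerm i i) (P.reflectionPerm j j) _ (hi.2.2 e1) (hjiff.2 e2) ?_
          rw [root_neg_idx, root_neg_idx, root_neg_idx, hk]; abel
    exact this.2
  refine ⟨facetOfCovec z, ?_⟩
  ext k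
  rw [mem_parab_iff]
  change SignType.sign (P.root' k z) ≠ -1 ↔ _
  rw [Ne, sign_eq_neg_one_iff, not_lt]
  by_cases hk : b.IsPos k
  · simp only [root'_nonneg_of_isPos hz0 hk, hb k hk]
  · have hk' := (isPos_neg_iff b k).2 hk
    have h1 := key _ hk'
    rw [neg_idx_neg_idx, root'_neg_idx] at h1
    have h2 := root'_nonneg_of_isPos hz0 hk'
    rw [root'_neg_idx] at h2
    rw [h1]
    constructor
    · intro h; linarith
    · intro h; linarith

/-- `S14236`. -/
theorem isParabolicSubset_iff :
    (∀ S : Set ι, IsParabolicSubset P S ↔ ∃! F : Facet P, F.parab = S) ∧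
      ∀ F G : Facet P, F ≤ G ↔ F.parab ⊆ G.parab := by
  refine ⟨fun S => ⟨fun hS => ?_, ?_⟩, le_iff_parab_subset⟩
  · obtain ⟨F, hF⟩ := exists_facet_parab_eq hS
    exact ⟨F, hF, fun G hG => eq_of_parab_eq (hG.trans hF.symm)⟩
  · rintro ⟨F, rfl, _⟩
    exact isParabolicSubset_parab F

end Fin

end Groth.Agent.Lib.helper3.RootChL
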