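import Groth.Agent.Lib.Helper3.RootChQ

/-! The `RootCh` family: corners of a facet in terms of its parabolic set. -/

set_option autoImplicit false
set_option linter.unusedSectionVars false
set_option linter.unusedSimpArgs false
set_option linter.style.haveILetI false

namespace Groth.Agent.Lib.helper3.RootChL

open RootPairing RootCh

variable {ι : Type*} {R : Type*} {M : Type*} {N : Type*} [Field R] [LinearOrder R] [IsStrictOrderedRing R]
  [AddCommGroup M] [Module R M] [AddCommGroup N] [Module R N]
  {P : RootPairing ι R M N} [P.IsRootSystem]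

section Fin

variable [Finite ι] [P.IsCrystallographic] [P.IsReduced]

lemma sgnVec_fundWeight_eq (b : P.Base) (j : b.support) :
    sgnVec P (fundWeight b j) = cosgnVec P (fundCoweight b j) := by
  classical
  apply sgnVec_eq_cosgnVec_of_simple (b := b) (fundWeight_mem_closedChamber b j)
  · intro i hi
    rw [root'_fundCoweight b j ⟨i, hi⟩]
    split_ifs <;> simp
  · intro i hi
    rw [root'_fundCoweight b j ⟨i, hi⟩, coroot'_fundWeight b j ⟨i, hi⟩]

/-- `S14234`. -/
theorem corners_eq_setOf_nonneg_on_parab (F : Facet P) :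
    F.corners = {m : M | m ∈ fundWeights P ∧
      ∀ y : N, Corr P m y → ∀ i ∈ F.parab, 0 ≤ P.root' i y} := by
  ext m
  constructor
  · intro hm
    refine ⟨hm.1, fun y hy i hi => ?_⟩
    obtain ⟨b, hb⟩ := exists_mem_cham F
    obtain ⟨i₀, _, rfl⟩ := exists_idx_of_mem_corners hb hm
    rw [← corr_unique (corr_fund b i₀) hy]
    have h1 := hm.2 i
    rw [sgnVec_fundWeight_eq] at h1
    change SignType.sign (P.root' i (fundCoweight b i₀)) = 0 ∨
      SignType.sign (P.root' i (fundCoweight b i₀)) = F.sgn i at h1
    rw [mem_parab_iff] at hi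
    by_contra hneg
    rw [not_le] at hneg
    rw [sign_neg hneg] at h1
    rcases h1 with h1 | h1
    · exact absurd h1 (by decide)
    · exact hi h1.symm
  · rintro ⟨⟨b', j, rfl⟩, h⟩
    refine ⟨⟨b', j, rfl⟩, fun i => ?_⟩
    have hy := h _ (corr_fund b' j)
    rw [sgnVec_fundWeight_eq]
    change SignType.sign (P.root' i (fundCoweight b' j)) = 0 ∨
      SignType.sign (P.root' i (fundCoweight b' j)) = F.sgn i
    rcases hs : F.sgn i with _ | _ | _
    · -- sign zero
      left
      have h1 := hy i (by rw [mem_parab_iff, hs]; decide)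
      have h2 := hy (P.reflectionPerm i i) (by rw [mem_parab_iff, sgn_neg_idx, hs]; decide)
      rw [root'_neg_idx] at h2
      rw [sign_eq_zero_iff]
      linarith
    · -- sign negative
      have h2 := hy (P.reflectionPerm i i) (by rw [mem_parab_iff, sgn_neg_idx, hs]; decide)
      rw [root'_neg_idx] at h2
      rcases (neg_nonneg.1 h2).lt_or_eq with h3 | h3
      · right; rw [sign_neg h3]; rfl
      · left; rw [h3, sign_zero]
    · -- sign positive
      have h1 := hy i (by rw [mem_parab_iff, hs]; decide)
      rcases h1.lt_or_eq with h3 | h3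
      · right; rw [sign_pos h3]; rfl
      · left; rw [← h3, sign_zero]

/-- Facets with the same corners are equal. -/
lemma eq_of_corners_eq {F G : Facet P} (h : F.corners = G.corners) : F = G := by
  have h1 := Groth.Agent.S14230.result P F
  have h2 := Groth.Agent.S14230.result P G
  rw [h] at h1
  have hc : F.carrier = G.carrier := h1.trans h2.symm
  obtain ⟨x, hx⟩ := carrier_nonempty F
  have hx' : x ∈ G.carrier := hc ▸ hx
  rw [← ofVec_eq_of_mem_carrier hx, ← ofVec_eq_of_mem_carrier hx']

/-- `S14235`. -/
theorem existsUnique_facet_corners_eq {S : Set ι} (hS : IsParabolicSubset P S) :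
    ∃ F : Facet P,
      (F.corners = {m : M | m ∈ fundWeights P ∧
          ∀ y : N, Corr P m y → ∀ i ∈ S, 0 ≤ P.root' i y} ∧ F.parab = S) ∧
      ∀ G : Facet P,
        G.corners = {m : M | m ∈ fundWeights P ∧
          ∀ y : N, Corr P m y → ∀ i ∈ S, 0 ≤ P.root' i y} → G = F := by
  obtain ⟨F, hF⟩ := exists_facet_parab_eq hS
  have hcor := corners_eq_setOf_nonneg_on_parab F
  rw [hF] at hcor
  exact ⟨F, ⟨hcor, hF⟩, fun G hG => eq_of_corners_eq (hG.trans hcor.symm)⟩

end Fin

end Groth.Agent.Lib.helper3.RootChL
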