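import Groth.Prelude.Def_W4sga3xxiRoot
import Mathlib.LinearAlgebra.RootSystem.Reduced
import Mathlib.LinearAlgebra.RootSystem.Finite.Lemmas

/-! Helper lemmas for the `RootD` family (root data over `ℤ`). -/

set_option autoImplicit false

namespace Groth.Agent.Lib.helper3.RootDLib

open _root_.RootD

variable {ι M N : Type*} [AddCommGroup M] [AddCommGroup N] (P : RootPairing ι ℤ M N)

/-- Elements of `natSpan P S` are non-negative integer combinations supported on `S`. -/
lemma exists_finsupp_of_mem_natSpan {S : Set ι} {x : M} (hx : x ∈ natSpan P S) :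
    ∃ c : ι →₀ ℤ, c ∈ Finsupp.supported ℤ ℤ S ∧ (∀ j, 0 ≤ c j) ∧
      Finsupp.linearCombination ℤ P.root c = x := by
  unfold natSpan at hx
  induction hx using AddSubmonoid.closure_induction with
  | mem x hx =>
    obtain ⟨i, hi, rfl⟩ := hx
    refine ⟨Finsupp.single i 1, Finsupp.single_mem_supported ℤ 1 hi, fun j => ?_, by simp⟩
    classical
    rw [Finsupp.single_apply]
    split_ifs <;> norm_num
  | zero => exact ⟨0, Submodule.zero_mem _, fun j => le_rfl, by simp⟩
  | add x y _ _ hx hy =>
    obtain ⟨c, hc, hc0, rfl⟩ := hx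
    obtain ⟨d, hd, hd0, rfl⟩ := hy
    exact ⟨c + d, Submodule.add_mem _ hc hd, fun j => add_nonneg (hc0 j) (hd0 j), by simp⟩

/-- Conversely, non-negative integer combinations supported on `S` lie in `natSpan P S`. -/
lemma linearCombination_mem_natSpan {S : Set ι} (c : ι →₀ ℤ) (hc : c ∈ Finsupp.supported ℤ ℤ S)
    (hc0 : ∀ j, 0 ≤ c j) : Finsupp.linearCombination ℤ P.root c ∈ natSpan P S := by
  rw [Finsupp.linearCombination_apply, Finsupp.sum]
  apply AddSubmonoid.sum_mem
  intro j hj
  have hjS : j ∈ S := hc hj
  obtain ⟨n, hn⟩ := Int.eq_ofNat_of_zero_le (hc0 j)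
  rw [hn, natCast_zsmul]
  have hmem : P.root j ∈ natSpan P S := AddSubmonoid.subset_closure ⟨j, hjS, rfl⟩
  exact AddSubmonoid.nsmul_mem _ hmem n

/-- Uniqueness of coefficients for a linearly independent family. -/
lemma finsupp_eq_of_linearCombination_eq {S : Set ι} (hli : LinearIndepOn ℤ P.root S)
    {c d : ι →₀ ℤ} (hc : c ∈ Finsupp.supported ℤ ℤ S) (hd : d ∈ Finsupp.supported ℤ ℤ S)
    (h : Finsupp.linearCombination ℤ P.root c = Finsupp.linearCombination ℤ P.root d) : c = d := by
  rw [linearIndepOn_iff] at hli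
  have := hli (c - d) (Submodule.sub_mem _ hc hd) (by rw [map_sub, h, sub_self])
  exact sub_eq_zero.mp this

lemma root_neg (i : ι) : P.root (P.reflectionPerm i i) = -P.root i := by simp

include P in
lemma isReflexive_left : Module.IsReflexive ℤ M := .of_isPerfPair P.toLinearMap

include P in
lemma isReflexive_right : Module.IsReflexive ℤ N := .of_isPerfPair P.flip.toLinearMap

lemma pairingIn_eq (i j : ι) : P.pairingIn ℤ i j = P.pairing i j := by
  simpa using P.algebraMap_pairingIn ℤ i j

/-- Reflections in proportional roots coincide. -/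
lemma reflection_eq_of_smul [Finite ι] (i j : ι) (t : ℤ) (h : P.root j = t • P.root i) :
    P.reflection i = P.reflection j := by
  have : Module.IsReflexive ℤ N := .of_isPerfPair P.flip.toLinearMap
  have : IsAddTorsionFree N := .of_isTorsionFree ℤ N
  have hco := RootPairing.smul_coroot_eq_of_root_eq_smul (P := P) i j t h
  ext x
  rw [P.reflection_apply, P.reflection_apply]
  congr 1
  change (P.toLinearMap x (P.coroot i)) • P.root i = (P.toLinearMap x (P.coroot j)) • P.root j
  rw [← hco, map_smul, h, smul_smul, smul_eq_mul, mul_comm]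

/-- The automorphisms given by reflections in proportional roots coincide. -/
lemma equivReflection_eq_of_smul [Finite ι] (i j : ι) (t : ℤ) (h : P.root j = t • P.root i) :
    RootPairing.Equiv.reflection P i = RootPairing.Equiv.reflection P j := by
  apply RootPairing.Equiv.weightHom_injective P
  ext x
  change P.reflection i x = P.reflection j x
  rw [reflection_eq_of_smul P i j t h]

/-- If `root j = t • root i` then `t ∣ 2`-ish: precisely `t * pairing i j = 4`... we record
`pairing j i = 2 * t`. -/
lemma pairing_of_root_eq_smul (i j : ι) (t : ℤ) (h : P.root j = t • P.root i) :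
    P.pairing j i = 2 * t := by
  have := congrArg (P.coroot' i) h
  rw [map_smul, P.root_coroot'_eq_pairing, P.root_coroot'_eq_pairing, P.pairing_same] at this
  rw [this]; simp [mul_comm]

/-- If `root j = t • root i` then `t ∈ {1, -1, 2, -2}`. -/
lemma smul_cases_of_root_eq_smul [Finite ι] (i j : ι) (t : ℤ) (h : P.root j = t • P.root i) :
    t = 1 ∨ t = -1 ∨ t = 2 ∨ t = -2 := by
  have : Module.IsReflexive ℤ M := .of_isPerfPair P.toLinearMap
  have hnli : ¬ LinearIndependent ℤ ![P.root i, P.root j] := by
    intro hli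
    rw [LinearIndependent.pair_iff] at hli
    have := hli t (-1) (by rw [h]; simp)
    simp at this
  have h4 : P.coxeterWeight i j = 4 := P.coxeterWeight_eq_four_iff_not_linearIndependent.mpr hnli
  rw [RootPairing.coxeterWeight, pairing_of_root_eq_smul P i j t h] at h4
  have hdvd : t ∣ 2 := ⟨P.pairing i j, by linarith⟩
  have hle : t ≤ 2 := Int.le_of_dvd (by norm_num) hdvd
  have hge : -2 ≤ t := by
    have : -t ≤ 2 := Int.le_of_dvd (by norm_num) ((neg_dvd).mpr hdvd)
    linarith
  interval_cases t <;> simp_all

lemma pairing_pos_iff [Finite ι] (i j : ι) : 0 < P.pairing i j ↔ 0 < P.pairing j i := by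
  have := P.zero_lt_pairingIn_iff' ℤ (i := i) (j := j)
  rwa [pairingIn_eq, pairingIn_eq] at this

/-- The possible relations between two proportional roots. -/
lemma proportional_cases [Finite ι] (i j : ι) (h : ¬ LinearIndependent ℤ ![P.root i, P.root j]) :
    P.root j = P.root i ∨ P.root j = -P.root i ∨ P.root j = (2 : ℤ) • P.root i ∨
      P.root j = -((2 : ℤ) • P.root i) ∨ P.root i = (2 : ℤ) • P.root j ∨
      P.root i = -((2 : ℤ) • P.root j) := by
  have : Module.IsReflexive ℤ M := .of_isPerfPair P.toLinearMap
  have h2 := P.pairing_smul_root_eq_of_not_linearIndependent h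
  have h4 : P.coxeterWeight i j = 4 := P.coxeterWeight_eq_four_iff_not_linearIndependent.mpr h
  rw [RootPairing.coxeterWeight] at h4
  set p := P.pairing j i with hp
  set q := P.pairing i j with hq
  have hdvd : p ∣ 4 := ⟨q, by rw [← h4]; ring⟩
  have hle : p ≤ 4 := Int.le_of_dvd (by norm_num) hdvd
  have hge : -4 ≤ p := by
    have : -p ≤ 4 := Int.le_of_dvd (by norm_num) ((neg_dvd).mpr hdvd)
    linarith
  have h2ne : (2 : ℤ) ≠ 0 := by norm_num
  have hcases : p = 1 ∨ p = -1 ∨ p = 2 ∨ p = -2 ∨ p = 4 ∨ p = -4 := by
    interval_cases p <;> omega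
  rcases hcases with h1 | h1 | h1 | h1 | h1 | h1 <;> rw [h1] at h2
  · right; right; right; right; left
    rw [one_smul] at h2; exact h2
  · right; right; right; right; right
    rw [neg_smul, one_smul] at h2
    rw [← h2, neg_neg]
  · left
    exact ((smul_right_inj h2ne).mp h2).symm
  · right; left
    have : (2 : ℤ) • (-P.root i) = (2 : ℤ) • P.root j := by rw [← h2]; simp
    exact ((smul_right_inj h2ne).mp this).symm
  · right; right; left
    have : (2 : ℤ) • ((2 : ℤ) • P.root i) = (2 : ℤ) • P.root j := by
      rw [← h2, smul_smul]; norm_num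
    exact ((smul_right_inj h2ne).mp this).symm
  · right; right; right; left
    have : (2 : ℤ) • (-((2 : ℤ) • P.root i)) = (2 : ℤ) • P.root j := by
      rw [← h2, smul_neg, smul_smul, ← neg_smul]; norm_num
    exact ((smul_right_inj h2ne).mp this).symm

lemma natSpan_mono {S T : Set ι} (h : S ⊆ T) : natSpan P S ≤ natSpan P T :=
  AddSubmonoid.closure_mono (Set.image_mono h)

lemma root_mem_natSpan {S : Set ι} {i : ι} (hi : i ∈ S) : P.root i ∈ natSpan P S :=
  AddSubmonoid.subset_closure ⟨i, hi, rfl⟩

lemma subset_posOf (Δ : Set ι) : Δ ⊆ posOf P Δ := fun _ hi => root_mem_natSpan P hi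

lemma natSpan_posOf (Δ : Set ι) : natSpan P (posOf P Δ) = natSpan P Δ := by
  apply le_antisymm
  · unfold natSpan
    rw [AddSubmonoid.closure_le]
    rintro _ ⟨k, hk, rfl⟩
    exact hk
  · exact natSpan_mono P (subset_posOf P Δ)

/-- A finitely supported non-negative function summing (via a linear independent family) to zero
vanishes. -/
lemma eq_zero_of_add_eq_zero {c d : ι →₀ ℤ} (hc0 : ∀ j, 0 ≤ c j) (hd0 : ∀ j, 0 ≤ d j)
    (h : c + d = 0) : c = 0 := by
  ext j
  have := DFunLike.congr_fun h j
  simp only [Finsupp.coe_add, Pi.add_apply, Finsupp.coe_zero, Pi.zero_apply] at this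
  have h1 := hc0 j
  have h2 := hd0 j
  simp only [Finsupp.coe_zero, Pi.zero_apply]
  omega

/-- The positive roots of a simple system form a positive system. -/
lemma isPosSys_posOf [Finite ι] {Δ : Set ι} (hΔ : IsSimpleSys P Δ) : IsPosSys P (posOf P Δ) := by
  have : Module.IsReflexive ℤ M := .of_isPerfPair P.toLinearMap
  refine ⟨?_, ?_, ?_⟩
  · intro k hk hnk
    change P.root _ ∈ natSpan P Δ at hnk
    rw [root_neg] at hnk
    obtain ⟨c, hc, hc0, hck⟩ := exists_finsupp_of_mem_natSpan P hk
    obtain ⟨d, hd, hd0, hdk⟩ := exists_finsupp_of_mem_natSpan P hnk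
    have h0 : c + d = 0 := finsupp_eq_of_linearCombination_eq P hΔ.linInd
      (Submodule.add_mem _ hc hd) (Submodule.zero_mem _) (by rw [map_add, hck, hdk]; simp)
    have hc00 := eq_zero_of_add_eq_zero hc0 hd0 h0
    rw [hc00, map_zero] at hck
    exact P.ne_zero k hck.symm
  · intro k
    rcases hΔ.mem_or_neg_mem k with h | h
    · exact Or.inl h
    · right
      change P.root _ ∈ natSpan P Δ
      rwa [root_neg]
  · intro k n hn hk
    rw [natSpan_posOf] at hk
    rcases hΔ.mem_or_neg_mem k with h | h
    · exact h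
    · exfalso
      obtain ⟨c, hc, hc0, hck⟩ := exists_finsupp_of_mem_natSpan P hk
      obtain ⟨d, hd, hd0, hdk⟩ := exists_finsupp_of_mem_natSpan P h
      have h0 : c + (n : ℤ) • d = 0 := finsupp_eq_of_linearCombination_eq P hΔ.linInd
        (Submodule.add_mem _ hc (Submodule.smul_mem _ _ hd)) (Submodule.zero_mem _)
        (by rw [map_add, map_smul, hck, hdk, natCast_zsmul]; simp)
      have hnd0 : ∀ j, 0 ≤ ((n : ℤ) • d) j := by
        intro j
        simp only [Finsupp.smul_apply, smul_eq_mul]
        exact mul_nonneg (by positivity) (hd0 j)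
      have hc00 := eq_zero_of_add_eq_zero hc0 hnd0 h0
      rw [hc00, map_zero, ← natCast_zsmul] at hck
      rcases smul_eq_zero.mp hck.symm with h1 | h1
      · omega
      · exact P.ne_zero k h1

/-- The total coefficient of a non-negative finitely supported function vanishes only for `0`. -/
lemma eq_zero_of_sum_eq_zero {c : ι →₀ ℤ} (hc0 : ∀ j, 0 ≤ c j)
    (h : c.sum (fun _ a => a) = 0) : c = 0 := by
  ext j
  by_contra hj
  have hjs : j ∈ c.support := Finsupp.mem_support_iff.mpr hj
  have h1 : c j ≤ c.sum (fun _ a => a) :=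
    Finset.single_le_sum (f := fun j => c j) (fun i _ => hc0 i) hjs
  rw [h] at h1
  have := hc0 j
  simp only [Finsupp.coe_zero, Pi.zero_apply] at hj
  omega

/-- In a closed set of roots containing no pair of opposite roots, no non-trivial non-negative
integer combination vanishes. -/
lemma eq_zero_of_linearCombination_eq_zero [Finite ι] {S : Set ι} (hcl : IsClosedSub P S)
    (hP1 : ∀ i ∈ S, P.reflectionPerm i i ∉ S) (c : ι →₀ ℤ) (hc : c ∈ Finsupp.supported ℤ ℤ S)
    (hc0 : ∀ j, 0 ≤ c j) (h : Finsupp.linearCombination ℤ P.root c = 0) : c = 0 := by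
  classical
  have main : ∀ (n : ℕ) (c : ι →₀ ℤ), c ∈ Finsupp.supported ℤ ℤ S → (∀ j, 0 ≤ c j) →
      c.sum (fun _ a => a) = n → Finsupp.linearCombination ℤ P.root c = 0 → c = 0 := by
    intro n
    induction n with
    | zero =>
      intro c _ hc0 hsum _
      exact eq_zero_of_sum_eq_zero hc0 (by simpa using hsum)
    | succ n ih =>
      intro c hc hc0 hsum hlc
      exfalso
      have hcne : c ≠ 0 := by
        rintro rfl
        simp at hsum
        omega
      obtain ⟨j₁, hj₁⟩ : ∃ j, c j ≠ 0 := by
        by_contra hcon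
        push Not at hcon
        exact hcne (Finsupp.ext hcon)
      have hj₁pos : 0 < c j₁ := lt_of_le_of_ne (hc0 j₁) (Ne.symm hj₁)
      have hj₁S : j₁ ∈ S := hc (Finsupp.mem_support_iff.mpr hj₁)
      -- pair with the coroot j₁
      have h0 : (0 : ℤ) = c.sum (fun j a => a * P.pairing j j₁) := by
        have := congrArg (P.coroot' j₁) hlc
        rw [map_zero, Finsupp.linearCombination_apply, map_finsuppSum] at this
        rw [← this]
        simp [P.root_coroot'_eq_pairing]
      have hex : ∃ j₂ ∈ c.support, c j₂ * P.pairing j₂ j₁ < 0 := by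
        by_contra hcon
        push Not at hcon
        have hle : c j₁ * P.pairing j₁ j₁ ≤ c.sum (fun j a => a * P.pairing j j₁) :=
          Finset.single_le_sum (f := fun j => c j * P.pairing j j₁) (fun i hi => hcon i hi)
            (Finsupp.mem_support_iff.mpr hj₁)
        rw [← h0, P.pairing_same] at hle
        omega
      obtain ⟨j₂, hj₂s, hj₂⟩ := hex
      have hj₂pos : 0 < c j₂ :=
        lt_of_le_of_ne (hc0 j₂) (Ne.symm (Finsupp.mem_support_iff.mp hj₂s))
      have hj₂S : j₂ ∈ S := hc hj₂s
      have hpneg : P.pairing j₂ j₁ < 0 := by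
        by_contra hcon
        push Not at hcon
        have := mul_nonneg hj₂pos.le hcon
        omega
      have hne : j₂ ≠ j₁ := by
        rintro rfl
        rw [P.pairing_same] at hpneg
        omega
      have hnn : P.root j₂ ≠ -P.root j₁ := by
        intro hneg
        rw [RootPairing.root_eq_neg_iff] at hneg
        exact hP1 j₁ hj₁S (hneg ▸ hj₂S)
      have hpneg' : P.pairingIn ℤ j₂ j₁ < 0 := by rw [pairingIn_eq]; exact hpneg
      obtain ⟨k, hk⟩ := P.root_add_root_mem_of_pairingIn_neg hpneg' hnn
      have hkS : k ∈ S := hcl hj₂S hj₁S hk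
      set c' : ι →₀ ℤ := c - Finsupp.single j₁ 1 - Finsupp.single j₂ 1 + Finsupp.single k 1 with hc'
      have hc'supp : c' ∈ Finsupp.supported ℤ ℤ S :=
        Submodule.add_mem _ (Submodule.sub_mem _ (Submodule.sub_mem _ hc
          (Finsupp.single_mem_supported ℤ 1 hj₁S)) (Finsupp.single_mem_supported ℤ 1 hj₂S))
          (Finsupp.single_mem_supported ℤ 1 hkS)
      have hc'0 : ∀ j, 0 ≤ c' j := by
        intro j
        simp only [hc', Finsupp.coe_add, Finsupp.coe_sub, Pi.add_apply, Pi.sub_apply]
        have hk0 : 0 ≤ (Finsupp.single k (1 : ℤ)) j := by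
          rw [Finsupp.single_apply]; split_ifs <;> norm_num
        by_cases e1 : j = j₁
        · subst e1
          rw [Finsupp.single_eq_same, Finsupp.single_eq_of_ne hne.symm]
          omega
        · by_cases e2 : j = j₂
          · subst e2
            rw [Finsupp.single_eq_same, Finsupp.single_eq_of_ne hne]
            omega
          · rw [Finsupp.single_eq_of_ne e1, Finsupp.single_eq_of_ne e2]
            have := hc0 j
            omega
      have hc'sum : c'.sum (fun _ a => a) = n := by
        have e1 := Finsupp.sum_add_index' (f := c - Finsupp.single j₁ 1 - Finsupp.single j₂ 1)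
          (g := Finsupp.single k (1 : ℤ)) (h := fun _ a => a) (fun _ => rfl) (fun _ _ _ => rfl)
        have e2 := Finsupp.sum_sub_index (f := c - Finsupp.single j₁ 1)
          (g := Finsupp.single j₂ (1 : ℤ)) (h := fun _ a => a) (fun _ _ _ => rfl)
        have e3 := Finsupp.sum_sub_index (f := c) (g := Finsupp.single j₁ (1 : ℤ))
          (h := fun _ a => a) (fun _ _ _ => rfl)
        rw [hc', e1, e2, e3, hsum, Finsupp.sum_single_index rfl, Finsupp.sum_single_index rfl,
          Finsupp.sum_single_index rfl]
        push_cast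
        ring
      have hc'lc : Finsupp.linearCombination ℤ P.root c' = 0 := by
        rw [hc', map_add, map_sub, map_sub, hlc]
        simp only [Finsupp.linearCombination_single, one_smul]
        rw [hk]; abel
      have hzero := ih c' hc'supp hc'0 hc'sum hc'lc
      have : c'.sum (fun _ a => a) = 0 := by rw [hzero]; simp
      rw [hc'sum] at this
      -- total of c is 1 but two coefficients are positive
      have hn0 : n = 0 := by exact_mod_cast this
      subst hn0
      have htwo : c j₁ + c j₂ ≤ c.sum (fun _ a => a) := by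
        have hsub : ({j₁, j₂} : Finset ι) ⊆ c.support := by
          intro x hx
          simp only [Finset.mem_insert, Finset.mem_singleton] at hx
          rcases hx with rfl | rfl
          · exact Finsupp.mem_support_iff.mpr hj₁
          · exact hj₂s
        have := Finset.sum_le_sum_of_subset_of_nonneg (f := fun j => c j) hsub
          (fun i _ _ => hc0 i)
        rw [Finset.sum_pair hne.symm] at this
        exact this
      rw [hsum] at htwo
      push_cast at htwo
      omega
  have hnn : 0 ≤ c.sum (fun _ a => a) := Finset.sum_nonneg (fun i _ => hc0 i)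
  obtain ⟨n, hn⟩ := Int.eq_ofNat_of_zero_le hnn
  exact main n c hc hc0 hn h

/-- A divisible root is twice an indivisible root. -/
lemma exists_indiv_of_not_indiv [Finite ι] (k : ι) (hk : ¬ IsIndiv P k) :
    ∃ j, IsIndiv P j ∧ (2 : ℤ) • P.root j = P.root k := by
  unfold IsIndiv at hk
  push Not at hk
  obtain ⟨j, hj⟩ := hk
  refine ⟨j, ?_, hj⟩
  intro l hl
  have h4 : P.root k = (4 : ℤ) • P.root l := by
    rw [← hj, ← hl, smul_smul]; norm_num
  have := smul_cases_of_root_eq_smul P l k 4 h4
  omega

lemma root_smul (g : P.Aut) (k : ι) : P.root (g • k) = g • P.root k :=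
  RootPairing.Equiv.root_indexEquiv_eq_smul P k g

/-- If a submodule is stable under a set of reflections, it is stable under the subgroup they
generate. -/
lemma smul_mem_of_mem_closure {T : Set ι} (A : Submodule ℤ M)
    (hA : ∀ j ∈ T, ∀ x ∈ A, P.reflection j x ∈ A) (g : P.Aut)
    (hg : g ∈ Subgroup.closure ((fun i : ι => RootPairing.Equiv.reflection P i) '' T)) :
    ∀ x ∈ A, g • x ∈ A := by
  have main : (∀ x ∈ A, g • x ∈ A) ∧ (∀ x ∈ A, g⁻¹ • x ∈ A) := by
    induction hg using Subgroup.closure_induction with
    | mem y hy =>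
      obtain ⟨i, hi, rfl⟩ := hy
      refine ⟨fun x hx => hA i hi x hx, fun x hx => ?_⟩
      rw [RootPairing.Equiv.reflection_inv]
      exact hA i hi x hx
    | one => simp
    | mul x y _ _ hx hy =>
      refine ⟨fun z hz => ?_, fun z hz => ?_⟩
      · rw [mul_smul]; exact hx.1 _ (hy.1 z hz)
      · rw [mul_inv_rev, mul_smul]; exact hy.2 _ (hx.2 z hz)
    | inv x _ hx =>
      refine ⟨hx.2, ?_⟩
      rw [inv_inv]; exact hx.1
  exact main.1

end Groth.Agent.Lib.helper3.RootDLib
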