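import Groth.Agent.Lib.Helper3.RootD9

/-! Additive maps to a lexicographic power of ℤ that are injective on the root lattice, and maps
vanishing exactly on a saturated set of roots (averaging over a reflection subgroup). -/

set_option autoImplicit false

namespace Groth.Agent.Lib.helper3.RootDLib

open _root_.RootD

variable {ι M N : Type*} [AddCommGroup M] [AddCommGroup N] (P : RootPairing ι ℤ M N)

lemma exists_hom_lex_inj [Finite ι] :
    ∃ (n : ℕ) (ψ : M →+ Lex (Fin n → ℤ)),
      ∀ x ∈ Submodule.span ℤ (Set.range P.root), ψ x = 0 → x = 0 := by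
  classical
  haveI : Fintype ι := Fintype.ofFinite ι
  obtain ⟨n, ⟨e⟩⟩ := Finite.exists_equiv_fin ι
  let φ : M →+ Lex (Fin n → ℤ) :=
    { toFun := fun m => toLex (fun a => P.coroot' (e.symm a) m)
      map_zero' := by
        change toLex (fun a => P.coroot' (e.symm a) 0) = toLex (0 : Fin n → ℤ)
        congr 1
        ext a
        simp
      map_add' := by
        intro x y
        change toLex (fun a => P.coroot' (e.symm a) (x + y)) =
          toLex ((fun a => P.coroot' (e.symm a) x) + (fun a => P.coroot' (e.symm a) y))
        congr 1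
        ext a
        simp }
  refine ⟨n, φ, ?_⟩
  intro x hx h
  have h1 : ∀ i, P.coroot' i x = 0 := by
    intro i
    have h2 := congrFun (congrArg ofLex h) (e i)
    simp [φ] at h2
    exact h2
  have h2 : x ∈ LinearMap.ker P.RootForm := by
    rw [LinearMap.mem_ker]
    ext y
    rw [P.rootForm_apply_apply]
    simp [h1]
  exact (Submodule.disjoint_def.mp P.disjoint_rootSpan_ker_rootForm) x hx h2

/-- Elements of the group generated by reflections in `T` move any vector by an element of the span
of `T`. -/
lemma smul_sub_mem_span_of_mem_closure {T : Set ι} (g : P.Aut)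
    (hg : g ∈ Subgroup.closure ((fun i : ι => RootPairing.Equiv.reflection P i) '' T)) :
    ∀ x : M, g • x - x ∈ Submodule.span ℤ (P.root '' T) := by
  have main : (∀ x : M, g • x - x ∈ Submodule.span ℤ (P.root '' T)) ∧
      (∀ x : M, g⁻¹ • x - x ∈ Submodule.span ℤ (P.root '' T)) := by
    induction hg using Subgroup.closure_induction with
    | mem y hy =>
      obtain ⟨i, hi, rfl⟩ := hy
      have h1 : ∀ x : M, RootPairing.Equiv.reflection P i • x - x ∈
          Submodule.span ℤ (P.root '' T) := by
        intro x
        rw [RootPairing.Equiv.reflection_smul, P.reflection_apply, sub_sub_cancel_left]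
        exact Submodule.neg_mem _ (Submodule.smul_mem _ _ (Submodule.subset_span ⟨i, hi, rfl⟩))
      refine ⟨h1, ?_⟩
      rw [RootPairing.Equiv.reflection_inv]
      exact h1
    | one =>
      refine ⟨fun x => ?_, fun x => ?_⟩
      · rw [one_smul, sub_self]; exact Submodule.zero_mem _
      · rw [inv_one, one_smul, sub_self]; exact Submodule.zero_mem _
    | mul a b _ _ iha ihb =>
      refine ⟨fun x => ?_, fun x => ?_⟩
      · have : (a * b) • x - x = (a • (b • x) - b • x) + (b • x - x) := by
          rw [mul_smul]; abel
        rw [this]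
        exact Submodule.add_mem _ (iha.1 _) (ihb.1 _)
      · have : (a * b)⁻¹ • x - x = (b⁻¹ • (a⁻¹ • x) - a⁻¹ • x) + (a⁻¹ • x - x) := by
          rw [mul_inv_rev, mul_smul]; abel
        rw [this]
        exact Submodule.add_mem _ (ihb.2 _) (iha.2 _)
    | inv a _ iha =>
      refine ⟨iha.2, ?_⟩
      rw [inv_inv]
      exact iha.1
  exact main.1

/-- A set of roots which is the trace of a rational subspace is exactly the vanishing locus of a
suitable additive map to a totally ordered group. -/
lemma exists_hom_vanishing [Finite ι] (R' : Set ι)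
    (hsat : ∀ k : ι, (∃ n : ℕ, 0 < n ∧ n • P.root k ∈ Submodule.span ℤ (P.root '' R')) → k ∈ R') :
    ∃ (n : ℕ) (φ : M →+ Lex (Fin n → ℤ)), ∀ k : ι, φ (P.root k) = 0 ↔ k ∈ R' := by
  classical
  haveI : Module.IsReflexive ℤ M := isReflexive_left P
  haveI : IsAddTorsionFree M := .of_isTorsionFree ℤ M
  obtain ⟨n, ψ, hψ⟩ := exists_hom_lex_inj P
  set W' : Subgroup P.Aut :=
    Subgroup.closure ((fun i : ι => RootPairing.Equiv.reflection P i) '' R') with hW'
  have hle : W' ≤ P.weylGroup := by
    rw [hW', Subgroup.closure_le]
    rintro _ ⟨i, _, rfl⟩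
    exact P.reflection_mem_weylGroup i
  haveI : Finite W' := Finite.of_injective _ (Subgroup.inclusion_injective hle)
  haveI : Fintype W' := Fintype.ofFinite _
  let A : M →+ M :=
    { toFun := fun x => ∑ w : W', (w : P.Aut) • x
      map_zero' := by simp
      map_add' := by
        intro x y
        simp only [smul_add]
        rw [Finset.sum_add_distrib] }
  have hA : ∀ x, A x = ∑ w : W', (w : P.Aut) • x := fun x => rfl
  -- invariance under right multiplication
  have hinv : ∀ (s : W') (x : M), A ((s : P.Aut) • x) = A x := by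
    intro s x
    rw [hA, hA]
    apply Fintype.sum_equiv (Equiv.mulRight s)
    intro w
    change (w : P.Aut) • ((s : P.Aut) • x) = ((w * s : W') : P.Aut) • x
    rw [Subgroup.coe_mul, mul_smul]
  have h1 : ∀ k ∈ R', A (P.root k) = 0 := by
    intro k hk
    have hs : RootPairing.Equiv.reflection P k ∈ W' :=
      Subgroup.subset_closure ⟨k, hk, rfl⟩
    have h2 := hinv ⟨_, hs⟩ (P.root k)
    change A (RootPairing.Equiv.reflection P k • P.root k) = _ at h2
    rw [RootPairing.Equiv.reflection_smul, P.reflection_apply_self, map_neg] at h2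
    have h3 : (2 : ℕ) • A (P.root k) = 0 := by
      rw [two_nsmul]
      nth_rewrite 1 [← h2]
      exact neg_add_cancel _
    exact (smul_eq_zero_iff_right (by norm_num)).mp h3
  have h2 : ∀ k : ι, A (P.root k) = 0 → k ∈ R' := by
    intro k hk
    apply hsat
    refine ⟨Fintype.card W', Fintype.card_pos, ?_⟩
    have h3 : A (P.root k) = ∑ w : W', ((w : P.Aut) • P.root k - P.root k) +
        Fintype.card W' • P.root k := by
      rw [hA, Finset.sum_sub_distrib, Finset.sum_const, Finset.card_univ]
      abel
    rw [hk] at h3
    have h4 : Fintype.card W' • P.root k =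
        -∑ w : W', ((w : P.Aut) • P.root k - P.root k) := by
      rw [eq_neg_iff_add_eq_zero, add_comm]
      exact h3.symm
    rw [h4]
    apply Submodule.neg_mem
    apply Submodule.sum_mem
    intro w _
    exact smul_sub_mem_span_of_mem_closure P (w : P.Aut) w.2 _
  have h3 : ∀ k : ι, A (P.root k) ∈ Submodule.span ℤ (Set.range P.root) := by
    intro k
    rw [hA]
    apply Submodule.sum_mem
    intro w _
    rw [← root_smul]
    exact Submodule.subset_span (Set.mem_range_self _)
  refine ⟨n, ψ.comp A, ?_⟩
  intro k
  rw [AddMonoidHom.comp_apply]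
  constructor
  · intro h
    exact h2 k (hψ _ (h3 k) h)
  · intro hk
    rw [h1 k hk, map_zero]

end Groth.Agent.Lib.helper3.RootDLib
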