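import Groth.Agent.Lib.Helper3.RootD10

/-! Sub-pairings on reflection-stable sets of roots, saturation, negation of simple systems. -/

set_option autoImplicit false

namespace Groth.Agent.Lib.helper3.RootDLib

open _root_.RootD

variable {ι M N : Type*} [AddCommGroup M] [AddCommGroup N] (P : RootPairing ι ℤ M N)

/-- The saturation of a submodule: the vectors some positive multiple of which lies in it. -/
def satSub (L : Submodule ℤ M) : Submodule ℤ M where
  carrier := {x | ∃ n : ℕ, 0 < n ∧ n • x ∈ L}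
  zero_mem' := ⟨1, one_pos, by simp⟩
  add_mem' := by
    rintro x y ⟨n, hn, hx⟩ ⟨m, hm, hy⟩
    refine ⟨n * m, Nat.mul_pos hn hm, ?_⟩
    have : (n * m) • (x + y) = m • (n • x) + n • (m • y) := by
      rw [smul_add, smul_smul, smul_smul, mul_comm m n]
    rw [this]
    exact L.add_mem (L.nsmul_mem hx m) (L.nsmul_mem hy n)
  smul_mem' := by
    rintro c x ⟨n, hn, hx⟩
    refine ⟨n, hn, ?_⟩
    rw [smul_comm]
    exact L.smul_mem c hx

lemma mem_satSub {L : Submodule ℤ M} {x : M} :
    x ∈ satSub L ↔ ∃ n : ℕ, 0 < n ∧ n • x ∈ L := Iff.rfl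

lemma le_satSub (L : Submodule ℤ M) : L ≤ satSub L := fun x hx => ⟨1, one_pos, by simpa using hx⟩

lemma satSub_sat {L : Submodule ℤ M} {x : M} (n : ℕ) (hn : 0 < n) (hx : n • x ∈ satSub L) :
    x ∈ satSub L := by
  obtain ⟨m, hm, h⟩ := hx
  refine ⟨m * n, Nat.mul_pos hm hn, ?_⟩
  rw [mul_smul]
  exact h

/-- The set of roots in a saturated submodule is saturated in the sense of traces of subspaces. -/
lemma hsat_of_satSub (L : Submodule ℤ M) :
    ∀ k : ι, (∃ n : ℕ, 0 < n ∧ n • P.root k ∈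
      Submodule.span ℤ (P.root '' {j | P.root j ∈ satSub L})) → k ∈ {j | P.root j ∈ satSub L} := by
  rintro k ⟨n, hn, hk⟩
  have hle : Submodule.span ℤ (P.root '' {j | P.root j ∈ satSub L}) ≤ satSub L := by
    rw [Submodule.span_le]
    rintro _ ⟨j, hj, rfl⟩
    exact hj
  exact satSub_sat n hn (hle hk)

/-- A saturated set of roots is stable under its own reflections. -/
lemma reflectionPerm_mem_of_hsat (R' : Set ι)
    (hsat : ∀ k : ι, (∃ n : ℕ, 0 < n ∧ n • P.root k ∈ Submodule.span ℤ (P.root '' R')) → k ∈ R') :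
    ∀ i ∈ R', ∀ j ∈ R', P.reflectionPerm i j ∈ R' := by
  intro i hi j hj
  apply hsat
  refine ⟨1, one_pos, ?_⟩
  rw [one_smul, P.root_reflectionPerm, P.reflection_apply]
  exact Submodule.sub_mem _ (Submodule.subset_span ⟨j, hj, rfl⟩)
    (Submodule.smul_mem _ _ (Submodule.subset_span ⟨i, hi, rfl⟩))

/-- The root pairing obtained by keeping only the roots in a reflection-stable set. -/
def subPairing (R' : Set ι) (hR' : ∀ i ∈ R', ∀ j ∈ R', P.reflectionPerm i j ∈ R') :
    RootPairing ↥R' ℤ M N where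
  toLinearMap := P.toLinearMap
  isPerfPair_toLinearMap := P.isPerfPair_toLinearMap
  root := ⟨fun i => P.root i, fun _ _ h => Subtype.ext (P.root.injective h)⟩
  coroot := ⟨fun i => P.coroot i, fun _ _ h => Subtype.ext (P.coroot.injective h)⟩
  root_coroot_two i := P.root_coroot_two i
  reflectionPerm i :=
    { toFun := fun j => ⟨P.reflectionPerm i j, hR' i i.2 j j.2⟩
      invFun := fun j => ⟨P.reflectionPerm i j, hR' i i.2 j j.2⟩
      left_inv := fun j => Subtype.ext (P.reflectionPerm_self i j)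
      right_inv := fun j => Subtype.ext (P.reflectionPerm_self i j) }
  reflectionPerm_root i j := P.reflectionPerm_root i j
  reflectionPerm_coroot i j := P.reflectionPerm_coroot i j

lemma subPairing_root (R' : Set ι) (hR' : ∀ i ∈ R', ∀ j ∈ R', P.reflectionPerm i j ∈ R')
    (j : ↥R') : (subPairing P R' hR').root j = P.root j := rfl

lemma natSpan_subPairing (R' : Set ι) (hR' : ∀ i ∈ R', ∀ j ∈ R', P.reflectionPerm i j ∈ R')
    (Δ'' : Set ↥R') :
    natSpan (subPairing P R' hR') Δ'' = natSpan P (Subtype.val '' Δ'') := by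
  unfold natSpan
  congr 1
  rw [Set.image_image]
  rfl

/-- A simple system of the sub-pairing, read in the ambient pairing. -/
lemma subPairing_simple (R' : Set ι) (hR' : ∀ i ∈ R', ∀ j ∈ R', P.reflectionPerm i j ∈ R')
    (Δ'' : Set ↥R') (hΔ'' : IsSimpleSys (subPairing P R' hR') Δ'') :
    Subtype.val '' Δ'' ⊆ R' ∧ LinearIndepOn ℤ P.root (Subtype.val '' Δ'') ∧
      ∀ k ∈ R', P.root k ∈ natSpan P (Subtype.val '' Δ'') ∨
        -P.root k ∈ natSpan P (Subtype.val '' Δ'') := by
  refine ⟨?_, ?_, ?_⟩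
  · rintro _ ⟨j, _, rfl⟩
    exact j.2
  · apply LinearIndepOn.image_of_comp
    exact hΔ''.linInd
  · intro k hk
    have := hΔ''.mem_or_neg_mem ⟨k, hk⟩
    rw [natSpan_subPairing] at this
    exact this

/-- The index of the opposite root. -/
lemma neg_mem_natSpan_neg {Δ : Set ι} {x : M} (hx : x ∈ natSpan P Δ) :
    -x ∈ natSpan P ((fun k => P.reflectionPerm k k) '' Δ) := by
  unfold natSpan at hx ⊢
  induction hx using AddSubmonoid.closure_induction with
  | mem x hx =>
    obtain ⟨i, hi, rfl⟩ := hx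
    apply AddSubmonoid.subset_closure
    exact ⟨P.reflectionPerm i i, ⟨i, hi, rfl⟩, root_neg P i⟩
  | zero => rw [neg_zero]; exact zero_mem _
  | add x y _ _ hx hy => rw [neg_add]; exact add_mem hx hy

lemma isSimpleSys_neg {Δ : Set ι} (hΔ : IsSimpleSys P Δ) :
    IsSimpleSys P ((fun k => P.reflectionPerm k k) '' Δ) := by
  refine ⟨?_, ?_⟩
  · apply LinearIndepOn.image_of_comp
    have e : (P.root ∘ fun k => P.reflectionPerm k k) =
        ((LinearEquiv.neg ℤ : M ≃ₗ[ℤ] M) : M →ₗ[ℤ] M) ∘ P.root := by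
      ext i
      simp
    rw [e]
    exact hΔ.linInd.map_injOn _ ((LinearEquiv.neg ℤ : M ≃ₗ[ℤ] M).injective.injOn)
  · intro i
    rcases hΔ.mem_or_neg_mem i with h | h
    · right
      exact neg_mem_natSpan_neg P h
    · left
      have := neg_mem_natSpan_neg P h
      rwa [neg_neg] at this

end Groth.Agent.Lib.helper3.RootDLib
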