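import Groth.Agent.Lib.Helper3.RootD11
import Groth.Agent.S5452

/-! Dominant weights: `m - w m` is a non-negative combination of simple roots, and the stabiliser of a
dominant weight is generated by the simple reflections fixing it. -/

set_option autoImplicit false

namespace Groth.Agent.Lib.helper3.RootDLib

open _root_.RootD

variable {ι M N : Type*} [AddCommGroup M] [AddCommGroup N] (P : RootPairing ι ℤ M N)

lemma eq_zero_of_mem_natSpan_of_neg_mem {Δ : Set ι} (hli : LinearIndepOn ℤ P.root Δ) (x : M)
    (hx : x ∈ natSpan P Δ) (hnx : -x ∈ natSpan P Δ) : x = 0 := by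
  obtain ⟨c, hc, hc0, hcx⟩ := exists_finsupp_of_mem_natSpan P hx
  obtain ⟨d, hd, hd0, hdx⟩ := exists_finsupp_of_mem_natSpan P hnx
  have h1 : c + d = 0 := by
    apply finsupp_eq_of_linearCombination_eq P hli (Submodule.add_mem _ hc hd) (Submodule.zero_mem _)
    rw [map_add, hcx, hdx, map_zero, add_neg_cancel]
  have h2 := eq_zero_of_add_eq_zero hc0 hd0 h1
  rw [← hcx, h2, map_zero]

lemma sub_prodRefl_concat (L₀ : List ι) (b : ι) (m : M) :
    m - prodRefl P (L₀ ++ [b]) • m =
      (m - prodRefl P L₀ • m) + (P.coroot' b m) • (prodRefl P L₀ • P.root b) := by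
  have hw : prodRefl P (L₀ ++ [b]) = prodRefl P L₀ * RootPairing.Equiv.reflection P b := by
    rw [prodRefl_append]
    simp
  rw [hw, mul_smul, RootPairing.Equiv.reflection_smul, P.reflection_apply, smul_sub, smul_comm]
  change _ = _ + (P.toLinearMap m (P.coroot b)) • _
  abel

/-- A dominant weight minus any of its Weyl conjugates is a non-negative combination of simple
roots. -/
lemma sub_prodRefl_smul_mem_natSpan [Finite ι] {Δ : Set ι} (hΔ : IsSimpleSys P Δ) (m : M)
    (hm : ∀ b ∈ Δ, 0 ≤ P.coroot' b m) :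
    ∀ (n : ℕ) (L : List ι), L.length = n → (∀ a ∈ L, a ∈ Δ) →
      m - prodRefl P L • m ∈ natSpan P Δ := by
  intro n
  induction n using Nat.strong_induction_on with
  | _ n ih =>
    intro L hlen hL
    rcases List.eq_nil_or_concat L with rfl | ⟨L₀, b, rfl⟩
    · rw [prodRefl_nil, one_smul, sub_self]
      exact zero_mem _
    · rw [List.concat_eq_append] at hlen hL ⊢
      have hbΔ : b ∈ Δ := hL b (by simp)
      have hL₀ : ∀ a ∈ L₀, a ∈ Δ := fun a ha => hL a (by simp [ha])
      have hlen₀ : L₀.length < n := by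
        rw [List.length_append] at hlen
        simp at hlen
        omega
      by_cases hpos : prodRefl P L₀ • b ∈ posOf P Δ
      · rw [sub_prodRefl_concat]
        apply AddSubmonoid.add_mem
        · exact ih _ hlen₀ L₀ rfl hL₀
        · apply zsmul_mem_of_nonneg _ _ _ (hm b hbΔ)
          rw [← root_smul]
          exact hpos
      · obtain ⟨L', hL', hlen', hprod⟩ := exchange P hΔ b hbΔ L₀ hL₀ hpos
        have hw : prodRefl P (L₀ ++ [b]) = prodRefl P L' := by
          rw [prodRefl_append, hprod, prodRefl_cons, prodRefl_nil, mul_one, mul_assoc,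
            reflection_mul_self, mul_one]
        rw [hw]
        exact ih L'.length (by omega) L' rfl hL'

/-- The stabiliser of a dominant weight is generated by the simple reflections fixing it. -/
lemma prodRefl_mem_closure_of_smul_eq [Finite ι] {Δ : Set ι} (hΔ : IsSimpleSys P Δ) (m : M)
    (hm : ∀ b ∈ Δ, 0 ≤ P.coroot' b m) :
    ∀ (n : ℕ) (L : List ι), L.length = n → (∀ a ∈ L, a ∈ Δ) → prodRefl P L • m = m →
      prodRefl P L ∈ Subgroup.closure
        ((fun i : ι => RootPairing.Equiv.reflection P i) '' {b | b ∈ Δ ∧ P.coroot' b m = 0}) := by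
  haveI : Module.IsReflexive ℤ M := isReflexive_left P
  intro n
  induction n using Nat.strong_induction_on with
  | _ n ih =>
    intro L hlen hL hfix
    rcases List.eq_nil_or_concat L with rfl | ⟨L₀, b, rfl⟩
    · rw [prodRefl_nil]
      exact one_mem _
    · rw [List.concat_eq_append] at hlen hL hfix ⊢
      have hbΔ : b ∈ Δ := hL b (by simp)
      have hL₀ : ∀ a ∈ L₀, a ∈ Δ := fun a ha => hL a (by simp [ha])
      have hlen₀ : L₀.length < n := by
        rw [List.length_append] at hlen
        simp at hlen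
        omega
      by_cases hpos : prodRefl P L₀ • b ∈ posOf P Δ
      · have h1 := sub_prodRefl_concat P L₀ b m
        rw [hfix, sub_self] at h1
        have hx : m - prodRefl P L₀ • m ∈ natSpan P Δ :=
          sub_prodRefl_smul_mem_natSpan P hΔ m hm _ L₀ rfl hL₀
        have hy : (P.coroot' b m) • (prodRefl P L₀ • P.root b) ∈ natSpan P Δ := by
          apply zsmul_mem_of_nonneg _ _ _ (hm b hbΔ)
          rw [← root_smul]
          exact hpos
        have hxy : -(m - prodRefl P L₀ • m) = (P.coroot' b m) • (prodRefl P L₀ • P.root b) := by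
          rw [neg_eq_iff_add_eq_zero]
          exact h1.symm
        have hx0 : m - prodRefl P L₀ • m = 0 :=
          eq_zero_of_mem_natSpan_of_neg_mem P hΔ.linInd _ hx (hxy ▸ hy)
        have hy0 : (P.coroot' b m) • (prodRefl P L₀ • P.root b) = 0 := by
          rw [← hxy, hx0, neg_zero]
        have hz : P.coroot' b m = 0 := by
          rcases smul_eq_zero.mp hy0 with h | h
          · exact h
          · exfalso
            rw [← root_smul] at h
            exact P.ne_zero _ h
        have hfix₀ : prodRefl P L₀ • m = m := (sub_eq_zero.mp hx0).symm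
        have hw : prodRefl P (L₀ ++ [b]) = prodRefl P L₀ * RootPairing.Equiv.reflection P b := by
          rw [prodRefl_append]
          simp
        rw [hw]
        exact mul_mem (ih _ hlen₀ L₀ rfl hL₀ hfix₀) (Subgroup.subset_closure ⟨b, ⟨hbΔ, hz⟩, rfl⟩)
      · obtain ⟨L', hL', hlen', hprod⟩ := exchange P hΔ b hbΔ L₀ hL₀ hpos
        have hw : prodRefl P (L₀ ++ [b]) = prodRefl P L' := by
          rw [prodRefl_append, hprod, prodRefl_cons, prodRefl_nil, mul_one, mul_assoc,
            reflection_mul_self, mul_one]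
        rw [hw] at hfix ⊢
        exact ih L'.length (by omega) L' rfl hL' hfix

/-- A non-negative combination of a simple system lying in the span of a subset of it is a
non-negative combination of that subset. -/
lemma mem_natSpan_of_mem_span {Δ Δ' : Set ι} (hΔ : IsSimpleSys P Δ) (hsub : Δ' ⊆ Δ) (x : M)
    (hx : x ∈ natSpan P Δ) (hx' : x ∈ Submodule.span ℤ (P.root '' Δ')) : x ∈ natSpan P Δ' := by
  obtain ⟨c, hc, hc0, hcx⟩ := exists_finsupp_of_mem_natSpan P hx
  rw [Finsupp.mem_span_image_iff_linearCombination] at hx'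
  obtain ⟨d, hd, hdx⟩ := hx'
  have h1 : c = d := finsupp_eq_of_linearCombination_eq P hΔ.linInd hc
    (Finsupp.supported_mono hsub hd) (by rw [hcx, hdx])
  rw [← hcx]
  exact linearCombination_mem_natSpan P c (h1 ▸ hd) hc0

lemma inSpan_reflectionPerm_mem (Δ' : Set ι) :
    ∀ i ∈ inSpan P Δ', ∀ j ∈ inSpan P Δ', P.reflectionPerm i j ∈ inSpan P Δ' := by
  intro i hi j hj
  change P.root (P.reflectionPerm i j) ∈ Submodule.span ℤ (P.root '' Δ')
  rw [P.root_reflectionPerm, P.reflection_apply]
  exact Submodule.sub_mem _ hj (Submodule.smul_mem _ _ hi)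

lemma subset_inSpan (Δ' : Set ι) : Δ' ⊆ inSpan P Δ' :=
  fun j hj => Submodule.subset_span ⟨j, hj, rfl⟩

/-- A subset of a simple system is a simple system of the sub-pairing of the roots it spans. -/
lemma isSimpleSys_subPairing_inSpan {Δ Δ' : Set ι} (hΔ : IsSimpleSys P Δ) (hsub : Δ' ⊆ Δ) :
    IsSimpleSys (subPairing P (inSpan P Δ') (inSpan_reflectionPerm_mem P Δ'))
      (Subtype.val ⁻¹' Δ') := by
  have himg : Subtype.val '' (Subtype.val ⁻¹' Δ' : Set ↥(inSpan P Δ')) = Δ' := by
    rw [Subtype.image_preimage_coe]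
    exact Set.inter_eq_right.mpr (subset_inSpan P Δ')
  refine ⟨?_, ?_⟩
  · have h1 : LinearIndepOn ℤ P.root
        (Subtype.val '' (Subtype.val ⁻¹' Δ' : Set ↥(inSpan P Δ'))) := by
      rw [himg]
      exact hΔ.linInd.mono hsub
    exact h1.comp_of_image Subtype.val_injective.injOn
  · intro r
    rw [natSpan_subPairing, himg]
    change P.root r ∈ natSpan P Δ' ∨ -P.root r ∈ natSpan P Δ'
    rcases hΔ.mem_or_neg_mem r with h | h
    · left
      exact mem_natSpan_of_mem_span P hΔ hsub _ h r.2
    · right
      exact mem_natSpan_of_mem_span P hΔ hsub _ h (Submodule.neg_mem _ r.2)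

/-- Two elements of the Weyl group acting in the same way on the weights are equal. -/
lemma eq_of_smul_eq [Finite ι] (g h : P.Aut) (hg : g ∈ P.weylGroup) (hh : h ∈ P.weylGroup)
    (hgh : ∀ m : M, g • m = h • m) : g = h := by
  have h1 : P.weylGroupToPerm ⟨g, hg⟩ = P.weylGroupToPerm ⟨h, hh⟩ := by
    ext k
    apply P.root.injective
    change P.root (g • k) = P.root (h • k)
    rw [root_smul, root_smul, hgh]
  have h2 := Groth.Agent.S5452.result P h1
  exact congrArg Subtype.val h2

/-- Transfer of an element generated by reflections of a stable subset to the sub-pairing. -/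
lemma exists_subPairing_aut (R' : Set ι) (hR' : ∀ i ∈ R', ∀ j ∈ R', P.reflectionPerm i j ∈ R')
    (T : Set ↥R') (g : P.Aut)
    (hg : g ∈ Subgroup.closure
      ((fun i : ι => RootPairing.Equiv.reflection P i) '' (Subtype.val '' T))) :
    ∃ g' : (subPairing P R' hR').Aut,
      g' ∈ Subgroup.closure
        ((fun i : ↥R' => RootPairing.Equiv.reflection (subPairing P R' hR') i) '' T) ∧
      ∀ m : M, g' • m = g • m := by
  induction hg using Subgroup.closure_induction with
  | mem y hy =>
    obtain ⟨_, ⟨r, hr, rfl⟩, rfl⟩ := hy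
    refine ⟨RootPairing.Equiv.reflection (subPairing P R' hR') r,
      Subgroup.subset_closure ⟨r, hr, rfl⟩, ?_⟩
    intro m
    rw [RootPairing.Equiv.reflection_smul, RootPairing.Equiv.reflection_smul,
      RootPairing.reflection_apply, RootPairing.reflection_apply]
    rfl
  | one => exact ⟨1, one_mem _, fun m => by rw [one_smul, one_smul]⟩
  | mul a b _ _ iha ihb =>
    obtain ⟨a', ha', haa⟩ := iha
    obtain ⟨b', hb', hbb⟩ := ihb
    exact ⟨a' * b', mul_mem ha' hb', fun m => by rw [mul_smul, mul_smul, hbb, haa]⟩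
  | inv a _ iha =>
    obtain ⟨a', ha', haa⟩ := iha
    refine ⟨a'⁻¹, inv_mem ha', fun m => ?_⟩
    have h1 : a' • (a⁻¹ • m) = m := by rw [haa, smul_inv_smul]
    rw [inv_smul_eq_iff, h1]

end Groth.Agent.Lib.helper3.RootDLib
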