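import Groth.Agent.Lib.Helper3.RootD
import Mathlib.LinearAlgebra.RootSystem.WeylGroup

/-! More helper lemmas for the `RootD` family: transport of structures along automorphisms. -/

set_option autoImplicit false

namespace Groth.Agent.Lib.helper3.RootDLib

open _root_.RootD

variable {ι M N : Type*} [AddCommGroup M] [AddCommGroup N] (P : RootPairing ι ℤ M N)

lemma smul_mem_natSpan (g : P.Aut) {S : Set ι} {x : M} (hx : x ∈ natSpan P S) :
    g • x ∈ natSpan P ((fun i : ι => g • i) '' S) := by
  unfold natSpan at hx ⊢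
  induction hx using AddSubmonoid.closure_induction with
  | mem x hx =>
    obtain ⟨i, hi, rfl⟩ := hx
    apply AddSubmonoid.subset_closure
    exact ⟨g • i, ⟨i, hi, rfl⟩, root_smul P g i⟩
  | zero => rw [smul_zero]; exact zero_mem _
  | add x y _ _ hx hy => rw [smul_add]; exact add_mem hx hy

lemma image_inv_smul_image (g : P.Aut) (S : Set ι) :
    (fun i : ι => g⁻¹ • i) '' ((fun i : ι => g • i) '' S) = S := by
  rw [Set.image_image]
  simp

lemma smul_mem_natSpan_iff (g : P.Aut) {S : Set ι} {x : M} :
    g • x ∈ natSpan P ((fun i : ι => g • i) '' S) ↔ x ∈ natSpan P S := by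
  refine ⟨fun h => ?_, smul_mem_natSpan P g⟩
  have := smul_mem_natSpan P g⁻¹ h
  rwa [image_inv_smul_image, inv_smul_smul] at this

lemma smul_mem_posOf_iff (g : P.Aut) {Δ : Set ι} {k : ι} :
    g • k ∈ posOf P ((fun i : ι => g • i) '' Δ) ↔ k ∈ posOf P Δ := by
  unfold posOf
  simp only [Set.mem_ofPred_eq]
  rw [root_smul, smul_mem_natSpan_iff]

lemma posOf_image (g : P.Aut) (Δ : Set ι) :
    posOf P ((fun i : ι => g • i) '' Δ) = (fun i : ι => g • i) '' posOf P Δ := by
  ext k
  constructor
  · intro hk
    refine ⟨g⁻¹ • k, ?_, smul_inv_smul g k⟩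
    rw [← smul_mem_posOf_iff P g, smul_inv_smul]
    exact hk
  · rintro ⟨k', hk', rfl⟩
    exact (smul_mem_posOf_iff P g).mpr hk'

lemma linearIndepOn_image_smul (g : P.Aut) {Δ : Set ι} (h : LinearIndepOn ℤ P.root Δ) :
    LinearIndepOn ℤ P.root ((fun i : ι => g • i) '' Δ) := by
  apply LinearIndepOn.image_of_comp
  have e : (P.root ∘ fun i : ι => g • i) =
      ((RootPairing.Equiv.weightHom P g : M ≃ₗ[ℤ] M) : M →ₗ[ℤ] M) ∘ P.root := by
    ext i
    exact root_smul P g i
  rw [e]
  exact h.map_injOn _ ((RootPairing.Equiv.weightHom P g).injective.injOn)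

lemma isSimpleSys_image (g : P.Aut) {Δ : Set ι} (hΔ : IsSimpleSys P Δ) :
    IsSimpleSys P ((fun i : ι => g • i) '' Δ) := by
  refine ⟨linearIndepOn_image_smul P g hΔ.linInd, ?_⟩
  intro i
  have hi : P.root i = g • P.root (g⁻¹ • i) := by rw [← root_smul, smul_inv_smul]
  rcases hΔ.mem_or_neg_mem (g⁻¹ • i) with h | h
  · left
    rw [hi]
    exact smul_mem_natSpan P g h
  · right
    rw [hi, ← smul_neg]
    exact smul_mem_natSpan P g h


/-- adjunction between the weight and coweight maps of an automorphism -/
lemma toLinearMap_smul_left (g : P.Aut) (m : M) (n : N) :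
    P.toLinearMap (g • m) n = P.toLinearMap m (g.coweightMap n) := by
  have := LinearMap.congr_fun (RootPairing.Hom.weight_coweight_transpose_apply P P n g.toHom) m
  change P.toLinearMap (g.weightMap m) n = _
  simpa using this

lemma coweightMap_coroot_smul (g : P.Aut) (i : ι) :
    g.coweightMap (P.coroot (g • i)) = P.coroot i := by
  rw [RootPairing.Hom.coroot_coweightMap_apply P P (g • i) g.toHom]
  congr 1
  exact g.indexEquiv.symm_apply_apply i

/-- The pairing is invariant under automorphisms. -/
lemma pairing_smul_smul (g : P.Aut) (i j : ι) : P.pairing (g • i) (g • j) = P.pairing i j := by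
  change P.toLinearMap (P.root (g • i)) (P.coroot (g • j)) = P.toLinearMap (P.root i) (P.coroot j)
  rw [root_smul, toLinearMap_smul_left, coweightMap_coroot_smul]

lemma coroot'_smul_smul (g : P.Aut) (i : ι) (y : M) :
    P.coroot' (g • i) (g • y) = P.coroot' i y := by
  change P.toLinearMap (g • y) (P.coroot (g • i)) = P.toLinearMap y (P.coroot i)
  rw [toLinearMap_smul_left, coweightMap_coroot_smul]

/-- Conjugating a reflection by an automorphism. -/
lemma reflection_smul_mul (g : P.Aut) (i : ι) :
    RootPairing.Equiv.reflection P (g • i) * g = g * RootPairing.Equiv.reflection P i := by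
  apply RootPairing.Equiv.weightHom_injective P
  ext y
  change P.reflection (g • i) (g • y) = g • (P.reflection i y)
  rw [P.reflection_apply, P.reflection_apply, smul_sub, smul_comm g, root_smul,
    coroot'_smul_smul]

lemma reflection_smul_eq_conj (g : P.Aut) (i : ι) :
    RootPairing.Equiv.reflection P (g • i) = g * RootPairing.Equiv.reflection P i * g⁻¹ := by
  rw [← reflection_smul_mul, mul_inv_cancel_right]

lemma isIndiv_smul (g : P.Aut) {i : ι} (hi : IsIndiv P i) : IsIndiv P (g • i) := by
  intro j hj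
  apply hi (g⁻¹ • j)
  rw [root_smul, ← smul_comm, hj, root_smul, inv_smul_smul]

/-- Product of the reflections along a list of indices. -/
noncomputable def prodRefl (L : List ι) : P.Aut := (L.map (fun a => RootPairing.Equiv.reflection P a)).prod

@[simp] lemma prodRefl_nil : prodRefl P [] = 1 := rfl

@[simp] lemma prodRefl_cons (a : ι) (L : List ι) :
    prodRefl P (a :: L) = RootPairing.Equiv.reflection P a * prodRefl P L := by
  simp [prodRefl]

lemma prodRefl_append (L L' : List ι) : prodRefl P (L ++ L') = prodRefl P L * prodRefl P L' := by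
  simp [prodRefl]

lemma reflection_mul_self (i : ι) :
    RootPairing.Equiv.reflection P i * RootPairing.Equiv.reflection P i = 1 := by
  rw [mul_eq_one_iff_inv_eq, RootPairing.Equiv.reflection_inv]

lemma prodRefl_reverse (L : List ι) : prodRefl P L.reverse = (prodRefl P L)⁻¹ := by
  induction L with
  | nil => simp
  | cons a L ih =>
    rw [List.reverse_cons, prodRefl_append, ih, prodRefl_cons, prodRefl_cons, prodRefl_nil,
      mul_one, mul_inv_rev, RootPairing.Equiv.reflection_inv]

lemma prodRefl_mem_closure {Δ : Set ι} (L : List ι) (hL : ∀ a ∈ L, a ∈ Δ) :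
    prodRefl P L ∈ Subgroup.closure ((fun i : ι => RootPairing.Equiv.reflection P i) '' Δ) := by
  induction L with
  | nil => exact one_mem _
  | cons a L ih =>
    rw [prodRefl_cons]
    exact mul_mem (Subgroup.subset_closure ⟨a, hL a (List.mem_cons_self ..), rfl⟩)
      (ih (fun b hb => hL b (List.mem_cons_of_mem _ hb)))

lemma exists_list_of_mem_closure {Δ : Set ι} (g : P.Aut)
    (hg : g ∈ Subgroup.closure ((fun i : ι => RootPairing.Equiv.reflection P i) '' Δ)) :
    ∃ L : List ι, (∀ a ∈ L, a ∈ Δ) ∧ prodRefl P L = g := by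
  induction hg using Subgroup.closure_induction with
  | mem y hy =>
    obtain ⟨a, ha, rfl⟩ := hy
    exact ⟨[a], by simpa using ha, by simp⟩
  | one => exact ⟨[], by simp, rfl⟩
  | mul x y _ _ hx hy =>
    obtain ⟨L₁, h₁, rfl⟩ := hx
    obtain ⟨L₂, h₂, rfl⟩ := hy
    refine ⟨L₁ ++ L₂, ?_, prodRefl_append P L₁ L₂⟩
    intro a ha
    rcases List.mem_append.mp ha with h | h
    · exact h₁ a h
    · exact h₂ a h
  | inv x _ hx =>
    obtain ⟨L, hL, rfl⟩ := hx
    exact ⟨L.reverse, fun a ha => hL a (List.mem_reverse.mp ha), prodRefl_reverse P L⟩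

end Groth.Agent.Lib.helper3.RootDLib
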