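import Groth.Agent.Lib.Helper3.RootD2
import Groth.Agent.S5466
import Groth.Agent.S5448
import Groth.Agent.S5508

/-! Exchange condition and simple transitivity for simple systems of a root datum. -/

set_option autoImplicit false

namespace Groth.Agent.Lib.helper3.RootDLib

open _root_.RootD

variable {ι M N : Type*} [AddCommGroup M] [AddCommGroup N] (P : RootPairing ι ℤ M N)

/-- A positive root made negative by a simple reflection `s_a`, when it is the image of a simple root
under an automorphism, is the simple root `a`. -/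
lemma eq_of_reflection_smul_notMem_posOf [Finite ι] {Δ : Set ι} (hΔ : IsSimpleSys P Δ)
    {a β : ι} (haΔ : a ∈ Δ) (hindβ : IsIndiv P β) (hpos : β ∈ posOf P Δ)
    (hneg : RootPairing.Equiv.reflection P a • β ∉ posOf P Δ) : β = a := by
  have hnli : ¬ LinearIndependent ℤ ![P.root β, P.root a] := by
    intro hli
    exact hneg (Groth.Agent.S5466.result P Δ hΔ β a hpos haΔ hli)
  have hnli' : ¬ LinearIndependent ℤ ![P.root a, P.root β] := by
    intro h; apply hnli; rw [LinearIndependent.pair_symm_iff]; exact h
  have hinda : IsIndiv P a := Groth.Agent.S5448.result P Δ hΔ a haΔ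
  have hS := isPosSys_posOf P hΔ
  rcases proportional_cases P a β hnli' with h | h | h | h | h | h
  · exact P.root.injective h
  · exfalso
    have e : P.reflectionPerm a a = β := by apply P.root.injective; rw [root_neg, h]
    exact hS.disjoint (subset_posOf P Δ haΔ) (e ▸ hpos)
  · exact absurd h.symm (hindβ a)
  · exfalso; apply hindβ (P.reflectionPerm a a); rw [root_neg, h, smul_neg]
  · exact absurd h.symm (hinda β)
  · exfalso; apply hinda (P.reflectionPerm β β); rw [root_neg, h, smul_neg]

/-- Exchange condition. -/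
lemma exchange [Finite ι] {Δ : Set ι} (hΔ : IsSimpleSys P Δ) (i : ι) (hi : i ∈ Δ) :
    ∀ L : List ι, (∀ a ∈ L, a ∈ Δ) → prodRefl P L • i ∉ posOf P Δ →
    ∃ L' : List ι, (∀ a ∈ L', a ∈ Δ) ∧ L'.length + 1 = L.length ∧
      prodRefl P L = prodRefl P L' * RootPairing.Equiv.reflection P i := by
  intro L
  induction L with
  | nil =>
    intro _ h
    exfalso
    apply h
    rw [prodRefl_nil, one_smul]
    exact subset_posOf P Δ hi
  | cons a L ih =>
    intro hL hneg
    have haΔ : a ∈ Δ := hL a (List.mem_cons_self ..)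
    have hLΔ : ∀ b ∈ L, b ∈ Δ := fun b hb => hL b (List.mem_cons_of_mem _ hb)
    by_cases hpos : prodRefl P L • i ∈ posOf P Δ
    · have hneg' : RootPairing.Equiv.reflection P a • (prodRefl P L • i) ∉ posOf P Δ := by
        rw [prodRefl_cons, mul_smul] at hneg; exact hneg
      have hβa : prodRefl P L • i = a :=
        eq_of_reflection_smul_notMem_posOf P hΔ haΔ
          (isIndiv_smul P _ (Groth.Agent.S5448.result P Δ hΔ i hi)) hpos hneg'
      refine ⟨L, hLΔ, by simp, ?_⟩
      rw [prodRefl_cons, ← hβa, reflection_smul_mul]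
    · obtain ⟨L', hL', hlen, hprod⟩ := ih hLΔ hpos
      refine ⟨a :: L', ?_, by simp [hlen], ?_⟩
      · intro b hb
        rcases List.mem_cons.mp hb with rfl | h
        · exact haΔ
        · exact hL' b h
      · rw [prodRefl_cons, prodRefl_cons, hprod, mul_assoc]

lemma smul_reflectionPerm_self (g : P.Aut) (i : ι) :
    g • (P.reflectionPerm i i) = P.reflectionPerm (g • i) (g • i) := by
  apply P.root.injective
  rw [root_smul, root_neg, root_neg, smul_neg, root_smul]

lemma prodRefl_eq_one_of_pos [Finite ι] {Δ : Set ι} (hΔ : IsSimpleSys P Δ) :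
    ∀ (n : ℕ) (L : List ι), L.length = n → (∀ a ∈ L, a ∈ Δ) →
      (∀ i ∈ Δ, prodRefl P L • i ∈ posOf P Δ) → prodRefl P L = 1 := by
  intro n
  induction n using Nat.strong_induction_on with
  | _ n ih =>
    intro L hlen hL hpos
    rcases List.eq_nil_or_concat L with rfl | ⟨L₀, i, rfl⟩
    · rfl
    · rw [List.concat_eq_append] at hlen hL hpos ⊢
      have hiΔ : i ∈ Δ := hL i (by simp)
      have hL₀ : ∀ a ∈ L₀, a ∈ Δ := fun a ha => hL a (by simp [ha])
      have hw : prodRefl P (L₀ ++ [i]) = prodRefl P L₀ * RootPairing.Equiv.reflection P i := by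
        rw [prodRefl_append]; simp
      have hneg : prodRefl P L₀ • i ∉ posOf P Δ := by
        intro h
        have h2 := hpos i hiΔ
        rw [hw, mul_smul] at h2
        have e : RootPairing.Equiv.reflection P i • i = P.reflectionPerm i i := rfl
        rw [e, smul_reflectionPerm_self] at h2
        exact (isPosSys_posOf P hΔ).disjoint h h2
      obtain ⟨L', hL', hlen', hprod⟩ := exchange P hΔ i hiΔ L₀ hL₀ hneg
      have hw' : prodRefl P (L₀ ++ [i]) = prodRefl P L' := by
        rw [hw, hprod, mul_assoc, reflection_mul_self, mul_one]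
      rw [hw']
      apply ih L'.length _ L' rfl hL'
      · intro j hj; rw [← hw']; exact hpos j hj
      · simp at hlen; omega

/-- An element of the Weyl group mapping a simple system into its positive system is trivial. -/
lemma eq_one_of_smul_mem_posOf [Finite ι] {Δ : Set ι} (hΔ : IsSimpleSys P Δ) (g : P.Aut)
    (hg : g ∈ P.weylGroup) (h : ∀ i ∈ Δ, g • i ∈ posOf P Δ) : g = 1 := by
  rw [← (Groth.Agent.S5508.result P Δ hΔ).1] at hg
  obtain ⟨L, hL, rfl⟩ := exists_list_of_mem_closure P g hg
  exact prodRefl_eq_one_of_pos P hΔ _ L rfl hL h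

end Groth.Agent.Lib.helper3.RootDLib
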