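import Groth.Agent.Lib.Helper3.RootD3
import Groth.Agent.S5457
import Groth.Agent.S5445
import Mathlib.Algebra.Order.Group.PiLex
import Mathlib.Algebra.Order.Monoid.Prod

/-! Existence of positive systems and simple systems in a root datum. -/

set_option autoImplicit false

namespace Groth.Agent.Lib.helper3.RootDLib

open _root_.RootD

variable {ι M N : Type*} [AddCommGroup M] [AddCommGroup N] (P : RootPairing ι ℤ M N)

lemma exists_isPosSys [Finite ι] : ∃ S : Set ι, IsPosSys P S := by
  classical
  obtain ⟨n, ⟨e⟩⟩ := Finite.exists_equiv_fin ι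
  let φ : M →+ Lex (Fin n → ℤ) :=
    { toFun := fun m => toLex (fun a => P.coroot' (e.symm a) m)
      map_zero' := by
        change toLex (fun a => P.coroot' (e.symm a) 0) = toLex (0 : Fin n → ℤ)
        congr 1
        ext a
        simp
      map_add' := by
        intro x y
        change toLex (fun a => P.coroot' (e.symm a) (x + y)) =
          toLex ((fun a => P.coroot' (e.symm a) x) + (fun a => P.coroot' (e.symm a) y))
        congr 1
        ext a
        simp }
  have hφ : ∀ i, 0 < φ (P.root i) ∨ φ (P.root i) < 0 := by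
    intro i
    have hne : φ (P.root i) ≠ 0 := by
      intro h
      have h1 := congrFun (congrArg ofLex h) (e i)
      simp [φ] at h1
      change (2 : ℤ) = 0 at h1
      omega
    rcases lt_or_gt_of_ne hne with h | h
    · exact Or.inr h
    · exact Or.inl h
  exact ⟨_, Groth.Agent.S5457.result P φ hφ⟩

lemma exists_isSimpleSys [Finite ι] : ∃ Δ : Set ι, IsSimpleSys P Δ := by
  obtain ⟨S, hS⟩ := exists_isPosSys P
  obtain ⟨Δ, ⟨hΔ, _⟩, _⟩ := Groth.Agent.S5445.result P S hS
  exact ⟨Δ, hΔ⟩

/-- Every indivisible root belongs to some simple system. -/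
lemma exists_isSimpleSys_mem [Finite ι] (i : ι) (hi : IsIndiv P i) :
    ∃ Δ : Set ι, IsSimpleSys P Δ ∧ i ∈ Δ := by
  obtain ⟨Δ₀, hΔ₀⟩ := exists_isSimpleSys P
  obtain ⟨g, _, a, ha, hga⟩ := (Groth.Agent.S5508.result P Δ₀ hΔ₀).2 i hi
  exact ⟨_, isSimpleSys_image P g hΔ₀, a, ha, hga⟩

lemma mem_span_of_mem_natSpan {S : Set ι} {x : M} (hx : x ∈ natSpan P S) :
    x ∈ Submodule.span ℤ (P.root '' S) := by
  have : natSpan P S ≤ (Submodule.span ℤ (P.root '' S)).toAddSubmonoid :=
    AddSubmonoid.closure_le.mpr Submodule.subset_span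
  exact this hx

lemma root_mem_span_of_isSimpleSys {Δ : Set ι} (hΔ : IsSimpleSys P Δ) (k : ι) :
    P.root k ∈ Submodule.span ℤ (P.root '' Δ) := by
  rcases hΔ.mem_or_neg_mem k with hk | hk
  · exact mem_span_of_mem_natSpan P hk
  · rw [← neg_neg (P.root k)]
    exact Submodule.neg_mem _ (mem_span_of_mem_natSpan P hk)

lemma exists_hom_lex [Finite ι] :
    ∃ (n : ℕ) (ψ : M →+ Lex (Fin n → ℤ)), ∀ i, ψ (P.root i) ≠ 0 := by
  classical
  obtain ⟨n, ⟨e⟩⟩ := Finite.exists_equiv_fin ι
  let φ : M →+ Lex (Fin n → ℤ) :=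
    { toFun := fun m => toLex (fun a => P.coroot' (e.symm a) m)
      map_zero' := by
        change toLex (fun a => P.coroot' (e.symm a) 0) = toLex (0 : Fin n → ℤ)
        congr 1
        ext a
        simp
      map_add' := by
        intro x y
        change toLex (fun a => P.coroot' (e.symm a) (x + y)) =
          toLex ((fun a => P.coroot' (e.symm a) x) + (fun a => P.coroot' (e.symm a) y))
        congr 1
        ext a
        simp }
  refine ⟨n, φ, ?_⟩
  intro i h
  have h1 := congrFun (congrArg ofLex h) (e i)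
  simp [φ] at h1
  change (2 : ℤ) = 0 at h1
  omega

/-- For any additive map to a linearly ordered group there is a positive system on which it is
non-negative. -/
lemma exists_isPosSys_nonneg [Finite ι] {Γ : Type*} [AddCommGroup Γ] [LinearOrder Γ]
    [IsOrderedAddMonoid Γ] (f : M →+ Γ) :
    ∃ S : Set ι, IsPosSys P S ∧ ∀ i ∈ S, 0 ≤ f (P.root i) := by
  obtain ⟨n, ψ, hψ⟩ := exists_hom_lex P
  let φ : M →+ Γ ×ₗ Lex (Fin n → ℤ) :=
    { toFun := fun m => toLex (f m, ψ m)
      map_zero' := by
        rw [map_zero, map_zero]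
        rfl
      map_add' := by
        intro x y
        rw [map_add, map_add]
        rfl }
  have hφ : ∀ i, 0 < φ (P.root i) ∨ φ (P.root i) < 0 := by
    intro i
    have hne : φ (P.root i) ≠ 0 := by
      intro h
      have h1 := congrArg (fun x => (ofLex x).2) h
      exact hψ i h1
    rcases lt_or_gt_of_ne hne with h | h
    · exact Or.inr h
    · exact Or.inl h
  refine ⟨_, Groth.Agent.S5457.result P φ hφ, ?_⟩
  intro i hi
  have h1 : (0 : Γ ×ₗ Lex (Fin n → ℤ)) < φ (P.root i) := hi
  rw [Prod.Lex.lt_iff] at h1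
  rcases h1 with h | ⟨h, _⟩
  · exact le_of_lt h
  · exact le_of_eq h

end Groth.Agent.Lib.helper3.RootDLib
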