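import Groth.Agent.Lib.Helper3.RootD4

/-! Induction along positive roots, and reflecting a simple system towards a given set. -/

set_option autoImplicit false

namespace Groth.Agent.Lib.helper3.RootDLib

open _root_.RootD

variable {ι M N : Type*} [AddCommGroup M] [AddCommGroup N] (P : RootPairing ι ℤ M N)

/-- A positive non-simple root is the sum of a positive root and a simple root; coefficient form. -/
lemma exists_sub_simple [Finite ι] {Δ : Set ι} (_hΔ : IsSimpleSys P Δ) (k : ι) (hkΔ : k ∉ Δ)
    (c : ι →₀ ℤ) (hc : c ∈ Finsupp.supported ℤ ℤ Δ) (hc0 : ∀ j, 0 ≤ c j)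
    (hck : Finsupp.linearCombination ℤ P.root c = P.root k) :
    ∃ i ∈ Δ, 1 ≤ c i ∧ ∃ k' : ι, P.root k = P.root k' + P.root i := by
  classical
  have : Module.IsReflexive ℤ M := isReflexive_left P
  have : Fintype ι := Fintype.ofFinite ι
  have hpos : 0 < P.RootForm (P.root k) (P.root k) :=
    P.rootForm_pos_of_ne_zero (Submodule.subset_span (Set.mem_range_self k)) (P.ne_zero k)
  have hsum : P.RootForm (P.root k) (P.root k) =
      ∑ i ∈ c.support, c i * P.RootForm (P.root k) (P.root i) := by
    have h1 : P.RootForm (P.root k) (Finsupp.linearCombination ℤ P.root c) =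
        ∑ i ∈ c.support, c i * P.RootForm (P.root k) (P.root i) := by
      rw [Finsupp.linearCombination_apply, Finsupp.sum, map_sum]
      simp only [map_smul, smul_eq_mul]
    rw [hck] at h1
    exact h1
  rw [hsum] at hpos
  obtain ⟨i, his, hi⟩ := Finset.exists_lt_of_sum_lt (s := c.support) (f := fun _ => (0 : ℤ))
    (g := fun i => c i * P.RootForm (P.root k) (P.root i)) (by simpa using hpos)
  have hci : 1 ≤ c i := by
    have h1 := hc0 i
    have h2 := Finsupp.mem_support_iff.mp his
    omega
  have hiΔ : i ∈ Δ := hc his
  have hform : 0 < P.RootForm (P.root k) (P.root i) := by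
    by_contra hcon
    push Not at hcon
    have h3 := mul_nonpos_of_nonneg_of_nonpos (hc0 i) hcon
    have hi' : 0 < c i * P.RootForm (P.root k) (P.root i) := hi
    omega
  have hpair : 0 < P.pairing k i := by
    by_contra hcon
    push Not at hcon
    have := Groth.Agent.S5445.rootForm_root_root_nonpos P k i hcon
    omega
  have hne : k ≠ i := fun h => hkΔ (h ▸ hiΔ)
  have hpair' : 0 < P.pairingIn ℤ k i := by rw [pairingIn_eq]; exact hpair
  obtain ⟨k', hk'⟩ := P.root_sub_root_mem_of_pairingIn_pos hpair' hne
  exact ⟨i, hiΔ, hci, k', by rw [hk']; abel⟩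

/-- Induction along positive roots: every positive root is obtained from simple roots by
successively adding simple roots, staying inside the positive roots. -/
lemma posOf_induction [Finite ι] {Δ : Set ι} (hΔ : IsSimpleSys P Δ) (p : ι → Prop)
    (h0 : ∀ i ∈ Δ, p i)
    (hstep : ∀ k' ∈ posOf P Δ, ∀ i ∈ Δ, ∀ k : ι, P.root k = P.root k' + P.root i → p k' → p k) :
    ∀ k ∈ posOf P Δ, p k := by
  classical
  have main : ∀ (n : ℕ) (k : ι) (c : ι →₀ ℤ), c ∈ Finsupp.supported ℤ ℤ Δ → (∀ j, 0 ≤ c j) →
      Finsupp.linearCombination ℤ P.root c = P.root k → c.sum (fun _ a => a) = n → p k := by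
    intro n
    induction n with
    | zero =>
      intro k c hc hc0 hck hsum
      exfalso
      have : c = 0 := eq_zero_of_sum_eq_zero hc0 (by simpa using hsum)
      rw [this, map_zero] at hck
      exact P.ne_zero k hck.symm
    | succ n ih =>
      intro k c hc hc0 hck hsum
      by_cases hkΔ : k ∈ Δ
      · exact h0 k hkΔ
      · obtain ⟨i, hiΔ, hci, k', hk'⟩ := exists_sub_simple P hΔ k hkΔ c hc hc0 hck
        have hc' : c - Finsupp.single i (1 : ℤ) ∈ Finsupp.supported ℤ ℤ Δ :=
          Submodule.sub_mem _ hc (Finsupp.single_mem_supported ℤ 1 hiΔ)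
        have hc'0 : ∀ j, 0 ≤ (c - Finsupp.single i (1 : ℤ)) j := by
          intro j
          simp only [Finsupp.coe_sub, Pi.sub_apply]
          by_cases hj : j = i
          · subst hj; rw [Finsupp.single_eq_same]; omega
          · rw [Finsupp.single_eq_of_ne hj]; have := hc0 j; omega
        have hc'k : Finsupp.linearCombination ℤ P.root (c - Finsupp.single i (1 : ℤ)) = P.root k' := by
          rw [map_sub, hck, Finsupp.linearCombination_single, one_smul, hk']; abel
        have hc'sum : (c - Finsupp.single i (1 : ℤ)).sum (fun _ a => a) = (n : ℤ) := by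
          have e := Finsupp.sum_sub_index (f := c) (g := Finsupp.single i (1 : ℤ))
            (h := fun _ a => a) (fun _ _ _ => rfl)
          rw [e, hsum, Finsupp.sum_single_index rfl]
          push_cast
          ring
        have hk'pos : k' ∈ posOf P Δ := by
          change P.root k' ∈ natSpan P Δ
          rw [← hc'k]
          exact linearCombination_mem_natSpan P _ hc' hc'0
        exact hstep k' hk'pos i hiΔ k hk' (ih k' _ hc' hc'0 hc'k hc'sum)
  intro k hk
  obtain ⟨c, hc, hc0, hck⟩ := exists_finsupp_of_mem_natSpan P hk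
  have hnn : 0 ≤ c.sum (fun _ a => a) := Finset.sum_nonneg (fun i _ => hc0 i)
  obtain ⟨n, hn⟩ := Int.eq_ofNat_of_zero_le hnn
  exact main n k c hc hc0 hck hn

/-- A closed set of roots containing a simple system contains its positive roots. -/
lemma posOf_subset_of_closed [Finite ι] {Δ : Set ι} (hΔ : IsSimpleSys P Δ) {T : Set ι}
    (hcl : IsClosedSub P T) (hΔT : Δ ⊆ T) : posOf P Δ ⊆ T := by
  intro k hk
  refine posOf_induction P hΔ (fun k => k ∈ T) hΔT ?_ k hk
  intro k' _ i hi k hkk' hk'T
  exact hcl hk'T (hΔT hi) hkk'

/-- Reflecting a simple system in a simple root `i ∉ T` whose negatives lie in `T` strictly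
decreases the set of positive roots outside `T`. -/
lemma posOf_reflection_image_sdiff_ssubset [Finite ι] {Δ : Set ι} (hΔ : IsSimpleSys P Δ) {i : ι}
    (hiΔ : i ∈ Δ) (T : Set ι) (hiT : i ∉ T) (h1 : ∀ k, P.root k = -P.root i → k ∈ T)
    (h2 : ∀ k, P.root k = -((2 : ℤ) • P.root i) → k ∈ T) :
    posOf P ((fun j : ι => RootPairing.Equiv.reflection P i • j) '' Δ) \ T ⊂ posOf P Δ \ T := by
  have hS : IsPosSys P (posOf P Δ) := isPosSys_posOf P hΔ
  have hi_pos : i ∈ posOf P Δ := subset_posOf P Δ hiΔ
  have hind : IsIndiv P i := Groth.Agent.S5448.result P Δ hΔ i hiΔ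
  set s : P.Aut := RootPairing.Equiv.reflection P i with hs
  have hsi : P.root (s • i) = -P.root i := by
    rw [root_smul, hs, RootPairing.Equiv.reflection_smul, P.reflection_apply_self]
  rw [Set.ssubset_iff_of_subset]
  · refine ⟨i, ⟨hi_pos, hiT⟩, ?_⟩
    rintro ⟨hi1, _⟩
    rw [posOf_image] at hi1
    obtain ⟨k', hk', hk'i⟩ := hi1
    have hk'eq : k' = s • i := by
      have : s • (s • k') = s • i := by
        change s • k' = i at hk'i
        rw [hk'i]
      rw [← mul_smul, hs, reflection_mul_self, one_smul] at this
      exact this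
    rw [hk'eq] at hk'
    have : P.reflectionPerm i i ∈ posOf P Δ := by
      have e : P.reflectionPerm i i = s • i := by
        apply P.root.injective
        rw [root_neg, hsi]
      rw [e]; exact hk'
    exact hS.disjoint hi_pos this
  · rintro k ⟨hk1, hk2⟩
    refine ⟨?_, hk2⟩
    rw [posOf_image] at hk1
    obtain ⟨k', hk', rfl⟩ := hk1
    change s • k' ∈ posOf P Δ
    by_cases hli : LinearIndependent ℤ ![P.root k', P.root i]
    · exact Groth.Agent.S5466.result P Δ hΔ k' i hk' hiΔ hli
    · exfalso
      have hli' : ¬ LinearIndependent ℤ ![P.root i, P.root k'] := by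
        intro h
        apply hli
        rw [LinearIndependent.pair_symm_iff]
        exact h
      have hrk : P.root (s • k') = P.reflection i (P.root k') := by
        rw [root_smul, hs, RootPairing.Equiv.reflection_smul]
      rcases proportional_cases P i k' hli' with h | h | h | h | h | h
      · apply hk2
        apply h1
        change P.root (s • k') = _
        rw [hrk, h, P.reflection_apply_self]
      · have e : P.reflectionPerm i i = k' := by
          apply P.root.injective
          rw [root_neg, h]
        exact hS.disjoint hi_pos (e ▸ hk')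
      · apply hk2
        apply h2
        change P.root (s • k') = _
        rw [hrk, h, map_smul, P.reflection_apply_self, smul_neg]
      · have hmem : P.root (P.reflectionPerm k' k') ∈ natSpan P Δ := by
          rw [root_neg, h, neg_neg, two_smul]
          exact add_mem hi_pos hi_pos
        exact hS.disjoint hk' hmem
      · exact hind k' h.symm
      · apply hind (P.reflectionPerm k' k')
        rw [root_neg, h, smul_neg]

end Groth.Agent.Lib.helper3.RootDLib
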