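import Groth.Agent.Lib.Helper3.RootD2
import Groth.Agent.S5506

/-! Irreducible root data: chains, Weyl conjugates non-orthogonal to a given root. -/

set_option autoImplicit false

namespace Groth.Agent.Lib.helper3.RootDLib

open _root_.RootD

variable {ι M N : Type*} [AddCommGroup M] [AddCommGroup N] (P : RootPairing ι ℤ M N)

/-- W-invariance of the canonical form. -/
lemma rootForm_weyl_smul [Fintype ι] (g : P.Aut) (hg : g ∈ P.weylGroup) (x y : M) :
    P.RootForm (g • x) (g • y) = P.RootForm x y := by
  induction hg using RootPairing.weylGroup.induction generalizing x y with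
  | mem k =>
    rw [RootPairing.Equiv.reflection_smul, RootPairing.Equiv.reflection_smul]
    exact P.rootForm_reflection_reflection_apply k x y
  | one => rw [one_smul, one_smul]
  | mul a b _ _ iha ihb => rw [mul_smul, mul_smul, iha, ihb]

/-- In an irreducible root datum all roots are chain-connected. -/
lemma chain_of_irreducible [Finite ι]
    (hirr : ∀ R' : Set ι, IsClosedSub P R' → IsSymmSub P R' → IsClosedSub P R'ᶜ →
      IsSymmSub P R'ᶜ → R' = ∅ ∨ R' = Set.univ) (i j : ι) :
    Relation.ReflTransGen (fun a b : ι => ¬ P.IsOrthogonal a b) i j := by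
  obtain ⟨hc, hs, hc', hs'⟩ := Groth.Agent.S5506.result P i
  rcases hirr _ hc hs hc' hs' with h | h
  · exfalso
    have : i ∈ {j : ι | Relation.ReflTransGen (fun a b : ι => ¬ P.IsOrthogonal a b) i j} :=
      Relation.ReflTransGen.refl
    rw [h] at this
    exact this
  · have : j ∈ {j : ι | Relation.ReflTransGen (fun a b : ι => ¬ P.IsOrthogonal a b) i j} := by
      rw [h]; trivial
    exact this

/-- In an irreducible root datum, every root has a Weyl conjugate non-orthogonal to any given
root. -/
lemma exists_weyl_smul_pairing_ne_zero [Finite ι]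
    (hirr : ∀ R' : Set ι, IsClosedSub P R' → IsSymmSub P R' → IsClosedSub P R'ᶜ →
      IsSymmSub P R'ᶜ → R' = ∅ ∨ R' = Set.univ) (i k : ι) :
    ∃ g : P.Aut, g ∈ P.weylGroup ∧ P.pairing (g • i) k ≠ 0 := by
  have : Module.IsReflexive ℤ M := isReflexive_left P
  have hch := chain_of_irreducible P hirr i k
  induction hch with
  | refl => exact ⟨1, one_mem _, by rw [one_smul, P.pairing_same]; norm_num⟩
  | @tail b c _ hbc ih =>
    obtain ⟨g, hg, hgb⟩ := ih
    have hbc' : P.pairing b c ≠ 0 := by
      intro h0
      exact hbc ⟨h0, RootPairing.pairing_eq_zero_iff.mp h0⟩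
    by_cases hoc : P.pairing (g • i) c = 0
    · refine ⟨RootPairing.Equiv.reflection P b * g,
        mul_mem (P.reflection_mem_weylGroup b) hg, ?_⟩
      have hr : P.root ((RootPairing.Equiv.reflection P b * g) • i) =
          P.root (g • i) - P.pairing (g • i) b • P.root b := by
        rw [mul_smul, root_smul, RootPairing.Equiv.reflection_smul, P.reflection_apply_root]
      have hp : P.pairing ((RootPairing.Equiv.reflection P b * g) • i) c =
          P.pairing (g • i) c - P.pairing (g • i) b * P.pairing b c := by
        have h1 := P.root_coroot'_eq_pairing c ((RootPairing.Equiv.reflection P b * g) • i)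
        rw [hr, map_sub, (P.coroot' c).map_smul, P.root_coroot'_eq_pairing,
          P.root_coroot'_eq_pairing, smul_eq_mul] at h1
        exact h1.symm
      rw [hp, hoc, zero_sub, neg_ne_zero]
      exact mul_ne_zero hgb hbc'
    · exact ⟨g, hg, hoc⟩

/-- length relation for two roots -/
lemma pairing_mul_rootForm_swap [Fintype ι] (i j : ι) :
    P.pairing j i * P.RootForm (P.root i) (P.root i) =
      P.pairing i j * P.RootForm (P.root j) (P.root j) := by
  have : Module.IsReflexive ℤ M := isReflexive_left P
  have h1 := (P.posRootForm ℤ).toInvariantForm.pairing_mul_eq_pairing_mul_swap i j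
  simp only [RootPairing.RootPositiveForm.toInvariantForm_form] at h1
  exact h1

lemma rootForm_root_pos [Fintype ι] (i : ι) : 0 < P.RootForm (P.root i) (P.root i) := by
  have : Module.IsReflexive ℤ M := isReflexive_left P
  exact P.rootForm_pos_of_ne_zero (Submodule.subset_span (Set.mem_range_self i)) (P.ne_zero i)

end Groth.Agent.Lib.helper3.RootDLib
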