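import Groth.Agent.Lib.Helper3.RootD6
import Groth.Agent.S5445
import Groth.Agent.S5492

/-! Simple systems and the dual datum. -/

set_option autoImplicit false

namespace Groth.Agent.Lib.helper3.RootDLib

open _root_.RootD

variable {ι M N : Type*} [AddCommGroup M] [AddCommGroup N] (P : RootPairing ι ℤ M N)

lemma zsmul_mem_of_nonneg {A : Type*} [AddCommGroup A] (Q : AddSubmonoid A) (t : ℤ) (x : A)
    (ht : 0 ≤ t) (hx : x ∈ Q) : t • x ∈ Q := by
  obtain ⟨n, rfl⟩ := Int.eq_ofNat_of_zero_le ht
  rw [natCast_zsmul]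
  exact AddSubmonoid.nsmul_mem _ hx n

/-- The positive roots of a simple system are closed for the addition of coroots. -/
lemma isClosedSub_flip_posOf [Finite ι] {Δ : Set ι} (hΔ : IsSimpleSys P Δ) :
    IsClosedSub P.flip (posOf P Δ) := by
  have : Fintype ι := Fintype.ofFinite ι
  have hS : IsPosSys P (posOf P Δ) := isPosSys_posOf P hΔ
  have hℓv : ∀ k, 0 < P.CorootForm (P.coroot k) (P.coroot k) := rootForm_root_pos P.flip
  intro i j k hi hj hk
  change P.coroot k = P.coroot i + P.coroot j at hk
  have h1 : (P.CorootForm (P.coroot k) (P.coroot k)) • P.root k =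
      (P.CorootForm (P.coroot i) (P.coroot i)) • P.root i +
      (P.CorootForm (P.coroot j) (P.coroot j)) • P.root j := by
    rw [P.corootForm_self_smul_root k, P.corootForm_self_smul_root i,
      P.corootForm_self_smul_root j, hk, map_add, smul_add]
  have hmem : (P.CorootForm (P.coroot k) (P.coroot k)) • P.root k ∈
      natSpan P (posOf P Δ) := by
    rw [h1]
    exact add_mem (zsmul_mem_of_nonneg _ _ _ (hℓv i).le (root_mem_natSpan P hi))
      (zsmul_mem_of_nonneg _ _ _ (hℓv j).le (root_mem_natSpan P hj))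
  obtain ⟨n, hn⟩ := Int.eq_ofNat_of_zero_le (hℓv k).le
  rw [hn, natCast_zsmul] at hmem
  apply hS.sat n _ hmem
  have := hℓv k
  omega

/-- The coroots of a simple system are linearly independent. -/
lemma linearIndepOn_coroot [Finite ι] {Δ : Set ι} (hΔ : IsSimpleSys P Δ) :
    LinearIndepOn ℤ P.coroot Δ := by
  have : Fintype ι := Fintype.ofFinite ι
  have hS : IsPosSys P (posOf P Δ) := isPosSys_posOf P hΔ
  apply Groth.Agent.S5445.linInd_of_obtuse P.flip (S := posOf P Δ) (isClosedSub_flip_posOf P hΔ)
  · intro i hi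
    exact hS.disjoint hi
  · exact subset_posOf P Δ
  · intro i hi j hj hij
    change P.pairing j i ≤ 0
    exact Groth.Agent.S5492.result P Δ hΔ i j hi hj hij

end Groth.Agent.Lib.helper3.RootDLib
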