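import Groth.Agent.Lib.Helper3.RootD5
import Groth.Agent.S5467

/-! Induction along positive roots by simple reflections. -/

set_option autoImplicit false

namespace Groth.Agent.Lib.helper3.RootDLib

open _root_.RootD

variable {ι M N : Type*} [AddCommGroup M] [AddCommGroup N] (P : RootPairing ι ℤ M N)

lemma pairing_reflectionPerm_left (i k j : ι) :
    P.pairing (P.reflectionPerm i k) j = P.pairing k j - P.pairing k i * P.pairing i j := by
  have h1 := P.root_coroot'_eq_pairing j (P.reflectionPerm i k)
  rw [P.root_reflectionPerm, P.reflection_apply_root, map_sub, (P.coroot' j).map_smul,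
    P.root_coroot'_eq_pairing, P.root_coroot'_eq_pairing, smul_eq_mul] at h1
  exact h1.symm

/-- Induction along indivisible positive roots: each is obtained from a simple root by successive
simple reflections that move upwards. -/
lemma posOf_induction_reflect [Finite ι] {Δ : Set ι} (hΔ : IsSimpleSys P Δ) (p : ι → Prop)
    (h0 : ∀ i ∈ Δ, p i)
    (hstep : ∀ k₁ ∈ posOf P Δ, ∀ i ∈ Δ, P.pairing k₁ i < 0 → p k₁ → p (P.reflectionPerm i k₁)) :
    ∀ k ∈ posOf P Δ, IsIndiv P k → p k := by
  classical
  have main : ∀ (n : ℕ) (k : ι) (c : ι →₀ ℤ), c ∈ Finsupp.supported ℤ ℤ Δ → (∀ j, 0 ≤ c j) →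
      Finsupp.linearCombination ℤ P.root c = P.root k → c.sum (fun _ a => a) = n →
      IsIndiv P k → p k := by
    intro n
    induction n using Nat.strong_induction_on with
    | _ n ih =>
      intro k c hc hc0 hck hsum hind
      have hk : k ∈ posOf P Δ := by
        change P.root k ∈ natSpan P Δ
        rw [← hck]
        exact linearCombination_mem_natSpan P c hc hc0
      by_cases hkΔ : k ∈ Δ
      · exact h0 k hkΔ
      · obtain ⟨i, hiΔ, hpos, hk₁⟩ := Groth.Agent.S5467.result P Δ hΔ k hk hkΔ hind
        set k₁ := P.reflectionPerm i k with hk₁def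
        have hk₁root : P.root k₁ = P.root k - P.pairing k i • P.root i := by
          rw [hk₁def, P.root_reflectionPerm, P.reflection_apply_root]
        obtain ⟨c₁, hc₁, hc₁0, hc₁k⟩ := exists_finsupp_of_mem_natSpan P hk₁
        have hceq : c₁ = c - P.pairing k i • Finsupp.single i (1 : ℤ) := by
          apply finsupp_eq_of_linearCombination_eq P hΔ.linInd hc₁
            (Submodule.sub_mem _ hc (Submodule.smul_mem _ _ (Finsupp.single_mem_supported ℤ 1 hiΔ)))
          rw [hc₁k, map_sub, map_smul, Finsupp.linearCombination_single, one_smul, hck, hk₁root]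
        have hsum₁ : c₁.sum (fun _ a => a) = (n : ℤ) - P.pairing k i := by
          have e := Finsupp.sum_sub_index (f := c) (g := P.pairing k i • Finsupp.single i (1 : ℤ))
            (h := fun _ a => a) (fun _ _ _ => rfl)
          rw [hceq, e, hsum, Finsupp.smul_single, smul_eq_mul, mul_one,
            Finsupp.sum_single_index rfl]
        have hnn : 0 ≤ c₁.sum (fun _ a => a) := Finset.sum_nonneg (fun j _ => hc₁0 j)
        obtain ⟨n₁, hn₁⟩ := Int.eq_ofNat_of_zero_le hnn
        have hlt : n₁ < n := by omega
        have hind₁ : IsIndiv P k₁ := by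
          have := isIndiv_smul P (RootPairing.Equiv.reflection P i) hind
          exact this
        have hpk₁ : p k₁ := ih n₁ hlt k₁ c₁ hc₁ hc₁0 hc₁k hn₁ hind₁
        have hneg : P.pairing k₁ i < 0 := by
          rw [hk₁def, pairing_reflectionPerm_left, P.pairing_same]
          omega
        have hback : P.reflectionPerm i k₁ = k := by
          rw [hk₁def]
          exact P.reflectionPerm_self i k
        have := hstep k₁ hk₁ i hiΔ hneg hpk₁
        rw [hback] at this
        exact this
  intro k hk hind
  obtain ⟨c, hc, hc0, hck⟩ := exists_finsupp_of_mem_natSpan P hk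
  have hnn : 0 ≤ c.sum (fun _ a => a) := Finset.sum_nonneg (fun i _ => hc0 i)
  obtain ⟨n, hn⟩ := Int.eq_ofNat_of_zero_le hnn
  exact main n k c hc hc0 hck hn hind

end Groth.Agent.Lib.helper3.RootDLib
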