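import Groth.Agent.Lib.Helper3.RootD7
import Groth.Agent.Lib.Helper3.RootD4
import Groth.Agent.S5456
import Groth.Agent.S5449
import Groth.Agent.S5454
import Groth.Agent.S5452

/-! Positive systems of the dual datum, dominant Weyl conjugates, finiteness of the Weyl group. -/

set_option autoImplicit false

namespace Groth.Agent.Lib.helper3.RootDLib

open _root_.RootD

variable {ι M N : Type*} [AddCommGroup M] [AddCommGroup N] (P : RootPairing ι ℤ M N)

/-- A positive system is also a positive system for the dual datum. -/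
lemma isPosSys_flip [Finite ι] {S : Set ι} (hS : IsPosSys P S) : IsPosSys P.flip S := by
  obtain ⟨Δ, ⟨hΔ, hΔS⟩, _⟩ := Groth.Agent.S5445.result P S hS
  have hSeq : S = posOf P Δ := ((Groth.Agent.S5449.result P Δ hΔ S hS).2).mp hΔS
  rw [Groth.Agent.S5456.result P.flip S]
  refine ⟨fun i hi => hS.disjoint hi, hS.cover, ?_⟩
  rw [hSeq]
  exact isClosedSub_flip_posOf P hΔ

lemma isPosSys_of_flip [Finite ι] {S : Set ι} (hS : IsPosSys P.flip S) : IsPosSys P S := by
  have h := isPosSys_flip P.flip hS
  rwa [RootPairing.flip_flip] at h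

/-- Every weight has a Weyl conjugate that is dominant for a given positive system. -/
lemma exists_weyl_dominant [Finite ι] {S : Set ι} (hS : IsPosSys P S) (m : M) :
    ∃ g : P.Aut, g ∈ P.weylGroup ∧ ∀ i ∈ S, 0 ≤ P.coroot' i (g • m) := by
  let φ : N →+ ℤ := (P.toLinearMap m).toAddMonoidHom
  obtain ⟨S', hS', hnn⟩ := exists_isPosSys_nonneg P.flip φ
  have hS'' : IsPosSys P S' := isPosSys_of_flip P hS'
  obtain ⟨g, hg, hgS⟩ := Groth.Agent.S5454.result P S S' hS hS''
  refine ⟨g⁻¹, inv_mem hg, ?_⟩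
  intro i hi
  have h1 : g • i ∈ S' := by rw [← hgS]; exact ⟨i, hi, rfl⟩
  have h2 := hnn _ h1
  have h3 : P.coroot' i (g⁻¹ • m) = P.coroot' (g • i) m := by
    rw [← coroot'_smul_smul P g i (g⁻¹ • m), smul_inv_smul]
  rw [h3]
  exact h2

instance finite_weylGroup [Finite ι] : Finite P.weylGroup :=
  Finite.of_injective _ (Groth.Agent.S5452.result P)

end Groth.Agent.Lib.helper3.RootDLib
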