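import Groth.Agent.Lib.Helper3.ScalarGamma

/-!
`γ^m(κ g) ≡ κ γ^m(g)` modulo products of two `γ^i(g)`, `i ≥ 1` (helper3).
-/

set_option autoImplicit false
universe u v

namespace Groth.Agent.Lib.helper3.ScalarLam

open PowerSeries Finset LambdaRing
open Groth.Agent.Lib.helper3.GammaFil Groth.Agent.Lib.helper3.AdamsOp

section Series

variable {A : Type v} [CommRing A]

theorem coeff_subst_mem' {φ f : A⟦X⟧} (hf0 : constantCoeff f = 0) (J : Ideal A) (n : ℕ)
    (h : ∀ d : ℕ, coeff d φ • coeff n (f ^ d) ∈ J) : coeff n (φ.subst f) ∈ J := by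
  rw [coeff_subst' (HasSubst.of_constantCoeff_zero' hf0)]
  exact finsum_induction (fun x => x ∈ J) (Ideal.zero_mem _)
    (fun x y hx hy => Ideal.add_mem _ hx hy) h

theorem coeff_pow_mem_sq (I : Ideal A) {G : A⟦X⟧} (hG : ∀ l : ℕ, coeff l G ∈ I) (d : ℕ)
    (hd : 2 ≤ d) (n : ℕ) : coeff n (G ^ d) ∈ I * I := by
  obtain ⟨e, rfl⟩ := Nat.exists_eq_add_of_le' hd
  rw [pow_add, pow_two, coeff_mul]
  refine Ideal.sum_mem _ fun p _ => Ideal.mul_mem_left _ _ ?_
  rw [coeff_mul]
  exact Ideal.sum_mem _ fun q _ => Ideal.mul_mem_mul (hG _) (hG _)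

end Series

section Gamma

variable {K : Type u} [CommRing K] [LambdaOps K] [BinomialRing K]
  {A : Type v} [CommRing A] [LambdaOps A] [Algebra K A]

/-- `γ^m(κ g) - κ γ^m(g)` is a combination of products of two `γ^i(g)`, `i ≥ 1` -/
theorem gamma_smul_sub_mem (hKb : IsBinomial K) (hA : IsSpecial A) (hKA : IsLambdaAlg K A)
    (I J : Ideal A) (hIJ : I * I ≤ J) {g : A} (hg : ∀ i : ℕ, 1 ≤ i → gamma i g ∈ I) (κ : K)
    (m : ℕ) (hm : 1 ≤ m) :
    gamma m (algebraMap K A κ * g) - algebraMap K A κ * gamma m g ∈ J := by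
  set G : A⟦X⟧ := gamSeries g - 1 with hGdef
  have h0 : constantCoeff G = 0 := by
    rw [hGdef, map_sub, ← coeff_zero_eq_constantCoeff_apply, coeff_gamSeries,
      Groth.Agent.Lib.helper3.GammaLib.gamma_zero_left, map_one, sub_self]
  have hS : HasSubst G := HasSubst.of_constantCoeff_zero' h0
  have hGI : ∀ l : ℕ, coeff l G ∈ I := by
    intro l
    rcases Nat.eq_zero_or_pos l with rfl | hl
    · rw [coeff_zero_eq_constantCoeff_apply, h0]; exact Ideal.zero_mem _
    · rw [hGdef, map_sub, coeff_gamSeries, coeff_one, if_neg (by omega), sub_zero]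
      exact hg l hl
  have hGm : coeff m G = gamma m g := by
    rw [hGdef, map_sub, coeff_gamSeries, coeff_one, if_neg (by omega), sub_zero]
  set φ : A⟦X⟧ := binomialSeries A κ - algebraMap K A κ • (X : A⟦X⟧) with hφ
  have h1 : coeff m (φ.subst G) =
      gamma m (algebraMap K A κ * g) - algebraMap K A κ * gamma m g := by
    rw [hφ, subst_sub hS, subst_smul hS, subst_X hS, map_sub, ← gamSeries_smul hKb hA hKA,
      coeff_gamSeries, coeff_smul, hGm, smul_eq_mul]
  rw [← h1]
  apply coeff_subst_mem' h0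
  intro d
  rcases d with _ | _ | d
  · rw [pow_zero, coeff_one, if_neg (by omega), smul_zero]; exact Ideal.zero_mem _
  · have : coeff (0 + 1) φ = 0 := by
      rw [hφ, map_sub, binomialSeries_coeff, coeff_smul, zero_add, coeff_one_X,
        Ring.choose_one_right, Algebra.algebraMap_eq_smul_one, smul_eq_mul, mul_one, sub_self]
    rw [this, zero_smul]; exact Ideal.zero_mem _
  · rw [smul_eq_mul]
    exact Ideal.mul_mem_left _ _ (hIJ (coeff_pow_mem_sq I hGI (d + 1 + 1) (by omega) m))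

end Gamma

end Groth.Agent.Lib.helper3.ScalarLam
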