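import Groth.Agent.Lib.Helper3.BinomPow
import Groth.Agent.Lib.Helper3.SpecialLib4
import Groth.Agent.Lib.Helper3.UnivGamma

/-!
`λ_t(κ g) = λ_t(g)^κ` for `κ` in a binomial ring: the universal identity over a `ℚ`-algebra
(helper3).
-/

set_option autoImplicit false
universe u v

namespace Groth.Agent.Lib.helper3.ScalarLam

open PowerSeries Finset LambdaRing
open Groth.Agent.Lib.helper3.Special Groth.Agent.Lib.helper3.BinomPow
open Groth.Agent.Lib.helper3.UnivGamma

section Core

variable {K : Type u} [CommRing K] [BinomialRing K] {R : Type v} [CommRing R] [Algebra K R]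
  [Algebra ℚ R] (n : ℕ)

omit [Algebra K R] [BinomialRing K] in
/-- the Newton recursion applied to the Newton polynomials recovers the variables -/
theorem LRec_npoly (g : MvPolynomial (Fin n) ℚ →ₐ[ℚ] R) (l : ℕ) :
    LRec (fun k => g (npoly n k)) l = g (xt n l) := by
  have hc : constantCoeff (PowerSeries.map (g : MvPolynomial (Fin n) ℚ →+* R) (Lam n)) = 1 := by
    rw [← coeff_zero_eq_constantCoeff_apply, coeff_map, coeff_zero_eq_constantCoeff_apply,
      constantCoeff_Lam, map_one]
  have h := coeff_eq_LRec_of_ode (fun k => g (npoly n k))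
    (PowerSeries.map (g : MvPolynomial (Fin n) ℚ →+* R) (Lam n)) (by
      rw [coeff_zero_eq_constantCoeff_apply, hc]) ?_ l
  · rw [← h, coeff_map, Lam, coeff_mk]; rfl
  · have h1 := congrArg (PowerSeries.map (g : MvPolynomial (Fin n) ℚ →+* R))
      (mul_logD (constantCoeff_Lam n))
    rw [map_mul, ← derivative_map] at h1
    rw [← h1]
    congr 1
    ext j
    rw [coeff_map, GS, coeff_mk, npoly, RingHom.coe_coe, map_mul, map_pow, map_neg, map_one,
      ← mul_assoc, ← mul_pow]
    simp

omit [Algebra ℚ R] in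
theorem one_add_X_mul_alt : (1 + X : R⟦X⟧) * PowerSeries.mk (fun k => (-1 : R) ^ k) = 1 := by
  ext k
  rw [add_mul, one_mul, map_add, coeff_mk]
  rcases k with _ | k
  · rw [coeff_zero_X_mul]; simp
  · rw [coeff_succ_X_mul, coeff_mk, coeff_one, if_neg (Nat.succ_ne_zero k), pow_succ]; ring

omit [Algebra ℚ R] in
theorem logD_binomialSeries (κ : K) :
    logD (binomialSeries R κ) =
      C (algebraMap K R κ) * PowerSeries.mk (fun k => (-1 : R) ^ k) := by
  symm
  apply logD_unique (binomialSeries_constantCoeff κ)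
  have hu : IsUnit (1 + X : R⟦X⟧) := by
    rw [isUnit_iff_constantCoeff]; simp
  apply hu.mul_left_cancel
  rw [one_add_X_mul_derivative_binomialSeries]
  calc (1 + X : R⟦X⟧) * (binomialSeries R κ * (C (algebraMap K R κ) *
        PowerSeries.mk (fun k => (-1 : R) ^ k)))
      = C (algebraMap K R κ) * binomialSeries R κ *
          ((1 + X) * PowerSeries.mk (fun k => (-1 : R) ^ k)) := by ring
    _ = _ := by rw [one_add_X_mul_alt, mul_one]

/-- the Newton polynomials at the binomial coefficients of `κ` all equal `κ` -/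
theorem aeval_npoly_choose (κ : K) (k : ℕ) (hk1 : 1 ≤ k) (hk : k ≤ n) :
    MvPolynomial.aeval (fun i : Fin n => algebraMap K R (Ring.choose κ ((i : ℕ) + 1))) (npoly n k) =
      algebraMap K R κ := by
  obtain ⟨k, rfl⟩ := Nat.exists_eq_add_of_le' hk1
  have := map_npoly_succ
    ((MvPolynomial.aeval (fun i : Fin n => algebraMap K R (Ring.choose κ ((i : ℕ) + 1))) :
      MvPolynomial (Fin n) ℚ →ₐ[ℚ] R) : MvPolynomial (Fin n) ℚ →+* R) (binomialSeries R κ)
    (binomialSeries_constantCoeff κ) ?_ k (by omega)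
  · rw [RingHom.coe_coe] at this
    rw [this, logD_binomialSeries, coeff_C_mul, coeff_mk, mul_comm (algebraMap K R κ), ← mul_assoc,
      ← mul_pow]
    simp
  · intro j hj
    rw [binomialSeries_coeff, RingHom.coe_coe, xt, ← Algebra.algebraMap_eq_smul_one]
    split_ifs with h0 h1
    · rw [h0, Ring.choose_zero_right, map_one, map_one]
    · rw [MvPolynomial.aeval_X]
      show _ = algebraMap K R (Ring.choose κ (j - 1 + 1))
      rw [Nat.sub_add_cancel (by omega)]
    · omega

/-- the universal identity: `P_n(C(κ,1),…,C(κ,n); y_1,…,y_n)` is the coefficient of `t^n` in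
`(1 + y_1 t + ⋯ + y_n t^n)^κ` -/
theorem aeval_Pn_choose (κ : K) (y : Fin n → R) :
    MvPolynomial.aeval (Sum.elim (fun k : Fin n => algebraMap K R (Ring.choose κ ((k : ℕ) + 1))) y)
      (Pn n) =
    coeff n ((binomialSeries R κ).subst
      (PowerSeries.map ((MvPolynomial.aeval y : MvPolynomial (Fin n) ℚ →ₐ[ℚ] R) :
        MvPolynomial (Fin n) ℚ →+* R) (Lam n) - 1)) := by
  set c : Fin n → R := fun k => algebraMap K R (Ring.choose κ ((k : ℕ) + 1)) with hc
  set g : MvPolynomial (Fin n) ℚ →ₐ[ℚ] R := MvPolynomial.aeval y with hg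
  set ev : MvPolynomial (Fin n ⊕ Fin n) ℚ →ₐ[ℚ] R := MvPolynomial.aeval (Sum.elim c y) with hev
  have h1 : MvPolynomial.aeval (Sum.elim c y) (Pn n) = ev (cpoly n) := by
    rw [cpoly_eq n (Pn n) (isMulPoly_Pn n), hev]
    exact (MvPolynomial.aeval_map_algebraMap ℚ _ (Pn n)).symm
  rw [h1, cpoly]
  have h2 := map_LRec ((ev : MvPolynomial (Fin n ⊕ Fin n) ℚ →ₐ[ℚ] R) :
    MvPolynomial (Fin n ⊕ Fin n) ℚ →+* R)
    (fun k => MvPolynomial.rename Sum.inl (npoly n k) * MvPolynomial.rename Sum.inr (npoly n k)) n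
  rw [RingHom.coe_coe] at h2
  rw [h2]
  have h3 : LRec (fun k => ev (MvPolynomial.rename Sum.inl (npoly n k) *
      MvPolynomial.rename Sum.inr (npoly n k))) n =
      LRec (fun k => algebraMap K R κ * g (npoly n k)) n := by
    apply LRec_congr
    intro k hk1 hk2
    rw [map_mul, hev, MvPolynomial.aeval_rename, MvPolynomial.aeval_rename]
    have e1 : (Sum.elim c y ∘ Sum.inl) = c := by funext i; rfl
    have e2 : (Sum.elim c y ∘ Sum.inr) = y := by funext i; rfl
    rw [e1, e2, hc, aeval_npoly_choose n κ k hk1 hk2]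
  rw [h3]
  have h4 := congrArg (coeff n) (FS_smul κ (fun k => g (npoly n k)))
  rw [FS, coeff_mk] at h4
  rw [h4]
  congr 3
  ext l
  rw [FS, coeff_mk, LRec_npoly, coeff_map, Lam, coeff_mk]
  rfl

end Core

end Groth.Agent.Lib.helper3.ScalarLam
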