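import Groth.Agent.Lib.Helper3.SpecialZ4

/-!
Composition of the Adams operations of a λ-ring in the strict sense (helper3).
-/

set_option autoImplicit false
universe u v

namespace Groth.Agent.Lib.helper3.Special

open MvPolynomial Finset LambdaRing
open Groth.Agent.Lib.helper3.AdamsOp

theorem map_aeval_int' {K K' : Type*} [CommRing K] [CommRing K'] (f : K →+* K') {σ : Type*}
    (w : σ → K) (p : MvPolynomial σ ℤ) : f (aeval w p) = aeval (fun i => f (w i)) p := by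
  induction p using MvPolynomial.induction_on with
  | C a => simp
  | add p q hp hq => rw [map_add, map_add, map_add, hp, hq]
  | mul_X p i hp => rw [map_mul, map_mul, map_mul, hp, aeval_X, aeval_X]

section AdamsComp

variable (k l : ℕ) (Qm : ∀ i j : ℕ, MvPolynomial (Fin (i * j)) ℤ)

theorem le_aux (i : Fin l) (a : Fin k) : ((i : ℕ) + 1) * ((a : ℕ) + 1) ≤ k * l := by
  rw [mul_comm k l]
  exact Nat.mul_le_mul (Nat.succ_le_of_lt i.2) (Nat.succ_le_of_lt a.2)

/-- `Q_{i+1,a+1}` in `k l` variables -/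
noncomputable def QN (i : Fin l) (a : Fin k) : MvPolynomial (Fin (k * l)) ℤ :=
  rename (Fin.castLE (le_aux k l i a)) (Qm ((i : ℕ) + 1) ((a : ℕ) + 1))

/-- the polynomial computing `ψ^k(λ^{i+1} x)` -/
noncomputable def Dpoly (i : Fin l) : MvPolynomial (Fin (k * l)) ℤ :=
  aeval (QN k l Qm i) (npolyR ℤ k k)

theorem eUR_Dpoly (hQm : ∀ i j : ℕ, IsCompPoly i j (Qm i j)) (hk : 1 ≤ k) (i : Fin l) :
    eUR ℤ (k * l) (Dpoly k l Qm i) =
      ∑ s ∈ (Finset.univ : Finset (Fin (k * l))).powersetCard ((i : ℕ) + 1),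
        ∏ c ∈ s, (X c : MvPolynomial (Fin (k * l)) ℤ) ^ k := by
  rw [Dpoly, comp_aeval_apply]
  have hfun : (fun a : Fin k => eUR ℤ (k * l) (QN k l Qm i a)) =
      fun a : Fin k => ∑ t ∈ ((Finset.univ : Finset (Fin (k * l))).powersetCard
        ((i : ℕ) + 1)).powersetCard ((a : ℕ) + 1),
        ∏ s ∈ t, ∏ c ∈ s, (X c : MvPolynomial (Fin (k * l)) ℤ) := by
    funext a
    rw [QN]
    exact eUR_rename_of_isCompPoly _ _ (hQm _ _)
  rw [hfun, aeval_npolyR_esymm ((Finset.univ : Finset (Fin (k * l))).powersetCard ((i : ℕ) + 1))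
    (fun s => ∏ c ∈ s, (X c : MvPolynomial (Fin (k * l)) ℤ)) k hk le_rfl]
  refine Finset.sum_congr rfl fun s _ => ?_
  rw [Finset.prod_pow]

/-- the polynomial identity behind `ψ^k ∘ ψ^l = ψ^{kl}` -/
theorem adams_comp_identity (hQm : ∀ i j : ℕ, IsCompPoly i j (Qm i j)) (hk : 1 ≤ k) (hl : 1 ≤ l) :
    aeval (Dpoly k l Qm) (npolyR ℤ l l) = npolyR ℤ (k * l) (k * l) := by
  apply eUR_injective ℤ (k * l)
  rw [comp_aeval_apply]
  have hfun : (fun i : Fin l => eUR ℤ (k * l) (Dpoly k l Qm i)) =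
      fun i : Fin l => ∑ s ∈ (Finset.univ : Finset (Fin (k * l))).powersetCard ((i : ℕ) + 1),
        ∏ c ∈ s, (X c : MvPolynomial (Fin (k * l)) ℤ) ^ k := by
    funext i
    exact eUR_Dpoly k l Qm hQm hk i
  rw [hfun, aeval_npolyR_esymm (Finset.univ : Finset (Fin (k * l)))
    (fun c => (X c : MvPolynomial (Fin (k * l)) ℤ) ^ k) l hl le_rfl]
  have h2 : eUR ℤ (k * l) (npolyR ℤ (k * l) (k * l)) =
      ∑ c : Fin (k * l), (X c : MvPolynomial (Fin (k * l)) ℤ) ^ (k * l) := by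
    rw [eUR]
    exact aeval_npolyR_esymm (Finset.univ : Finset (Fin (k * l)))
      (fun c => (X c : MvPolynomial (Fin (k * l)) ℤ)) (k * l) (Nat.mul_pos hk hl) le_rfl
  rw [h2]
  refine Finset.sum_congr rfl fun c _ => ?_
  rw [pow_mul]

end AdamsComp

/-- `ψ^k` of a λ-ring in the strict sense as a ring homomorphism -/
noncomputable def psiHomZ {K : Type u} [CommRing K] [LambdaOps K] (hK : IsSpecial K)
    (hP : ∀ n : ℕ, ∃ P : MvPolynomial (Fin n ⊕ Fin n) ℤ, IsMulPoly n P) (k : ℕ) (hk : 1 ≤ k) :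
    K →+* K where
  toFun := adamsOp k
  map_one' := by
    obtain ⟨k, rfl⟩ := Nat.exists_eq_add_of_le' hk
    rw [adamsOp_of_lam_eq_zero (1 : K) hK.lam_one_eq_zero k, one_pow]
  map_mul' := adamsOp_mul_of_isSpecial hK hP k hk
  map_zero' := adamsOp_zero_right k
  map_add' := adamsOp_add k

/-- in a λ-ring in the strict sense `ψ^k ∘ ψ^{k'} = ψ^{k k'}` -/
theorem adamsOp_adamsOp_of_isSpecial {K : Type u} [CommRing K] [LambdaOps K] (hK : IsSpecial K)
    (hP : ∀ n : ℕ, ∃ P : MvPolynomial (Fin n ⊕ Fin n) ℤ, IsMulPoly n P)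
    (hQ : ∀ i j : ℕ, ∃ Q : MvPolynomial (Fin (i * j)) ℤ, IsCompPoly i j Q)
    (k l : ℕ) (hk : 1 ≤ k) (hl : 1 ≤ l) (x : K) :
    adamsOp k (adamsOp l x) = adamsOp (k * l) x := by
  choose Qm hQm using hQ
  set g : Fin (k * l) → K := fun c => LambdaOps.lam ((c : ℕ) + 1) x with hg
  have h1 : adamsOp l x = aeval (fun i : Fin l => LambdaOps.lam ((i : ℕ) + 1) x) (npolyR ℤ l l) :=
    (aeval_npolyR x l hl le_rfl).symm
  have h2 : ∀ i : Fin l, adamsOp k (LambdaOps.lam ((i : ℕ) + 1) x) = aeval g (Dpoly k l Qm i) := by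
    intro i
    rw [← aeval_npolyR (R₀ := ℤ) (N := k) (LambdaOps.lam ((i : ℕ) + 1) x) k hk le_rfl, Dpoly,
      comp_aeval_apply]
    congr 2
    funext a
    rw [hK.lam_lam _ _ (Qm ((i : ℕ) + 1) ((a : ℕ) + 1)) (hQm _ _), QN, aeval_rename]
    congr 2
  have h3 : adamsOp k (adamsOp l x) =
      aeval (fun i : Fin l => adamsOp k (LambdaOps.lam ((i : ℕ) + 1) x)) (npolyR ℤ l l) := by
    rw [h1]
    exact map_aeval_int' (psiHomZ hK hP k hk) _ _
  rw [h3]
  simp only [h2]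
  rw [← comp_aeval_apply, adams_comp_identity k l Qm hQm hk hl]
  exact aeval_npolyR x (k * l) (Nat.mul_pos hk hl) le_rfl

end Groth.Agent.Lib.helper3.Special
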