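import Groth.Agent.Lib.Helper3.ScalarLam
import Groth.Agent.Lib.Helper3.SpecialZ5
import Groth.Agent.Lib.Helper3.BinomLib

/-!
`λ_t(κ g) = λ_t(g)^κ` in a λ-ring in the strict sense which is a λ-algebra over a binomial
ring (helper3).
-/

set_option autoImplicit false
universe u v

namespace Groth.Agent.Lib.helper3.ScalarLam

open PowerSeries Finset LambdaRing TensorProduct
open Groth.Agent.Lib.helper3.Special Groth.Agent.Lib.helper3.BinomPow
open Groth.Agent.Lib.helper3.UnivGamma

/-- ring homomorphisms commute with the evaluation of integral polynomials, for any `ℤ`-algebra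
structures -/
theorem map_aeval_int'' {K K' : Type*} [CommRing K] [CommRing K'] [Algebra ℤ K] [Algebra ℤ K']
    (f : K →+* K') {σ : Type*} (w : σ → K) (p : MvPolynomial σ ℤ) :
    f (MvPolynomial.aeval w p) = MvPolynomial.aeval (fun i => f (w i)) p := by
  induction p using MvPolynomial.induction_on with
  | C a =>
    rw [MvPolynomial.aeval_C, MvPolynomial.aeval_C, eq_intCast (algebraMap ℤ K) a,
      eq_intCast (algebraMap ℤ K') a, map_intCast]
  | add p q hp hq => rw [map_add, map_add, map_add, hp, hq]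
  | mul_X p i hp =>
    rw [map_mul, map_mul, map_mul, hp, MvPolynomial.aeval_X, MvPolynomial.aeval_X]

section Congr

variable {S : Type u} [CommRing S]

theorem coeff_pow_congr (a b : S⟦X⟧) (n : ℕ) (h : ∀ l : ℕ, l ≤ n → coeff l a = coeff l b) (d : ℕ) :
    ∀ m : ℕ, m ≤ n → coeff m (a ^ d) = coeff m (b ^ d) := by
  induction d with
  | zero => intro m _; simp
  | succ d ih =>
    intro m hm
    rw [pow_succ, pow_succ, coeff_mul, coeff_mul]
    refine Finset.sum_congr rfl fun p hp => ?_
    have := Finset.HasAntidiagonal.mem_antidiagonal.mp hp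
    rw [ih p.1 (by omega), h p.2 (by omega)]

theorem coeff_subst_congr (φ a b : S⟦X⟧) (ha : constantCoeff a = 0) (hb : constantCoeff b = 0)
    (n : ℕ) (h : ∀ l : ℕ, l ≤ n → coeff l a = coeff l b) :
    coeff n (φ.subst a) = coeff n (φ.subst b) := by
  rw [coeff_subst' (HasSubst.of_constantCoeff_zero' ha),
    coeff_subst' (HasSubst.of_constantCoeff_zero' hb)]
  refine finsum_congr fun d => ?_
  rw [coeff_pow_congr a b n h d n le_rfl]

end Congr

section Univ

variable {K : Type u} [CommRing K] [BinomialRing K] (n : ℕ)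

/-- the universal truncated series over `K` -/
noncomputable def xtK (k : ℕ) : MvPolynomial (Fin n) K :=
  if k = 0 then 1 else if h : k - 1 < n then MvPolynomial.X ⟨k - 1, h⟩ else 0

omit [BinomialRing K] in
theorem map_aeval_int_map {K' : Type v} [CommRing K'] (inc : K →+* K') {σ τ : Type*}
    (w : σ → MvPolynomial τ K) (p : MvPolynomial σ ℤ) :
    MvPolynomial.map inc (MvPolynomial.aeval w p) =
      MvPolynomial.aeval (fun i => MvPolynomial.map inc (w i)) p := by
  induction p using MvPolynomial.induction_on with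
  | C a =>
    rw [MvPolynomial.aeval_C, MvPolynomial.aeval_C, eq_intCast (algebraMap ℤ (MvPolynomial τ K)) a,
      eq_intCast (algebraMap ℤ (MvPolynomial τ K')) a, map_intCast]
  | add p q hp hq => rw [map_add, map_add, map_add, hp, hq]
  | mul_X p i hp =>
    rw [map_mul, map_mul, map_mul, hp, MvPolynomial.aeval_X, MvPolynomial.aeval_X]

theorem ps_map_subst {R : Type u} {S : Type v} [CommRing R] [CommRing S] (a f : R⟦X⟧)
    (ha : HasSubst a) (h : R →+* S) :
    PowerSeries.map h (f.subst a) = (PowerSeries.map h f).subst (PowerSeries.map h a) :=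
  map_subst ha f

set_option backward.isDefEq.respectTransparency false in
/-- the universal identity over the binomial ring `K` itself -/
theorem aeval_Pn_choose_univ (κ : K) :
    MvPolynomial.aeval (Sum.elim (fun k : Fin n => (MvPolynomial.C (Ring.choose κ ((k : ℕ) + 1)) :
      MvPolynomial (Fin n) K)) MvPolynomial.X) (Pn n) =
    coeff n ((binomialSeries (MvPolynomial (Fin n) K) κ).subst
      (PowerSeries.mk (xtK (K := K) n) - 1)) := by
  haveI : IsAddTorsionFree K := BinomialRing.toIsAddTorsionFree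
  haveI : Module.Flat ℤ K := flat_int
  set inc : K →+* ℚ ⊗[ℤ] K :=
    ((Algebra.TensorProduct.includeRight : K →ₐ[ℤ] ℚ ⊗[ℤ] K) : K →+* ℚ ⊗[ℤ] K) with hinc
  have hinj : Function.Injective inc :=
    Algebra.TensorProduct.includeRight_injective (RingHom.injective_int (algebraMap ℤ ℚ))
  letI : Algebra K (ℚ ⊗[ℤ] K) := inc.toAlgebra
  have halg : ∀ a : K, algebraMap K (MvPolynomial (Fin n) (ℚ ⊗[ℤ] K)) a =
      MvPolynomial.C (inc a) := fun a => rfl
  apply MvPolynomial.map_injective inc hinj
  have hcore := aeval_Pn_choose (R := MvPolynomial (Fin n) (ℚ ⊗[ℤ] K)) n κ MvPolynomial.X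
  have hsub : HasSubst (PowerSeries.mk (xtK (K := K) n) - 1) := by
    apply HasSubst.of_constantCoeff_zero'
    rw [map_sub, ← coeff_zero_eq_constantCoeff_apply, coeff_mk, xtK, if_pos rfl, map_one, sub_self]
  rw [map_aeval_int_map, ← coeff_map]
  have h5 := ps_map_subst (S := MvPolynomial (Fin n) (ℚ ⊗[ℤ] K)) (PowerSeries.mk (xtK (K := K) n) - 1)
    (binomialSeries (MvPolynomial (Fin n) K) κ) hsub (MvPolynomial.map inc)
  rw [h5]
  have hfun : (fun i => MvPolynomial.map inc (Sum.elim (fun k : Fin n =>
      (MvPolynomial.C (Ring.choose κ ((k : ℕ) + 1)) : MvPolynomial (Fin n) K)) MvPolynomial.X i)) =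
      Sum.elim (fun k : Fin n =>
        algebraMap K (MvPolynomial (Fin n) (ℚ ⊗[ℤ] K)) (Ring.choose κ ((k : ℕ) + 1)))
        MvPolynomial.X := by
    funext v
    rcases v with k | k
    · simp only [Sum.elim_inl, MvPolynomial.map_C, halg]
    · simp only [Sum.elim_inr, MvPolynomial.map_X]
  have hB : PowerSeries.map (MvPolynomial.map inc) (binomialSeries (MvPolynomial (Fin n) K) κ) =
      binomialSeries (MvPolynomial (Fin n) (ℚ ⊗[ℤ] K)) κ := by
    ext1 j
    rw [coeff_map, binomialSeries_coeff, binomialSeries_coeff, ← Algebra.algebraMap_eq_smul_one,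
      ← Algebra.algebraMap_eq_smul_one, halg, MvPolynomial.algebraMap_eq, MvPolynomial.map_C]
  have hA : PowerSeries.map (MvPolynomial.map inc) (PowerSeries.mk (xtK (K := K) n) - 1) =
      PowerSeries.map ((MvPolynomial.aeval MvPolynomial.X :
        MvPolynomial (Fin n) ℚ →ₐ[ℚ] MvPolynomial (Fin n) (ℚ ⊗[ℤ] K)) :
        MvPolynomial (Fin n) ℚ →+* MvPolynomial (Fin n) (ℚ ⊗[ℤ] K)) (Lam n) - 1 := by
    rw [map_sub, map_one]
    congr 1
    ext1 j
    rw [coeff_map, coeff_map, coeff_mk, Lam, coeff_mk, xtK, xt, RingHom.coe_coe]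
    split_ifs with h0 h1
    · rw [map_one, map_one]
    · rw [MvPolynomial.aeval_X, MvPolynomial.map_X]
    · rw [map_zero, map_zero]
  rw [hfun, hcore, hA, hB]

end Univ

end Groth.Agent.Lib.helper3.ScalarLam

namespace Groth.Agent.Lib.helper3.ScalarLam

open PowerSeries Finset LambdaRing
open Groth.Agent.Lib.helper3.Special Groth.Agent.Lib.helper3.BinomPow
open Groth.Agent.Lib.helper3.UnivGamma Groth.Agent.Lib.helper3.AdamsOp

section Transfer

variable {K : Type u} [CommRing K] [LambdaOps K] [BinomialRing K]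
  {A : Type v} [CommRing A] [LambdaOps A] [Algebra K A]

omit [LambdaOps K] [BinomialRing K] [LambdaOps A] in
theorem aeval_aeval_int {σ τ : Type*} (w : σ → MvPolynomial τ K) (v : τ → A)
    (p : MvPolynomial σ ℤ) :
    (MvPolynomial.aeval v : MvPolynomial τ K →ₐ[K] A) (MvPolynomial.aeval w p) =
      MvPolynomial.aeval (fun i => (MvPolynomial.aeval v : MvPolynomial τ K →ₐ[K] A) (w i)) p := by
  induction p using MvPolynomial.induction_on with
  | C a =>
    rw [MvPolynomial.aeval_C, MvPolynomial.aeval_C, eq_intCast (algebraMap ℤ (MvPolynomial τ K)) a,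
      eq_intCast (algebraMap ℤ A) a, map_intCast]
  | add p q hp hq => rw [map_add, map_add, map_add, hp, hq]
  | mul_X p i hp =>
    rw [map_mul, map_mul, map_mul, hp, MvPolynomial.aeval_X, MvPolynomial.aeval_X]

set_option backward.isDefEq.respectTransparency false in
/-- `λ^n(κ g)` is the coefficient of `t^n` in `λ_t(g)^κ` -/
theorem lam_smul (hKb : IsBinomial K) (hA : IsSpecial A) (hKA : IsLambdaAlg K A) (κ : K) (g : A)
    (n : ℕ) :
    LambdaOps.lam n (algebraMap K A κ * g) =
      coeff n ((binomialSeries A κ).subst (lamSeries g - 1)) := by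
  set evA : MvPolynomial (Fin n) K →ₐ[K] A :=
    MvPolynomial.aeval (fun k : Fin n => LambdaOps.lam ((k : ℕ) + 1) g) with hev
  have h := congrArg evA (aeval_Pn_choose_univ (K := K) n κ)
  rw [hev, aeval_aeval_int] at h
  have hfun : (fun i => (MvPolynomial.aeval (fun k : Fin n => LambdaOps.lam ((k : ℕ) + 1) g) :
      MvPolynomial (Fin n) K →ₐ[K] A) (Sum.elim (fun k : Fin n =>
      (MvPolynomial.C (Ring.choose κ ((k : ℕ) + 1)) : MvPolynomial (Fin n) K)) MvPolynomial.X i)) =
      Sum.elim (fun k : Fin n => LambdaOps.lam ((k : ℕ) + 1) (algebraMap K A κ))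
        (fun k : Fin n => LambdaOps.lam ((k : ℕ) + 1) g) := by
    funext v
    rcases v with k | k
    · simp only [Sum.elim_inl]
      rw [← hKA, hKb, ← MvPolynomial.algebraMap_eq, AlgHom.commutes]
    · simp only [Sum.elim_inr, MvPolynomial.aeval_X]
  rw [hfun, ← hA.lam_mul n (Pn n) (isMulPoly_Pn n)] at h
  rw [h, ← hev]
  have hsub : HasSubst (PowerSeries.mk (xtK (K := K) n) - 1) := by
    apply HasSubst.of_constantCoeff_zero'
    rw [map_sub, ← coeff_zero_eq_constantCoeff_apply, coeff_mk, xtK, if_pos rfl, map_one, sub_self]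
  have h5 := ps_map_subst (S := A) (PowerSeries.mk (xtK (K := K) n) - 1)
    (binomialSeries (MvPolynomial (Fin n) K) κ) hsub (evA : MvPolynomial (Fin n) K →+* A)
  have h6 : evA (coeff n ((binomialSeries (MvPolynomial (Fin n) K) κ).subst
      (PowerSeries.mk (xtK (K := K) n) - 1))) =
      coeff n (PowerSeries.map (evA : MvPolynomial (Fin n) K →+* A)
        ((binomialSeries (MvPolynomial (Fin n) K) κ).subst
          (PowerSeries.mk (xtK (K := K) n) - 1))) := by
    rw [coeff_map]; rfl
  rw [h6, h5]
  have hB : PowerSeries.map (evA : MvPolynomial (Fin n) K →+* A)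
      (binomialSeries (MvPolynomial (Fin n) K) κ) = binomialSeries A κ := by
    ext1 j
    rw [coeff_map, binomialSeries_coeff, binomialSeries_coeff, ← Algebra.algebraMap_eq_smul_one,
      ← Algebra.algebraMap_eq_smul_one, RingHom.coe_coe, AlgHom.commutes]
  rw [hB]
  apply coeff_subst_congr
  · rw [map_sub, map_sub, ← coeff_zero_eq_constantCoeff_apply, coeff_map, coeff_mk, xtK, if_pos rfl,
      map_one, map_one, map_one, sub_self]
  · rw [map_sub, constantCoeff_lamSeries, map_one, sub_self]
  · intro l hl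
    rw [map_sub, map_sub, map_sub, map_one, coeff_map, coeff_mk, coeff_lamSeries]
    congr 1
    rw [xtK, RingHom.coe_coe, hev]
    split_ifs with h0 h1
    · rw [h0, map_one, LambdaOps.lam_zero]
    · rw [MvPolynomial.aeval_X]
      show LambdaOps.lam (l - 1 + 1) g = _
      rw [Nat.sub_add_cancel (by omega)]
    · omega

end Transfer

end Groth.Agent.Lib.helper3.ScalarLam
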