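import Groth.Agent.Lib.Helper3.SchDomFP

/-!
# Affine-local form of schematic dominance: the family of coordinate rings (helper3)
-/

set_option autoImplicit false
set_option linter.style.haveILetI false
set_option linter.unusedSectionVars false
universe u v
open CategoryTheory CategoryTheory.Limits AlgebraicGeometry TopologicalSpace Opposite TensorProduct

namespace Groth.Agent.Lib.helper3.SchDomAff

open Groth.Agent.Lib.helper3.SepNoeth Groth.Agent.Lib.helper3.SepFP
  Groth.Agent.Lib.helper3.SepPullField Groth.Agent.Lib.helper3.SchDomFP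

/-- **the structure family of a schematically dominant family is sheaf-separating**, with the
hypothesis only on a covering family of opens -/
theorem exists_pow_mul_eq_zero_of_schDominant' {X : Scheme.{u}} {ι : Type v} (Z : ι → Scheme.{u})
    (f : ∀ i, Z i ⟶ X)
    (h : ∀ (V : X.Opens) (t : Γ(X, V)), (∀ i, (f i).app V t = 0) → t = 0)
    {U : X.Opens} (hU : IsAffineOpen U) (a m : Γ(X, U))
    {κ : ι → Type*} (Z' : ∀ i, κ i → (Z i).Opens) (eZ : ∀ i k, Z' i k ≤ f i ⁻¹ᵁ U)
    (hcov : ∀ i, f i ⁻¹ᵁ U ≤ ⨆ k, Z' i k)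
    (hyp : ∀ (i : ι) (k : κ i), ∃ n : ℕ, (f i).appLE U (Z' i k) (eZ i k) (a ^ n * m) = 0) :
    ∃ n : ℕ, a ^ n * m = 0 := by
  apply exists_pow_mul_eq_zero_of_res_basicOpen_eq_zero_of_isAffineOpen X hU m a
  change X.presheaf.map (homOfLE (X.basicOpen_le a)).op m = 0
  apply h (X.basicOpen a)
  intro i
  let O : κ i → (Z i).Opens := fun k => (Z i).basicOpen ((f i).appLE U (Z' i k) (eZ i k) a)
  have hOZ : ∀ k, O k ≤ Z' i k := fun k => (Z i).basicOpen_le _
  have hO : ∀ k, O k ≤ f i ⁻¹ᵁ X.basicOpen a := by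
    intro k
    rw [Scheme.preimage_basicOpen]
    exact (Scheme.basicOpen_res _ _ _).trans_le inf_le_right
  apply eq_zero_of_cover O _ hO
  · intro z hz
    have hzU : z ∈ f i ⁻¹ᵁ U := (X.basicOpen_le a) hz
    obtain ⟨k, hk⟩ := Opens.mem_iSup.mp (hcov i hzU)
    refine Opens.mem_iSup.mpr ⟨k, ?_⟩
    change z ∈ (Z i).basicOpen ((Z i).presheaf.map _ ((f i).app U a))
    rw [Scheme.basicOpen_res]
    refine ⟨hk, ?_⟩
    rw [← Scheme.preimage_basicOpen]
    exact hz
  · intro k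
    have e1 : X.presheaf.map (homOfLE (X.basicOpen_le a)).op ≫ (f i).app (X.basicOpen a) ≫
        (Z i).presheaf.map (homOfLE (hO k)).op =
        (f i).appLE U (Z' i k) (eZ i k) ≫ (Z i).presheaf.map (homOfLE (hOZ k)).op := by
      rw [Scheme.Hom.appLE_map]
      change X.presheaf.map _ ≫ (f i).appLE (X.basicOpen a) (O k) (hO k) = _
      rw [Scheme.Hom.map_appLE]
    have e2 := congr($(e1).hom m)
    simp only [CommRingCat.hom_comp, RingHom.comp_apply] at e2
    refine e2.trans ?_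
    obtain ⟨n, hn⟩ := hyp i k
    rw [map_mul, map_pow] at hn
    exact map_basicOpen_eq_zero_of_pow_mul _ _ n hn

section Fam

variable {X : Scheme.{u}} {ι : Type v} (Z : ι → Scheme.{u}) (f : ∀ i, Z i ⟶ X) (U : X.Opens)

/-- affine opens of the members lying over `U` -/
abbrev AffIdx : Type (max u v) :=
  Σ i : ι, {Z' : (Z i).Opens // IsAffineOpen Z' ∧ Z' ≤ f i ⁻¹ᵁ U}

/-- the coordinate ring of such an affine open -/
def AffSec (j : AffIdx Z f U) : Type u := Γ(Z j.1, j.2.1)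

instance (j : AffIdx Z f U) : CommRing (AffSec Z f U j) :=
  inferInstanceAs (CommRing Γ(Z j.1, j.2.1))

noncomputable instance (j : AffIdx Z f U) : Algebra Γ(X, U) (AffSec Z f U j) :=
  ((f j.1).appLE U j.2.1 j.2.2.2).hom.toAlgebra

theorem affSec_algebraMap (j : AffIdx Z f U) (b : Γ(X, U)) :
    algebraMap Γ(X, U) (AffSec Z f U j) b = (f j.1).appLE U j.2.1 j.2.2.2 b := rfl

/-- the family of structure maps `Γ(X,U) → Γ(Z_i, Z')` -/
noncomputable def affFam (j : AffIdx Z f U) : Γ(X, U) →ₗ[Γ(X, U)] AffSec Z f U j :=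
  Algebra.linearMap Γ(X, U) (AffSec Z f U j)

end Fam

/-- **affine-local statement**: joint injectivity on the ring level gives vanishing -/
theorem eq_zero_of_affine_of_JIl {X X' : Scheme.{u}} {ι : Type v} (Z : ι → Scheme.{u})
    (f : ∀ i, Z i ⟶ X) (g : X' ⟶ X)
    {U : X.Opens} (hU : IsAffineOpen U) {W : X'.Opens} (hW : IsAffineOpen W) (eW : W ≤ g ⁻¹ᵁ U)
    (hJI : letI := (g.appLE U W eW).hom.toAlgebra
      JIl Γ(X', W) (affFam Z f U))
    (c : Γ(X', W)) (hc : ∀ i, (pullback.snd (f i) g).app W c = 0) : c = 0 := by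
  letI algC : Algebra Γ(X, U) Γ(X', W) := (g.appLE U W eW).hom.toAlgebra
  have hτ : ∀ j, (affFam Z f U j).lTensor Γ(X', W) (c ⊗ₜ[Γ(X, U)] (1 : Γ(X, U))) = 0 := by
    intro j
    rw [LinearMap.lTensor_tmul]
    have h1 : (1 : AffSec Z f U j) ⊗ₜ[Γ(X, U)] c = 0 := by
      letI : Algebra Γ(X, U) Γ(Z j.1, j.2.1) := ((f j.1).appLE U j.2.1 j.2.2.2).hom.toAlgebra
      exact one_tmul_eq_zero (f j.1) g hU hW eW j.2.2.1 j.2.2.2 rfl rfl c (hc j.1)
    have h2 := congrArg (TensorProduct.comm Γ(X, U) (AffSec Z f U j) Γ(X', W)) h1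
    rw [map_zero, TensorProduct.comm_tmul] at h2
    have e2 : affFam Z f U j 1 = (1 : AffSec Z f U j) :=
      map_one (algebraMap Γ(X, U) (AffSec Z f U j))
    rw [e2]
    exact h2
  have h0 := hJI _ hτ
  have h3 := congrArg (TensorProduct.rid Γ(X, U) Γ(X', W)) h0
  rw [TensorProduct.rid_tmul, one_smul, map_zero] at h3
  exact h3

end Groth.Agent.Lib.helper3.SchDomAff
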