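import Groth.Agent.Lib.Helper3.SchDomAff

/-!
# Affine charts of a fibre product over a general base (helper3)
-/

set_option autoImplicit false
set_option linter.style.haveILetI false
set_option linter.unusedSectionVars false
universe u v
open CategoryTheory CategoryTheory.Limits AlgebraicGeometry TopologicalSpace Opposite TensorProduct

namespace Groth.Agent.Lib.helper3.SchDomChart

open Groth.Agent.Lib.helper3.SepPullField

section Chart

variable {X S S' : Scheme.{u}} (p : X ⟶ S) (q : S' ⟶ S) {S₀ : S.Opens} (hS₀ : IsAffineOpen S₀)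
  {U : X.Opens} (hU : IsAffineOpen U) {C : Type u} [CommRing C]
  (i₂ : Spec (CommRingCat.of C) ⟶ S') [IsOpenImmersion i₂]
  [Algebra Γ(S, S₀) Γ(X, U)] [Algebra Γ(S, S₀) C]
  (hA : Spec.map (CommRingCat.ofHom (algebraMap Γ(S, S₀) Γ(X, U))) ≫ hS₀.fromSpec =
    hU.fromSpec ≫ p)
  (hB : Spec.map (CommRingCat.ofHom (algebraMap Γ(S, S₀) C)) ≫ hS₀.fromSpec = i₂ ≫ q)

/-- the affine chart `Spec (Γ(X,U) ⊗ C) ⟶ X ×_S S'` -/
noncomputable def chart : Spec (CommRingCat.of (Γ(X, U) ⊗[Γ(S, S₀)] C)) ⟶ pullback p q :=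
  (pullbackSpecIso Γ(S, S₀) Γ(X, U) C).inv ≫
    pullback.map _ _ p q hU.fromSpec i₂ hS₀.fromSpec hA hB

instance : IsOpenImmersion (chart p q hS₀ hU i₂ hA hB) := by
  unfold chart
  infer_instance

theorem chart_fst : chart p q hS₀ hU i₂ hA hB ≫ pullback.fst p q =
    Spec.map (CommRingCat.ofHom (Algebra.TensorProduct.includeLeftRingHom
      (R := Γ(S, S₀)) (A := Γ(X, U)) (B := C))) ≫ hU.fromSpec := by
  rw [chart, pullback.map, Category.assoc, pullback.lift_fst, pullbackSpecIso_inv_fst_assoc]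

theorem chart_snd : chart p q hS₀ hU i₂ hA hB ≫ pullback.snd p q =
    Spec.map (CommRingCat.ofHom (Algebra.TensorProduct.includeRight
      (R := Γ(S, S₀)) (A := Γ(X, U)) (B := C)).toRingHom) ≫ i₂ := by
  rw [chart, pullback.map, Category.assoc, pullback.lift_snd, pullbackSpecIso_inv_snd_assoc]
  rfl

theorem mem_range_chart (x' : ↥(pullback p q)) (h1 : (pullback.fst p q) x' ∈ U)
    (h2 : (pullback.snd p q) x' ∈ Set.range i₂) :
    x' ∈ Set.range (chart p q hS₀ hU i₂ hA hB) := by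
  have hr := Scheme.Pullback.range_map
    (Spec.map (CommRingCat.ofHom (algebraMap Γ(S, S₀) Γ(X, U))))
    (Spec.map (CommRingCat.ofHom (algebraMap Γ(S, S₀) C))) p q hU.fromSpec i₂ hS₀.fromSpec hA hB
  have hx : x' ∈ Set.range (pullback.map _ _ p q hU.fromSpec i₂ hS₀.fromSpec hA hB) := by
    rw [hr]
    refine ⟨?_, h2⟩
    change (pullback.fst p q) x' ∈ Set.range hU.fromSpec
    rw [hU.range_fromSpec]
    exact h1
  obtain ⟨z, hz⟩ := hx
  refine ⟨(pullbackSpecIso Γ(S, S₀) Γ(X, U) C).hom z, ?_⟩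
  rw [chart, ← Scheme.Hom.comp_apply, Iso.hom_inv_id_assoc]
  exact hz

theorem fst_chart_mem (z : ↥(Spec (CommRingCat.of (Γ(X, U) ⊗[Γ(S, S₀)] C)))) :
    (pullback.fst p q) ((chart p q hS₀ hU i₂ hA hB) z) ∈ U := by
  rw [← Scheme.Hom.comp_apply, chart_fst, Scheme.Hom.comp_apply]
  have := Set.mem_range_self (f := hU.fromSpec) ((Spec.map (CommRingCat.ofHom
    (Algebra.TensorProduct.includeLeftRingHom (R := Γ(S, S₀)) (A := Γ(X, U)) (B := C)))) z)
  rw [hU.range_fromSpec] at this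
  exact this

theorem snd_chart_mem (z : ↥(Spec (CommRingCat.of (Γ(X, U) ⊗[Γ(S, S₀)] C)))) :
    (pullback.snd p q) ((chart p q hS₀ hU i₂ hA hB) z) ∈ Set.range i₂ := by
  rw [← Scheme.Hom.comp_apply, chart_snd, Scheme.Hom.comp_apply]
  exact Set.mem_range_self _

theorem image_top_le : (chart p q hS₀ hU i₂ hA hB) ''ᵁ ⊤ ≤ (pullback.fst p q) ⁻¹ᵁ U := by
  rintro _ ⟨z, -, rfl⟩
  exact fst_chart_mem p q hS₀ hU i₂ hA hB z

/-- the ring isomorphism `Γ(X,U) ⊗ C ≅ Γ(X ×_S S', W₀)` -/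
noncomputable def chartIso : CommRingCat.of (Γ(X, U) ⊗[Γ(S, S₀)] C) ≅
    Γ(pullback p q, (chart p q hS₀ hU i₂ hA hB) ''ᵁ ⊤) :=
  (Scheme.ΓSpecIso _).symm ≪≫ ((chart p q hS₀ hU i₂ hA hB).appIso ⊤).symm

theorem chartIso_compat :
    (pullback.fst p q).appLE U ((chart p q hS₀ hU i₂ hA hB) ''ᵁ ⊤)
      (image_top_le p q hS₀ hU i₂ hA hB) =
      CommRingCat.ofHom (Algebra.TensorProduct.includeLeftRingHom
        (R := Γ(S, S₀)) (A := Γ(X, U)) (B := C)) ≫ (chartIso p q hS₀ hU i₂ hA hB).hom := by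
  have h1 := appLE_eq_of_eq hU (chart p q hS₀ hU i₂ hA hB ≫ pullback.fst p q)
    (CommRingCat.ofHom (Algebra.TensorProduct.includeLeftRingHom
      (R := Γ(S, S₀)) (A := Γ(X, U)) (B := C))) (chart_fst p q hS₀ hU i₂ hA hB)
    (fun z _ => image_top_le p q hS₀ hU i₂ hA hB ⟨z, trivial, rfl⟩)
  rw [← h1, chartIso]
  simp only [Iso.trans_hom, Iso.symm_hom, Category.assoc, Iso.hom_inv_id_assoc]
  rw [← Scheme.Hom.appLE_comp_appLE (chart p q hS₀ hU i₂ hA hB) (pullback.fst p q) U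
    ((chart p q hS₀ hU i₂ hA hB) ''ᵁ ⊤) ⊤ (image_top_le p q hS₀ hU i₂ hA hB)
    ((chart p q hS₀ hU i₂ hA hB).preimage_image_eq ⊤).ge, ← Scheme.Hom.appIso_hom',
    Category.assoc, Iso.hom_inv_id, Category.comp_id]

/-- pulling a function on the chart open back to the chart -/
theorem chart_appLE_chartIso :
    (chartIso p q hS₀ hU i₂ hA hB).hom ≫
      (chart p q hS₀ hU i₂ hA hB).appLE ((chart p q hS₀ hU i₂ hA hB) ''ᵁ ⊤) ⊤
        ((chart p q hS₀ hU i₂ hA hB).preimage_image_eq ⊤).ge = (Scheme.ΓSpecIso _).inv := by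
  rw [chartIso, ← Scheme.Hom.appIso_hom']
  simp only [Iso.trans_hom, Iso.symm_hom, Category.assoc, Iso.inv_hom_id, Category.comp_id]

end Chart

end Groth.Agent.Lib.helper3.SchDomChart
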