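import Mathlib
import Groth.Agent.Lib.Helper11.GenFree4

/-!
# Sheaf-separating families of module homomorphisms and flat base change (helper3, EGA IV 11.9)

`SheafSep u`: the family `u i : M → N i` of `A`-linear maps is separating on every principal open
of `Spec A`.  Main result `eq_zero_of_noetherian`: over a Noetherian ring, tensoring with a flat
algebra of finite type keeps a sheaf-separating family jointly injective.
-/

set_option autoImplicit false
set_option linter.style.haveILetI false
set_option linter.unusedSectionVars false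
universe u v w

open TensorProduct

namespace Groth.Agent.Lib.helper3.SepNoeth

/-- a family of linear maps which is jointly injective on every principal localization -/
def SheafSep {A : Type*} [CommRing A] {M : Type*} [AddCommGroup M] [Module A M] {ι : Type*}
    {N : ι → Type*} [∀ i, AddCommGroup (N i)] [∀ i, Module A (N i)] (u : ∀ i, M →ₗ[A] N i) : Prop :=
  ∀ (a : A) (m : M), (∀ i, ∃ n : ℕ, a ^ n • u i m = 0) → ∃ n : ℕ, a ^ n • m = 0

section Free

variable {R : Type*} [CommRing R] (F : Type*) [AddCommGroup F] [Module R F] [Module.Free R F]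

/-- `F ⊗ Z ≃ (J →₀ Z)` for a free module `F` with basis indexed by `J` -/
noncomputable def freeEquiv (Z : Type*) [AddCommGroup Z] [Module R Z] :
    F ⊗[R] Z ≃ₗ[R] (Module.Free.ChooseBasisIndex R F →₀ Z) :=
  (TensorProduct.congr (Module.Free.chooseBasis R F).repr (LinearEquiv.refl R Z)) ≪≫ₗ
    TensorProduct.finsuppScalarLeft R Z _

theorem freeEquiv_tmul (Z : Type*) [AddCommGroup Z] [Module R Z] (f : F) (z : Z)
    (j : Module.Free.ChooseBasisIndex R F) :
    freeEquiv F Z (f ⊗ₜ z) j = (Module.Free.chooseBasis R F).repr f j • z := by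
  simp [freeEquiv]

variable {X : Type*} [AddCommGroup X] [Module R X] {ι : Type*} {Y : ι → Type*}
  [∀ i, AddCommGroup (Y i)] [∀ i, Module R (Y i)]

/-- tensoring a jointly injective family with a free module keeps it jointly injective -/
theorem eq_zero_of_free (w : ∀ i, X →ₗ[R] Y i) (hw : ∀ x, (∀ i, w i x = 0) → x = 0)
    (τ : F ⊗[R] X) (hτ : ∀ i, (w i).lTensor F τ = 0) : τ = 0 := by
  classical
  have nat : ∀ (i : ι) (σ : F ⊗[R] X) (j : Module.Free.ChooseBasisIndex R F),
      freeEquiv F (Y i) ((w i).lTensor F σ) j = w i (freeEquiv F X σ j) := by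
    intro i σ j
    induction σ using TensorProduct.induction_on with
    | zero => simp
    | tmul f x => rw [LinearMap.lTensor_tmul, freeEquiv_tmul, freeEquiv_tmul, map_smul]
    | add a b ha hb => simp only [map_add, Finsupp.add_apply, ha, hb]
  apply (freeEquiv F X).injective
  rw [map_zero]
  ext j
  apply hw
  intro i
  rw [← nat, hτ i, map_zero]
  rfl

end Free

section Loc

variable {A : Type*} [CommRing A] {M : Type*} [AddCommGroup M] [Module A M] {ι : Type*}
  {N : ι → Type*} [∀ i, AddCommGroup (N i)] [∀ i, Module A (N i)] {u : ∀ i, M →ₗ[A] N i}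

theorem tmul_eq_zero_iff (a : A) (m : M) :
    (1 : Localization.Away a) ⊗ₜ[A] m = 0 ↔ ∃ n : ℕ, a ^ n • m = 0 := by
  have h := IsLocalizedModule.eq_zero_iff (Submonoid.powers a)
    (TensorProduct.mk A (Localization.Away a) M 1) (m := m)
  constructor
  · intro h0
    obtain ⟨⟨_, n, rfl⟩, hn⟩ := h.mp h0
    exact ⟨n, hn⟩
  · rintro ⟨n, hn⟩
    exact h.mpr ⟨⟨a ^ n, n, rfl⟩, hn⟩

/-- a sheaf-separating family is jointly injective after inverting an element -/
theorem SheafSep.baseChange_away (hu : SheafSep u) (a : A) (x : Localization.Away a ⊗[A] M)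
    (hx : ∀ i, (u i).baseChange (Localization.Away a) x = 0) : x = 0 := by
  obtain ⟨⟨m, ⟨_, k, rfl⟩⟩, hm⟩ := IsLocalizedModule.surj (Submonoid.powers a)
    (TensorProduct.mk A (Localization.Away a) M 1) x
  have hm' : a ^ k • x = (1 : Localization.Away a) ⊗ₜ[A] m := hm
  have h1 : ∀ i, (1 : Localization.Away a) ⊗ₜ[A] (u i m) = 0 := by
    intro i
    have := congrArg ((u i).baseChange (Localization.Away a)) hm'
    rw [LinearMap.baseChange_tmul] at this
    rw [← this]
    have h2 : (u i).baseChange (Localization.Away a) (a ^ k • x) =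
        a ^ k • (u i).baseChange (Localization.Away a) x :=
      ((u i).baseChange (Localization.Away a)).restrictScalars A |>.map_smul (a ^ k) x
    rw [h2, hx i, smul_zero]
  have h3 : (1 : Localization.Away a) ⊗ₜ[A] m = 0 :=
    (tmul_eq_zero_iff a m).mpr (hu a m (fun i => (tmul_eq_zero_iff a (u i m)).mp (h1 i)))
  rw [h3] at hm'
  have hunit : IsUnit (algebraMap A (Localization.Away a) (a ^ k)) := by
    rw [map_pow]
    exact (IsLocalization.Away.algebraMap_isUnit a).pow k
  have h4 : algebraMap A (Localization.Away a) (a ^ k) • x = 0 := by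
    rw [algebraMap_smul]
    exact hm'
  obtain ⟨v, hv⟩ := hunit
  have := congrArg (fun y => (↑v⁻¹ : Localization.Away a) • y) h4
  simpa [← hv, smul_smul] using this

end Loc

section Domain

variable {R : Type u} [CommRing R] [IsDomain R] [IsNoetherianRing R]
  (S : Type u) [CommRing S] [Algebra R S] [Algebra.FiniteType R S]
  {P : Type v} [AddCommGroup P] [Module R P] {ι : Type*}
  {Q : ι → Type v} [∀ i, AddCommGroup (Q i)] [∀ i, Module R (Q i)]

/-- over a Noetherian domain: an element of `S ⊗ P` killed by a sheaf-separating family is torsion -/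
theorem exists_smul_eq_zero_of_domain (v : ∀ i, P →ₗ[R] Q i) (hv : SheafSep v)
    (t : S ⊗[R] P) (ht : ∀ i, (v i).lTensor S t = 0) : ∃ a : R, a ≠ 0 ∧ a • t = 0 := by
  obtain ⟨a, ha, hfree⟩ := Groth.Agent.Lib.helper11.GenFree.GF_of_finiteType (A := R) S S
  unfold Groth.Agent.Lib.helper11.GenFree.PF at hfree
  let R' := Localization.Away a
  have nat : ∀ (i : ι) (s : S ⊗[R] P),
      ((v i).baseChange R').lTensor (R' ⊗[R] S)
        (TensorProduct.AlgebraTensorModule.distribBaseChange R R' S P ((1 : R') ⊗ₜ[R] s)) =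
      TensorProduct.AlgebraTensorModule.distribBaseChange R R' S (Q i)
        ((1 : R') ⊗ₜ[R] ((v i).lTensor S s)) := by
    intro i s
    induction s using TensorProduct.induction_on with
    | zero => simp
    | tmul s p =>
      rw [LinearMap.lTensor_tmul, TensorProduct.AlgebraTensorModule.distribBaseChange_tmul,
        TensorProduct.AlgebraTensorModule.distribBaseChange_tmul, LinearMap.lTensor_tmul,
        LinearMap.baseChange_tmul]
    | add x y hx hy => simp only [map_add, TensorProduct.tmul_add, hx, hy]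
  have h0 : TensorProduct.AlgebraTensorModule.distribBaseChange R R' S P ((1 : R') ⊗ₜ[R] t) = 0 := by
    haveI := hfree
    refine eq_zero_of_free (R := R') (R' ⊗[R] S) (fun i => (v i).baseChange R')
      (fun x hx => hv.baseChange_away a x hx) _ (fun i => ?_)
    rw [nat, ht i, TensorProduct.tmul_zero, map_zero]
  have h1 : (1 : R') ⊗ₜ[R] t = 0 :=
    (TensorProduct.AlgebraTensorModule.distribBaseChange R R' S P).injective
      (by rw [h0, map_zero])
  obtain ⟨n, hn⟩ := (tmul_eq_zero_iff a t).mp h1
  exact ⟨a ^ n, pow_ne_zero n ha, hn⟩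

end Domain

section Noeth

variable {A : Type u} [CommRing A]

/-- `C ⊗[A] P ≃ (R ⊗[A] C) ⊗[R] P` for an `R`-module `P`, `R` an `A`-algebra -/
noncomputable def quotEquiv (R : Type*) [CommRing R] [Algebra A R] (C : Type*) [CommRing C]
    [Algebra A C] (P : Type*) [AddCommGroup P] [Module A P] [Module R P] [IsScalarTower A R P] :
    C ⊗[A] P ≃ₗ[A] (R ⊗[A] C) ⊗[R] P :=
  (TensorProduct.comm A C P) ≪≫ₗ
    ((TensorProduct.AlgebraTensorModule.cancelBaseChange A R R P C).symm.restrictScalars A) ≪≫ₗ
    ((TensorProduct.comm R P (R ⊗[A] C)).restrictScalars A)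

theorem quotEquiv_tmul (R : Type*) [CommRing R] [Algebra A R] (C : Type*) [CommRing C]
    [Algebra A C] (P : Type*) [AddCommGroup P] [Module A P] [Module R P] [IsScalarTower A R P]
    (c : C) (p : P) : quotEquiv R C P (c ⊗ₜ p) = ((1 : R) ⊗ₜ[A] c) ⊗ₜ[R] p := by
  simp [quotEquiv]

variable [IsNoetherianRing A]
  (C : Type u) [CommRing C] [Algebra A C] [Module.Flat A C] [Algebra.FiniteType A C]
  {M : Type v} [AddCommGroup M] [Module A M] {ι : Type*}
  {N : ι → Type v} [∀ i, AddCommGroup (N i)] [∀ i, Module A (N i)]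

/-- **EGA IV 11.9 (Noetherian core)**: over a Noetherian ring, a sheaf-separating family stays
jointly injective after tensoring with a flat algebra of finite type. -/
theorem eq_zero_of_noetherian (u : ∀ i, M →ₗ[A] N i) (hu : SheafSep u) (t : C ⊗[A] M)
    (ht : ∀ i, (u i).lTensor C t = 0) : t = 0 := by
  classical
  by_contra hne
  let T : Submodule A (C ⊗[A] M) := ⨅ i, LinearMap.ker ((u i).lTensor C)
  have htT : t ∈ T := by
    simp only [T, Submodule.mem_iInf, LinearMap.mem_ker]
    exact ht
  have hx₀ : (⟨t, htT⟩ : T) ≠ 0 := fun h => hne (congrArg Subtype.val h)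
  obtain ⟨𝔭, hass, -⟩ := exists_le_isAssociatedPrime_of_isNoetherianRing A (⟨t, htT⟩ : T) hx₀
  obtain ⟨h𝔭, x, hx⟩ := (isAssociatedPrime_iff).mp hass
  haveI := h𝔭
  have hmem : ∀ a : A, a ∈ 𝔭 ↔ a • (x : C ⊗[A] M) = 0 := by
    intro a
    rw [hx, Submodule.mem_colon_singleton, Submodule.mem_bot]
    exact ⟨fun h => congrArg Subtype.val h, fun h => Subtype.ext h⟩
  have hxT : ∀ i, (u i).lTensor C x.1 = 0 := by
    have := x.2
    simp only [T, Submodule.mem_iInf, LinearMap.mem_ker] at this
    exact this
  -- Step A: `x` comes from `C ⊗ M[𝔭]`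
  obtain ⟨s, hs⟩ := (IsNoetherian.noetherian 𝔭 : 𝔭.FG)
  let P := Submodule.torsionBySet A M 𝔭
  let φ : M →ₗ[A] (s → M) := LinearMap.pi (fun j => (j : A) • LinearMap.id)
  have hP : ∀ m : M, m ∈ P ↔ ∀ j : s, (j : A) • m = 0 := by
    intro m
    change m ∈ Submodule.torsionBySet A M 𝔭 ↔ _
    rw [← hs, ← Submodule.torsionBySet_eq_torsionBySet_span, Submodule.mem_torsionBySet_iff]
    rfl
  have hexact : Function.Exact P.subtype φ := by
    intro m
    constructor
    · intro hm
      refine ⟨⟨m, (hP m).mpr (fun j => ?_)⟩, rfl⟩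
      exact congrFun hm j
    · rintro ⟨p, rfl⟩
      ext j
      exact (hP p.1).mp p.2 j
  have hφ : ∀ y : C ⊗[A] M, TensorProduct.piRight A A C (fun _ : s => M) (φ.lTensor C y) =
      fun j : s => (j : A) • y := by
    intro y
    induction y using TensorProduct.induction_on with
    | zero =>
      simp only [map_zero, smul_zero]
      rfl
    | tmul c m =>
      rw [LinearMap.lTensor_tmul, TensorProduct.piRight_apply]
      ext j
      simp [φ, TensorProduct.tmul_smul]
    | add y z hy hz =>
      rw [map_add, map_add, hy, hz]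
      ext j
      simp
  have hφx : φ.lTensor C x.1 = 0 := by
    apply (TensorProduct.piRight A A C (fun _ : s => M)).injective
    rw [hφ, map_zero]
    ext j
    have hj : (j : A) ∈ 𝔭 := by
      rw [← hs]
      exact Ideal.subset_span j.2
    exact (hmem j).mp hj
  have hexC := Module.Flat.lTensor_exact C hexact
  obtain ⟨x₁, hx₁⟩ := (hexC x.1).mp hφx
  -- Step B: the restricted family
  let Q : ι → Type v := fun i => Submodule.torsionBySet A (N i) 𝔭
  let v : ∀ i, P →ₗ[A] Q i := fun i => (u i).restrict (fun m hm => by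
    rw [Submodule.mem_torsionBySet_iff] at hm ⊢
    intro a
    rw [← map_smul, hm a, map_zero])
  have hv₁ : ∀ i, (v i).lTensor C x₁ = 0 := by
    intro i
    have hinj := Module.Flat.lTensor_preserves_injective_linearMap (M := C)
      (Submodule.torsionBySet A (N i) 𝔭).subtype (Submodule.injective_subtype _)
    apply hinj
    rw [map_zero]
    have hcomp : (Submodule.torsionBySet A (N i) 𝔭).subtype ∘ₗ v i = u i ∘ₗ P.subtype := by
      ext m
      rfl
    have := congrArg (fun k => (LinearMap.lTensor C k) x₁) hcomp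
    simp only [LinearMap.lTensor_comp, LinearMap.comp_apply] at this
    rw [this, hx₁, hxT i]
  -- Step C: pass to `R = A ⧸ 𝔭`
  let R := A ⧸ 𝔭
  have hsurj : Function.Surjective (algebraMap A R) := Ideal.Quotient.mk_surjective
  let v' : ∀ i, P →ₗ[R] Q i := fun i => (v i).extendScalarsOfSurjective hsurj
  have hv' : SheafSep v' := by
    intro r p hp
    obtain ⟨a, rfl⟩ := Ideal.Quotient.mk_surjective r
    have h1 : ∀ i, ∃ n : ℕ, a ^ n • u i p.1 = 0 := by
      intro i
      obtain ⟨n, hn⟩ := hp i
      refine ⟨n, ?_⟩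
      have := congrArg Subtype.val hn
      rw [← map_pow] at this
      exact this
    obtain ⟨n, hn⟩ := hu a p.1 h1
    refine ⟨n, ?_⟩
    rw [← map_pow]
    exact Subtype.ext hn
  have nat : ∀ (i : ι) (y : C ⊗[A] P),
      (v' i).lTensor (R ⊗[A] C) (quotEquiv R C P y) = quotEquiv R C (Q i) ((v i).lTensor C y) := by
    intro i y
    induction y using TensorProduct.induction_on with
    | zero => simp
    | tmul c p =>
      rw [LinearMap.lTensor_tmul, quotEquiv_tmul, quotEquiv_tmul, LinearMap.lTensor_tmul]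
      rfl
    | add y z hy hz => simp only [map_add, hy, hz]
  obtain ⟨r, hr, hrt⟩ := exists_smul_eq_zero_of_domain (R := R) (R ⊗[A] C) v' hv'
    (quotEquiv R C P x₁) (fun i => by rw [nat, hv₁ i, map_zero])
  obtain ⟨a, rfl⟩ := Ideal.Quotient.mk_surjective r
  have h2 : a • x₁ = 0 := by
    apply (quotEquiv R C P).injective
    rw [map_smul, map_zero]
    have : a • quotEquiv R C P x₁ = (Ideal.Quotient.mk 𝔭 a) • quotEquiv R C P x₁ :=
      (algebraMap_smul R a (quotEquiv R C P x₁)).symm
    rw [this]
    exact hrt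
  have h3 : a • x.1 = 0 := by
    rw [← hx₁, ← map_smul, h2, map_zero]
  exact hr (Ideal.Quotient.eq_zero_iff_mem.mpr ((hmem a).mpr h3))

end Noeth

end Groth.Agent.Lib.helper3.SepNoeth
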