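import Mathlib
import Groth.Agent.Lib.Helper3.SepNoeth

/-!
# Fibrewise criterion for sheaf-separating families, ring-level core (helper3, EGA IV 11.9.16/11.10.9)
-/

set_option autoImplicit false
set_option linter.style.haveILetI false
set_option linter.unusedSectionVars false
universe u v w

open TensorProduct

namespace Groth.Agent.Lib.helper3.SchDomCore

open Groth.Agent.Lib.helper3.SepNoeth

section PB

variable {A : Type*} [CommRing A] {R : Type*} [CommRing R] [Algebra A R]
  {M : Type*} [AddCommGroup M] [Module R M] [Module A M] [IsScalarTower A R M]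
  {ι : Type*} {N : ι → Type*} [∀ j, AddCommGroup (N j)] [∀ j, Module R (N j)]
  [∀ j, Module A (N j)] [∀ j, IsScalarTower A R (N j)]

/-- `R`-linear version of `rTensor` -/
noncomputable abbrev rT (A : Type*) [CommRing A] {R : Type*} [CommRing R] [Algebra A R] (E : Type*) [AddCommGroup E] [Module A E] {P P' : Type*}
    [AddCommGroup P] [Module R P] [Module A P] [IsScalarTower A R P] [AddCommGroup P']
    [Module R P'] [Module A P'] [IsScalarTower A R P'] (f : P →ₗ[R] P') :
    P ⊗[A] E →ₗ[R] P' ⊗[A] E :=
  TensorProduct.AlgebraTensorModule.rTensor A E f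

/-- `R`-linear version of `lTensor` -/
noncomputable abbrev lT {A : Type*} [CommRing A] (R : Type*) [CommRing R] [Algebra A R] (P : Type*) [AddCommGroup P] [Module R P] [Module A P]
    [IsScalarTower A R P] {E E' : Type*} [AddCommGroup E] [Module A E] [AddCommGroup E']
    [Module A E'] (g : E →ₗ[A] E') : P ⊗[A] E →ₗ[R] P ⊗[A] E' :=
  TensorProduct.AlgebraTensorModule.lTensor R P g

theorem rT_lT {P P' : Type*}
    [AddCommGroup P] [Module R P] [Module A P] [IsScalarTower A R P] [AddCommGroup P']
    [Module R P'] [Module A P'] [IsScalarTower A R P'] (f : P →ₗ[R] P')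
    {E E' : Type*} [AddCommGroup E] [Module A E] [AddCommGroup E']
    [Module A E'] (g : E →ₗ[A] E') (y : P ⊗[A] E) :
    rT A E' f (lT R P g y) = lT R P' g (rT A E f y) := by
  induction y using TensorProduct.induction_on with
  | zero => simp
  | tmul p e => rfl
  | add y z hy hz => simp only [map_add, hy, hz]

/-- the family `u ⊗ E` is separating on `D(b)` -/
def PB (A : Type*) [CommRing A] {R : Type*} [CommRing R] [Algebra A R]
    {M : Type*} [AddCommGroup M] [Module R M] [Module A M] [IsScalarTower A R M]
    {ι : Type*} {N : ι → Type*} [∀ j, AddCommGroup (N j)] [∀ j, Module R (N j)]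
    [∀ j, Module A (N j)] [∀ j, IsScalarTower A R (N j)]
    (u : ∀ j, M →ₗ[R] N j) (b : R) (E : Type*) [AddCommGroup E] [Module A E] : Prop :=
  ∀ y : M ⊗[A] E, (∀ j, ∃ n : ℕ, b ^ n • rT A E (u j) y = 0) → ∃ n : ℕ, b ^ n • y = 0

variable (u : ∀ j, M →ₗ[R] N j) (b : R)

theorem PB.of_linearEquiv {E E' : Type*} [AddCommGroup E] [Module A E] [AddCommGroup E']
    [Module A E'] (e : E ≃ₗ[A] E') (h : PB A u b E') : PB A u b E := by
  intro y hy
  obtain ⟨n, hn⟩ := h (lT R M e.toLinearMap y) (fun j => by
    obtain ⟨n, hn⟩ := hy j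
    refine ⟨n, ?_⟩
    rw [rT_lT, ← map_smul, hn, map_zero])
  refine ⟨n, ?_⟩
  have hinj : Function.Injective (lT R M e.toLinearMap) := by
    have : Function.LeftInverse (lT R M e.symm.toLinearMap) (lT R M e.toLinearMap) := by
      intro z
      induction z using TensorProduct.induction_on with
      | zero => simp
      | tmul m x =>
        change m ⊗ₜ[A] (e.symm (e x)) = m ⊗ₜ[A] x
        rw [LinearEquiv.symm_apply_apply]
      | add y z hy hz => simp only [map_add, hy, hz]
    exact this.injective
  apply hinj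
  rw [map_smul, hn, map_zero]

/-- closure under extensions -/
theorem PB.of_exact [∀ j, Module.Flat A (N j)] {E' E E'' : Type*} [AddCommGroup E'] [Module A E']
    [AddCommGroup E] [Module A E] [AddCommGroup E''] [Module A E'']
    (f : E' →ₗ[A] E) (g : E →ₗ[A] E'') (hf : Function.Injective f) (hfg : Function.Exact f g)
    (hg : Function.Surjective g) (h' : PB A u b E') (h'' : PB A u b E'') : PB A u b E := by
  intro y hy
  obtain ⟨n, hn⟩ := h'' (lT R M g y) (fun j => by
    obtain ⟨n, hn⟩ := hy j
    refine ⟨n, ?_⟩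
    rw [rT_lT, ← map_smul, hn, map_zero])
  have hex := lTensor_exact M hfg hg
  have h1 : g.lTensor M (b ^ n • y) = 0 := by
    have : lT R M g (b ^ n • y) = 0 := by rw [map_smul, hn]
    exact this
  obtain ⟨y', hy'⟩ := (hex (b ^ n • y)).mp h1
  have hy'' : lT R M f y' = b ^ n • y := hy'
  obtain ⟨n', hn'⟩ := h' y' (fun j => by
    obtain ⟨k, hk⟩ := hy j
    refine ⟨k, ?_⟩
    have hinj := Module.Flat.lTensor_preserves_injective_linearMap (M := N j) f hf
    apply hinj
    rw [map_zero]
    change lT R (N j) f (b ^ k • rT A E' (u j) y') = 0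
    rw [map_smul, ← rT_lT, hy'', map_smul, smul_comm, hk, smul_zero])
  refine ⟨n' + n, ?_⟩
  rw [pow_add, mul_smul, ← hy'', ← map_smul, hn', map_zero]

/-- from a field to vector spaces -/
theorem PB.of_field {K : Type*} [Field K] [Algebra A K] (h : PB A u b K) (E : Type*)
    [AddCommGroup E] [Module A E] [Module K E] [IsScalarTower A K E] : PB A u b E := by
  classical
  let bas := Module.Free.chooseBasis K E
  let J := Module.Free.ChooseBasisIndex K E
  let e : E ≃ₗ[A] (J →₀ K) := bas.repr.restrictScalars A
  refine PB.of_linearEquiv u b e ?_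
  intro y hy
  have hcomp : ∀ α : J, ∃ n : ℕ, b ^ n • lT R M (Finsupp.lapply (R := A) (M := K) α) y = 0 := by
    intro α
    apply h
    intro j
    obtain ⟨n, hn⟩ := hy j
    refine ⟨n, ?_⟩
    rw [rT_lT, ← map_smul, hn, map_zero]
  choose n hn using hcomp
  let s := (TensorProduct.finsuppRight A R M K J y).support
  refine ⟨s.sup n, ?_⟩
  apply (TensorProduct.finsuppRight A R M K J).injective
  rw [map_smul, map_zero]
  ext α
  rw [Finsupp.smul_apply, Finsupp.zero_apply]
  by_cases hα : α ∈ s
  · have h1 : TensorProduct.finsuppRight A R M K J y α =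
        lT R M (Finsupp.lapply (R := A) (M := K) α) y :=
      TensorProduct.finsuppRight_apply y α
    rw [h1]
    obtain ⟨k, hk⟩ := Nat.exists_eq_add_of_le (Finset.le_sup (f := n) hα)
    rw [hk, pow_add, mul_comm, mul_smul, hn α, smul_zero]
  · rw [Finsupp.notMem_support_iff.mp hα, smul_zero]

end PB

end Groth.Agent.Lib.helper3.SchDomCore
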