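import Mathlib
import Groth.Agent.Lib.Helper3.SchDomCore0

set_option autoImplicit false
set_option linter.style.haveILetI false
set_option linter.unusedSectionVars false
universe u v w

open TensorProduct

namespace Groth.Agent.Lib.helper3.SchDomCore

section Nilp

variable {A : Type*} [CommRing A] {R : Type*} [CommRing R] [Algebra A R]
  {M : Type*} [AddCommGroup M] [Module R M] [Module A M] [IsScalarTower A R M]
  {ι : Type*} {N : ι → Type*} [∀ j, AddCommGroup (N j)] [∀ j, Module R (N j)]
  [∀ j, Module A (N j)] [∀ j, IsScalarTower A R (N j)] [∀ j, Module.Flat A (N j)]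
  (u : ∀ j, M →ₗ[R] N j) (b : R) (𝔭 : Ideal A) [𝔭.IsPrime]

theorem PB.of_subsingleton (E : Type*) [AddCommGroup E] [Module A E] [Subsingleton E] :
    PB A u b E := by
  have key : ∀ y : M ⊗[A] E, y = 0 := by
    intro y
    induction y using TensorProduct.induction_on with
    | zero => rfl
    | tmul m e => rw [Subsingleton.elim e 0, TensorProduct.tmul_zero]
    | add y z hy hz => rw [hy, hz, add_zero]
  intro y _
  exact ⟨0, by rw [key y, smul_zero]⟩

/-- the vector space structure of `E / 𝔪 E` over the residue field -/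
@[reducible] noncomputable def resModule (𝔭 : Ideal A) [𝔭.IsPrime] (E : Type*) [AddCommGroup E]
    [Module (Localization.AtPrime 𝔭) E] :
    Module 𝔭.ResidueField (E ⧸ (IsLocalRing.maximalIdeal (Localization.AtPrime 𝔭)) •
      (⊤ : Submodule (Localization.AtPrime 𝔭) E)) :=
  inferInstanceAs (Module
    (Localization.AtPrime 𝔭 ⧸ IsLocalRing.maximalIdeal (Localization.AtPrime 𝔭))
    (E ⧸ (IsLocalRing.maximalIdeal (Localization.AtPrime 𝔭)) •
      (⊤ : Submodule (Localization.AtPrime 𝔭) E)))

theorem resModule_isScalarTower (𝔭 : Ideal A) [𝔭.IsPrime] (E : Type*) [AddCommGroup E]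
    [Module A E] [Module (Localization.AtPrime 𝔭) E] [IsScalarTower A (Localization.AtPrime 𝔭) E] :
    letI := resModule 𝔭 E
    IsScalarTower A 𝔭.ResidueField (E ⧸ (IsLocalRing.maximalIdeal (Localization.AtPrime 𝔭)) •
      (⊤ : Submodule (Localization.AtPrime 𝔭) E)) := by
  letI := resModule 𝔭 E
  refine IsScalarTower.of_algebraMap_smul (fun a x => ?_)
  obtain ⟨e, rfl⟩ := Submodule.Quotient.mk_surjective _ x
  change Submodule.Quotient.mk (algebraMap A (Localization.AtPrime 𝔭) a • e) = _
  rw [algebraMap_smul]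
  rfl

theorem PB.of_nilpotent (h : PB A u b 𝔭.ResidueField) (n : ℕ) :
    ∀ (E : Type w) [AddCommGroup E] [Module A E] [Module (Localization.AtPrime 𝔭) E]
      [IsScalarTower A (Localization.AtPrime 𝔭) E],
      (IsLocalRing.maximalIdeal (Localization.AtPrime 𝔭)) ^ n •
        (⊤ : Submodule (Localization.AtPrime 𝔭) E) = ⊥ → PB A u b E := by
  induction n with
  | zero =>
    intro E _ _ _ _ hE
    rw [pow_zero, Ideal.one_eq_top, Submodule.top_smul] at hE
    haveI : Subsingleton E := by
      refine ⟨fun x y => ?_⟩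
      have hx : x ∈ (⊤ : Submodule (Localization.AtPrime 𝔭) E) := trivial
      have hy : y ∈ (⊤ : Submodule (Localization.AtPrime 𝔭) E) := trivial
      rw [hE, Submodule.mem_bot] at hx hy
      rw [hx, hy]
    exact PB.of_subsingleton u b E
  | succ n ih =>
    intro E _ _ _ _ hE
    let Rp := Localization.AtPrime 𝔭
    let 𝔪 := IsLocalRing.maximalIdeal Rp
    let E' : Submodule Rp E := 𝔪 • ⊤
    letI : Module 𝔭.ResidueField (E ⧸ E') := resModule 𝔭 E
    haveI : IsScalarTower A 𝔭.ResidueField (E ⧸ E') := resModule_isScalarTower 𝔭 E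
    refine PB.of_exact u b (E'.subtype.restrictScalars A) (E'.mkQ.restrictScalars A)
      Subtype.val_injective ?_ (Submodule.mkQ_surjective E') (ih ↥E' ?_)
      (PB.of_field u b h (E ⧸ E'))
    · intro x
      change E'.mkQ x = 0 ↔ x ∈ Set.range E'.subtype
      rw [Submodule.mkQ_apply, Submodule.Quotient.mk_eq_zero]
      constructor
      · intro hx
        exact ⟨⟨x, hx⟩, rfl⟩
      · rintro ⟨y, rfl⟩
        exact y.2
    · apply Submodule.map_injective_of_injective (f := E'.subtype) Subtype.val_injective
      rw [Submodule.map_smul'', Submodule.map_top, Submodule.range_subtype, Submodule.map_bot,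
        ← hE, pow_succ, mul_smul]

end Nilp

end Groth.Agent.Lib.helper3.SchDomCore
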