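import Mathlib
import Groth.Agent.Lib.Helper3.SchDomCore0
import Groth.Agent.Lib.Helper3.SchDomCore1

set_option autoImplicit false
set_option linter.style.haveILetI false
set_option linter.unusedSectionVars false
universe u v w

open TensorProduct

namespace Groth.Agent.Lib.helper3.SchDomCore

open Groth.Agent.Lib.helper3.SepNoeth

section Extract

variable {A : Type*} [CommRing A] (𝔭 : Ideal A) [𝔭.IsPrime]

theorem nilpotent_tensor_quot (n : ℕ) :
    (IsLocalRing.maximalIdeal (Localization.AtPrime 𝔭)) ^ n •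
      (⊤ : Submodule (Localization.AtPrime 𝔭) (Localization.AtPrime 𝔭 ⊗[A] (A ⧸ 𝔭 ^ n))) = ⊥ := by
  rw [eq_bot_iff, ← Localization.AtPrime.map_eq_maximalIdeal, ← Ideal.map_pow]
  rw [Submodule.smul_le]
  intro r hr e he
  clear he
  rw [Submodule.mem_bot]
  rw [Ideal.map] at hr
  induction hr using Submodule.span_induction with
  | mem r hr =>
    obtain ⟨a, ha, rfl⟩ := hr
    rw [algebraMap_smul]
    induction e using TensorProduct.induction_on with
    | zero => rw [smul_zero]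
    | tmul p q =>
      obtain ⟨q₀, rfl⟩ := Ideal.Quotient.mk_surjective q
      rw [← TensorProduct.tmul_smul]
      have : a • (Ideal.Quotient.mk (𝔭 ^ n)) q₀ = 0 := by
        rw [Algebra.smul_def, Ideal.Quotient.algebraMap_eq, ← map_mul,
          Ideal.Quotient.eq_zero_iff_mem]
        exact Ideal.mul_mem_right _ _ ha
      rw [this, TensorProduct.tmul_zero]
    | add x y hx hy => rw [smul_add, hx, hy, add_zero]
  | zero => rw [zero_smul]
  | add x y _ _ hx hy => rw [add_smul, hx, hy, add_zero]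
  | smul c x _ hx => rw [smul_eq_mul, mul_smul, hx, smul_zero]

theorem exists_smul_mem_of_tmul_eq_zero {M : Type*} [AddCommGroup M] [Module A M] (I : Ideal A)
    (x : M) (h : x ⊗ₜ[A] ((1 : Localization.AtPrime 𝔭) ⊗ₜ[A] (1 : A ⧸ I)) = 0) :
    ∃ s : A, s ∉ 𝔭 ∧ s • x ∈ I • (⊤ : Submodule A M) := by
  have h1 := congrArg (TensorProduct.leftComm A M (Localization.AtPrime 𝔭) (A ⧸ I)) h
  rw [TensorProduct.leftComm_tmul, map_zero] at h1
  have h2 : TensorProduct.mk A (Localization.AtPrime 𝔭) (M ⊗[A] (A ⧸ I)) 1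
      (x ⊗ₜ[A] (1 : A ⧸ I)) = 0 := h1
  obtain ⟨⟨s, hs⟩, hs0⟩ := (IsLocalizedModule.eq_zero_iff 𝔭.primeCompl
    (TensorProduct.mk A (Localization.AtPrime 𝔭) (M ⊗[A] (A ⧸ I)) 1)).mp h2
  refine ⟨s, hs, ?_⟩
  have hs1 : s • (x ⊗ₜ[A] (1 : A ⧸ I)) = 0 := hs0
  have h3 := congrArg (TensorProduct.tensorQuotEquivQuotSMul M I) hs1
  rw [TensorProduct.smul_tmul', ← map_one (Ideal.Quotient.mk I),
    TensorProduct.tensorQuotEquivQuotSMul_tmul_mk, one_smul, map_zero,
    Submodule.Quotient.mk_eq_zero] at h3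
  exact h3

end Extract

section Core

variable {A : Type u} [CommRing A] {R : Type v} [CommRing R] [Algebra A R] [IsNoetherianRing R]
  {M : Type w} [AddCommGroup M] [Module R M] [Module A M] [IsScalarTower A R M] [Module.Finite R M]
  {ι : Type*} {N : ι → Type*} [∀ j, AddCommGroup (N j)] [∀ j, Module R (N j)]
  [∀ j, Module A (N j)] [∀ j, IsScalarTower A R (N j)] [∀ j, Module.Flat A (N j)]
  (u : ∀ j, M →ₗ[R] N j)

/-- elements killed by a power of `b` -/
def powTors (b : R) (P : Type*) [AddCommGroup P] [Module R P] : Submodule R P where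
  carrier := {x | ∃ n : ℕ, b ^ n • x = 0}
  add_mem' := by
    rintro x y ⟨n, hn⟩ ⟨k, hk⟩
    refine ⟨n + k, ?_⟩
    have hx : b ^ (n + k) • x = 0 := by rw [pow_add, mul_comm, mul_smul, hn, smul_zero]
    have hy : b ^ (n + k) • y = 0 := by rw [pow_add, mul_smul, hk, smul_zero]
    rw [smul_add, hx, hy, add_zero]
  zero_mem' := ⟨0, smul_zero _⟩
  smul_mem' := by
    rintro c x ⟨n, hn⟩
    exact ⟨n, by rw [smul_comm, hn, smul_zero]⟩

theorem mem_powTors (b : R) (P : Type*) [AddCommGroup P] [Module R P] (x : P) :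
    x ∈ powTors b P ↔ ∃ n : ℕ, b ^ n • x = 0 := Iff.rfl

/-- **fibrewise criterion (ring form)**: over a Noetherian `A`-algebra `R`, a family of maps from
a finite module to `A`-flat modules is sheaf-separating as soon as it is so on `D(b) ∩` each fibre -/
theorem sheafSep_of_fibrewise
    (h : ∀ (𝔭 : Ideal A) [𝔭.IsPrime] (b : R), PB A u b 𝔭.ResidueField) : SheafSep u := by
  intro b m hm
  by_contra hne0
  have hne : ∀ n : ℕ, b ^ n • m ≠ 0 := fun n hn => hne0 ⟨n, hn⟩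
  let T : Submodule R M := ⨅ j, (powTors b (N j)).comap (u j)
  have hT : ∀ x : M, x ∈ T ↔ ∀ j, ∃ n : ℕ, b ^ n • u j x = 0 := by
    intro x
    simp only [T, Submodule.mem_iInf, Submodule.mem_comap, mem_powTors]
  let T₀ : Submodule R T := (powTors b M).comap T.subtype
  have hT₀ : ∀ x : T, x ∈ T₀ ↔ ∃ n : ℕ, b ^ n • (x : M) = 0 := by
    intro x
    simp only [T₀, Submodule.mem_comap, mem_powTors, Submodule.subtype_apply]
  have hm₀ : T₀.mkQ ⟨m, (hT m).mpr hm⟩ ≠ 0 := by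
    rw [Submodule.mkQ_apply, Ne, Submodule.Quotient.mk_eq_zero, hT₀]
    rintro ⟨n, hn⟩
    exact hne n hn
  obtain ⟨𝔮, hass, -⟩ := exists_le_isAssociatedPrime_of_isNoetherianRing R _ hm₀
  obtain ⟨h𝔮, zbar, hz⟩ := (isAssociatedPrime_iff).mp hass
  obtain ⟨z, rfl⟩ := T₀.mkQ_surjective zbar
  haveI := h𝔮
  have hmem : ∀ r : R, r ∈ 𝔮 ↔ ∃ n : ℕ, b ^ n • r • (z : M) = 0 := by
    intro r
    rw [hz, Submodule.mem_colon_singleton, Submodule.mem_bot, ← map_smul, Submodule.mkQ_apply,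
      Submodule.Quotient.mk_eq_zero, hT₀]
    rfl
  have hb : b ∉ 𝔮 := by
    intro hb
    obtain ⟨n, hn⟩ := (hmem b).mp hb
    apply h𝔮.ne_top
    rw [Ideal.eq_top_iff_one, hmem]
    refine ⟨n + 1, ?_⟩
    rw [one_smul, pow_succ, mul_smul]
    exact hn
  let 𝔭 : Ideal A := 𝔮.comap (algebraMap A R)
  haveI : 𝔭.IsPrime := Ideal.comap_isPrime _ _
  obtain ⟨k₀, hk₀⟩ := Ideal.exists_pow_inf_eq_pow_smul 𝔮 (Submodule.span R {(z : M)})
  have hAR := hk₀ (k₀ + 1) (Nat.le_succ k₀)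
  -- the thickened fibre
  have hPB : PB A u b (Localization.AtPrime 𝔭 ⊗[A] (A ⧸ 𝔭 ^ (k₀ + 1))) :=
    PB.of_nilpotent u b 𝔭 (h 𝔭 b) (k₀ + 1) _ (nilpotent_tensor_quot 𝔭 (k₀ + 1))
  obtain ⟨k, hk⟩ := hPB ((z : M) ⊗ₜ[A] ((1 : Localization.AtPrime 𝔭) ⊗ₜ[A] (1 : A ⧸ 𝔭 ^ (k₀ + 1))))
    (fun j => by
      obtain ⟨n, hn⟩ := (hT z).mp z.2 j
      refine ⟨n, ?_⟩
      change b ^ n • ((u j (z : M)) ⊗ₜ[A] _) = 0
      rw [TensorProduct.smul_tmul', hn, TensorProduct.zero_tmul])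
  rw [TensorProduct.smul_tmul'] at hk
  obtain ⟨s, hs, hsz⟩ := exists_smul_mem_of_tmul_eq_zero 𝔭 (𝔭 ^ (k₀ + 1)) _ hk
  let c : R := algebraMap A R s * b ^ k
  have hc : c ∉ 𝔮 := by
    intro hc
    rcases h𝔮.mem_or_mem hc with h1 | h1
    · exact hs h1
    · exact hb (h𝔮.mem_of_pow_mem k h1)
  have hcz1 : c • (z : M) ∈ 𝔮 ^ (k₀ + 1) • (⊤ : Submodule R M) := by
    have hle : ∀ y : M, y ∈ 𝔭 ^ (k₀ + 1) • (⊤ : Submodule A M) →
        y ∈ 𝔮 ^ (k₀ + 1) • (⊤ : Submodule R M) := by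
      intro y hy
      refine Submodule.smul_induction_on hy (fun a ha x _ => ?_) (fun x y hx hy => add_mem hx hy)
      rw [← algebraMap_smul R a x]
      refine Submodule.smul_mem_smul ?_ trivial
      have h1 : (𝔭 ^ (k₀ + 1)).map (algebraMap A R) ≤ 𝔮 ^ (k₀ + 1) := by
        rw [Ideal.map_pow]
        exact Ideal.pow_right_mono Ideal.map_comap_le _
      exact h1 (Ideal.mem_map_of_mem _ ha)
    have : c • (z : M) = s • b ^ k • (z : M) := by
      rw [mul_smul, algebraMap_smul]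
    rw [this]
    exact hle _ hsz
  have hcz2 : c • (z : M) ∈ Submodule.span R {(z : M)} :=
    Submodule.smul_mem _ _ (Submodule.mem_span_singleton_self _)
  have hcz3 : c • (z : M) ∈ 𝔮 • Submodule.span R {(z : M)} := by
    have h1 : c • (z : M) ∈ 𝔮 ^ (k₀ + 1) • (⊤ : Submodule R M) ⊓ Submodule.span R {(z : M)} :=
      ⟨hcz1, hcz2⟩
    rw [hAR, Nat.add_sub_cancel_left, pow_one] at h1
    exact Submodule.smul_mono le_rfl inf_le_right h1
  obtain ⟨q, hq, hqz⟩ := Submodule.mem_smul_span_singleton.mp hcz3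
  have hcq : c - q ∈ 𝔮 := by
    rw [hmem]
    refine ⟨0, ?_⟩
    rw [pow_zero, one_smul, sub_smul, hqz, sub_self]
  apply hc
  have := 𝔮.add_mem hcq hq
  rwa [sub_add_cancel] at this

end Core

end Groth.Agent.Lib.helper3.SchDomCore
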