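import Mathlib
import Groth.Agent.Lib.Helper3.SchDomCore2

set_option autoImplicit false
set_option linter.style.haveILetI false
set_option linter.unusedSectionVars false
universe u v w

open TensorProduct

namespace Groth.Agent.Lib.helper3.SchDomCore

open Groth.Agent.Lib.helper3.SepNoeth

section PBsep

variable {A : Type*} [CommRing A] {R : Type*} [CommRing R] [Algebra A R]
  (K : Type*) [CommRing K] [Algebra A K]

/-- `(R ⊗[A] K) ⊗[R] P ≃ P ⊗[A] K` -/
noncomputable def thetaEquiv (P : Type*) [AddCommGroup P] [Module R P] [Module A P]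
    [IsScalarTower A R P] : (R ⊗[A] K) ⊗[R] P ≃ₗ[R] P ⊗[A] K :=
  (TensorProduct.comm R (R ⊗[A] K) P) ≪≫ₗ
    (TensorProduct.AlgebraTensorModule.cancelBaseChange A R R P K)

theorem thetaEquiv_tmul (P : Type*) [AddCommGroup P] [Module R P] [Module A P]
    [IsScalarTower A R P] (r : R) (k : K) (p : P) :
    thetaEquiv K P ((r ⊗ₜ[A] k) ⊗ₜ[R] p) = (r • p) ⊗ₜ[A] k := by
  simp [thetaEquiv]

theorem thetaEquiv_nat {P P' : Type*} [AddCommGroup P] [Module R P] [Module A P]
    [IsScalarTower A R P] [AddCommGroup P'] [Module R P'] [Module A P'] [IsScalarTower A R P']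
    (f : P →ₗ[R] P') (t : (R ⊗[A] K) ⊗[R] P) :
    thetaEquiv K P' (f.baseChange (R ⊗[A] K) t) = rT A K f (thetaEquiv K P t) := by
  induction t using TensorProduct.induction_on with
  | zero => simp
  | tmul d p =>
    induction d using TensorProduct.induction_on with
    | zero => simp
    | tmul r k =>
      rw [LinearMap.baseChange_tmul, thetaEquiv_tmul, thetaEquiv_tmul]
      change (r • f p) ⊗ₜ[A] k = f (r • p) ⊗ₜ[A] k
      rw [map_smul]
    | add x y hx hy =>
      simp only [TensorProduct.add_tmul, map_add] at hx hy ⊢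
      rw [hx, hy]
  | add x y hx hy => simp only [map_add, hx, hy]

theorem thetaEquiv_smul (P : Type*) [AddCommGroup P] [Module R P] [Module A P]
    [IsScalarTower A R P] (b : R) (t : (R ⊗[A] K) ⊗[R] P) :
    thetaEquiv K P (algebraMap R (R ⊗[A] K) b • t) = b • thetaEquiv K P t := by
  rw [algebraMap_smul, map_smul]

variable {M : Type*} [AddCommGroup M] [Module R M] [Module A M] [IsScalarTower A R M]
  {ι : Type*} {N : ι → Type*} [∀ j, AddCommGroup (N j)] [∀ j, Module R (N j)]
  [∀ j, Module A (N j)] [∀ j, IsScalarTower A R (N j)] (u : ∀ j, M →ₗ[R] N j)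

/-- sheaf-separation of the base change gives the `PB` property -/
theorem PB_of_sheafSep (h : SheafSep (fun j => (u j).baseChange (R ⊗[A] K))) (b : R) :
    PB A u b K := by
  intro y hy
  obtain ⟨n, hn⟩ := h (algebraMap R (R ⊗[A] K) b) ((thetaEquiv K M).symm y) (fun j => by
    obtain ⟨n, hn⟩ := hy j
    refine ⟨n, (thetaEquiv K (N j)).injective ?_⟩
    rw [← map_pow, thetaEquiv_smul, thetaEquiv_nat, LinearEquiv.apply_symm_apply, map_zero]
    exact hn)
  refine ⟨n, ?_⟩
  have := congrArg (thetaEquiv K M) hn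
  rw [← map_pow, thetaEquiv_smul, LinearEquiv.apply_symm_apply, map_zero] at this
  exact this

end PBsep

end Groth.Agent.Lib.helper3.SchDomCore
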