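import Groth.Agent.Lib.Helper3.SchDomNilSch

/-!
# Separating families after base change: reduction to finitely generated subalgebras, affine
bases (helper3, EGA IV 11.9.x)
-/

set_option autoImplicit false
set_option linter.style.haveILetI false
set_option linter.unusedSectionVars false
universe u v
open CategoryTheory CategoryTheory.Limits AlgebraicGeometry TopologicalSpace Opposite TensorProduct

namespace Groth.Agent.Lib.helper3.SchDomFGSch

open Scheme.Modules Groth.Agent.Lib.helper16.CohFinite Groth.Agent.Lib.helper16.QCohPullback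
  Groth.Agent.Lib.helper16.QCohPullback3 Groth.Agent.Lib.helper16.QCohEpi
  Groth.Agent.Lib.helper3.SepPull Groth.Agent.Lib.helper3.SepNoeth
  Groth.Agent.Lib.helper3.SepFP Groth.Agent.Lib.helper3.SepPullFP
  Groth.Agent.Lib.helper3.SchDomChart Groth.Agent.Lib.helper3.SchDomCore
  Groth.Agent.Lib.helper3.SchDomT5 Groth.Agent.Lib.helper3.SchDomStage
  Groth.Agent.Lib.helper3.SepFibre Groth.Agent.Lib.helper3.SchDomAff
  Groth.Agent.Lib.helper3.SchDomNil Groth.Agent.Lib.helper3.SchDomNilSch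

section Charts

variable {X S S' : Scheme.{u}} (p : X ⟶ S) (g : S' ⟶ S) (F : X.Modules) [F.IsQuasicoherent]
  {ι : Type v} (G : ι → X.Modules) [∀ i, (G i).IsQuasicoherent] (u : ∀ i, F ⟶ G i)

/-- separation of the family pulled back to `X ×_S S'` from sheaf-separation of the base-changed
section maps on a covering family of charts -/
theorem sepBC_of_charts
    (H : ∀ x : ↥(pullback p g), ∃ (S₀ : S.Opens) (_ : IsAffineOpen S₀) (U : X.Opens)
      (hU : IsAffineOpen U) (eU : U ≤ p ⁻¹ᵁ S₀) (T : S'.Opens) (_ : IsAffineOpen T)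
      (eT : T ≤ g ⁻¹ᵁ S₀), pullback.fst p g x ∈ U ∧ pullback.snd p g x ∈ T ∧
      (letI := (p.appLE S₀ U eU).hom.toAlgebra
       letI := (g.appLE S₀ T eT).hom.toAlgebra
       SheafSep (A := Γ(X, U) ⊗[Γ(S, S₀)] Γ(S', T))
        (M := (Γ(X, U) ⊗[Γ(S, S₀)] Γ(S', T)) ⊗[Γ(X, U)] ((secFun hU).obj F))
        (N := fun i => (Γ(X, U) ⊗[Γ(S, S₀)] Γ(S', T)) ⊗[Γ(X, U)] ((secFun hU).obj (G i)))
        (fun i => ((secFun hU).map (u i)).hom.baseChange (Γ(X, U) ⊗[Γ(S, S₀)] Γ(S', T))))) :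
    SepBC p F G u g := by
  intro V t ht
  have hloc : ∀ x : V, ∃ (W : (pullback p g).Opens) (hWV : W ≤ V), x.1 ∈ W ∧
      ((Scheme.Modules.pullback (pullback.fst p g)).obj F).presheaf.map (homOfLE hWV).op t = 0 := by
    intro x
    obtain ⟨S₀, hS₀, U, hU, eU, T, hT, eT, hxU, hxT, hsep'⟩ := H x.1
    letI algAB : Algebra Γ(S, S₀) Γ(X, U) := (p.appLE S₀ U eU).hom.toAlgebra
    letI algAC : Algebra Γ(S, S₀) Γ(S', T) := (g.appLE S₀ T eT).hom.toAlgebra
    have hA : CommRingCat.ofHom (algebraMap Γ(S, S₀) Γ(X, U)) = p.appLE S₀ U eU := rfl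
    have hA' := hA_spec p hS₀ hU eU hA
    have hB : Spec.map (CommRingCat.ofHom (algebraMap Γ(S, S₀) Γ(S', T))) ≫ hS₀.fromSpec =
        hT.fromSpec ≫ g := IsAffineOpen.SpecMap_appLE_fromSpec g hS₀ hT eT
    have hW₀ : IsAffineOpen ((chart p g hS₀ hU hT.fromSpec hA' hB) ''ᵁ ⊤) :=
      (isAffineOpen_top _).image_of_isOpenImmersion _
    have hxW₀ : x.1 ∈ (chart p g hS₀ hU hT.fromSpec hA' hB) ''ᵁ ⊤ := by
      obtain ⟨z, hz⟩ := mem_range_chart p g hS₀ hU hT.fromSpec hA' hB x.1 hxU (by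
        rw [hT.range_fromSpec]
        exact hxT)
      exact ⟨z, trivial, hz⟩
    have e₀ := image_top_le p g hS₀ hU hT.fromSpec hA' hB
    obtain ⟨f₀, hf₀V, hxf₀⟩ := hW₀.exists_basicOpen_le x hxW₀
    have hW : IsAffineOpen ((pullback p g).basicOpen f₀) := hW₀.basicOpen f₀
    have hWW₀ : (pullback p g).basicOpen f₀ ≤ (chart p g hS₀ hU hT.fromSpec hA' hB) ''ᵁ ⊤ :=
      (pullback p g).basicOpen_le f₀
    have eW : (pullback p g).basicOpen f₀ ≤ (pullback.fst p g) ⁻¹ᵁ U := hWW₀.trans e₀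
    refine ⟨(pullback p g).basicOpen f₀, hf₀V, hxf₀, ?_⟩
    refine Groth.Agent.Lib.helper3.SepPullField.eq_zero_of_affine_of_JIl (pullback.fst p g) hU hW eW
      F G u ?_ _ (fun i => ?_)
    · letI algC₀ : Algebra Γ(X, U) Γ(pullback p g, (chart p g hS₀ hU hT.fromSpec hA' hB) ''ᵁ ⊤) :=
        ((pullback.fst p g).appLE U _ e₀).hom.toAlgebra
      letI algC : Algebra Γ(X, U) Γ(pullback p g, (pullback p g).basicOpen f₀) :=
        ((pullback.fst p g).appLE U _ eW).hom.toAlgebra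
      haveI : IsScalarTower Γ(X, U) Γ(pullback p g, (chart p g hS₀ hU hT.fromSpec hA' hB) ''ᵁ ⊤)
          Γ(pullback p g, (pullback p g).basicOpen f₀) :=
        IsScalarTower.of_algebraMap_eq (fun a => by
          have := (pullback.fst p g).appLE_map e₀ (homOfLE hWW₀).op
          exact (congr($(this).hom a)).symm)
      haveI : IsLocalization.Away f₀ Γ(pullback p g, (pullback p g).basicOpen f₀) :=
        hW₀.isLocalization_basicOpen f₀
      let eAlg : (Γ(X, U) ⊗[Γ(S, S₀)] Γ(S', T)) ≃ₐ[Γ(X, U)]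
          Γ(pullback p g, (chart p g hS₀ hU hT.fromSpec hA' hB) ''ᵁ ⊤) :=
        AlgEquiv.ofRingEquiv
          (f := (chartIso p g hS₀ hU hT.fromSpec hA' hB).commRingCatIsoToRingEquiv)
          (fun a => by
            have := chartIso_compat p g hS₀ hU hT.fromSpec hA' hB
            exact (congr($(this).hom a)).symm)
      have hsep'' := Groth.Agent.Lib.helper3.SepPullField.sheafSep_baseChange_of_algEquiv eAlg _
        hsep'
      exact Groth.Agent.Lib.helper3.SepField.JIl_of_sheafSep_baseChange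
        Γ(pullback p g, (chart p g hS₀ hU hT.fromSpec hA' hB) ''ᵁ ⊤) _ hsep'' f₀
        Γ(pullback p g, (pullback p g).basicOpen f₀)
    · have nat := ((Scheme.Modules.pullback (pullback.fst p g)).map (u i)).mapPresheaf.naturality
        (homOfLE hf₀V).op
      have h1 := congrArg (fun k => k.hom t) nat
      simp only [AddCommGrpCat.hom_comp, AddMonoidHom.comp_apply] at h1
      refine h1.trans ?_
      have h2 : (((Scheme.Modules.pullback (pullback.fst p g)).map (u i)).mapPresheaf.app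
          (op V)).hom t = 0 := ht i
      rw [h2, map_zero]
  choose W hWV hxW hW0 using hloc
  apply eq_zero_of_cover _ W V hWV
  · intro y hy
    exact Opens.mem_iSup.mpr ⟨⟨y, hy⟩, hxW ⟨y, hy⟩⟩
  · intro x
    exact hW0 x

end Charts

section FG

variable {X : Scheme.{u}} (A A' : CommRingCat.{u}) (φ : A ⟶ A') (p : X ⟶ Spec A)
  (F : X.Modules) [F.IsQuasicoherent] {ι : Type v} (G : ι → X.Modules)
  [∀ i, (G i).IsQuasicoherent] (hG : ∀ i, FlatMod.IsFlatOver p (G i)) (u : ∀ i, F ⟶ G i)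

include hG in
/-- **EGA IV 11.9.x (passage to finitely generated subalgebras, `Z_λ = X`, affine bases)**: if
the family with `A`-flat targets is separating after base change to every `A`-algebra of finite
type mapping injectively to `A'`, then it is separating after base change to `A'`. -/
theorem sepBC_of_fg
    (hfg : ∀ (B : CommRingCat.{u}) (a : A ⟶ B) (b : B ⟶ A'), a ≫ b = φ →
      Function.Injective b.hom → a.hom.FiniteType → SepBC p F G u (Spec.map a)) :
    SepBC p F G u (Spec.map φ) := by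
  refine sepBC_of_charts p (Spec.map φ) F G u (fun x => ?_)
  have hS₀ : IsAffineOpen (⊤ : (Spec A).Opens) := isAffineOpen_top _
  have hT : IsAffineOpen (⊤ : (Spec A').Opens) := isAffineOpen_top _
  obtain ⟨U, hU, hxU, -⟩ := exists_isAffineOpen_mem_and_subset
    (x := pullback.fst p (Spec.map φ) x) (U := ⊤) trivial
  have eU : U ≤ p ⁻¹ᵁ (⊤ : (Spec A).Opens) := fun _ _ => trivial
  have eT : (⊤ : (Spec A').Opens) ≤ (Spec.map φ) ⁻¹ᵁ (⊤ : (Spec A).Opens) := fun _ _ => trivial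
  refine ⟨⊤, hS₀, U, hU, eU, ⊤, hT, eT, hxU, trivial, ?_⟩
  letI algAB : Algebra Γ(Spec A, ⊤) Γ(X, U) := (p.appLE ⊤ U eU).hom.toAlgebra
  letI algAC : Algebra Γ(Spec A, ⊤) Γ(Spec A', ⊤) := ((Spec.map φ).appLE ⊤ ⊤ eT).hom.toAlgebra
  letI modAF : Module Γ(Spec A, ⊤) ((secFun hU).obj F) := secModBase p hU eU F
  haveI : IsScalarTower Γ(Spec A, ⊤) Γ(X, U) ((secFun hU).obj F) :=
    IsScalarTower.of_algebraMap_smul (fun _ _ => rfl)
  letI modAG : ∀ i, Module Γ(Spec A, ⊤) ((secFun hU).obj (G i)) :=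
    fun i => secModBase p hU eU (G i)
  haveI : ∀ i, IsScalarTower Γ(Spec A, ⊤) Γ(X, U) ((secFun hU).obj (G i)) := fun i =>
    IsScalarTower.of_algebraMap_smul (fun _ _ => rfl)
  haveI : ∀ i, Module.Flat Γ(Spec A, ⊤) ((secFun hU).obj (G i)) := fun i =>
    flat_secModBase p hS₀ hU eU (G i) (hG i)
  refine sheafSep_baseChange_of_fg (k := Γ(Spec A, ⊤)) (A := Γ(X, U)) Γ(Spec A', ⊤)
    (fun i => ((secFun hU).map (u i)).hom) (fun A'' hA'' => ?_)
  haveI : Algebra.FiniteType Γ(Spec A, ⊤) A'' := (Subalgebra.fg_iff_finiteType A'').mp hA''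
  let a : A ⟶ CommRingCat.of A'' :=
    (Scheme.ΓSpecIso A).inv ≫ CommRingCat.ofHom (algebraMap Γ(Spec A, ⊤) A'')
  let b : CommRingCat.of A'' ⟶ A' :=
    CommRingCat.ofHom A''.val.toRingHom ≫ (Scheme.ΓSpecIso A').hom
  have h0 : (Spec.map φ).appLE ⊤ ⊤ eT = (Spec.map φ).appTop := Scheme.Hom.appLE_eq_app _
  have h1 : CommRingCat.ofHom (algebraMap Γ(Spec A, ⊤) A'') ≫
      CommRingCat.ofHom A''.val.toRingHom = (Spec.map φ).appTop := by
    rw [← h0]
    rfl
  have hab : a ≫ b = φ := by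
    calc a ≫ b = (Scheme.ΓSpecIso A).inv ≫ (CommRingCat.ofHom (algebraMap Γ(Spec A, ⊤) A'') ≫
          CommRingCat.ofHom A''.val.toRingHom) ≫ (Scheme.ΓSpecIso A').hom := by
          simp only [a, b, Category.assoc]
      _ = (Scheme.ΓSpecIso A).inv ≫ (Spec.map φ).appTop ≫ (Scheme.ΓSpecIso A').hom :=
          congrArg (fun k : Γ(Spec A, ⊤) ⟶ Γ(Spec A', ⊤) =>
            (Scheme.ΓSpecIso A).inv ≫ k ≫ (Scheme.ΓSpecIso A').hom) h1
      _ = φ := by
          rw [Scheme.ΓSpecIso_naturality, Iso.inv_hom_id_assoc]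
  have hb : Function.Injective b.hom := by
    have hbij := (ConcreteCategory.bijective_of_isIso (Scheme.ΓSpecIso A').hom).1
    intro r r' hr
    exact Subtype.val_injective (hbij hr)
  have ha : a.hom.FiniteType := by
    have hsurj : Function.Surjective (Scheme.ΓSpecIso A).inv.hom :=
      (ConcreteCategory.bijective_of_isIso (Scheme.ΓSpecIso A).inv).2
    have h2 : (algebraMap Γ(Spec A, ⊤) A'').FiniteType :=
      RingHom.finiteType_algebraMap.mpr inferInstance
    exact h2.comp (RingHom.FiniteType.of_surjective _ hsurj)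
  have hsep := hfg _ a b hab hb ha
  have hB : Spec.map (CommRingCat.ofHom (algebraMap Γ(Spec A, ⊤) A'')) ≫ hS₀.fromSpec =
      𝟙 _ ≫ Spec.map a := by
    rw [Category.id_comp, IsAffineOpen.fromSpec_top, Scheme.isoSpec_Spec_inv, ← Spec.map_comp]
    rfl
  exact sheafSep_of_sepBC p (Spec.map a) F G u hS₀ hU (𝟙 _) (hA_spec p hS₀ hU eU rfl) hB hsep

end FG

end Groth.Agent.Lib.helper3.SchDomFGSch
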