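import Groth.Agent.Lib.Helper3.SepPullField

/-!
# Schematically dominant families and flat base change locally of finite presentation
(helper3, EGA IV 11.10.5)
-/

set_option autoImplicit false
set_option linter.style.haveILetI false
set_option linter.unusedSectionVars false
universe u v
open CategoryTheory CategoryTheory.Limits AlgebraicGeometry TopologicalSpace Opposite TensorProduct

namespace Groth.Agent.Lib.helper3.SchDomFP

open Groth.Agent.Lib.helper3.SepNoeth Groth.Agent.Lib.helper3.SepFP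
  Groth.Agent.Lib.helper3.SepPullField

/-- a function killed by a power of `s` vanishes on `D(s)` -/
theorem map_basicOpen_eq_zero_of_pow_mul {Y : Scheme.{u}} {O : Y.Opens} (s x : Γ(Y, O)) (n : ℕ)
    (hn : s ^ n * x = 0) : Y.presheaf.map (homOfLE (Y.basicOpen_le s)).op x = 0 := by
  have h1 := congrArg (Y.presheaf.map (homOfLE (Y.basicOpen_le s)).op).hom hn
  rw [map_mul, map_zero, map_pow] at h1
  have hunit : IsUnit ((Y.presheaf.map (homOfLE (Y.basicOpen_le s)).op).hom s ^ n) :=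
    (RingedSpace.isUnit_res_basicOpen Y.toRingedSpace s).pow n
  exact (hunit.mul_right_eq_zero).mp h1

/-- sections of the structure sheaf vanishing on a cover vanish -/
theorem eq_zero_of_cover {Y : Scheme.{u}} {κ : Type*} (W : κ → Y.Opens) (V : Y.Opens)
    (hle : ∀ j, W j ≤ V) (hcov : V ≤ ⨆ j, W j) (x : Γ(Y, V))
    (hx : ∀ j, Y.presheaf.map (homOfLE (hle j)).op x = 0) : x = 0 := by
  apply TopCat.Sheaf.eq_of_locally_eq' Y.sheaf W V (fun j => homOfLE (hle j)) hcov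
  intro j
  exact (hx j).trans (map_zero (Y.presheaf.map (homOfLE (hle j)).op).hom).symm

/-- **the structure family of a schematically dominant family is sheaf-separating** -/
theorem exists_pow_mul_eq_zero_of_schDominant {X : Scheme.{u}} {ι : Type v} (Z : ι → Scheme.{u})
    (f : ∀ i, Z i ⟶ X)
    (h : ∀ (V : X.Opens) (t : Γ(X, V)), (∀ i, (f i).app V t = 0) → t = 0)
    {U : X.Opens} (hU : IsAffineOpen U) (a m : Γ(X, U))
    (hyp : ∀ (i : ι) (Z' : (Z i).Opens) (_ : IsAffineOpen Z') (eZ : Z' ≤ f i ⁻¹ᵁ U),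
      ∃ n : ℕ, (f i).appLE U Z' eZ (a ^ n * m) = 0) : ∃ n : ℕ, a ^ n * m = 0 := by
  apply exists_pow_mul_eq_zero_of_res_basicOpen_eq_zero_of_isAffineOpen X hU m a
  change X.presheaf.map (homOfLE (X.basicOpen_le a)).op m = 0
  apply h (X.basicOpen a)
  intro i
  let O : {Z' : (Z i).Opens // IsAffineOpen Z' ∧ Z' ≤ f i ⁻¹ᵁ U} → (Z i).Opens :=
    fun Z' => (Z i).basicOpen ((f i).appLE U Z'.1 Z'.2.2 a)
  have hOZ : ∀ Z', O Z' ≤ Z'.1 := fun Z' => (Z i).basicOpen_le _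
  have hO : ∀ Z', O Z' ≤ f i ⁻¹ᵁ X.basicOpen a := by
    intro Z'
    rw [Scheme.preimage_basicOpen]
    exact (Scheme.basicOpen_res _ _ _).trans_le inf_le_right
  apply eq_zero_of_cover O _ hO
  · intro z hz
    have hzU : z ∈ f i ⁻¹ᵁ U := (X.basicOpen_le a) hz
    obtain ⟨Z', hZ', hzZ', hZ'U⟩ := exists_isAffineOpen_mem_and_subset (x := z) hzU
    refine Opens.mem_iSup.mpr ⟨⟨Z', hZ', hZ'U⟩, ?_⟩
    change z ∈ (Z i).basicOpen ((Z i).presheaf.map _ ((f i).app U a))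
    rw [Scheme.basicOpen_res]
    refine ⟨hzZ', ?_⟩
    rw [← Scheme.preimage_basicOpen]
    exact hz
  · intro Z'
    have e1 : X.presheaf.map (homOfLE (X.basicOpen_le a)).op ≫ (f i).app (X.basicOpen a) ≫
        (Z i).presheaf.map (homOfLE (hO Z')).op =
        (f i).appLE U Z'.1 Z'.2.2 ≫ (Z i).presheaf.map (homOfLE (hOZ Z')).op := by
      rw [Scheme.Hom.appLE_map]
      change X.presheaf.map _ ≫ (f i).appLE (X.basicOpen a) (O Z') (hO Z') = _
      rw [Scheme.Hom.map_appLE]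
    have e2 := congr($(e1).hom m)
    simp only [CommRingCat.hom_comp, RingHom.comp_apply] at e2
    refine e2.trans ?_
    obtain ⟨n, hn⟩ := hyp i Z'.1 Z'.2.1 Z'.2.2
    rw [map_mul, map_pow] at hn
    exact map_basicOpen_eq_zero_of_pow_mul _ _ n hn

section Vanish

variable {Zi X X' : Scheme.{u}} (fi : Zi ⟶ X) (g : X' ⟶ X) {U : X.Opens} (hU : IsAffineOpen U)
  {W : X'.Opens} (hW : IsAffineOpen W) (eW : W ≤ g ⁻¹ᵁ U) {Z' : Zi.Opens} (hZ' : IsAffineOpen Z')
  (eZ : Z' ≤ fi ⁻¹ᵁ U) [Algebra Γ(X, U) Γ(Zi, Z')] [Algebra Γ(X, U) Γ(X', W)]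
  (hN : CommRingCat.ofHom (algebraMap Γ(X, U) Γ(Zi, Z')) = fi.appLE U Z' eZ)
  (hC : CommRingCat.ofHom (algebraMap Γ(X, U) Γ(X', W)) = g.appLE U W eW)

include hU hW eW hZ' eZ hN hC in
/-- a function on `W ⊂ X'` whose pullback to `Z ×_X X'` vanishes dies in `Γ(Z') ⊗ Γ(W)` -/
theorem one_tmul_eq_zero (c : Γ(X', W)) (hc : (pullback.snd fi g).app W c = 0) :
    (1 : Γ(Zi, Z')) ⊗ₜ[Γ(X, U)] c = 0 := by
  let R := CommRingCat.of (Γ(Zi, Z') ⊗[Γ(X, U)] Γ(X', W))
  let inclL : Γ(Zi, Z') ⟶ R := CommRingCat.ofHom Algebra.TensorProduct.includeLeftRingHom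
  let inclR : Γ(X', W) ⟶ R := CommRingCat.ofHom
    (Algebra.TensorProduct.includeRight (R := Γ(X, U)) (A := Γ(Zi, Z')) (B := Γ(X', W))).toRingHom
  have hcomm : fi.appLE U Z' eZ ≫ inclL = g.appLE U W eW ≫ inclR := by
    rw [← hN, ← hC]
    ext a
    change (algebraMap Γ(X, U) Γ(Zi, Z') a) ⊗ₜ[Γ(X, U)] (1 : Γ(X', W)) =
      (1 : Γ(Zi, Z')) ⊗ₜ[Γ(X, U)] (algebraMap Γ(X, U) Γ(X', W) a)
    rw [Algebra.algebraMap_eq_smul_one, Algebra.algebraMap_eq_smul_one, TensorProduct.smul_tmul]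
  have hsq : (Spec.map inclL ≫ hZ'.fromSpec) ≫ fi = (Spec.map inclR ≫ hW.fromSpec) ≫ g := by
    rw [Category.assoc, Category.assoc, ← IsAffineOpen.SpecMap_appLE_fromSpec fi hU hZ' eZ,
      ← IsAffineOpen.SpecMap_appLE_fromSpec g hU hW eW, ← Spec.map_comp_assoc,
      ← Spec.map_comp_assoc, hcomm]
  let χ : Spec R ⟶ pullback fi g := pullback.lift _ _ hsq
  have hχ : χ ≫ pullback.snd fi g = Spec.map inclR ≫ hW.fromSpec := pullback.lift_snd _ _ _
  have e : (⊤ : (Spec R).Opens) ≤ (χ ≫ pullback.snd fi g) ⁻¹ᵁ W := by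
    rw [hχ]
    intro z _
    have := Set.mem_range_self (f := hW.fromSpec) ((Spec.map inclR) z)
    rw [hW.range_fromSpec] at this
    exact this
  have key := appLE_eq_of_eq hW (χ ≫ pullback.snd fi g) inclR hχ e
  have h2 : (χ ≫ pullback.snd fi g).appLE W ⊤ e =
      (pullback.snd fi g).app W ≫ χ.appLE ((pullback.snd fi g) ⁻¹ᵁ W) ⊤ e := by
    rw [Scheme.Hom.app_eq_appLE, Scheme.Hom.appLE_comp_appLE]
  have h3 := congr($(key).hom c)
  rw [h2] at h3
  simp only [CommRingCat.hom_comp, RingHom.comp_apply] at h3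
  rw [hc, map_zero, map_zero] at h3
  exact h3.symm

end Vanish

/-- **affine-local statement** for a general flat algebra satisfying the ring-level conclusion -/
theorem eq_zero_of_affine {X X' : Scheme.{u}} {ι : Type v} (Z : ι → Scheme.{u})
    (f : ∀ i, Z i ⟶ X) (g : X' ⟶ X)
    (h : ∀ (V : X.Opens) (t : Γ(X, V)), (∀ i, (f i).app V t = 0) → t = 0)
    {U : X.Opens} (hU : IsAffineOpen U) {W : X'.Opens} (hW : IsAffineOpen W) (eW : W ≤ g ⁻¹ᵁ U)
    (hJI : letI := (g.appLE U W eW).hom.toAlgebra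
      ∀ {κ : Type (max u v)} {N : κ → Type u} [∀ j, AddCommGroup (N j)]
        [∀ j, Module Γ(X, U) (N j)] (w : ∀ j, Γ(X, U) →ₗ[Γ(X, U)] N j),
        SheafSep w → JIl Γ(X', W) w)
    (c : Γ(X', W)) (hc : ∀ i, (pullback.snd (f i) g).app W c = 0) : c = 0 := by
  letI algC : Algebra Γ(X, U) Γ(X', W) := (g.appLE U W eW).hom.toAlgebra
  let J := Σ i : ι, {Z' : (Z i).Opens // IsAffineOpen Z' ∧ Z' ≤ f i ⁻¹ᵁ U}
  let N : J → Type u := fun j => Γ(Z j.1, j.2.1)
  letI algN : ∀ j, Algebra Γ(X, U) (N j) := fun j =>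
    ((f j.1).appLE U j.2.1 j.2.2.2).hom.toAlgebra
  let w : ∀ j, Γ(X, U) →ₗ[Γ(X, U)] N j := fun j => Algebra.linearMap Γ(X, U) (N j)
  have hsep : SheafSep w := by
    intro a m hm
    obtain ⟨n, hn⟩ := exists_pow_mul_eq_zero_of_schDominant Z f h hU a m (fun i Z' hZ' eZ => by
      obtain ⟨n, hn⟩ := hm ⟨i, ⟨Z', hZ', eZ⟩⟩
      refine ⟨n, ?_⟩
      have e1 : (f i).appLE U Z' eZ (a ^ n * m) =
          a ^ n • (algebraMap Γ(X, U) (N ⟨i, ⟨Z', hZ', eZ⟩⟩) m) := by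
        rw [Algebra.smul_def, ← map_mul]
        rfl
      rw [e1]
      exact hn)
    exact ⟨n, by rw [smul_eq_mul]; exact hn⟩
  have hτ : ∀ j, (w j).lTensor Γ(X', W) (c ⊗ₜ[Γ(X, U)] (1 : Γ(X, U))) = 0 := by
    intro j
    rw [LinearMap.lTensor_tmul]
    have h1 := one_tmul_eq_zero (f j.1) g hU hW eW j.2.2.1 j.2.2.2 rfl rfl c (hc j.1)
    have h2 := congrArg (TensorProduct.comm Γ(X, U) (N j) Γ(X', W)) h1
    rw [map_zero, TensorProduct.comm_tmul] at h2
    have e2 : w j 1 = (1 : N j) := map_one (algebraMap Γ(X, U) (N j))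
    rw [e2]
    exact h2
  have h0 := hJI w hsep _ hτ
  have h3 := congrArg (TensorProduct.rid Γ(X, U) Γ(X', W)) h0
  rw [TensorProduct.rid_tmul, one_smul, map_zero] at h3
  exact h3

/-- **EGA IV 11.10.5 (ii)**: a schematically dominant family of morphisms stays schematically
dominant after a flat base change locally of finite presentation. -/
theorem schDominant_baseChange_fp {X X' : Scheme.{u}} {ι : Type v} (Z : ι → Scheme.{u})
    (f : ∀ i, Z i ⟶ X) (g : X' ⟶ X) [Flat g] [LocallyOfFinitePresentation g]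
    (h : ∀ (V : X.Opens) (t : Γ(X, V)), (∀ i, (f i).app V t = 0) → t = 0)
    (V : X'.Opens) (t : Γ(X', V)) (ht : ∀ i, (pullback.snd (f i) g).app V t = 0) : t = 0 := by
  have hex : ∀ x : V, ∃ (U : X.Opens) (W : X'.Opens), IsAffineOpen U ∧ IsAffineOpen W ∧
      x.1 ∈ W ∧ W ≤ V ∧ W ≤ g ⁻¹ᵁ U := by
    intro x
    obtain ⟨U, hU, hxU, -⟩ := exists_isAffineOpen_mem_and_subset
      (x := g.base x.1) (U := ⊤) (Opens.mem_top _)
    obtain ⟨W, hW, hxW, hWle⟩ := exists_isAffineOpen_mem_and_subset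
      (x := x.1) (U := V ⊓ g ⁻¹ᵁ U) ⟨x.2, hxU⟩
    exact ⟨U, W, hU, hW, hxW, hWle.trans inf_le_left, hWle.trans inf_le_right⟩
  choose U W hU hW hxW hWV hWU using hex
  apply eq_zero_of_cover W V hWV
  · intro y hy
    exact Opens.mem_iSup.mpr ⟨⟨y, hy⟩, hxW ⟨y, hy⟩⟩
  · intro x
    refine eq_zero_of_affine Z f g h (hU x) (hW x) (hWU x) ?_ _ (fun i => ?_)
    · letI alg := (g.appLE (U x) (W x) (hWU x)).hom.toAlgebra
      haveI : Module.Flat Γ(X, U x) Γ(X', W x) :=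
        HasRingHomProperty.appLE (P := @Flat) g ‹Flat g› ⟨U x, hU x⟩ ⟨W x, hW x⟩ (hWU x)
      haveI : Algebra.FinitePresentation Γ(X, U x) Γ(X', W x) :=
        HasRingHomProperty.appLE (P := @LocallyOfFinitePresentation) g
          ‹LocallyOfFinitePresentation g› ⟨U x, hU x⟩ ⟨W x, hW x⟩ (hWU x)
      intro κ N _ _ w hw τ hτ
      exact eq_zero_of_flat_fp (A := Γ(X, U x)) Γ(X', W x) w hw τ hτ
    · have nat := (pullback.snd (f i) g).naturality (homOfLE (hWV x)).op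
      have h1 := congr($(nat).hom t)
      simp only [CommRingCat.hom_comp, RingHom.comp_apply] at h1
      refine h1.trans ?_
      rw [ht i, map_zero]

end Groth.Agent.Lib.helper3.SchDomFP
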