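import Groth.Agent.Lib.Helper3.SepPullField2
import Groth.Agent.Lib.Helper3.SchDomFP

/-!
# Schematically dominant families and base change over a field (helper3, EGA IV 11.10.6)
-/

set_option autoImplicit false
set_option linter.style.haveILetI false
set_option linter.unusedSectionVars false
universe u v
open CategoryTheory CategoryTheory.Limits AlgebraicGeometry TopologicalSpace Opposite TensorProduct

namespace Groth.Agent.Lib.helper3.SchDomField

open Groth.Agent.Lib.helper3.SepNoeth Groth.Agent.Lib.helper3.SepFP
  Groth.Agent.Lib.helper3.SepPullField Groth.Agent.Lib.helper3.SchDomFP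

/-- vanishing of a pulled back function can be tested after composing with an isomorphism -/
theorem app_eq_zero_of_comp {X Y Z : Scheme.{u}} (e : X ⟶ Y) [IsIso e] (s : Y ⟶ Z) (F : X ⟶ Z)
    (hF : F = e ≫ s) (W : Z.Opens) (c : Γ(Z, W)) (h : F.app W c = 0) : s.app W c = 0 := by
  subst hF
  rw [Scheme.Hom.comp_app] at h
  have hinj : Function.Injective (e.app (s ⁻¹ᵁ W)).hom :=
    (ConcreteCategory.bijective_of_isIso (e.app (s ⁻¹ᵁ W))).1
  apply hinj
  rw [map_zero]
  exact h

/-- **EGA IV 11.10.6**: over a field, a schematically dominant family of morphisms stays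
schematically dominant after an arbitrary base change `S' ⟶ Spec k`. -/
theorem schDominant_baseChange_field {k : Type u} [Field k] {X S' : Scheme.{u}}
    (p : X ⟶ Spec (CommRingCat.of k)) (q : S' ⟶ Spec (CommRingCat.of k))
    {ι : Type v} (Z : ι → Scheme.{u}) (f : ∀ i, Z i ⟶ X)
    (h : ∀ (V : X.Opens) (t : Γ(X, V)), (∀ i, (f i).app V t = 0) → t = 0)
    (V : (pullback p q).Opens) (t : Γ(pullback p q, V))
    (ht : ∀ i, (pullback.map (f i ≫ p) q p q (f i) (𝟙 S') (𝟙 _) (Category.comp_id _)
      ((Category.comp_id _).trans (Category.id_comp _).symm)).app V t = 0) : t = 0 := by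
  have hF : ∀ i, pullback.map (f i ≫ p) q p q (f i) (𝟙 S') (𝟙 _) (Category.comp_id _)
      ((Category.comp_id _).trans (Category.id_comp _).symm) =
      (pullbackRightPullbackFstIso p q (f i)).inv ≫ pullback.snd (f i) (pullback.fst p q) := by
    intro i
    apply pullback.hom_ext
    · rw [pullback.map, pullback.lift_fst, Category.assoc,
        pullbackRightPullbackFstIso_inv_snd_fst]
    · rw [pullback.map, pullback.lift_snd, Category.assoc,
        pullbackRightPullbackFstIso_inv_snd_snd, Category.comp_id]
  have hloc : ∀ x : V, ∃ (W : (pullback p q).Opens) (hWV : W ≤ V), x.1 ∈ W ∧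
      (pullback p q).presheaf.map (homOfLE hWV).op t = 0 := by
    intro x
    obtain ⟨U, W, hU, hW, hWV, eW, hxW, hJI⟩ := exists_chart_JIl.{u, max u v} p q V x
    refine ⟨W, hWV, hxW, ?_⟩
    refine eq_zero_of_affine Z f (pullback.fst p q) h hU hW eW (fun w hw => hJI w hw) _
      (fun i => ?_)
    have nat := (pullback.map (f i ≫ p) q p q (f i) (𝟙 S') (𝟙 _) (Category.comp_id _)
      ((Category.comp_id _).trans (Category.id_comp _).symm)).naturality (homOfLE hWV).op
    have h1 := congr($(nat).hom t)
    simp only [CommRingCat.hom_comp, RingHom.comp_apply] at h1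
    rw [ht i, map_zero] at h1
    exact app_eq_zero_of_comp _ _ _ (hF i) W _ h1
  choose W hWV hxW hW0 using hloc
  apply eq_zero_of_cover W V hWV
  · intro y hy
    exact Opens.mem_iSup.mpr ⟨⟨y, hy⟩, hxW ⟨y, hy⟩⟩
  · intro x
    exact hW0 x

end Groth.Agent.Lib.helper3.SchDomField
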