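import Groth.Agent.Lib.Helper3.SchDomSC

/-!
# Universal schematic dominance is a fibrewise condition (helper3, EGA IV 11.10.9)
-/

set_option autoImplicit false
set_option linter.style.haveILetI false
set_option linter.unusedSectionVars false
universe u v
open CategoryTheory CategoryTheory.Limits AlgebraicGeometry TopologicalSpace Opposite TensorProduct

namespace Groth.Agent.Lib.helper3.SchDomMain

open Groth.Agent.Lib.helper3.SepNoeth Groth.Agent.Lib.helper3.SepFP
  Groth.Agent.Lib.helper3.SchDomChart Groth.Agent.Lib.helper3.SchDomAff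
  Groth.Agent.Lib.helper3.SchDomCore Groth.Agent.Lib.helper3.SchDomT5
  Groth.Agent.Lib.helper3.SchDomSC Groth.Agent.Lib.helper3.SchDomStage

/-- the fibrewise hypothesis gives schematic dominance over every field-valued point -/
theorem fieldDominant_of_fibrewise {X S : Scheme.{u}} (p : X ⟶ S) {ι : Type v}
    (Z : ι → Scheme.{u}) (f : ∀ i, Z i ⟶ X)
    (H : ∀ (s : S) (V : (pullback p (S.fromSpecResidueField s)).Opens)
      (t : Γ(pullback p (S.fromSpecResidueField s), V)),
      (∀ i, (bcMap (f i) p (S.fromSpecResidueField s)).app V t = 0) → t = 0) :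
    FieldDominant p Z f := by
  intro K _ hK
  obtain ⟨s, φ, rfl⟩ : ∃ (s : S) (φ : S.residueField s ⟶ CommRingCat.of K),
      hK = Spec.map φ ≫ S.fromSpecResidueField s :=
    ⟨_, _, (Scheme.descResidueField_stalkClosedPointTo_fromSpecResidueField K S hK).symm⟩
  refine schDom_comp_of_iterated p Z f (S.fromSpecResidueField s) (Spec.map φ) ?_
  intro V t ht
  exact Groth.Agent.Lib.helper3.SchDomField.schDominant_baseChange_field
    (k := S.residueField s) (pullback.snd p (S.fromSpecResidueField s)) (Spec.map φ)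
    (fun i => pullback (f i ≫ p) (S.fromSpecResidueField s))
    (fun i => bcMap (f i) p (S.fromSpecResidueField s)) (H s) V t ht

section Main

variable {X S : Scheme.{u}} [IsLocallyNoetherian X] (p : X ⟶ S) {ι : Type v} (Z : ι → Scheme.{u})
  (f : ∀ i, Z i ⟶ X) [∀ i, Flat (f i ≫ p)]

/-- sheaf-separation of the family of coordinate rings after a base change of finite type -/
theorem sheafSep_baseChange_of_finiteType (hF : FieldDominant p Z f) {S₀ : S.Opens}
    (hS₀ : IsAffineOpen S₀) {U : X.Opens} (hU : IsAffineOpen U) (eU : U ≤ p ⁻¹ᵁ S₀)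
    [Algebra Γ(S, S₀) Γ(X, U)]
    (hA : CommRingCat.ofHom (algebraMap Γ(S, S₀) Γ(X, U)) = p.appLE S₀ U eU)
    (A'' : Type u) [CommRing A''] [Algebra Γ(S, S₀) A''] [Algebra.FiniteType Γ(S, S₀) A''] :
    SheafSep (fun j => (affFam Z f U j).baseChange (Γ(X, U) ⊗[Γ(S, S₀)] A'')) := by
  let g'' : Spec (CommRingCat.of A'') ⟶ S :=
    Spec.map (CommRingCat.ofHom (algebraMap Γ(S, S₀) A'')) ≫ hS₀.fromSpec
  haveI : LocallyOfFiniteType (Spec.map (CommRingCat.ofHom (algebraMap Γ(S, S₀) A''))) := by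
    rw [HasRingHomProperty.Spec_iff (P := @LocallyOfFiniteType)]
    exact (RingHom.finiteType_algebraMap).mpr inferInstance
  haveI : LocallyOfFiniteType g'' := inferInstanceAs (LocallyOfFiniteType (_ ≫ _))
  haveI : IsLocallyNoetherian (pullback p g'') :=
    LocallyOfFiniteType.isLocallyNoetherian (pullback.fst p g'')
  haveI : ∀ i, Flat (bcMap (f i) p g'' ≫ pullback.snd p g'') := fun i => by
    rw [bcMap_snd]
    infer_instance
  have hF'' : FieldDominant (pullback.snd p g'') (fun i => pullback (f i ≫ p) g'')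
      (fun i => bcMap (f i) p g'') := by
    intro K _ hK V t ht
    exact schDom_iterated_of_comp p Z f g'' hK (hF K (hK ≫ g'')) V t ht
  have hdom := schDominant_of_fieldDominant (pullback.snd p g'') _ _ hF''
  exact sheafSep_of_schDominant p g'' Z f hS₀ hU eU (𝟙 _) hA (Category.id_comp _).symm hdom

/-- **EGA IV 11.10.9 (sufficiency)**: `X` locally Noetherian, the `Z_i` flat over `S`; if the
family is schematically dominant over every field-valued point of `S`, it is universally
schematically dominant. -/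
theorem univ_schDominant_of_fieldDominant (hF : FieldDominant p Z f) {S' : Scheme.{u}}
    (g : S' ⟶ S) (V : (pullback p g).Opens) (t : Γ(pullback p g, V))
    (ht : ∀ i, (bcMap (f i) p g).app V t = 0) : t = 0 := by
  have hFi : ∀ i, bcMap (f i) p g =
      (pullbackRightPullbackFstIso p g (f i)).inv ≫ pullback.snd (f i) (pullback.fst p g) := by
    intro i
    apply pullback.hom_ext
    · rw [pullback.lift_fst, Category.assoc, pullbackRightPullbackFstIso_inv_snd_fst]
    · rw [pullback.lift_snd, Category.assoc, pullbackRightPullbackFstIso_inv_snd_snd,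
        Category.comp_id]
  have hloc : ∀ x : V, ∃ (W : (pullback p g).Opens) (hWV : W ≤ V), x.1 ∈ W ∧
      (pullback p g).presheaf.map (homOfLE hWV).op t = 0 := by
    intro x
    obtain ⟨S₀, hS₀, hxS₀, -⟩ := exists_isAffineOpen_mem_and_subset
      (x := p ((pullback.fst p g) x.1)) (U := ⊤) (Opens.mem_top _)
    have hxS₀' : g ((pullback.snd p g) x.1) ∈ S₀ := by
      rw [← Scheme.Hom.comp_apply, ← pullback.condition, Scheme.Hom.comp_apply]
      exact hxS₀
    obtain ⟨U, hU, hxU, eU⟩ := exists_isAffineOpen_mem_and_subset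
      (x := (pullback.fst p g) x.1) (U := p ⁻¹ᵁ S₀) hxS₀
    obtain ⟨T, hT, hxT, eT⟩ := exists_isAffineOpen_mem_and_subset
      (x := (pullback.snd p g) x.1) (U := g ⁻¹ᵁ S₀) hxS₀'
    letI algAB : Algebra Γ(S, S₀) Γ(X, U) := (p.appLE S₀ U eU).hom.toAlgebra
    letI algAC : Algebra Γ(S, S₀) Γ(S', T) := (g.appLE S₀ T eT).hom.toAlgebra
    have hA : CommRingCat.ofHom (algebraMap Γ(S, S₀) Γ(X, U)) = p.appLE S₀ U eU := rfl
    have hA' := hA_spec p hS₀ hU eU hA
    have hB : Spec.map (CommRingCat.ofHom (algebraMap Γ(S, S₀) Γ(S', T))) ≫ hS₀.fromSpec =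
        hT.fromSpec ≫ g := IsAffineOpen.SpecMap_appLE_fromSpec g hS₀ hT eT
    have hW₀ : IsAffineOpen ((chart p g hS₀ hU hT.fromSpec hA' hB) ''ᵁ ⊤) :=
      (isAffineOpen_top _).image_of_isOpenImmersion _
    have hxW₀ : x.1 ∈ (chart p g hS₀ hU hT.fromSpec hA' hB) ''ᵁ ⊤ := by
      obtain ⟨z, hz⟩ := mem_range_chart p g hS₀ hU hT.fromSpec hA' hB x.1 hxU (by
        rw [hT.range_fromSpec]
        exact hxT)
      exact ⟨z, trivial, hz⟩
    have e₀ := image_top_le p g hS₀ hU hT.fromSpec hA' hB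
    obtain ⟨f₀, hf₀V, hxf₀⟩ := hW₀.exists_basicOpen_le x hxW₀
    have hW : IsAffineOpen ((pullback p g).basicOpen f₀) := hW₀.basicOpen f₀
    have hWW₀ : (pullback p g).basicOpen f₀ ≤ (chart p g hS₀ hU hT.fromSpec hA' hB) ''ᵁ ⊤ :=
      (pullback p g).basicOpen_le f₀
    have eW : (pullback p g).basicOpen f₀ ≤ (pullback.fst p g) ⁻¹ᵁ U := hWW₀.trans e₀
    refine ⟨(pullback p g).basicOpen f₀, hf₀V, hxf₀, ?_⟩
    refine eq_zero_of_affine_of_JIl Z f (pullback.fst p g) hU hW eW ?_ _ (fun i => ?_)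
    · letI algC₀ : Algebra Γ(X, U) Γ(pullback p g, (chart p g hS₀ hU hT.fromSpec hA' hB) ''ᵁ ⊤) :=
        ((pullback.fst p g).appLE U _ e₀).hom.toAlgebra
      letI algC : Algebra Γ(X, U) Γ(pullback p g, (pullback p g).basicOpen f₀) :=
        ((pullback.fst p g).appLE U _ eW).hom.toAlgebra
      haveI : IsScalarTower Γ(X, U) Γ(pullback p g, (chart p g hS₀ hU hT.fromSpec hA' hB) ''ᵁ ⊤)
          Γ(pullback p g, (pullback p g).basicOpen f₀) :=
        IsScalarTower.of_algebraMap_eq (fun a => by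
          have := (pullback.fst p g).appLE_map e₀ (homOfLE hWW₀).op
          exact (congr($(this).hom a)).symm)
      haveI : IsLocalization.Away f₀ Γ(pullback p g, (pullback p g).basicOpen f₀) :=
        hW₀.isLocalization_basicOpen f₀
      let eAlg : (Γ(X, U) ⊗[Γ(S, S₀)] Γ(S', T)) ≃ₐ[Γ(X, U)]
          Γ(pullback p g, (chart p g hS₀ hU hT.fromSpec hA' hB) ''ᵁ ⊤) :=
        AlgEquiv.ofRingEquiv
          (f := (chartIso p g hS₀ hU hT.fromSpec hA' hB).commRingCatIsoToRingEquiv)
          (fun a => by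
            have := chartIso_compat p g hS₀ hU hT.fromSpec hA' hB
            exact (congr($(this).hom a)).symm)
      -- flatness data over the base
      have eZS : ∀ j : AffIdx Z f U, j.2.1 ≤ (f j.1 ≫ p) ⁻¹ᵁ S₀ :=
        fun j z hz => eU (j.2.2.2 hz)
      letI algAN : ∀ j : AffIdx Z f U, Algebra Γ(S, S₀) (AffSec Z f U j) := fun j =>
        ((f j.1 ≫ p).appLE S₀ j.2.1 (eZS j)).hom.toAlgebra
      haveI tower : ∀ j, IsScalarTower Γ(S, S₀) Γ(X, U) (AffSec Z f U j) := fun j =>
        IsScalarTower.of_algebraMap_eq (fun a => by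
          have := Scheme.Hom.appLE_comp_appLE (f j.1) p S₀ U j.2.1 eU j.2.2.2
          exact (congr($(this).hom a)).symm)
      haveI flat : ∀ j, Module.Flat Γ(S, S₀) (AffSec Z f U j) := fun j =>
        HasRingHomProperty.appLE (P := @Flat) (f j.1 ≫ p) inferInstance ⟨S₀, hS₀⟩
          ⟨j.2.1, j.2.2.1⟩ (eZS j)
      have hsep' : SheafSep (fun j => (affFam Z f U j).baseChange
          (Γ(X, U) ⊗[Γ(S, S₀)] Γ(S', T))) := by
        refine sheafSep_baseChange_of_fg (k := Γ(S, S₀)) (A := Γ(X, U)) Γ(S', T)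
          (affFam Z f U) (fun A'' hfg => ?_)
        haveI : Algebra.FiniteType Γ(S, S₀) A'' := (Subalgebra.fg_iff_finiteType A'').mp hfg
        exact sheafSep_baseChange_of_finiteType p Z f hF hS₀ hU eU hA A''
      have hsep'' := Groth.Agent.Lib.helper3.SepPullField.sheafSep_baseChange_of_algEquiv eAlg _
        hsep'
      exact Groth.Agent.Lib.helper3.SepField.JIl_of_sheafSep_baseChange
        Γ(pullback p g, (chart p g hS₀ hU hT.fromSpec hA' hB) ''ᵁ ⊤) _ hsep'' f₀
        Γ(pullback p g, (pullback p g).basicOpen f₀)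
    · have nat := (bcMap (f i) p g).naturality (homOfLE hf₀V).op
      have h1 := congr($(nat).hom t)
      simp only [CommRingCat.hom_comp, RingHom.comp_apply] at h1
      rw [ht i, map_zero] at h1
      exact Groth.Agent.Lib.helper3.SchDomField.app_eq_zero_of_comp _ _ _ (hFi i) _ _ h1
  choose W hWV hxW hW0 using hloc
  apply Groth.Agent.Lib.helper3.SchDomFP.eq_zero_of_cover W V hWV
  · intro y hy
    exact Opens.mem_iSup.mpr ⟨⟨y, hy⟩, hxW ⟨y, hy⟩⟩
  · intro x
    exact hW0 x

end Main

end Groth.Agent.Lib.helper3.SchDomMain
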