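import Mathlib
import Groth.Agent.Lib.Helper3.SchDomCore3

/-!
# Sheaf-separating families and nilpotent thickenings with free graded pieces (helper3,
EGA IV 11.9.x)
-/

set_option autoImplicit false
set_option linter.style.haveILetI false
set_option linter.unusedSectionVars false
universe u v w

open TensorProduct

namespace Groth.Agent.Lib.helper3.SchDomNil

open Groth.Agent.Lib.helper3.SepNoeth Groth.Agent.Lib.helper3.SchDomCore

section Free

variable {A : Type*} [CommRing A] {R : Type*} [CommRing R] [Algebra A R]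
  {M : Type*} [AddCommGroup M] [Module R M] [Module A M] [IsScalarTower A R M]
  {ι : Type*} {N : ι → Type*} [∀ j, AddCommGroup (N j)] [∀ j, Module R (N j)]
  [∀ j, Module A (N j)] [∀ j, IsScalarTower A R (N j)] (u : ∀ j, M →ₗ[R] N j) (b : R)

/-- from a ring to its free modules -/
theorem PB.of_free {K : Type*} [CommRing K] [Algebra A K] (h : PB A u b K) (E : Type*)
    [AddCommGroup E] [Module A E] [Module K E] [IsScalarTower A K E] [Module.Free K E] :
    PB A u b E := by
  classical
  let bas := Module.Free.chooseBasis K E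
  let J := Module.Free.ChooseBasisIndex K E
  let e : E ≃ₗ[A] (J →₀ K) := bas.repr.restrictScalars A
  refine PB.of_linearEquiv u b e ?_
  intro y hy
  have hcomp : ∀ α : J, ∃ n : ℕ, b ^ n • lT R M (Finsupp.lapply (R := A) (M := K) α) y = 0 := by
    intro α
    apply h
    intro j
    obtain ⟨n, hn⟩ := hy j
    refine ⟨n, ?_⟩
    rw [rT_lT, ← map_smul, hn, map_zero]
  choose n hn using hcomp
  let s := (TensorProduct.finsuppRight A R M K J y).support
  refine ⟨s.sup n, ?_⟩
  apply (TensorProduct.finsuppRight A R M K J).injective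
  rw [map_smul, map_zero]
  ext α
  rw [Finsupp.smul_apply, Finsupp.zero_apply]
  by_cases hα : α ∈ s
  · have h1 : TensorProduct.finsuppRight A R M K J y α =
        lT R M (Finsupp.lapply (R := A) (M := K) α) y :=
      TensorProduct.finsuppRight_apply y α
    rw [h1]
    obtain ⟨k, hk⟩ := Nat.exists_eq_add_of_le (Finset.le_sup (f := n) hα)
    rw [hk, pow_add, mul_comm, mul_smul, hn α, smul_zero]
  · rw [Finsupp.notMem_support_iff.mp hα, smul_zero]

/-- `PB` for the base ring itself is sheaf-separation at `b` -/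
theorem exists_pow_smul_eq_zero_of_PB (h : PB A u b A) (m : M)
    (hm : ∀ j, ∃ n : ℕ, b ^ n • u j m = 0) : ∃ n : ℕ, b ^ n • m = 0 := by
  obtain ⟨n, hn⟩ := h (m ⊗ₜ[A] (1 : A)) (fun j => by
    obtain ⟨n, hn⟩ := hm j
    refine ⟨n, ?_⟩
    change b ^ n • ((u j m) ⊗ₜ[A] (1 : A)) = 0
    rw [TensorProduct.smul_tmul', hn, TensorProduct.zero_tmul])
  refine ⟨n, ?_⟩
  rw [TensorProduct.smul_tmul'] at hn
  have := congrArg (TensorProduct.rid A M) hn
  rw [TensorProduct.rid_tmul, one_smul, map_zero] at this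
  exact this

end Free

section Tensor

variable {A : Type*} [CommRing A] (J I : Ideal A)

/-- `1 ⊗ x = 0` in `(A/J) ⊗ I` iff `x ∈ J I` -/
theorem one_tmul_eq_zero_iff (x : ↥I) : (1 : A ⧸ J) ⊗ₜ[A] x = 0 ↔ (x : A) ∈ J * I := by
  rw [← (TensorProduct.quotTensorEquivQuotSMul ↥I J).map_eq_zero_iff,
    TensorProduct.quotTensorEquivQuotSMul_mk_one_tmul, Submodule.Quotient.mk_eq_zero,
    Submodule.mem_smul_top_iff, Ideal.smul_eq_mul]

theorem mk_one_surjective : Function.Surjective (TensorProduct.mk A (A ⧸ J) ↥I 1) := by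
  intro y
  induction y using TensorProduct.induction_on with
  | zero => exact ⟨0, map_zero _⟩
  | tmul c x =>
    obtain ⟨a, rfl⟩ := Ideal.Quotient.mk_surjective c
    refine ⟨a • x, ?_⟩
    change (1 : A ⧸ J) ⊗ₜ[A] (a • x) = _
    rw [TensorProduct.tmul_smul, TensorProduct.smul_tmul', Algebra.smul_def, mul_one]
    rfl
  | add y z hy hz =>
    obtain ⟨y', rfl⟩ := hy
    obtain ⟨z', rfl⟩ := hz
    exact ⟨y' + z', map_add _ _ _⟩

end Tensor

section Nilp

variable {A₀ : Type*} [CommRing A₀] {R : Type*} [CommRing R] [Algebra A₀ R]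
  {M : Type*} [AddCommGroup M] [Module R M] [Module A₀ M] [IsScalarTower A₀ R M]
  {ι : Type*} {N : ι → Type*} [∀ j, AddCommGroup (N j)] [∀ j, Module R (N j)]
  [∀ j, Module A₀ (N j)] [∀ j, IsScalarTower A₀ R (N j)] [∀ j, Module.Flat A₀ (N j)]
  (u : ∀ j, M →ₗ[R] N j)
  {A : Type*} [CommRing A] (e : A₀ ≃+* A) (J : Ideal A)

/-- **nilpotent thickenings with free graded pieces**: sheaf-separation modulo a nilpotent ideal
`J` with `(A/J) ⊗ J^k` free lifts, for flat targets. The base ring `A₀` is identified with `A` by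
the ring isomorphism `e`. -/
theorem sheafSep_of_nilpotent [Algebra A₀ (A ⧸ J)]
    (halg : ∀ a, algebraMap A₀ (A ⧸ J) a = Ideal.Quotient.mk J (e a))
    (hJ : IsNilpotent J) (hfree : ∀ k : ℕ, Module.Free (A ⧸ J) ((A ⧸ J) ⊗[A] ↥(J ^ k)))
    (h : SheafSep (A := R ⊗[A₀] (A ⧸ J)) (M := (R ⊗[A₀] (A ⧸ J)) ⊗[R] M)
      (N := fun i => (R ⊗[A₀] (A ⧸ J)) ⊗[R] N i)
      (fun i => (u i).baseChange (R ⊗[A₀] (A ⧸ J)))) : SheafSep u := by
  intro b m hm
  have hK : PB A₀ u b (A ⧸ J) := PB_of_sheafSep (A ⧸ J) u h b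
  letI modI : ∀ I : Ideal A, Module A₀ ↥I := fun I => Module.compHom _ e.toRingHom
  obtain ⟨n, hn⟩ := hJ
  have step : ∀ k, PB A₀ u b ↥(J ^ (k + 1)) → PB A₀ u b ↥(J ^ k) := by
    intro k hk
    have hle : J ^ (k + 1) ≤ J ^ k := Ideal.pow_le_pow_right (Nat.le_succ k)
    let f : ↥(J ^ (k + 1)) →ₗ[A₀] ↥(J ^ k) :=
      { toFun := Submodule.inclusion hle
        map_add' := fun x y => rfl
        map_smul' := fun a x => rfl }
    let g : ↥(J ^ k) →ₗ[A₀] (A ⧸ J) ⊗[A] ↥(J ^ k) :=
      { toFun := fun x => (1 : A ⧸ J) ⊗ₜ[A] x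
        map_add' := fun x y => TensorProduct.tmul_add _ _ _
        map_smul' := fun a x => by
          change (1 : A ⧸ J) ⊗ₜ[A] ((e a) • x) = a • ((1 : A ⧸ J) ⊗ₜ[A] x)
          rw [TensorProduct.tmul_smul, TensorProduct.smul_tmul', TensorProduct.smul_tmul',
            Algebra.smul_def a, halg, mul_one, Algebra.smul_def, mul_one]
          rfl }
    haveI := hfree k
    refine PB.of_exact u b f g (Submodule.inclusion_injective hle) ?_ ?_ hk
      (PB.of_free u b hK _)
    · intro x
      change (1 : A ⧸ J) ⊗ₜ[A] x = 0 ↔ x ∈ Set.range f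
      rw [one_tmul_eq_zero_iff, ← pow_succ']
      constructor
      · intro hx
        exact ⟨⟨x.1, hx⟩, rfl⟩
      · rintro ⟨y, rfl⟩
        exact y.2
    · exact mk_one_surjective J (J ^ k)
  have all : ∀ d k, k + d = n → PB A₀ u b ↥(J ^ k) := by
    intro d
    induction d with
    | zero =>
      intro k hk
      rw [add_zero] at hk
      subst hk
      haveI : Subsingleton ↥(J ^ k) := by
        refine ⟨fun x y => Subtype.ext ?_⟩
        have hz : ∀ z : ↥(J ^ k), (z : A) = 0 := fun z => by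
          have hz : (z : A) ∈ J ^ k := z.2
          have h2 : (z : A) ∈ (⊥ : Ideal A) := by
            have h3 : J ^ k = ⊥ := hn
            exact h3 ▸ hz
          exact (Submodule.mem_bot A).mp h2
        rw [hz x, hz y]
      exact PB.of_subsingleton u b _
    | succ d ih =>
      intro k hk
      exact step k (ih (k + 1) (by omega))
  have h0 := all n 0 (zero_add n)
  have hmem : ∀ a : A, a ∈ J ^ 0 := fun a => by
    rw [pow_zero, Ideal.one_eq_top]
    trivial
  let e' : A₀ ≃ₗ[A₀] ↥(J ^ 0) :=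
    { toFun := fun a => ⟨e a, hmem _⟩
      invFun := fun x => e.symm x.1
      map_add' := fun a a' => Subtype.ext (map_add e a a')
      map_smul' := fun a a' => Subtype.ext (map_mul e a a')
      left_inv := fun a => e.symm_apply_apply a
      right_inv := fun x => Subtype.ext (e.apply_symm_apply x.1) }
  exact exists_pow_smul_eq_zero_of_PB u b (PB.of_linearEquiv u b e' h0) m hm

end Nilp

end Groth.Agent.Lib.helper3.SchDomNil
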