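import Groth.Agent.Lib.Helper3.SepFibre2
import Groth.Agent.Lib.Helper3.SchDomNil

/-!
# Separating / schematically dominant families: nilpotent thickenings of an affine base and
finitely generated subalgebras (helper3, EGA IV 11.9.x / 11.10.x)
-/

set_option autoImplicit false
set_option linter.style.haveILetI false
set_option linter.unusedSectionVars false
universe u v
open CategoryTheory CategoryTheory.Limits AlgebraicGeometry TopologicalSpace Opposite TensorProduct

namespace Groth.Agent.Lib.helper3.SchDomNilSch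

open Scheme.Modules Groth.Agent.Lib.helper16.CohFinite Groth.Agent.Lib.helper16.QCohPullback
  Groth.Agent.Lib.helper16.QCohPullback3 Groth.Agent.Lib.helper16.QCohEpi
  Groth.Agent.Lib.helper3.SepPull Groth.Agent.Lib.helper3.SepNoeth
  Groth.Agent.Lib.helper3.SepFP Groth.Agent.Lib.helper3.SepPullFP
  Groth.Agent.Lib.helper3.SchDomChart Groth.Agent.Lib.helper3.SchDomCore
  Groth.Agent.Lib.helper3.SchDomT5 Groth.Agent.Lib.helper3.SchDomStage
  Groth.Agent.Lib.helper3.SepFibre Groth.Agent.Lib.helper3.SchDomAff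
  Groth.Agent.Lib.helper3.SchDomNil

section Top

/-- the structure morphism of `Spec C` over the top affine open of `Spec A` -/
theorem hB_top (A : CommRingCat.{u}) {C : Type u} [CommRing C] (ψ : ↑A →+* C)
    [Algebra Γ(Spec A, ⊤) C]
    (halg : ∀ a, algebraMap Γ(Spec A, ⊤) C a = ψ ((Scheme.ΓSpecIso A).hom.hom a)) :
    Spec.map (CommRingCat.ofHom (algebraMap Γ(Spec A, ⊤) C)) ≫
      (isAffineOpen_top (Spec A)).fromSpec = Spec.map (CommRingCat.ofHom ψ) := by
  have h1 : CommRingCat.ofHom (algebraMap Γ(Spec A, ⊤) C) =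
      (Scheme.ΓSpecIso A).hom ≫ CommRingCat.ofHom ψ := by
    ext a
    exact halg a
  rw [h1, Spec.map_comp, Category.assoc, IsAffineOpen.fromSpec_top, Scheme.isoSpec_Spec_inv,
    ← Spec.map_comp, Iso.inv_hom_id, Spec.map_id, Category.comp_id]

end Top

section Local

variable {X : Scheme.{u}} (F : X.Modules) [F.IsQuasicoherent] {ι : Type v} (G : ι → X.Modules)
  [∀ i, (G i).IsQuasicoherent] (u : ∀ i, F ⟶ G i)

/-- a family whose section maps over every affine open are sheaf-separating is separating -/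
theorem separating_of_sheafSep
    (H : ∀ (U : X.Opens) (hU : IsAffineOpen U), SheafSep (fun i => ((secFun hU).map (u i)).hom)) :
    Separating u := by
  intro V t ht
  have hloc : ∀ x : V, ∃ (U : X.Opens) (hUV : U ≤ V), x.1 ∈ U ∧
      F.presheaf.map (homOfLE hUV).op t = 0 := by
    intro x
    obtain ⟨U, hU, hxU, hUV'⟩ := exists_isAffineOpen_mem_and_subset (x := x.1) (U := V) x.2
    have hUV : U ≤ V := hUV'
    refine ⟨U, hUV, hxU, ?_⟩
    have hsep := H U hU
    obtain ⟨n, hn⟩ := hsep 1 (toSpecSections F hU (F.presheaf.map (homOfLE hUV).op t))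
      (fun i => ⟨0, by
        rw [pow_zero, one_smul]
        refine (toSpecSections_naturality (u i) hU _).trans ?_
        have nat := (u i).mapPresheaf.naturality (homOfLE hUV).op
        have h1 := congrArg (fun k => k.hom t) nat
        simp only [AddCommGrpCat.hom_comp, AddMonoidHom.comp_apply] at h1
        have h2 : ((u i).app U).hom (F.presheaf.map (homOfLE hUV).op t) = 0 := by
          refine h1.trans ?_
          have h3 : ((u i).mapPresheaf.app (op V)).hom t = 0 := ht i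
          rw [h3, map_zero]
        rw [h2, map_zero]
        rfl⟩)
    rw [one_pow, one_smul] at hn
    exact toSpecSections_injective F hU (by rw [hn, map_zero]; rfl)
  choose W hWV hxW hW0 using hloc
  apply eq_zero_of_cover _ W V hWV
  · intro y hy
    exact Opens.mem_iSup.mpr ⟨⟨y, hy⟩, hxW ⟨y, hy⟩⟩
  · intro x
    exact hW0 x

variable (Z : ι → Scheme.{u}) (f : ∀ i, Z i ⟶ X)

/-- a family whose coordinate-ring families over every affine open are sheaf-separating is
schematically dominant -/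
theorem schDominant_of_sheafSep
    (H : ∀ (U : X.Opens) (_ : IsAffineOpen U), SheafSep (affFam Z f U))
    (V : X.Opens) (t : Γ(X, V)) (ht : ∀ i, (f i).app V t = 0) : t = 0 := by
  have hloc : ∀ x : V, ∃ (U : X.Opens) (hUV : U ≤ V), x.1 ∈ U ∧
      X.presheaf.map (homOfLE hUV).op t = 0 := by
    intro x
    obtain ⟨U, hU, hxU, hUV'⟩ := exists_isAffineOpen_mem_and_subset (x := x.1) (U := V) x.2
    have hUV : U ≤ V := hUV'
    refine ⟨U, hUV, hxU, ?_⟩
    have hsep := H U hU
    obtain ⟨n, hn⟩ := hsep 1 (X.presheaf.map (homOfLE hUV).op t) (fun j => ⟨0, by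
      rw [pow_zero, one_smul]
      change (f j.1).appLE U j.2.1 j.2.2.2 (X.presheaf.map (homOfLE hUV).op t) = 0
      have e1 := Scheme.Hom.map_appLE (f j.1) (j.2.2.2) (homOfLE hUV).op
      have e2 := congr($(e1).hom t)
      simp only [CommRingCat.hom_comp, RingHom.comp_apply] at e2
      refine e2.trans ?_
      rw [Scheme.Hom.appLE]
      change ((Z j.1).presheaf.map _) ((f j.1).app V t) = 0
      rw [ht j.1, map_zero]⟩)
    rw [one_pow, one_smul] at hn
    exact hn
  choose W hWV hxW hW0 using hloc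
  apply Groth.Agent.Lib.helper3.SchDomFP.eq_zero_of_cover W V hWV
  · intro y hy
    exact Opens.mem_iSup.mpr ⟨⟨y, hy⟩, hxW ⟨y, hy⟩⟩
  · intro x
    exact hW0 x

end Local

section Nilp

variable {X : Scheme.{u}} (A : CommRingCat.{u}) (p : X ⟶ Spec A) (J : Ideal ↑A)
  (hJ : IsNilpotent J) (hfree : ∀ k : ℕ, Module.Free (↑A ⧸ J) ((↑A ⧸ J) ⊗[↑A] ↥(J ^ k)))

include hJ hfree in
/-- **EGA IV 11.10.x (nilpotent thickening, affine base, free graded pieces)**: schematic
dominance of a family of `A`-flat schemes is detected modulo a nilpotent ideal. -/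
theorem schDominant_of_nilpotent {ι : Type v} (Z : ι → Scheme.{u}) (f : ∀ i, Z i ⟶ X)
    [∀ i, Flat (f i ≫ p)]
    (h0 : ∀ (V : (pullback p (Spec.map (CommRingCat.ofHom (Ideal.Quotient.mk J)))).Opens)
      (t : Γ(pullback p (Spec.map (CommRingCat.ofHom (Ideal.Quotient.mk J))), V)),
      (∀ i, (bcMap (f i) p (Spec.map (CommRingCat.ofHom (Ideal.Quotient.mk J)))).app V t = 0) →
        t = 0)
    (V : X.Opens) (t : Γ(X, V)) (ht : ∀ i, (f i).app V t = 0) : t = 0 := by
  refine schDominant_of_sheafSep Z f (fun U hU => ?_) V t ht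
  have hS₀ : IsAffineOpen (⊤ : (Spec A).Opens) := isAffineOpen_top (Spec A)
  have eU : U ≤ p ⁻¹ᵁ (⊤ : (Spec A).Opens) := fun _ _ => trivial
  letI algAB : Algebra Γ(Spec A, ⊤) Γ(X, U) := (p.appLE ⊤ U eU).hom.toAlgebra
  have eZS : ∀ j : AffIdx Z f U, j.2.1 ≤ (f j.1 ≫ p) ⁻¹ᵁ (⊤ : (Spec A).Opens) :=
    fun j z hz => trivial
  letI algAN : ∀ j : AffIdx Z f U, Algebra Γ(Spec A, ⊤) (AffSec Z f U j) := fun j =>
    ((f j.1 ≫ p).appLE ⊤ j.2.1 (eZS j)).hom.toAlgebra
  haveI tower : ∀ j, IsScalarTower Γ(Spec A, ⊤) Γ(X, U) (AffSec Z f U j) := fun j =>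
    IsScalarTower.of_algebraMap_eq (fun a => by
      have := Scheme.Hom.appLE_comp_appLE (f j.1) p ⊤ U j.2.1 eU j.2.2.2
      exact (congr($(this).hom a)).symm)
  haveI flat : ∀ j, Module.Flat Γ(Spec A, ⊤) (AffSec Z f U j) := fun j =>
    HasRingHomProperty.appLE (P := @Flat) (f j.1 ≫ p) inferInstance ⟨⊤, hS₀⟩
      ⟨j.2.1, j.2.2.1⟩ (eZS j)
  let e : Γ(Spec A, ⊤) ≃+* ↑A := (Scheme.ΓSpecIso A).commRingCatIsoToRingEquiv
  letI algAC : Algebra Γ(Spec A, ⊤) (↑A ⧸ J) :=
    ((Ideal.Quotient.mk J).comp e.toRingHom).toAlgebra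
  have hB := hB_top A (Ideal.Quotient.mk J) (fun a => rfl)
  have h1 := sheafSep_of_schDominant p (Spec.map (CommRingCat.ofHom (Ideal.Quotient.mk J))) Z f
    hS₀ hU eU (𝟙 _) rfl (hB.trans (Category.id_comp _).symm) h0
  exact sheafSep_of_nilpotent (affFam Z f U) e J (fun a => rfl) hJ hfree h1

include hJ hfree in
/-- **EGA IV 11.9.x (nilpotent thickening, affine base, free graded pieces, `Z_λ = X`)**:
separation of a family with `A`-flat targets is detected modulo a nilpotent ideal. -/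
theorem separating_of_nilpotent (F : X.Modules) [F.IsQuasicoherent] {ι : Type v}
    (G : ι → X.Modules) [∀ i, (G i).IsQuasicoherent] (hG : ∀ i, FlatMod.IsFlatOver p (G i))
    (u : ∀ i, F ⟶ G i)
    (h0 : SepBC p F G u (Spec.map (CommRingCat.ofHom (Ideal.Quotient.mk J)))) :
    Separating u := by
  refine separating_of_sheafSep F G u (fun U hU => ?_)
  have hS₀ : IsAffineOpen (⊤ : (Spec A).Opens) := isAffineOpen_top (Spec A)
  have eU : U ≤ p ⁻¹ᵁ (⊤ : (Spec A).Opens) := fun _ _ => trivial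
  letI algAB : Algebra Γ(Spec A, ⊤) Γ(X, U) := (p.appLE ⊤ U eU).hom.toAlgebra
  letI modAF : Module Γ(Spec A, ⊤) ((secFun hU).obj F) := secModBase p hU eU F
  haveI : IsScalarTower Γ(Spec A, ⊤) Γ(X, U) ((secFun hU).obj F) :=
    IsScalarTower.of_algebraMap_smul (fun _ _ => rfl)
  letI modAG : ∀ i, Module Γ(Spec A, ⊤) ((secFun hU).obj (G i)) :=
    fun i => secModBase p hU eU (G i)
  haveI : ∀ i, IsScalarTower Γ(Spec A, ⊤) Γ(X, U) ((secFun hU).obj (G i)) := fun i =>
    IsScalarTower.of_algebraMap_smul (fun _ _ => rfl)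
  haveI : ∀ i, Module.Flat Γ(Spec A, ⊤) ((secFun hU).obj (G i)) := fun i =>
    flat_secModBase p hS₀ hU eU (G i) (hG i)
  let e : Γ(Spec A, ⊤) ≃+* ↑A := (Scheme.ΓSpecIso A).commRingCatIsoToRingEquiv
  letI algAC : Algebra Γ(Spec A, ⊤) (↑A ⧸ J) :=
    ((Ideal.Quotient.mk J).comp e.toRingHom).toAlgebra
  have hB := hB_top A (Ideal.Quotient.mk J) (fun a => rfl)
  have h1 := sheafSep_of_sepBC p (Spec.map (CommRingCat.ofHom (Ideal.Quotient.mk J))) F G u
    hS₀ hU (𝟙 _) (hA_spec p hS₀ hU eU rfl) (hB.trans (Category.id_comp _).symm) h0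
  exact sheafSep_of_nilpotent (fun i => ((secFun hU).map (u i)).hom) e J (fun a => rfl) hJ hfree h1

end Nilp

end Groth.Agent.Lib.helper3.SchDomNilSch
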