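import Mathlib
import Groth.Agent.Lib.Helper3.SchDomCore3

/-!
# Reduction of sheaf-separation after base change to finitely generated subalgebras (helper3)
-/

set_option autoImplicit false
set_option linter.style.haveILetI false
set_option linter.unusedSectionVars false
universe u v w

open TensorProduct

namespace Groth.Agent.Lib.helper3.SchDomStage

open Groth.Agent.Lib.helper3.SepNoeth Groth.Agent.Lib.helper3.SchDomCore

section Stage

variable {k : Type*} [CommRing k] {A : Type*} [CommRing A] [Algebra k A]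
  (B : Type*) [CommRing B] [Algebra k B]

/-- `A ⊗ B' → A ⊗ B` for a subalgebra `B'` -/
noncomputable def stageMap (B' : Subalgebra k B) : A ⊗[k] B' →ₐ[A] A ⊗[k] B :=
  Algebra.TensorProduct.map (AlgHom.id A A) B'.val

/-- `A ⊗ B' → A ⊗ B''` for subalgebras `B' ≤ B''` -/
noncomputable def stageIncl {B' B'' : Subalgebra k B} (h : B' ≤ B'') :
    A ⊗[k] B' →ₐ[A] A ⊗[k] B'' :=
  Algebra.TensorProduct.map (AlgHom.id A A) (Subalgebra.inclusion h)

theorem stageMap_stageIncl {B' B'' : Subalgebra k B} (h : B' ≤ B'') (x : A ⊗[k] B') :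
    stageMap (A := A) B B'' (stageIncl B h x) = stageMap B B' x := by
  induction x using TensorProduct.induction_on with
  | zero => simp
  | tmul a b => rfl
  | add y z hy hz => simp only [map_add, hy, hz]

theorem range_stageMap_mono {B' B'' : Subalgebra k B} (h : B' ≤ B'') :
    Set.range (stageMap (A := A) B B') ⊆ Set.range (stageMap (A := A) B B'') := by
  rintro _ ⟨x, rfl⟩
  exact ⟨stageIncl B h x, stageMap_stageIncl B h x⟩

/-- every element of `A ⊗ B` comes from a finitely generated subalgebra of `B` -/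
theorem exists_stage (r : A ⊗[k] B) :
    ∃ B' : Subalgebra k B, B'.FG ∧ r ∈ Set.range (stageMap (A := A) B B') := by
  classical
  induction r using TensorProduct.induction_on with
  | zero => exact ⟨⊥, Subalgebra.fg_bot, 0, map_zero _⟩
  | tmul a b =>
    refine ⟨Algebra.adjoin k ((({b} : Finset B) : Set B)), Subalgebra.fg_adjoin_finset _,
      a ⊗ₜ ⟨b, Algebra.subset_adjoin (by simp)⟩, rfl⟩
  | add y z hy hz =>
    obtain ⟨B₁, h₁, y', hy'⟩ := hy
    obtain ⟨B₂, h₂, z', hz'⟩ := hz
    refine ⟨B₁ ⊔ B₂, h₁.sup h₂, ?_⟩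
    obtain ⟨y'', hy''⟩ := range_stageMap_mono B (le_sup_left : B₁ ≤ B₁ ⊔ B₂) ⟨y', hy'⟩
    obtain ⟨z'', hz''⟩ := range_stageMap_mono B (le_sup_right : B₂ ≤ B₁ ⊔ B₂) ⟨z', hz'⟩
    exact ⟨y'' + z'', by rw [map_add, hy'', hz'']⟩

variable {M : Type*} [AddCommGroup M] [Module A M]

/-- `(A ⊗ B') ⊗ P → (A ⊗ B) ⊗ P` -/
noncomputable def stageMapMod (B' : Subalgebra k B) (P : Type*) [AddCommGroup P] [Module A P] :
    (A ⊗[k] B') ⊗[A] P →ₗ[A] (A ⊗[k] B) ⊗[A] P :=
  (stageMap (A := A) B B').toLinearMap.rTensor P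

theorem stageMapMod_tmul (B' : Subalgebra k B) (P : Type*) [AddCommGroup P] [Module A P]
    (r : A ⊗[k] B') (p : P) :
    stageMapMod B B' P (r ⊗ₜ p) = stageMap B B' r ⊗ₜ p := rfl

theorem range_stageMapMod_mono {B' B'' : Subalgebra k B} (h : B' ≤ B'') (P : Type*)
    [AddCommGroup P] [Module A P] :
    Set.range (stageMapMod (A := A) B B' P) ⊆ Set.range (stageMapMod (A := A) B B'' P) := by
  rintro _ ⟨x, rfl⟩
  refine ⟨(stageIncl (A := A) B h).toLinearMap.rTensor P x, ?_⟩
  induction x using TensorProduct.induction_on with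
  | zero => simp
  | tmul r p =>
    change stageMap B B'' (stageIncl B h r) ⊗ₜ p = stageMap B B' r ⊗ₜ p
    rw [stageMap_stageIncl]
  | add y z hy hz => simp only [map_add, hy, hz]

theorem exists_stageMod (t : (A ⊗[k] B) ⊗[A] M) :
    ∃ B' : Subalgebra k B, B'.FG ∧ t ∈ Set.range (stageMapMod (A := A) B B' M) := by
  induction t using TensorProduct.induction_on with
  | zero => exact ⟨⊥, Subalgebra.fg_bot, 0, map_zero _⟩
  | tmul r m =>
    obtain ⟨B', hB', r', rfl⟩ := exists_stage B r
    exact ⟨B', hB', r' ⊗ₜ m, rfl⟩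
  | add y z hy hz =>
    obtain ⟨B₁, h₁, hy'⟩ := hy
    obtain ⟨B₂, h₂, hz'⟩ := hz
    refine ⟨B₁ ⊔ B₂, h₁.sup h₂, ?_⟩
    obtain ⟨y'', hy''⟩ := range_stageMapMod_mono B (le_sup_left : B₁ ≤ B₁ ⊔ B₂) M hy'
    obtain ⟨z'', hz''⟩ := range_stageMapMod_mono B (le_sup_right : B₂ ≤ B₁ ⊔ B₂) M hz'
    exact ⟨y'' + z'', by rw [map_add, hy'', hz'']⟩

theorem stageMapMod_theta (B' : Subalgebra k B) (P : Type*) [AddCommGroup P] [Module A P]
    [Module k P] [IsScalarTower k A P] (t : (A ⊗[k] B') ⊗[A] P) :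
    thetaEquiv B P (stageMapMod B B' P t) = B'.val.toLinearMap.lTensor P (thetaEquiv B' P t) := by
  induction t using TensorProduct.induction_on with
  | zero => simp
  | tmul d p =>
    induction d using TensorProduct.induction_on with
    | zero => simp
    | tmul r b =>
      rw [stageMapMod_tmul, thetaEquiv_tmul]
      change thetaEquiv B P ((r ⊗ₜ[k] (b : B)) ⊗ₜ[A] p) = _
      rw [thetaEquiv_tmul]
      rfl
    | add x y hx hy =>
      simp only [TensorProduct.add_tmul, map_add] at hx hy ⊢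
      rw [hx, hy]
  | add x y hx hy => simp only [map_add, hx, hy]

theorem stageMapMod_injective (B' : Subalgebra k B) (P : Type*) [AddCommGroup P] [Module A P]
    [Module k P] [IsScalarTower k A P] [Module.Flat k P] :
    Function.Injective (stageMapMod (A := A) B B' P) := by
  intro t₁ t₂ h
  have h1 := congrArg (thetaEquiv B P) h
  rw [stageMapMod_theta, stageMapMod_theta] at h1
  have hinj := Module.Flat.lTensor_preserves_injective_linearMap (M := P) B'.val.toLinearMap
    Subtype.val_injective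
  exact (thetaEquiv B' P).injective (hinj h1)

theorem stageMapMod_smul (B' : Subalgebra k B) (P : Type*) [AddCommGroup P] [Module A P]
    (r : A ⊗[k] B') (y : (A ⊗[k] B') ⊗[A] P) :
    stageMapMod B B' P (r • y) = stageMap B B' r • stageMapMod B B' P y := by
  induction y using TensorProduct.induction_on with
  | zero => simp
  | tmul r' p =>
    rw [TensorProduct.smul_tmul', stageMapMod_tmul, stageMapMod_tmul, TensorProduct.smul_tmul',
      smul_eq_mul, smul_eq_mul, map_mul]
  | add y z hy hz => simp only [smul_add, map_add, hy, hz]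

theorem stageMapMod_nat (B' : Subalgebra k B) {P P' : Type*} [AddCommGroup P] [Module A P]
    [AddCommGroup P'] [Module A P'] (w : P →ₗ[A] P') (y : (A ⊗[k] B') ⊗[A] P) :
    w.lTensor (A ⊗[k] B) (stageMapMod B B' P y) = stageMapMod B B' P' (w.lTensor (A ⊗[k] B') y) := by
  induction y using TensorProduct.induction_on with
  | zero => simp
  | tmul r p => rfl
  | add y z hy hz => simp only [map_add, hy, hz]

variable {ι : Type*} {N : ι → Type*} [∀ i, AddCommGroup (N i)] [∀ i, Module A (N i)]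
  [∀ i, Module k (N i)] [∀ i, IsScalarTower k A (N i)] [∀ i, Module.Flat k (N i)]

/-- sheaf-separation after an arbitrary base change follows from the case of finitely generated
subalgebras, if the targets are flat over the base -/
theorem sheafSep_baseChange_of_fg (u : ∀ i, M →ₗ[A] N i)
    (h : ∀ B' : Subalgebra k B, B'.FG →
      SheafSep (A := A ⊗[k] B') (M := (A ⊗[k] B') ⊗[A] M) (N := fun i => (A ⊗[k] B') ⊗[A] N i)
        (fun i => (u i).baseChange (A ⊗[k] B'))) :
    SheafSep (fun i => (u i).baseChange (A ⊗[k] B)) := by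
  intro f t ht
  obtain ⟨B₁, h₁, hf₁⟩ := exists_stage (A := A) B f
  obtain ⟨B₂, h₂, ht₂⟩ := exists_stageMod (A := A) B t
  obtain ⟨B', hFG, hle₁, hle₂⟩ : ∃ B' : Subalgebra k B, B'.FG ∧ B₁ ≤ B' ∧ B₂ ≤ B' :=
    ⟨B₁ ⊔ B₂, h₁.sup h₂, le_sup_left, le_sup_right⟩
  obtain ⟨f', hf'⟩ := range_stageMap_mono B hle₁ hf₁
  obtain ⟨t', ht'⟩ := range_stageMapMod_mono B hle₂ M ht₂
  have h1 : ∀ i, ∃ n : ℕ, f' ^ n • (u i).baseChange (A ⊗[k] B') t' = 0 := by
    intro i
    obtain ⟨n, hn⟩ := ht i
    refine ⟨n, stageMapMod_injective B B' (N i) ?_⟩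
    change stageMapMod B B' (N i) (f' ^ n • (u i).lTensor (A ⊗[k] B') t') = _
    rw [stageMapMod_smul, map_zero, ← stageMapMod_nat, ht', map_pow, hf']
    exact hn
  obtain ⟨n, hn⟩ := h B' hFG f' t' h1
  refine ⟨n, ?_⟩
  rw [← ht', ← hf', ← map_pow, ← stageMapMod_smul, hn, map_zero]

end Stage

end Groth.Agent.Lib.helper3.SchDomStage
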