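import Groth.Agent.Lib.Helper3.SchDomT5
import Groth.Agent.Lib.Helper3.SchDomStage
import Groth.Agent.Lib.Helper3.SchDomField

/-!
# Fibrewise criterion for schematic dominance (helper3, EGA IV 11.10.9)
-/

set_option autoImplicit false
set_option linter.style.haveILetI false
set_option linter.unusedSectionVars false
universe u v
open CategoryTheory CategoryTheory.Limits AlgebraicGeometry TopologicalSpace Opposite TensorProduct

namespace Groth.Agent.Lib.helper3.SchDomSC

open Groth.Agent.Lib.helper3.SepNoeth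
  Groth.Agent.Lib.helper3.SchDomChart Groth.Agent.Lib.helper3.SchDomAff
  Groth.Agent.Lib.helper3.SchDomCore Groth.Agent.Lib.helper3.SchDomT5

theorem app_eq_zero_of_eq {X Y : Scheme.{u}} {f f' : X ⟶ Y} (h : f = f') (V : Y.Opens)
    (t : Γ(Y, V)) (h0 : f.app V t = 0) : f'.app V t = 0 := by
  subst h
  exact h0

/-- transfer of schematic dominance along an isomorphism of the targets -/
theorem schDom_of_iso {Q Q' : Scheme.{u}} {ι : Type v} {P P' : ι → Scheme.{u}}
    (a : ∀ i, P i ⟶ Q) (a' : ∀ i, P' i ⟶ Q') (e : Q ⟶ Q') [IsIso e] (c : ∀ i, P i ⟶ P' i)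
    (hc : ∀ i, c i ≫ a' i = a i ≫ e)
    (h : ∀ (V : Q.Opens) (t : Γ(Q, V)), (∀ i, (a i).app V t = 0) → t = 0)
    (V' : Q'.Opens) (t' : Γ(Q', V')) (ht' : ∀ i, (a' i).app V' t' = 0) : t' = 0 := by
  have hinj : Function.Injective (e.app V').hom :=
    (ConcreteCategory.bijective_of_isIso (e.app V')).1
  apply hinj
  rw [map_zero]
  apply h (e ⁻¹ᵁ V')
  intro i
  have h1 : (c i ≫ a' i).app V' t' = 0 := by
    rw [Scheme.Hom.comp_app]
    change (c i).app _ ((a' i).app V' t') = 0
    rw [ht' i, map_zero]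
  have h2 := app_eq_zero_of_eq (hc i) V' t' h1
  rw [Scheme.Hom.comp_app] at h2
  exact h2

section Trans

variable {X S S'' T : Scheme.{u}} (p : X ⟶ S) {ι : Type v} (Z : ι → Scheme.{u})
  (f : ∀ i, Z i ⟶ X) (g : S'' ⟶ S) (h'' : T ⟶ S'')

theorem bcMap_snd {Zi : Scheme.{u}} (fi : Zi ⟶ X) :
    bcMap fi p g ≫ pullback.snd p g = pullback.snd (fi ≫ p) g := by
  rw [pullback.lift_snd, Category.comp_id]

theorem bcMap_fst {Zi : Scheme.{u}} (fi : Zi ⟶ X) :
    bcMap fi p g ≫ pullback.fst p g = pullback.fst (fi ≫ p) g ≫ fi :=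
  pullback.lift_fst _ _ _

/-- from the iterated base change to the base change along the composite -/
theorem schDom_comp_of_iterated
    (h : ∀ (V : (pullback (pullback.snd p g) h'').Opens) (t : Γ(pullback (pullback.snd p g) h'', V)),
      (∀ i, (bcMap (bcMap (f i) p g) (pullback.snd p g) h'').app V t = 0) → t = 0)
    (V : (pullback p (h'' ≫ g)).Opens) (t : Γ(pullback p (h'' ≫ g), V))
    (ht : ∀ i, (bcMap (f i) p (h'' ≫ g)).app V t = 0) : t = 0 := by
  have hcond : ∀ i, (pullback.fst (bcMap (f i) p g ≫ pullback.snd p g) h'' ≫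
      pullback.fst (f i ≫ p) g) ≫ (f i ≫ p) =
      pullback.snd (bcMap (f i) p g ≫ pullback.snd p g) h'' ≫ (h'' ≫ g) := by
    intro i
    rw [Category.assoc, pullback.condition, ← bcMap_snd p g (f i), ← Category.assoc,
      ← Category.assoc, ← Category.assoc, Category.assoc _ (bcMap (f i) p g), pullback.condition,
      Category.assoc]
  refine schDom_of_iso (fun i => bcMap (bcMap (f i) p g) (pullback.snd p g) h'')
    (fun i => bcMap (f i) p (h'' ≫ g)) (pullbackLeftPullbackSndIso p g h'').hom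
    (fun i => pullback.lift _ _ (hcond i)) (fun i => ?_) h V t ht
  apply pullback.hom_ext
  · simp only [Category.assoc, pullback.lift_fst, pullback.lift_fst_assoc,
      pullbackLeftPullbackSndIso_hom_fst]
  · simp only [Category.assoc, pullback.lift_snd, Category.comp_id,
      pullbackLeftPullbackSndIso_hom_snd]

/-- from the base change along the composite to the iterated base change -/
theorem schDom_iterated_of_comp
    (h : ∀ (V : (pullback p (h'' ≫ g)).Opens) (t : Γ(pullback p (h'' ≫ g), V)),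
      (∀ i, (bcMap (f i) p (h'' ≫ g)).app V t = 0) → t = 0)
    (V : (pullback (pullback.snd p g) h'').Opens) (t : Γ(pullback (pullback.snd p g) h'', V))
    (ht : ∀ i, (bcMap (bcMap (f i) p g) (pullback.snd p g) h'').app V t = 0) : t = 0 := by
  have hcond1 : ∀ i, pullback.fst (f i ≫ p) (h'' ≫ g) ≫ (f i ≫ p) =
      (pullback.snd (f i ≫ p) (h'' ≫ g) ≫ h'') ≫ g := by
    intro i
    rw [pullback.condition, Category.assoc]
  have hcond2 : ∀ i, pullback.lift _ _ (hcond1 i) ≫ (bcMap (f i) p g ≫ pullback.snd p g) =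
      pullback.snd (f i ≫ p) (h'' ≫ g) ≫ h'' := by
    intro i
    rw [bcMap_snd, pullback.lift_snd]
  refine schDom_of_iso (fun i => bcMap (f i) p (h'' ≫ g))
    (fun i => bcMap (bcMap (f i) p g) (pullback.snd p g) h'')
    (pullbackLeftPullbackSndIso p g h'').inv
    (fun i => pullback.lift _ _ (hcond2 i)) (fun i => ?_) h V t ht
  have key : (pullback.lift _ _ (hcond2 i) ≫ bcMap (bcMap (f i) p g) (pullback.snd p g) h'') ≫
      (pullbackLeftPullbackSndIso p g h'').hom = bcMap (f i) p (h'' ≫ g) := by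
    apply pullback.hom_ext
    · simp only [Category.assoc, pullback.lift_fst, pullback.lift_fst_assoc,
        pullbackLeftPullbackSndIso_hom_fst]
    · simp only [Category.assoc, pullback.lift_snd, Category.comp_id,
        pullbackLeftPullbackSndIso_hom_snd]
  rw [← key, Category.assoc, Iso.hom_inv_id, Category.comp_id]

end Trans

section SC

variable {X S : Scheme.{u}} (p : X ⟶ S) {ι : Type v} (Z : ι → Scheme.{u})
  (f : ∀ i, Z i ⟶ X)

/-- schematic dominance after base change to every field-valued point of the base -/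
def FieldDominant : Prop :=
  ∀ (K : Type u) [Field K] (hK : Spec (CommRingCat.of K) ⟶ S) (V : (pullback p hK).Opens)
    (t : Γ(pullback p hK, V)), (∀ i, (bcMap (f i) p hK).app V t = 0) → t = 0

variable [IsLocallyNoetherian X] [∀ i, Flat (f i ≫ p)]

/-- the family of coordinate rings is sheaf-separating, by the ring-level fibrewise criterion -/
theorem sheafSep_affFam (hF : FieldDominant p Z f) {S₀ : S.Opens} (hS₀ : IsAffineOpen S₀)
    {U : X.Opens} (hU : IsAffineOpen U) (eU : U ≤ p ⁻¹ᵁ S₀) : SheafSep (affFam Z f U) := by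
  letI algAB : Algebra Γ(S, S₀) Γ(X, U) := (p.appLE S₀ U eU).hom.toAlgebra
  have eZS : ∀ j : AffIdx Z f U, j.2.1 ≤ (f j.1 ≫ p) ⁻¹ᵁ S₀ := fun j z hz => eU (j.2.2.2 hz)
  letI algAN : ∀ j : AffIdx Z f U, Algebra Γ(S, S₀) (AffSec Z f U j) := fun j =>
    ((f j.1 ≫ p).appLE S₀ j.2.1 (eZS j)).hom.toAlgebra
  haveI tower : ∀ j, IsScalarTower Γ(S, S₀) Γ(X, U) (AffSec Z f U j) := fun j =>
    IsScalarTower.of_algebraMap_eq (fun a => by
      have := Scheme.Hom.appLE_comp_appLE (f j.1) p S₀ U j.2.1 eU j.2.2.2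
      exact (congr($(this).hom a)).symm)
  haveI flat : ∀ j, Module.Flat Γ(S, S₀) (AffSec Z f U j) := fun j =>
    HasRingHomProperty.appLE (P := @Flat) (f j.1 ≫ p) inferInstance ⟨S₀, hS₀⟩
      ⟨j.2.1, j.2.2.1⟩ (eZS j)
  haveI : IsNoetherianRing Γ(X, U) := IsLocallyNoetherian.component_noetherian ⟨U, hU⟩
  refine sheafSep_of_fibrewise (A := Γ(S, S₀)) (affFam Z f U) (fun 𝔭 _ b => ?_)
  refine PB_of_sheafSep 𝔭.ResidueField (affFam Z f U) ?_ b
  exact sheafSep_of_schDominant p
    (Spec.map (CommRingCat.ofHom (algebraMap Γ(S, S₀) 𝔭.ResidueField)) ≫ hS₀.fromSpec) Z f hS₀ hU eU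
    (𝟙 _) rfl (Category.id_comp _).symm (hF 𝔭.ResidueField _)

/-- **EGA IV 11.10.9, core**: `X` locally Noetherian, the `Z_i` flat over `S`; if the family is
schematically dominant after base change to every field-valued point of `S`, then it is
schematically dominant. -/
theorem schDominant_of_fieldDominant (hF : FieldDominant p Z f) (V : X.Opens) (t : Γ(X, V))
    (ht : ∀ i, (f i).app V t = 0) : t = 0 := by
  have hloc : ∀ x : V, ∃ (U : X.Opens) (hUV : U ≤ V), x.1 ∈ U ∧
      X.presheaf.map (homOfLE hUV).op t = 0 := by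
    intro x
    obtain ⟨S₀, hS₀, hxS₀, -⟩ := exists_isAffineOpen_mem_and_subset
      (x := p x.1) (U := ⊤) (Opens.mem_top _)
    obtain ⟨U, hU, hxU, hUle⟩ := exists_isAffineOpen_mem_and_subset
      (x := x.1) (U := V ⊓ p ⁻¹ᵁ S₀) ⟨x.2, hxS₀⟩
    have hUV : U ≤ V := hUle.trans inf_le_left
    refine ⟨U, hUV, hxU, ?_⟩
    have hsep := sheafSep_affFam p Z f hF hS₀ hU (hUle.trans inf_le_right)
    obtain ⟨n, hn⟩ := hsep 1 (X.presheaf.map (homOfLE hUV).op t) (fun j => ⟨0, by
      rw [pow_zero, one_smul]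
      change (f j.1).appLE U j.2.1 j.2.2.2 (X.presheaf.map (homOfLE hUV).op t) = 0
      have e1 := Scheme.Hom.map_appLE (f j.1) (j.2.2.2) (homOfLE hUV).op
      have e2 := congr($(e1).hom t)
      simp only [CommRingCat.hom_comp, RingHom.comp_apply] at e2
      refine e2.trans ?_
      rw [Scheme.Hom.appLE]
      change ((Z j.1).presheaf.map _) ((f j.1).app V t) = 0
      rw [ht j.1, map_zero]⟩)
    rw [one_pow, one_smul] at hn
    exact hn
  choose W hWV hxW hW0 using hloc
  apply Groth.Agent.Lib.helper3.SchDomFP.eq_zero_of_cover W V hWV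
  · intro y hy
    exact Opens.mem_iSup.mpr ⟨⟨y, hy⟩, hxW ⟨y, hy⟩⟩
  · intro x
    exact hW0 x

end SC

end Groth.Agent.Lib.helper3.SchDomSC
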