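import Groth.Agent.Lib.Helper3.SchDomChart
import Groth.Agent.Lib.Helper3.SchDomCore3

/-!
# From schematic dominance on a fibre product to the ring level (helper3)
-/

set_option autoImplicit false
set_option linter.style.haveILetI false
set_option linter.unusedSectionVars false
universe u v
open CategoryTheory CategoryTheory.Limits AlgebraicGeometry TopologicalSpace Opposite TensorProduct

namespace Groth.Agent.Lib.helper3.SchDomT5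

open Groth.Agent.Lib.helper3.SepNoeth
  Groth.Agent.Lib.helper3.SchDomChart Groth.Agent.Lib.helper3.SchDomAff
  Groth.Agent.Lib.helper3.SchDomCore

section Single

variable {Zi X S S' : Scheme.{u}} (fi : Zi ⟶ X) (p : X ⟶ S) (q : S' ⟶ S)
  {S₀ : S.Opens} (hS₀ : IsAffineOpen S₀) {U : X.Opens} (hU : IsAffineOpen U) (eU : U ≤ p ⁻¹ᵁ S₀)
  {Z' : Zi.Opens} (hZ' : IsAffineOpen Z') (eZ : Z' ≤ fi ⁻¹ᵁ U)
  {C : Type u} [CommRing C] (i₂ : Spec (CommRingCat.of C) ⟶ S') [IsOpenImmersion i₂]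
  [Algebra Γ(S, S₀) Γ(X, U)] [Algebra Γ(S, S₀) C] [Algebra Γ(X, U) Γ(Zi, Z')]
  [Algebra Γ(S, S₀) Γ(Zi, Z')] [IsScalarTower Γ(S, S₀) Γ(X, U) Γ(Zi, Z')]
  (hA : CommRingCat.ofHom (algebraMap Γ(S, S₀) Γ(X, U)) = p.appLE S₀ U eU)
  (hN : CommRingCat.ofHom (algebraMap Γ(X, U) Γ(Zi, Z')) = fi.appLE U Z' eZ)
  (hB : Spec.map (CommRingCat.ofHom (algebraMap Γ(S, S₀) C)) ≫ hS₀.fromSpec = i₂ ≫ q)

include hA in
theorem hA_spec : Spec.map (CommRingCat.ofHom (algebraMap Γ(S, S₀) Γ(X, U))) ≫ hS₀.fromSpec =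
    hU.fromSpec ≫ p := by
  rw [hA]
  exact IsAffineOpen.SpecMap_appLE_fromSpec p hS₀ hU eU

include hA hN in
theorem hAN_spec : Spec.map (CommRingCat.ofHom (algebraMap Γ(S, S₀) Γ(Zi, Z'))) ≫ hS₀.fromSpec =
    hZ'.fromSpec ≫ (fi ≫ p) := by
  have e : Z' ≤ (fi ≫ p) ⁻¹ᵁ S₀ := fun z hz => eU (eZ hz)
  have h1 : CommRingCat.ofHom (algebraMap Γ(S, S₀) Γ(Zi, Z')) = (fi ≫ p).appLE S₀ Z' e := by
    rw [← Scheme.Hom.appLE_comp_appLE fi p S₀ U Z' eU eZ, ← hA, ← hN,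
      IsScalarTower.algebraMap_eq Γ(S, S₀) Γ(X, U) Γ(Zi, Z')]
    rfl
  rw [h1]
  exact IsAffineOpen.SpecMap_appLE_fromSpec (fi ≫ p) hS₀ hZ' e

/-- the map of fibre products induced by `fi` -/
noncomputable abbrev bcMap : pullback (fi ≫ p) q ⟶ pullback p q :=
  pullback.map (fi ≫ p) q p q fi (𝟙 S') (𝟙 S) (Category.comp_id _)
    ((Category.comp_id _).trans (Category.id_comp _).symm)

/-- the ring map `Γ(X,U) ⊗ C → Γ(Zi,Z') ⊗ C` -/
noncomputable abbrev tensMap : Γ(X, U) ⊗[Γ(S, S₀)] C →+* Γ(Zi, Z') ⊗[Γ(S, S₀)] C :=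
  (Algebra.TensorProduct.map (IsScalarTower.toAlgHom Γ(S, S₀) Γ(X, U) Γ(Zi, Z'))
    (AlgHom.id Γ(S, S₀) C)).toRingHom

include hN in
theorem chart_compat :
    chart (fi ≫ p) q hS₀ hZ' i₂ (hAN_spec fi p hS₀ eU hZ' eZ hA hN) hB ≫ bcMap fi p q =
      Spec.map (CommRingCat.ofHom (tensMap (S₀ := S₀) (U := U) (Z' := Z') (C := C))) ≫
        chart p q hS₀ hU i₂ (hA_spec p hS₀ hU eU hA) hB := by
  apply pullback.hom_ext
  · rw [Category.assoc, Category.assoc, pullback.lift_fst, chart_fst, ← Category.assoc,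
      chart_fst, Category.assoc, ← IsAffineOpen.SpecMap_appLE_fromSpec fi hU hZ' eZ, ← hN,
      ← Spec.map_comp_assoc, ← Spec.map_comp_assoc]
    congr 2
  · rw [Category.assoc, Category.assoc, pullback.lift_snd, chart_snd, ← Category.assoc,
      chart_snd, Category.comp_id, ← Spec.map_comp_assoc]
    congr 2
    ext c
    change (1 : Γ(Zi, Z')) ⊗ₜ[Γ(S, S₀)] c = _
    change _ = (algebraMap Γ(X, U) Γ(Zi, Z') 1) ⊗ₜ[Γ(S, S₀)] c
    rw [map_one]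

theorem appLE_of_eq {Y Y' : Scheme.{u}} {g g' : Y ⟶ Y'} (h : g = g') (V' : Y'.Opens) (V : Y.Opens)
    (e : V ≤ g ⁻¹ᵁ V') : g.appLE V' V e = g'.appLE V' V (h ▸ e) := by
  subst h
  rfl

include hN in
theorem image_le :
    (chart (fi ≫ p) q hS₀ hZ' i₂ (hAN_spec fi p hS₀ eU hZ' eZ hA hN) hB) ''ᵁ ⊤ ≤
      bcMap fi p q ⁻¹ᵁ ((chart p q hS₀ hU i₂ (hA_spec p hS₀ hU eU hA) hB) ''ᵁ ⊤) := by
  rintro _ ⟨z, -, rfl⟩
  change (bcMap fi p q) ((chart (fi ≫ p) q hS₀ hZ' i₂ _ hB) z) ∈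
    (chart p q hS₀ hU i₂ (hA_spec p hS₀ hU eU hA) hB) ''ᵁ ⊤
  rw [← Scheme.Hom.comp_apply, chart_compat fi p q hS₀ hU eU hZ' eZ i₂ hA hN hB,
    Scheme.Hom.comp_apply]
  exact ⟨_, trivial, rfl⟩

include hN in
theorem appLE_chartIso_eq_zero (x : Γ(X, U) ⊗[Γ(S, S₀)] C)
    (hx : tensMap (S₀ := S₀) (U := U) (Z' := Z') (C := C) x = 0) :
    (bcMap fi p q).appLE _ _ (image_le fi p q hS₀ hU eU hZ' eZ i₂ hA hN hB)
      ((chartIso p q hS₀ hU i₂ (hA_spec p hS₀ hU eU hA) hB).hom x) = 0 := by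
  set cZ := chart (fi ≫ p) q hS₀ hZ' i₂ (hAN_spec fi p hS₀ eU hZ' eZ hA hN) hB with hcZ
  set cX := chart p q hS₀ hU i₂ (hA_spec p hS₀ hU eU hA) hB with hcX
  have hinj : Function.Injective (cZ.appLE (cZ ''ᵁ ⊤) ⊤ (cZ.preimage_image_eq ⊤).ge).hom := by
    rw [← Scheme.Hom.appIso_hom']
    exact (ConcreteCategory.bijective_of_isIso (cZ.appIso ⊤).hom).1
  apply hinj
  rw [map_zero]
  have e0 : (⊤ : (Spec _).Opens) ≤ (cZ ≫ bcMap fi p q) ⁻¹ᵁ (cX ''ᵁ ⊤) := by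
    intro z _
    exact image_le fi p q hS₀ hU eU hZ' eZ i₂ hA hN hB ⟨z, trivial, rfl⟩
  have key : (chartIso p q hS₀ hU i₂ (hA_spec p hS₀ hU eU hA) hB).hom ≫
      (bcMap fi p q).appLE _ _ (image_le fi p q hS₀ hU eU hZ' eZ i₂ hA hN hB) ≫
      cZ.appLE (cZ ''ᵁ ⊤) ⊤ (cZ.preimage_image_eq ⊤).ge =
      CommRingCat.ofHom (tensMap (S₀ := S₀) (U := U) (Z' := Z') (C := C)) ≫
        (Scheme.ΓSpecIso _).inv := by
    rw [Scheme.Hom.appLE_comp_appLE,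
      appLE_of_eq (chart_compat fi p q hS₀ hU eU hZ' eZ i₂ hA hN hB) _ _ e0,
      ← Scheme.Hom.appLE_comp_appLE _ _ (cX ''ᵁ ⊤) ⊤ ⊤ (cX.preimage_image_eq ⊤).ge le_top,
      ← Category.assoc, chart_appLE_chartIso]
    have h2 : (Spec.map (CommRingCat.ofHom (tensMap (S₀ := S₀) (U := U) (Z' := Z')
        (C := C)))).appLE ⊤ ⊤ le_top = (Spec.map (CommRingCat.ofHom (tensMap (S₀ := S₀) (U := U)
        (Z' := Z') (C := C)))).appTop := by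
      change (Spec.map _).appLE ⊤ ((Spec.map _) ⁻¹ᵁ ⊤) le_rfl = _
      exact (Scheme.Hom.app_eq_appLE _).symm
    rw [h2, Scheme.ΓSpecIso_inv_naturality]
  have h3 := congr($(key).hom x)
  simp only [CommRingCat.hom_comp, RingHom.comp_apply] at h3
  refine h3.trans ?_
  change (Scheme.ΓSpecIso (CommRingCat.of (Γ(Zi, Z') ⊗[Γ(S, S₀)] C))).inv.hom
    (tensMap (S₀ := S₀) (U := U) (Z' := Z') (C := C) x) = 0
  rw [hx, map_zero]

include hN in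
theorem mem_chart_of_mem (z : ↥(pullback (fi ≫ p) q))
    (hz : (bcMap fi p q) z ∈ (chart p q hS₀ hU i₂ (hA_spec p hS₀ hU eU hA) hB) ''ᵁ ⊤)
    (hz' : (pullback.fst (fi ≫ p) q) z ∈ Z') :
    z ∈ (chart (fi ≫ p) q hS₀ hZ' i₂ (hAN_spec fi p hS₀ eU hZ' eZ hA hN) hB) ''ᵁ ⊤ := by
  obtain ⟨y, -, hy⟩ := hz
  have h2 : (pullback.snd (fi ≫ p) q) z ∈ Set.range i₂ := by
    have e1 : bcMap fi p q ≫ pullback.snd p q = pullback.snd (fi ≫ p) q := by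
      rw [pullback.lift_snd, Category.comp_id]
    rw [← e1, Scheme.Hom.comp_apply, ← hy]
    exact snd_chart_mem p q hS₀ hU i₂ _ hB y
  obtain ⟨w, hw⟩ := mem_range_chart (fi ≫ p) q hS₀ hZ' i₂
    (hAN_spec fi p hS₀ eU hZ' eZ hA hN) hB z hz' h2
  exact ⟨w, trivial, hw⟩

theorem theta_tmul_one (x : Γ(X, U) ⊗[Γ(S, S₀)] C) :
    thetaEquiv C Γ(Zi, Z') (x ⊗ₜ[Γ(X, U)] (1 : Γ(Zi, Z'))) =
      tensMap (S₀ := S₀) (U := U) (Z' := Z') (C := C) x := by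
  induction x using TensorProduct.induction_on with
  | zero => simp
  | tmul b c =>
    rw [thetaEquiv_tmul]
    change (b • (1 : Γ(Zi, Z'))) ⊗ₜ[Γ(S, S₀)] c = (algebraMap Γ(X, U) Γ(Zi, Z') b) ⊗ₜ[Γ(S, S₀)] c
    rw [Algebra.smul_def, mul_one]
  | add x y hx hy =>
    rw [TensorProduct.add_tmul, map_add, map_add, hx, hy]

include hN hZ' in
/-- the chart open of `Z_i ×_S S'` over an affine open of `Z_i`, with all its properties -/
theorem exists_chartOpen :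
    ∃ (W : (pullback (fi ≫ p) q).Opens)
      (hW : W ≤ bcMap fi p q ⁻¹ᵁ ((chart p q hS₀ hU i₂ (hA_spec p hS₀ hU eU hA) hB) ''ᵁ ⊤)),
      (∀ z : ↥(pullback (fi ≫ p) q),
        (bcMap fi p q) z ∈ (chart p q hS₀ hU i₂ (hA_spec p hS₀ hU eU hA) hB) ''ᵁ ⊤ →
        (pullback.fst (fi ≫ p) q) z ∈ Z' → z ∈ W) ∧
      (∀ x : Γ(X, U) ⊗[Γ(S, S₀)] C, x ⊗ₜ[Γ(X, U)] (1 : Γ(Zi, Z')) = 0 →
        (bcMap fi p q).appLE _ W hW
          ((chartIso p q hS₀ hU i₂ (hA_spec p hS₀ hU eU hA) hB).hom x) = 0) := by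
  refine ⟨_, image_le fi p q hS₀ hU eU hZ' eZ i₂ hA hN hB,
    fun z hz hz' => mem_chart_of_mem fi p q hS₀ hU eU hZ' eZ i₂ hA hN hB z hz hz',
    fun x hx => appLE_chartIso_eq_zero fi p q hS₀ hU eU hZ' eZ i₂ hA hN hB x ?_⟩
  rw [← theta_tmul_one, hx, map_zero]

end Single

section Main

variable {X S S' : Scheme.{u}} (p : X ⟶ S) (q : S' ⟶ S) {ι : Type v} (Z : ι → Scheme.{u})
  (f : ∀ i, Z i ⟶ X)
  {S₀ : S.Opens} (hS₀ : IsAffineOpen S₀) {U : X.Opens} (hU : IsAffineOpen U) (eU : U ≤ p ⁻¹ᵁ S₀)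
  {C : Type u} [CommRing C] (i₂ : Spec (CommRingCat.of C) ⟶ S') [IsOpenImmersion i₂]
  [Algebra Γ(S, S₀) Γ(X, U)] [Algebra Γ(S, S₀) C]
  (hA : CommRingCat.ofHom (algebraMap Γ(S, S₀) Γ(X, U)) = p.appLE S₀ U eU)
  (hB : Spec.map (CommRingCat.ofHom (algebraMap Γ(S, S₀) C)) ≫ hS₀.fromSpec = i₂ ≫ q)

include hA hB hU hS₀ in
/-- **schematic dominance of the base-changed family gives sheaf-separation of the base change of
the family of coordinate rings** -/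
theorem sheafSep_of_schDominant
    (h : ∀ (V : (pullback p q).Opens) (t : Γ(pullback p q, V)),
      (∀ i, (bcMap (f i) p q).app V t = 0) → t = 0) :
    SheafSep (fun j => (affFam Z f U j).baseChange (Γ(X, U) ⊗[Γ(S, S₀)] C)) := by
  intro a t ht
  let D := Γ(X, U) ⊗[Γ(S, S₀)] C
  let d : D := TensorProduct.AlgebraTensorModule.rid Γ(X, U) D D t
  have htd : t = d ⊗ₜ[Γ(X, U)] (1 : Γ(X, U)) :=
    ((TensorProduct.AlgebraTensorModule.rid Γ(X, U) D D).symm_apply_apply t).symm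
  have hex : ∀ (i : ι) (k : {Z' : (Z i).Opens // IsAffineOpen Z' ∧ Z' ≤ f i ⁻¹ᵁ U}),
      ∃ (W : (pullback (f i ≫ p) q).Opens)
      (hW : W ≤ bcMap (f i) p q ⁻¹ᵁ ((chart p q hS₀ hU i₂ (hA_spec p hS₀ hU eU hA) hB) ''ᵁ ⊤)),
      (∀ z : ↥(pullback (f i ≫ p) q),
        (bcMap (f i) p q) z ∈ (chart p q hS₀ hU i₂ (hA_spec p hS₀ hU eU hA) hB) ''ᵁ ⊤ →
        (pullback.fst (f i ≫ p) q) z ∈ k.1 → z ∈ W) ∧
      (∀ x : D, x ⊗ₜ[Γ(X, U)] (1 : AffSec Z f U ⟨i, k⟩) = 0 →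
        (bcMap (f i) p q).appLE _ W hW
          ((chartIso p q hS₀ hU i₂ (hA_spec p hS₀ hU eU hA) hB).hom x) = 0) := by
    intro i k
    letI algB : Algebra Γ(X, U) Γ(Z i, k.1) := ((f i).appLE U k.1 k.2.2).hom.toAlgebra
    letI algA : Algebra Γ(S, S₀) Γ(Z i, k.1) :=
      ((algebraMap Γ(X, U) Γ(Z i, k.1)).comp (algebraMap Γ(S, S₀) Γ(X, U))).toAlgebra
    haveI : IsScalarTower Γ(S, S₀) Γ(X, U) Γ(Z i, k.1) :=
      IsScalarTower.of_algebraMap_eq (fun _ => rfl)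
    exact exists_chartOpen (f i) p q hS₀ hU eU k.2.1 k.2.2 i₂ hA rfl hB
  choose W hW hWmem hWzero using hex
  have hWX : IsAffineOpen ((chart p q hS₀ hU i₂ (hA_spec p hS₀ hU eU hA) hB) ''ᵁ ⊤) :=
    (isAffineOpen_top _).image_of_isOpenImmersion _
  obtain ⟨n, hn⟩ := exists_pow_mul_eq_zero_of_schDominant'
    (fun i => pullback (f i ≫ p) q) (fun i => bcMap (f i) p q) h hWX
    ((chartIso p q hS₀ hU i₂ (hA_spec p hS₀ hU eU hA) hB).hom a)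
    ((chartIso p q hS₀ hU i₂ (hA_spec p hS₀ hU eU hA) hB).hom d)
    (κ := fun i => {Z' : (Z i).Opens // IsAffineOpen Z' ∧ Z' ≤ f i ⁻¹ᵁ U}) W hW
    (fun i z hz => by
      have hzU : (pullback.fst (f i ≫ p) q) z ∈ f i ⁻¹ᵁ U := by
        obtain ⟨y, -, hy⟩ := hz
        change (f i) ((pullback.fst (f i ≫ p) q) z) ∈ U
        have e1 : bcMap (f i) p q ≫ pullback.fst p q = pullback.fst (f i ≫ p) q ≫ f i :=
          pullback.lift_fst _ _ _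
        rw [← Scheme.Hom.comp_apply, ← e1, Scheme.Hom.comp_apply, ← hy]
        exact fst_chart_mem p q hS₀ hU i₂ _ hB y
      obtain ⟨Z', hZ', hzZ', hZ'U⟩ := exists_isAffineOpen_mem_and_subset (x := _) hzU
      exact Opens.mem_iSup.mpr ⟨⟨Z', hZ', hZ'U⟩, hWmem i ⟨Z', hZ', hZ'U⟩ z hz hzZ'⟩)
    (fun i k => by
      obtain ⟨n, hn⟩ := ht ⟨i, k⟩
      refine ⟨n, ?_⟩
      rw [← map_pow, ← map_mul]
      apply hWzero i k
      rw [htd, LinearMap.baseChange_tmul, TensorProduct.smul_tmul', smul_eq_mul] at hn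
      have e2 : affFam Z f U ⟨i, k⟩ 1 = (1 : AffSec Z f U ⟨i, k⟩) :=
        map_one (algebraMap Γ(X, U) (AffSec Z f U ⟨i, k⟩))
      rw [e2] at hn
      exact hn)
  refine ⟨n, ?_⟩
  rw [← map_pow, ← map_mul] at hn
  have hinj : Function.Injective (chartIso p q hS₀ hU i₂ (hA_spec p hS₀ hU eU hA) hB).hom.hom :=
    (ConcreteCategory.bijective_of_isIso
      (chartIso p q hS₀ hU i₂ (hA_spec p hS₀ hU eU hA) hB).hom).1
  have h0 : a ^ n * d = 0 := hinj (by rw [hn, map_zero])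
  rw [htd, TensorProduct.smul_tmul', smul_eq_mul, h0, TensorProduct.zero_tmul]

end Main

end Groth.Agent.Lib.helper3.SchDomT5
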