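import Mathlib
import Groth.Agent.Lib.Helper3.SecCompConst3

/-!
# Local constancy of the dimension of the section components, II (helper3; = S5927)
-/

set_option autoImplicit false
universe u
open CategoryTheory AlgebraicGeometry CategoryTheory.Limits TopologicalSpace Topology IsLocalRing

namespace Groth.Agent.Lib.helper3.SecCompConst

open Groth.Agent.Lib.helper3 Groth.Agent.Lib.helper3.UOImageDim Groth.Agent.Lib.helper3.DimIneq
  Groth.Agent.Lib.helper3.SecCompDim Groth.Agent.Lib.helper3.UnivOpenGenTd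

theorem le_of_lt_succ_withBot (a : WithBot ℕ∞) (n : ℕ)
    (h : a < ((n + 1 : ℕ) : WithBot ℕ∞)) : a ≤ (n : WithBot ℕ∞) := by
  induction a using WithBot.recBotCoe with
  | bot => exact bot_le
  | coe a =>
    induction a using ENat.recTopCoe with
    | top =>
      exfalso
      have h1 : ((⊤ : ℕ∞) : WithBot ℕ∞) < (((n + 1 : ℕ) : ℕ∞) : WithBot ℕ∞) := h
      rw [WithBot.coe_lt_coe] at h1
      exact absurd h1 (not_lt.mpr le_top)
    | coe k =>
      have h1 : ((k : ℕ∞) : WithBot ℕ∞) < (((n + 1 : ℕ) : ℕ∞) : WithBot ℕ∞) := h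
      rw [WithBot.coe_lt_coe, Nat.cast_lt] at h1
      have h2 : k ≤ n := Nat.lt_succ_iff.mp h1
      exact_mod_cast h2

/-- in a locally Noetherian scheme every point has a neighbourhood all of whose points are
specializations of maximal points which also specialize to the given point. -/
theorem exists_nhds_maximal_generization (Y : Scheme.{u}) [IsLocallyNoetherian Y] (y₀ : Y) :
    ∃ V ∈ nhds y₀, ∀ z ∈ V, ∃ τ : Y, τ ⤳ z ∧ τ ⤳ y₀ ∧
      closure ({τ} : Set Y) ∈ irreducibleComponents (Y : Type u) := by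
  classical
  obtain ⟨_, ⟨U, hU, rfl⟩, hyU, -⟩ :=
    (Y.isBasis_affineOpens).exists_subset_of_mem_open (Set.mem_univ y₀) isOpen_univ
  haveI : IsNoetherianRing Γ(Y, U) := IsLocallyNoetherian.component_noetherian ⟨U, hU⟩
  haveI : NoetherianSpace ↥U := noetherianSpace_of_isAffineOpen U hU
  haveI : QuasiSober ↥U := U.2.isOpenEmbedding_subtypeVal.quasiSober
  have hfin : (irreducibleComponents ↥U).Finite := NoetherianSpace.finite_irreducibleComponents
  set Bad : Set Y := ⋃ T ∈ {T ∈ irreducibleComponents ↥U | y₀ ∉ closure (Subtype.val '' T)},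
    closure (Subtype.val '' T) with hBad
  have hBadc : IsClosed Bad :=
    (hfin.subset (fun T hT => hT.1)).isClosed_biUnion fun _ _ => isClosed_closure
  have hyBad : y₀ ∉ Bad := by
    rw [hBad]
    simp only [Set.mem_iUnion, not_exists]
    intro T hT hx
    exact hT.2 hx
  refine ⟨(U : Set Y) ∩ Badᶜ, (U.2.inter hBadc.isOpen_compl).mem_nhds ⟨hyU, hyBad⟩, ?_⟩
  rintro z ⟨hzU, hzBad⟩
  let zU : ↥U := ⟨z, hzU⟩
  set T := irreducibleComponent zU with hT
  have hTmem : T ∈ irreducibleComponents ↥U := irreducibleComponent_mem_irreducibleComponents zU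
  have hzT : zU ∈ T := mem_irreducibleComponent
  have hyT : y₀ ∈ closure (Subtype.val '' T) := by
    by_contra hx
    apply hzBad
    rw [hBad]
    exact Set.mem_biUnion (⟨hTmem, hx⟩ : T ∈ {T ∈ irreducibleComponents ↥U |
      y₀ ∉ closure (Subtype.val '' T)}) (subset_closure ⟨zU, hzT, rfl⟩)
  obtain ⟨τ, hτ⟩ := QuasiSober.sober (isIrreducible_irreducibleComponent (x := zU))
    (isClosed_irreducibleComponent (x := zU))
  have hτT : closure ({τ} : Set ↥U) = T := hτ.def
  refine ⟨τ.1, ?_, ?_, ?_⟩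
  · have hsp : τ ⤳ zU := by
      rw [specializes_iff_mem_closure, hτT]; exact hzT
    exact hsp.map continuous_subtype_val
  · rw [specializes_iff_mem_closure]
    have h1 : Subtype.val '' T ⊆ closure ({τ.1} : Set Y) := by
      rw [← hτT]
      refine (image_closure_subset_closure_image continuous_subtype_val).trans ?_
      rw [Set.image_singleton]
    exact closure_minimal h1 isClosed_closure hyT
  · apply EquidimAt.closure_mem_irreducibleComponents_of_forall_specializes
    intro t ht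
    have htU : t ∈ U := ht.mem_open U.2 τ.2
    let tU : ↥U := ⟨t, htU⟩
    have hsp : tU ⤳ τ := by
      rw [← IsInducing.subtypeVal.specializes_iff]
      exact ht
    have h2 := EquidimAt.eq_of_specializes_of_closure_mem_irreducibleComponents τ
      (by rw [hτT]; exact hTmem) tU hsp
    exact congrArg Subtype.val h2

variable {X Y : Scheme.{u}} (f : X ⟶ Y) [LocallyOfFiniteType f] (g : Y ⟶ X)

/-- **Case (β)**. -/
theorem le_dim_generization_of_dim_eq (y₀ : Y) (ξ₀ : X) (hfξ₀ : f.base ξ₀ = y₀)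
    (N₀ : ℕ) (hN₀ : td (f.residueFieldMap ξ₀).hom = (N₀ : Cardinal.{u}))
    (hopen : EGA43.IsUnivOpenAt f ξ₀) (y' : Y) (hy' : y' ⤳ y₀)
    (hβ : topologicalKrullDim ↥(f.fiber y') =
      topologicalKrullDim ↥(connectedComponentIn (f.base ⁻¹' {y'}) (g.base y'))) :
    (N₀ : WithBot ℕ∞) ≤
      topologicalKrullDim ↥(connectedComponentIn (f.base ⁻¹' {y'}) (g.base y')) := by
  obtain ⟨ξ', -, hξ'y', hle⟩ := exists_generization_td_ge f ξ₀ hopen y' (by rw [hfξ₀]; exact hy')
  obtain ⟨n', hn'⟩ := exists_nat_td_residueFieldMap f ξ'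
  have h1 := td_le_dim_fibre_inter f y' Set.univ isClosed_univ ξ' trivial hξ'y' n' hn'
  have h2 : topologicalKrullDim ↥(f.fiber y') =
      topologicalKrullDim ↥(f.base ⁻¹' {y'} ∩ Set.univ) := by
    apply DimCriteria.dim_eq_of_range_eq (f.fiberι y').base
      (Subtype.val : ↥(f.base ⁻¹' {y'} ∩ Set.univ) → X)
      (f.fiberι y').isEmbedding.isInducing IsInducing.subtypeVal
    rw [f.range_fiberι y', Subtype.range_coe, Set.inter_univ]
  rw [← hβ, h2]
  refine le_trans ?_ h1
  rw [hN₀, hn'] at hle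
  exact_mod_cast hle

/-- **S5927**. -/
theorem main [IsLocallyNoetherian Y] (hg : g ≫ f = 𝟙 Y)
    (hirr : ∀ y : Y, (∀ (K : Type u) [Field K] [Algebra (IsLocalRing.ResidueField (Y.presheaf.stalk y)) K],
        IsIrreducible ((FBase.bcπ (f.fiberToSpecResidueField y) K ≫ f.fiberι y).base ⁻¹' connectedComponentIn (f.base ⁻¹' {y}) (g.base y))))
    (y₀ : Y) (hopen : ∀ ξ ∈ connectedComponentIn (f.base ⁻¹' {y₀}) (g.base y₀), connectedComponentIn (f.base ⁻¹' {y₀}) (g.base y₀) ⊆ closure {ξ} → EGA43.IsUnivOpenAt f ξ)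
    (hαβ : FBase.IsGeomReducedAt (f.fiberToSpecResidueField (f.base (g.base y₀))) (f.asFiber (g.base y₀)) ∨
      (∀ y' : Y, y₀ ∈ closure {y'} → closure {y'} ∈ irreducibleComponents (Y : Type u) →
        topologicalKrullDim ↥(f.fiber y') = topologicalKrullDim ↥(connectedComponentIn (f.base ⁻¹' {y'}) (g.base y')))) :
    (∃ V ∈ nhds y₀, ∀ z ∈ V, topologicalKrullDim ↥(connectedComponentIn (f.base ⁻¹' {z}) (g.base z)) = topologicalKrullDim ↥(connectedComponentIn (f.base ⁻¹' {y₀}) (g.base y₀))) := by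
  have hfg : ∀ y : Y, f.base (g.base y) = y := fun y => by
    rw [← Scheme.Hom.comp_apply, hg]; rfl
  have hirr' : ∀ y : Y, IsIrreducible (connectedComponentIn (f.base ⁻¹' {y}) (g.base y)) :=
    fun y => isIrreducible_of_geom f y _ (connectedComponentIn_subset _ _) (hirr y)
  have husc := (main_S3419 f g hg hirr').1
  obtain ⟨ξ₀, hξ₀, hC₀⟩ := exists_generic_of_isClosed_in_fibre f y₀ _
    (connectedComponentIn_subset _ _) (hirr' y₀)
    (connectedComponentIn_fibre_isClosed f y₀ (g.base y₀) (hfg y₀))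
  have hfξ₀ : f.base ξ₀ = y₀ := connectedComponentIn_subset (f.base ⁻¹' {y₀}) (g.base y₀) hξ₀
  obtain ⟨N₀, hN₀⟩ := exists_nat_td_residueFieldMap f ξ₀
  have hdim₀ : topologicalKrullDim ↥(connectedComponentIn (f.base ⁻¹' {y₀}) (g.base y₀)) =
      (N₀ : WithBot ℕ∞) := by
    have h1 := DimCriteria.dim_closure_inter_fibre f ξ₀ N₀ hN₀
    rw [hfξ₀, ← hC₀] at h1
    exact h1
  have hopen₀ : EGA43.IsUnivOpenAt f ξ₀ := hopen ξ₀ hξ₀ (by rw [hC₀]; exact Set.inter_subset_left)
  have key : ∀ τ : Y, τ ⤳ y₀ → closure ({τ} : Set Y) ∈ irreducibleComponents (Y : Type u) →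
      (N₀ : WithBot ℕ∞) ≤
        topologicalKrullDim ↥(connectedComponentIn (f.base ⁻¹' {τ}) (g.base τ)) := by
    intro τ hτ hcomp
    rcases hαβ with hα | hβ
    · exact le_dim_generization_of_geomReduced f g hg hirr y₀ ξ₀ hξ₀ hC₀ N₀ hN₀ hdim₀ hopen₀ hα τ hτ
    · exact le_dim_generization_of_dim_eq f g y₀ ξ₀ hfξ₀ N₀ hN₀ hopen₀ τ hτ
        (hβ τ (specializes_iff_mem_closure.mp hτ) hcomp)
  have hV₁ := husc y₀ ((N₀ + 1 : ℕ) : WithBot ℕ∞) (by
    change topologicalKrullDim ↥(connectedComponentIn (f.base ⁻¹' {y₀}) (g.base y₀)) < _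
    rw [hdim₀]
    exact_mod_cast Nat.lt_succ_self N₀)
  obtain ⟨V₂, hV₂, hV₂prop⟩ := exists_nhds_maximal_generization Y y₀
  refine ⟨_, Filter.inter_mem hV₁ hV₂, ?_⟩
  rintro z ⟨hz1, hz2⟩
  obtain ⟨τ, hτz, hτy₀, hτcomp⟩ := hV₂prop z hz2
  have h1 := key τ hτy₀ hτcomp
  have h2 : topologicalKrullDim ↥(connectedComponentIn (f.base ⁻¹' {τ}) (g.base τ)) ≤
      topologicalKrullDim ↥(connectedComponentIn (f.base ⁻¹' {z}) (g.base z)) := by
    by_contra hcon
    rw [not_le] at hcon
    have h3 : {z' : Y | topologicalKrullDim ↥(connectedComponentIn (f.base ⁻¹' {z'}) (g.base z')) <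
        topologicalKrullDim ↥(connectedComponentIn (f.base ⁻¹' {τ}) (g.base τ))} ∈ nhds z :=
      husc z _ hcon
    have h4 : nhds τ ≤ nhds z := hτz
    have h5 : τ ∈ {z' : Y | topologicalKrullDim ↥(connectedComponentIn (f.base ⁻¹' {z'}) (g.base z')) <
        topologicalKrullDim ↥(connectedComponentIn (f.base ⁻¹' {τ}) (g.base τ))} :=
      mem_of_mem_nhds (h4 h3)
    rw [Set.mem_ofPred_eq] at h5
    exact lt_irrefl _ h5
  have h3 : topologicalKrullDim ↥(connectedComponentIn (f.base ⁻¹' {z}) (g.base z)) ≤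
      (N₀ : WithBot ℕ∞) := le_of_lt_succ_withBot _ N₀ hz1
  rw [hdim₀]
  exact le_antisymm h3 (h1.trans h2)

end Groth.Agent.Lib.helper3.SecCompConst
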