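import Mathlib
import Groth.Agent.Lib.Helper3.SecCompConst4
import Groth.Agent.Lib.Helper3.FibreDimCons
import Groth.Agent.Lib.Helper3.ConsNhds

/-!
# Local constancy of the dimension of the section components, finite presentation case
(helper3; = S4956)
-/

set_option autoImplicit false
universe u
open CategoryTheory AlgebraicGeometry CategoryTheory.Limits TopologicalSpace Topology IsLocalRing

namespace Groth.Agent.Lib.helper3.SecCompConst

open Groth.Agent.Lib.helper3 Groth.Agent.Lib.helper3.UOImageDim Groth.Agent.Lib.helper3.DimIneq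
  Groth.Agent.Lib.helper3.SecCompDim Groth.Agent.Lib.helper3.UnivOpenGenTd

/-- preimages of locally constructible sets under morphisms of schemes are locally constructible. -/
theorem isLocallyConstructible_preimage {Y X : Scheme.{u}} (g : Y ⟶ X) {s : Set X}
    (hs : IsLocallyConstructible s) : IsLocallyConstructible (g.base ⁻¹' s) := by
  intro y
  obtain ⟨U, hU, hyU, -⟩ := exists_isAffineOpen_mem_and_subset (x := g.base y) (U := ⊤) trivial
  obtain ⟨V, hV, hyV, e⟩ := exists_isAffineOpen_mem_and_subset (x := y) (U := g ⁻¹ᵁ U) hyU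
  refine ⟨V, V.2.mem_nhds hyV, V.2, ?_⟩
  haveI : IsAffine U.toScheme := hU
  haveI : IsAffine V.toScheme := hV
  set ψ := g.resLE U V e with hψ
  haveI : QuasiCompact ψ := inferInstance
  have hψval : ∀ c : ↥V, (ψ.base c).1 = g.base c.1 := by
    intro c
    have h2 : (ψ ≫ U.ι).base c = (V.ι ≫ g).base c := by
      rw [hψ, Scheme.Hom.resLE_comp_ι g e]
    exact h2
  have h1 : IsLocallyConstructible ((Subtype.val : ↥U → X) ⁻¹' s) :=
    hs.preimage_of_isOpenEmbedding U.2.isOpenEmbedding_subtypeVal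
  have h2 : IsConstructible ((Subtype.val : ↥U → X) ⁻¹' s) :=
    IsLocallyConstructible.isConstructible (X := ↥U.toScheme) h1
  have h3 : IsConstructible (ψ.base ⁻¹' ((Subtype.val : ↥U → X) ⁻¹' s)) := by
    apply IsConstructible.preimage ψ.continuous _ h2
    intro t ht htr
    have htc : IsCompact t := IsRetrocompact.isCompact (X := ↥U.toScheme) htr
    have hsp := Scheme.Hom.isSpectralMap ψ
    exact IsCompact.isRetrocompact (X := ↥V.toScheme) (hsp.isCompact_preimage_of_isOpen ht htc)
      (ht.preimage ψ.continuous)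
  have h4 : ψ.base ⁻¹' ((Subtype.val : ↥U → X) ⁻¹' s) =
      (Subtype.val : ↥V → Y) ⁻¹' (g.base ⁻¹' s) := by
    ext c
    simp only [Set.mem_preimage]
    rw [hψval]
    rfl
  rw [h4] at h3
  exact h3

theorem exists_maximal_generization_point (Y : Scheme.{u}) (y : Y) :
    ∃ τ : Y, τ ⤳ y ∧ ∀ t : Y, t ⤳ τ → t = τ := by
  obtain ⟨_, ⟨W : Y.Opens, hW, rfl⟩, hxW, -⟩ :=
    Y.isBasis_affineOpens.exists_subset_of_mem_open (Set.mem_univ y) isOpen_univ
  have hxW' : y ∈ W := hxW
  set p := hW.primeIdealOf ⟨y, hxW'⟩ with hp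
  have hpx : hW.fromSpec.base p = y := hW.fromSpec_primeIdealOf ⟨y, hxW'⟩
  obtain ⟨q, hqmin, hqle⟩ := Ideal.exists_minimalPrimes_le (show (⊥ : Ideal Γ(Y, W)) ≤ p.asIdeal
    from bot_le)
  let q' : PrimeSpectrum Γ(Y, W) := ⟨q, hqmin.1.1⟩
  have hsp : q' ⤳ p := (PrimeSpectrum.le_iff_specializes _ _).mp hqle
  refine ⟨hW.fromSpec.base q', ?_, ?_⟩
  · rw [← hpx]
    exact hsp.map hW.fromSpec.continuous
  · intro t ht
    have hq'W : hW.fromSpec.base q' ∈ W := by
      have : hW.fromSpec.base q' ∈ Set.range hW.fromSpec.base := ⟨q', rfl⟩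
      rw [hW.range_fromSpec] at this
      exact this
    have htW : t ∈ W := ht.mem_open W.2 hq'W
    set pt := hW.primeIdealOf ⟨t, htW⟩ with hpt
    have hptt : hW.fromSpec.base pt = t := hW.fromSpec_primeIdealOf ⟨t, htW⟩
    rw [← hptt] at ht ⊢
    rw [hW.fromSpec.isOpenEmbedding.isInducing.specializes_iff] at ht
    have hle : pt.asIdeal ≤ q := (PrimeSpectrum.le_iff_specializes _ _).mpr ht
    have hge : q ≤ pt.asIdeal := hqmin.2 ⟨pt.2, bot_le⟩ hle
    congr 1
    exact PrimeSpectrum.ext (le_antisymm hle hge)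

variable {X Y : Scheme.{u}} (f : X ⟶ Y) [LocallyOfFiniteType f] (g : Y ⟶ X)
variable (hg : g ≫ f = 𝟙 Y)
include hg

/-- **Case (α)** with the discrete valuation ring as data. -/
theorem le_dim_generization_of_geomReduced'
    (hirr : ∀ y : Y, (∀ (K : Type u) [Field K] [Algebra (IsLocalRing.ResidueField (Y.presheaf.stalk y)) K],
        IsIrreducible ((FBase.bcπ (f.fiberToSpecResidueField y) K ≫ f.fiberι y).base ⁻¹'
          connectedComponentIn (f.base ⁻¹' {y}) (g.base y))))
    (y₀ : Y) (ξ₀ : X) (hξ₀ : ξ₀ ∈ connectedComponentIn (f.base ⁻¹' {y₀}) (g.base y₀))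
    (hC₀ : connectedComponentIn (f.base ⁻¹' {y₀}) (g.base y₀) = closure {ξ₀} ∩ f.base ⁻¹' {y₀})
    (N₀ : ℕ) (hN₀ : td (f.residueFieldMap ξ₀).hom = (N₀ : Cardinal.{u}))
    (hdim₀ : topologicalKrullDim ↥(connectedComponentIn (f.base ⁻¹' {y₀}) (g.base y₀)) =
      (N₀ : WithBot ℕ∞))
    (hopen : EGA43.IsUnivOpenAt f ξ₀)
    (hgr : FBase.IsGeomReducedAt (f.fiberToSpecResidueField (f.base (g.base y₀)))
      (f.asFiber (g.base y₀)))
    (y' : Y) (R : Type u) [CommRing R] [IsDomain R] [IsDiscreteValuationRing R]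
    (m : Spec (CommRingCat.of R) ⟶ Y) (hm1 : m.base (IsLocalRing.closedPoint R) = y₀)
    (hm2 : m.base (⟨⊥, Ideal.isPrime_bot⟩ : PrimeSpectrum R) = y') :
    (N₀ : WithBot ℕ∞) ≤
      topologicalKrullDim ↥(connectedComponentIn (f.base ⁻¹' {y'}) (g.base y')) := by
  have hfg : ∀ y : Y, f.base (g.base y) = y := fun y => by
    rw [← Scheme.Hom.comp_apply, hg]; rfl
  set p := pullback.fst f m with hp
  set φ := pullback.snd f m with hφ
  have hc : IsPullback p φ f m := IsPullback.of_hasPullback f m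
  haveI : LocallyOfFiniteType φ :=
    MorphismProperty.pullback_snd (P := @LocallyOfFiniteType) _ _ inferInstance
  haveI : IsLocallyNoetherian (pullback f m) := LocallyOfFiniteType.isLocallyNoetherian φ
  let gT : Spec (CommRingCat.of R) ⟶ pullback f m :=
    pullback.lift (m ≫ g) (𝟙 _) (by rw [Category.assoc, hg, Category.comp_id, Category.id_comp])
  have hgTp : gT ≫ p = m ≫ g := pullback.lift_fst _ _ _
  have hgTφ : gT ≫ φ = 𝟙 _ := pullback.lift_snd _ _ _
  set v : Spec (CommRingCat.of R) := closedPoint R with hv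
  set η : Spec (CommRingCat.of R) := (⟨⊥, Ideal.isPrime_bot⟩ : PrimeSpectrum R) with hη
  have hηv : η ⤳ v := IsLocalRing.specializes_closedPoint (R := R) η
  have hηne : η ≠ v := by
    intro h
    have h1 : (⊥ : Ideal R) = maximalIdeal R := congrArg PrimeSpectrum.asIdeal h
    exact IsDiscreteValuationRing.not_a_field R h1.symm
  set c := gT.base v with hcdef
  set w := gT.base η with hwdef
  have hφgT : ∀ t, φ.base (gT.base t) = t := fun t => by
    rw [← Scheme.Hom.comp_apply, hgTφ]; rfl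
  have hpgT : ∀ t, p.base (gT.base t) = g.base (m.base t) := fun t => by
    rw [← Scheme.Hom.comp_apply, hgTp]; rfl
  have hφc : φ.base c = v := hφgT v
  have hφw : φ.base w = η := hφgT η
  have hpc : p.base c = g.base y₀ := by rw [hcdef, hpgT, hm1]
  have hpw : p.base w = g.base y' := by rw [hwdef, hpgT, hm2]
  -- the components
  obtain ⟨hCCv, hdimv⟩ := bc_component hc v y₀ hm1 (g.base y₀) (hfg y₀) c hpc hφc (hirr y₀)
  obtain ⟨hCCη, hdimη⟩ := bc_component hc η y' hm2 (g.base y') (hfg y') w hpw hφw (hirr y')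
  have hCCvirr : IsIrreducible (connectedComponentIn (φ.base ⁻¹' {v}) c) := by
    rw [hCCv]
    exact isIrreducible_preimage_of_geom hc v y₀ hm1 _ (hirr y₀)
  obtain ⟨ξv, hξvCC, hCCveq⟩ := exists_generic_of_isClosed_in_fibre φ v _
    (connectedComponentIn_subset _ _) hCCvirr (connectedComponentIn_fibre_isClosed φ v c hφc)
  have hφξv : φ.base ξv = v := connectedComponentIn_subset (φ.base ⁻¹' {v}) c hξvCC
  obtain ⟨n, hn⟩ := exists_nat_td_residueFieldMap φ ξv
  have hnN₀ : n = N₀ := by
    have h1 := DimCriteria.dim_closure_inter_fibre φ ξv n hn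
    rw [hφξv, ← hCCveq, hdimv, hdim₀] at h1
    exact_mod_cast h1.symm
  -- `p ξv = ξ₀`
  have hpξv : p.base ξv = ξ₀ := by
    have h1 : p.base ξv ∈ connectedComponentIn (f.base ⁻¹' {y₀}) (g.base y₀) := by
      have := hξvCC
      rw [hCCv] at this
      exact this.1
    have h1' := h1
    rw [hC₀] at h1
    have hsp : ξ₀ ⤳ p.base ξv := specializes_iff_mem_closure.mpr h1.1
    have hf1 : f.base ξ₀ = y₀ := connectedComponentIn_subset (f.base ⁻¹' {y₀}) (g.base y₀) hξ₀
    have hf2 : f.base (p.base ξv) = y₀ := h1.2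
    by_contra hne
    have hlt := td_lt_of_specializes_of_ne f (p.base ξv) ξ₀ hsp (hf1.trans hf2.symm)
      (fun h => hne h.symm)
    have hle := td_le_of_isPullback hc ξv
    rw [hn, hnN₀] at hle
    rw [hN₀] at hlt
    exact absurd hle (not_le.mpr hlt)
  have hopenv : EGA43.IsUnivOpenAt φ ξv :=
    Groth.Agent.Lib.helper8.isUnivOpenAt_of_isPullback hopen hc ξv hpξv
  obtain ⟨ξ', hξ'ξv, hφξ', hle'⟩ := exists_generization_td_ge φ ξv hopenv η
    (by rw [hφξv]; exact hηv)
  -- the local irreducibility argument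
  have hξvc : ξv ⤳ c := by
    have : c ∈ connectedComponentIn (φ.base ⁻¹' {v}) c := mem_connectedComponentIn hφc
    rw [hCCveq] at this
    exact specializes_iff_mem_closure.mpr this.1
  have hwc : w ⤳ c := hηv.map gT.continuous
  obtain ⟨O', hO', hCCO'⟩ := exists_isOpen_connectedComponentIn_fibre φ v c hφc
  have hcO' : c ∈ O' := by
    have : c ∈ connectedComponentIn (φ.base ⁻¹' {v}) c := mem_connectedComponentIn hφc
    rw [hCCO'] at this
    exact this.2
  have hmin : ∀ x' : ↥(pullback f m), x' ⤳ c → φ.base x' = φ.base c → ξv ⤳ x' := by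
    intro x' hx'c hφx'
    have h1 : x' ∈ connectedComponentIn (φ.base ⁻¹' {v}) c := by
      rw [hCCO']
      exact ⟨hφx'.trans hφc, hx'c.mem_open hO' hcO'⟩
    rw [hCCveq] at h1
    exact specializes_iff_mem_closure.mpr h1.1
  have hred : (fibIdeal φ c).IsRadical := by
    apply isRadical_fibIdeal_of_isGeomReducedAt hc c (f.base (g.base y₀))
      (by rw [hφc, hm1, hfg]) (f.asFiber (g.base y₀)) _ hgr
    rw [f.fiberι_asFiber (g.base y₀), hpc]
  have hprin : (maximalIdeal ((Spec (CommRingCat.of R)).presheaf.stalk (φ.base c))).IsPrincipal := by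
    rw [hφc]
    exact isPrincipal_maximalIdeal_stalk_closedPoint R
  have hξ'w : ξ' ⤳ w := specializes_of_reduced_fibre φ c ξv ξ' w hξvc hξ'ξv hwc
    (by rw [hφξ', hφc]; exact hηne) hmin hred hprin
  obtain ⟨n', hn'⟩ := exists_nat_td_residueFieldMap φ ξ'
  have h5 := td_le_dim_connectedComponentIn φ ξ' w hξ'w n' hn'
  rw [hφw, hdimη] at h5
  refine le_trans ?_ h5
  rw [hn, hn', hnN₀] at hle'
  exact_mod_cast hle'


/-- the dimension of the section component is the local fibre dimension along the section. -/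
theorem dim_sectionComponent_eq_fibreDimAt (y : Y)
    (hirr : IsIrreducible (connectedComponentIn (f.base ⁻¹' {y}) (g.base y))) :
    topologicalKrullDim ↥(connectedComponentIn (f.base ⁻¹' {y}) (g.base y)) =
      FlatMor.fibreDimAt f (g.base y) := by
  have hfg : f.base (g.base y) = y := by
    rw [← Scheme.Hom.comp_apply, hg]; rfl
  have hset : f.base ⁻¹' {y} = f.base ⁻¹' {f.base (g.base y)} := by rw [hfg]
  have h1 := hirr
  rw [hset] at h1 ⊢
  exact dim_connectedComponentIn_eq_fibreDimAt' f (g.base y) h1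

end Groth.Agent.Lib.helper3.SecCompConst
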