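import Mathlib
import Groth.Agent.Lib.Helper3.SecCompConst5

/-!
# Local constancy of the dimension of the section components, finite presentation case, II
(helper3; = S4956)
-/

set_option autoImplicit false
universe u
open CategoryTheory AlgebraicGeometry CategoryTheory.Limits TopologicalSpace Topology IsLocalRing

namespace Groth.Agent.Lib.helper3.SecCompConst

open Groth.Agent.Lib.helper3 Groth.Agent.Lib.helper3.UOImageDim Groth.Agent.Lib.helper3.DimIneq
  Groth.Agent.Lib.helper3.SecCompDim Groth.Agent.Lib.helper3.UnivOpenGenTd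

/-- a discrete valuation ring through a specialization `y' ⤳ y₀` when `O_{Y,y₀}` is Noetherian. -/
theorem exists_dvr_of_specializes_of_isNoetherianRing_stalk (Y : Scheme.{u}) (y₀ y' : Y)
    (hy' : y' ⤳ y₀) [IsNoetherianRing (Y.presheaf.stalk y₀)] :
    ∃ (R : Type u) (_ : CommRing R) (_ : IsDomain R) (_ : IsDiscreteValuationRing R)
      (m : Spec (CommRingCat.of R) ⟶ Y),
      m.base (IsLocalRing.closedPoint R) = y₀ ∧
        m.base (⟨⊥, Ideal.isPrime_bot⟩ : PrimeSpectrum R) = y' := by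
  obtain ⟨t', ht'⟩ := exists_prime_of_specializes y₀ y' hy'
  haveI : IsLocallyNoetherian (Spec (Y.presheaf.stalk y₀)) := inferInstance
  have hsp : t' ⤳ closedPoint (Y.presheaf.stalk y₀) := IsLocalRing.specializes_closedPoint t'
  obtain ⟨R, i1, i2, i3, g₀, hg1, hg2⟩ :=
    Groth.Agent.Lib.helper4.SubtrNoeth.exists_dvr_of_specializes'
      (T := Spec (Y.presheaf.stalk y₀)) (closedPoint (Y.presheaf.stalk y₀)) t' hsp
  refine ⟨R, i1, i2, i3, g₀ ≫ Y.fromSpecStalk y₀, ?_, ?_⟩
  · rw [Scheme.Hom.comp_apply, hg1]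
    exact Scheme.fromSpecStalk_closedPoint
  · rw [Scheme.Hom.comp_apply, hg2, ht']

variable {X Y : Scheme.{u}} (f : X ⟶ Y) [LocallyOfFinitePresentation f] (g : Y ⟶ X)

/-- **S4956**. -/
theorem main_fp (hg : g ≫ f = 𝟙 Y)
    (hirr : ∀ y : Y, (∀ (K : Type u) [Field K] [Algebra (IsLocalRing.ResidueField (Y.presheaf.stalk y)) K],
        IsIrreducible ((FBase.bcπ (f.fiberToSpecResidueField y) K ≫ f.fiberι y).base ⁻¹' connectedComponentIn (f.base ⁻¹' {y}) (g.base y))))
    (y₀ : Y) (hopen : ∀ ξ ∈ connectedComponentIn (f.base ⁻¹' {y₀}) (g.base y₀), connectedComponentIn (f.base ⁻¹' {y₀}) (g.base y₀) ⊆ closure {ξ} → EGA43.IsUnivOpenAt f ξ)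
    (hαβ : (FBase.IsGeomReducedAt (f.fiberToSpecResidueField (f.base (g.base y₀))) (f.asFiber (g.base y₀)) ∧
        IsNoetherianRing (Y.presheaf.stalk y₀)) ∨
      (∀ y' : Y, y₀ ∈ closure {y'} → closure {y'} ∈ irreducibleComponents (Y : Type u) →
        topologicalKrullDim ↥(f.fiber y') = topologicalKrullDim ↥(connectedComponentIn (f.base ⁻¹' {y'}) (g.base y')))) :
    ∃ V ∈ nhds y₀, ∀ z ∈ V, topologicalKrullDim ↥(connectedComponentIn (f.base ⁻¹' {z}) (g.base z)) = topologicalKrullDim ↥(connectedComponentIn (f.base ⁻¹' {y₀}) (g.base y₀)) := by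
  have hfg : ∀ y : Y, f.base (g.base y) = y := fun y => by
    rw [← Scheme.Hom.comp_apply, hg]; rfl
  have hirr' : ∀ y : Y, IsIrreducible (connectedComponentIn (f.base ⁻¹' {y}) (g.base y)) :=
    fun y => isIrreducible_of_geom f y _ (connectedComponentIn_subset _ _) (hirr y)
  have husc := (main_S3419 f g hg hirr').1
  have hmono : ∀ a b : Y, a ⤳ b →
      topologicalKrullDim ↥(connectedComponentIn (f.base ⁻¹' {a}) (g.base a)) ≤
        topologicalKrullDim ↥(connectedComponentIn (f.base ⁻¹' {b}) (g.base b)) := by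
    intro a b hab
    by_contra hcon
    rw [not_le] at hcon
    have h3 : {z' : Y | topologicalKrullDim ↥(connectedComponentIn (f.base ⁻¹' {z'}) (g.base z')) <
        topologicalKrullDim ↥(connectedComponentIn (f.base ⁻¹' {a}) (g.base a))} ∈ nhds b :=
      husc b _ hcon
    have h4 : nhds a ≤ nhds b := hab
    have h5 : a ∈ {z' : Y | topologicalKrullDim ↥(connectedComponentIn (f.base ⁻¹' {z'}) (g.base z')) <
        topologicalKrullDim ↥(connectedComponentIn (f.base ⁻¹' {a}) (g.base a))} :=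
      mem_of_mem_nhds (h4 h3)
    rw [Set.mem_ofPred_eq] at h5
    exact lt_irrefl _ h5
  obtain ⟨ξ₀, hξ₀, hC₀⟩ := exists_generic_of_isClosed_in_fibre f y₀ _
    (connectedComponentIn_subset _ _) (hirr' y₀)
    (connectedComponentIn_fibre_isClosed f y₀ (g.base y₀) (hfg y₀))
  have hfξ₀ : f.base ξ₀ = y₀ := connectedComponentIn_subset (f.base ⁻¹' {y₀}) (g.base y₀) hξ₀
  obtain ⟨N₀, hN₀⟩ := exists_nat_td_residueFieldMap f ξ₀
  have hdim₀ : topologicalKrullDim ↥(connectedComponentIn (f.base ⁻¹' {y₀}) (g.base y₀)) =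
      (N₀ : WithBot ℕ∞) := by
    have h1 := DimCriteria.dim_closure_inter_fibre f ξ₀ N₀ hN₀
    rw [hfξ₀, ← hC₀] at h1
    exact h1
  have hopen₀ : EGA43.IsUnivOpenAt f ξ₀ := hopen ξ₀ hξ₀ (by rw [hC₀]; exact Set.inter_subset_left)
  -- generizations
  have key : ∀ y' : Y, y' ⤳ y₀ → (N₀ : WithBot ℕ∞) ≤
      topologicalKrullDim ↥(connectedComponentIn (f.base ⁻¹' {y'}) (g.base y')) := by
    intro y' hy'
    rcases hαβ with ⟨hα, hN⟩ | hβ
    · haveI := hN
      obtain ⟨R, _, _, _, m, hm1, hm2⟩ :=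
        exists_dvr_of_specializes_of_isNoetherianRing_stalk Y y₀ y' hy'
      exact le_dim_generization_of_geomReduced' f g hg hirr y₀ ξ₀ hξ₀ hC₀ N₀ hN₀ hdim₀ hopen₀ hα
        y' R m hm1 hm2
    · obtain ⟨τ, hτy', hτmax⟩ := exists_maximal_generization_point Y y'
      have hcomp : closure ({τ} : Set Y) ∈ irreducibleComponents (Y : Type u) :=
        EquidimAt.closure_mem_irreducibleComponents_of_forall_specializes τ hτmax
      have hτy₀ : τ ⤳ y₀ := hτy'.trans hy'
      have h1 := le_dim_generization_of_dim_eq f g y₀ ξ₀ hfξ₀ N₀ hN₀ hopen₀ τ hτy₀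
        (hβ τ (specializes_iff_mem_closure.mp hτy₀) hcomp)
      exact h1.trans (hmono τ y' hτy')
  have hV₁ := husc y₀ ((N₀ + 1 : ℕ) : WithBot ℕ∞) (by
    change topologicalKrullDim ↥(connectedComponentIn (f.base ⁻¹' {y₀}) (g.base y₀)) < _
    rw [hdim₀]
    exact_mod_cast Nat.lt_succ_self N₀)
  -- the constructible set
  have hA : ∃ A : Set Y, IsLocallyConstructible A ∧ ∀ z : Y, z ∈ A ↔ (N₀ : WithBot ℕ∞) ≤
      topologicalKrullDim ↥(connectedComponentIn (f.base ⁻¹' {z}) (g.base z)) := by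
    rcases Nat.eq_zero_or_pos N₀ with h0 | hpos
    · refine ⟨g.base ⁻¹' {x : X | FlatMor.fibreDimAt f x ≤ ⊥}ᶜ, ?_, ?_⟩
      · exact isLocallyConstructible_preimage g (FibreDimCons.isLocallyConstructible_compl
          (FibreDimCons.isLocallyConstructible_fibreDimAt_le f ⊥))
      · intro z
        rw [dim_sectionComponent_eq_fibreDimAt f g hg z (hirr' z), h0]
        simp only [Set.mem_preimage, Set.mem_compl_iff, Set.mem_ofPred_eq]
        rw [← FibreDimCons.lt_coe_zero_iff, not_lt]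
    · obtain ⟨k, rfl⟩ : ∃ k, N₀ = k + 1 := ⟨N₀ - 1, by omega⟩
      refine ⟨g.base ⁻¹' {x : X | FlatMor.fibreDimAt f x ≤ (k : WithBot ℕ∞)}ᶜ, ?_, ?_⟩
      · exact isLocallyConstructible_preimage g (FibreDimCons.isLocallyConstructible_compl
          (FibreDimCons.isLocallyConstructible_fibreDimAt_le f _))
      · intro z
        rw [dim_sectionComponent_eq_fibreDimAt f g hg z (hirr' z)]
        simp only [Set.mem_preimage, Set.mem_compl_iff, Set.mem_ofPred_eq]
        rw [← FibreDimCons.lt_coe_succ_iff, not_lt]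
  obtain ⟨A, hAlc, hAiff⟩ := hA
  have hAnhds : A ∈ nhds y₀ :=
    ConsNhds.mem_nhds_of_isLocallyConstructible hAlc y₀
      (fun y' hy' => (hAiff y').mpr (key y' hy'))
  refine ⟨_, Filter.inter_mem hV₁ hAnhds, ?_⟩
  rintro z ⟨hz1, hz2⟩
  have h3 : topologicalKrullDim ↥(connectedComponentIn (f.base ⁻¹' {z}) (g.base z)) ≤
      (N₀ : WithBot ℕ∞) := le_of_lt_succ_withBot _ N₀ hz1
  rw [hdim₀]
  exact le_antisymm h3 ((hAiff z).mp hz2)

end Groth.Agent.Lib.helper3.SecCompConst
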