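import Mathlib
import Groth.Agent.Lib.Helper3.SecCompConst1
import Groth.Agent.Lib.Helper3.SecCompConst3
import Groth.Agent.Lib.Helper4.UnivOpenDvr5

/-!
# Universal openness at the points of a section component of locally constant dimension
(helper3; = S3458)
-/

set_option autoImplicit false
universe u
open CategoryTheory AlgebraicGeometry CategoryTheory.Limits TopologicalSpace Topology IsLocalRing

namespace Groth.Agent.Lib.helper3.SecCompUnivOpen

open Groth.Agent.Lib.helper3 Groth.Agent.Lib.helper3.UOImageDim Groth.Agent.Lib.helper3.DimIneq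
  Groth.Agent.Lib.helper3.SecCompDim Groth.Agent.Lib.helper3.UnivOpenGenTd
  Groth.Agent.Lib.helper3.SecCompConst

variable {X Y : Scheme.{u}} (f : X ⟶ Y) [LocallyOfFiniteType f] (g : Y ⟶ X)

/-- the criterion over discrete valuation rings at the points of a section component of locally
constant dimension. -/
theorem dvrCrit_of_dim_const (hg : g ≫ f = 𝟙 Y)
    (hgi : ∀ (y : Y) (K : Type u) [Field K] [Algebra (IsLocalRing.ResidueField (Y.presheaf.stalk y)) K],
      IsIrreducible ((FBase.bcπ (f.fiberToSpecResidueField y) K ≫ f.fiberι y).base ⁻¹' (connectedComponentIn (f.base ⁻¹' {y}) (g.base y))))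
    (y : Y)
    (hc : ∃ V ∈ nhds y, ∀ z ∈ V, topologicalKrullDim ↥(connectedComponentIn (f.base ⁻¹' {z}) (g.base z)) = topologicalKrullDim ↥(connectedComponentIn (f.base ⁻¹' {y}) (g.base y)))
    (x : X) (hx : x ∈ connectedComponentIn (f.base ⁻¹' {y}) (g.base y)) :
    Groth.Agent.Lib.helper4.UnivOpenDvr4.DvrCrit f x := by
  intro A _ _ _ m hm x' hx'p hx'φ
  have hfg : ∀ y : Y, f.base (g.base y) = y := fun y => by
    rw [← Scheme.Hom.comp_apply, hg]; rfl
  have hfx : f.base x = y := connectedComponentIn_subset (f.base ⁻¹' {y}) (g.base y) hx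
  set p := pullback.fst f m with hp
  set φ := pullback.snd f m with hφ
  have hcsq : IsPullback p φ f m := IsPullback.of_hasPullback f m
  haveI : LocallyOfFiniteType φ :=
    MorphismProperty.pullback_snd (P := @LocallyOfFiniteType) _ _ inferInstance
  let gT : Spec (CommRingCat.of A) ⟶ pullback f m :=
    pullback.lift (m ≫ g) (𝟙 _) (by rw [Category.assoc, hg, Category.comp_id, Category.id_comp])
  have hgTp : gT ≫ p = m ≫ g := pullback.lift_fst _ _ _
  have hgTφ : gT ≫ φ = 𝟙 _ := pullback.lift_snd _ _ _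
  have hφgT : ∀ t, φ.base (gT.base t) = t := fun t => by
    rw [← Scheme.Hom.comp_apply, hgTφ]; rfl
  have hpgT : ∀ t, p.base (gT.base t) = g.base (m.base t) := fun t => by
    rw [← Scheme.Hom.comp_apply, hgTp]; rfl
  set v : Spec (CommRingCat.of A) := closedPoint A with hv
  set η : Spec (CommRingCat.of A) := (⟨⊥, Ideal.isPrime_bot⟩ : PrimeSpectrum A) with hη
  have hηv : η ⤳ v := IsLocalRing.specializes_closedPoint (R := A) η
  have hηne : η ≠ v := by
    intro h
    have h1 : (⊥ : Ideal A) = maximalIdeal A := congrArg PrimeSpectrum.asIdeal h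
    exact IsDiscreteValuationRing.not_a_field A h1.symm
  have hmv : m.base v = y := hm.trans hfx
  -- the components of the fibres of `φ`
  have hbc : ∀ t : Spec (CommRingCat.of A),
      connectedComponentIn (φ.base ⁻¹' {t}) (gT.base t) =
        p.base ⁻¹' (connectedComponentIn (f.base ⁻¹' {m.base t}) (g.base (m.base t))) ∩
          φ.base ⁻¹' {t} ∧
      topologicalKrullDim ↥(connectedComponentIn (φ.base ⁻¹' {t}) (gT.base t)) =
        topologicalKrullDim ↥(connectedComponentIn (f.base ⁻¹' {m.base t}) (g.base (m.base t))) :=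
    fun t => bc_component hcsq t (m.base t) rfl (g.base (m.base t)) (hfg _) (gT.base t) (hpgT t)
      (hφgT t) (hgi (m.base t))
  have hirrP : ∀ t : Spec (CommRingCat.of A),
      IsIrreducible (connectedComponentIn (φ.base ⁻¹' {t}) (gT.base t)) := by
    intro t
    rw [(hbc t).1]
    exact isIrreducible_preimage_of_geom hcsq t (m.base t) rfl _ (hgi (m.base t))
  have h3419 := (main_S3419 φ gT hgTφ hirrP).2 v
  have hconst : ∃ V' ∈ nhds v, ∀ z ∈ V',
      topologicalKrullDim ↥(connectedComponentIn (φ.base ⁻¹' {z}) (gT.base z)) =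
        topologicalKrullDim ↥(connectedComponentIn (φ.base ⁻¹' {v}) (gT.base v)) := by
    obtain ⟨V, hV, hVc⟩ := hc
    refine ⟨m.base ⁻¹' V, m.continuous.continuousAt.preimage_mem_nhds (by rw [hmv]; exact hV), ?_⟩
    intro z hz
    rw [(hbc z).2, (hbc v).2, hVc _ hz]
    have := hVc (m.base v) (by rw [hmv]; exact mem_of_mem_nhds hV)
    rw [this]
  have hsub := h3419 hconst η hηv
  -- `x'` lies in the component over `v`
  have hx'CC : x' ∈ connectedComponentIn (φ.base ⁻¹' {v}) (gT.base v) := by
    rw [(hbc v).1]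
    refine ⟨?_, hx'φ⟩
    rw [Set.mem_preimage, hx'p]
    have h1 : m.base v = y := hmv
    rw [h1]
    exact hx
  have hx'cl := hsub hx'CC
  obtain ⟨ζ, hζCC, hζeq⟩ := exists_generic_of_isClosed_in_fibre φ η _
    (connectedComponentIn_subset _ _) (hirrP η)
    (connectedComponentIn_fibre_isClosed φ η (gT.base η) (hφgT η))
  have hφζ : φ.base ζ = η := connectedComponentIn_subset (φ.base ⁻¹' {η}) (gT.base η) hζCC
  refine ⟨ζ, ?_, by rw [hφζ]; exact hηne⟩
  rw [specializes_iff_mem_closure]
  have h1 : closure (connectedComponentIn (φ.base ⁻¹' {η}) (gT.base η)) ⊆ closure {ζ} := by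
    apply closure_minimal _ isClosed_closure
    rw [hζeq]
    exact Set.inter_subset_left
  exact h1 hx'cl

/-- **S3458**. -/
theorem main [IsLocallyNoetherian Y] (hg : g ≫ f = 𝟙 Y)
    (hgi : ∀ (y : Y) (K : Type u) [Field K] [Algebra (IsLocalRing.ResidueField (Y.presheaf.stalk y)) K],
      IsIrreducible ((FBase.bcπ (f.fiberToSpecResidueField y) K ≫ f.fiberι y).base ⁻¹' (connectedComponentIn (f.base ⁻¹' {y}) (g.base y))))
    (y : Y)
    (hc : ∃ V ∈ nhds y, ∀ z ∈ V, topologicalKrullDim ↥(connectedComponentIn (f.base ⁻¹' {z}) (g.base z)) = topologicalKrullDim ↥(connectedComponentIn (f.base ⁻¹' {y}) (g.base y))) :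
    ∀ x ∈ connectedComponentIn (f.base ⁻¹' {y}) (g.base y), EGA43.IsUnivOpenAt f x := by
  intro x hx
  exact Groth.Agent.Lib.helper4.UnivOpenDvr5.isUnivOpenAt_of_dvrCrit f x
    (dvrCrit_of_dim_const f g hg hgi y hc x hx)

end Groth.Agent.Lib.helper3.SecCompUnivOpen
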