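import Mathlib

/-!
# Separating families of linear maps over an Artinian ring survive flat base change (helper3)
-/

set_option autoImplicit false
set_option linter.style.haveILetI false
set_option linter.unusedSectionVars false
universe u v
open TensorProduct

namespace Groth.Agent.Lib.helper3.SepArt

/-- in an Artinian module, a family of submodules with zero intersection has a finite subfamily
with zero intersection -/
theorem exists_finset_iInf_eq_bot {A : Type*} [CommRing A] {M : Type*} [AddCommGroup M]
    [Module A M] [IsArtinian A M] {ι : Type*} (K : ι → Submodule A M) (hK : ⨅ i, K i = ⊥) :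
    ∃ s : Finset ι, ⨅ i ∈ s, K i = ⊥ := by
  classical
  obtain ⟨K₀, ⟨s, rfl⟩, hmin⟩ := IsArtinian.set_has_minimal (R := A) (M := M)
    (Set.range fun s : Finset ι => ⨅ i ∈ s, K i) ⟨_, ⟨∅, rfl⟩⟩
  refine ⟨s, ?_⟩
  rw [eq_bot_iff, ← hK]
  refine le_iInf fun j => ?_
  have h1 : ⨅ i ∈ insert j s, K i ≤ ⨅ i ∈ s, K i := by
    refine le_iInf₂ fun i hi => ?_
    exact iInf₂_le i (Finset.mem_insert_of_mem hi)
  have h2 : ¬ (⨅ i ∈ insert j s, K i < ⨅ i ∈ s, K i) := hmin _ ⟨insert j s, rfl⟩
  have h3 : ⨅ i ∈ insert j s, K i = ⨅ i ∈ s, K i := by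
    by_contra hne
    exact h2 (lt_of_le_of_ne h1 hne)
  rw [← h3]
  exact iInf₂_le j (Finset.mem_insert_self j s)

/-- **Separating families survive flat base change over an Artinian ring.** -/
theorem eq_zero_of_forall_baseChange_eq_zero {A B : Type u} [CommRing A] [CommRing B]
    [Algebra A B] [Module.Flat A B] [IsArtinianRing A]
    {M : Type u} [AddCommGroup M] [Module A M] {ι : Type v} {N : ι → Type u}
    [∀ i, AddCommGroup (N i)] [∀ i, Module A (N i)]
    (a : ∀ i, M →ₗ[A] N i) (ha : ∀ m : M, (∀ i, a i m = 0) → m = 0)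
    (τ : B ⊗[A] M) (hτ : ∀ i, (a i).baseChange B τ = 0) : τ = 0 := by
  classical
  obtain ⟨M₀, hfin, hM₀⟩ := TensorProduct.exists_finite_submodule_right_of_setFinite
    ({τ} : Set (B ⊗[A] M)) (Set.finite_singleton τ)
  obtain ⟨τ₀, rfl⟩ := hM₀ (Set.mem_singleton τ)
  haveI : IsArtinian A M₀ := inferInstance
  let K : ι → Submodule A M₀ := fun i => LinearMap.ker ((a i).comp M₀.subtype)
  have hK : ⨅ i, K i = ⊥ := by
    rw [eq_bot_iff]
    intro m hm
    rw [Submodule.mem_iInf] at hm
    rw [Submodule.mem_bot]
    apply Subtype.ext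
    exact ha m.1 (fun i => hm i)
  obtain ⟨s, hs⟩ := exists_finset_iInf_eq_bot K hK
  -- the finite product map
  let p : M₀ →ₗ[A] (∀ i : s, N i.1) := LinearMap.pi fun i => (a i.1).comp M₀.subtype
  have hp : Function.Injective p := by
    rw [← LinearMap.ker_eq_bot, eq_bot_iff, ← hs]
    intro m hm
    rw [Submodule.mem_iInf]
    intro i
    rw [Submodule.mem_iInf]
    intro hi
    have h1 : p m = 0 := hm
    exact congrFun h1 ⟨i, hi⟩
  have hpB : Function.Injective (p.lTensor B) := Module.Flat.lTensor_preserves_injective_linearMap p hp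
  have key : ∀ (z : B ⊗[A] M₀) (i : s),
      (TensorProduct.piRight A A B (fun i : s => N i.1)) (p.lTensor B z) i =
        ((a i.1).comp M₀.subtype).lTensor B z := by
    intro z i
    induction z using TensorProduct.induction_on with
    | zero => simp
    | tmul b m => simp [p]
    | add x y hx hy => simp only [map_add, Pi.add_apply, hx, hy]
  have h0 : p.lTensor B τ₀ = 0 := by
    apply (TensorProduct.piRight A A B (fun i : s => N i.1)).injective
    rw [map_zero]
    funext i
    rw [key, Pi.zero_apply, LinearMap.lTensor_comp, LinearMap.comp_apply]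
    exact hτ i.1
  have h1 : τ₀ = 0 := hpB (by rw [h0, map_zero])
  rw [h1, map_zero]

end Groth.Agent.Lib.helper3.SepArt
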