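import Mathlib
import Groth.Agent.Lib.Helper3.SepNoeth
import Groth.Agent.Lib.Helper3.FlatDescN

/-!
# Sheaf-separating families and flat finitely presented base change (helper3, EGA IV 11.9)

`eq_zero_of_flat_fp`: for an arbitrary ring `A`, a flat finitely presented `A`-algebra `C` and a
sheaf-separating family `u i : M → N i`, the family `C ⊗ u i` is jointly injective.  Reduction to
the Noetherian case by descending `C` to a finitely generated `ℤ`-subalgebra of `A`
(EGA IV 11.2.6 in the form `FlatDesc.flat_colimit_iff`).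
-/

set_option autoImplicit false
set_option linter.style.haveILetI false
set_option linter.unusedSectionVars false
universe u v w

open TensorProduct

namespace Groth.Agent.Lib.helper3.SepFP

open Groth.Agent.Lib.helper3.SepNoeth

section FGSystem

variable (A₀ : Type u) [CommRing A₀] (A : Type u) [CommRing A] [Algebra A₀ A]

/-- finitely generated subalgebras -/
abbrev FGSub := {S : Subalgebra A₀ A // S.FG}

theorem isDirectedColimitRing_fgSub :
    FlatCA.IsDirectedColimitRing (fun S : FGSub A₀ A => S.1)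
      (fun S S' h => ((Subalgebra.inclusion h : S.1 →ₐ[A₀] S'.1)).toRingHom) A := by
  refine ⟨⟨fun S S' => ⟨⟨S.1 ⊔ S'.1, S.2.sup S'.2⟩,
      (le_sup_left : S.1 ≤ S.1 ⊔ S'.1), (le_sup_right : S'.1 ≤ S.1 ⊔ S'.1)⟩⟩,
    ⟨⟨⊥, Subalgebra.fg_bot⟩⟩, ?_, ?_, ?_, ?_, ?_⟩
  · intro S
    ext x
    rfl
  · intro S S' S'' h h'
    ext x
    rfl
  · intro S S' h
    ext x
    rfl
  · intro a
    refine ⟨⟨Algebra.adjoin A₀ ((({a} : Finset A) : Set A)), Subalgebra.fg_adjoin_finset _⟩,
      ⟨a, Algebra.subset_adjoin (by simp)⟩, rfl⟩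
  · intro S x hx
    refine ⟨S, le_rfl, ?_⟩
    have : x = 0 := Subtype.ext hx
    rw [this, map_zero]

end FGSystem

section Transfer

variable {A : Type*} [CommRing A] {M : Type*} [AddCommGroup M] [Module A M] {ι : Type*}
  {N : ι → Type*} [∀ i, AddCommGroup (N i)] [∀ i, Module A (N i)]

/-- joint injectivity after tensoring on the left with `C` -/
def JIl (C : Type*) [AddCommGroup C] [Module A C] (u : ∀ i, M →ₗ[A] N i) : Prop :=
  ∀ t : C ⊗[A] M, (∀ i, (u i).lTensor C t = 0) → t = 0

/-- joint injectivity after tensoring on the right with `C` -/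
def JIr (C : Type*) [AddCommGroup C] [Module A C] (u : ∀ i, M →ₗ[A] N i) : Prop :=
  ∀ t : M ⊗[A] C, (∀ i, (u i).rTensor C t = 0) → t = 0

theorem comm_rTensor (C : Type*) [AddCommGroup C] [Module A C] {N' : Type*} [AddCommGroup N']
    [Module A N'] (f : M →ₗ[A] N') (y : M ⊗[A] C) :
    TensorProduct.comm A N' C (f.rTensor C y) = f.lTensor C (TensorProduct.comm A M C y) := by
  induction y using TensorProduct.induction_on with
  | zero => simp
  | tmul m c => rfl
  | add y z hy hz => simp only [map_add, hy, hz]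

theorem JIl_iff_JIr (C : Type*) [AddCommGroup C] [Module A C] (u : ∀ i, M →ₗ[A] N i) :
    JIl C u ↔ JIr C u := by
  constructor
  · intro h t ht
    apply (TensorProduct.comm A M C).injective
    rw [map_zero]
    apply h
    intro i
    rw [← comm_rTensor, ht i, map_zero]
  · intro h t ht
    apply (TensorProduct.comm A M C).symm.injective
    rw [map_zero]
    apply h
    intro i
    apply (TensorProduct.comm A (N i) C).injective
    rw [comm_rTensor, map_zero, LinearEquiv.apply_symm_apply, ht i]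

theorem JIr.of_linearEquiv {C C' : Type*} [AddCommGroup C] [Module A C] [AddCommGroup C']
    [Module A C'] (e : C ≃ₗ[A] C') (u : ∀ i, M →ₗ[A] N i) (h : JIr C' u) : JIr C u := by
  intro t ht
  apply (LinearEquiv.lTensor M e).injective
  rw [map_zero]
  apply h
  intro i
  have h1 : (u i).rTensor C' ∘ₗ e.toLinearMap.lTensor M =
      e.toLinearMap.lTensor (N i) ∘ₗ (u i).rTensor C := by
    rw [LinearMap.rTensor_comp_lTensor, LinearMap.lTensor_comp_rTensor]
  have h2 := congrArg (fun k => k t) h1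
  simp only [LinearMap.comp_apply] at h2
  change (u i).rTensor C' (e.toLinearMap.lTensor M t) = 0
  rw [h2, ht i, map_zero]

/-- base change of the ring -/
theorem JIr.baseChange {A₁ : Type*} [CommRing A₁] [Algebra A₁ A] [Module A₁ M]
    [IsScalarTower A₁ A M] [∀ i, Module A₁ (N i)] [∀ i, IsScalarTower A₁ A (N i)]
    (C₁ : Type*) [AddCommGroup C₁] [Module A₁ C₁] (u : ∀ i, M →ₗ[A] N i)
    (h : JIr C₁ (fun i => (u i).restrictScalars A₁)) : JIr (A ⊗[A₁] C₁) u := by
  intro t ht
  have nat : ∀ (i : ι) (y : M ⊗[A₁] C₁),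
      (u i).rTensor (A ⊗[A₁] C₁)
        ((TensorProduct.AlgebraTensorModule.cancelBaseChange A₁ A A M C₁).symm y) =
      (TensorProduct.AlgebraTensorModule.cancelBaseChange A₁ A A (N i) C₁).symm
        (((u i).restrictScalars A₁).rTensor C₁ y) := by
    intro i y
    induction y using TensorProduct.induction_on with
    | zero => simp
    | tmul m c => rfl
    | add y z hy hz => simp only [map_add, hy, hz]
  have h0 : TensorProduct.AlgebraTensorModule.cancelBaseChange A₁ A A M C₁ t = 0 := by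
    apply h
    intro i
    apply (TensorProduct.AlgebraTensorModule.cancelBaseChange A₁ A A (N i) C₁).symm.injective
    rw [← nat, LinearEquiv.symm_apply_apply, ht i, map_zero]
  exact (TensorProduct.AlgebraTensorModule.cancelBaseChange A₁ A A M C₁).injective
    (by rw [h0, map_zero])

end Transfer

section Main

variable {A : Type u} [CommRing A] (C : Type u) [CommRing C] [Algebra A C] [Module.Flat A C]
  [Algebra.FinitePresentation A C]
  {M : Type v} [AddCommGroup M] [Module A M] {ι : Type*}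
  {N : ι → Type v} [∀ i, AddCommGroup (N i)] [∀ i, Module A (N i)]

/-- **EGA IV 11.9 (ring form)**: a sheaf-separating family stays jointly injective after tensoring
with a flat algebra of finite presentation. -/
theorem eq_zero_of_flat_fp (u : ∀ i, M →ₗ[A] N i) (hu : SheafSep u) (t : C ⊗[A] M)
    (ht : ∀ i, (u i).lTensor C t = 0) : t = 0 := by
  classical
  let P := Algebra.Presentation.ofFinitePresentation A C
  let A₀ := P.Core
  let B₀ := P.ModelOfHasCoeffs A₀
  let eC : A ⊗[A₀] B₀ ≃ₐ[A] C := P.tensorModelOfHasCoeffsEquiv A₀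
  have hflat : Module.Flat A (A ⊗[A₀] B₀) := Module.Flat.of_linearEquiv eC.toLinearEquiv
  obtain ⟨S, hS⟩ := (Groth.Agent.Lib.helper3.FlatDesc.flat_colimit_iff
    (fun S : FGSub A₀ A => S.1) (fun S S' h => Subalgebra.inclusion h) A
    (isDirectedColimitRing_fgSub A₀ A) (B₀ := B₀) B₀).mp hflat
  let A₁ := S.1
  haveI : Algebra.FiniteType A₀ A₁ := (Subalgebra.fg_iff_finiteType S.1).mp S.2
  haveI : Algebra.FiniteType ℤ A₀ := inferInstanceAs (Algebra.FiniteType ℤ P.Core)
  haveI : Algebra.FiniteType ℤ A₁ := Algebra.FiniteType.trans ‹Algebra.FiniteType ℤ A₀› inferInstance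
  haveI : IsNoetherianRing A₁ := Algebra.FiniteType.isNoetherianRing ℤ A₁
  haveI : Module.Flat A₁ (A₁ ⊗[A₀] B₀) := hS
  haveI : Algebra.FiniteType A₁ (A₁ ⊗[A₀] B₀) := inferInstance
  have hu₁ : SheafSep (fun i => (u i).restrictScalars A₁) := by
    intro a m hm
    obtain ⟨n, hn⟩ := hu (a : A) m (fun i => by
      obtain ⟨n, hn⟩ := hm i
      exact ⟨n, hn⟩)
    exact ⟨n, hn⟩
  have h1 : JIl (A₁ ⊗[A₀] B₀) (fun i => (u i).restrictScalars A₁) := fun t ht =>
    eq_zero_of_noetherian (A := A₁) (A₁ ⊗[A₀] B₀) _ hu₁ t ht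
  have h2 : JIr (A ⊗[A₁] (A₁ ⊗[A₀] B₀)) u :=
    JIr.baseChange (A₁ := A₁) (A₁ ⊗[A₀] B₀) u ((JIl_iff_JIr _ _).mp h1)
  have e : C ≃ₗ[A] A ⊗[A₁] (A₁ ⊗[A₀] B₀) :=
    eC.symm.toLinearEquiv ≪≫ₗ
      (TensorProduct.AlgebraTensorModule.cancelBaseChange A₀ A₁ A A B₀).symm
  exact (JIl_iff_JIr C u).mpr (JIr.of_linearEquiv e u h2) t ht

end Main

end Groth.Agent.Lib.helper3.SepFP
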