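import Mathlib
import Groth.Agent.Lib.Helper3.SepFP

/-!
# Sheaf-separating families and base change over a field (helper3, EGA IV 11.9)

* `JIl_of_sheafSep_baseChange`: if the base-changed family is sheaf-separating over `C₀`, then the
  family stays jointly injective after tensoring with a principal localization of `C₀`.
* `sheafSep_baseChange_field`: over a field `k`, a sheaf-separating family of `A`-linear maps stays
  sheaf-separating after base change to `A ⊗[k] B`, for an arbitrary `k`-algebra `B`.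
-/

set_option autoImplicit false
set_option linter.style.haveILetI false
set_option linter.unusedSectionVars false
universe u v w

open TensorProduct

namespace Groth.Agent.Lib.helper3.SepField

open Groth.Agent.Lib.helper3.SepNoeth Groth.Agent.Lib.helper3.SepFP

section LocMap

variable {A : Type*} [CommRing A] (C₀ : Type*) [CommRing C₀] [Algebra A C₀]
  (C : Type*) [CommRing C] [Algebra C₀ C] [Algebra A C] [IsScalarTower A C₀ C]

/-- the map `C₀ ⊗ P → C ⊗ P` -/
noncomputable def locMap (P : Type*) [AddCommGroup P] [Module A P] :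
    C₀ ⊗[A] P →ₗ[C₀] C ⊗[A] P :=
  TensorProduct.AlgebraTensorModule.rTensor A P (Algebra.linearMap C₀ C)

theorem locMap_tmul (P : Type*) [AddCommGroup P] [Module A P] (c : C₀) (p : P) :
    locMap C₀ C P (c ⊗ₜ[A] p) = algebraMap C₀ C c ⊗ₜ[A] p := rfl

theorem locMap_nat {P P' : Type*} [AddCommGroup P] [Module A P] [AddCommGroup P'] [Module A P']
    (w : P →ₗ[A] P') (y : C₀ ⊗[A] P) :
    w.lTensor C (locMap C₀ C P y) = locMap C₀ C P' (w.lTensor C₀ y) := by
  induction y using TensorProduct.induction_on with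
  | zero => simp
  | tmul c p => rfl
  | add y z hy hz => simp only [map_add, hy, hz]

theorem lTensor_smul {P P' : Type*} [AddCommGroup P] [Module A P] [AddCommGroup P'] [Module A P']
    (w : P →ₗ[A] P') (c : C₀) (y : C ⊗[A] P) :
    w.lTensor C (c • y) = c • w.lTensor C y := by
  induction y using TensorProduct.induction_on with
  | zero => simp
  | tmul c' p => rfl
  | add y z hy hz => simp only [smul_add, map_add, hy, hz]

instance isLocalizedModule_locMap (f₀ : C₀) [IsLocalization.Away f₀ C] (P : Type*)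
    [AddCommGroup P] [Module A P] :
    IsLocalizedModule (Submonoid.powers f₀) (locMap (A := A) C₀ C P) := by
  haveI : IsLocalizedModule (Submonoid.powers f₀) (Algebra.linearMap C₀ C) :=
    isLocalizedModule_iff_isLocalization.mpr inferInstance
  unfold locMap
  infer_instance

end LocMap

section LemmaG

variable {A : Type*} [CommRing A] {M : Type*} [AddCommGroup M] [Module A M] {ι : Type*}
  {N : ι → Type*} [∀ i, AddCommGroup (N i)] [∀ i, Module A (N i)]

/-- joint injectivity on a principal localization from sheaf-separation of the base change -/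
theorem JIl_of_sheafSep_baseChange (C₀ : Type*) [CommRing C₀] [Algebra A C₀]
    (u : ∀ i, M →ₗ[A] N i) (hsep : SheafSep (fun i => (u i).baseChange C₀)) (f₀ : C₀)
    (C : Type*) [CommRing C] [Algebra C₀ C] [IsLocalization.Away f₀ C] [Algebra A C]
    [IsScalarTower A C₀ C] : JIl C u := by
  intro t ht
  obtain ⟨⟨t₀, s⟩, hs⟩ := IsLocalizedModule.surj (Submonoid.powers f₀) (locMap C₀ C M) t
  have hs' : s • t = locMap C₀ C M t₀ := hs
  have h1 : ∀ i, ∃ n : ℕ, f₀ ^ n • (u i).baseChange C₀ t₀ = 0 := by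
    intro i
    have h2 : locMap C₀ C (N i) ((u i).lTensor C₀ t₀) = 0 := by
      rw [← locMap_nat, ← hs']
      have : (s : C₀) • t = s • t := rfl
      rw [← this, lTensor_smul, ht i, smul_zero]
    obtain ⟨⟨_, n, rfl⟩, hn⟩ := (IsLocalizedModule.eq_zero_iff (Submonoid.powers f₀)
      (locMap C₀ C (N i))).mp h2
    exact ⟨n, hn⟩
  obtain ⟨n, hn⟩ := hsep f₀ t₀ h1
  have h3 : locMap C₀ C M t₀ = 0 :=
    (IsLocalizedModule.eq_zero_iff (Submonoid.powers f₀) (locMap C₀ C M)).mpr
      ⟨⟨f₀ ^ n, n, rfl⟩, hn⟩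
  rw [h3] at hs'
  exact IsLocalizedModule.smul_injective (locMap C₀ C M) s (by simpa using hs')

end LemmaG

section Field

variable {k : Type u} [Field k] {A : Type u} [CommRing A] [Algebra k A]
  (B : Type u) [CommRing B] [Algebra k B]

/-- `A ⊗ B' → A ⊗ B` for a subalgebra `B'` -/
noncomputable def stageMap (B' : Subalgebra k B) : A ⊗[k] B' →ₐ[A] A ⊗[k] B :=
  Algebra.TensorProduct.map (AlgHom.id A A) B'.val

/-- `A ⊗ B' → A ⊗ B''` for subalgebras `B' ≤ B''` -/
noncomputable def stageIncl {B' B'' : Subalgebra k B} (h : B' ≤ B'') :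
    A ⊗[k] B' →ₐ[A] A ⊗[k] B'' :=
  Algebra.TensorProduct.map (AlgHom.id A A) (Subalgebra.inclusion h)

theorem stageMap_stageIncl {B' B'' : Subalgebra k B} (h : B' ≤ B'') (x : A ⊗[k] B') :
    stageMap (A := A) B B'' (stageIncl B h x) = stageMap B B' x := by
  induction x using TensorProduct.induction_on with
  | zero => simp
  | tmul a b => rfl
  | add y z hy hz => simp only [map_add, hy, hz]

theorem range_stageMap_mono {B' B'' : Subalgebra k B} (h : B' ≤ B'') :
    Set.range (stageMap (A := A) B B') ⊆ Set.range (stageMap (A := A) B B'') := by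
  rintro _ ⟨x, rfl⟩
  exact ⟨stageIncl B h x, stageMap_stageIncl B h x⟩

/-- every element of `A ⊗ B` comes from a finitely generated subalgebra of `B` -/
theorem exists_stage (r : A ⊗[k] B) :
    ∃ B' : Subalgebra k B, B'.FG ∧ r ∈ Set.range (stageMap (A := A) B B') := by
  induction r using TensorProduct.induction_on with
  | zero => exact ⟨⊥, Subalgebra.fg_bot, 0, map_zero _⟩
  | tmul a b =>
    refine ⟨Algebra.adjoin k ((({b} : Finset B) : Set B)), Subalgebra.fg_adjoin_finset _,
      a ⊗ₜ ⟨b, Algebra.subset_adjoin (by simp)⟩, rfl⟩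
  | add y z hy hz =>
    obtain ⟨B₁, h₁, y', hy'⟩ := hy
    obtain ⟨B₂, h₂, z', hz'⟩ := hz
    refine ⟨B₁ ⊔ B₂, h₁.sup h₂, ?_⟩
    obtain ⟨y'', hy''⟩ := range_stageMap_mono B (le_sup_left : B₁ ≤ B₁ ⊔ B₂) ⟨y', hy'⟩
    obtain ⟨z'', hz''⟩ := range_stageMap_mono B (le_sup_right : B₂ ≤ B₁ ⊔ B₂) ⟨z', hz'⟩
    exact ⟨y'' + z'', by rw [map_add, hy'', hz'']⟩

variable {M : Type v} [AddCommGroup M] [Module A M]

/-- `(A ⊗ B') ⊗ P → (A ⊗ B) ⊗ P` -/
noncomputable def stageMapMod (B' : Subalgebra k B) (P : Type*) [AddCommGroup P] [Module A P] :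
    (A ⊗[k] B') ⊗[A] P →ₗ[A] (A ⊗[k] B) ⊗[A] P :=
  (stageMap (A := A) B B').toLinearMap.rTensor P

theorem stageMapMod_tmul (B' : Subalgebra k B) (P : Type*) [AddCommGroup P] [Module A P]
    (r : A ⊗[k] B') (p : P) :
    stageMapMod B B' P (r ⊗ₜ p) = stageMap B B' r ⊗ₜ p := rfl

theorem range_stageMapMod_mono {B' B'' : Subalgebra k B} (h : B' ≤ B'') (P : Type*)
    [AddCommGroup P] [Module A P] :
    Set.range (stageMapMod (A := A) B B' P) ⊆ Set.range (stageMapMod (A := A) B B'' P) := by
  rintro _ ⟨x, rfl⟩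
  refine ⟨(stageIncl (A := A) B h).toLinearMap.rTensor P x, ?_⟩
  induction x using TensorProduct.induction_on with
  | zero => simp
  | tmul r p =>
    change stageMap B B'' (stageIncl B h r) ⊗ₜ p = stageMap B B' r ⊗ₜ p
    rw [stageMap_stageIncl]
  | add y z hy hz => simp only [map_add, hy, hz]

theorem exists_stageMod (t : (A ⊗[k] B) ⊗[A] M) :
    ∃ B' : Subalgebra k B, B'.FG ∧ t ∈ Set.range (stageMapMod (A := A) B B' M) := by
  induction t using TensorProduct.induction_on with
  | zero => exact ⟨⊥, Subalgebra.fg_bot, 0, map_zero _⟩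
  | tmul r m =>
    obtain ⟨B', hB', r', rfl⟩ := exists_stage B r
    exact ⟨B', hB', r' ⊗ₜ m, rfl⟩
  | add y z hy hz =>
    obtain ⟨B₁, h₁, hy'⟩ := hy
    obtain ⟨B₂, h₂, hz'⟩ := hz
    refine ⟨B₁ ⊔ B₂, h₁.sup h₂, ?_⟩
    obtain ⟨y'', hy''⟩ := range_stageMapMod_mono B (le_sup_left : B₁ ≤ B₁ ⊔ B₂) M hy'
    obtain ⟨z'', hz''⟩ := range_stageMapMod_mono B (le_sup_right : B₂ ≤ B₁ ⊔ B₂) M hz'
    exact ⟨y'' + z'', by rw [map_add, hy'', hz'']⟩

theorem stageMapMod_injective (B' : Subalgebra k B) (P : Type*) [AddCommGroup P] [Module A P] :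
    Function.Injective (stageMapMod (A := A) B B' P) := by
  obtain ⟨ρ, hρ⟩ := LinearMap.exists_leftInverse_of_injective B'.val.toLinearMap
    (LinearMap.ker_eq_bot.mpr Subtype.val_injective)
  let σ : A ⊗[k] B →ₗ[A] A ⊗[k] B' :=
    TensorProduct.AlgebraTensorModule.map (LinearMap.id : A →ₗ[A] A) ρ
  have hσ : ∀ x : A ⊗[k] B', σ (stageMap B B' x) = x := by
    intro x
    induction x using TensorProduct.induction_on with
    | zero => simp
    | tmul a b =>
      have := LinearMap.congr_fun hρ b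
      simp only [LinearMap.comp_apply, LinearMap.id_apply] at this
      exact congrArg (fun z => a ⊗ₜ[k] z) this
    | add y z hy hz => simp only [map_add, hy, hz]
  have hleft : ∀ y : (A ⊗[k] B') ⊗[A] P, σ.rTensor P (stageMapMod B B' P y) = y := by
    intro y
    induction y using TensorProduct.induction_on with
    | zero => simp
    | tmul r p =>
      rw [stageMapMod_tmul, LinearMap.rTensor_tmul, hσ]
    | add y z hy hz => simp only [map_add, hy, hz]
  exact Function.LeftInverse.injective hleft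

theorem stageMapMod_smul (B' : Subalgebra k B) (P : Type*) [AddCommGroup P] [Module A P]
    (r : A ⊗[k] B') (y : (A ⊗[k] B') ⊗[A] P) :
    stageMapMod B B' P (r • y) = stageMap B B' r • stageMapMod B B' P y := by
  induction y using TensorProduct.induction_on with
  | zero => simp
  | tmul r' p =>
    rw [TensorProduct.smul_tmul', stageMapMod_tmul, stageMapMod_tmul, TensorProduct.smul_tmul',
      smul_eq_mul, smul_eq_mul, map_mul]
  | add y z hy hz => simp only [smul_add, map_add, hy, hz]

theorem stageMapMod_nat (B' : Subalgebra k B) {P P' : Type*} [AddCommGroup P] [Module A P]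
    [AddCommGroup P'] [Module A P'] (w : P →ₗ[A] P') (y : (A ⊗[k] B') ⊗[A] P) :
    w.lTensor (A ⊗[k] B) (stageMapMod B B' P y) = stageMapMod B B' P' (w.lTensor (A ⊗[k] B') y) := by
  induction y using TensorProduct.induction_on with
  | zero => simp
  | tmul r p => rfl
  | add y z hy hz => simp only [map_add, hy, hz]

variable {ι : Type*} {N : ι → Type v} [∀ i, AddCommGroup (N i)] [∀ i, Module A (N i)]

/-- **EGA IV 11.9, field case (ring form)** -/
theorem sheafSep_baseChange_field (u : ∀ i, M →ₗ[A] N i) (hu : SheafSep u) :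
    SheafSep (fun i => (u i).baseChange (A ⊗[k] B)) := by
  intro f t ht
  obtain ⟨B₁, h₁, hf₁⟩ := exists_stage (A := A) B f
  obtain ⟨B₂, h₂, ht₂⟩ := exists_stageMod (A := A) B t
  obtain ⟨B', hFG, hle₁, hle₂⟩ : ∃ B' : Subalgebra k B, B'.FG ∧ B₁ ≤ B' ∧ B₂ ≤ B' :=
    ⟨B₁ ⊔ B₂, h₁.sup h₂, le_sup_left, le_sup_right⟩
  obtain ⟨f', hf'⟩ := range_stageMap_mono B hle₁ hf₁
  obtain ⟨t', ht'⟩ := range_stageMapMod_mono B hle₂ M ht₂
  -- finiteness and flatness of `C' = (A ⊗ B')_{f'}` over `A`
  haveI : Algebra.FiniteType k B' := (Subalgebra.fg_iff_finiteType B').mp hFG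
  haveI : Algebra.FinitePresentation k B' := Algebra.FinitePresentation.of_finiteType.mp inferInstance
  haveI : Algebra.FinitePresentation A (A ⊗[k] B') := inferInstance
  haveI : Algebra.FinitePresentation (A ⊗[k] B') (Localization.Away f') :=
    IsLocalization.Away.finitePresentation f'
  haveI : Algebra.FinitePresentation A (Localization.Away f') :=
    Algebra.FinitePresentation.trans A (A ⊗[k] B') (Localization.Away f')
  haveI : Module.Flat A (A ⊗[k] B') := inferInstance
  haveI : Module.Flat (A ⊗[k] B') (Localization.Away f') :=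
    IsLocalization.flat (Localization.Away f') (Submonoid.powers f')
  haveI : Module.Flat A (Localization.Away f') :=
    Module.Flat.trans A (A ⊗[k] B') (Localization.Away f')
  -- the element `t'` is killed by powers of `f'` after applying the `u i`
  have h1 : ∀ i, ∃ n : ℕ, f' ^ n • (u i).lTensor (A ⊗[k] B') t' = 0 := by
    intro i
    obtain ⟨n, hn⟩ := ht i
    refine ⟨n, stageMapMod_injective B B' (N i) ?_⟩
    rw [stageMapMod_smul, map_zero, ← stageMapMod_nat, ht', map_pow, hf']
    exact hn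
  -- pass to the localization
  have h2 : locMap (A ⊗[k] B') (Localization.Away f') M t' = 0 := by
    refine eq_zero_of_flat_fp (A := A) (Localization.Away f') u hu _ (fun i => ?_)
    rw [locMap_nat]
    obtain ⟨n, hn⟩ := h1 i
    exact (IsLocalizedModule.eq_zero_iff (Submonoid.powers f')
      (locMap (A ⊗[k] B') (Localization.Away f') (N i))).mpr ⟨⟨f' ^ n, n, rfl⟩, hn⟩
  obtain ⟨⟨_, n, rfl⟩, hn⟩ := (IsLocalizedModule.eq_zero_iff (Submonoid.powers f')
    (locMap (A ⊗[k] B') (Localization.Away f') M)).mp h2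
  refine ⟨n, ?_⟩
  have hn' : f' ^ n • t' = 0 := hn
  rw [← ht', ← hf', ← map_pow, ← stageMapMod_smul, hn', map_zero]

end Field

end Groth.Agent.Lib.helper3.SepField
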