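import Groth.Agent.Lib.Helper3.SepPullFP
import Groth.Agent.Lib.Helper3.SepField

/-!
# Pullback of a separating family of module homomorphisms along a base change over a field
(helper3, EGA IV 11.9)
-/

set_option autoImplicit false
set_option linter.style.haveILetI false
set_option linter.unusedSectionVars false
universe u v
open CategoryTheory CategoryTheory.Limits AlgebraicGeometry TopologicalSpace Opposite TensorProduct

namespace Groth.Agent.Lib.helper3.SepPullField

open Scheme.Modules Groth.Agent.Lib.helper16.CohFinite Groth.Agent.Lib.helper16.QCohPullback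
  Groth.Agent.Lib.helper16.QCohPullback3 Groth.Agent.Lib.helper16.QCohEpi
  Groth.Agent.Lib.helper3.SepPull Groth.Agent.Lib.helper3.SepNoeth
  Groth.Agent.Lib.helper3.SepFP Groth.Agent.Lib.helper3.SepField
  Groth.Agent.Lib.helper3.SepPullFP

section Transport

variable {A : Type*} [CommRing A] {M : Type*} [AddCommGroup M] [Module A M] {ι : Type*}
  {N : ι → Type*} [∀ i, AddCommGroup (N i)] [∀ i, Module A (N i)]
  {R C₀ : Type*} [CommRing R] [CommRing C₀] [Algebra A R] [Algebra A C₀]

theorem rTensor_equiv_smul (e : R ≃ₐ[A] C₀) (P : Type*) [AddCommGroup P] [Module A P] (r : R)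
    (y : R ⊗[A] P) :
    (LinearEquiv.rTensor P e.toLinearEquiv) (r • y) =
      e r • (LinearEquiv.rTensor P e.toLinearEquiv) y := by
  induction y using TensorProduct.induction_on with
  | zero => simp
  | tmul r' p =>
    change (e (r • r')) ⊗ₜ[A] p = e r • ((e r') ⊗ₜ[A] p)
    rw [TensorProduct.smul_tmul', smul_eq_mul, smul_eq_mul, map_mul]
  | add y z hy hz => simp only [smul_add, map_add, hy, hz]

theorem rTensor_equiv_nat (e : R ≃ₐ[A] C₀) {P P' : Type*} [AddCommGroup P] [Module A P]
    [AddCommGroup P'] [Module A P'] (w : P →ₗ[A] P') (y : R ⊗[A] P) :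
    w.lTensor C₀ ((LinearEquiv.rTensor P e.toLinearEquiv) y) =
      (LinearEquiv.rTensor P' e.toLinearEquiv) (w.lTensor R y) := by
  induction y using TensorProduct.induction_on with
  | zero => simp
  | tmul r' p => rfl
  | add y z hy hz => simp only [map_add, hy, hz]

/-- sheaf-separation of the base change is invariant under algebra isomorphisms -/
theorem sheafSep_baseChange_of_algEquiv (e : R ≃ₐ[A] C₀) (u : ∀ i, M →ₗ[A] N i)
    (h : SheafSep (fun i => (u i).baseChange R)) : SheafSep (fun i => (u i).baseChange C₀) := by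
  intro f₀ t ht
  obtain ⟨n, hn⟩ := h (e.symm f₀) ((LinearEquiv.rTensor M e.toLinearEquiv).symm t) (fun i => by
    obtain ⟨n, hn⟩ := ht i
    refine ⟨n, (LinearEquiv.rTensor (N i) e.toLinearEquiv).injective ?_⟩
    change (LinearEquiv.rTensor (N i) e.toLinearEquiv) (e.symm f₀ ^ n • (u i).lTensor R _) = _
    rw [rTensor_equiv_smul, ← rTensor_equiv_nat, LinearEquiv.apply_symm_apply, map_pow,
      AlgEquiv.apply_symm_apply, map_zero]
    exact hn)
  refine ⟨n, ?_⟩
  have := congrArg (LinearEquiv.rTensor M e.toLinearEquiv) hn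
  rw [rTensor_equiv_smul, LinearEquiv.apply_symm_apply, map_pow, AlgEquiv.apply_symm_apply,
    map_zero] at this
  exact this

end Transport

/-- **affine-local statement**, given joint injectivity on the ring level -/
theorem eq_zero_of_affine_of_JIl {X X' : Scheme.{u}} (g : X' ⟶ X) {U : X.Opens}
    (hU : IsAffineOpen U) {V : X'.Opens} (hV : IsAffineOpen V)
    (e : V ≤ g ⁻¹ᵁ U) (F : X.Modules) [F.IsQuasicoherent] {ι : Type v} (G : ι → X.Modules)
    [∀ i, (G i).IsQuasicoherent] (u : ∀ i, F ⟶ G i)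
    (hJI : letI := (g.appLE U V e).hom.toAlgebra
      JIl Γ(X', V) (fun i => ((secFun hU).map (u i)).hom))
    (t : Γ((Scheme.Modules.pullback g).obj F, V))
    (ht : ∀ i, (((Scheme.Modules.pullback g).map (u i)).app V).hom t = 0) : t = 0 := by
  apply toSpecSections_injective _ hV
  rw [map_zero]
  set t₁ := toSpecSections ((Scheme.Modules.pullback g).obj F) hV t with ht₁
  letI alg := (g.appLE U V e).hom.toAlgebra
  have hbij := ConcreteCategory.bijective_of_isIso (alphaApp g hU hV e F)
  obtain ⟨τ, hτ⟩ := hbij.2 t₁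
  have key : ∀ i, ((ModuleCat.extendScalars (g.appLE U V e).hom).map
      ((secFun hU).map (u i))).hom τ = 0 := by
    intro i
    apply (ConcreteCategory.bijective_of_isIso (alphaApp g hU hV e (G i))).1
    rw [map_zero]
    have nat := alphaApp_naturality g hU hV e (u i)
    have h1 := congrArg (fun k => k.hom τ) nat
    simp only [ModuleCat.hom_comp, LinearMap.comp_apply] at h1
    refine h1.trans ?_
    have h2 : (alphaApp g hU hV e F).hom τ = t₁ := hτ
    rw [h2, ht₁]
    have h3 := toSpecSections_naturality ((Scheme.Modules.pullback g).map (u i)) hV t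
    refine h3.trans ?_
    rw [ht i, map_zero]
    rfl
  have hτ0 : extendScalarsEquiv (g.appLE U V e).hom ((secFun hU).obj F) τ = 0 := by
    refine hJI _ (fun i => ?_)
    change (((secFun hU).map (u i)).hom.baseChange Γ(X', V)) _ = 0
    rw [← extendScalarsEquiv_map, key i, map_zero]
  have hτ1 : τ = 0 := (extendScalarsEquiv (g.appLE U V e).hom ((secFun hU).obj F)).injective
    (by rw [hτ0, map_zero])
  rw [← hτ, hτ1, map_zero]
  rfl

section Chart

variable {k : Type u} [Field k] {X S' : Scheme.{u}} (p : X ⟶ Spec (CommRingCat.of k))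
  (q : S' ⟶ Spec (CommRingCat.of k))
  {U : X.Opens} (hU : IsAffineOpen U) {T : S'.Opens} (hT : IsAffineOpen T)
  [Algebra k Γ(X, U)] [Algebra k Γ(S', T)]
  (hA : Spec.map (CommRingCat.ofHom (algebraMap k Γ(X, U))) = hU.fromSpec ≫ p)
  (hB : Spec.map (CommRingCat.ofHom (algebraMap k Γ(S', T))) = hT.fromSpec ≫ q)

/-- the affine chart `Spec (Γ(X,U) ⊗ Γ(S',T)) ⟶ X ×ₖ S'` -/
noncomputable def chart : Spec (CommRingCat.of (Γ(X, U) ⊗[k] Γ(S', T))) ⟶ pullback p q :=
  (pullbackSpecIso k Γ(X, U) Γ(S', T)).inv ≫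
    pullback.map _ _ p q hU.fromSpec hT.fromSpec (𝟙 _)
      (by rw [Category.comp_id, hA]) (by rw [Category.comp_id, hB])

instance : IsOpenImmersion (chart p q hU hT hA hB) := by
  unfold chart
  infer_instance

theorem chart_fst : chart p q hU hT hA hB ≫ pullback.fst p q =
    Spec.map (CommRingCat.ofHom (Algebra.TensorProduct.includeLeftRingHom
      (R := k) (A := Γ(X, U)) (B := Γ(S', T)))) ≫ hU.fromSpec := by
  rw [chart, pullback.map, Category.assoc, pullback.lift_fst, pullbackSpecIso_inv_fst_assoc]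

theorem mem_range_chart (x' : ↥(pullback p q)) (h1 : (pullback.fst p q) x' ∈ U)
    (h2 : (pullback.snd p q) x' ∈ T) : x' ∈ Set.range (chart p q hU hT hA hB) := by
  have e₁ : Spec.map (CommRingCat.ofHom (algebraMap k Γ(X, U))) ≫ 𝟙 _ = hU.fromSpec ≫ p := by
    rw [Category.comp_id, hA]
  have e₂ : Spec.map (CommRingCat.ofHom (algebraMap k Γ(S', T))) ≫ 𝟙 _ = hT.fromSpec ≫ q := by
    rw [Category.comp_id, hB]
  have hr := Scheme.Pullback.range_map
    (Spec.map (CommRingCat.ofHom (algebraMap k Γ(X, U))))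
    (Spec.map (CommRingCat.ofHom (algebraMap k Γ(S', T)))) p q hU.fromSpec hT.fromSpec (𝟙 _) e₁ e₂
  have hx : x' ∈ Set.range (pullback.map _ _ p q hU.fromSpec hT.fromSpec (𝟙 _) e₁ e₂) := by
    rw [hr]
    refine ⟨?_, ?_⟩
    · change (pullback.fst p q) x' ∈ Set.range hU.fromSpec
      rw [hU.range_fromSpec]
      exact h1
    · change (pullback.snd p q) x' ∈ Set.range hT.fromSpec
      rw [hT.range_fromSpec]
      exact h2
  obtain ⟨z, hz⟩ := hx
  refine ⟨(pullbackSpecIso k Γ(X, U) Γ(S', T)).hom z, ?_⟩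
  rw [chart, ← Scheme.Hom.comp_apply, Iso.hom_inv_id_assoc]
  exact hz

theorem image_top_le : (chart p q hU hT hA hB) ''ᵁ ⊤ ≤ (pullback.fst p q) ⁻¹ᵁ U := by
  rintro _ ⟨z, -, rfl⟩
  change (pullback.fst p q) ((chart p q hU hT hA hB) z) ∈ U
  rw [← Scheme.Hom.comp_apply, chart_fst, Scheme.Hom.comp_apply]
  have := Set.mem_range_self (f := hU.fromSpec) ((Spec.map (CommRingCat.ofHom
    (Algebra.TensorProduct.includeLeftRingHom (R := k) (A := Γ(X, U)) (B := Γ(S', T))))) z)
  rw [hU.range_fromSpec] at this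
  exact this

/-- a morphism from an affine scheme through `fromSpec` induces the expected map on sections -/
theorem appLE_eq_of_eq {R : CommRingCat.{u}} (h : Spec R ⟶ X) (φ : Γ(X, U) ⟶ R)
    (hh : h = Spec.map φ ≫ hU.fromSpec) (e : (⊤ : (Spec R).Opens) ≤ h ⁻¹ᵁ U) :
    h.appLE U ⊤ e ≫ (Scheme.ΓSpecIso R).hom = φ := by
  subst hh
  rw [← Scheme.Hom.appLE_comp_appLE _ _ U ⊤ ⊤ (by rw [hU.fromSpec_preimage_self]) le_top]
  have h1 : hU.fromSpec.appLE U ⊤ (by rw [hU.fromSpec_preimage_self]) =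
      (Scheme.ΓSpecIso Γ(X, U)).inv := by
    rw [Scheme.Hom.appLE, hU.fromSpec_app_self, Category.assoc, ← Functor.map_comp]
    convert Category.comp_id _
    exact (Spec Γ(X, U)).presheaf.map_id _
  have h2 : (Spec.map φ).appLE ⊤ ⊤ le_top = (Spec.map φ).appTop := by
    change (Spec.map φ).appLE ⊤ ((Spec.map φ) ⁻¹ᵁ ⊤) le_rfl = _
    exact (Scheme.Hom.app_eq_appLE _).symm
  rw [h1, h2, Category.assoc, Scheme.ΓSpecIso_naturality, Iso.inv_hom_id_assoc]

/-- the ring isomorphism `Γ(X,U) ⊗ Γ(S',T) ≅ Γ(X ×ₖ S', W₀)` -/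
noncomputable def chartIso : CommRingCat.of (Γ(X, U) ⊗[k] Γ(S', T)) ≅
    Γ(pullback p q, (chart p q hU hT hA hB) ''ᵁ ⊤) :=
  (Scheme.ΓSpecIso _).symm ≪≫ ((chart p q hU hT hA hB).appIso ⊤).symm

theorem chartIso_compat :
    (pullback.fst p q).appLE U ((chart p q hU hT hA hB) ''ᵁ ⊤) (image_top_le p q hU hT hA hB) =
      CommRingCat.ofHom (Algebra.TensorProduct.includeLeftRingHom
        (R := k) (A := Γ(X, U)) (B := Γ(S', T))) ≫ (chartIso p q hU hT hA hB).hom := by
  have h1 := appLE_eq_of_eq hU (chart p q hU hT hA hB ≫ pullback.fst p q)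
    (CommRingCat.ofHom (Algebra.TensorProduct.includeLeftRingHom
      (R := k) (A := Γ(X, U)) (B := Γ(S', T)))) (chart_fst p q hU hT hA hB)
    (fun z _ => image_top_le p q hU hT hA hB ⟨z, trivial, rfl⟩)
  rw [← h1, chartIso]
  simp only [Iso.trans_hom, Iso.symm_hom, Category.assoc, Iso.hom_inv_id_assoc]
  rw [← Scheme.Hom.appLE_comp_appLE (chart p q hU hT hA hB) (pullback.fst p q) U
    ((chart p q hU hT hA hB) ''ᵁ ⊤) ⊤ (image_top_le p q hU hT hA hB)
    ((chart p q hU hT hA hB).preimage_image_eq ⊤).ge, ← Scheme.Hom.appIso_hom',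
    Category.assoc, Iso.hom_inv_id, Category.comp_id]

end Chart

/-- **EGA IV 11.9 (field case, `Z_λ = X`)**: for `X` over a field `k` and an arbitrary `k`-scheme
`S'`, the pullback of a separating family of homomorphisms of quasi-coherent modules along the
projection `X ×ₖ S' ⟶ X` is separating. -/
theorem separating_pullback_field {k : Type u} [Field k] {X S' : Scheme.{u}}
    (p : X ⟶ Spec (CommRingCat.of k)) (q : S' ⟶ Spec (CommRingCat.of k))
    (F : X.Modules) [F.IsQuasicoherent] {ι : Type v} (G : ι → X.Modules)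
    [∀ i, (G i).IsQuasicoherent] (u : ∀ i, F ⟶ G i)
    (h : ∀ (U : X.Opens) (s : Γ(F, U)), (∀ i, ((u i).app U).hom s = 0) → s = 0)
    (V : (pullback p q).Opens)
    (t : Γ((Scheme.Modules.pullback (pullback.fst p q)).obj F, V))
    (ht : ∀ i, (((Scheme.Modules.pullback (pullback.fst p q)).map (u i)).app V).hom t = 0) :
    t = 0 := by
  have hloc : ∀ x : V, ∃ (W : (pullback p q).Opens) (hWV : W ≤ V), x.1 ∈ W ∧
      ((Scheme.Modules.pullback (pullback.fst p q)).obj F).presheaf.map (homOfLE hWV).op t = 0 := by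
    intro x
    obtain ⟨U, hU, hxU, -⟩ := exists_isAffineOpen_mem_and_subset
      (x := (pullback.fst p q) x.1) (U := ⊤) (Opens.mem_top _)
    obtain ⟨T, hT, hxT, -⟩ := exists_isAffineOpen_mem_and_subset
      (x := (pullback.snd p q) x.1) (U := ⊤) (Opens.mem_top _)
    letI algA : Algebra k Γ(X, U) := (Spec.preimage (hU.fromSpec ≫ p)).hom.toAlgebra
    letI algB : Algebra k Γ(S', T) := (Spec.preimage (hT.fromSpec ≫ q)).hom.toAlgebra
    have hA : Spec.map (CommRingCat.ofHom (algebraMap k Γ(X, U))) = hU.fromSpec ≫ p :=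
      Spec.map_preimage _
    have hB : Spec.map (CommRingCat.ofHom (algebraMap k Γ(S', T))) = hT.fromSpec ≫ q :=
      Spec.map_preimage _
    have hW₀ : IsAffineOpen ((chart p q hU hT hA hB) ''ᵁ ⊤) :=
      (isAffineOpen_top _).image_of_isOpenImmersion (chart p q hU hT hA hB)
    have hxW₀ : x.1 ∈ (chart p q hU hT hA hB) ''ᵁ ⊤ := by
      obtain ⟨z, hz⟩ := mem_range_chart p q hU hT hA hB x.1 hxU hxT
      exact ⟨z, trivial, hz⟩
    have e₀ := image_top_le p q hU hT hA hB
    obtain ⟨f₀, hf₀V, hxf₀⟩ := hW₀.exists_basicOpen_le x hxW₀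
    have hW : IsAffineOpen ((pullback p q).basicOpen f₀) := hW₀.basicOpen f₀
    have hWW₀ : (pullback p q).basicOpen f₀ ≤ (chart p q hU hT hA hB) ''ᵁ ⊤ :=
      (pullback p q).basicOpen_le f₀
    have eW : (pullback p q).basicOpen f₀ ≤ (pullback.fst p q) ⁻¹ᵁ U := hWW₀.trans e₀
    refine ⟨(pullback p q).basicOpen f₀, hf₀V, hxf₀, ?_⟩
    refine eq_zero_of_affine_of_JIl (pullback.fst p q) hU hW eW F G u ?_ _ (fun i => ?_)
    · letI algC₀ : Algebra Γ(X, U) Γ(pullback p q, (chart p q hU hT hA hB) ''ᵁ ⊤) :=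
        ((pullback.fst p q).appLE U _ e₀).hom.toAlgebra
      letI algC : Algebra Γ(X, U) Γ(pullback p q, (pullback p q).basicOpen f₀) :=
        ((pullback.fst p q).appLE U _ eW).hom.toAlgebra
      haveI : IsScalarTower Γ(X, U) Γ(pullback p q, (chart p q hU hT hA hB) ''ᵁ ⊤)
          Γ(pullback p q, (pullback p q).basicOpen f₀) :=
        IsScalarTower.of_algebraMap_eq (fun a => by
          have := (pullback.fst p q).appLE_map e₀ (homOfLE hWW₀).op
          exact (congr($(this).hom a)).symm)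
      haveI : IsLocalization.Away f₀ Γ(pullback p q, (pullback p q).basicOpen f₀) :=
        hW₀.isLocalization_basicOpen f₀
      let eAlg : (Γ(X, U) ⊗[k] Γ(S', T)) ≃ₐ[Γ(X, U)]
          Γ(pullback p q, (chart p q hU hT hA hB) ''ᵁ ⊤) :=
        AlgEquiv.ofRingEquiv (f := (chartIso p q hU hT hA hB).commRingCatIsoToRingEquiv)
          (fun a => by
            have := chartIso_compat p q hU hT hA hB
            exact (congr($(this).hom a)).symm)
      have hsep := sheafSep_of_separating hU F G u h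
      have hsep' := sheafSep_baseChange_field (k := k) (A := Γ(X, U)) Γ(S', T)
        (fun i => ((secFun hU).map (u i)).hom) hsep
      have hsep'' := sheafSep_baseChange_of_algEquiv eAlg _ hsep'
      exact JIl_of_sheafSep_baseChange Γ(pullback p q, (chart p q hU hT hA hB) ''ᵁ ⊤) _ hsep'' f₀
        Γ(pullback p q, (pullback p q).basicOpen f₀)
    · have nat := ((Scheme.Modules.pullback (pullback.fst p q)).map (u i)).mapPresheaf.naturality
        (homOfLE hf₀V).op
      have h1 := congrArg (fun k => k.hom t) nat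
      simp only [AddCommGrpCat.hom_comp, AddMonoidHom.comp_apply] at h1
      refine h1.trans ?_
      have h2 : (((Scheme.Modules.pullback (pullback.fst p q)).map (u i)).mapPresheaf.app
          (op V)).hom t = 0 := ht i
      rw [h2, map_zero]
  choose W hWV hxW hW0 using hloc
  apply eq_zero_of_cover _ W V hWV
  · intro y hy
    exact Opens.mem_iSup.mpr ⟨⟨y, hy⟩, hxW ⟨y, hy⟩⟩
  · intro x
    exact hW0 x

end Groth.Agent.Lib.helper3.SepPullField
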