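import Groth.Agent.Lib.Helper3.SchDomMain
import Groth.Agent.Lib.Helper3.SepPullField

/-!
# Separating families of module homomorphisms: transfer along isomorphisms and charts (helper3)
-/

set_option autoImplicit false
set_option linter.style.haveILetI false
set_option linter.unusedSectionVars false
universe u v
open CategoryTheory CategoryTheory.Limits AlgebraicGeometry TopologicalSpace Opposite TensorProduct

namespace Groth.Agent.Lib.helper3.SepFibre

open Scheme.Modules Groth.Agent.Lib.helper16.CohFinite Groth.Agent.Lib.helper16.QCohPullback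
  Groth.Agent.Lib.helper16.QCohPullback3 Groth.Agent.Lib.helper16.QCohEpi
  Groth.Agent.Lib.helper3.SepPull Groth.Agent.Lib.helper3.SepNoeth
  Groth.Agent.Lib.helper3.SepFP Groth.Agent.Lib.helper3.SepPullFP
  Groth.Agent.Lib.helper3.SchDomChart

/-- a separating family of homomorphisms of modules -/
def Separating {Y : Scheme.{u}} {F' : Y.Modules} {ι : Type v} {G' : ι → Y.Modules}
    (w : ∀ i, F' ⟶ G' i) : Prop :=
  ∀ (V : Y.Opens) (t : Γ(F', V)), (∀ i, ((w i).app V).hom t = 0) → t = 0

section Transfer

variable {X Y : Scheme.{u}} {F : X.Modules} {ι : Type v} {G : ι → X.Modules} (u : ∀ i, F ⟶ G i)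

theorem Separating.of_natIso {Φ Ψ : X.Modules ⥤ Y.Modules} (α : Φ ≅ Ψ)
    (h : Separating (fun i => Φ.map (u i))) : Separating (fun i => Ψ.map (u i)) := by
  intro V t ht
  have h1 : ((α.inv.app F).app V).hom t = 0 := by
    apply h V
    intro i
    have nat := α.inv.naturality (u i)
    have h2 := congrArg (fun k => (Scheme.Modules.Hom.app k V).hom t) nat
    simp only [Scheme.Modules.Hom.comp_app, AddCommGrpCat.hom_comp, AddMonoidHom.comp_apply] at h2
    refine h2.symm.trans ?_
    rw [ht i, map_zero]
  have h3 := congrArg (fun s => ((α.hom.app F).app V).hom s) h1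
  simp only [map_zero] at h3
  have h4 : ((α.inv.app F ≫ α.hom.app F).app V).hom t = t := by
    rw [Iso.inv_hom_id_app]
    rfl
  rw [← h4]
  exact h3

/-- transfer of separation along an isomorphism of schemes -/
theorem Separating.of_iso {Q Q' : Scheme.{u}} (e : Q ⟶ Q') [IsIso e]
    (Ψ : X.Modules ⥤ Q'.Modules) (Φ : X.Modules ⥤ Q.Modules)
    (α : Ψ ⋙ Scheme.Modules.pullback e ≅ Φ) [(Ψ.obj F).IsQuasicoherent]
    [∀ i, (Ψ.obj (G i)).IsQuasicoherent]
    (h : Separating (fun i => Ψ.map (u i))) : Separating (fun i => Φ.map (u i)) := by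
  refine Separating.of_natIso u α ?_
  intro V t ht
  exact separating_pullback_fp e (Ψ.obj F) (fun i => Ψ.obj (G i)) (fun i => Ψ.map (u i))
    (fun U s hs => h U s hs) V t ht

end Transfer

section BC

variable {X S : Scheme.{u}} (p : X ⟶ S) (F : X.Modules) [F.IsQuasicoherent] {ι : Type v}
  (G : ι → X.Modules) [∀ i, (G i).IsQuasicoherent] (u : ∀ i, F ⟶ G i)

/-- the family pulled back to `X ×_S S'` is separating -/
def SepBC {S' : Scheme.{u}} (q : S' ⟶ S) : Prop :=
  Separating (fun i => (Scheme.Modules.pullback (pullback.fst p q)).map (u i))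

variable {S'' T : Scheme.{u}} (g : S'' ⟶ S) (h'' : T ⟶ S'')

/-- from the base change along the composite to the iterated base change -/
theorem sepBC_iterated_of_comp (h : SepBC p F G u (h'' ≫ g)) :
    SepBC (pullback.snd p g) ((Scheme.Modules.pullback (pullback.fst p g)).obj F)
      (fun i => (Scheme.Modules.pullback (pullback.fst p g)).obj (G i))
      (fun i => (Scheme.Modules.pullback (pullback.fst p g)).map (u i)) h'' := by
  haveI : ((Scheme.Modules.pullback (pullback.fst p (h'' ≫ g))).obj F).IsQuasicoherent :=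
    isQuasicoherent_pullback _ F
  haveI : ∀ i, ((Scheme.Modules.pullback (pullback.fst p (h'' ≫ g))).obj (G i)).IsQuasicoherent :=
    fun i => isQuasicoherent_pullback _ (G i)
  have e1 : (pullbackLeftPullbackSndIso p g h'').hom ≫ pullback.fst p (h'' ≫ g) =
      pullback.fst (pullback.snd p g) h'' ≫ pullback.fst p g :=
    pullbackLeftPullbackSndIso_hom_fst p g h''
  exact Separating.of_iso u (pullbackLeftPullbackSndIso p g h'').hom
    (Scheme.Modules.pullback (pullback.fst p (h'' ≫ g)))
    (Scheme.Modules.pullback (pullback.fst p g) ⋙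
      Scheme.Modules.pullback (pullback.fst (pullback.snd p g) h''))
    (Scheme.Modules.pullbackComp _ _ ≪≫ Scheme.Modules.pullbackCongr e1 ≪≫
      (Scheme.Modules.pullbackComp _ _).symm) h

/-- from the iterated base change to the base change along the composite -/
theorem sepBC_comp_of_iterated
    (h : SepBC (pullback.snd p g) ((Scheme.Modules.pullback (pullback.fst p g)).obj F)
      (fun i => (Scheme.Modules.pullback (pullback.fst p g)).obj (G i))
      (fun i => (Scheme.Modules.pullback (pullback.fst p g)).map (u i)) h'') :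
    SepBC p F G u (h'' ≫ g) := by
  haveI : ((Scheme.Modules.pullback (pullback.fst p g)).obj F).IsQuasicoherent :=
    isQuasicoherent_pullback _ F
  haveI : ∀ i, ((Scheme.Modules.pullback (pullback.fst p g)).obj (G i)).IsQuasicoherent :=
    fun i => isQuasicoherent_pullback _ (G i)
  haveI : (((Scheme.Modules.pullback (pullback.fst p g) ⋙
      Scheme.Modules.pullback (pullback.fst (pullback.snd p g) h'')).obj F)).IsQuasicoherent :=
    isQuasicoherent_pullback _ _
  haveI : ∀ i, (((Scheme.Modules.pullback (pullback.fst p g) ⋙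
      Scheme.Modules.pullback (pullback.fst (pullback.snd p g) h'')).obj (G i))).IsQuasicoherent :=
    fun i => isQuasicoherent_pullback _ _
  have e1 : ((pullbackLeftPullbackSndIso p g h'').inv ≫ pullback.fst (pullback.snd p g) h'') ≫
      pullback.fst p g = pullback.fst p (h'' ≫ g) := by
    rw [Category.assoc]
    exact pullbackLeftPullbackSndIso_inv_fst p g h''
  exact Separating.of_iso u (pullbackLeftPullbackSndIso p g h'').inv
    (Scheme.Modules.pullback (pullback.fst p g) ⋙
      Scheme.Modules.pullback (pullback.fst (pullback.snd p g) h''))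
    (Scheme.Modules.pullback (pullback.fst p (h'' ≫ g)))
    (Functor.associator _ _ _ ≪≫
      Functor.isoWhiskerLeft _ (Scheme.Modules.pullbackComp _ _) ≪≫
      Scheme.Modules.pullbackComp _ _ ≪≫ Scheme.Modules.pullbackCongr e1) h

end BC

section T5

/-- sheaf-separation of the base change to an affine open of the source of `g`, from separation
of the pulled-back family -/
theorem sheafSep_baseChange_of_separating {X X' : Scheme.{u}} (g : X' ⟶ X) {U : X.Opens}
    (hU : IsAffineOpen U) {W : X'.Opens} (hW : IsAffineOpen W) (eW : W ≤ g ⁻¹ᵁ U)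
    (F : X.Modules) [F.IsQuasicoherent] {ι : Type v} (G : ι → X.Modules)
    [∀ i, (G i).IsQuasicoherent] (u : ∀ i, F ⟶ G i)
    (h : Separating (fun i => (Scheme.Modules.pullback g).map (u i))) :
    letI := (g.appLE U W eW).hom.toAlgebra
    SheafSep (fun i => ((secFun hU).map (u i)).hom.baseChange Γ(X', W)) := by
  letI := (g.appLE U W eW).hom.toAlgebra
  haveI : ((Scheme.Modules.pullback g).obj F).IsQuasicoherent := isQuasicoherent_pullback g F
  have hsep := sheafSep_of_separating hW ((Scheme.Modules.pullback g).obj F)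
    (fun i => (Scheme.Modules.pullback g).obj (G i))
    (fun i => (Scheme.Modules.pullback g).map (u i)) h
  intro a τ hτ
  set τ' := (extendScalarsEquiv (g.appLE U W eW).hom ((secFun hU).obj F)).symm τ with hτ'
  obtain ⟨n, hn⟩ := hsep a ((alphaApp g hU hW eW F).hom τ') (fun i => by
    obtain ⟨n, hn⟩ := hτ i
    refine ⟨n, ?_⟩
    have nat := alphaApp_naturality g hU hW eW (u i)
    have h1 := congrArg (fun k => k.hom τ') nat
    simp only [ModuleCat.hom_comp, LinearMap.comp_apply] at h1
    have h2 : a ^ n • ((ModuleCat.extendScalars (g.appLE U W eW).hom).map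
        ((secFun hU).map (u i))).hom τ' = 0 := by
      apply (extendScalarsEquiv (g.appLE U W eW).hom ((secFun hU).obj (G i))).injective
      rw [_root_.map_smul, extendScalarsEquiv_map, map_zero, hτ', LinearEquiv.apply_symm_apply]
      exact hn
    rw [← h1, ← _root_.map_smul, h2, map_zero])
  refine ⟨n, ?_⟩
  have hinj := (ConcreteCategory.bijective_of_isIso (alphaApp g hU hW eW F)).1
  have h3 : a ^ n • τ' = 0 := hinj (by
    rw [map_zero]
    refine ((alphaApp g hU hW eW F).hom.map_smul (a ^ n) τ').trans ?_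
    exact hn)
  have := congrArg (extendScalarsEquiv (g.appLE U W eW).hom ((secFun hU).obj F)) h3
  rw [_root_.map_smul, hτ', LinearEquiv.apply_symm_apply, map_zero] at this
  exact this

variable {X S S' : Scheme.{u}} (p : X ⟶ S) (q : S' ⟶ S) (F : X.Modules) [F.IsQuasicoherent]
  {ι : Type v} (G : ι → X.Modules) [∀ i, (G i).IsQuasicoherent] (u : ∀ i, F ⟶ G i)
  {S₀ : S.Opens} (hS₀ : IsAffineOpen S₀) {U : X.Opens} (hU : IsAffineOpen U)
  {C : Type u} [CommRing C] (i₂ : Spec (CommRingCat.of C) ⟶ S') [IsOpenImmersion i₂]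
  [Algebra Γ(S, S₀) Γ(X, U)] [Algebra Γ(S, S₀) C]
  (hA : Spec.map (CommRingCat.ofHom (algebraMap Γ(S, S₀) Γ(X, U))) ≫ hS₀.fromSpec =
    hU.fromSpec ≫ p)
  (hB : Spec.map (CommRingCat.ofHom (algebraMap Γ(S, S₀) C)) ≫ hS₀.fromSpec = i₂ ≫ q)

include hS₀ hA hB in
/-- **separation of the family pulled back to `X ×_S S'` gives sheaf-separation of the base change
of the section modules to `Γ(X,U) ⊗ C`** -/
theorem sheafSep_of_sepBC (h : SepBC p F G u q) :
    SheafSep (fun i => ((secFun hU).map (u i)).hom.baseChange (Γ(X, U) ⊗[Γ(S, S₀)] C)) := by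
  have hW : IsAffineOpen ((chart p q hS₀ hU i₂ hA hB) ''ᵁ ⊤) :=
    (isAffineOpen_top _).image_of_isOpenImmersion _
  have e₀ := image_top_le p q hS₀ hU i₂ hA hB
  letI algC₀ : Algebra Γ(X, U) Γ(pullback p q, (chart p q hS₀ hU i₂ hA hB) ''ᵁ ⊤) :=
    ((pullback.fst p q).appLE U _ e₀).hom.toAlgebra
  let eAlg : (Γ(X, U) ⊗[Γ(S, S₀)] C) ≃ₐ[Γ(X, U)]
      Γ(pullback p q, (chart p q hS₀ hU i₂ hA hB) ''ᵁ ⊤) :=
    AlgEquiv.ofRingEquiv (f := (chartIso p q hS₀ hU i₂ hA hB).commRingCatIsoToRingEquiv)
      (fun a => by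
        have := chartIso_compat p q hS₀ hU i₂ hA hB
        exact (congr($(this).hom a)).symm)
  have h1 := sheafSep_baseChange_of_separating (pullback.fst p q) hU hW e₀ F G u h
  exact Groth.Agent.Lib.helper3.SepPullField.sheafSep_baseChange_of_algEquiv eAlg.symm _ h1

end T5

end Groth.Agent.Lib.helper3.SepFibre
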