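import Groth.Agent.Lib.Helper3.SepFibre1
import Groth.Agent.Lib.Helper17.FlatOver6
import Groth.Agent.Lib.Helper11.ConsMod1

/-!
# Universally separating families are detected on fibres (helper3, EGA IV 11.9.16, case `Z_λ = X`)
-/

set_option autoImplicit false
set_option linter.style.haveILetI false
set_option linter.unusedSectionVars false
universe u v
open CategoryTheory CategoryTheory.Limits AlgebraicGeometry TopologicalSpace Opposite TensorProduct

namespace Groth.Agent.Lib.helper3.SepFibre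

open Scheme.Modules Groth.Agent.Lib.helper16.CohFinite Groth.Agent.Lib.helper16.QCohPullback
  Groth.Agent.Lib.helper16.QCohPullback3 Groth.Agent.Lib.helper16.QCohEpi
  Groth.Agent.Lib.helper3.SepPull Groth.Agent.Lib.helper3.SepNoeth
  Groth.Agent.Lib.helper3.SepFP Groth.Agent.Lib.helper3.SepPullFP
  Groth.Agent.Lib.helper3.SchDomChart Groth.Agent.Lib.helper3.SchDomCore
  Groth.Agent.Lib.helper3.SchDomT5 Groth.Agent.Lib.helper3.SchDomStage

section SC

variable {X S : Scheme.{u}} (p : X ⟶ S) (F : X.Modules) {ι : Type v} (G : ι → X.Modules)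
  [∀ i, (G i).IsQuasicoherent] (u : ∀ i, F ⟶ G i)

/-- the family is separating after base change to every field-valued point of the base -/
def FieldSeparating [F.IsQuasicoherent] : Prop :=
  ∀ (K : Type u) [Field K] (hK : Spec (CommRingCat.of K) ⟶ S), SepBC p F G u hK

/-- the `Γ(S,S₀)`-module structure on the section modules over `U ≤ p⁻¹S₀` -/
@[reducible] noncomputable def secModBase {S₀ : S.Opens} {U : X.Opens} (hU : IsAffineOpen U)
    (eU : U ≤ p ⁻¹ᵁ S₀) (M : X.Modules) : Module Γ(S, S₀) ((secFun hU).obj M) :=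
  Module.compHom _ (p.appLE S₀ U eU).hom

theorem flat_secModBase {S₀ : S.Opens} (hS₀ : IsAffineOpen S₀) {U : X.Opens} (hU : IsAffineOpen U)
    (eU : U ≤ p ⁻¹ᵁ S₀) (M : X.Modules) [M.IsQuasicoherent] (hM : FlatMod.IsFlatOver p M) :
    @Module.Flat Γ(S, S₀) ((secFun hU).obj M) _ _ (secModBase p hU eU M) := by
  letI := secModBase p hU eU M
  letI := Groth.Agent.Lib.helper17.FlatOver1.modSecBase p M eU
  haveI : Module.Flat Γ(S, S₀) Γ(M, U) :=
    Groth.Agent.Lib.helper17.FlatOver1.flat_sections_of_isFlatOverAt p M eU hU hS₀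
      (fun x _ => hM x)
  let e : ((secFun hU).obj M) ≃ₗ[Γ(S, S₀)] Γ(M, U) :=
    { (secEquiv M hU).symm with
      map_smul' := fun a m => (secEquiv M hU).symm.map_smul ((p.appLE S₀ U eU).hom a) m }
  exact Module.Flat.of_linearEquiv e

variable [IsLocallyNoetherian X]

/-- the family of section maps is sheaf-separating, by the ring-level fibrewise criterion -/
theorem sheafSep_sections (hF : Coh.IsCoh F) (hG : ∀ i, FlatMod.IsFlatOver p (G i))
    (hFS : haveI : F.IsQuasicoherent := hF.1; FieldSeparating p F G u)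
    {S₀ : S.Opens} (hS₀ : IsAffineOpen S₀)
    {U : X.Opens} (hU : IsAffineOpen U) (eU : U ≤ p ⁻¹ᵁ S₀) :
    SheafSep (fun i => ((secFun hU).map (u i)).hom) := by
  haveI : F.IsQuasicoherent := hF.1
  letI algAB : Algebra Γ(S, S₀) Γ(X, U) := (p.appLE S₀ U eU).hom.toAlgebra
  letI modAF : Module Γ(S, S₀) ((secFun hU).obj F) := secModBase p hU eU F
  haveI : IsScalarTower Γ(S, S₀) Γ(X, U) ((secFun hU).obj F) :=
    IsScalarTower.of_algebraMap_smul (fun _ _ => rfl)
  letI modAG : ∀ i, Module Γ(S, S₀) ((secFun hU).obj (G i)) := fun i => secModBase p hU eU (G i)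
  haveI : ∀ i, IsScalarTower Γ(S, S₀) Γ(X, U) ((secFun hU).obj (G i)) := fun i =>
    IsScalarTower.of_algebraMap_smul (fun _ _ => rfl)
  haveI : ∀ i, Module.Flat Γ(S, S₀) ((secFun hU).obj (G i)) := fun i =>
    flat_secModBase p hS₀ hU eU (G i) (hG i)
  haveI : IsNoetherianRing Γ(X, U) := IsLocallyNoetherian.component_noetherian ⟨U, hU⟩
  haveI : Module.Finite Γ(X, U) ((secFun hU).obj F) := by
    haveI : Module.Finite Γ(X, U) Γ(F, U) := finite_sections_of_isFiniteType F hF.2 hU
    exact Module.Finite.equiv (secEquiv F hU)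
  refine sheafSep_of_fibrewise (A := Γ(S, S₀)) (fun i => ((secFun hU).map (u i)).hom)
    (fun 𝔭 _ b => ?_)
  refine PB_of_sheafSep 𝔭.ResidueField (fun i => ((secFun hU).map (u i)).hom) ?_ b
  exact sheafSep_of_sepBC p
    (Spec.map (CommRingCat.ofHom (algebraMap Γ(S, S₀) 𝔭.ResidueField)) ≫ hS₀.fromSpec) F G u hS₀ hU
    (𝟙 _) (hA_spec p hS₀ hU eU rfl) (Category.id_comp _).symm (hFS 𝔭.ResidueField _)

/-- **EGA IV 11.9.16 (core, `Z_λ = X`)**: `X` locally Noetherian, `F` coherent, the `G_i`
quasi-coherent and flat over `S`; if the family is separating after base change to every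
field-valued point of `S`, then it is separating. -/
theorem separating_of_fieldSeparating (hF : Coh.IsCoh F) (hG : ∀ i, FlatMod.IsFlatOver p (G i))
    (hFS : haveI : F.IsQuasicoherent := hF.1; FieldSeparating p F G u) : Separating u := by
  haveI : F.IsQuasicoherent := hF.1
  intro V t ht
  have hloc : ∀ x : V, ∃ (U : X.Opens) (hUV : U ≤ V), x.1 ∈ U ∧
      F.presheaf.map (homOfLE hUV).op t = 0 := by
    intro x
    obtain ⟨S₀, hS₀, hxS₀, -⟩ := exists_isAffineOpen_mem_and_subset
      (x := p x.1) (U := ⊤) (Opens.mem_top _)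
    obtain ⟨U, hU, hxU, hUle⟩ := exists_isAffineOpen_mem_and_subset
      (x := x.1) (U := V ⊓ p ⁻¹ᵁ S₀) ⟨x.2, hxS₀⟩
    have hUV : U ≤ V := hUle.trans inf_le_left
    refine ⟨U, hUV, hxU, ?_⟩
    have hsep := sheafSep_sections p F G u hF hG hFS hS₀ hU (hUle.trans inf_le_right)
    obtain ⟨n, hn⟩ := hsep 1 (toSpecSections F hU (F.presheaf.map (homOfLE hUV).op t))
      (fun i => ⟨0, by
        rw [pow_zero, one_smul]
        refine (toSpecSections_naturality (u i) hU _).trans ?_
        have nat := (u i).mapPresheaf.naturality (homOfLE hUV).op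
        have h1 := congrArg (fun k => k.hom t) nat
        simp only [AddCommGrpCat.hom_comp, AddMonoidHom.comp_apply] at h1
        have h2 : ((u i).app U).hom (F.presheaf.map (homOfLE hUV).op t) = 0 := by
          refine h1.trans ?_
          have h3 : ((u i).mapPresheaf.app (op V)).hom t = 0 := ht i
          rw [h3, map_zero]
        rw [h2, map_zero]
        rfl⟩)
    rw [one_pow, one_smul] at hn
    exact toSpecSections_injective F hU (by rw [hn, map_zero]; rfl)
  choose W hWV hxW hW0 using hloc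
  apply eq_zero_of_cover _ W V hWV
  · intro y hy
    exact Opens.mem_iSup.mpr ⟨⟨y, hy⟩, hxW ⟨y, hy⟩⟩
  · intro x
    exact hW0 x

end SC

section Main

variable {X S : Scheme.{u}} [IsLocallyNoetherian X] (p : X ⟶ S) (F : X.Modules) {ι : Type v}
  (G : ι → X.Modules) [∀ i, (G i).IsQuasicoherent] (u : ∀ i, F ⟶ G i)

/-- sheaf-separation of the family of section maps after a base change of finite type -/
theorem sheafSep_baseChange_of_finiteType (hF : Coh.IsCoh F)
    (hG : ∀ i, FlatMod.IsFlatOver p (G i))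
    (hFS : haveI : F.IsQuasicoherent := hF.1; FieldSeparating p F G u)
    {S₀ : S.Opens} (hS₀ : IsAffineOpen S₀) {U : X.Opens} (hU : IsAffineOpen U) (eU : U ≤ p ⁻¹ᵁ S₀)
    [Algebra Γ(S, S₀) Γ(X, U)]
    (hA : CommRingCat.ofHom (algebraMap Γ(S, S₀) Γ(X, U)) = p.appLE S₀ U eU)
    (A'' : Type u) [CommRing A''] [Algebra Γ(S, S₀) A''] [Algebra.FiniteType Γ(S, S₀) A''] :
    SheafSep (fun i => ((secFun hU).map (u i)).hom.baseChange (Γ(X, U) ⊗[Γ(S, S₀)] A'')) := by
  haveI : F.IsQuasicoherent := hF.1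
  let g'' : Spec (CommRingCat.of A'') ⟶ S :=
    Spec.map (CommRingCat.ofHom (algebraMap Γ(S, S₀) A'')) ≫ hS₀.fromSpec
  haveI : LocallyOfFiniteType (Spec.map (CommRingCat.ofHom (algebraMap Γ(S, S₀) A''))) := by
    rw [HasRingHomProperty.Spec_iff (P := @LocallyOfFiniteType)]
    exact (RingHom.finiteType_algebraMap).mpr inferInstance
  haveI : LocallyOfFiniteType g'' := inferInstanceAs (LocallyOfFiniteType (_ ≫ _))
  haveI : IsLocallyNoetherian (pullback p g'') :=
    LocallyOfFiniteType.isLocallyNoetherian (pullback.fst p g'')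
  have hF'' : Coh.IsCoh ((Scheme.Modules.pullback (pullback.fst p g'')).obj F) :=
    Groth.Agent.Lib.helper11.ConsMod.isCoh_pullback _ F hF
  haveI : ∀ i, ((Scheme.Modules.pullback (pullback.fst p g'')).obj (G i)).IsQuasicoherent :=
    fun i => isQuasicoherent_pullback _ _
  have hG'' : ∀ i, FlatMod.IsFlatOver (pullback.snd p g'')
      ((Scheme.Modules.pullback (pullback.fst p g'')).obj (G i)) := fun i x' =>
    (Groth.Agent.Lib.helper17.FlatOver6.isFlatOverAt_baseChange_both
      (IsPullback.of_hasPullback p g'') (G i) x').1 (hG i _)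
  have hsep := separating_of_fieldSeparating (pullback.snd p g'') _ _
    (fun i => (Scheme.Modules.pullback (pullback.fst p g'')).map (u i)) hF'' hG''
    (fun K _ hK => sepBC_iterated_of_comp p F G u g'' hK (hFS K (hK ≫ g'')))
  exact sheafSep_of_sepBC p g'' F G u hS₀ hU (𝟙 _) (hA_spec p hS₀ hU eU hA)
    (Category.id_comp _).symm hsep

/-- **EGA IV 11.9.16 (sufficiency, `Z_λ = X`)**: if the family is separating over every
field-valued point of `S`, it is universally separating. -/
theorem univ_separating_of_fieldSeparating (hF : Coh.IsCoh F)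
    (hG : ∀ i, FlatMod.IsFlatOver p (G i))
    (hFS : haveI : F.IsQuasicoherent := hF.1; FieldSeparating p F G u)
    {S' : Scheme.{u}} (g : S' ⟶ S) :
    haveI : F.IsQuasicoherent := hF.1
    SepBC p F G u g := by
  haveI : F.IsQuasicoherent := hF.1
  intro V t ht
  have hloc : ∀ x : V, ∃ (W : (pullback p g).Opens) (hWV : W ≤ V), x.1 ∈ W ∧
      ((Scheme.Modules.pullback (pullback.fst p g)).obj F).presheaf.map (homOfLE hWV).op t = 0 := by
    intro x
    obtain ⟨S₀, hS₀, hxS₀, -⟩ := exists_isAffineOpen_mem_and_subset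
      (x := p ((pullback.fst p g) x.1)) (U := ⊤) (Opens.mem_top _)
    have hxS₀' : g ((pullback.snd p g) x.1) ∈ S₀ := by
      rw [← Scheme.Hom.comp_apply, ← pullback.condition, Scheme.Hom.comp_apply]
      exact hxS₀
    obtain ⟨U, hU, hxU, eU⟩ := exists_isAffineOpen_mem_and_subset
      (x := (pullback.fst p g) x.1) (U := p ⁻¹ᵁ S₀) hxS₀
    obtain ⟨T, hT, hxT, eT⟩ := exists_isAffineOpen_mem_and_subset
      (x := (pullback.snd p g) x.1) (U := g ⁻¹ᵁ S₀) hxS₀'
    letI algAB : Algebra Γ(S, S₀) Γ(X, U) := (p.appLE S₀ U eU).hom.toAlgebra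
    letI algAC : Algebra Γ(S, S₀) Γ(S', T) := (g.appLE S₀ T eT).hom.toAlgebra
    have hA : CommRingCat.ofHom (algebraMap Γ(S, S₀) Γ(X, U)) = p.appLE S₀ U eU := rfl
    have hA' := hA_spec p hS₀ hU eU hA
    have hB : Spec.map (CommRingCat.ofHom (algebraMap Γ(S, S₀) Γ(S', T))) ≫ hS₀.fromSpec =
        hT.fromSpec ≫ g := IsAffineOpen.SpecMap_appLE_fromSpec g hS₀ hT eT
    have hW₀ : IsAffineOpen ((chart p g hS₀ hU hT.fromSpec hA' hB) ''ᵁ ⊤) :=
      (isAffineOpen_top _).image_of_isOpenImmersion _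
    have hxW₀ : x.1 ∈ (chart p g hS₀ hU hT.fromSpec hA' hB) ''ᵁ ⊤ := by
      obtain ⟨z, hz⟩ := mem_range_chart p g hS₀ hU hT.fromSpec hA' hB x.1 hxU (by
        rw [hT.range_fromSpec]
        exact hxT)
      exact ⟨z, trivial, hz⟩
    have e₀ := image_top_le p g hS₀ hU hT.fromSpec hA' hB
    obtain ⟨f₀, hf₀V, hxf₀⟩ := hW₀.exists_basicOpen_le x hxW₀
    have hW : IsAffineOpen ((pullback p g).basicOpen f₀) := hW₀.basicOpen f₀
    have hWW₀ : (pullback p g).basicOpen f₀ ≤ (chart p g hS₀ hU hT.fromSpec hA' hB) ''ᵁ ⊤ :=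
      (pullback p g).basicOpen_le f₀
    have eW : (pullback p g).basicOpen f₀ ≤ (pullback.fst p g) ⁻¹ᵁ U := hWW₀.trans e₀
    refine ⟨(pullback p g).basicOpen f₀, hf₀V, hxf₀, ?_⟩
    refine Groth.Agent.Lib.helper3.SepPullField.eq_zero_of_affine_of_JIl (pullback.fst p g) hU hW eW
      F G u ?_ _ (fun i => ?_)
    · letI algC₀ : Algebra Γ(X, U) Γ(pullback p g, (chart p g hS₀ hU hT.fromSpec hA' hB) ''ᵁ ⊤) :=
        ((pullback.fst p g).appLE U _ e₀).hom.toAlgebra
      letI algC : Algebra Γ(X, U) Γ(pullback p g, (pullback p g).basicOpen f₀) :=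
        ((pullback.fst p g).appLE U _ eW).hom.toAlgebra
      haveI : IsScalarTower Γ(X, U) Γ(pullback p g, (chart p g hS₀ hU hT.fromSpec hA' hB) ''ᵁ ⊤)
          Γ(pullback p g, (pullback p g).basicOpen f₀) :=
        IsScalarTower.of_algebraMap_eq (fun a => by
          have := (pullback.fst p g).appLE_map e₀ (homOfLE hWW₀).op
          exact (congr($(this).hom a)).symm)
      haveI : IsLocalization.Away f₀ Γ(pullback p g, (pullback p g).basicOpen f₀) :=
        hW₀.isLocalization_basicOpen f₀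
      let eAlg : (Γ(X, U) ⊗[Γ(S, S₀)] Γ(S', T)) ≃ₐ[Γ(X, U)]
          Γ(pullback p g, (chart p g hS₀ hU hT.fromSpec hA' hB) ''ᵁ ⊤) :=
        AlgEquiv.ofRingEquiv
          (f := (chartIso p g hS₀ hU hT.fromSpec hA' hB).commRingCatIsoToRingEquiv)
          (fun a => by
            have := chartIso_compat p g hS₀ hU hT.fromSpec hA' hB
            exact (congr($(this).hom a)).symm)
      letI modAG : ∀ i, Module Γ(S, S₀) ((secFun hU).obj (G i)) :=
        fun i => secModBase p hU eU (G i)
      haveI : ∀ i, IsScalarTower Γ(S, S₀) Γ(X, U) ((secFun hU).obj (G i)) := fun i =>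
        IsScalarTower.of_algebraMap_smul (fun _ _ => rfl)
      haveI : ∀ i, Module.Flat Γ(S, S₀) ((secFun hU).obj (G i)) := fun i =>
        flat_secModBase p hS₀ hU eU (G i) (hG i)
      have hsep' : SheafSep (fun i => ((secFun hU).map (u i)).hom.baseChange
          (Γ(X, U) ⊗[Γ(S, S₀)] Γ(S', T))) := by
        refine sheafSep_baseChange_of_fg (k := Γ(S, S₀)) (A := Γ(X, U)) Γ(S', T)
          (fun i => ((secFun hU).map (u i)).hom) (fun A'' hfg => ?_)
        haveI : Algebra.FiniteType Γ(S, S₀) A'' := (Subalgebra.fg_iff_finiteType A'').mp hfg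
        exact sheafSep_baseChange_of_finiteType p F G u hF hG hFS hS₀ hU eU hA A''
      have hsep'' := Groth.Agent.Lib.helper3.SepPullField.sheafSep_baseChange_of_algEquiv eAlg _
        hsep'
      exact Groth.Agent.Lib.helper3.SepField.JIl_of_sheafSep_baseChange
        Γ(pullback p g, (chart p g hS₀ hU hT.fromSpec hA' hB) ''ᵁ ⊤) _ hsep'' f₀
        Γ(pullback p g, (pullback p g).basicOpen f₀)
    · have nat := ((Scheme.Modules.pullback (pullback.fst p g)).map (u i)).mapPresheaf.naturality
        (homOfLE hf₀V).op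
      have h1 := congrArg (fun k => k.hom t) nat
      simp only [AddCommGrpCat.hom_comp, AddMonoidHom.comp_apply] at h1
      refine h1.trans ?_
      have h2 : (((Scheme.Modules.pullback (pullback.fst p g)).map (u i)).mapPresheaf.app
          (op V)).hom t = 0 := ht i
      rw [h2, map_zero]
  choose W hWV hxW hW0 using hloc
  apply eq_zero_of_cover _ W V hWV
  · intro y hy
    exact Opens.mem_iSup.mpr ⟨⟨y, hy⟩, hxW ⟨y, hy⟩⟩
  · intro x
    exact hW0 x

end Main

/-- the fibrewise hypothesis gives separation over every field-valued point -/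
theorem fieldSeparating_of_fibrewise {X S : Scheme.{u}} (p : X ⟶ S) (F : X.Modules)
    [F.IsQuasicoherent] {ι : Type v} (G : ι → X.Modules) [∀ i, (G i).IsQuasicoherent]
    (u : ∀ i, F ⟶ G i) (H : ∀ s : S, SepBC p F G u (S.fromSpecResidueField s)) :
    FieldSeparating p F G u := by
  intro K _ hK
  obtain ⟨s, φ, rfl⟩ : ∃ (s : S) (φ : S.residueField s ⟶ CommRingCat.of K),
      hK = Spec.map φ ≫ S.fromSpecResidueField s :=
    ⟨_, _, (Scheme.descResidueField_stalkClosedPointTo_fromSpecResidueField K S hK).symm⟩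
  refine sepBC_comp_of_iterated p F G u (S.fromSpecResidueField s) (Spec.map φ) ?_
  haveI : ((Scheme.Modules.pullback (pullback.fst p (S.fromSpecResidueField s))).obj
      F).IsQuasicoherent := isQuasicoherent_pullback _ F
  haveI : ∀ i, ((Scheme.Modules.pullback (pullback.fst p (S.fromSpecResidueField s))).obj
      (G i)).IsQuasicoherent := fun i => isQuasicoherent_pullback _ (G i)
  intro V t ht
  exact Groth.Agent.Lib.helper3.SepPullField.separating_pullback_field (k := S.residueField s)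
    (pullback.snd p (S.fromSpecResidueField s)) (Spec.map φ) _ _
    (fun i => (Scheme.Modules.pullback (pullback.fst p (S.fromSpecResidueField s))).map (u i))
    (fun U s' hs => H s U s' hs) V t ht

end Groth.Agent.Lib.helper3.SepFibre
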