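import Groth.Agent.Lib.Helper16.QCohPullback3
import Groth.Agent.Lib.Helper16.QCohEpi
import Groth.Agent.Lib.Helper3.SepArt

/-!
# Pullback of a separating family of module homomorphisms along a flat morphism to an Artinian
scheme (helper3, EGA IV 11.9.?)
-/

set_option autoImplicit false
set_option linter.style.haveILetI false
set_option linter.unusedSectionVars false
universe u v
open CategoryTheory CategoryTheory.Limits AlgebraicGeometry TopologicalSpace Opposite TensorProduct

namespace Groth.Agent.Lib.helper3.SepPull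

open Scheme.Modules Groth.Agent.Lib.helper16.CohFinite Groth.Agent.Lib.helper16.QCohPullback
  Groth.Agent.Lib.helper16.QCohPullback3 Groth.Agent.Lib.helper16.QCohEpi

variable {X Y : Scheme.{u}} (f : Y ⟶ X)
  {U : X.Opens} (hU : IsAffineOpen U) {V : Y.Opens} (hV : IsAffineOpen V) (e : V ≤ f ⁻¹ᵁ U)

/-- the natural comparison `Γ(Y,V) ⊗ Γ(M,U) ⟶ Γ(f^*M, V)` -/
noncomputable def alphaApp (M : X.Modules) :
    (ModuleCat.extendScalars (f.appLE U V e).hom).obj ((secFun hU).obj M) ⟶
      (secFun hV).obj ((Scheme.Modules.pullback f).obj M) :=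
  (tilde.toTildeΓNatIso (R := Γ(Y, V))).hom.app _ ≫
    moduleSpecΓFunctor.map ((pullbackRestrictNatTrans f hU hV e).app M)

theorem alphaApp_naturality {M M' : X.Modules} (u : M ⟶ M') :
    (ModuleCat.extendScalars (f.appLE U V e).hom).map ((secFun hU).map u) ≫
        alphaApp f hU hV e M' =
      alphaApp f hU hV e M ≫ (secFun hV).map ((Scheme.Modules.pullback f).map u) := by
  have h1 := (tilde.toTildeΓNatIso (R := Γ(Y, V))).hom.naturality
    ((ModuleCat.extendScalars (f.appLE U V e).hom).map ((secFun hU).map u))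
  have h2 := (pullbackRestrictNatTrans f hU hV e).naturality u
  have h3 := congrArg (fun k => moduleSpecΓFunctor.map k) h2
  simp only [Functor.map_comp] at h3
  have e1 : ∀ N : X.Modules, alphaApp f hU hV e N =
      (tilde.toTildeΓNatIso (R := Γ(Y, V))).hom.app
        ((ModuleCat.extendScalars (f.appLE U V e).hom).obj ((secFun hU).obj N)) ≫
      moduleSpecΓFunctor.map ((pullbackRestrictNatTrans f hU hV e).app N) := fun N => rfl
  have e2 : (secFun hV).map ((Scheme.Modules.pullback f).map u) =
      moduleSpecΓFunctor.map ((restrictFunctor hV.fromSpec).map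
        ((Scheme.Modules.pullback f).map u)) := rfl
  simp only [Functor.id_obj, Functor.id_map, Functor.comp_obj, Functor.comp_map] at h1 h3
  rw [e1, e1, e2]
  exact (Category.assoc _ _ _).symm.trans ((congrArg (· ≫ moduleSpecΓFunctor.map
    ((pullbackRestrictNatTrans f hU hV e).app M')) h1).trans ((Category.assoc _ _ _).trans
    ((congrArg (_ ≫ ·) h3).trans (Category.assoc _ _ _).symm)))

instance (M : X.Modules) [M.IsQuasicoherent] : IsIso (alphaApp f hU hV e M) := by
  have h1 : IsIso ((tilde.toTildeΓNatIso (R := Γ(Y, V))).hom.app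
      ((ModuleCat.extendScalars (f.appLE U V e).hom).obj ((secFun hU).obj M))) := inferInstance
  have h2 : IsIso (moduleSpecΓFunctor.map ((pullbackRestrictNatTrans f hU hV e).app M)) :=
    inferInstance
  exact IsIso.comp_isIso' h1 h2

set_option backward.isDefEq.respectTransparency false in
/-- the `extendScalars` map in terms of `baseChange` -/
theorem extendScalarsEquiv_map {R S : Type u} [CommRing R] [CommRing S] (φ : R →+* S)
    {N N' : ModuleCat.{u} R} (g : N ⟶ N') (x : (ModuleCat.extendScalars φ).obj N) :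
    letI := φ.toAlgebra
    extendScalarsEquiv φ N' (((ModuleCat.extendScalars φ).map g).hom x) =
      (g.hom.baseChange S) (extendScalarsEquiv φ N x) := rfl

/-- **affine-local statement** -/
theorem eq_zero_of_affine {X X' : Scheme.{u}} (g : X' ⟶ X) [Flat g] {U : X.Opens}
    (hU : IsAffineOpen U) [IsArtinianRing Γ(X, U)] {V : X'.Opens} (hV : IsAffineOpen V)
    (e : V ≤ g ⁻¹ᵁ U) (F : X.Modules) [F.IsQuasicoherent] {ι : Type v} (G : ι → X.Modules)
    [∀ i, (G i).IsQuasicoherent] (u : ∀ i, F ⟶ G i)
    (h : ∀ s : Γ(F, U), (∀ i, ((u i).app U).hom s = 0) → s = 0)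
    (t : Γ((Scheme.Modules.pullback g).obj F, V))
    (ht : ∀ i, (((Scheme.Modules.pullback g).map (u i)).app V).hom t = 0) : t = 0 := by
  apply toSpecSections_injective _ hV
  rw [map_zero]
  set t₁ := toSpecSections ((Scheme.Modules.pullback g).obj F) hV t with ht₁
  letI alg := (g.appLE U V e).hom.toAlgebra
  haveI : Module.Flat Γ(X, U) Γ(X', V) :=
    HasRingHomProperty.appLE (P := @Flat) g ‹Flat g› ⟨U, hU⟩ ⟨V, hV⟩ e
  have hbij := ConcreteCategory.bijective_of_isIso (alphaApp g hU hV e F)
  obtain ⟨τ, hτ⟩ := hbij.2 t₁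
  have key : ∀ i, ((ModuleCat.extendScalars (g.appLE U V e).hom).map
      ((secFun hU).map (u i))).hom τ = 0 := by
    intro i
    apply (ConcreteCategory.bijective_of_isIso (alphaApp g hU hV e (G i))).1
    rw [map_zero]
    have nat := alphaApp_naturality g hU hV e (u i)
    have h1 := congrArg (fun k => k.hom τ) nat
    simp only [ModuleCat.hom_comp, LinearMap.comp_apply] at h1
    refine h1.trans ?_
    have h2 : (alphaApp g hU hV e F).hom τ = t₁ := hτ
    rw [h2, ht₁]
    have h3 := toSpecSections_naturality ((Scheme.Modules.pullback g).map (u i)) hV t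
    refine h3.trans ?_
    rw [ht i, map_zero]
    rfl
  have ha : ∀ m : (secFun hU).obj F,
      (∀ i, ((secFun hU).map (u i)).hom m = 0) → m = 0 := by
    intro m hm
    obtain ⟨s, rfl⟩ := toSpecSections_surjective F hU m
    have hs : s = 0 := by
      apply h s
      intro i
      apply toSpecSections_injective (G i) hU
      rw [map_zero, ← toSpecSections_naturality]
      exact hm i
    rw [hs, map_zero]
    rfl
  have hτ0 : extendScalarsEquiv (g.appLE U V e).hom ((secFun hU).obj F) τ = 0 := by
    refine SepArt.eq_zero_of_forall_baseChange_eq_zero (A := Γ(X, U)) (B := Γ(X', V))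
      (fun i => ((secFun hU).map (u i)).hom) ha _ (fun i => ?_)
    rw [← extendScalarsEquiv_map, key i, map_zero]
  have hτ1 : τ = 0 := (extendScalarsEquiv (g.appLE U V e).hom ((secFun hU).obj F)).injective
    (by rw [hτ0, map_zero])
  rw [← hτ, hτ1, map_zero]
  rfl

/-- sections vanishing on a cover vanish -/
theorem eq_zero_of_cover {X : Scheme.{u}} (G : X.Modules) {ι : Type*} (W : ι → X.Opens)
    (V : X.Opens) (hle : ∀ i, W i ≤ V) (hcov : V ≤ ⨆ i, W i) (x : Γ(G, V))
    (hx : ∀ i, G.presheaf.map (homOfLE (hle i)).op x = 0) : x = 0 := by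
  apply TopCat.Sheaf.eq_of_locally_eq' ⟨G.presheaf, G.isSheaf⟩ W V (fun i => homOfLE (hle i)) hcov
  intro i
  exact (hx i).trans (map_zero (G.presheaf.map (homOfLE (hle i)).op).hom).symm

/-- **EGA IV 11.9.? (case `Z_λ = X`)**: the pullback of a separating family of homomorphisms of
quasi-coherent modules along a flat morphism to an Artinian scheme is separating. -/
theorem separating_pullback {X X' : Scheme.{u}} [IsNoetherian X]
    (hX : topologicalKrullDim X ≤ 0) (g : X' ⟶ X) [Flat g] (F : X.Modules) [F.IsQuasicoherent]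
    {ι : Type v} (G : ι → X.Modules) [∀ i, (G i).IsQuasicoherent] (u : ∀ i, F ⟶ G i)
    (h : ∀ (U : X.Opens) (s : Γ(F, U)), (∀ i, ((u i).app U).hom s = 0) → s = 0)
    (V : X'.Opens) (t : Γ((Scheme.Modules.pullback g).obj F, V))
    (ht : ∀ i, (((Scheme.Modules.pullback g).map (u i)).app V).hom t = 0) : t = 0 := by
  haveI : IsLocallyArtinian X := IsLocallyArtinian.of_topologicalKrullDim_le_zero hX
  have hex : ∀ x : V, ∃ (U : X.Opens) (W : X'.Opens), IsAffineOpen U ∧ IsAffineOpen W ∧
      x.1 ∈ W ∧ W ≤ V ∧ W ≤ g ⁻¹ᵁ U := by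
    intro x
    obtain ⟨U, hU, hxU, -⟩ := exists_isAffineOpen_mem_and_subset
      (x := g.base x.1) (U := ⊤) (Opens.mem_top _)
    obtain ⟨W, hW, hxW, hWle⟩ := exists_isAffineOpen_mem_and_subset
      (x := x.1) (U := V ⊓ g ⁻¹ᵁ U) ⟨x.2, hxU⟩
    exact ⟨U, W, hU, hW, hxW, hWle.trans inf_le_left, hWle.trans inf_le_right⟩
  choose U W hU hW hxW hWV hWU using hex
  apply eq_zero_of_cover _ W V hWV
  · intro y hy
    exact Opens.mem_iSup.mpr ⟨⟨y, hy⟩, hxW ⟨y, hy⟩⟩
  · intro x
    haveI : IsArtinianRing Γ(X, U x) :=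
      IsLocallyArtinian.isArtinianRing_presheaf_obj ⟨U x, hU x⟩
    refine eq_zero_of_affine g (hU x) (hW x) (hWU x) F G u (h (U x)) _ (fun i => ?_)
    have nat := ((Scheme.Modules.pullback g).map (u i)).mapPresheaf.naturality
      (homOfLE (hWV x)).op
    have h1 := congrArg (fun k => k.hom t) nat
    simp only [AddCommGrpCat.hom_comp, AddMonoidHom.comp_apply] at h1
    refine h1.trans ?_
    have h2 : (((Scheme.Modules.pullback g).map (u i)).mapPresheaf.app (op V)).hom t = 0 := ht i
    rw [h2, map_zero]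

end Groth.Agent.Lib.helper3.SepPull
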