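import Groth.Agent.Lib.Helper3.SepPull
import Groth.Agent.Lib.Helper3.SepFP
import Groth.Agent.Lib.Helper7.QCohAffine

/-!
# Pullback of a separating family of module homomorphisms along a flat morphism locally of finite
presentation (helper3, EGA IV 11.9)
-/

set_option autoImplicit false
set_option linter.style.haveILetI false
set_option linter.unusedSectionVars false
universe u v
open CategoryTheory CategoryTheory.Limits AlgebraicGeometry TopologicalSpace Opposite TensorProduct

namespace Groth.Agent.Lib.helper3.SepPullFP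

open Scheme.Modules Groth.Agent.Lib.helper16.CohFinite Groth.Agent.Lib.helper16.QCohPullback
  Groth.Agent.Lib.helper16.QCohPullback3 Groth.Agent.Lib.helper16.QCohEpi
  Groth.Agent.Lib.helper3.SepPull Groth.Agent.Lib.helper3.SepNoeth

/-- a section killed by a power of `a` vanishes on `D(a)` -/
theorem map_basicOpen_eq_zero_of_pow_smul {X : Scheme.{u}} (G : X.Modules) {U : X.Opens}
    (a : Γ(X, U)) (s : Γ(G, U)) (n : ℕ) (hn : a ^ n • s = 0) :
    G.presheaf.map (homOfLE (X.basicOpen_le a)).op s = 0 := by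
  have h1 := Scheme.Modules.map_smul G (homOfLE (X.basicOpen_le a)) (a ^ n) s
  rw [hn, map_zero] at h1
  have hunit : IsUnit (X.presheaf.map (homOfLE (X.basicOpen_le a)).op (a ^ n)) := by
    rw [map_pow]
    exact (RingedSpace.isUnit_res_basicOpen X.toRingedSpace a).pow n
  obtain ⟨v, hv⟩ := hunit
  rw [← hv] at h1
  have := congrArg (fun y => (↑v⁻¹ : Γ(X, X.basicOpen a)) • y) h1
  simpa [smul_smul] using this.symm

/-- the family of section maps over an affine open of a separating family is sheaf-separating -/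
theorem sheafSep_of_separating {X : Scheme.{u}} {U : X.Opens} (hU : IsAffineOpen U)
    (F : X.Modules) [F.IsQuasicoherent] {ι : Type v} (G : ι → X.Modules) (u : ∀ i, F ⟶ G i)
    (h : ∀ (W : X.Opens) (s : Γ(F, W)), (∀ i, ((u i).app W).hom s = 0) → s = 0) :
    SheafSep (fun i => ((secFun hU).map (u i)).hom) := by
  intro a m hm
  obtain ⟨s, rfl⟩ := toSpecSections_surjective F hU m
  have h1 : ∀ i, ∃ n : ℕ, a ^ n • ((u i).app U).hom s = 0 := by
    intro i
    obtain ⟨n, hn⟩ := hm i
    refine ⟨n, toSpecSections_injective (G i) hU ?_⟩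
    rw [_root_.map_smul, map_zero, ← toSpecSections_naturality]
    exact hn
  have h2 : F.presheaf.map (homOfLE (X.basicOpen_le a)).op s = 0 := by
    apply h
    intro i
    obtain ⟨n, hn⟩ := h1 i
    have nat := (u i).mapPresheaf.naturality (homOfLE (X.basicOpen_le a)).op
    have h3 := congrArg (fun k => k.hom s) nat
    simp only [AddCommGrpCat.hom_comp, AddMonoidHom.comp_apply] at h3
    refine h3.trans ?_
    exact map_basicOpen_eq_zero_of_pow_smul (G i) a _ n hn
  obtain ⟨n, hn⟩ := Groth.Agent.Lib.helper7.exists_pow_smul_eq_zero_of_isAffineOpen hU F a s h2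
  refine ⟨n, ?_⟩
  have h4 := (toSpecSections F hU).map_smul (a ^ n) s
  rw [hn, map_zero] at h4
  exact h4.symm

/-- **affine-local statement** -/
theorem eq_zero_of_affine_fp {X X' : Scheme.{u}} (g : X' ⟶ X) [Flat g]
    [LocallyOfFinitePresentation g] {U : X.Opens}
    (hU : IsAffineOpen U) {V : X'.Opens} (hV : IsAffineOpen V)
    (e : V ≤ g ⁻¹ᵁ U) (F : X.Modules) [F.IsQuasicoherent] {ι : Type v} (G : ι → X.Modules)
    [∀ i, (G i).IsQuasicoherent] (u : ∀ i, F ⟶ G i)
    (h : ∀ (W : X.Opens) (s : Γ(F, W)), (∀ i, ((u i).app W).hom s = 0) → s = 0)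
    (t : Γ((Scheme.Modules.pullback g).obj F, V))
    (ht : ∀ i, (((Scheme.Modules.pullback g).map (u i)).app V).hom t = 0) : t = 0 := by
  apply toSpecSections_injective _ hV
  rw [map_zero]
  set t₁ := toSpecSections ((Scheme.Modules.pullback g).obj F) hV t with ht₁
  letI alg := (g.appLE U V e).hom.toAlgebra
  haveI : Module.Flat Γ(X, U) Γ(X', V) :=
    HasRingHomProperty.appLE (P := @Flat) g ‹Flat g› ⟨U, hU⟩ ⟨V, hV⟩ e
  haveI : Algebra.FinitePresentation Γ(X, U) Γ(X', V) :=
    HasRingHomProperty.appLE (P := @LocallyOfFinitePresentation) g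
      ‹LocallyOfFinitePresentation g› ⟨U, hU⟩ ⟨V, hV⟩ e
  have hbij := ConcreteCategory.bijective_of_isIso (alphaApp g hU hV e F)
  obtain ⟨τ, hτ⟩ := hbij.2 t₁
  have key : ∀ i, ((ModuleCat.extendScalars (g.appLE U V e).hom).map
      ((secFun hU).map (u i))).hom τ = 0 := by
    intro i
    apply (ConcreteCategory.bijective_of_isIso (alphaApp g hU hV e (G i))).1
    rw [map_zero]
    have nat := alphaApp_naturality g hU hV e (u i)
    have h1 := congrArg (fun k => k.hom τ) nat
    simp only [ModuleCat.hom_comp, LinearMap.comp_apply] at h1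
    refine h1.trans ?_
    have h2 : (alphaApp g hU hV e F).hom τ = t₁ := hτ
    rw [h2, ht₁]
    have h3 := toSpecSections_naturality ((Scheme.Modules.pullback g).map (u i)) hV t
    refine h3.trans ?_
    rw [ht i, map_zero]
    rfl
  have hsep := sheafSep_of_separating hU F G u h
  have hτ0 : extendScalarsEquiv (g.appLE U V e).hom ((secFun hU).obj F) τ = 0 := by
    refine Groth.Agent.Lib.helper3.SepFP.eq_zero_of_flat_fp (A := Γ(X, U)) Γ(X', V)
      (fun i => ((secFun hU).map (u i)).hom) hsep _ (fun i => ?_)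
    change (((secFun hU).map (u i)).hom.baseChange Γ(X', V)) _ = 0
    rw [← extendScalarsEquiv_map, key i, map_zero]
  have hτ1 : τ = 0 := (extendScalarsEquiv (g.appLE U V e).hom ((secFun hU).obj F)).injective
    (by rw [hτ0, map_zero])
  rw [← hτ, hτ1, map_zero]
  rfl

/-- **EGA IV 11.9 (case `Z_λ = X`)**: the pullback of a separating family of homomorphisms of
quasi-coherent modules along a flat morphism locally of finite presentation is separating. -/
theorem separating_pullback_fp {X X' : Scheme.{u}} (g : X' ⟶ X) [Flat g]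
    [LocallyOfFinitePresentation g] (F : X.Modules) [F.IsQuasicoherent]
    {ι : Type v} (G : ι → X.Modules) [∀ i, (G i).IsQuasicoherent] (u : ∀ i, F ⟶ G i)
    (h : ∀ (U : X.Opens) (s : Γ(F, U)), (∀ i, ((u i).app U).hom s = 0) → s = 0)
    (V : X'.Opens) (t : Γ((Scheme.Modules.pullback g).obj F, V))
    (ht : ∀ i, (((Scheme.Modules.pullback g).map (u i)).app V).hom t = 0) : t = 0 := by
  have hex : ∀ x : V, ∃ (U : X.Opens) (W : X'.Opens), IsAffineOpen U ∧ IsAffineOpen W ∧
      x.1 ∈ W ∧ W ≤ V ∧ W ≤ g ⁻¹ᵁ U := by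
    intro x
    obtain ⟨U, hU, hxU, -⟩ := exists_isAffineOpen_mem_and_subset
      (x := g.base x.1) (U := ⊤) (Opens.mem_top _)
    obtain ⟨W, hW, hxW, hWle⟩ := exists_isAffineOpen_mem_and_subset
      (x := x.1) (U := V ⊓ g ⁻¹ᵁ U) ⟨x.2, hxU⟩
    exact ⟨U, W, hU, hW, hxW, hWle.trans inf_le_left, hWle.trans inf_le_right⟩
  choose U W hU hW hxW hWV hWU using hex
  apply eq_zero_of_cover _ W V hWV
  · intro y hy
    exact Opens.mem_iSup.mpr ⟨⟨y, hy⟩, hxW ⟨y, hy⟩⟩
  · intro x
    refine eq_zero_of_affine_fp g (hU x) (hW x) (hWU x) F G u h _ (fun i => ?_)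
    have nat := ((Scheme.Modules.pullback g).map (u i)).mapPresheaf.naturality
      (homOfLE (hWV x)).op
    have h1 := congrArg (fun k => k.hom t) nat
    simp only [AddCommGrpCat.hom_comp, AddMonoidHom.comp_apply] at h1
    refine h1.trans ?_
    have h2 : (((Scheme.Modules.pullback g).map (u i)).mapPresheaf.app (op V)).hom t = 0 := ht i
    rw [h2, map_zero]

end Groth.Agent.Lib.helper3.SepPullFP
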