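import Groth.Agent.Lib.Helper3.SepPullField

/-!
# Affine charts on `X ×ₖ S'` with the ring-level joint injectivity property (helper3)

`exists_chart_JIl`: every point of an open `V ⊆ X ×ₖ S'` (`k` a field) has an affine open
neighbourhood `W ⊆ V` lying over an affine open `U ⊆ X` such that tensoring with `Γ(W)` over `Γ(U)`
keeps every sheaf-separating family of `Γ(U)`-linear maps jointly injective.
-/

set_option autoImplicit false
set_option linter.style.haveILetI false
set_option linter.unusedSectionVars false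
universe u v w
open CategoryTheory CategoryTheory.Limits AlgebraicGeometry TopologicalSpace Opposite TensorProduct

namespace Groth.Agent.Lib.helper3.SepPullField

open Groth.Agent.Lib.helper3.SepNoeth Groth.Agent.Lib.helper3.SepFP
  Groth.Agent.Lib.helper3.SepField

theorem exists_chart_JIl {k : Type u} [Field k] {X S' : Scheme.{u}}
    (p : X ⟶ Spec (CommRingCat.of k)) (q : S' ⟶ Spec (CommRingCat.of k))
    (V : (pullback p q).Opens) (x : V) :
    ∃ (U : X.Opens) (W : (pullback p q).Opens) (_ : IsAffineOpen U) (_ : IsAffineOpen W)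
      (_ : W ≤ V) (eW : W ≤ (pullback.fst p q) ⁻¹ᵁ U), x.1 ∈ W ∧
      (letI := ((pullback.fst p q).appLE U W eW).hom.toAlgebra
       ∀ {κ : Type w} {M : Type u} {N : κ → Type u} [AddCommGroup M] [Module Γ(X, U) M]
        [∀ j, AddCommGroup (N j)] [∀ j, Module Γ(X, U) (N j)] (w : ∀ j, M →ₗ[Γ(X, U)] N j),
        SheafSep w → JIl Γ(pullback p q, W) w) := by
  obtain ⟨U, hU, hxU, -⟩ := exists_isAffineOpen_mem_and_subset
    (x := (pullback.fst p q) x.1) (U := ⊤) (Opens.mem_top _)
  obtain ⟨T, hT, hxT, -⟩ := exists_isAffineOpen_mem_and_subset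
    (x := (pullback.snd p q) x.1) (U := ⊤) (Opens.mem_top _)
  letI algA : Algebra k Γ(X, U) := (Spec.preimage (hU.fromSpec ≫ p)).hom.toAlgebra
  letI algB : Algebra k Γ(S', T) := (Spec.preimage (hT.fromSpec ≫ q)).hom.toAlgebra
  have hA : Spec.map (CommRingCat.ofHom (algebraMap k Γ(X, U))) = hU.fromSpec ≫ p :=
    Spec.map_preimage _
  have hB : Spec.map (CommRingCat.ofHom (algebraMap k Γ(S', T))) = hT.fromSpec ≫ q :=
    Spec.map_preimage _
  have hW₀ : IsAffineOpen ((chart p q hU hT hA hB) ''ᵁ ⊤) :=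
    (isAffineOpen_top _).image_of_isOpenImmersion (chart p q hU hT hA hB)
  have hxW₀ : x.1 ∈ (chart p q hU hT hA hB) ''ᵁ ⊤ := by
    obtain ⟨z, hz⟩ := mem_range_chart p q hU hT hA hB x.1 hxU hxT
    exact ⟨z, trivial, hz⟩
  have e₀ := image_top_le p q hU hT hA hB
  obtain ⟨f₀, hf₀V, hxf₀⟩ := hW₀.exists_basicOpen_le x hxW₀
  have hW : IsAffineOpen ((pullback p q).basicOpen f₀) := hW₀.basicOpen f₀
  have hWW₀ : (pullback p q).basicOpen f₀ ≤ (chart p q hU hT hA hB) ''ᵁ ⊤ :=
    (pullback p q).basicOpen_le f₀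
  have eW : (pullback p q).basicOpen f₀ ≤ (pullback.fst p q) ⁻¹ᵁ U := hWW₀.trans e₀
  refine ⟨U, (pullback p q).basicOpen f₀, hU, hW, hf₀V, eW, hxf₀, ?_⟩
  intro κ M N _ _ _ _ w hw
  letI algC₀ : Algebra Γ(X, U) Γ(pullback p q, (chart p q hU hT hA hB) ''ᵁ ⊤) :=
    ((pullback.fst p q).appLE U _ e₀).hom.toAlgebra
  letI algC : Algebra Γ(X, U) Γ(pullback p q, (pullback p q).basicOpen f₀) :=
    ((pullback.fst p q).appLE U _ eW).hom.toAlgebra
  haveI : IsScalarTower Γ(X, U) Γ(pullback p q, (chart p q hU hT hA hB) ''ᵁ ⊤)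
      Γ(pullback p q, (pullback p q).basicOpen f₀) :=
    IsScalarTower.of_algebraMap_eq (fun a => by
      have := (pullback.fst p q).appLE_map e₀ (homOfLE hWW₀).op
      exact (congr($(this).hom a)).symm)
  haveI : IsLocalization.Away f₀ Γ(pullback p q, (pullback p q).basicOpen f₀) :=
    hW₀.isLocalization_basicOpen f₀
  let eAlg : (Γ(X, U) ⊗[k] Γ(S', T)) ≃ₐ[Γ(X, U)]
      Γ(pullback p q, (chart p q hU hT hA hB) ''ᵁ ⊤) :=
    AlgEquiv.ofRingEquiv (f := (chartIso p q hU hT hA hB).commRingCatIsoToRingEquiv)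
      (fun a => by
        have := chartIso_compat p q hU hT hA hB
        exact (congr($(this).hom a)).symm)
  have hsep' := sheafSep_baseChange_field (k := k) (A := Γ(X, U)) Γ(S', T) w hw
  have hsep'' := sheafSep_baseChange_of_algEquiv eAlg _ hsep'
  exact JIl_of_sheafSep_baseChange Γ(pullback p q, (chart p q hU hT hA hB) ''ᵁ ⊤) _ hsep'' f₀
    Γ(pullback p q, (pullback p q).basicOpen f₀)

end Groth.Agent.Lib.helper3.SepPullField
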