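import Mathlib
/-!
# Specializations of the image of a closed set under a quasi-compact morphism (helper3)

`isClosed_specializations_image` : for `f : X ⟶ Y` quasi-compact and `Z ⊆ X` closed, the set of
specializations of points of `f(Z)` is closed (it is the closure of `f(Z)`), cf. Stacks 02JQ.
-/

set_option autoImplicit false
universe u

open AlgebraicGeometry CategoryTheory

namespace Groth.Agent.Lib.helper3.SpecClosure

/-- affine case. -/
theorem isClosed_specializations_comap {R S : Type*} [CommRing R] [CommRing S] (φ : R →+* S)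
    (Z : Set (PrimeSpectrum S)) (hZ : IsClosed Z) :
    IsClosed {p : PrimeSpectrum R | ∃ q ∈ Z, PrimeSpectrum.comap φ q ⤳ p} := by
  obtain ⟨I, rfl⟩ := (PrimeSpectrum.isClosed_iff_zeroLocus_ideal Z).mp hZ
  convert PrimeSpectrum.isClosed_zeroLocus (I.comap φ : Set R) using 1
  ext p
  constructor
  · rintro ⟨q, hq, hqp⟩
    have h1 := (PrimeSpectrum.le_iff_specializes _ _).mpr hqp
    intro a ha
    exact h1 (hq ha)
  · intro hp
    obtain ⟨q, hqI, hq, hqle⟩ := p.asIdeal.exists_ideal_comap_le_prime I hp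
    exact ⟨⟨q, hq⟩, hqI,
      (PrimeSpectrum.le_iff_specializes ⟨q.comap φ, inferInstance⟩ p).mp hqle⟩

theorem isClosed_specializations_image {X Y : Scheme.{u}} (f : X ⟶ Y) [QuasiCompact f]
    (Z : Set X) (hZ : IsClosed Z) : IsClosed {y : Y | ∃ x ∈ Z, f x ⤳ y} := by
  rw [← isOpen_compl_iff, isOpen_iff_forall_mem_open]
  intro y hy
  obtain ⟨_, ⟨V, hV : IsAffineOpen V, rfl⟩, hyV, -⟩ :=
    Y.isBasis_affineOpens.exists_subset_of_mem_open (Set.mem_univ y) isOpen_univ
  have hcomp : IsCompact ((f ⁻¹ᵁ V : X.Opens) : Set X) :=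
    QuasiCompact.isCompact_preimage _ V.isOpen hV.isCompact
  obtain ⟨S, g, hg⟩ := isCompact_iff_exists.mp hcomp
  have hrange : Set.range (g ≫ f) ⊆ Set.range hV.fromSpec := by
    rw [hV.range_fromSpec]
    rintro _ ⟨s, rfl⟩
    have : g s ∈ ((f ⁻¹ᵁ V : X.Opens) : Set X) := hg ▸ ⟨s, rfl⟩
    exact this
  let h := IsOpenImmersion.lift hV.fromSpec (g ≫ f) hrange
  have hfac : h ≫ hV.fromSpec = g ≫ f := IsOpenImmersion.lift_fac _ _ _
  obtain ⟨φ, hφ⟩ := Spec.homEquiv.symm.surjective h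
  let K : Set (Spec Γ(Y, V)) := {p | ∃ q ∈ g ⁻¹' Z, h q ⤳ p}
  have hK : IsClosed K := by
    have := isClosed_specializations_comap φ.hom (g ⁻¹' Z) (hZ.preimage g.continuous)
    have hK' : K = {p | ∃ q ∈ g ⁻¹' Z, (Spec.homEquiv.symm φ) q ⤳ p} := by
      simp only [K, hφ]
    rw [hK']
    exact this
  have hspec : ∀ a b : Spec Γ(Y, V), hV.fromSpec a ⤳ hV.fromSpec b ↔ a ⤳ b := fun a b =>
    hV.fromSpec.isOpenEmbedding.isInducing.specializes_iff
  refine ⟨hV.fromSpec '' Kᶜ, ?_, hV.fromSpec.isOpenEmbedding.isOpenMap _ hK.isOpen_compl, ?_⟩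
  · rintro _ ⟨p, hp, rfl⟩ ⟨x, hxZ, hx⟩
    have hpV : hV.fromSpec p ∈ (V : Set Y) := by
      rw [← hV.range_fromSpec]; exact ⟨p, rfl⟩
    have hfx : f x ∈ (V : Set Y) := hx.mem_open V.isOpen hpV
    have hxg : x ∈ Set.range g := by rw [hg]; exact hfx
    obtain ⟨q, rfl⟩ := hxg
    apply hp
    refine ⟨q, hxZ, ?_⟩
    rw [← hspec]
    have : hV.fromSpec (h q) = f (g q) := by
      rw [← Scheme.Hom.comp_apply, hfac, Scheme.Hom.comp_apply]
    rw [this]
    exact hx
  · have : y ∈ Set.range hV.fromSpec := by rw [hV.range_fromSpec]; exact hyV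
    obtain ⟨p, rfl⟩ := this
    refine ⟨p, ?_, rfl⟩
    rintro ⟨q, hqZ, hq⟩
    apply hy
    refine ⟨g q, hqZ, ?_⟩
    have : hV.fromSpec (h q) = f (g q) := by
      rw [← Scheme.Hom.comp_apply, hfac, Scheme.Hom.comp_apply]
    rw [← this, hspec]
    exact hq

end Groth.Agent.Lib.helper3.SpecClosure
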