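import Mathlib

/-!
# Helper library (helper3): lifting chains of specializations along specializing (e.g. closed)
maps; dual to `Lib/Helper11/SpecDim`.

With the specialization preorder (`a ≤ b ↔ b ⤳ a`):
* `exists_ltSeries_lift_last`: chains lift along continuous specializing maps to a T0 space,
  ending at a given lift of the last (most generic) element.
* `height_le_of_specializingMap`: `height (f w) ≤ height w`.
-/

set_option autoImplicit false

open Order Topology

namespace Groth.Agent.Lib.helper3.SpecDimUp

variable {X Y : Type*} [TopologicalSpace X] [TopologicalSpace Y]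

attribute [local instance] specializationPreorder

theorem exists_ltSeries_lift_last {f : X → Y} (hf : Continuous f) (hs : SpecializingMap f)
    (l : LTSeries Y) (w : X) (hw : f w = l.last) :
    ∃ L : LTSeries X, L.length = l.length ∧ L.last = w := by
  induction l using RelSeries.inductionOn' generalizing w with
  | singleton q => exact ⟨RelSeries.singleton _ w, rfl, rfl⟩
  | snoc l q lt ih =>
    simp only [RelSeries.last_snoc] at hw
    have lt' : l.last < q := lt
    have h1 : f w ⤳ l.last := by rw [hw]; exact lt'.le
    obtain ⟨w', hw'1, hw'2⟩ := hs h1
    obtain ⟨L, hL1, hL2⟩ := ih w' hw'2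
    have hlt : L.last < w := by
      rw [hL2]
      refine lt_of_le_not_ge hw'1 ?_
      intro h3
      have h3' : w' ⤳ w := h3
      have := h3'.map hf
      rw [hw, hw'2] at this
      exact lt'.not_ge this
    exact ⟨L.snoc w hlt, by simp [hL1], by simp⟩

theorem height_le_of_specializingMap {f : X → Y} (hf : Continuous f) (hs : SpecializingMap f)
    (w : X) : height (f w) ≤ height w := by
  refine height_le fun p hp => ?_
  obtain ⟨L, hL1, hL2⟩ := exists_ltSeries_lift_last hf hs p w hp.symm
  rw [← hL1]
  exact length_le_height (by rw [hL2])

end Groth.Agent.Lib.helper3.SpecDimUp
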