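import Groth.Agent.Lib.Helper3.AdamsOp2

/-!
Newton recursion for sequences, products of `1 + v t`, logarithmic derivatives of power series
and their truncation behaviour (helper3).  Tools for the universal polynomial identities of
special λ-rings.
-/

set_option autoImplicit false
universe u v

namespace Groth.Agent.Lib.helper3.Special

open PowerSeries LambdaRing Finset
open Groth.Agent.Lib.helper3.AdamsOp

section LRec

variable {R : Type u} [CommRing R] [Algebra ℚ R]

/-- `e_n` in terms of the "power sums" `s_k` (Newton's recursion) -/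
noncomputable def LRec (s : ℕ → R) (n : ℕ) : R := lamRec (fun k _ => s k) (0 : R) n

theorem LRec_zero (s : ℕ → R) : LRec s 0 = 1 := lamRec_zero _ _

theorem LRec_succ (s : ℕ → R) (n : ℕ) :
    LRec s (n + 1) * ((n : R) + 1) =
      ∑ i ∈ range (n + 1), LRec s i * ((-1) ^ (n - i) * s (n - i + 1)) :=
  lamRec_succ _ _ n

/-- the recursion determines the sequence -/
theorem eq_LRec (s : ℕ → R) (c : ℕ → R) (h0 : c 0 = 1)
    (hs : ∀ n : ℕ, c (n + 1) * ((n : R) + 1) =
      ∑ i ∈ range (n + 1), c i * ((-1) ^ (n - i) * s (n - i + 1))) (n : ℕ) : c n = LRec s n := by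
  induction n using Nat.strong_induction_on with
  | _ n ih =>
    rcases n with _ | n
    · rw [h0, LRec_zero]
    · apply (isUnit_natCast_succ (K := R) n).mul_left_injective
      show c (n + 1) * ((n : R) + 1) = LRec s (n + 1) * ((n : R) + 1)
      rw [hs, LRec_succ]
      refine Finset.sum_congr rfl fun i hi => ?_
      rw [ih i (by have := Finset.mem_range.mp hi; omega)]

theorem lamRec_eq_LRec (ψ : ℕ → R → R) (x : R) (n : ℕ) :
    lamRec ψ x n = LRec (fun k => ψ k x) n :=
  eq_LRec _ (lamRec ψ x) (lamRec_zero _ _) (lamRec_succ ψ x) n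

theorem LRec_congr {s s' : ℕ → R} (n : ℕ) (h : ∀ k : ℕ, 1 ≤ k → k ≤ n → s k = s' k) :
    LRec s n = LRec s' n := by
  induction n using Nat.strong_induction_on with
  | _ n ih =>
    rcases n with _ | n
    · rw [LRec_zero, LRec_zero]
    · apply (isUnit_natCast_succ (K := R) n).mul_left_injective
      show LRec s (n + 1) * ((n : R) + 1) = LRec s' (n + 1) * ((n : R) + 1)
      rw [LRec_succ, LRec_succ]
      refine Finset.sum_congr rfl fun i hi => ?_
      have hi' := Finset.mem_range.mp hi
      rw [ih i (by omega) (fun k hk1 hk2 => h k hk1 (by omega)), h (n - i + 1) (by omega) (by omega)]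

theorem map_LRec {R' : Type v} [CommRing R'] [Algebra ℚ R'] (f : R →+* R') (s : ℕ → R) (n : ℕ) :
    f (LRec s n) = LRec (fun k => f (s k)) n := by
  refine eq_LRec _ (fun n => f (LRec s n)) ?_ ?_ n
  · show f (LRec s 0) = 1
    rw [LRec_zero, map_one]
  · intro n
    show f (LRec s (n + 1)) * ((n : R') + 1) = _
    have h := congrArg f (LRec_succ s n)
    rw [map_mul, map_add, map_natCast, map_one, map_sum] at h
    rw [h]
    refine Finset.sum_congr rfl fun i _ => ?_
    rw [map_mul, map_mul, map_pow, map_neg, map_one]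

/-- the series `Σ LRec s n t^n` -/
noncomputable def FS (s : ℕ → R) : R⟦X⟧ := PowerSeries.mk (LRec s)

/-- the series `Σ (-1)^j s_{j+1} t^j` -/
noncomputable def GS {R : Type u} [CommRing R] (s : ℕ → R) : R⟦X⟧ :=
  PowerSeries.mk fun j => (-1) ^ j * s (j + 1)

theorem derivative_FS (s : ℕ → R) : d⁄dX R (FS s) = FS s * GS s :=
  derivative_FSer (fun k _ => s k) (0 : R)

theorem coeff_zero_FS (s : ℕ → R) : coeff 0 (FS s) = 1 := by
  rw [FS, coeff_mk, LRec_zero]

/-- a solution of `F' = F · G_s` with constant coefficient `1` has coefficients `LRec s` -/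
theorem coeff_eq_LRec_of_ode (s : ℕ → R) (F : R⟦X⟧) (h0 : coeff 0 F = 1)
    (hF : d⁄dX R F = F * GS s) (n : ℕ) : coeff n F = LRec s n := by
  have := ode_unique (GS s) F (FS s) hF (derivative_FS s) (by rw [h0, coeff_zero_FS])
  rw [this, FS, coeff_mk]

end LRec

section Prod

variable {R : Type u} [CommRing R] {ι : Type v}

theorem one_add_mul_geom (a : R) :
    (1 + C a * X : R⟦X⟧) * PowerSeries.mk (fun j => (-1) ^ j * a ^ (j + 1)) = C a := by
  ext n
  rw [add_mul, one_mul, map_add, coeff_mk, mul_assoc, coeff_C_mul]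
  rcases n with _ | n
  · rw [coeff_zero_X_mul, mul_zero, add_zero, pow_zero, one_mul, zero_add, pow_one,
      coeff_zero_C]
  · rw [coeff_succ_X_mul, coeff_mk, coeff_C, if_neg (Nat.succ_ne_zero n)]
    ring

/-- `Π_{v ∈ S} (1 + V_v t)` -/
noncomputable def FProd (S : Finset ι) (V : ι → R) : R⟦X⟧ := ∏ v ∈ S, (1 + C (V v) * X)

theorem derivative_FProd (S : Finset ι) (V : ι → R) :
    d⁄dX R (FProd S V) = FProd S V * GS (fun k => ∑ v ∈ S, V v ^ k) := by
  classical
  induction S using Finset.induction_on with
  | empty =>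
    have : GS (fun k => ∑ v ∈ (∅ : Finset ι), V v ^ k) = (0 : R⟦X⟧) := by
      ext j; simp [GS]
    rw [this, mul_zero, FProd, Finset.prod_empty]
    exact Derivation.map_one_eq_zero _
  | insert a S ha ih =>
    have hG : GS (fun k => ∑ v ∈ insert a S, V v ^ k) =
        PowerSeries.mk (fun j => (-1) ^ j * V a ^ (j + 1)) + GS (fun k => ∑ v ∈ S, V v ^ k) := by
      ext j
      simp only [GS, coeff_mk, map_add, Finset.sum_insert ha]
      ring
    have hd : d⁄dX R (1 + C (V a) * X : R⟦X⟧) = C (V a) := by
      rw [map_add, Derivation.map_one_eq_zero, zero_add, Derivation.leibniz, derivative_C,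
        derivative_X]
      simp
    have hP : FProd (insert a S) V = (1 + C (V a) * X) * FProd S V := by
      rw [FProd, Finset.prod_insert ha, FProd]
    rw [hP, Derivation.leibniz, ih, hd, hG, smul_eq_mul, smul_eq_mul]
    have := one_add_mul_geom (V a)
    linear_combination (-(FProd S V)) * this

theorem coeff_zero_FProd (S : Finset ι) (V : ι → R) : coeff 0 (FProd S V) = 1 := by
  rw [FProd, PowerSeries.coeff_zero_eq_constantCoeff_apply, map_prod]
  refine Finset.prod_eq_one fun v _ => ?_
  simp

theorem coeff_FProd (S : Finset ι) (V : ι → R) (k : ℕ) :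
    coeff k (FProd S V) = ∑ t ∈ S.powersetCard k, ∏ v ∈ t, V v := by
  classical
  rw [FProd, Finset.prod_one_add, map_sum, Finset.powersetCard_eq_filter, Finset.sum_filter]
  refine Finset.sum_congr rfl fun t _ => ?_
  rw [Finset.prod_mul_distrib, Finset.prod_const, ← map_prod, coeff_C_mul, coeff_X_pow]
  split_ifs with h1 h2 h2
  · rw [mul_one]
  · exact absurd h1.symm h2
  · exact absurd h2.symm h1
  · rw [mul_zero]

/-- Newton: `e_n(V) = LRec (p_k(V)) n` -/
theorem LRec_psum [Algebra ℚ R] (S : Finset ι) (V : ι → R) (n : ℕ) :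
    LRec (fun k => ∑ v ∈ S, V v ^ k) n = ∑ t ∈ S.powersetCard n, ∏ v ∈ t, V v := by
  rw [← coeff_FProd, coeff_eq_LRec_of_ode _ _ (coeff_zero_FProd S V) (derivative_FProd S V)]

end Prod

section LogD

variable {R : Type u} [CommRing R]

/-- the logarithmic derivative `F' / F` of a power series with constant coefficient `1` -/
noncomputable def logD (F : R⟦X⟧) : R⟦X⟧ := d⁄dX R F * F.invOfUnit 1

theorem mul_logD {F : R⟦X⟧} (hF : constantCoeff F = 1) : F * logD F = d⁄dX R F := by
  rw [logD, mul_left_comm, PowerSeries.mul_invOfUnit F 1 (by rw [hF]; rfl), mul_one]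

theorem logD_unique {F L : R⟦X⟧} (hF : constantCoeff F = 1) (h : F * L = d⁄dX R F) :
    L = logD F := by
  have h1 : F * L = F * logD F := by rw [h, mul_logD hF]
  have hu : IsUnit F := by
    rw [PowerSeries.isUnit_iff_constantCoeff, hF]; exact isUnit_one
  exact hu.mul_left_cancel h1

theorem logDerivSeries_eq_logD {K : Type u} [CommRing K] [LambdaOps K] (x : K) :
    logDerivSeries x = logD (lamSeries x) := rfl

theorem derivative_map {R' : Type v} [CommRing R'] (f : R →+* R') (F : R⟦X⟧) :
    d⁄dX R' (PowerSeries.map f F) = PowerSeries.map f (d⁄dX R F) := by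
  ext n
  rw [coeff_derivative, coeff_map, coeff_map, coeff_derivative, map_mul, map_add, map_natCast,
    map_one]

theorem map_logD {R' : Type v} [CommRing R'] (f : R →+* R') {F : R⟦X⟧}
    (hF : constantCoeff F = 1) : PowerSeries.map f (logD F) = logD (PowerSeries.map f F) := by
  have hF' : constantCoeff (PowerSeries.map f F) = 1 := by
    rw [← PowerSeries.coeff_zero_eq_constantCoeff_apply, coeff_map,
      PowerSeries.coeff_zero_eq_constantCoeff_apply, hF, map_one]
  apply logD_unique hF'
  rw [← map_mul, mul_logD hF, derivative_map]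

/-- the coefficients of `F'/F` up to degree `N - 1` only depend on those of `F` up to degree `N` -/
theorem coeff_logD_congr {F G : R⟦X⟧} (hF : constantCoeff F = 1) (hG : constantCoeff G = 1)
    (N : ℕ) (h : ∀ k : ℕ, k ≤ N → coeff k F = coeff k G) (m : ℕ) (hm : m < N) :
    coeff m (logD F) = coeff m (logD G) := by
  induction m using Nat.strong_induction_on with
  | _ m ih =>
    have key : ∀ H : R⟦X⟧, constantCoeff H = 1 → coeff m (logD H) =
        coeff (m + 1) H * ((m : R) + 1) -
          ∑ i ∈ range m, coeff (i + 1) H * coeff (m - (i + 1)) (logD H) := by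
      intro H hH
      have e := congrArg (coeff m) (mul_logD hH)
      rw [coeff_derivative, PowerSeries.coeff_mul,
        Finset.Nat.sum_antidiagonal_eq_sum_range_succ_mk, Finset.sum_range_succ',
        PowerSeries.coeff_zero_eq_constantCoeff_apply, hH, one_mul, Nat.sub_zero] at e
      rw [← e]; ring
    rw [key F hF, key G hG, h (m + 1) (by omega)]
    congr 1
    refine Finset.sum_congr rfl fun i hi => ?_
    have hi' := Finset.mem_range.mp hi
    rw [h (i + 1) (by omega), ih (m - (i + 1)) (by omega) (by omega)]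

theorem logD_FProd {ι : Type v} (S : Finset ι) (V : ι → R) :
    logD (FProd S V) = GS (fun k => ∑ v ∈ S, V v ^ k) := by
  symm
  apply logD_unique
  · rw [← PowerSeries.coeff_zero_eq_constantCoeff_apply, coeff_zero_FProd]
  · rw [derivative_FProd]

end LogD

end Groth.Agent.Lib.helper3.Special
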