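import Groth.Agent.Lib.Helper3.SpecialLib
import Mathlib.RingTheory.MvPolynomial.Symmetric.FundamentalTheorem

/-!
Newton polynomials: the power sums as polynomials in the elementary symmetric functions, and
their values on the `λ^k(x)` of a pre-λ-ring and on the `e_k` of a family (helper3).
-/

set_option autoImplicit false
universe u v

namespace Groth.Agent.Lib.helper3.Special

open PowerSeries LambdaRing Finset
open Groth.Agent.Lib.helper3.AdamsOp

section NPoly

variable (N : ℕ)

/-- the sequence `1, X_0, …, X_{N-1}, 0, 0, …` -/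
noncomputable def xt (k : ℕ) : MvPolynomial (Fin N) ℚ :=
  if k = 0 then 1 else if h : k - 1 < N then MvPolynomial.X ⟨k - 1, h⟩ else 0

/-- the universal truncated series `1 + X_0 t + ⋯ + X_{N-1} t^N` -/
noncomputable def Lam : (MvPolynomial (Fin N) ℚ)⟦X⟧ := PowerSeries.mk (xt N)

theorem constantCoeff_Lam : constantCoeff (Lam N) = 1 := by
  rw [← PowerSeries.coeff_zero_eq_constantCoeff_apply, Lam, coeff_mk, xt, if_pos rfl]

/-- the Newton polynomial: the `k`-th power sum in terms of `e_1, …, e_N` -/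
noncomputable def npoly : ℕ → MvPolynomial (Fin N) ℚ
  | 0 => 0
  | k + 1 => (-1) ^ k * PowerSeries.coeff k (logD (Lam N))

variable {N}

theorem map_npoly_succ {R : Type u} [CommRing R] (g : MvPolynomial (Fin N) ℚ →+* R) (F : R⟦X⟧)
    (hF : constantCoeff F = 1) (h : ∀ k : ℕ, k ≤ N → coeff k F = g (xt N k)) (k : ℕ) (hk : k < N) :
    g (npoly N (k + 1)) = (-1) ^ k * coeff k (logD F) := by
  rw [npoly, map_mul, map_pow, map_neg, map_one, ← coeff_map, map_logD g (constantCoeff_Lam N)]
  congr 1
  have hc : constantCoeff (PowerSeries.map g (Lam N)) = 1 := by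
    rw [← PowerSeries.coeff_zero_eq_constantCoeff_apply, coeff_map,
      PowerSeries.coeff_zero_eq_constantCoeff_apply, constantCoeff_Lam, map_one]
  refine coeff_logD_congr hc hF N (fun j hj => ?_) k hk
  rw [coeff_map, h j hj, Lam, coeff_mk]

/-- in a pre-λ-ring which is a `ℚ`-algebra, the Newton polynomials compute the Adams operations -/
theorem aeval_npoly {K : Type u} [CommRing K] [LambdaOps K] [Algebra ℚ K] (x : K) (k : ℕ)
    (hk1 : 1 ≤ k) (hk : k ≤ N) :
    MvPolynomial.aeval (fun i : Fin N => LambdaOps.lam ((i : ℕ) + 1) x) (npoly N k) =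
      adamsOp k x := by
  obtain ⟨k, rfl⟩ := Nat.exists_eq_add_of_le' hk1
  have := map_npoly_succ
    ((MvPolynomial.aeval (fun i : Fin N => LambdaOps.lam ((i : ℕ) + 1) x) :
      MvPolynomial (Fin N) ℚ →ₐ[ℚ] K) : MvPolynomial (Fin N) ℚ →+* K) (lamSeries x)
    (constantCoeff_lamSeries x) ?_ k (by omega)
  · rw [RingHom.coe_coe] at this
    rw [this, adamsOp, logDerivSeries_eq_logD]
  · intro j hj
    rw [coeff_lamSeries, RingHom.coe_coe, xt]
    split_ifs with h0 h1
    · rw [h0, LambdaOps.lam_zero, map_one]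
    · rw [MvPolynomial.aeval_X]
      show LambdaOps.lam j x = LambdaOps.lam (j - 1 + 1) x
      rw [Nat.sub_add_cancel (by omega)]
    · omega

/-- the Newton polynomials evaluated at the elementary symmetric functions of a family of at
most `N` elements are the power sums -/
theorem aeval_npoly_esymm {R : Type u} [CommRing R] [Algebra ℚ R] {ι : Type v} (S : Finset ι)
    (V : ι → R) (hS : S.card ≤ N) (k : ℕ) (hk1 : 1 ≤ k) :
    MvPolynomial.aeval (fun i : Fin N => ∑ t ∈ S.powersetCard ((i : ℕ) + 1), ∏ v ∈ t, V v)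
      (npoly N k) = ∑ v ∈ S, V v ^ k := by
  obtain ⟨k, rfl⟩ := Nat.exists_eq_add_of_le' hk1
  set g : MvPolynomial (Fin N) ℚ →+* R :=
    ((MvPolynomial.aeval (fun i : Fin N => ∑ t ∈ S.powersetCard ((i : ℕ) + 1), ∏ v ∈ t, V v) :
      MvPolynomial (Fin N) ℚ →ₐ[ℚ] R) : MvPolynomial (Fin N) ℚ →+* R) with hg
  have hmap : PowerSeries.map g (Lam N) = FProd S V := by
    ext j
    rw [coeff_map, Lam, coeff_mk, coeff_FProd, xt, hg, RingHom.coe_coe]
    split_ifs with h0 h1
    · rw [h0, map_one, Finset.powersetCard_zero, Finset.sum_singleton, Finset.prod_empty]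
    · rw [MvPolynomial.aeval_X]
      show ∑ t ∈ S.powersetCard (j - 1 + 1), ∏ v ∈ t, V v = _
      rw [Nat.sub_add_cancel (by omega)]
    · rw [map_zero, Finset.powersetCard_eq_empty.mpr (by omega), Finset.sum_empty]
  show g (npoly N (k + 1)) = _
  rw [npoly, map_mul, map_pow, map_neg, map_one, ← coeff_map, map_logD g (constantCoeff_Lam N),
    hmap, logD_FProd, GS, coeff_mk, ← mul_assoc, ← mul_pow]
  simp

end NPoly

end Groth.Agent.Lib.helper3.Special
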