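import Groth.Agent.Lib.Helper3.SpecialLib2
import Groth.Agent.Lib.Helper3.AdamsPos
import Mathlib.Algebra.MvPolynomial.Equiv

/-!
Injectivity of the substitution of elementary symmetric functions in two families of variables
over an arbitrary commutative ring (helper3).
-/

set_option autoImplicit false
universe u

namespace Groth.Agent.Lib.helper3.Special

open MvPolynomial Finset

section TwoFam

variable (R₀ : Type) [CommRing R₀] (n : ℕ)

/-- `R₀[U]` -/
local notation "AA" => MvPolynomial (Fin n) R₀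
/-- `R₀[U][T]` -/
local notation "BB" => MvPolynomial (Fin n) (MvPolynomial (Fin n) R₀)

/-- the substitution `X_k ↦ e_k(T)`, `Y_k ↦ e_k(U)` -/
noncomputable def phiR : MvPolynomial (Fin n ⊕ Fin n) R₀ →ₐ[R₀] MvPolynomial (Fin n ⊕ Fin n) R₀ :=
  aeval (Sum.elim (fun k : Fin n => rename Sum.inl (esymm (Fin n) R₀ ((k : ℕ) + 1)))
      (fun k : Fin n => rename Sum.inr (esymm (Fin n) R₀ ((k : ℕ) + 1))))

/-- `Y_k ↦ e_k(U)` -/
noncomputable def eUR : AA →ₐ[R₀] AA :=
  aeval (fun k : Fin n => esymm (Fin n) R₀ ((k : ℕ) + 1))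

/-- `X_k ↦ e_k(T)` over `R₀[U]` -/
noncomputable def eTR : BB →ₐ[AA] BB :=
  aeval (fun k : Fin n => esymm (Fin n) AA ((k : ℕ) + 1))

theorem sumAlgEquiv_rename_inl' (p : AA) :
    sumAlgEquiv R₀ (Fin n) (Fin n) (rename Sum.inl p) = map (algebraMap R₀ AA) p := by
  have h := congrArg (fun f => f p) (sumAlgEquiv_comp_rename_inl (R := R₀) (S₁ := Fin n) (S₂ := Fin n))
  simpa using h

theorem sumAlgEquiv_rename_inr' (p : AA) :
    sumAlgEquiv R₀ (Fin n) (Fin n) (rename Sum.inr p) = C p := by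
  have h := congrArg (fun f => f p) (sumAlgEquiv_comp_rename_inr (R := R₀) (S₁ := Fin n) (S₂ := Fin n))
  simpa using h

theorem sumAlgEquiv_phiR (P : MvPolynomial (Fin n ⊕ Fin n) R₀) :
    sumAlgEquiv R₀ (Fin n) (Fin n) (phiR R₀ n P) =
      eTR R₀ n (map (eUR R₀ n : AA →+* AA) (sumAlgEquiv R₀ (Fin n) (Fin n) P)) := by
  induction P using MvPolynomial.induction_on with
  | C r =>
    rw [← algebraMap_eq, AlgHom.commutes, algebraMap_eq, sumAlgEquiv_C_inl, map_C]
    have : (eUR R₀ n : AA →+* AA) (C r) = C r := by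
      rw [← algebraMap_eq]; exact (eUR R₀ n).commutes r
    rw [this, ← algebraMap_eq (R := AA), AlgHom.commutes]
  | add p q hp hq => simp only [map_add, hp, hq]
  | mul_X p i hp =>
    rw [map_mul, map_mul, hp, map_mul, map_mul, map_mul]
    congr 1
    rcases i with k | k
    · rw [phiR, aeval_X, Sum.elim_inl, sumAlgEquiv_rename_inl', map_esymm, sumAlgEquiv_X_inl, map_X,
        eTR, aeval_X]
    · rw [phiR, aeval_X, Sum.elim_inr, sumAlgEquiv_rename_inr', sumAlgEquiv_X_inr, map_C]
      have : (eUR R₀ n : AA →+* AA) (X k) = esymm (Fin n) R₀ ((k : ℕ) + 1) := by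
        show eUR R₀ n (X k) = _
        rw [eUR, aeval_X]
      rw [this, ← algebraMap_eq (R := AA), AlgHom.commutes]

theorem eTR_injective : Function.Injective (eTR R₀ n) := by
  intro Q Q' h
  apply esymmAlgHom_fin_injective AA (le_refl n)
  apply Subtype.ext
  rw [esymmAlgHom_apply, esymmAlgHom_apply]
  exact h

theorem eUR_injective : Function.Injective (eUR R₀ n) := by
  intro Q Q' h
  apply esymmAlgHom_fin_injective R₀ (le_refl n)
  apply Subtype.ext
  rw [esymmAlgHom_apply, esymmAlgHom_apply]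
  exact h

theorem phiR_injective : Function.Injective (phiR R₀ n) := by
  intro P P' h
  have h1 := congrArg (sumAlgEquiv R₀ (Fin n) (Fin n)) h
  rw [sumAlgEquiv_phiR, sumAlgEquiv_phiR] at h1
  have h2 := eTR_injective R₀ n h1
  have h3 := MvPolynomial.map_injective (eUR R₀ n : AA →+* AA) (eUR_injective R₀ n) h2
  exact (sumAlgEquiv R₀ (Fin n) (Fin n)).injective h3

end TwoFam

end Groth.Agent.Lib.helper3.Special
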