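import Groth.Agent.Lib.Helper3.SpecialLib5

/-!
Newton polynomials over an arbitrary coefficient ring, stability of the universal polynomials
`P_n` in the number of variables, and multiplicativity of the Adams operations of a λ-ring in the
strict sense (helper3).
-/

set_option autoImplicit false
universe u v

namespace Groth.Agent.Lib.helper3.Special

open MvPolynomial Finset LambdaRing
open Groth.Agent.Lib.helper3.AdamsOp

section NPolyR

variable (R₀ : Type) [CommRing R₀] (N : ℕ)

/-- the sequence `1, X_0, …, X_{N-1}, 0, 0, …` -/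
noncomputable def xtR (k : ℕ) : MvPolynomial (Fin N) R₀ :=
  if k = 0 then 1 else if h : k - 1 < N then MvPolynomial.X ⟨k - 1, h⟩ else 0

/-- the universal truncated series `1 + X_0 t + ⋯ + X_{N-1} t^N` -/
noncomputable def LamR : PowerSeries (MvPolynomial (Fin N) R₀) := PowerSeries.mk (xtR R₀ N)

theorem constantCoeff_LamR : PowerSeries.constantCoeff (LamR R₀ N) = 1 := by
  rw [← PowerSeries.coeff_zero_eq_constantCoeff_apply, LamR, PowerSeries.coeff_mk, xtR, if_pos rfl]

/-- the Newton polynomial: the `k`-th power sum in terms of `e_1, …, e_N` -/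
noncomputable def npolyR : ℕ → MvPolynomial (Fin N) R₀
  | 0 => 0
  | k + 1 => (-1) ^ k * PowerSeries.coeff k (logD (LamR R₀ N))

variable {R₀ N}

theorem map_npolyR_succ {R : Type u} [CommRing R] (g : MvPolynomial (Fin N) R₀ →+* R)
    (F : PowerSeries R) (hF : PowerSeries.constantCoeff F = 1)
    (h : ∀ k : ℕ, k ≤ N → PowerSeries.coeff k F = g (xtR R₀ N k)) (k : ℕ) (hk : k < N) :
    g (npolyR R₀ N (k + 1)) = (-1) ^ k * PowerSeries.coeff k (logD F) := by
  rw [npolyR, map_mul, map_pow, map_neg, map_one, ← PowerSeries.coeff_map,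
    map_logD g (constantCoeff_LamR R₀ N)]
  congr 1
  have hc : PowerSeries.constantCoeff (PowerSeries.map g (LamR R₀ N)) = 1 := by
    rw [← PowerSeries.coeff_zero_eq_constantCoeff_apply, PowerSeries.coeff_map,
      PowerSeries.coeff_zero_eq_constantCoeff_apply, constantCoeff_LamR, map_one]
  refine coeff_logD_congr hc hF N (fun j hj => ?_) k hk
  rw [PowerSeries.coeff_map, h j hj, LamR, PowerSeries.coeff_mk]

/-- the Newton polynomials compute the Adams operations of any pre-λ-ring -/
theorem aeval_npolyR {K : Type u} [CommRing K] [LambdaOps K] [Algebra R₀ K] (x : K) (k : ℕ)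
    (hk1 : 1 ≤ k) (hk : k ≤ N) :
    MvPolynomial.aeval (fun i : Fin N => LambdaOps.lam ((i : ℕ) + 1) x) (npolyR R₀ N k) =
      adamsOp k x := by
  obtain ⟨k, rfl⟩ := Nat.exists_eq_add_of_le' hk1
  have := map_npolyR_succ
    ((MvPolynomial.aeval (fun i : Fin N => LambdaOps.lam ((i : ℕ) + 1) x) :
      MvPolynomial (Fin N) R₀ →ₐ[R₀] K) : MvPolynomial (Fin N) R₀ →+* K) (lamSeries x)
    (constantCoeff_lamSeries x) ?_ k (by omega)
  · rw [RingHom.coe_coe] at this
    rw [this, adamsOp, logDerivSeries_eq_logD]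
  · intro j hj
    rw [coeff_lamSeries, RingHom.coe_coe, xtR]
    split_ifs with h0 h1
    · rw [h0, LambdaOps.lam_zero, map_one]
    · rw [MvPolynomial.aeval_X]
      show LambdaOps.lam j x = LambdaOps.lam (j - 1 + 1) x
      rw [Nat.sub_add_cancel (by omega)]
    · omega

/-- the Newton polynomials evaluated at the elementary symmetric functions of any finite family
are the power sums (in degrees `≤ N`) -/
theorem aeval_npolyR_esymm {R : Type u} [CommRing R] [Algebra R₀ R] {ι : Type v} (S : Finset ι)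
    (V : ι → R) (k : ℕ) (hk1 : 1 ≤ k) (hk : k ≤ N) :
    MvPolynomial.aeval (fun i : Fin N => ∑ t ∈ S.powersetCard ((i : ℕ) + 1), ∏ v ∈ t, V v)
      (npolyR R₀ N k) = ∑ v ∈ S, V v ^ k := by
  obtain ⟨k, rfl⟩ := Nat.exists_eq_add_of_le' hk1
  have := map_npolyR_succ
    ((MvPolynomial.aeval (fun i : Fin N => ∑ t ∈ S.powersetCard ((i : ℕ) + 1), ∏ v ∈ t, V v) :
      MvPolynomial (Fin N) R₀ →ₐ[R₀] R) : MvPolynomial (Fin N) R₀ →+* R) (FProd S V)
    (by rw [← PowerSeries.coeff_zero_eq_constantCoeff_apply, coeff_zero_FProd]) ?_ k (by omega)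
  · rw [RingHom.coe_coe] at this
    rw [this, logD_FProd, GS, PowerSeries.coeff_mk, ← mul_assoc, ← mul_pow]
    simp
  · intro j hj
    rw [coeff_FProd, RingHom.coe_coe, xtR]
    split_ifs with h0 h1
    · rw [h0, map_one, Finset.powersetCard_zero, Finset.sum_singleton, Finset.prod_empty]
    · rw [MvPolynomial.aeval_X]
      show _ = ∑ t ∈ S.powersetCard (j - 1 + 1), ∏ v ∈ t, V v
      rw [Nat.sub_add_cancel (by omega)]
    · omega

end NPolyR

end Groth.Agent.Lib.helper3.Special
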