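import Groth.Agent.Lib.Helper3.SpecialZ

/-!
Stability of the universal polynomials `P_m` in the number of variables and multiplicativity of
the Adams operations of a λ-ring in the strict sense (helper3).
-/

set_option autoImplicit false
universe u v

namespace Groth.Agent.Lib.helper3.Special

open MvPolynomial Finset LambdaRing
open Groth.Agent.Lib.helper3.AdamsOp

theorem npoly_eq_npolyR (m l : ℕ) : npoly m l = npolyR ℚ m l := by
  cases l <;> rfl

section Stab

variable {m N : ℕ} (hmN : m ≤ N)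

/-- the embedding of the variables -/
def emb : Fin m ⊕ Fin m → Fin N ⊕ Fin N := Sum.map (Fin.castLE hmN) (Fin.castLE hmN)

theorem phiR_rename_inl_npoly_le (l : ℕ) (hl1 : 1 ≤ l) (hl2 : l ≤ m) :
    phiR ℚ N (rename (emb hmN) (rename Sum.inl (npoly m l))) =
      ∑ a : Fin N, (X (Sum.inl a) : MvPolynomial (Fin N ⊕ Fin N) ℚ) ^ l := by
  rw [rename_rename, phiR, aeval_rename, npoly_eq_npolyR]
  have hfun : (Sum.elim (fun k : Fin N => rename Sum.inl (esymm (Fin N) ℚ ((k : ℕ) + 1)))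
      (fun k : Fin N => rename Sum.inr (esymm (Fin N) ℚ ((k : ℕ) + 1))) ∘ (emb hmN ∘ Sum.inl) :
        Fin m → MvPolynomial (Fin N ⊕ Fin N) ℚ) =
      fun i : Fin m => ∑ t ∈ (Finset.univ : Finset (Fin N)).powersetCard ((i : ℕ) + 1),
        ∏ v ∈ t, (X (Sum.inl v) : MvPolynomial (Fin N ⊕ Fin N) ℚ) := by
    funext i
    simp only [Function.comp_apply, emb, Sum.map_inl, Sum.elim_inl, Fin.val_castLE]
    exact rename_esymm_eq Sum.inl _
  rw [hfun]
  exact aeval_npolyR_esymm (Finset.univ : Finset (Fin N))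
    (fun v => (X (Sum.inl v) : MvPolynomial (Fin N ⊕ Fin N) ℚ)) l hl1 hl2

theorem phiR_rename_inr_npoly_le (l : ℕ) (hl1 : 1 ≤ l) (hl2 : l ≤ m) :
    phiR ℚ N (rename (emb hmN) (rename Sum.inr (npoly m l))) =
      ∑ a : Fin N, (X (Sum.inr a) : MvPolynomial (Fin N ⊕ Fin N) ℚ) ^ l := by
  rw [rename_rename, phiR, aeval_rename, npoly_eq_npolyR]
  have hfun : (Sum.elim (fun k : Fin N => rename Sum.inl (esymm (Fin N) ℚ ((k : ℕ) + 1)))
      (fun k : Fin N => rename Sum.inr (esymm (Fin N) ℚ ((k : ℕ) + 1))) ∘ (emb hmN ∘ Sum.inr) :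
        Fin m → MvPolynomial (Fin N ⊕ Fin N) ℚ) =
      fun i : Fin m => ∑ t ∈ (Finset.univ : Finset (Fin N)).powersetCard ((i : ℕ) + 1),
        ∏ v ∈ t, (X (Sum.inr v) : MvPolynomial (Fin N ⊕ Fin N) ℚ) := by
    funext i
    simp only [Function.comp_apply, emb, Sum.map_inr, Sum.elim_inr, Fin.val_castLE]
    exact rename_esymm_eq Sum.inr _
  rw [hfun]
  exact aeval_npolyR_esymm (Finset.univ : Finset (Fin N))
    (fun v => (X (Sum.inr v) : MvPolynomial (Fin N ⊕ Fin N) ℚ)) l hl1 hl2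

theorem phiR_rename_cpoly :
    phiR ℚ N (rename (emb hmN) (cpoly m)) =
      ∑ t ∈ (Finset.univ : Finset (Fin N × Fin N)).powersetCard m,
        ∏ ab ∈ t, (X (Sum.inl ab.1) * X (Sum.inr ab.2) : MvPolynomial (Fin N ⊕ Fin N) ℚ) := by
  rw [cpoly, ← LRec_psum]
  have h := map_LRec (((phiR ℚ N).comp (rename (emb hmN)) :
      MvPolynomial (Fin m ⊕ Fin m) ℚ →ₐ[ℚ] MvPolynomial (Fin N ⊕ Fin N) ℚ) :
      MvPolynomial (Fin m ⊕ Fin m) ℚ →+* MvPolynomial (Fin N ⊕ Fin N) ℚ)
    (fun k => rename Sum.inl (npoly m k) * rename Sum.inr (npoly m k)) m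
  rw [RingHom.coe_coe] at h
  simp only [AlgHom.comp_apply] at h
  rw [h]
  apply LRec_congr
  intro k hk1 hk2
  rw [map_mul, map_mul, phiR_rename_inl_npoly_le hmN k hk1 hk2,
    phiR_rename_inr_npoly_le hmN k hk1 hk2, Finset.sum_mul_sum, ← Finset.sum_product',
    Finset.univ_product_univ]
  refine Finset.sum_congr rfl fun ab _ => ?_
  rw [mul_pow]

/-- stability of `P_m`: the defining identity holds in any number `N ≥ m` of variables -/
theorem phiR_rename_of_isMulPoly (P : MvPolynomial (Fin m ⊕ Fin m) ℤ) (hP : IsMulPoly m P) :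
    phiR ℤ N (rename (emb hmN) P) =
      ∑ t ∈ (Finset.univ : Finset (Fin N × Fin N)).powersetCard m,
        ∏ ab ∈ t, (X (Sum.inl ab.1) * X (Sum.inr ab.2) : MvPolynomial (Fin N ⊕ Fin N) ℤ) := by
  apply MvPolynomial.map_injective (Int.castRingHom ℚ) Int.cast_injective
  have h1 : map (Int.castRingHom ℚ) (phiR ℤ N (rename (emb hmN) P)) =
      phiR ℚ N (map (Int.castRingHom ℚ) (rename (emb hmN) P)) := (phiR_map N _).symm
  rw [h1, map_rename, ← cpoly_eq m P hP, phiR_rename_cpoly hmN, map_sum]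
  refine Finset.sum_congr rfl fun t _ => ?_
  rw [map_prod]
  refine Finset.prod_congr rfl fun ab _ => ?_
  rw [map_mul, map_X, map_X]

end Stab

end Groth.Agent.Lib.helper3.Special
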