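import Groth.Agent.Lib.Helper3.SpecialZ2

/-!
Multiplicativity of the Adams operations of a λ-ring in the strict sense (helper3).
-/

set_option autoImplicit false
universe u v

namespace Groth.Agent.Lib.helper3.Special

open MvPolynomial Finset LambdaRing
open Groth.Agent.Lib.helper3.AdamsOp

theorem rename_esymm_eq' (R₀ : Type) [CommRing R₀] {σ τ : Type*} [Fintype σ] (f : σ → τ) (m : ℕ) :
    rename f (esymm σ R₀ m) =
      ∑ t ∈ (Finset.univ : Finset σ).powersetCard m, ∏ i ∈ t, (X (f i) : MvPolynomial τ R₀) := by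
  rw [esymm, map_sum]
  refine Finset.sum_congr rfl fun t _ => ?_
  rw [map_prod]
  refine Finset.prod_congr rfl fun i _ => ?_
  rw [rename_X]

section AdamsMul

variable (k : ℕ) (Pm : ∀ m : ℕ, MvPolynomial (Fin m ⊕ Fin m) ℤ)

/-- `P_{i+1}` in `k` variables -/
noncomputable def Pk (i : Fin k) : MvPolynomial (Fin k ⊕ Fin k) ℤ :=
  rename (emb (Nat.succ_le_of_lt i.2 : (i : ℕ) + 1 ≤ k)) (Pm ((i : ℕ) + 1))

theorem phiR_rename_inl_npolyZ (l : ℕ) (hl1 : 1 ≤ l) (hl2 : l ≤ k) :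
    phiR ℤ k (rename Sum.inl (npolyR ℤ k l)) =
      ∑ a : Fin k, (X (Sum.inl a) : MvPolynomial (Fin k ⊕ Fin k) ℤ) ^ l := by
  rw [phiR, aeval_rename]
  have hfun : (Sum.elim (fun i : Fin k => rename Sum.inl (esymm (Fin k) ℤ ((i : ℕ) + 1)))
      (fun i : Fin k => rename Sum.inr (esymm (Fin k) ℤ ((i : ℕ) + 1))) ∘ Sum.inl :
        Fin k → MvPolynomial (Fin k ⊕ Fin k) ℤ) =
      fun i : Fin k => ∑ t ∈ (Finset.univ : Finset (Fin k)).powersetCard ((i : ℕ) + 1),
        ∏ v ∈ t, (X (Sum.inl v) : MvPolynomial (Fin k ⊕ Fin k) ℤ) := by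
    funext i
    simp only [Function.comp_apply, Sum.elim_inl]
    exact rename_esymm_eq' ℤ Sum.inl _
  rw [hfun]
  exact aeval_npolyR_esymm (Finset.univ : Finset (Fin k))
    (fun v => (X (Sum.inl v) : MvPolynomial (Fin k ⊕ Fin k) ℤ)) l hl1 hl2

theorem phiR_rename_inr_npolyZ (l : ℕ) (hl1 : 1 ≤ l) (hl2 : l ≤ k) :
    phiR ℤ k (rename Sum.inr (npolyR ℤ k l)) =
      ∑ a : Fin k, (X (Sum.inr a) : MvPolynomial (Fin k ⊕ Fin k) ℤ) ^ l := by
  rw [phiR, aeval_rename]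
  have hfun : (Sum.elim (fun i : Fin k => rename Sum.inl (esymm (Fin k) ℤ ((i : ℕ) + 1)))
      (fun i : Fin k => rename Sum.inr (esymm (Fin k) ℤ ((i : ℕ) + 1))) ∘ Sum.inr :
        Fin k → MvPolynomial (Fin k ⊕ Fin k) ℤ) =
      fun i : Fin k => ∑ t ∈ (Finset.univ : Finset (Fin k)).powersetCard ((i : ℕ) + 1),
        ∏ v ∈ t, (X (Sum.inr v) : MvPolynomial (Fin k ⊕ Fin k) ℤ) := by
    funext i
    simp only [Function.comp_apply, Sum.elim_inr]
    exact rename_esymm_eq' ℤ Sum.inr _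
  rw [hfun]
  exact aeval_npolyR_esymm (Finset.univ : Finset (Fin k))
    (fun v => (X (Sum.inr v) : MvPolynomial (Fin k ⊕ Fin k) ℤ)) l hl1 hl2

/-- the polynomial identity behind `ψ^k(xy) = ψ^k(x) ψ^k(y)` -/
theorem adams_mul_identity (hPm : ∀ m : ℕ, IsMulPoly m (Pm m)) (hk : 1 ≤ k) :
    aeval (Pk k Pm) (npolyR ℤ k k) =
      rename Sum.inl (npolyR ℤ k k) * rename Sum.inr (npolyR ℤ k k) := by
  apply phiR_injective ℤ k
  rw [comp_aeval_apply, map_mul, phiR_rename_inl_npolyZ k k hk le_rfl,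
    phiR_rename_inr_npolyZ k k hk le_rfl]
  have hfun : (fun i : Fin k => phiR ℤ k (Pk k Pm i)) =
      fun i : Fin k => ∑ t ∈ (Finset.univ : Finset (Fin k × Fin k)).powersetCard ((i : ℕ) + 1),
        ∏ ab ∈ t, (X (Sum.inl ab.1) * X (Sum.inr ab.2) : MvPolynomial (Fin k ⊕ Fin k) ℤ) := by
    funext i
    rw [Pk]
    exact phiR_rename_of_isMulPoly _ _ (hPm _)
  rw [hfun, aeval_npolyR_esymm (Finset.univ : Finset (Fin k × Fin k))
    (fun ab => (X (Sum.inl ab.1) * X (Sum.inr ab.2) : MvPolynomial (Fin k ⊕ Fin k) ℤ)) k hk le_rfl,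
    Finset.sum_mul_sum, ← Finset.sum_product', Finset.univ_product_univ]
  refine Finset.sum_congr rfl fun ab _ => ?_
  rw [mul_pow]

end AdamsMul

/-- in a λ-ring in the strict sense the Adams operations are multiplicative -/
theorem adamsOp_mul_of_isSpecial {K : Type u} [CommRing K] [LambdaOps K] (hK : IsSpecial K)
    (hP : ∀ n : ℕ, ∃ P : MvPolynomial (Fin n ⊕ Fin n) ℤ, IsMulPoly n P)
    (k : ℕ) (hk : 1 ≤ k) (x y : K) :
    adamsOp k (x * y) = adamsOp k x * adamsOp k y := by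
  choose Pm hPm using hP
  have h1 : adamsOp k (x * y) =
      aeval (fun i : Fin k => LambdaOps.lam ((i : ℕ) + 1) (x * y)) (npolyR ℤ k k) :=
    (aeval_npolyR (x * y) k hk le_rfl).symm
  have h2 : (fun i : Fin k => LambdaOps.lam ((i : ℕ) + 1) (x * y)) =
      fun i : Fin k => aeval (Sum.elim (fun i : Fin k => LambdaOps.lam ((i : ℕ) + 1) x)
        (fun i : Fin k => LambdaOps.lam ((i : ℕ) + 1) y)) (Pk k Pm i) := by
    funext i
    rw [hK.lam_mul _ (Pm ((i : ℕ) + 1)) (hPm _), Pk, aeval_rename]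
    congr 2
    funext a
    rcases a with a | a
    · simp [emb]
    · simp [emb]
  rw [h1, h2, ← comp_aeval_apply, adams_mul_identity k Pm hPm hk, map_mul, aeval_rename,
    aeval_rename]
  have e1 : (Sum.elim (fun k : Fin k => LambdaOps.lam ((k : ℕ) + 1) x)
      (fun k : Fin k => LambdaOps.lam ((k : ℕ) + 1) y) ∘ Sum.inl : Fin k → K) =
      fun k : Fin k => LambdaOps.lam ((k : ℕ) + 1) x := by
    funext i; rfl
  have e2 : (Sum.elim (fun k : Fin k => LambdaOps.lam ((k : ℕ) + 1) x)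
      (fun k : Fin k => LambdaOps.lam ((k : ℕ) + 1) y) ∘ Sum.inr : Fin k → K) =
      fun k : Fin k => LambdaOps.lam ((k : ℕ) + 1) y := by
    funext i; rfl
  rw [e1, e2, aeval_npolyR x k hk le_rfl, aeval_npolyR y k hk le_rfl]

end Groth.Agent.Lib.helper3.Special
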