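import Groth.Agent.Lib.Helper3.SpecialZ3

/-!
Stability of the universal polynomials `Q_{i,j}` in the number of variables (helper3).
-/

set_option autoImplicit false
universe u v

namespace Groth.Agent.Lib.helper3.Special

open MvPolynomial Finset LambdaRing
open Groth.Agent.Lib.helper3.AdamsOp

theorem eUR_map' (N : ℕ) (Q : MvPolynomial (Fin N) ℤ) :
    eUR ℚ N (map (Int.castRingHom ℚ) Q) = map (Int.castRingHom ℚ) (eUR ℤ N Q) := by
  induction Q using MvPolynomial.induction_on with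
  | C r =>
    rw [map_C, ← algebraMap_eq, AlgHom.commutes, ← algebraMap_eq, AlgHom.commutes, algebraMap_eq,
      algebraMap_eq, map_C]
  | add p q hp hq => simp only [map_add, hp, hq]
  | mul_X p a hp =>
    rw [map_mul, map_mul, hp, map_mul, map_mul]
    congr 1
    rw [map_X, eUR, eUR, aeval_X, aeval_X, map_esymm]

section StabQ

variable {i j N : ℕ} (hN : i * j ≤ N)

theorem eUR_rename_npoly_le (m : ℕ) (hm1 : 1 ≤ m) (hm2 : m ≤ i * j) :
    eUR ℚ N (rename (Fin.castLE hN) (npoly (i * j) m)) =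
      ∑ a : Fin N, (X a : MvPolynomial (Fin N) ℚ) ^ m := by
  rw [eUR, aeval_rename, npoly_eq_npolyR]
  have hfun : ((fun k : Fin N => esymm (Fin N) ℚ ((k : ℕ) + 1)) ∘ Fin.castLE hN :
        Fin (i * j) → MvPolynomial (Fin N) ℚ) =
      fun c : Fin (i * j) => ∑ t ∈ (Finset.univ : Finset (Fin N)).powersetCard ((c : ℕ) + 1),
        ∏ v ∈ t, (X v : MvPolynomial (Fin N) ℚ) := by
    funext c
    simp only [Function.comp_apply, Fin.val_castLE]
    rfl
  rw [hfun]
  exact aeval_npolyR_esymm (Finset.univ : Finset (Fin N))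
    (fun v => (X v : MvPolynomial (Fin N) ℚ)) m hm1 hm2

theorem eUR_rename_dpoly (k : ℕ) (hk1 : 1 ≤ k) (hk2 : k ≤ j) :
    eUR ℚ N (rename (Fin.castLE hN) (dpoly i j k)) =
      ∑ s ∈ (Finset.univ : Finset (Fin N)).powersetCard i,
        (∏ a ∈ s, (X a : MvPolynomial (Fin N) ℚ)) ^ k := by
  rw [dpoly]
  have h := map_LRec (((eUR ℚ N).comp (rename (Fin.castLE hN)) :
      MvPolynomial (Fin (i * j)) ℚ →ₐ[ℚ] MvPolynomial (Fin N) ℚ) :
      MvPolynomial (Fin (i * j)) ℚ →+* MvPolynomial (Fin N) ℚ)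
    (fun l => npoly (i * j) (k * l)) i
  rw [RingHom.coe_coe] at h
  simp only [AlgHom.comp_apply] at h
  rw [h]
  have hc : LRec (fun l => eUR ℚ N (rename (Fin.castLE hN) (npoly (i * j) (k * l)))) i =
      LRec (fun l => ∑ a ∈ (Finset.univ : Finset (Fin N)),
        ((X a : MvPolynomial (Fin N) ℚ) ^ k) ^ l) i := by
    apply LRec_congr
    intro l hl1 hl2
    have hle : k * l ≤ i * j := by
      rw [mul_comm i j]
      exact Nat.mul_le_mul hk2 hl2
    rw [eUR_rename_npoly_le hN (k * l) (Nat.mul_pos hk1 hl1) hle]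
    refine Finset.sum_congr rfl fun a _ => ?_
    rw [pow_mul]
  rw [hc, LRec_psum]
  refine Finset.sum_congr rfl fun s _ => ?_
  rw [Finset.prod_pow]

theorem eUR_rename_wpoly :
    eUR ℚ N (rename (Fin.castLE hN) (wpoly i j)) =
      ∑ t ∈ ((Finset.univ : Finset (Fin N)).powersetCard i).powersetCard j,
        ∏ s ∈ t, ∏ a ∈ s, (X a : MvPolynomial (Fin N) ℚ) := by
  rw [wpoly, ← LRec_psum]
  have h := map_LRec (((eUR ℚ N).comp (rename (Fin.castLE hN)) :
      MvPolynomial (Fin (i * j)) ℚ →ₐ[ℚ] MvPolynomial (Fin N) ℚ) :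
      MvPolynomial (Fin (i * j)) ℚ →+* MvPolynomial (Fin N) ℚ) (dpoly i j) j
  rw [RingHom.coe_coe] at h
  simp only [AlgHom.comp_apply] at h
  rw [h]
  apply LRec_congr
  intro k hk1 hk2
  exact eUR_rename_dpoly hN k hk1 hk2

/-- stability of `Q_{i,j}`: the defining identity holds in any number `N ≥ ij` of variables -/
theorem eUR_rename_of_isCompPoly (Q : MvPolynomial (Fin (i * j)) ℤ) (hQ : IsCompPoly i j Q) :
    eUR ℤ N (rename (Fin.castLE hN) Q) =
      ∑ t ∈ ((Finset.univ : Finset (Fin N)).powersetCard i).powersetCard j,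
        ∏ s ∈ t, ∏ a ∈ s, (X a : MvPolynomial (Fin N) ℤ) := by
  apply MvPolynomial.map_injective (Int.castRingHom ℚ) Int.cast_injective
  rw [← eUR_map', map_rename, ← wpoly_eq i j Q hQ, eUR_rename_wpoly hN, map_sum]
  refine Finset.sum_congr rfl fun t _ => ?_
  rw [map_prod]
  refine Finset.prod_congr rfl fun s _ => ?_
  rw [map_prod]
  refine Finset.prod_congr rfl fun a _ => ?_
  rw [map_X]

end StabQ

end Groth.Agent.Lib.helper3.Special
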