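import Mathlib
import Groth.Agent.Lib.Helper3.GeomIrr
import Groth.Agent.Lib.Helper3.GeomConn

/-!
For `k`-algebras `R`, `S` over a field `k`, the projection `Spec (R ⊗ S) ⟶ Spec R` is universally
open, and geometrically connected / irreducible when `S` is so over `k` (helper3).
-/

set_option autoImplicit false
universe u

namespace Groth.Agent.Lib.helper3.TensorFibre

open CategoryTheory Limits AlgebraicGeometry TensorProduct

variable (k R S : Type u) [Field k] [CommRing R] [CommRing S] [Algebra k R] [Algebra k S]

/-- the projection `Spec (R ⊗ S) ⟶ Spec R` -/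
noncomputable abbrev proj : Spec (CommRingCat.of (R ⊗[k] S)) ⟶ Spec (CommRingCat.of R) :=
  Spec.map (CommRingCat.ofHom (algebraMap R (R ⊗[k] S)))

theorem proj_eq : proj k R S = (pullbackSpecIso k R S).inv ≫
    pullback.fst (Spec.map (CommRingCat.ofHom (algebraMap k R)))
      (Spec.map (CommRingCat.ofHom (algebraMap k S))) :=
  (pullbackSpecIso_inv_fst' k R S).symm

instance universallyOpen_proj : UniversallyOpen (proj k R S) := by
  rw [proj_eq]
  infer_instance

theorem geomConn_proj
    (hS : ∀ (k' : Type u) [Field k'] [Algebra k k'], ConnectedSpace (PrimeSpectrum (k' ⊗[k] S))) :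
    GeometricallyConnected (proj k R S) := by
  have h1 : GeometricallyConnected (Spec.map (CommRingCat.ofHom (algebraMap k S))) :=
    GeomConn.geomConn_specMap_iff.mpr hS
  rw [proj_eq]
  exact (MorphismProperty.cancel_left_of_respectsIso @GeometricallyConnected _ _).mpr
    inferInstance

theorem geomIrr_proj
    (hS : ∀ (k' : Type u) [Field k'] [Algebra k k'],
      IrreducibleSpace (PrimeSpectrum (k' ⊗[k] S))) :
    GeometricallyIrreducible (proj k R S) := by
  have h1 : GeometricallyIrreducible (Spec.map (CommRingCat.ofHom (algebraMap k S))) :=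
    GeomIrr.geomIrr_specMap_iff.mpr hS
  rw [proj_eq]
  exact (MorphismProperty.cancel_left_of_respectsIso @GeometricallyIrreducible _ _).mpr
    inferInstance

end Groth.Agent.Lib.helper3.TensorFibre
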