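import Mathlib
import Groth.Agent.Lib.Helper23.TA10
import Groth.Agent.Lib.Helper3.WEtale2

/-! Tor dimension ascends along ring maps `A → B` with `B` flat and flat diagonal. -/

set_option autoImplicit false
universe u

namespace Groth.Agent.Lib.helper3.TorAscend

open CategoryTheory CategoryTheory.Limits
open Groth.Agent.Lib.helper7.TorAPI Groth.Agent.Lib.helper23.TA

/-- general dimension shifting along a short exact sequence with flat middle term -/
lemma torVan_succ_iff_of_shortExact {A : Type u} [CommRing A] (d : ℕ)
    (S : ShortComplex (ModuleCat.{u} A)) (hS : S.ShortExact) [Module.Flat A S.X₂] :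
    TorVan (d + 1) S.X₃ ↔ TorVan d S.X₁ := by
  have key : ∀ (N : ModuleCat.{u} A) (q : ℕ), d < q →
      (IsZero ((T (q + 1) S.X₃).obj N) ↔ IsZero ((T q S.X₁).obj N)) := by
    intro N q hq
    obtain ⟨r, rfl⟩ : ∃ r, q = r + 1 := ⟨q - 1, by omega⟩
    exact Groth.Agent.Lib.helper7.TorAPI.isZero_succ_iff₁ hS N (r + 1)
      (isZero_T_flat _ N (r + 1)) (isZero_T_flat _ N r)
  constructor
  · intro h N q hq
    exact (key N q hq).1 (h N (q + 1) (by omega))
  · intro h N p hp
    obtain ⟨q, rfl⟩ : ∃ q, p = q + 1 := ⟨p - 1, by omega⟩
    exact (key N q (by omega)).2 (h N q (by omega))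

variable {A B : Type u} [CommRing A] [CommRing B] [Algebra A B]

theorem flat_restrictScalars [Module.Flat A B] (P : ModuleCat.{u} B) [Module.Flat B P] :
    Module.Flat A ((ModuleCat.restrictScalars (algebraMap A B)).obj P) := by
  letI : Module A P := Module.compHom P (algebraMap A B)
  haveI : IsScalarTower A B P := IsScalarTower.of_compHom A B P
  exact Module.Flat.trans A B P

theorem torVan_ascend [Module.Flat A B]
    (h : (Algebra.TensorProduct.lmul' A (S := B)).Flat) :
    ∀ (d : ℕ) (N : ModuleCat.{u} B),
      TorVan d ((ModuleCat.restrictScalars (algebraMap A B)).obj N) → TorVan d N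
  | 0, N, hN => by
    rw [torVan_zero_iff_flat] at hN ⊢
    letI : Module A N := Module.compHom N (algebraMap A B)
    haveI : IsScalarTower A B N := IsScalarTower.of_compHom A B N
    haveI : Module.Flat A N := hN
    exact Groth.Agent.Lib.helper3.WEtale2.flat_of_flat_lmul' h N
  | d + 1, N, hN => by
    rw [torVan_succ_iff]
    apply torVan_ascend h d
    have hS : ((presSC N).map (ModuleCat.restrictScalars (algebraMap A B))).ShortExact :=
      (presSC_shortExact N).map_of_exact _
    haveI : Module.Flat B (presSC N).X₂ := flat_of_projective_obj _ inferInstance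
    haveI : Module.Flat A ((presSC N).map (ModuleCat.restrictScalars (algebraMap A B))).X₂ :=
      flat_restrictScalars (presSC N).X₂
    exact (torVan_succ_iff_of_shortExact d _ hS).mp hN

end Groth.Agent.Lib.helper3.TorAscend
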