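import Mathlib
import Groth.Agent.Lib.Helper8.LocalFlat
import Groth.Agent.Lib.Helper25.TensorChase

/-!
# Flatness modulo an ideal (helper3)

`R` a ring, `I` an ideal, `M` an `R`-module such that `M / I M` is flat over `R / I`.
* `rTensor_injective_of_flat_mod`: a short exact sequence of `R / I`-modules with flat cokernel
  stays exact after `- ⊗[R] X` for every `R`-module `X`.
* `FM I M`: `- ⊗[R] M` preserves injections of `R / I`-modules; `FM_of_flat`, `flat_of_FM`,
  `FM_baseChange`, `FM_of_linearEquiv`, `FM_of_isLocalizedModule`.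
-/

set_option autoImplicit false
set_option linter.unusedSectionVars false
set_option linter.style.haveILetI false
universe u

open TensorProduct

namespace Groth.Agent.Lib.helper3.TorBC

section Q

variable {R : Type u} [CommRing R] (I : Ideal R)

/-- A short exact sequence of `R ⧸ I`-modules with `R ⧸ I`-flat cokernel stays left exact after
tensoring over `R` with any `R`-module. -/
theorem rTensor_injective_of_flat_mod
    {A B C : Type u} [AddCommGroup A] [Module R A] [Module (R ⧸ I) A] [IsScalarTower R (R ⧸ I) A]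
    [AddCommGroup B] [Module R B] [Module (R ⧸ I) B] [IsScalarTower R (R ⧸ I) B]
    [AddCommGroup C] [Module (R ⧸ I) C]
    (f : A →ₗ[R ⧸ I] B) (g : B →ₗ[R ⧸ I] C) (hfg : Function.Exact f g)
    (hg : Function.Surjective g) (hf : Function.Injective f) [Module.Flat (R ⧸ I) C]
    (X : Type u) [AddCommGroup X] [Module R X] :
    Function.Injective ((f.restrictScalars R).rTensor X) := by
  have h1 : Function.Injective (f.rTensor ((R ⧸ I) ⊗[R] X)) :=
    Groth.Agent.Lib.helper25.rTensor_injective_of_flat_coker f g hfg hg hf _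
  intro w₁ w₂ h
  obtain ⟨z₁, rfl⟩ := (AlgebraTensorModule.cancelBaseChange R (R ⧸ I) (R ⧸ I) A X).surjective w₁
  obtain ⟨z₂, rfl⟩ := (AlgebraTensorModule.cancelBaseChange R (R ⧸ I) (R ⧸ I) A X).surjective w₂
  rw [Groth.Agent.Lib.helper8.LocalFlat.cancelBaseChange_rTensor,
    Groth.Agent.Lib.helper8.LocalFlat.cancelBaseChange_rTensor] at h
  rw [h1 ((AlgebraTensorModule.cancelBaseChange R (R ⧸ I) (R ⧸ I) B X).injective h)]

end Q


section FM

variable {R : Type u} [CommRing R] (I : Ideal R) (M : Type u) [AddCommGroup M] [Module R M]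

/-- `- ⊗[R] M` preserves injections between `R`-modules killed by `I`
(i.e. `M / I M` is flat over `R / I`). -/
def FM : Prop :=
  ∀ (P Q : Type u) [AddCommGroup P] [Module R P] [AddCommGroup Q] [Module R Q] (v : P →ₗ[R] Q),
    (∀ a ∈ I, ∀ p : P, a • p = 0) → (∀ a ∈ I, ∀ q : Q, a • q = 0) → Function.Injective v →
      Function.Injective (v.rTensor M)

variable {I M}

theorem FM_of_flat [Module.Flat (R ⧸ I) ((R ⧸ I) ⊗[R] M)] : FM I M := by
  intro P Q _ _ _ _ v hP hQ hv
  have hP' : Module.IsTorsionBySet R P I := fun x a => hP a.1 a.2 x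
  have hQ' : Module.IsTorsionBySet R Q I := fun x a => hQ a.1 a.2 x
  letI := hP'.module
  letI := hQ'.module
  let v' : P →ₗ[R ⧸ I] Q :=
    { toFun := v
      map_add' := v.map_add
      map_smul' := by
        intro x p
        obtain ⟨r, rfl⟩ := Ideal.Quotient.mk_surjective x
        simp only [RingHom.id_apply]
        change v (r • p) = r • v p
        exact v.map_smul r p }
  have h1 : Function.Injective (v'.rTensor ((R ⧸ I) ⊗[R] M)) :=
    Module.Flat.rTensor_preserves_injective_linearMap v' hv
  have hvv : v'.restrictScalars R = v := LinearMap.ext fun _ => rfl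
  rw [← hvv]
  intro w₁ w₂ h
  obtain ⟨z₁, rfl⟩ := (AlgebraTensorModule.cancelBaseChange R (R ⧸ I) (R ⧸ I) P M).surjective w₁
  obtain ⟨z₂, rfl⟩ := (AlgebraTensorModule.cancelBaseChange R (R ⧸ I) (R ⧸ I) P M).surjective w₂
  rw [Groth.Agent.Lib.helper8.LocalFlat.cancelBaseChange_rTensor,
    Groth.Agent.Lib.helper8.LocalFlat.cancelBaseChange_rTensor] at h
  rw [h1 ((AlgebraTensorModule.cancelBaseChange R (R ⧸ I) (R ⧸ I) Q M).injective h)]

theorem flat_of_FM (h : FM I M) : Module.Flat (R ⧸ I) ((R ⧸ I) ⊗[R] M) := by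
  apply Groth.Agent.Lib.helper8.LocalFlat.flat_baseChange_of_forall_ideal
  intro 𝔟
  apply h 𝔟 (R ⧸ I) (𝔟.subtype.restrictScalars R)
  · intro a ha p
    ext
    rw [Submodule.coe_zero, Submodule.coe_smul_of_tower, Algebra.smul_def,
      Ideal.Quotient.algebraMap_eq, Ideal.Quotient.eq_zero_iff_mem.2 ha, zero_mul]
  · intro a ha q
    rw [Algebra.smul_def, Ideal.Quotient.algebraMap_eq, Ideal.Quotient.eq_zero_iff_mem.2 ha, zero_mul]
  · exact Subtype.val_injective

theorem FM_of_linearEquiv {M₁ : Type u} [AddCommGroup M₁] [Module R M₁] (e : M ≃ₗ[R] M₁)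
    (h : FM I M) : FM I M₁ := by
  intro P Q _ _ _ _ v hP hQ hv
  have h1 := h P Q v hP hQ hv
  have hc : (LinearMap.lTensor Q e.toLinearMap) ∘ₗ (v.rTensor M) =
      (v.rTensor M₁) ∘ₗ (LinearMap.lTensor P e.toLinearMap) := by
    rw [LinearMap.lTensor_comp_rTensor, LinearMap.rTensor_comp_lTensor]
  intro w₁ w₂ hw
  obtain ⟨z₁, rfl⟩ := (LinearEquiv.lTensor P e).surjective w₁
  obtain ⟨z₂, rfl⟩ := (LinearEquiv.lTensor P e).surjective w₂
  have h2 : (LinearMap.lTensor Q e.toLinearMap) (v.rTensor M z₁) =
      (LinearMap.lTensor Q e.toLinearMap) (v.rTensor M z₂) := by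
    have := congrArg (fun φ => φ z₁) hc
    have h' := congrArg (fun φ => φ z₂) hc
    simp only [LinearMap.comp_apply] at this h'
    rw [this, h']
    exact hw
  rw [h1 ((LinearEquiv.lTensor Q e).injective h2)]

end FM

section FMBC

variable {R R' : Type u} [CommRing R] [CommRing R'] [Algebra R R'] {I : Ideal R}
  {M : Type u} [AddCommGroup M] [Module R M]

theorem FM_baseChange (h : FM I M) : FM (I.map (algebraMap R R')) (R' ⊗[R] M) := by
  intro P Q _ _ _ _ v hP hQ hv
  letI : Module R P := Module.compHom P (algebraMap R R')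
  haveI : IsScalarTower R R' P := IsScalarTower.of_algebraMap_smul (fun r p => rfl)
  letI : Module R Q := Module.compHom Q (algebraMap R R')
  haveI : IsScalarTower R R' Q := IsScalarTower.of_algebraMap_smul (fun r p => rfl)
  have h1 : Function.Injective ((v.restrictScalars R).rTensor M) := by
    apply h P Q (v.restrictScalars R)
    · intro a ha p
      exact hP _ (Ideal.mem_map_of_mem _ ha) p
    · intro a ha q
      exact hQ _ (Ideal.mem_map_of_mem _ ha) q
    · exact hv
  intro z₁ z₂ hz
  apply (AlgebraTensorModule.cancelBaseChange R R' R' P M).injective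
  apply h1
  rw [Groth.Agent.Lib.helper8.LocalFlat.cancelBaseChange_rTensor,
    Groth.Agent.Lib.helper8.LocalFlat.cancelBaseChange_rTensor, hz]

end FMBC

section FMLoc

variable {R' T : Type u} [CommRing R'] [CommRing T] [Algebra R' T] (W : Submonoid T)
  {I' : Ideal R'}
  {M'' M' : Type u} [AddCommGroup M''] [Module R' M''] [Module T M''] [IsScalarTower R' T M'']
  [AddCommGroup M'] [Module R' M'] [Module T M'] [IsScalarTower R' T M']
  (h : M'' →ₗ[T] M') [IsLocalizedModule W h]

include W h in
theorem FM_of_isLocalizedModule (hM : FM I' M'') : FM I' M' := by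
  intro P Q _ _ _ _ v hP hQ hv
  rw [← LinearMap.lTensor_inj_iff_rTensor_inj]
  have h1 : Function.Injective (v.lTensor M'') := by
    rw [LinearMap.lTensor_inj_iff_rTensor_inj]
    exact hM P Q v hP hQ hv
  have h2 := IsLocalizedModule.map_injective W (AlgebraTensorModule.rTensor R' P h)
    (AlgebraTensorModule.rTensor R' Q h) (AlgebraTensorModule.lTensor T M'' v) h1
  rw [IsLocalizedModule.map_lTensor] at h2
  exact h2

end FMLoc

end Groth.Agent.Lib.helper3.TorBC
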