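import Mathlib
import Groth.Agent.Lib.Helper3.TorBC1

set_option autoImplicit false
set_option linter.unusedSectionVars false
set_option linter.style.haveILetI false
universe u

open TensorProduct

namespace Groth.Agent.Lib.helper3.TorBC

section Loc

variable {R' T : Type u} [CommRing R'] [CommRing T] [Algebra R' T] (W : Submonoid T)
  (I' : Ideal R')
  {M'' M' : Type u} [AddCommGroup M''] [Module R' M''] [Module T M''] [IsScalarTower R' T M'']
  [AddCommGroup M'] [Module R' M'] [Module T M'] [IsScalarTower R' T M']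
  (h : M'' →ₗ[T] M') [IsLocalizedModule W h]

include W in
theorem injective_of_localized
    (hyp : ∀ n : M'' ⊗[R'] I', (LinearMap.lTensor M'' I'.subtype) n = 0 →
      (AlgebraTensorModule.rTensor R' I' h) n = 0) :
    Function.Injective (LinearMap.rTensor M' I'.subtype) := by
  rw [← LinearMap.lTensor_inj_iff_rTensor_inj, injective_iff_map_eq_zero]
  intro x hx
  obtain ⟨⟨n, w⟩, hnw⟩ := IsLocalizedModule.surj W (AlgebraTensorModule.rTensor R' I' h) x
  simp only at hnw
  rw [Submonoid.smul_def] at hnw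
  have hcomm : ∀ n : M'' ⊗[R'] I', (AlgebraTensorModule.rTensor R' R' h)
      ((AlgebraTensorModule.lTensor T M'' I'.subtype) n) =
      (AlgebraTensorModule.lTensor T M' I'.subtype) ((AlgebraTensorModule.rTensor R' I' h) n) := by
    intro n
    induction n using TensorProduct.induction_on with
    | zero => simp
    | add a b ha hb => simp only [map_add, ha, hb]
    | tmul m a => simp
  have h1 : (AlgebraTensorModule.rTensor R' R' h)
      ((AlgebraTensorModule.lTensor T M'' I'.subtype) n) = 0 := by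
    rw [hcomm, ← hnw, map_smul]
    have : (AlgebraTensorModule.lTensor T M' I'.subtype) x = 0 := hx
    rw [this, smul_zero]
  obtain ⟨w₂, hw₂⟩ := (IsLocalizedModule.eq_zero_iff W (AlgebraTensorModule.rTensor R' R' h)).1 h1
  rw [Submonoid.smul_def] at hw₂
  have h2 : (AlgebraTensorModule.rTensor R' I' h) ((w₂ : T) • n) = 0 := by
    apply hyp
    have : (AlgebraTensorModule.lTensor T M'' I'.subtype) ((w₂ : T) • n) = 0 := by
      rw [map_smul]; exact hw₂
    exact this
  rw [map_smul, ← hnw] at h2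
  have h3 := IsLocalizedModule.smul_injective (AlgebraTensorModule.rTensor R' I' h) w₂
    (show w₂ • ((w : T) • x) = w₂ • 0 from by rw [Submonoid.smul_def, h2, smul_zero])
  exact IsLocalizedModule.smul_injective (AlgebraTensorModule.rTensor R' I' h) w
    (show w • x = w • 0 from by rw [Submonoid.smul_def, h3, smul_zero])

end Loc

section Phi

variable {R : Type u} (R' : Type u) [CommRing R] [CommRing R'] [Algebra R R'] (I : Ideal R)

/-- The natural map `I ⊗[R] M → I R' ⊗[R'] M'` induced by an `R`-linear map `M → M'`. -/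
noncomputable def Phi {M M' : Type*} [AddCommGroup M] [Module R M] [AddCommGroup M'] [Module R M']
    [Module R' M'] [IsScalarTower R R' M'] (f : M →ₗ[R] M') :
    I ⊗[R] M →ₗ[R] (I.map (algebraMap R R')) ⊗[R'] M' :=
  (TensorProduct.mapOfCompatibleSMul R' R R (I.map (algebraMap R R')) M') ∘ₗ
    (TensorProduct.map (Algebra.idealMap R' I) f)

variable {M M' N' F : Type*} [AddCommGroup M] [Module R M] [AddCommGroup M'] [Module R M']
    [Module R' M'] [IsScalarTower R R' M'] [AddCommGroup N'] [Module R N']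
    [Module R' N'] [IsScalarTower R R' N'] [AddCommGroup F] [Module R F]

@[simp]
theorem Phi_tmul (f : M →ₗ[R] M') (a : I) (m : M) :
    Phi R' I f (a ⊗ₜ m) = (Algebra.idealMap R' I a) ⊗ₜ f m := by
  simp [Phi]

theorem lTensor_Phi (f : M →ₗ[R] M') (k : M' →ₗ[R'] N') (x : I ⊗[R] M) :
    (LinearMap.lTensor (I.map (algebraMap R R')) k) (Phi R' I f x) =
      Phi R' I ((k.restrictScalars R) ∘ₗ f) x := by
  induction x using TensorProduct.induction_on with
  | zero => simp
  | add a b ha hb => simp only [map_add, ha, hb]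
  | tmul a m => simp

theorem Phi_lTensor (p : F →ₗ[R] M) (f : M →ₗ[R] M') (y : I ⊗[R] F) :
    Phi R' I f (LinearMap.lTensor I p y) = Phi R' I (f ∘ₗ p) y := by
  induction y using TensorProduct.induction_on with
  | zero => simp
  | add a b ha hb => simp only [map_add, ha, hb]
  | tmul a m => simp

theorem lid_rTensor_Phi (f : M →ₗ[R] M') (x : I ⊗[R] M) :
    TensorProduct.lid R' M' ((LinearMap.rTensor M' (I.map (algebraMap R R')).subtype) (Phi R' I f x)) =
      f (TensorProduct.lid R M (LinearMap.rTensor M I.subtype x)) := by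
  induction x using TensorProduct.induction_on with
  | zero => simp
  | add a b ha hb => simp only [map_add, ha, hb]
  | tmul a m => simp

end Phi

section LemmaA

variable {R : Type u} (R' : Type u) [CommRing R] [CommRing R'] [Algebra R R'] (I : Ideal R)

theorem lid_rTensor_lTensor {A : Type*} [CommRing A] (J : Ideal A) {X Y : Type*} [AddCommGroup X]
    [Module A X] [AddCommGroup Y] [Module A Y] (k : X →ₗ[A] Y) (y : J ⊗[A] X) :
    TensorProduct.lid A Y (LinearMap.rTensor Y J.subtype (LinearMap.lTensor J k y)) =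
      k (TensorProduct.lid A X (LinearMap.rTensor X J.subtype y)) := by
  induction y using TensorProduct.induction_on with
  | zero => simp
  | add a b ha hb => simp only [map_add, ha, hb]
  | tmul a m => simp

theorem lTensor_mk_lid_rTensor_eq_zero {F : Type*} [AddCommGroup F] [Module R F]
    (y' : (I.map (algebraMap R R')) ⊗[R'] (R' ⊗[R] F)) :
    (LinearMap.lTensor R' (TensorProduct.mk R (R ⧸ I) F 1))
      (TensorProduct.lid R' (R' ⊗[R] F)
        ((LinearMap.rTensor (R' ⊗[R] F) (I.map (algebraMap R R')).subtype) y')) = 0 := by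
  have key : ∀ a' ∈ I.map (algebraMap R R'), ∀ (r' : R') (v : F),
      (a' * r') ⊗ₜ[R] ((1 : R ⧸ I) ⊗ₜ[R] v) = 0 := by
    intro a' ha'
    refine Submodule.span_induction (p := fun a' _ => ∀ (r' : R') (v : F),
      (a' * r') ⊗ₜ[R] ((1 : R ⧸ I) ⊗ₜ[R] v) = 0) ?_ ?_ ?_ ?_ ha'
    · rintro _ ⟨a, ha, rfl⟩ r' v
      rw [← Algebra.smul_def, TensorProduct.smul_tmul, TensorProduct.smul_tmul', Algebra.smul_def,
        Ideal.Quotient.algebraMap_eq, Ideal.Quotient.eq_zero_iff_mem.2 ha, zero_mul,
        TensorProduct.zero_tmul, TensorProduct.tmul_zero]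
    · intro r' v
      rw [zero_mul, TensorProduct.zero_tmul]
    · intro a b _ _ ha hb r' v
      rw [add_mul, TensorProduct.add_tmul, ha, hb, add_zero]
    · intro s a _ ha r' v
      rw [smul_eq_mul, mul_comm s a, mul_assoc]
      exact ha (s * r') v
  induction y' using TensorProduct.induction_on with
  | zero => simp
  | add a b ha hb => simp only [map_add, ha, hb, add_zero]
  | tmul a' w =>
    induction w using TensorProduct.induction_on with
    | zero => simp
    | add a b ha hb =>
      simp only [TensorProduct.tmul_add, map_add, ha, hb, add_zero]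
    | tmul r' v =>
      simp only [LinearMap.rTensor_tmul, Submodule.subtype_apply, TensorProduct.lid_tmul,
        TensorProduct.smul_tmul', smul_eq_mul, LinearMap.lTensor_tmul, TensorProduct.mk_apply]
      exact key a'.1 a'.2 r' v

variable {R'} {I}

theorem exists_one_tmul {K : Type*} [AddCommGroup K] [Module R K] (η : (R ⧸ I) ⊗[R] K) :
    ∃ k : K, η = 1 ⊗ₜ k := by
  induction η using TensorProduct.induction_on with
  | zero => exact ⟨0, (TensorProduct.tmul_zero _ _).symm⟩
  | add a b ha hb =>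
    obtain ⟨k₁, rfl⟩ := ha
    obtain ⟨k₂, rfl⟩ := hb
    exact ⟨k₁ + k₂, (TensorProduct.tmul_add _ _ _).symm⟩
  | tmul x k =>
    obtain ⟨r, rfl⟩ := Ideal.Quotient.mk_surjective x
    refine ⟨r • k, ?_⟩
    rw [← TensorProduct.smul_tmul, Algebra.smul_def, mul_one, Ideal.Quotient.algebraMap_eq]

end LemmaA

section Main

variable {R : Type u} (R' : Type u) [CommRing R] [CommRing R'] [Algebra R R'] (I : Ideal R)
  (M : Type u) [AddCommGroup M] [Module R M]

theorem lTensor_ker_injective_of_flat_mod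
    {B C : Type u} [AddCommGroup B] [Module R B] [Module (R ⧸ I) B] [IsScalarTower R (R ⧸ I) B]
    [AddCommGroup C] [Module R C] [Module (R ⧸ I) C] [IsScalarTower R (R ⧸ I) C]
    (g : B →ₗ[R ⧸ I] C) (hg : Function.Surjective g) [Module.Flat (R ⧸ I) C]
    (X : Type u) [AddCommGroup X] [Module R X] :
    Function.Injective (LinearMap.lTensor X (LinearMap.ker (g.restrictScalars R)).subtype) := by
  have h := rTensor_injective_of_flat_mod I (A := LinearMap.ker g) (LinearMap.ker g).subtype g
    (LinearMap.exact_subtype_ker_map g) hg (Submodule.injective_subtype _) X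
  rw [← LinearMap.lTensor_inj_iff_rTensor_inj] at h
  let e : ↥(LinearMap.ker (g.restrictScalars R)) ≃ₗ[R] ↥(LinearMap.ker g) :=
    { toFun := fun x => ⟨x.1, x.2⟩
      invFun := fun x => ⟨x.1, x.2⟩
      map_add' := fun _ _ => rfl
      map_smul' := fun _ _ => rfl
      left_inv := fun _ => rfl
      right_inv := fun _ => rfl }
  have hcomp : (LinearMap.ker (g.restrictScalars R)).subtype =
      ((LinearMap.ker g).subtype.restrictScalars R) ∘ₗ e.toLinearMap := LinearMap.ext fun _ => rfl
  rw [hcomp, LinearMap.lTensor_comp, LinearMap.coe_comp]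
  exact h.comp (LinearEquiv.lTensor X e).injective

variable {M}

theorem exists_c {F : Type u} [AddCommGroup F] [Module R F] (π : F →ₗ[R] M)
    (hπ : Function.Surjective π) :
    ∃ c : (LinearMap.ker π) →ₗ[R] (LinearMap.ker ((π.baseChange (R ⧸ I)).restrictScalars R)),
      (∀ k, ((c k : LinearMap.ker ((π.baseChange (R ⧸ I)).restrictScalars R)) :
        (R ⧸ I) ⊗[R] F) = (1 : R ⧸ I) ⊗ₜ[R] (k : F)) ∧ Function.Surjective c := by
  have hmem : ∀ k : LinearMap.ker π, (1 : R ⧸ I) ⊗ₜ[R] (k : F) ∈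
      LinearMap.ker ((π.baseChange (R ⧸ I)).restrictScalars R) := by
    intro k
    rw [LinearMap.mem_ker]
    change (π.baseChange (R ⧸ I)) ((1 : R ⧸ I) ⊗ₜ[R] (k : F)) = 0
    rw [LinearMap.baseChange_tmul, (LinearMap.mem_ker.1 k.2), TensorProduct.tmul_zero]
  refine ⟨{ toFun := fun k => ⟨(1 : R ⧸ I) ⊗ₜ[R] (k : F), hmem k⟩
            map_add' := fun a b => Subtype.ext (TensorProduct.tmul_add _ _ _)
            map_smul' := fun r a => Subtype.ext (TensorProduct.tmul_smul r _ _) },
            fun _ => rfl, ?_⟩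
  intro kb
  have h1 : LinearMap.lTensor (R ⧸ I) π kb.1 = 0 := by
    have := LinearMap.mem_ker.1 kb.2
    rw [← LinearMap.baseChange_eq_ltensor]
    exact this
  obtain ⟨η, hη⟩ := (lTensor_exact (f := (LinearMap.ker π).subtype) (g := π) (R ⧸ I)
    (LinearMap.exact_subtype_ker_map π) hπ _).1 h1
  obtain ⟨k, rfl⟩ := exists_one_tmul η
  refine ⟨k, ?_⟩
  ext
  rw [← hη]
  rfl

theorem exists_of_lTensor_eq_zero {A B : Type*} [AddCommGroup A] [Module R A] [AddCommGroup B]
    [Module R B] (c : A →ₗ[R] B) (hc : Function.Surjective c) (κ : R' ⊗[R] A)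
    (h : LinearMap.lTensor R' c κ = 0) :
    ∃ ξ : R' ⊗[R] (LinearMap.ker c), LinearMap.lTensor R' (LinearMap.ker c).subtype ξ = κ :=
  (lTensor_exact R' (LinearMap.exact_subtype_ker_map c) hc κ).1 h

theorem mem_smul_top_of_one_tmul_eq_zero {F : Type*} [AddCommGroup F] [Module R F] (v : F)
    (h : (1 : R ⧸ I) ⊗ₜ[R] v = 0) : v ∈ I • (⊤ : Submodule R F) := by
  have h1 := congrArg (TensorProduct.quotTensorEquivQuotSMul F I) h
  rw [← map_one (Ideal.Quotient.mk I), TensorProduct.quotTensorEquivQuotSMul_mk_tmul,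
    one_smul, map_zero, Submodule.Quotient.mk_eq_zero] at h1
  exact h1

variable (M)

theorem ker_le_abstract
    {F : Type u} [AddCommGroup F] [Module R F] [Module.Flat R F] (π : F →ₗ[R] M)
    (hπ : Function.Surjective π)
    {Fb : Type u} [AddCommGroup Fb] [Module R Fb] (q : F →ₗ[R] Fb) (Kb : Submodule R Fb)
    (c : (LinearMap.ker π) →ₗ[R] Kb) (hc : ∀ k, ((c k : Kb) : Fb) = q (k : F))
    (hc_surj : Function.Surjective c)
    (hinj : Function.Injective (LinearMap.lTensor R' Kb.subtype))
    (hq0 : ∀ v : F, q v = 0 → v ∈ I • (⊤ : Submodule R F))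
    (hq1 : ∀ y' : (I.map (algebraMap R R')) ⊗[R'] (R' ⊗[R] F),
      (LinearMap.lTensor R' q) (TensorProduct.lid R' (R' ⊗[R] F)
        ((LinearMap.rTensor (R' ⊗[R] F) (I.map (algebraMap R R')).subtype) y')) = 0)
    {N : Type*} [AddCommGroup N] [Module R' N]
    (ψ : (I.map (algebraMap R R')) ⊗[R'] (R' ⊗[R] M) →ₗ[R'] N)
    (hψ : ∀ x : I ⊗[R] M, LinearMap.rTensor M I.subtype x = 0 →
      ψ (Phi R' I (TensorProduct.mk R R' M 1) x) = 0)
    (z : (I.map (algebraMap R R')) ⊗[R'] (R' ⊗[R] M))
    (hz : LinearMap.rTensor (R' ⊗[R] M) (I.map (algebraMap R R')).subtype z = 0) : ψ z = 0 := by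
  classical
  have hπXcoe : ∀ w, (π.baseChange R') w = LinearMap.lTensor R' π w := fun w => by
    rw [← LinearMap.baseChange_eq_ltensor]
  have hπX : Function.Surjective (π.baseChange R') := by
    intro w
    obtain ⟨w', hw'⟩ := LinearMap.lTensor_surjective R' hπ w
    exact ⟨w', (hπXcoe w').trans hw'⟩
  obtain ⟨y', rfl⟩ := LinearMap.lTensor_surjective (I.map (algebraMap R R')) hπX z
  -- the image `x'` of `y'` in `F' = R' ⊗ F`
  have hx'ker : (π.baseChange R') (TensorProduct.lid R' _
      (LinearMap.rTensor (R' ⊗[R] F) (I.map (algebraMap R R')).subtype y')) = 0 := by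
    rw [← lid_rTensor_lTensor, hz, map_zero]
  have hex : Function.Exact (LinearMap.lTensor R' (LinearMap.ker π).subtype)
      (LinearMap.lTensor R' π) :=
    lTensor_exact (f := (LinearMap.ker π).subtype) (g := π) R' (LinearMap.exact_subtype_ker_map π) hπ
  rw [hπXcoe] at hx'ker
  obtain ⟨κ, hκ⟩ := (hex _).1 hx'ker
  have hcκ : LinearMap.lTensor R' c κ = 0 := by
    apply hinj
    rw [map_zero, ← LinearMap.comp_apply, ← LinearMap.lTensor_comp]
    have : Kb.subtype ∘ₗ c = q ∘ₗ (LinearMap.ker π).subtype :=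
      LinearMap.ext fun k => hc k
    rw [this, LinearMap.lTensor_comp, LinearMap.comp_apply, hκ]
    exact hq1 y'
  obtain ⟨ξ, hξ⟩ := exists_of_lTensor_eq_zero R' c hc_surj κ hcκ
  -- the submodules `𝒵` and `𝒴`
  let 𝒵 : Submodule R' ((I.map (algebraMap R R')) ⊗[R'] (R' ⊗[R] F)) :=
    LinearMap.ker (ψ ∘ₗ LinearMap.lTensor (I.map (algebraMap R R')) (π.baseChange R'))
  let 𝒴 : Submodule R' (R' ⊗[R] F) :=
    𝒵.map ((TensorProduct.lid R' (R' ⊗[R] F)).toLinearMap ∘ₗ
      LinearMap.rTensor (R' ⊗[R] F) (I.map (algebraMap R R')).subtype)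
  have h7 : ∀ k : LinearMap.ker c, (1 : R') ⊗ₜ[R] ((k.1 : LinearMap.ker π) : F) ∈ 𝒴 := by
    intro k
    have hk0 : q ((k.1 : LinearMap.ker π) : F) = 0 := by
      have := LinearMap.mem_ker.1 k.2
      rw [← hc, this]
      rfl
    have hkI := hq0 _ hk0
    rw [← Ideal.subtype_rTensor_range] at hkI
    obtain ⟨y, hy⟩ := hkI
    have hy' : (TensorProduct.lid R F) ((LinearMap.rTensor F I.subtype) y) =
        ((k.1 : LinearMap.ker π) : F) := hy
    refine ⟨Phi R' I (TensorProduct.mk R R' F 1) y, ?_, ?_⟩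
    · change (ψ ∘ₗ LinearMap.lTensor (I.map (algebraMap R R')) (π.baseChange R'))
        (Phi R' I (TensorProduct.mk R R' F 1) y) = 0
      rw [LinearMap.comp_apply, lTensor_Phi]
      have : ((π.baseChange R').restrictScalars R) ∘ₗ (TensorProduct.mk R R' F 1) =
          (TensorProduct.mk R R' M 1) ∘ₗ π := by
        apply LinearMap.ext
        intro v
        simp
      rw [this, ← Phi_lTensor]
      apply hψ
      apply (TensorProduct.lid R M).injective
      rw [lid_rTensor_lTensor, map_zero, hy']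
      exact LinearMap.mem_ker.1 (k.1 : LinearMap.ker π).2
    · rw [LinearMap.comp_apply]
      change (TensorProduct.lid R' _) _ = _
      rw [lid_rTensor_Phi, hy']
      rfl
  have h8 : ∀ ξ : R' ⊗[R] (LinearMap.ker c),
      LinearMap.lTensor R' ((LinearMap.ker π).subtype ∘ₗ (LinearMap.ker c).subtype) ξ ∈ 𝒴 := by
    intro ξ
    induction ξ using TensorProduct.induction_on with
    | zero => rw [map_zero]; exact 𝒴.zero_mem
    | add a b ha hb => rw [map_add]; exact 𝒴.add_mem ha hb
    | tmul r' k =>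
      have : LinearMap.lTensor R' ((LinearMap.ker π).subtype ∘ₗ (LinearMap.ker c).subtype)
          (r' ⊗ₜ[R] k) = r' • ((1 : R') ⊗ₜ[R] ((k.1 : LinearMap.ker π) : F)) := by
        rw [TensorProduct.smul_tmul', smul_eq_mul, mul_one]
        rfl
      rw [this]
      exact 𝒴.smul_mem r' (h7 k)
  have h9 := h8 ξ
  rw [LinearMap.lTensor_comp, LinearMap.comp_apply, hξ, hκ] at h9
  obtain ⟨y'', hy''𝒵, hy''⟩ := h9
  have hflat : Function.Injective
      (LinearMap.rTensor (R' ⊗[R] F) (I.map (algebraMap R R')).subtype) :=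
    Module.Flat.rTensor_preserves_injective_linearMap _ Subtype.val_injective
  have hyy : y'' = y' := by
    apply hflat
    apply (TensorProduct.lid R' (R' ⊗[R] F)).injective
    exact hy''
  rw [hyy] at hy''𝒵
  exact hy''𝒵

theorem ker_le_concrete_aux [Module.Flat (R ⧸ I) ((R ⧸ I) ⊗[R] M)]
    {F : Type u} [AddCommGroup F] [Module R F] [Module.Flat R F] (π : F →ₗ[R] M)
    (hπ : Function.Surjective π)
    {N : Type*} [AddCommGroup N] [Module R' N]
    (ψ : (I.map (algebraMap R R')) ⊗[R'] (R' ⊗[R] M) →ₗ[R'] N)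
    (hψ : ∀ x : I ⊗[R] M, LinearMap.rTensor M I.subtype x = 0 →
      ψ (Phi R' I (TensorProduct.mk R R' M 1) x) = 0)
    (z : (I.map (algebraMap R R')) ⊗[R'] (R' ⊗[R] M))
    (hz : LinearMap.rTensor (R' ⊗[R] M) (I.map (algebraMap R R')).subtype z = 0) : ψ z = 0 := by
  have hπb : Function.Surjective (π.baseChange (R ⧸ I)) := by
    intro w
    obtain ⟨w', hw'⟩ := LinearMap.lTensor_surjective (R ⧸ I) hπ w
    refine ⟨w', ?_⟩
    rw [← hw', LinearMap.baseChange_eq_ltensor]
  obtain ⟨c, hc, hc_surj⟩ := exists_c I π hπ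
  exact ker_le_abstract R' I M π hπ (TensorProduct.mk R (R ⧸ I) F 1) _ c hc hc_surj
    (lTensor_ker_injective_of_flat_mod I (π.baseChange (R ⧸ I)) hπb R')
    (fun v hv => mem_smul_top_of_one_tmul_eq_zero I v hv)
    (lTensor_mk_lid_rTensor_eq_zero R' I) ψ hψ z hz

/-- **Base change of `Tor₁(R/I, M)`** (Stacks 00MM): if `M / I M` is flat over `R / I`, the kernel
of `I R' ⊗ (R' ⊗ M) → R' ⊗ M` is generated by the image of the kernel of `I ⊗ M → M`. -/
theorem ker_le_concrete [Module.Flat (R ⧸ I) ((R ⧸ I) ⊗[R] M)]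
    {N : Type*} [AddCommGroup N] [Module R' N]
    (ψ : (I.map (algebraMap R R')) ⊗[R'] (R' ⊗[R] M) →ₗ[R'] N)
    (hψ : ∀ x : I ⊗[R] M, LinearMap.rTensor M I.subtype x = 0 →
      ψ (Phi R' I (TensorProduct.mk R R' M 1) x) = 0)
    (z : (I.map (algebraMap R R')) ⊗[R'] (R' ⊗[R] M))
    (hz : LinearMap.rTensor (R' ⊗[R] M) (I.map (algebraMap R R')).subtype z = 0) : ψ z = 0 :=
  ker_le_concrete_aux R' I M (Finsupp.linearCombination R (id : M → M))
    (Finsupp.linearCombination_id_surjective R M) ψ hψ z hz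

end Main

end Groth.Agent.Lib.helper3.TorBC
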