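import Mathlib
import Groth.Agent.Lib.Helper3.TorBC2

/-!
# Flatness after base change from `Tor₁`-vanishing of the comparison map (helper3)

Stacks 0523-type statement in an abstract form: `core`.
-/

set_option autoImplicit false
set_option linter.unusedSectionVars false
set_option linter.style.haveILetI false
universe u

open TensorProduct

namespace Groth.Agent.Lib.helper3.TorBC

section General

variable {R : Type u} (R' : Type u) [CommRing R] [CommRing R'] [Algebra R R'] (I : Ideal R)
  {M : Type u} [AddCommGroup M] [Module R M]

theorem ker_le_of_isBaseChange [Module.Flat (R ⧸ I) ((R ⧸ I) ⊗[R] M)]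
    {M₁ : Type u} [AddCommGroup M₁] [Module R M₁] [Module R' M₁] [IsScalarTower R R' M₁]
    (g : M →ₗ[R] M₁) (hg : IsBaseChange R' g)
    {N : Type*} [AddCommGroup N] [Module R' N]
    (ψ : (I.map (algebraMap R R')) ⊗[R'] M₁ →ₗ[R'] N)
    (hψ : ∀ x : I ⊗[R] M, LinearMap.rTensor M I.subtype x = 0 → ψ (Phi R' I g x) = 0)
    (z : (I.map (algebraMap R R')) ⊗[R'] M₁)
    (hz : LinearMap.rTensor M₁ (I.map (algebraMap R R')).subtype z = 0) : ψ z = 0 := by
  have he : (hg.equiv.toLinearMap.restrictScalars R) ∘ₗ (TensorProduct.mk R R' M 1) = g := by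
    apply LinearMap.ext
    intro m
    simp [IsBaseChange.equiv_tmul]
  have h0 := ker_le_concrete R' I M
    (ψ ∘ₗ (LinearMap.lTensor (I.map (algebraMap R R')) hg.equiv.toLinearMap))
    (by
      intro x hx
      rw [LinearMap.comp_apply, lTensor_Phi, he]
      exact hψ x hx)
    (LinearMap.lTensor (I.map (algebraMap R R')) hg.equiv.symm.toLinearMap z)
    (by
      rw [← LinearMap.comp_apply, LinearMap.rTensor_comp_lTensor, ← LinearMap.lTensor_comp_rTensor,
        LinearMap.comp_apply, hz, map_zero])
  rw [LinearMap.comp_apply, ← LinearMap.comp_apply (LinearMap.lTensor _ _),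
    ← LinearMap.lTensor_comp] at h0
  have : hg.equiv.toLinearMap ∘ₗ hg.equiv.symm.toLinearMap = LinearMap.id := by
    apply LinearMap.ext
    intro m
    simp
  rw [this, LinearMap.lTensor_id, LinearMap.id_apply] at h0
  exact h0

end General

section Core

variable {R R' T : Type u} [CommRing R] [CommRing R'] [CommRing T] [Algebra R R'] [Algebra R' T]
  (I : Ideal R) (W : Submonoid T)
  {M : Type u} [AddCommGroup M] [Module R M]
  {M'' M' : Type u} [AddCommGroup M''] [Module R M''] [Module R' M''] [Module T M'']
  [IsScalarTower R R' M''] [IsScalarTower R' T M'']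
  [AddCommGroup M'] [Module R M'] [Module R' M'] [Module T M']
  [IsScalarTower R R' M'] [IsScalarTower R' T M']

theorem rTensor_comm_eq (J : Ideal R') (n : M'' ⊗[R'] J) :
    LinearMap.rTensor M'' J.subtype (TensorProduct.comm R' M'' J n) =
      TensorProduct.comm R' M'' R' (LinearMap.lTensor M'' J.subtype n) := by
  induction n using TensorProduct.induction_on with
  | zero => simp
  | add a b ha hb => simp only [map_add, ha, hb]
  | tmul m a => simp

theorem comm_algRTensor_eq (J : Ideal R') (h : M'' →ₗ[T] M') (n : M'' ⊗[R'] J) :
    TensorProduct.comm R' M' J ((AlgebraTensorModule.rTensor R' J h) n) =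
      LinearMap.lTensor J (h.restrictScalars R') (TensorProduct.comm R' M'' J n) := by
  induction n using TensorProduct.induction_on with
  | zero => simp
  | add a b ha hb => simp only [map_add, ha, hb]
  | tmul m a => simp

/-- **Core statement** (Stacks 0523 in abstract form). `M` is an `R`-module with `M / I M` flat
over `R / I`; `M''` is its base change to `R'`, carrying an action of an `R'`-algebra `T`, and
`M'` is a localization of `M''` with respect to a submonoid of `T`. If every element of the kernel
of `I ⊗ M → M` dies in `I R' ⊗ M'`, then `I R' ⊗ M' → M'` is injective and `M' / I M'` is flat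
over `R' / I R'`. -/
theorem core [Module.Flat (R ⧸ I) ((R ⧸ I) ⊗[R] M)]
    (g : M →ₗ[R] M'') (hg : IsBaseChange R' g)
    (h : M'' →ₗ[T] M') [IsLocalizedModule W h]
    (h3 : ∀ x : I ⊗[R] M, LinearMap.rTensor M I.subtype x = 0 →
      Phi R' I (((h.restrictScalars R').restrictScalars R) ∘ₗ g) x = 0) :
    Function.Injective (LinearMap.rTensor M' (I.map (algebraMap R R')).subtype) ∧
    Module.Flat (R' ⧸ I.map (algebraMap R R')) ((R' ⧸ I.map (algebraMap R R')) ⊗[R'] M') := by
  constructor
  · apply injective_of_localized W (I.map (algebraMap R R')) h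
    intro n hn
    apply (TensorProduct.comm R' M' (I.map (algebraMap R R'))).injective
    rw [comm_algRTensor_eq, map_zero]
    apply ker_le_of_isBaseChange R' I g hg
      (LinearMap.lTensor (I.map (algebraMap R R')) (h.restrictScalars R'))
    · intro x hx
      rw [lTensor_Phi]
      exact h3 x hx
    · rw [rTensor_comm_eq, hn, map_zero]
  · apply flat_of_FM
    apply FM_of_isLocalizedModule W h
    apply FM_of_linearEquiv hg.equiv
    exact FM_baseChange FM_of_flat

end Core

end Groth.Agent.Lib.helper3.TorBC
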