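import Mathlib
import Groth.Prelude.Def_FlatCA
import Groth.Agent.Lib.Helper3.FlatAtLib1

/-!
# Universal flattening at a point I (helper3; towards S1229)

* `FlatAbove R' y M'` : `M'` is flat over the local ring `R'` at all primes of `B'` over the prime
  `y` of `B` and over the maximal ideal of `R'`.
* `Flattens R B y M I` : the ideal `I` of the local ring `R` is a universal flattening ideal of the
  `B`-module `M` at `y` (all local test rings, all models of the base change).
* `exists_prime_liesOver_pushout` : primes over both factors in a pushout (residue-trivial case).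
* `flatAbove_iff_of_flat` : comparison along a flat residue-trivial ring map.
* `flatAbove_iff_of_integral` : comparison along an integral map with a unique prime above.
-/

set_option autoImplicit false
set_option linter.style.haveILetI false
set_option linter.unusedSectionVars false
universe u

open TensorProduct IsLocalRing

namespace Groth.Agent.Lib.helper3.UFlat

open Groth.Agent.Lib.helper3.FlatAtLib

/-- `M'` is flat over `R'` at all primes of `B'` over `y` and over the maximal ideal of `R'`. -/
def FlatAbove (R' B' : Type u) [CommRing R'] [IsLocalRing R'] {B : Type u} [CommRing B]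
    [CommRing B'] [Algebra B B'] [Algebra R' B'] (y : Ideal B) (M' : Type u) [AddCommGroup M']
    [Module B' M'] [Module R' M'] [IsScalarTower R' B' M'] : Prop :=
  ∀ (Q : Ideal B') [Q.IsPrime], Q.LiesOver y → Q.LiesOver (maximalIdeal R') →
    FlatCA.FlatAt R' Q M'

/-- `I` is a universal flattening ideal of `M` at `y` over the local ring `R`. -/
def Flattens (R : Type u) [CommRing R] [IsLocalRing R] (B : Type u) [CommRing B] [Algebra R B]
    (y : Ideal B) (M : Type u) [AddCommGroup M] [Module B M] (I : Ideal R) : Prop :=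
  ∀ (R' B' M' : Type u) [CommRing R'] [IsLocalRing R'] [Algebra R R']
    [IsLocalHom (algebraMap R R')]
    [CommRing B'] [Algebra B B'] [Algebra R' B'] [Algebra R B'] [IsScalarTower R B B']
    [IsScalarTower R R' B'] [Algebra.IsPushout R B R' B']
    [AddCommGroup M'] [Module B' M'] [Module B M'] [IsScalarTower B B' M'] [Module R' M']
    [IsScalarTower R' B' M'] (f : M →ₗ[B] M'), IsBaseChange B' f →
    (FlatAbove R' B' y M' ↔ I.map (algebraMap R R') = ⊥)

section Exists

variable {S S₂ S' S₂' : Type u} [CommRing S] [CommRing S₂] [CommRing S'] [CommRing S₂']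
  [Algebra S S₂] [Algebra S S'] [Algebra S₂ S₂'] [Algebra S' S₂'] [Algebra S S₂']
  [IsScalarTower S S₂ S₂'] [IsScalarTower S S' S₂'] [Algebra.IsPushout S S₂ S' S₂']

/-- In a pushout `S₂' = S₂ ⊗_S S'`, if `q₂` over `q` has trivial residue field extension, then over
every prime `Q` of `S'` over `q` there is a prime of `S₂'` over `Q` and over `q₂`. -/
theorem exists_prime_liesOver_pushout (q : Ideal S) [q.IsPrime] (q₂ : Ideal S₂) [q₂.IsPrime]
    [hq₂ : q₂.LiesOver q]
    (hres : Function.Bijective (Ideal.ResidueField.mapₐ q q₂ (Algebra.ofId S S₂) hq₂.over))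
    (Q : Ideal S') [Q.IsPrime] [hQ : Q.LiesOver q] :
    ∃ Q₂ : Ideal S₂', Q₂.IsPrime ∧ Q₂.LiesOver Q ∧ Q₂.LiesOver q₂ := by
  let κ := Q.ResidueField
  let ψ₀ : q.ResidueField →ₐ[S] κ := Ideal.ResidueField.mapₐ q Q (Algebra.ofId S S') hQ.over
  let e : q.ResidueField ≃ₐ[S] q₂.ResidueField := AlgEquiv.ofBijective _ hres
  let ψ : S₂ →ₐ[S] κ :=
    ψ₀.comp ((e.symm : q₂.ResidueField →ₐ[S] q.ResidueField).comp
      (IsScalarTower.toAlgHom S S₂ q₂.ResidueField))
  let φ : S₂' →ₐ[S] κ := Algebra.pushoutDesc S₂' ψ (IsScalarTower.toAlgHom S S' κ)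
    (fun _ _ => mul_comm _ _)
  have hφ₂ : ∀ x, φ (algebraMap S₂ S₂' x) = ψ x := fun x => Algebra.pushoutDesc_left _ _ _ _ x
  have hφ' : ∀ x, φ (algebraMap S' S₂' x) = algebraMap S' κ x := fun x =>
    Algebra.pushoutDesc_right _ _ _ _ x
  refine ⟨RingHom.ker φ.toRingHom, RingHom.ker_isPrime _, ⟨?_⟩, ⟨?_⟩⟩
  · ext x
    rw [Ideal.under_def, Ideal.mem_comap, RingHom.mem_ker]
    show x ∈ Q ↔ φ (algebraMap S' S₂' x) = 0
    rw [hφ', Ideal.algebraMap_residueField_eq_zero]
  · ext x
    rw [Ideal.under_def, Ideal.mem_comap, RingHom.mem_ker]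
    show x ∈ q₂ ↔ φ (algebraMap S₂ S₂' x) = 0
    rw [hφ₂]
    show x ∈ q₂ ↔ ψ₀ (e.symm (algebraMap S₂ q₂.ResidueField x)) = 0
    rw [map_eq_zero_iff ψ₀ (RingHom.injective (ψ₀ : q.ResidueField →+* κ)),
      EmbeddingLike.map_eq_zero_iff, Ideal.algebraMap_residueField_eq_zero]

end Exists

section Flat

variable {R' S S₂ S' S₂' : Type u} [CommRing R'] [IsLocalRing R'] [CommRing S] [CommRing S₂]
  [CommRing S'] [CommRing S₂']
  [Algebra S S₂] [Algebra S S'] [Algebra S₂ S₂'] [Algebra S' S₂'] [Algebra S S₂']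
  [IsScalarTower S S₂ S₂'] [IsScalarTower S S' S₂'] [Algebra.IsPushout S S₂ S' S₂']
  [Algebra R' S'] [Algebra R' S₂'] [IsScalarTower R' S' S₂'] [Module.Flat S S₂]
  {N' N₂' : Type u} [AddCommGroup N'] [AddCommGroup N₂'] [Module S' N'] [Module R' N']
  [IsScalarTower R' S' N'] [Module S₂' N₂'] [Module S' N₂'] [IsScalarTower S' S₂' N₂']
  [Module R' N₂'] [IsScalarTower R' S₂' N₂']

omit [IsLocalRing R'] [Algebra R' S'] [Algebra R' S₂'] [IsScalarTower R' S' S₂'] in
theorem flat_of_isPushout (S S₂ S' S₂' : Type u) [CommRing S] [CommRing S₂]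
    [CommRing S'] [CommRing S₂']
    [Algebra S S₂] [Algebra S S'] [Algebra S₂ S₂'] [Algebra S' S₂'] [Algebra S S₂']
    [IsScalarTower S S₂ S₂'] [IsScalarTower S S' S₂'] [Algebra.IsPushout S S₂ S' S₂']
    [Module.Flat S S₂] : Module.Flat S' S₂' := by
  have h : Algebra.IsPushout S S' S₂ S₂' := Algebra.IsPushout.symm inferInstance
  exact Module.Flat.isBaseChange S S' S₂ S₂' h.out

/-- Comparison along a flat ring map with trivial residue field extension at the point. -/
theorem flatAbove_iff_of_flat (q : Ideal S) [q.IsPrime] (q₂ : Ideal S₂) [q₂.IsPrime]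
    [hq₂ : q₂.LiesOver q]
    (hres : Function.Bijective (Ideal.ResidueField.mapₐ q q₂ (Algebra.ofId S S₂) hq₂.over))
    (g : N' →ₗ[S'] N₂') (hg : IsBaseChange S₂' g) :
    FlatAbove R' S' q N' ↔ FlatAbove R' S₂' q₂ N₂' := by
  haveI : Module.Flat S' S₂' := flat_of_isPushout S S₂ S' S₂'
  constructor
  · intro h Q₂ _ hQ₂q hQ₂m
    let Q : Ideal S' := Q₂.comap (algebraMap S' S₂')
    haveI : Q.IsPrime := Ideal.comap_isPrime _ _
    haveI hQQ : Q₂.LiesOver Q := ⟨rfl⟩
    have hQq : Q.LiesOver q := by
      constructor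
      ext x
      rw [Ideal.under_def, Ideal.mem_comap, Ideal.mem_comap,
        ← IsScalarTower.algebraMap_apply S S' S₂', IsScalarTower.algebraMap_apply S S₂ S₂',
        hq₂.over, Ideal.under_def, Ideal.mem_comap, hQ₂q.over, Ideal.under_def, Ideal.mem_comap]
    have hQm : Q.LiesOver (maximalIdeal R') := by
      constructor
      ext x
      rw [Ideal.under_def, Ideal.mem_comap, Ideal.mem_comap,
        ← IsScalarTower.algebraMap_apply R' S' S₂', hQ₂m.over, Ideal.under_def, Ideal.mem_comap]
    exact (flatAt_iff_of_isBaseChange (A := R') Q Q₂ g hg).mp (h Q hQq hQm)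
  · intro h Q _ hQq hQm
    obtain ⟨Q₂, hQ₂, hQ₂Q, hQ₂q⟩ := exists_prime_liesOver_pushout (S₂' := S₂') q q₂ hres Q
    have hQ₂m : Q₂.LiesOver (maximalIdeal R') := by
      constructor
      ext x
      rw [Ideal.under_def, Ideal.mem_comap, IsScalarTower.algebraMap_apply R' S' S₂',
        hQm.over, Ideal.under_def, Ideal.mem_comap, hQ₂Q.over, Ideal.under_def, Ideal.mem_comap]
    exact (flatAt_iff_of_isBaseChange (A := R') Q Q₂ g hg).mpr (h Q₂ hQ₂q hQ₂m)

end Flat

section Integral

variable {R' B A B' A' : Type u} [CommRing R'] [IsLocalRing R'] [CommRing B] [CommRing A]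
  [CommRing B'] [CommRing A']
  [Algebra B A] [Algebra B B'] [Algebra A A'] [Algebra B' A'] [Algebra B A']
  [IsScalarTower B A A'] [IsScalarTower B B' A']
  [Algebra R' B'] [Algebra R' A'] [IsScalarTower R' B' A'] [Algebra.IsIntegral B' A']
  {M' : Type u} [AddCommGroup M'] [Module A' M'] [Module B' M'] [IsScalarTower B' A' M']
  [Module R' M'] [IsScalarTower R' A' M'] [IsScalarTower R' B' M']

/-- Comparison along an integral ring map, when `qA` is the only prime of `A` over `qB`. -/
theorem flatAbove_iff_of_integral (qB : Ideal B) [qB.IsPrime] (qA : Ideal A) [qA.IsPrime]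
    [hqA : qA.LiesOver qB]
    (huniq : ∀ (P : Ideal A) [P.IsPrime], P.LiesOver qB → P = qA) :
    FlatAbove R' B' qB M' ↔ FlatAbove R' A' qA M' := by
  constructor
  · intro h Q _ hQq hQm
    let P : Ideal B' := Q.comap (algebraMap B' A')
    haveI : P.IsPrime := Ideal.comap_isPrime _ _
    haveI hQP : Q.LiesOver P := ⟨rfl⟩
    have hPq : P.LiesOver qB := by
      constructor
      ext x
      rw [Ideal.under_def, Ideal.mem_comap, Ideal.mem_comap,
        ← IsScalarTower.algebraMap_apply B B' A', IsScalarTower.algebraMap_apply B A A',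
        hqA.over, Ideal.under_def, Ideal.mem_comap, hQq.over, Ideal.under_def, Ideal.mem_comap]
    have hPm : P.LiesOver (maximalIdeal R') := by
      constructor
      ext x
      rw [Ideal.under_def, Ideal.mem_comap, Ideal.mem_comap,
        ← IsScalarTower.algebraMap_apply R' B' A', hQm.over, Ideal.under_def, Ideal.mem_comap]
    exact flatAt_of_flatAt_under (A := R') (B := B') (C := A') P M' Q (h P hPq hPm)
  · intro h P _ hPq hPm
    apply flatAt_of_forall_liesOver (A := R') (B := B') (C := A') P M'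
    intro Q _ hQP
    have hQm : Q.LiesOver (maximalIdeal R') := by
      constructor
      ext x
      rw [Ideal.under_def, Ideal.mem_comap, IsScalarTower.algebraMap_apply R' B' A',
        hPm.over, Ideal.under_def, Ideal.mem_comap, hQP.over, Ideal.under_def, Ideal.mem_comap]
    let P₀ : Ideal A := Q.comap (algebraMap A A')
    haveI : P₀.IsPrime := Ideal.comap_isPrime _ _
    have hP₀ : P₀.LiesOver qB := by
      constructor
      ext x
      rw [Ideal.under_def, Ideal.mem_comap, Ideal.mem_comap,
        ← IsScalarTower.algebraMap_apply B A A', IsScalarTower.algebraMap_apply B B' A',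
        hPq.over, Ideal.under_def, Ideal.mem_comap, hQP.over, Ideal.under_def, Ideal.mem_comap]
    have hQq : Q.LiesOver qA := ⟨(huniq P₀ hP₀).symm⟩
    exact h Q hQq hQm

end Integral

end Groth.Agent.Lib.helper3.UFlat
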