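import Mathlib
import Groth.Prelude.Def_FlatCA
import Groth.Agent.Lib.Helper24.EtaleHomLift

/-!
# Universal flattening at a point X(a): sections of étale neighbourhoods of henselian local rings
(helper3; S1229)
-/

set_option autoImplicit false
set_option linter.style.haveILetI false
set_option linter.unusedSectionVars false
universe u

open TensorProduct IsLocalRing

namespace Groth.Agent.Lib.helper3.UFlat

section ResidueFields

variable {S S₁ S₂ : Type u} [CommRing S] [CommRing S₁] [CommRing S₂] [Algebra S S₁]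
  [Algebra S₁ S₂] [Algebra S S₂] [IsScalarTower S S₁ S₂]

theorem residueField_bijective_of_surjective (hs : Function.Surjective (algebraMap S₁ S₂))
    (q₁ : Ideal S₁) [q₁.IsPrime] (q₂ : Ideal S₂) [q₂.IsPrime] [h₂ : q₂.LiesOver q₁] :
    Function.Bijective (Ideal.ResidueField.mapₐ q₁ q₂ (Algebra.ofId S₁ S₂) h₂.over) :=
  (RingHom.surjectiveOnStalks_of_surjective (f := algebraMap S₁ S₂) hs).residueFieldMap_bijective
    q₁ q₂ h₂.over

theorem residueField_bijective_trans (q : Ideal S) [q.IsPrime] (q₁ : Ideal S₁) [q₁.IsPrime]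
    (q₂ : Ideal S₂) [q₂.IsPrime] [h₁ : q₁.LiesOver q] [h₂ : q₂.LiesOver q₁] [h : q₂.LiesOver q]
    (hb₁ : Function.Bijective (Ideal.ResidueField.mapₐ q q₁ (Algebra.ofId S S₁) h₁.over))
    (hb₂ : Function.Bijective (Ideal.ResidueField.mapₐ q₁ q₂ (Algebra.ofId S₁ S₂) h₂.over)) :
    Function.Bijective (Ideal.ResidueField.mapₐ q q₂ (Algebra.ofId S S₂) h.over) := by
  have hcomp : (Ideal.ResidueField.mapₐ q q₂ (Algebra.ofId S S₂) h.over).toRingHom =
      (Ideal.ResidueField.mapₐ q₁ q₂ (Algebra.ofId S₁ S₂) h₂.over).toRingHom.comp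
        (Ideal.ResidueField.mapₐ q q₁ (Algebra.ofId S S₁) h₁.over).toRingHom := by
    apply Ideal.ResidueField.ringHom_ext
    ext s
    show (Ideal.ResidueField.mapₐ q q₂ (Algebra.ofId S S₂) h.over) (algebraMap S _ s) =
      (Ideal.ResidueField.mapₐ q₁ q₂ (Algebra.ofId S₁ S₂) h₂.over)
        ((Ideal.ResidueField.mapₐ q q₁ (Algebra.ofId S S₁) h₁.over) (algebraMap S _ s))
    rw [AlgHom.commutes, AlgHom.commutes, IsScalarTower.algebraMap_apply S S₁ q₁.ResidueField,
      AlgHom.commutes, IsScalarTower.algebraMap_apply S S₂ q₂.ResidueField,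
      IsScalarTower.algebraMap_apply S₁ S₂ q₂.ResidueField,
      ← IsScalarTower.algebraMap_apply S S₁ S₂]
  have : ⇑(Ideal.ResidueField.mapₐ q q₂ (Algebra.ofId S S₂) h.over) =
      ⇑(Ideal.ResidueField.mapₐ q₁ q₂ (Algebra.ofId S₁ S₂) h₂.over) ∘
        ⇑(Ideal.ResidueField.mapₐ q q₁ (Algebra.ofId S S₁) h₁.over) := by
    funext x
    exact RingHom.congr_fun hcomp x
  rw [this]
  exact hb₂.comp hb₁

end ResidueFields

section Section

/-- An étale neighbourhood of the closed point of a henselian local ring has a section. -/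
theorem exists_section_of_henselian {R : Type u} [CommRing R] [HenselianLocalRing R]
    (R₁ : Type u) [CommRing R₁] [Algebra R R₁] (p₁ : Ideal R₁) [p₁.IsPrime]
    (h : FlatCA.IsEtaleNhd R R₁ (maximalIdeal R) p₁) :
    ∃ σ : R₁ →ₐ[R] R, (maximalIdeal R).comap σ.toRingHom = p₁ := by
  obtain ⟨het, hover, hbij⟩ := h
  haveI := het
  let e : (maximalIdeal R).ResidueField ≃ₐ[R] p₁.ResidueField := AlgEquiv.ofBijective _ hbij
  let e₀ : (R ⧸ maximalIdeal R) ≃ₐ[R] (maximalIdeal R).ResidueField :=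
    AlgEquiv.ofBijective (IsScalarTower.toAlgHom R (R ⧸ maximalIdeal R) _)
      (Ideal.bijective_algebraMap_quotient_residueField (maximalIdeal R))
  let ψ : R₁ →ₐ[R] R ⧸ maximalIdeal R :=
    e₀.symm.toAlgHom.comp (e.symm.toAlgHom.comp
      (IsScalarTower.toAlgHom R R₁ p₁.ResidueField))
  obtain ⟨σ, hσ⟩ := Groth.Agent.Lib.Helper24.EtaleHomLift.exists_lift_of_henselian R R₁
    (maximalIdeal R) le_rfl ψ
  refine ⟨σ, ?_⟩
  ext x
  rw [Ideal.mem_comap]
  show σ x ∈ maximalIdeal R ↔ _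
  rw [← Ideal.Quotient.eq_zero_iff_mem, hσ]
  show e₀.symm (e.symm (algebraMap R₁ p₁.ResidueField x)) = 0 ↔ _
  rw [map_eq_zero_iff _ e₀.symm.injective, map_eq_zero_iff _ e.symm.injective,
    Ideal.algebraMap_residueField_eq_zero]

end Section

section BaseChangeSection

/-- Base change of an `R₁`-algebra `S₁` along a section `R₁ → R`. -/
theorem exists_baseChange_section (R R₁ S S₁ : Type u) [CommRing R] [CommRing R₁] [CommRing S]
    [CommRing S₁] [Algebra R R₁] [Algebra R₁ R] [IsScalarTower R R₁ R] [Algebra R S]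
    [Algebra S S₁] [Algebra R₁ S₁] [Algebra R S₁] [IsScalarTower R R₁ S₁] [IsScalarTower R S S₁]
    [Algebra.Etale R R₁] :
    ∃ (S₂ : Type u) (_ : CommRing S₂) (_ : Algebra S₁ S₂) (_ : Algebra S S₂) (_ : Algebra R S₂)
      (_ : Algebra R₁ S₂) (_ : IsScalarTower S S₁ S₂) (_ : IsScalarTower R S S₂)
      (_ : IsScalarTower R₁ R S₂) (_ : IsScalarTower R₁ S₁ S₂),
      Algebra.IsPushout R₁ S₁ R S₂ ∧ Function.Surjective (algebraMap S₁ S₂) ∧
      Algebra.Etale S₁ S₂ := by
  have hσι : ∀ r : R, algebraMap R₁ R (algebraMap R R₁ r) = r := fun r => by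
    rw [← IsScalarTower.algebraMap_apply R R₁ R]; rfl
  have hσ : Function.Surjective (algebraMap R₁ R) := fun r => ⟨algebraMap R R₁ r, hσι r⟩
  haveI : Algebra.Etale R₁ R := Algebra.Etale.of_restrictScalars R R₁ R
  haveI : SMulCommClass R₁ S S₁ := ⟨fun a b c => by
    rw [Algebra.smul_def, Algebra.smul_def, Algebra.smul_def, Algebra.smul_def, mul_left_comm]⟩
  have key : ∀ r : R, (algebraMap R S₁ r) ⊗ₜ[R₁] (1 : R) = (1 : S₁) ⊗ₜ[R₁] r := fun r => by
    rw [IsScalarTower.algebraMap_apply R R₁ S₁,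
      Algebra.algebraMap_eq_smul_one (algebraMap R R₁ r), TensorProduct.smul_tmul,
      ← Algebra.algebraMap_eq_smul_one, hσι]
  haveI t1 : IsScalarTower S S₁ (S₁ ⊗[R₁] R) := inferInstance
  haveI t2 : IsScalarTower R S (S₁ ⊗[R₁] R) := inferInstance
  haveI t3 : IsScalarTower R₁ S₁ (S₁ ⊗[R₁] R) := inferInstance
  haveI t4 : IsScalarTower R₁ R (S₁ ⊗[R₁] R) := IsScalarTower.of_algebraMap_eq (fun a => by
    show (algebraMap R₁ S₁ a) ⊗ₜ[R₁] (1 : R) = (algebraMap R S₁ (algebraMap R₁ R a)) ⊗ₜ[R₁] (1 : R)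
    rw [key, Algebra.algebraMap_eq_smul_one a, TensorProduct.smul_tmul,
      ← Algebra.algebraMap_eq_smul_one])
  refine ⟨S₁ ⊗[R₁] R, inferInstance, inferInstance, inferInstance, inferInstance, inferInstance,
    t1, t2, t4, t3, ?_, ?_, inferInstance⟩
  · rw [Algebra.isPushout_iff]
    have h0 := TensorProduct.isBaseChange R₁ R S₁
    have h1 : (IsScalarTower.toAlgHom R₁ R (S₁ ⊗[R₁] R)).toLinearMap =
        TensorProduct.mk R₁ S₁ R 1 := by
      ext r
      show (algebraMap R S₁ r) ⊗ₜ[R₁] (1 : R) = (1 : S₁) ⊗ₜ[R₁] r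
      exact key r
    rw [h1]
    exact h0
  · exact Algebra.TensorProduct.includeLeft_surjective (R := R₁) (T := R) S₁ S₁ hσ

end BaseChangeSection

end Groth.Agent.Lib.helper3.UFlat
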