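import Mathlib

/-!
# Universal flattening at a point II: constructing models of base changes (helper3; S1229)

* `exists_pushout_model` ("up"): `S → T` over `R`, `S'` a model of `S ⊗_R R'`; then `T' = T ⊗_S S'`
  is a model of `T ⊗_R R'`, with `T' = T ⊗_S S'`.
* `exists_canonical_model` ("down"): `S → T` over `R`, `T'` a model of `T ⊗_R R'`; then
  `S' = S ⊗_R R'` maps to `T'` and `T' = T ⊗_S S'`.
-/

set_option autoImplicit false
set_option linter.style.haveILetI false
set_option linter.unusedSectionVars false
universe u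

open TensorProduct

namespace Groth.Agent.Lib.helper3.UFlat

attribute [local instance] Algebra.TensorProduct.rightAlgebra

theorem exists_pushout_model (R R' S T S' : Type u) [CommRing R] [CommRing R'] [CommRing S]
    [CommRing T] [CommRing S'] [Algebra R R'] [Algebra R S] [Algebra R T] [Algebra S T]
    [IsScalarTower R S T] [Algebra S S'] [Algebra R' S'] [Algebra R S'] [IsScalarTower R S S']
    [IsScalarTower R R' S'] [Algebra.IsPushout R S R' S'] :
    ∃ (T' : Type u) (_ : CommRing T') (_ : Algebra T T') (_ : Algebra S' T') (_ : Algebra R' T')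
      (_ : Algebra R T') (_ : Algebra S T') (_ : IsScalarTower R T T') (_ : IsScalarTower R R' T')
      (_ : IsScalarTower S T T') (_ : IsScalarTower S S' T') (_ : IsScalarTower R' S' T')
      (_ : IsScalarTower R S' T'),
      Algebra.IsPushout R T R' T' ∧ Algebra.IsPushout S T S' T' := by
  letI : Algebra R' (T ⊗[S] S') :=
    ((algebraMap S' (T ⊗[S] S')).comp (algebraMap R' S')).toAlgebra
  haveI t1 : IsScalarTower R' S' (T ⊗[S] S') := IsScalarTower.of_algebraMap_eq (fun _ => rfl)
  haveI t2 : IsScalarTower R S' (T ⊗[S] S') := IsScalarTower.of_algebraMap_eq (fun r => by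
    rw [IsScalarTower.algebraMap_apply R T (T ⊗[S] S'), IsScalarTower.algebraMap_apply R S T,
      IsScalarTower.algebraMap_apply R S S', ← IsScalarTower.algebraMap_apply S T (T ⊗[S] S'),
      ← IsScalarTower.algebraMap_apply S S' (T ⊗[S] S')])
  haveI t3 : IsScalarTower R R' (T ⊗[S] S') := IsScalarTower.of_algebraMap_eq (fun r => by
    rw [IsScalarTower.algebraMap_apply R S' (T ⊗[S] S'), IsScalarTower.algebraMap_apply R R' S',
      ← IsScalarTower.algebraMap_apply R' S' (T ⊗[S] S')])
  have hr : Algebra.IsPushout S T S' (T ⊗[S] S') := inferInstance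
  refine ⟨T ⊗[S] S', inferInstance, inferInstance, inferInstance, inferInstance, inferInstance,
    inferInstance, inferInstance, t3, inferInstance, inferInstance, t1, t2, ?_, hr⟩
  exact (Algebra.IsPushout.comp_iff R S R' (S' := S') (T := T) (T' := T ⊗[S] S')).mpr hr

theorem exists_canonical_model (R R' S T T' : Type u) [CommRing R] [CommRing R'] [CommRing S]
    [CommRing T] [CommRing T'] [Algebra R R'] [Algebra R S] [Algebra R T] [Algebra S T]
    [IsScalarTower R S T] [Algebra T T'] [Algebra R' T'] [Algebra R T'] [IsScalarTower R T T']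
    [IsScalarTower R R' T'] [Algebra.IsPushout R T R' T'] :
    ∃ (S' : Type u) (_ : CommRing S') (_ : Algebra S S') (_ : Algebra R' S') (_ : Algebra R S')
      (_ : IsScalarTower R S S') (_ : IsScalarTower R R' S') (_ : Algebra S' T')
      (_ : Algebra S T') (_ : IsScalarTower S T T') (_ : IsScalarTower S S' T')
      (_ : IsScalarTower R' S' T') (_ : IsScalarTower R S' T'),
      Algebra.IsPushout R S R' S' ∧ Algebra.IsPushout S T S' T' := by
  letI : Algebra S T' := ((algebraMap T T').comp (algebraMap S T)).toAlgebra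
  haveI t1 : IsScalarTower S T T' := IsScalarTower.of_algebraMap_eq (fun _ => rfl)
  haveI t0 : IsScalarTower R S T' := IsScalarTower.of_algebraMap_eq (fun r => by
    rw [IsScalarTower.algebraMap_apply R T T', IsScalarTower.algebraMap_apply R S T,
      ← IsScalarTower.algebraMap_apply S T T'])
  let φ : S ⊗[R] R' →ₐ[R] T' :=
    Algebra.TensorProduct.lift (IsScalarTower.toAlgHom R S T') (IsScalarTower.toAlgHom R R' T')
      (fun _ _ => mul_comm _ _)
  letI : Algebra (S ⊗[R] R') T' := φ.toRingHom.toAlgebra
  have hφ : ∀ x, algebraMap (S ⊗[R] R') T' x = φ x := fun _ => rfl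
  haveI t2 : IsScalarTower S (S ⊗[R] R') T' := IsScalarTower.of_algebraMap_eq (fun s => by
    rw [hφ, Algebra.TensorProduct.algebraMap_apply, Algebra.algebraMap_self_apply]
    simp [φ])
  haveI t3 : IsScalarTower R' (S ⊗[R] R') T' := IsScalarTower.of_algebraMap_eq (fun r => by
    rw [hφ]
    show algebraMap R' T' r = φ ((1 : S) ⊗ₜ[R] r)
    simp [φ])
  haveI t4 : IsScalarTower R (S ⊗[R] R') T' := IsScalarTower.of_algebraMap_eq (fun r => by
    rw [hφ, AlgHom.commutes])
  have hl : Algebra.IsPushout R S R' (S ⊗[R] R') := inferInstance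
  refine ⟨S ⊗[R] R', inferInstance, inferInstance, inferInstance, inferInstance, inferInstance,
    inferInstance, inferInstance, inferInstance, t1, t2, t3, t4, hl, ?_⟩
  exact (Algebra.IsPushout.comp_iff R S R' (S' := S ⊗[R] R') (T := T) (T' := T')).mp inferInstance

end Groth.Agent.Lib.helper3.UFlat
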