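import Mathlib
import Groth.Prelude.Def_FlatCA
import Groth.Agent.Lib.Helper3.UFlat1
import Groth.Agent.Lib.Helper3.UFlat2
import Groth.Agent.Lib.Helper3.BijRes4
import Groth.Agent.Lib.Helper3.CDevBC4

/-!
# Universal flattening at a point IV: transfer along finite maps and isomorphisms (helper3; S1229)
-/

set_option autoImplicit false
set_option linter.style.haveILetI false
set_option linter.unusedSectionVars false
universe u

open TensorProduct IsLocalRing

namespace Groth.Agent.Lib.helper3.UFlat

open Groth.Agent.Lib.helper3.FlatAtLib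

section Iso

variable {R B : Type u} [CommRing R] [IsLocalRing R] [CommRing B] [Algebra R B]
  (y : Ideal B) {M M₂ : Type u} [AddCommGroup M] [Module B M] [AddCommGroup M₂] [Module B M₂]

theorem flattens_of_linearEquiv (e : M ≃ₗ[B] M₂) (I : Ideal R) (h : Flattens R B y M I) :
    Flattens R B y M₂ I := by
  intro R' B' M' _ _ _ _ _ _ _ _ _ _ _ _ _ _ _ _ _ f hf
  exact h R' B' M' (f.comp e.toLinearMap) (hf.comp_equiv e)

end Iso

section Finite

variable {R B A : Type u} [CommRing R] [IsLocalRing R] [CommRing B] [CommRing A] [Algebra R B]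
  [Algebra R A] [Algebra B A] [IsScalarTower R B A] [Module.Finite B A]
  (qB : Ideal B) [qB.IsPrime] (qA : Ideal A) [qA.IsPrime] [hqA : qA.LiesOver qB]
  (huniq : ∀ (P : Ideal A) [P.IsPrime], P.LiesOver qB → P = qA)
  (M : Type u) [AddCommGroup M] [Module A M] [Module B M] [IsScalarTower B A M] (I : Ideal R)

include huniq in
/-- From the source of a finite map to its target. -/
theorem flattens_finite_down (h : Flattens R B qB M I) : Flattens R A qA M I := by
  intro R' A' M' _ _ _ _ _ _ _ _ _ _ _ _ _ _ _ _ _ f hf
  obtain ⟨B', _, _, _, _, _, _, _, _, _, _, _, _, hp1, hp2⟩ := exists_canonical_model R R' B A A'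
  haveI : Algebra.IsPushout B B' A A' := Algebra.IsPushout.symm hp2
  haveI : Module.Finite B' A' := CDevBC.finite_of_isPushout B B' A A'
  haveI : Algebra.IsIntegral B' A' := Algebra.IsIntegral.of_finite _ _
  letI : Module B' M' := Module.compHom M' (algebraMap B' A')
  haveI : IsScalarTower B' A' M' := IsScalarTower.of_algebraMap_smul (fun _ _ => rfl)
  letI : Module B M' := Module.compHom M' (algebraMap B A)
  haveI : IsScalarTower B A M' := IsScalarTower.of_algebraMap_smul (fun _ _ => rfl)
  haveI : IsScalarTower B B' M' := IsScalarTower.of_algebraMap_smul (fun b x => by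
    show algebraMap B' A' (algebraMap B B' b) • x = algebraMap B A b • x
    rw [← IsScalarTower.algebraMap_apply B B' A', IsScalarTower.algebraMap_apply B A A',
      algebraMap_smul])
  haveI : IsScalarTower R' B' M' := IsScalarTower.of_algebraMap_smul (fun r x => by
    show algebraMap B' A' (algebraMap R' B' r) • x = r • x
    rw [← IsScalarTower.algebraMap_apply R' B' A', algebraMap_smul])
  have hfB : IsBaseChange B' (f.restrictScalars B) :=
    BijRes.isBaseChange_restrictScalars_of_isPushout B B' A A' M M' f hf
  have h1 := h R' B' M' (f.restrictScalars B) hfB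
  have h2 := flatAbove_iff_of_integral (R' := R') (B' := B') (A' := A') (M' := M') qB qA huniq
  exact h2.symm.trans h1

include huniq in
/-- From the target of a finite map to its source. -/
theorem flattens_finite_up (h : Flattens R A qA M I) : Flattens R B qB M I := by
  intro R' B' M' _ _ _ _ _ _ _ _ _ _ _ _ _ _ _ _ _ f hf
  obtain ⟨A', _, _, _, _, _, _, _, _, _, _, _, _, hp1, hp2⟩ := exists_pushout_model R R' B A B'
  haveI : Algebra.IsPushout B B' A A' := Algebra.IsPushout.symm hp2
  haveI : Module.Finite B' A' := CDevBC.finite_of_isPushout B B' A A'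
  haveI : Algebra.IsIntegral B' A' := Algebra.IsIntegral.of_finite _ _
  haveI : IsScalarTower B B' (A' ⊗[A] M) := inferInstance
  haveI : IsScalarTower B' A' (A' ⊗[A] M) := inferInstance
  haveI : IsScalarTower R' A' (A' ⊗[A] M) := inferInstance
  haveI : IsScalarTower R' B' (A' ⊗[A] M) := inferInstance
  haveI : IsScalarTower B A (A' ⊗[A] M) := IsScalarTower.of_algebraMap_smul (fun b x => by
    induction x using TensorProduct.induction_on with
    | zero => simp
    | add x y hx hy => rw [smul_add, smul_add, hx, hy]
    | tmul a m =>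
      rw [TensorProduct.smul_tmul', TensorProduct.smul_tmul', algebraMap_smul])
  let fA : M →ₗ[A] A' ⊗[A] M := TensorProduct.mk A A' M 1
  have hfA : IsBaseChange A' fA := TensorProduct.isBaseChange A M A'
  have hfAB : IsBaseChange B' (fA.restrictScalars B) :=
    BijRes.isBaseChange_restrictScalars_of_isPushout B B' A A' M (A' ⊗[A] M) fA hfA
  let e : M' ≃ₗ[B'] A' ⊗[A] M := hf.equiv.symm ≪≫ₗ hfAB.equiv
  have h1 := h R' A' (A' ⊗[A] M) fA hfA
  have h2 := flatAbove_iff_of_integral (R' := R') (B' := B') (A' := A') (M' := A' ⊗[A] M)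
    qB qA huniq
  have h3 : FlatAbove R' B' qB M' ↔ FlatAbove R' B' qB (A' ⊗[A] M) := by
    constructor
    · intro h0 Q _ hQ1 hQ2
      exact (flatAt_congr Q e).mp (h0 Q hQ1 hQ2)
    · intro h0 Q _ hQ1 hQ2
      exact (flatAt_congr Q e).mpr (h0 Q hQ1 hQ2)
  exact h3.trans (h2.trans h1)

end Finite

end Groth.Agent.Lib.helper3.UFlat
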