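import Mathlib
import Groth.Prelude.Def_FlatCA
import Groth.Agent.Lib.Helper3.UFlat1
import Groth.Agent.Lib.Helper24.FibCons1
import Groth.Agent.Lib.Helper3.CDevBC4
import Groth.Agent.Lib.Helper3.GIPrime1

/-!
# Universal flattening at a point V: auxiliary lemmas for the key step (helper3; S1229)

* `exists_prime_liesOver_both` : primes of a pushout over a compatible pair of primes.
* `exists_smul_eq_zero_of_rTensor_eq_zero` : Tor-vanishing at a point: if `G/N̄` is flat over `R`
  at `y`, an element of `N̄ ⊗_R P` dying in `G ⊗_R P` is killed by some `s ∉ y`.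
* properties of a model `B'` of the base change of a flat f.p. algebra with geometrically integral
  fibres.
-/

set_option autoImplicit false
set_option linter.style.haveILetI false
set_option linter.unusedSectionVars false
universe u

open TensorProduct IsLocalRing

namespace Groth.Agent.Lib.helper3.UFlat

section Both

variable {R S R' S' : Type u} [CommRing R] [CommRing S] [CommRing R'] [CommRing S']
  [Algebra R S] [Algebra R R'] [Algebra S S'] [Algebra R' S'] [Algebra R S'] [IsScalarTower R S S']
  [IsScalarTower R R' S'] [Algebra.IsPushout R S R' S']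

theorem exists_prime_liesOver_both (q : Ideal S) [q.IsPrime] (p' : Ideal R') [p'.IsPrime]
    (h : q.comap (algebraMap R S) = p'.comap (algebraMap R R')) :
    ∃ Q : Ideal S', Q.IsPrime ∧ Q.LiesOver q ∧ Q.LiesOver p' := by
  obtain ⟨P₀, hP₀, h1, h2⟩ :=
    Groth.Agent.Lib.Helper24.FibCons.exists_prime_tensor_both (P := R) q p' h
  let e : S ⊗[R] R' ≃ₐ[S] S' := Algebra.IsPushout.equiv R S R' S'
  refine ⟨P₀.comap (e.symm : S' →+* S ⊗[R] R'), Ideal.comap_isPrime _ _, ⟨?_⟩, ⟨?_⟩⟩
  · rw [← h1]
    ext x
    rw [Ideal.under_def, Ideal.mem_comap, Ideal.mem_comap, Ideal.mem_comap]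
    have : (e.symm : S' →+* S ⊗[R] R') (algebraMap S S' x) = algebraMap S (S ⊗[R] R') x := by
      show e.symm (algebraMap S S' x) = _
      rw [Algebra.IsPushout.equiv_symm_algebraMap_left]
      rfl
    rw [this]
  · rw [← h2]
    ext x
    rw [Ideal.under_def, Ideal.mem_comap, Ideal.mem_comap, Ideal.mem_comap]
    have : (e.symm : S' →+* S ⊗[R] R') (algebraMap R' S' x) =
        (Algebra.TensorProduct.includeRight : R' →ₐ[R] S ⊗[R] R').toRingHom x := by
      show e.symm (algebraMap R' S' x) = _
      rw [Algebra.IsPushout.equiv_symm_algebraMap_right]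
      rfl
    rw [this]

end Both

section TorAt

variable {R B : Type u} [CommRing R] [CommRing B] [Algebra R B] (y : Ideal B) [y.IsPrime]
  {G : Type u} [AddCommGroup G] [Module B G] [Module R G] [IsScalarTower R B G]
  (N : Submodule B G)

/-- If `G/N` is flat over `R` at `y`, then an element of `N ⊗_R P` dying in `G ⊗_R P` is killed by
some element outside `y`. -/
theorem exists_smul_eq_zero_of_rTensor_eq_zero (hflat : FlatCA.FlatAt R y (G ⧸ N))
    (P : Type u) [AddCommGroup P] [Module R P] (w : (N : Type u) ⊗[R] P)
    (hw : (N.subtype.restrictScalars R).rTensor P w = 0) :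
    ∃ s : B, s ∉ y ∧ s • w = 0 := by
  set T := y.primeCompl with hT
  let mkN := LocalizedModule.mkLinearMap T N
  let mkG := LocalizedModule.mkLinearMap T G
  let gT : LocalizedModule T N →ₗ[B] LocalizedModule T G :=
    (LocalizedModule.map T N.subtype).restrictScalars B
  let fT : LocalizedModule T G →ₗ[B] LocalizedModule T (G ⧸ N) :=
    (LocalizedModule.map T N.mkQ).restrictScalars B
  have hgT : Function.Injective gT :=
    LocalizedModule.map_injective T N.subtype N.injective_subtype
  have hfT : Function.Surjective fT :=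
    LocalizedModule.map_surjective T N.mkQ N.mkQ_surjective
  have hex : Function.Exact gT fT :=
    LocalizedModule.map_exact T N.subtype N.mkQ (LinearMap.exact_subtype_mkQ N)
  haveI : Module.Flat R (LocalizedModule T (G ⧸ N)) := hflat
  have hinj : Function.Injective ((gT.restrictScalars R).rTensor P) := by
    rw [← LinearMap.lTensor_inj_iff_rTensor_inj]
    exact LinearMap.lTensor_injective_of_exact_of_flat (fT.restrictScalars R) hfT
      (gT.restrictScalars R) hgT hex P
  have hcomm : gT ∘ₗ mkN = mkG ∘ₗ N.subtype := by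
    ext x
    simp [gT, mkN, mkG, LocalizedModule.map_mk]
  have hwT : AlgebraTensorModule.rTensor R P mkN w = 0 := by
    apply hinj
    rw [map_zero]
    have h1 : (gT.restrictScalars R).rTensor P (AlgebraTensorModule.rTensor R P mkN w) =
        ((gT ∘ₗ mkN).restrictScalars R).rTensor P w := by
      show (gT.restrictScalars R).rTensor P ((mkN.restrictScalars R).rTensor P w) = _
      rw [← LinearMap.comp_apply, ← LinearMap.rTensor_comp]
      rfl
    rw [h1, hcomm]
    have h2 : ((mkG ∘ₗ N.subtype).restrictScalars R).rTensor P w =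
        (mkG.restrictScalars R).rTensor P ((N.subtype.restrictScalars R).rTensor P w) := by
      rw [← LinearMap.comp_apply, ← LinearMap.rTensor_comp]
      rfl
    rw [h2, hw, map_zero]
  obtain ⟨t, ht⟩ := (IsLocalizedModule.eq_zero_iff T (AlgebraTensorModule.rTensor R P mkN)).mp hwT
  exact ⟨t.1, t.2, ht⟩

end TorAt

section Model

variable (R B R' B' : Type u) [CommRing R] [CommRing B] [CommRing R'] [CommRing B']
  [Algebra R B] [Algebra R R'] [Algebra B B'] [Algebra R' B'] [Algebra R B'] [IsScalarTower R B B']
  [IsScalarTower R R' B'] [Algebra.IsPushout R B R' B']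

theorem finitePresentation_model [Algebra.FinitePresentation R B] :
    Algebra.FinitePresentation R' B' := by
  haveI : Algebra.IsPushout R R' B B' := Algebra.IsPushout.symm inferInstance
  exact CDevBC.finitePresentation_of_isPushout R R' B B'

theorem flat_model [Module.Flat R B] : Module.Flat R' B' :=
  flat_of_isPushout R B R' B'

open AlgebraicGeometry CategoryTheory in
theorem geomIntegralFibres_model (hgi : FlatCA.GeomIntegralFibres R B) :
    FlatCA.GeomIntegralFibres R' B' := by
  haveI : Algebra.IsPushout R R' B B' := Algebra.IsPushout.symm inferInstance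
  have hpo := CommRingCat.isPushout_of_isPushout R R' B B'
  have hpb := isPullback_SpecMap_of_isPushout _ _ _ _ hpo
  exact MorphismProperty.of_isPullback hpb.flip hgi

theorem comap_map_model [Module.Flat R B] (p : Ideal R) (p' : Ideal R') [hp : p'.LiesOver p] :
    (p'.map (algebraMap R' B')).comap (algebraMap B B') = p.map (algebraMap R B) := by
  haveI : Algebra.IsPushout R R' B B' := Algebra.IsPushout.symm inferInstance
  let e : R' ⊗[R] B ≃ₐ[R'] B' := Algebra.IsPushout.equiv R R' B B'
  have he : ∀ b : B, e ((1 : R') ⊗ₜ[R] b) = algebraMap B B' b := fun b => by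
    rw [Algebra.IsPushout.equiv_tmul, map_one, one_mul]
  rw [← CDevBC.comap_map_baseChange (B := B) p p']
  ext b
  rw [Ideal.mem_comap, Ideal.mem_comap]
  show algebraMap B B' b ∈ _ ↔ (1 : R') ⊗ₜ[R] b ∈ _
  rw [← he]
  have hmap : p'.map (algebraMap R' B') =
      (p'.map (algebraMap R' (R' ⊗[R] B))).map (e.toRingEquiv : R' ⊗[R] B →+* B') := by
    rw [Ideal.map_map]
    congr 1
    ext x
    exact (e.commutes x).symm
  rw [hmap]
  constructor
  · intro h
    obtain ⟨x, hx, hxe⟩ := (Ideal.mem_map_of_equiv e.toRingEquiv _).mp h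
    have : x = (1 : R') ⊗ₜ[R] b := e.injective hxe
    rw [← this]
    exact hx
  · intro h
    exact (Ideal.mem_map_of_equiv e.toRingEquiv _).mpr ⟨_, h, rfl⟩

end Model

end Groth.Agent.Lib.helper3.UFlat
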