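import Mathlib
import Groth.Prelude.Def_FlatCA
import Groth.Agent.Lib.Helper3.UFlat5
import Groth.Agent.Lib.Helper3.BijRes4
import Groth.Agent.Lib.Helper3.FlatBC1
import Groth.Agent.Lib.Helper3.CDevBC1
import Groth.Agent.Lib.Helper3.CDevBC2
import Groth.Agent.Lib.Helper3.GIProj4
import Groth.Agent.Lib.Helper3.ProjFlatten
import Groth.Agent.S1204

/-!
# Universal flattening at a point VI: the key step, flat cokernel case (helper3; S1229)

`R` local, `B` flat f.p. over `R` with geometrically integral fibres, `y` a prime of `B` over `𝔪`,
`G` a finite `B`-module, `α : B^r → G` bijective at the generic point of the closed fibre, with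
cokernel flat over `R` at `y`. Then `G` has a universal flattening ideal at `y`.
-/

set_option autoImplicit false
set_option linter.style.haveILetI false
set_option linter.unusedSectionVars false
universe u

open TensorProduct IsLocalRing

namespace Groth.Agent.Lib.helper3.UFlat

open Groth.Agent.Lib.helper3.FlatAtLib Groth.Agent.Lib.helper3.GIProj

section E0

variable {R B : Type u} [CommRing R] [IsLocalRing R] [CommRing B] [Algebra R B]
  [Algebra.FinitePresentation R B] [Module.Flat R B] (hgi : FlatCA.GeomIntegralFibres R B)
  [hP : ((maximalIdeal R).map (algebraMap R B)).IsPrime]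
  (y : Ideal B) [y.IsPrime] [hy : y.LiesOver (maximalIdeal R)]
  {G : Type u} [AddCommGroup G] [Module B G] [Module R G] [IsScalarTower R B G] [Module.Finite B G]
  {r : ℕ} (α : (Fin r → B) →ₗ[B] G)
  (hα : Function.Bijective (α.baseChange ((maximalIdeal R).map (algebraMap R B)).ResidueField))
  (hflat : FlatCA.FlatAt R y (G ⧸ LinearMap.range α))

include hgi hα hflat in
theorem flatAbove_iff_bijective (R' B' G' : Type u) [CommRing R'] [IsLocalRing R'] [Algebra R R']
    [IsLocalHom (algebraMap R R')]
    [CommRing B'] [Algebra B B'] [Algebra R' B'] [Algebra R B'] [IsScalarTower R B B']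
    [IsScalarTower R R' B'] [Algebra.IsPushout R B R' B']
    [AddCommGroup G'] [Module B' G'] [Module B G'] [IsScalarTower B B' G'] [Module R' G']
    [IsScalarTower R' B' G'] (f : G →ₗ[B] G') (hf : IsBaseChange B' f) :
    FlatAbove R' B' y G' ↔
      Function.Bijective (((LinearMap.rangeRestrict α).restrictScalars R).baseChange R') := by
  haveI := finitePresentation_model R B R' B'
  haveI := flat_model R B R' B'
  have hgi' := geomIntegralFibres_model R B R' B' hgi
  have hloc : (maximalIdeal R').comap (algebraMap R R') = maximalIdeal R :=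
    ((IsLocalRing.local_hom_TFAE (algebraMap R R')).out 0 4).mp
      (inferInstance : IsLocalHom (algebraMap R R'))
  haveI hmR' : (maximalIdeal R').LiesOver (maximalIdeal R) := ⟨hloc.symm⟩
  haveI hP' : ((maximalIdeal R').map (algebraMap R' B')).IsPrime :=
    GIPrime.map_isPrime (GIF.of_geomIntegralFibres hgi') (maximalIdeal R')
  haveI : ((maximalIdeal R').map (algebraMap R' B')).LiesOver
      ((maximalIdeal R).map (algebraMap R B)) :=
    ⟨(comap_map_model R B R' B' (maximalIdeal R) (maximalIdeal R')).symm⟩
  haveI : Module.Finite B' G' := Module.Finite.equiv hf.equiv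
  -- the base-changed map
  let ι : (Fin r → B) →ₗ[B] (Fin r → B') := (Algebra.linearMap B B').compLeft (Fin r)
  have hι : IsBaseChange B' ι := (IsBaseChange.linearMap B B').finitePow (Fin r)
  let α' : (Fin r → B') →ₗ[B'] G' := hι.lift (f ∘ₗ α)
  have hα'ι : ∀ v : Fin r → B, α' (ι v) = f (α v) := fun v => hι.lift_eq (f ∘ₗ α) v
  have hα'c : ∀ v : Fin r → B, α' (fun j => algebraMap B B' (v j)) = f (α v) := fun v => hα'ι v
  have hα' : Function.Bijective
      (α'.baseChange ((maximalIdeal R').map (algebraMap R' B')).ResidueField) :=
    CDevBC.bijective_baseChange_residueField ((maximalIdeal R).map (algebraMap R B))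
      ((maximalIdeal R').map (algebraMap R' B')) f hf α α' hα'c hα
  -- the range of `α'`
  have hrange : LinearMap.range α' =
      Submodule.span B' (f '' (LinearMap.range α : Set G)) := by
    apply le_antisymm
    · rintro _ ⟨x, rfl⟩
      refine hι.inductionOn x (motive := fun x => α' x ∈ Submodule.span B' _) ?_ ?_ ?_ ?_
      · rw [map_zero]; exact Submodule.zero_mem _
      · intro v
        rw [hα'ι]
        exact Submodule.subset_span ⟨α v, ⟨v, rfl⟩, rfl⟩
      · intro b x hx
        rw [map_smul]
        exact Submodule.smul_mem _ b hx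
      · intro a b ha hb
        rw [map_add]
        exact Submodule.add_mem _ ha hb
    · rw [Submodule.span_le]
      rintro _ ⟨_, ⟨v, rfl⟩, rfl⟩
      exact ⟨ι v, hα'ι v⟩
  -- the cokernel is flat at all primes over `y`
  have hB : ∀ (Q : Ideal B') [Q.IsPrime], Q.LiesOver y →
      FlatCA.FlatAt R' Q (G' ⧸ LinearMap.range α') := by
    intro Q _ hQy
    let mkP : (G ⧸ LinearMap.range α) →ₗ[B] B' ⊗[B] (G ⧸ LinearMap.range α) :=
      TensorProduct.mk B B' _ 1
    have hmkP : IsBaseChange B' mkP := TensorProduct.isBaseChange B _ B'
    have h1 : FlatCA.FlatAt R' Q (B' ⊗[B] (G ⧸ LinearMap.range α)) :=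
      FlatBC.flatAt_baseChange (R := R) (S := B) (R' := R') (S' := B') mkP hmkP Q y hQy.over hflat
    obtain ⟨e⟩ := CDevBC.nonempty_cokerEquiv_baseChange f hf mkP hmkP (LinearMap.range α)
      (LinearEquiv.refl B _) (LinearMap.range α') hrange
    exact (flatAt_congr Q e).mpr h1
  -- a prime over `y` and the maximal ideal
  obtain ⟨Q₀, hQ₀, hQ₀y, hQ₀m⟩ := exists_prime_liesOver_both (R := R) (S := B) (R' := R')
    (S' := B') y (maximalIdeal R') (by
      have h1 := hy.over
      have h2 := hmR'.over
      rw [Ideal.under_def] at h1 h2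
      rw [← h1, ← h2])
  have t02 : ∀ (Q : Ideal B') [Q.IsPrime] [Q.LiesOver (maximalIdeal R')],
      FlatCA.FlatAt R' Q G' ↔
        (Function.Injective α' ∧ FlatCA.FlatAt R' Q (G' ⧸ LinearMap.range α')) := fun Q _ _ =>
    ((Groth.Agent.S1204.result hgi' Q G').2 r α' hα').out 0 2
  have t24 : ∀ (Q : Ideal B') [Q.IsPrime] [Q.LiesOver (maximalIdeal R')],
      (Function.Injective α' ∧ FlatCA.FlatAt R' Q (G' ⧸ LinearMap.range α')) ↔
        (Function.Injective (LocalizedModule.map Q.primeCompl α') ∧
          FlatCA.FlatAt R' Q (G' ⧸ LinearMap.range α')) := fun Q _ _ =>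
    ((Groth.Agent.S1204.result hgi' Q G').2 r α' hα').out 2 4
  -- base change to `R'`
  letI : Module R G' := Module.compHom G' (algebraMap R R')
  haveI : IsScalarTower R R' G' := IsScalarTower.of_algebraMap_smul (fun _ _ => rfl)
  haveI : IsScalarTower R B G' := IsScalarTower.of_algebraMap_smul (fun a x => by
    show algebraMap R B a • x = algebraMap R R' a • x
    rw [← algebraMap_smul B' (algebraMap R B a) x, ← IsScalarTower.algebraMap_apply R B B',
      IsScalarTower.algebraMap_apply R R' B', algebraMap_smul])
  haveI : Algebra.IsPushout R R' B B' := Algebra.IsPushout.symm inferInstance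
  have hfR : IsBaseChange R' (f.restrictScalars R) :=
    BijRes.isBaseChange_restrictScalars_of_isPushout R R' B B' G G' f hf
  have hιR : IsBaseChange R' (ι.restrictScalars R) :=
    BijRes.isBaseChange_restrictScalars_of_isPushout R R' B B' (Fin r → B) (Fin r → B') ι hι
  set u : (Fin r → B) →ₗ[B] LinearMap.range α := LinearMap.rangeRestrict α with hu
  have hαu : α = (LinearMap.range α).subtype ∘ₗ u := by
    ext x
    rfl
  have hαR : α.restrictScalars R =
      ((LinearMap.range α).subtype.restrictScalars R) ∘ₗ (u.restrictScalars R) := by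
    conv_lhs => rw [hαu]
    rfl
  have hα'R : ∀ (a : R') (x : Fin r → B'), α' (a • x) = a • α' x := fun a x => by
    rw [← algebraMap_smul B' a x, map_smul, algebraMap_smul]
  have compat : ∀ z : R' ⊗[R] (Fin r → B),
      α' (hιR.equiv z) = hfR.equiv (((α.restrictScalars R).baseChange R') z) := by
    intro z
    induction z using TensorProduct.induction_on with
    | zero => simp
    | add a b ha hb => simp only [map_add, ha, hb]
    | tmul a v =>
      rw [LinearMap.baseChange_tmul, IsBaseChange.equiv_tmul, IsBaseChange.equiv_tmul, hα'R]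
      show a • α' (ι v) = a • f (α v)
      rw [hα'ι]
  have key1 : Function.Injective α' →
      Function.Bijective ((u.restrictScalars R).baseChange R') := by
    intro hinj
    refine ⟨?_, LinearMap.lTensor_surjective R' (LinearMap.surjective_rangeRestrict α)⟩
    rw [injective_iff_map_eq_zero]
    intro z hz
    have h1 : ((α.restrictScalars R).baseChange R') z = 0 := by
      rw [hαR, LinearMap.baseChange_comp, LinearMap.comp_apply, hz, map_zero]
    have h2 : α' (hιR.equiv z) = 0 := by rw [compat, h1, map_zero]
    have h3 := hinj (h2.trans (map_zero α').symm)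
    exact hιR.equiv.injective (h3.trans (map_zero _).symm)
  have hcommα : ∀ z₁ : R' ⊗[R] (Fin r → B),
      ((α.restrictScalars R).rTensor R') ((TensorProduct.comm R R' (Fin r → B)) z₁) =
        (TensorProduct.comm R R' G) (((α.restrictScalars R).baseChange R') z₁) := by
    intro z₁
    induction z₁ using TensorProduct.induction_on with
    | zero => simp
    | add a b ha hb => simp only [map_add, ha, hb]
    | tmul a v => simp
  have hequiv : ∀ (s : B) (z : (Fin r → B) ⊗[R] R'),
      hιR.equiv ((TensorProduct.comm R R' (Fin r → B)).symm (s • z)) =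
        algebraMap B B' s • hιR.equiv ((TensorProduct.comm R R' (Fin r → B)).symm z) := by
    intro s z
    induction z using TensorProduct.induction_on with
    | zero => simp
    | add a b ha hb => simp only [smul_add, map_add, ha, hb]
    | tmul v a =>
      rw [TensorProduct.smul_tmul', TensorProduct.comm_symm_tmul,
        TensorProduct.comm_symm_tmul, IsBaseChange.equiv_tmul, IsBaseChange.equiv_tmul]
      show a • ι (s • v) = algebraMap B B' s • a • ι v
      rw [map_smul, smul_comm, algebraMap_smul]
  have key2 : Function.Bijective ((u.restrictScalars R).baseChange R') →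
      Function.Injective (LocalizedModule.map Q₀.primeCompl α') := by
    intro hbij
    have hinjr : Function.Injective ((u.restrictScalars R).rTensor R') := by
      rw [← LinearMap.lTensor_inj_iff_rTensor_inj]
      exact hbij.1
    rw [injective_iff_map_eq_zero]
    intro x hx
    induction x using LocalizedModule.induction_on with
    | h x t =>
      rw [LocalizedModule.map_mk, ← LocalizedModule.zero_mk (1 : Q₀.primeCompl),
        LocalizedModule.mk_eq] at hx
      obtain ⟨u₀, hu₀⟩ := hx
      have hx₁ : α' ((u₀ : B') • x) = 0 := by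
        rw [map_smul]
        simpa [Submonoid.smul_def] using hu₀
      -- pass to `R' ⊗ L`
      set z₁ : R' ⊗[R] (Fin r → B) := hιR.equiv.symm ((u₀ : B') • x) with hz₁
      have hz₁' : hιR.equiv z₁ = (u₀ : B') • x := hιR.equiv.apply_symm_apply _
      have h1 : ((α.restrictScalars R).baseChange R') z₁ = 0 := by
        apply hfR.equiv.injective
        rw [← compat, hz₁', hx₁, map_zero]
      -- the other orientation
      set z : (Fin r → B) ⊗[R] R' := (TensorProduct.comm R R' (Fin r → B)) z₁ with hz
      have h2 : ((α.restrictScalars R).rTensor R') z = 0 := by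
        rw [hz, hcommα, h1, map_zero]
      set w : (LinearMap.range α : Type u) ⊗[R] R' := AlgebraTensorModule.rTensor R R' u z with hw
      have h3 : ((LinearMap.range α).subtype.restrictScalars R).rTensor R' w = 0 := by
        have : ((LinearMap.range α).subtype.restrictScalars R).rTensor R' w =
            ((α.restrictScalars R).rTensor R') z := by
          rw [hαR, LinearMap.rTensor_comp, LinearMap.comp_apply]
          rfl
        rw [this, h2]
      obtain ⟨s, hs, hsw⟩ := exists_smul_eq_zero_of_rTensor_eq_zero y (LinearMap.range α) hflat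
        R' w h3
      have h4 : s • z = 0 := by
        apply hinjr
        rw [map_zero]
        have : (u.restrictScalars R).rTensor R' (s • z) =
            AlgebraTensorModule.rTensor R R' u (s • z) := rfl
        rw [this, map_smul, ← hw, hsw]
      -- back to `L'`
      have h5 : algebraMap B B' s • ((u₀ : B') • x) = 0 := by
        have hz₁z : z₁ = (TensorProduct.comm R R' (Fin r → B)).symm z := by
          rw [hz, LinearEquiv.symm_apply_apply]
        have := hequiv s z
        rw [← hz₁', hz₁z, ← this, h4, map_zero, map_zero]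
      rw [← LocalizedModule.zero_mk (1 : Q₀.primeCompl), LocalizedModule.mk_eq]
      have hsQ : algebraMap B B' s ∉ Q₀ := fun h => hs (by
        rw [hQ₀y.over]
        exact h)
      refine ⟨⟨algebraMap B B' s * u₀, Q₀.primeCompl.mul_mem hsQ u₀.2⟩, ?_⟩
      simp only [Submonoid.smul_def, smul_zero, one_smul]
      rw [mul_smul]
      exact h5
  constructor
  · intro h
    have h0 := h Q₀ hQ₀y hQ₀m
    haveI := hQ₀m
    exact key1 ((t02 Q₀).mp h0).1
  · intro h Q _ hQy hQm
    haveI := hQ₀m
    have h1 : Function.Injective α' := ((t24 Q₀).mpr ⟨key2 h, hB Q₀ hQ₀y⟩).1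
    haveI := hQm
    exact (t02 Q).mpr ⟨h1, hB Q hQy⟩

include hgi hα hflat in
/-- **Key step, flat cokernel case.** -/
theorem exists_flattens_of_flat_coker :
    ∃ I : Ideal R, Flattens R B y G I ∧ ((LinearMap.ker α).FG → I.FG) := by
  haveI : Module.Projective R B := projective_of_geomIntegralFibres hgi
  haveI : Module.Projective R (Fin r → B) :=
    Module.Projective.of_equiv
      (DFinsupp.linearEquivFunOnFintype (R := R) (M := fun _ : Fin r => B))
  obtain ⟨I, h1, h2⟩ := ProjFlatten.exists_ideal_of_projective (A := R) (B := B) (Fin r → B)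
    (LinearMap.range α) (LinearMap.rangeRestrict α) (LinearMap.surjective_rangeRestrict α)
  refine ⟨I, ?_, fun hfg => h2 ?_⟩
  · intro R' B' G' _ _ _ _ _ _ _ _ _ _ _ _ _ _ _ _ _ f hf
    exact (flatAbove_iff_bijective hgi y α hα hflat R' B' G' f hf).trans (h1 R')
  · rwa [LinearMap.ker_rangeRestrict]

end E0

end Groth.Agent.Lib.helper3.UFlat
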