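import Mathlib
import Groth.Prelude.Def_FlatCA
import Groth.Agent.Lib.Helper17.FlatSES
import Groth.Agent.S1208

/-!
# Universal flattening at a point VII: local finite generation of kernels (helper3; S1229)
-/

set_option autoImplicit false
set_option linter.style.haveILetI false
set_option linter.unusedSectionVars false
universe u

open TensorProduct IsLocalRing

namespace Groth.Agent.Lib.helper3.UFlat

section FGloc

variable {R B : Type u} [CommRing R] [CommRing B] [Algebra R B]
  (y : Ideal B) [y.IsPrime]
  {F : Type u} [AddCommGroup F] [Module B F] [Module R F] [IsScalarTower R B F]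

theorem flatAt_submodule_of_flatAt_quotient (Ω : Submodule B F) (hF : FlatCA.FlatAt R y F)
    (hP : FlatCA.FlatAt R y (F ⧸ Ω)) : FlatCA.FlatAt R y Ω := by
  unfold FlatCA.FlatAt at *
  haveI := hF
  haveI := hP
  have hinj : Function.Injective (LocalizedModule.map y.primeCompl Ω.subtype) :=
    LocalizedModule.map_injective y.primeCompl _ Ω.injective_subtype
  have hsurj : Function.Surjective (LocalizedModule.map y.primeCompl Ω.mkQ) :=
    LocalizedModule.map_surjective y.primeCompl _ Ω.mkQ_surjective
  have hex : Function.Exact (LocalizedModule.map y.primeCompl Ω.subtype)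
      (LocalizedModule.map y.primeCompl Ω.mkQ) :=
    LocalizedModule.map_exact y.primeCompl _ _ (LinearMap.exact_subtype_mkQ Ω)
  exact Groth.Agent.Lib.helper17.FlatSES.flat_left_of_exact
    (((LocalizedModule.map y.primeCompl Ω.subtype).restrictScalars B).restrictScalars R)
    (((LocalizedModule.map y.primeCompl Ω.mkQ).restrictScalars B).restrictScalars R) hinj hsurj hex

variable [Algebra.FinitePresentation R B]
  {Λ : Type u} [AddCommGroup Λ] [Module B Λ] [Module.Finite B Λ] [Module.Finite B F]

theorem exists_fg_le_ker_of_flatAt (σ : Λ →ₗ[B] F) (hF : FlatCA.FlatAt R y F)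
    (hP : FlatCA.FlatAt R y (F ⧸ LinearMap.range σ)) :
    ∃ K₀ : Submodule B Λ, K₀.FG ∧ K₀ ≤ LinearMap.ker σ ∧
      ∀ x ∈ LinearMap.ker σ, ∃ s : B, s ∉ y ∧ s • x ∈ K₀ := by
  classical
  have hΩ : FlatCA.FlatAt R y (LinearMap.range σ) :=
    flatAt_submodule_of_flatAt_quotient y (LinearMap.range σ) hF hP
  haveI : Module.Finite B (LinearMap.range σ) := Module.Finite.range σ
  haveI hfp : Module.FinitePresentation (Localization.AtPrime y)
      (LocalizedModule y.primeCompl (LinearMap.range σ)) :=
    Groth.Agent.S1208.result (LinearMap.range σ) y hΩ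
  haveI : Module.Finite (Localization.AtPrime y) (LocalizedModule y.primeCompl Λ) :=
    Module.Finite.of_isLocalizedModule y.primeCompl (LocalizedModule.mkLinearMap y.primeCompl Λ)
  set σy := LocalizedModule.map y.primeCompl σ.rangeRestrict with hσy
  have hσys : Function.Surjective σy :=
    LocalizedModule.map_surjective y.primeCompl _ σ.surjective_rangeRestrict
  obtain ⟨t, ht⟩ := Module.FinitePresentation.fg_ker σy hσys
  -- each generator is `mk k s` with `k` killed by σ after scaling
  have hgen : ∀ z ∈ t, ∃ k : Λ, k ∈ LinearMap.ker σ ∧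
      ∃ s : y.primeCompl, z = LocalizedModule.mk k s := by
    intro z hz
    have hzk : z ∈ LinearMap.ker σy := ht ▸ Submodule.subset_span hz
    induction z using LocalizedModule.induction_on with
    | h k s =>
      rw [LinearMap.mem_ker, hσy, LocalizedModule.map_mk,
        ← LocalizedModule.zero_mk (1 : y.primeCompl), LocalizedModule.mk_eq] at hzk
      obtain ⟨u, hu⟩ := hzk
      simp only [Submonoid.smul_def, smul_zero, one_smul] at hu
      refine ⟨(u : B) • k, ?_, u * s, ?_⟩
      · rw [LinearMap.mem_ker]
        have := congrArg Subtype.val hu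
        simpa using this
      · rw [LocalizedModule.mk_eq]
        refine ⟨1, ?_⟩
        simp only [Submonoid.smul_def, one_smul, Submonoid.coe_mul]
        rw [mul_smul, smul_comm]
  choose! k hk s hs using hgen
  refine ⟨Submodule.span B (t.image k), ⟨t.image k, rfl⟩, ?_, ?_⟩
  · rw [Submodule.span_le]
    intro x hx
    rw [Finset.coe_image] at hx
    obtain ⟨z, hz, rfl⟩ := hx
    exact hk z hz
  · intro x hx
    have hx' : LocalizedModule.mk x (1 : y.primeCompl) ∈ LinearMap.ker σy := by
      rw [LinearMap.mem_ker, hσy, LocalizedModule.map_mk]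
      have : σ.rangeRestrict x = 0 := by
        apply Subtype.ext
        exact hx
      rw [this, LocalizedModule.zero_mk]
    rw [← ht] at hx'
    -- span induction: elements of the span are `mk m v` with `m ∈ K₀`
    have key : ∀ w ∈ Submodule.span (Localization.AtPrime y) (t : Set _),
        ∃ m ∈ Submodule.span B ((t.image k : Finset Λ) : Set Λ), ∃ v : y.primeCompl,
          w = LocalizedModule.mk m v := by
      intro w hw
      refine Submodule.span_induction ?_ ?_ ?_ ?_ hw
      · intro z hz
        refine ⟨k z, Submodule.subset_span ?_, s z, hs z hz⟩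
        rw [Finset.coe_image]
        exact ⟨z, hz, rfl⟩
      · exact ⟨0, zero_mem _, 1, (LocalizedModule.zero_mk _).symm⟩
      · rintro _ _ _ _ ⟨m₁, hm₁, v₁, rfl⟩ ⟨m₂, hm₂, v₂, rfl⟩
        refine ⟨(v₂ : B) • m₁ + (v₁ : B) • m₂, ?_, v₁ * v₂, ?_⟩
        · exact add_mem (Submodule.smul_mem _ _ hm₁) (Submodule.smul_mem _ _ hm₂)
        · rw [LocalizedModule.mk_add_mk]
          rfl
      · rintro a _ _ ⟨m, hm, v, rfl⟩
        induction a using Localization.induction_on with
        | H bd =>
          obtain ⟨b, d⟩ := bd
          refine ⟨b • m, Submodule.smul_mem _ _ hm, d * v, ?_⟩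
          rw [LocalizedModule.mk_smul_mk]
    obtain ⟨m, hm, v, hmv⟩ := key _ hx'
    rw [LocalizedModule.mk_eq] at hmv
    obtain ⟨u, hu⟩ := hmv
    simp only [Submonoid.smul_def, one_smul] at hu
    refine ⟨(u : B) * (v : B), y.primeCompl.mul_mem u.2 v.2, ?_⟩
    rw [mul_smul, hu]
    exact Submodule.smul_mem _ _ hm

end FGloc

end Groth.Agent.Lib.helper3.UFlat
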