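import Mathlib
import Groth.Prelude.Def_FlatCA
import Groth.Agent.Lib.Helper3.UFlat6
import Groth.Agent.Lib.Helper3.UFlat7
import Groth.Agent.Lib.Helper3.ProjFlatten2
import Groth.Agent.Lib.Helper3.FreeLocalInj1
import Groth.Agent.Lib.Helper3.GIProj2
import Groth.Agent.Lib.Helper3.FpLocal1

/-!
# Universal flattening at a point VII(b): finite generation in the flat cokernel case
(helper3; S1229)
-/

set_option autoImplicit false
set_option linter.style.haveILetI false
set_option linter.unusedSectionVars false
universe u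

open TensorProduct IsLocalRing

namespace Groth.Agent.Lib.helper3.UFlat

open Groth.Agent.Lib.helper3.FlatAtLib Groth.Agent.Lib.helper3.GIProj

section Pi

variable {R B : Type u} [CommRing R] [CommRing B] [Algebra R B] {r : ℕ}

theorem mem_smul_top_pi_iff (J : Ideal R) (x : Fin r → B) :
    x ∈ J • (⊤ : Submodule R (Fin r → B)) ↔ ∀ i, x i ∈ J.map (algebraMap R B) := by
  constructor
  · intro hx i
    refine Submodule.smul_induction_on hx ?_ ?_
    · intro a ha v _
      rw [Pi.smul_apply, Algebra.smul_def]
      exact Ideal.mul_mem_right _ _ (Ideal.mem_map_of_mem _ ha)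
    · intro v w hv hw
      rw [Pi.add_apply]
      exact add_mem hv hw
  · intro h
    have hx : x = ∑ i, (LinearMap.single R (fun _ : Fin r => B) i) (x i) := by
      ext j
      simp [Finset.sum_apply, Pi.single_apply]
    rw [hx]
    refine Submodule.sum_mem _ fun i _ => ?_
    have h1 : x i ∈ J • (⊤ : Submodule R B) := by
      rw [Ideal.smul_top_eq_map]
      exact h i
    exact Submodule.smul_top_le_comap_smul_top J (LinearMap.single R (fun _ : Fin r => B) i) h1

end Pi

section E0

variable {R B : Type u} [CommRing R] [IsLocalRing R] [CommRing B] [Algebra R B]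
  [Algebra.FinitePresentation R B] [Module.Flat R B] (hgi : FlatCA.GeomIntegralFibres R B)
  [hP : ((maximalIdeal R).map (algebraMap R B)).IsPrime]
  (y : Ideal B) [y.IsPrime] [hy : y.LiesOver (maximalIdeal R)]
  {G : Type u} [AddCommGroup G] [Module B G] [Module R G] [IsScalarTower R B G] [Module.Finite B G]
  {r : ℕ} (α : (Fin r → B) →ₗ[B] G)
  (hα : Function.Bijective (α.baseChange ((maximalIdeal R).map (algebraMap R B)).ResidueField))
  (hflat : FlatCA.FlatAt R y (G ⧸ LinearMap.range α))

include hgi in
theorem mem_smul_top_of_smul_mem (s : B) (hs : s ∉ y) (J : Ideal R) (x : Fin r → B)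
    (hx : s • x ∈ J • (⊤ : Submodule R (Fin r → B))) :
    x ∈ J • (⊤ : Submodule R (Fin r → B)) := by
  haveI : Module.Free R B := free_of_local hgi
  have hle : (maximalIdeal R).map (algebraMap R B) ≤ y := by
    rw [Ideal.map_le_iff_le_comap]
    have := hy.over
    rw [Ideal.under_def] at this
    exact this.le
  have hs' : s ∉ (maximalIdeal R).map (algebraMap R B) := fun h => hs (hle h)
  set g : (Fin r → B) →ₗ[R] (Fin r → B) :=
    (LinearMap.lsmul B (Fin r → B) s).restrictScalars R with hg
  have hu : ∀ x, g x ∈ maximalIdeal R • (⊤ : Submodule R (Fin r → B)) →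
      x ∈ maximalIdeal R • (⊤ : Submodule R (Fin r → B)) := by
    intro x hx
    rw [mem_smul_top_pi_iff] at hx ⊢
    intro i
    have h1 := hx i
    have h2 : g x i = s * x i := rfl
    rw [h2] at h1
    exact (hP.mem_or_mem h1).resolve_left hs'
  have hinj := FreeLocalInj.lTensor_injective_of_free g hu (R ⧸ J)
  exact (FreeLocalInj.lTensor_quot_injective_iff (I := J) g).mp hinj x hx

include hgi hα hflat in
/-- **Key step, flat cokernel case, with finite generation.** -/
theorem exists_flattens_of_flat_coker' :
    ∃ I : Ideal R, Flattens R B y G I ∧ (Module.FinitePresentation B G → I.FG) := by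
  haveI : Module.Projective R B := projective_of_geomIntegralFibres hgi
  haveI : Module.Projective R (Fin r → B) :=
    Module.Projective.of_equiv
      (DFinsupp.linearEquivFunOnFintype (R := R) (M := fun _ : Fin r => B))
  obtain ⟨I, h1, h2⟩ := ProjFlatten.exists_ideal_of_projective' (A := R) (B := B) (Fin r → B)
    (LinearMap.range α) (LinearMap.rangeRestrict α) (LinearMap.surjective_rangeRestrict α)
  refine ⟨I, ?_, fun hfp => h2 ?_⟩
  · intro R' B' G' _ _ _ _ _ _ _ _ _ _ _ _ _ _ _ _ _ f hf
    exact (flatAbove_iff_bijective hgi y α hα hflat R' B' G' f hf).trans (h1 R')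
  · -- a finite presentation of `G`
    obtain ⟨k, π, hπ⟩ := Module.Finite.exists_fin' B G
    have hW : (LinearMap.ker π).FG := Module.FinitePresentation.fg_ker π hπ
    haveI : Module.Finite B (LinearMap.ker π) := Module.Finite.iff_fg.mpr hW
    obtain ⟨α', hα'⟩ := Module.projective_lifting_property π α hπ
    have hα'a : ∀ l, π (α' l) = α l := fun l => LinearMap.congr_fun hα' l
    set σ : ((Fin r → B) × LinearMap.ker π) →ₗ[B] (Fin k → B) :=
      α'.coprod (LinearMap.ker π).subtype with hσ
    have hσa : ∀ l w, σ (l, w) = α' l + (w : Fin k → B) := fun l w => by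
      rw [hσ, LinearMap.coprod_apply]
      rfl
    -- flatness of `F` and of the cokernel
    haveI : Module.Free R B := free_of_local hgi
    have hF : FlatCA.FlatAt R y (Fin k → B) :=
      FpLocal.flat_localizedModule y.primeCompl (Fin k → B)
    set ρ : (Fin k → B) →ₗ[B] G ⧸ LinearMap.range α := (LinearMap.range α).mkQ ∘ₗ π with hρ
    have hρs : Function.Surjective ρ :=
      (Submodule.mkQ_surjective _).comp hπ
    have hker : LinearMap.ker ρ = LinearMap.range σ := by
      ext v
      rw [LinearMap.mem_ker, hρ, LinearMap.comp_apply, Submodule.mkQ_apply,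
        Submodule.Quotient.mk_eq_zero]
      constructor
      · rintro ⟨l, hl⟩
        have hw : v - α' l ∈ LinearMap.ker π := by
          rw [LinearMap.mem_ker, map_sub, hα'a, hl, sub_self]
        exact ⟨(l, ⟨v - α' l, hw⟩), by rw [hσa]; simp⟩
      · rintro ⟨⟨l, w⟩, rfl⟩
        refine ⟨l, ?_⟩
        rw [hσa, map_add, hα'a]
        have : π (w : Fin k → B) = 0 := w.2
        rw [this, add_zero]
    let e : ((Fin k → B) ⧸ LinearMap.range σ) ≃ₗ[B] G ⧸ LinearMap.range α :=
      (Submodule.quotEquivOfEq _ _ hker.symm).trans (LinearMap.quotKerEquivOfSurjective ρ hρs)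
    have hPσ : FlatCA.FlatAt R y ((Fin k → B) ⧸ LinearMap.range σ) :=
      (flatAt_congr y e).mpr hflat
    obtain ⟨K₀, hK₀fg, hK₀le, hK₀⟩ := exists_fg_le_ker_of_flatAt y σ hF hPσ
    refine ⟨K₀.map (LinearMap.fst B (Fin r → B) (LinearMap.ker π)), hK₀fg.map _, ?_, ?_⟩
    · rintro _ ⟨⟨l, w⟩, hlw, rfl⟩
      have h3 : σ (l, w) = 0 := hK₀le hlw
      rw [hσa] at h3
      rw [LinearMap.mem_ker]
      apply Subtype.ext
      show α l = 0
      rw [← hα'a, eq_neg_of_add_eq_zero_left h3, map_neg]
      have : π (w : Fin k → B) = 0 := w.2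
      rw [this, neg_zero]
    · intro J hJ x hx
      have hx' : α x = 0 := by
        have := congrArg Subtype.val (LinearMap.mem_ker.mp hx)
        exact this
      have hw : -(α' x) ∈ LinearMap.ker π := by
        rw [LinearMap.mem_ker, map_neg, hα'a, hx', neg_zero]
      have hmem : ((x, ⟨-(α' x), hw⟩) : (Fin r → B) × LinearMap.ker π) ∈ LinearMap.ker σ := by
        rw [LinearMap.mem_ker, hσa]
        simp
      obtain ⟨s, hs, hsK⟩ := hK₀ _ hmem
      have h4 : s • x ∈ J • (⊤ : Submodule R (Fin r → B)) :=
        hJ _ ⟨_, hsK, rfl⟩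
      exact mem_smul_top_of_smul_mem hgi y s hs J x h4

end E0

end Groth.Agent.Lib.helper3.UFlat
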