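import Mathlib
import Groth.Prelude.Def_FlatCA
import Groth.Agent.Lib.Helper3.UFlat6
import Groth.Agent.Lib.Helper3.UFlat7b

/-!
# Universal flattening at a point VIII: the key step, general case (helper3; S1229)

From a universal flattening ideal of the cokernel of `α : B^r → G` to one of `G`.
-/

set_option autoImplicit false
set_option linter.style.haveILetI false
set_option linter.unusedSectionVars false
universe u

open TensorProduct IsLocalRing

namespace Groth.Agent.Lib.helper3.UFlat

open Groth.Agent.Lib.helper3.FlatAtLib Groth.Agent.Lib.helper3.GIProj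

attribute [local instance] Algebra.TensorProduct.rightAlgebra

/-- Variant of `exists_canonical_model` exposing the tensor product. -/
theorem exists_algebra_canonical (R R' S T T' : Type u) [CommRing R] [CommRing R'] [CommRing S]
    [CommRing T] [CommRing T'] [Algebra R R'] [Algebra R S] [Algebra R T] [Algebra S T]
    [IsScalarTower R S T] [Algebra T T'] [Algebra R' T'] [Algebra R T'] [IsScalarTower R T T']
    [IsScalarTower R R' T'] [Algebra.IsPushout R T R' T'] :
    ∃ (_ : Algebra (S ⊗[R] R') T')
      (_ : Algebra S T') (_ : IsScalarTower S T T') (_ : IsScalarTower S (S ⊗[R] R') T')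
      (_ : IsScalarTower R' (S ⊗[R] R') T') (_ : IsScalarTower R (S ⊗[R] R') T'),
      Algebra.IsPushout S T (S ⊗[R] R') T' := by
  letI : Algebra S T' := ((algebraMap T T').comp (algebraMap S T)).toAlgebra
  haveI t1 : IsScalarTower S T T' := IsScalarTower.of_algebraMap_eq (fun _ => rfl)
  haveI t0 : IsScalarTower R S T' := IsScalarTower.of_algebraMap_eq (fun r => by
    rw [IsScalarTower.algebraMap_apply R T T', IsScalarTower.algebraMap_apply R S T,
      ← IsScalarTower.algebraMap_apply S T T'])
  let φ : S ⊗[R] R' →ₐ[R] T' :=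
    Algebra.TensorProduct.lift (IsScalarTower.toAlgHom R S T') (IsScalarTower.toAlgHom R R' T')
      (fun _ _ => mul_comm _ _)
  letI : Algebra (S ⊗[R] R') T' := φ.toRingHom.toAlgebra
  have hφ : ∀ x, algebraMap (S ⊗[R] R') T' x = φ x := fun _ => rfl
  haveI t2 : IsScalarTower S (S ⊗[R] R') T' := IsScalarTower.of_algebraMap_eq (fun s => by
    rw [hφ, Algebra.TensorProduct.algebraMap_apply, Algebra.algebraMap_self_apply]
    simp [φ])
  haveI t3 : IsScalarTower R' (S ⊗[R] R') T' := IsScalarTower.of_algebraMap_eq (fun r => by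
    rw [hφ]
    show algebraMap R' T' r = φ ((1 : S) ⊗ₜ[R] r)
    simp [φ])
  haveI t4 : IsScalarTower R (S ⊗[R] R') T' := IsScalarTower.of_algebraMap_eq (fun r => by
    rw [hφ, AlgHom.commutes])
  refine ⟨inferInstance, inferInstance, t1, t2, t3, t4, ?_⟩
  exact (Algebra.IsPushout.comp_iff R S R' (S' := S ⊗[R] R') (T := T) (T' := T')).mp inferInstance

section E

variable {R B : Type u} [CommRing R] [IsLocalRing R] [CommRing B] [Algebra R B]
  [Algebra.FinitePresentation R B] [Module.Flat R B] (hgi : FlatCA.GeomIntegralFibres R B)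
  [hP : ((maximalIdeal R).map (algebraMap R B)).IsPrime]
  (y : Ideal B) [y.IsPrime] [hy : y.LiesOver (maximalIdeal R)]
  {G : Type u} [AddCommGroup G] [Module B G] [Module R G] [IsScalarTower R B G] [Module.Finite B G]
  {r : ℕ} (α : (Fin r → B) →ₗ[B] G)
  (hα : Function.Bijective (α.baseChange ((maximalIdeal R).map (algebraMap R B)).ResidueField))

include hα in
/-- The base change of `α` to a model, with its properties. -/
theorem exists_baseChange_map (R' B' G' : Type u) [CommRing R'] [IsLocalRing R'] [Algebra R R']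
    [IsLocalHom (algebraMap R R')]
    [CommRing B'] [Algebra B B'] [Algebra R' B'] [Algebra R B'] [IsScalarTower R B B']
    [IsScalarTower R R' B'] [Algebra.IsPushout R B R' B']
    [hP' : ((maximalIdeal R').map (algebraMap R' B')).IsPrime]
    [AddCommGroup G'] [Module B' G'] [Module B G'] [IsScalarTower B B' G'] [Module R' G']
    [IsScalarTower R' B' G'] (f : G →ₗ[B] G') (hf : IsBaseChange B' f) :
    ∃ α' : (Fin r → B') →ₗ[B'] G',
      Function.Bijective
        (α'.baseChange ((maximalIdeal R').map (algebraMap R' B')).ResidueField) ∧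
      Nonempty ((G' ⧸ LinearMap.range α') ≃ₗ[B'] B' ⊗[B] (G ⧸ LinearMap.range α)) := by
  have hloc : (maximalIdeal R').comap (algebraMap R R') = maximalIdeal R :=
    ((IsLocalRing.local_hom_TFAE (algebraMap R R')).out 0 4).mp
      (inferInstance : IsLocalHom (algebraMap R R'))
  haveI hmR' : (maximalIdeal R').LiesOver (maximalIdeal R) := ⟨hloc.symm⟩
  haveI : ((maximalIdeal R').map (algebraMap R' B')).LiesOver
      ((maximalIdeal R).map (algebraMap R B)) :=
    ⟨(comap_map_model R B R' B' (maximalIdeal R) (maximalIdeal R')).symm⟩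
  let ι : (Fin r → B) →ₗ[B] (Fin r → B') := (Algebra.linearMap B B').compLeft (Fin r)
  have hι : IsBaseChange B' ι := (IsBaseChange.linearMap B B').finitePow (Fin r)
  let α' : (Fin r → B') →ₗ[B'] G' := hι.lift (f ∘ₗ α)
  have hα'ι : ∀ v : Fin r → B, α' (ι v) = f (α v) := fun v => hι.lift_eq (f ∘ₗ α) v
  have hα'c : ∀ v : Fin r → B, α' (fun j => algebraMap B B' (v j)) = f (α v) := fun v => hα'ι v
  have hα' : Function.Bijective
      (α'.baseChange ((maximalIdeal R').map (algebraMap R' B')).ResidueField) :=
    CDevBC.bijective_baseChange_residueField ((maximalIdeal R).map (algebraMap R B))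
      ((maximalIdeal R').map (algebraMap R' B')) f hf α α' hα'c hα
  have hrange : LinearMap.range α' =
      Submodule.span B' (f '' (LinearMap.range α : Set G)) := by
    apply le_antisymm
    · rintro _ ⟨x, rfl⟩
      refine hι.inductionOn x (motive := fun x => α' x ∈ Submodule.span B' _) ?_ ?_ ?_ ?_
      · rw [map_zero]; exact Submodule.zero_mem _
      · intro v
        rw [hα'ι]
        exact Submodule.subset_span ⟨α v, ⟨v, rfl⟩, rfl⟩
      · intro b x hx
        rw [map_smul]
        exact Submodule.smul_mem _ b hx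
      · intro a b ha hb
        rw [map_add]
        exact Submodule.add_mem _ ha hb
    · rw [Submodule.span_le]
      rintro _ ⟨_, ⟨v, rfl⟩, rfl⟩
      exact ⟨ι v, hα'ι v⟩
  let mkP : (G ⧸ LinearMap.range α) →ₗ[B] B' ⊗[B] (G ⧸ LinearMap.range α) :=
    TensorProduct.mk B B' _ 1
  have hmkP : IsBaseChange B' mkP := TensorProduct.isBaseChange B _ B'
  exact ⟨α', hα', CDevBC.nonempty_cokerEquiv_baseChange f hf mkP hmkP (LinearMap.range α)
    (LinearEquiv.refl B _) (LinearMap.range α') hrange⟩

include hgi hα in
/-- Flatness of `G'` above `y` implies flatness of the base change of the cokernel. -/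
theorem flatAbove_coker_of_flatAbove (R' B' G' : Type u) [CommRing R'] [IsLocalRing R']
    [Algebra R R'] [IsLocalHom (algebraMap R R')]
    [CommRing B'] [Algebra B B'] [Algebra R' B'] [Algebra R B'] [IsScalarTower R B B']
    [IsScalarTower R R' B'] [Algebra.IsPushout R B R' B']
    [AddCommGroup G'] [Module B' G'] [Module B G'] [IsScalarTower B B' G'] [Module R' G']
    [IsScalarTower R' B' G'] (f : G →ₗ[B] G') (hf : IsBaseChange B' f)
    (h : FlatAbove R' B' y G') :
    FlatAbove R' B' y (B' ⊗[B] (G ⧸ LinearMap.range α)) := by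
  haveI := finitePresentation_model R B R' B'
  haveI := flat_model R B R' B'
  have hgi' := geomIntegralFibres_model R B R' B' hgi
  haveI hP' : ((maximalIdeal R').map (algebraMap R' B')).IsPrime :=
    GIPrime.map_isPrime (GIF.of_geomIntegralFibres hgi') (maximalIdeal R')
  haveI : Module.Finite B' G' := Module.Finite.equiv hf.equiv
  obtain ⟨α', hα', ⟨e⟩⟩ := exists_baseChange_map α hα R' B' G' f hf
  intro Q _ hQy hQm
  haveI := hQm
  have t02 : FlatCA.FlatAt R' Q G' ↔
      (Function.Injective α' ∧ FlatCA.FlatAt R' Q (G' ⧸ LinearMap.range α')) :=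
    ((Groth.Agent.S1204.result hgi' Q G').2 r α' hα').out 0 2
  exact (flatAt_congr Q e).mp (t02.mp (h Q hQy hQm)).2

end E

end Groth.Agent.Lib.helper3.UFlat
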