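import Mathlib
import Groth.Prelude.Def_FlatCA
import Groth.Agent.Lib.Helper3.UFlat8

/-!
# Universal flattening at a point VIII(q): passing to a quotient of the base (helper3; S1229)
-/

set_option autoImplicit false
set_option linter.style.haveILetI false
set_option linter.unusedSectionVars false
universe u

open TensorProduct IsLocalRing

namespace Groth.Agent.Lib.helper3.UFlat

open Groth.Agent.Lib.helper3.FlatAtLib Groth.Agent.Lib.helper3.GIProj

attribute [local instance] Algebra.TensorProduct.rightAlgebra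

section Quot

variable {R : Type u} [CommRing R] [IsLocalRing R] {Rb : Type u} [CommRing Rb] [IsLocalRing Rb]
  [Algebra R Rb] (hRb : Function.Surjective (algebraMap R Rb))
  {B : Type u} [CommRing B] [Algebra R B] (y : Ideal B) [y.IsPrime]
  {G : Type u} [AddCommGroup G] [Module B G]
  (yb : Ideal (Rb ⊗[R] B)) [yb.IsPrime] [hyb : yb.LiesOver y]
  (I₂ : Ideal Rb)

include hyb hRb in
theorem flatAbove_iff_of_quotient
    (h : Flattens Rb (Rb ⊗[R] B) yb ((Rb ⊗[R] B) ⊗[B] G) I₂)
    (R' B' G' : Type u) [CommRing R'] [IsLocalRing R'] [Algebra R R']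
    [IsLocalHom (algebraMap R R')]
    [CommRing B'] [Algebra B B'] [Algebra R' B'] [Algebra R B'] [IsScalarTower R B B']
    [IsScalarTower R R' B'] [Algebra.IsPushout R B R' B']
    [AddCommGroup G'] [Module B' G'] [Module B G'] [IsScalarTower B B' G'] [Module R' G']
    [IsScalarTower R' B' G'] (f : G →ₗ[B] G') (hf : IsBaseChange B' f)
    (hI₁ : (RingHom.ker (algebraMap R Rb)).map (algebraMap R R') = ⊥) :
    FlatAbove R' B' y G' ↔
      (I₂.comap (algebraMap R Rb)).map (algebraMap R R') = ⊥ := by
  have hker : RingHom.ker (algebraMap R Rb) ≤ RingHom.ker (algebraMap R R') := fun a ha => by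
    have : algebraMap R R' a ∈ (RingHom.ker (algebraMap R Rb)).map (algebraMap R R') :=
      Ideal.mem_map_of_mem _ ha
    rwa [hI₁, Ideal.mem_bot] at this
  letI : Algebra Rb R' :=
    (RingHom.liftOfSurjective (algebraMap R Rb) hRb ⟨algebraMap R R', hker⟩).toAlgebra
  have halg : ∀ a : R, algebraMap Rb R' (algebraMap R Rb a) = algebraMap R R' a :=
    fun a => RingHom.liftOfSurjective_comp_apply (algebraMap R Rb) hRb ⟨algebraMap R R', hker⟩ a
  haveI : IsScalarTower R Rb R' := IsScalarTower.of_algebraMap_eq (fun a => (halg a).symm)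
  haveI : IsLocalHom (algebraMap Rb R') := ⟨fun x hx => by
    obtain ⟨a, rfl⟩ := hRb x
    rw [halg] at hx
    exact (isUnit_of_map_unit (algebraMap R R') a hx).map (algebraMap R Rb)⟩
  haveI : Algebra.IsPushout R R' B B' := Algebra.IsPushout.symm inferInstance
  obtain ⟨_, _, _, _, _, _, hpo⟩ := exists_algebra_canonical R B Rb R' B'
  haveI : Algebra.IsPushout Rb (Rb ⊗[R] B) R' B' := Algebra.IsPushout.symm hpo
  -- the canonical model of the base change of `Ḡ`
  have h1 := h R' B' (B' ⊗[Rb ⊗[R] B] ((Rb ⊗[R] B) ⊗[B] G))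
    (TensorProduct.mk _ B' _ 1) (TensorProduct.isBaseChange _ _ B')
  -- comparison of the modules
  let e : G' ≃ₗ[B'] B' ⊗[Rb ⊗[R] B] ((Rb ⊗[R] B) ⊗[B] G) :=
    hf.equiv.symm ≪≫ₗ
      (TensorProduct.AlgebraTensorModule.cancelBaseChange B (Rb ⊗[R] B) B' B' G).symm
  -- comparison of the primes
  have hsurj : Function.Surjective (algebraMap B (Rb ⊗[R] B)) :=
    Algebra.TensorProduct.includeRight_surjective (R := R) (S := Rb) B hRb
  have h2 : FlatAbove R' B' y G' ↔
      FlatAbove R' B' yb (B' ⊗[Rb ⊗[R] B] ((Rb ⊗[R] B) ⊗[B] G)) := by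
    constructor
    · intro h0 Q _ hQyb hQm
      have hQy : Q.LiesOver y := by
        haveI := hQyb
        exact Ideal.LiesOver.trans Q yb y
      exact (flatAt_congr Q e).mp (h0 Q hQy hQm)
    · intro h0 Q _ hQy hQm
      have hQyb : Q.LiesOver yb := by
        constructor
        apply Ideal.comap_injective_of_surjective _ hsurj
        have e1 := hyb.over
        have e2 := hQy.over
        rw [Ideal.under_def] at e1 e2 ⊢
        rw [← e1, Ideal.comap_comap, ← IsScalarTower.algebraMap_eq, ← e2]
      exact (flatAt_congr Q e).mpr (h0 Q hQyb hQm)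
  rw [h2, h1]
  have h3 : (I₂.comap (algebraMap R Rb)).map (algebraMap R R') =
      I₂.map (algebraMap Rb R') := by
    have : algebraMap R R' = (algebraMap Rb R').comp (algebraMap R Rb) := by
      ext a
      exact (halg a).symm
    rw [this, ← Ideal.map_map, Ideal.map_comap_of_surjective _ hRb]
  rw [h3]

end Quot

end Groth.Agent.Lib.helper3.UFlat
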