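import Mathlib
import Groth.Prelude.Def_FlatCA
import Groth.Agent.Lib.Helper3.UFlat8
import Groth.Agent.Lib.Helper3.UFlat8q

/-!
# Universal flattening at a point VIII(e): the key step, general case (helper3; S1229)
-/

set_option autoImplicit false
set_option linter.style.haveILetI false
set_option linter.unusedSectionVars false
universe u

open TensorProduct IsLocalRing

namespace Groth.Agent.Lib.helper3.UFlat

open Groth.Agent.Lib.helper3.FlatAtLib Groth.Agent.Lib.helper3.GIProj

attribute [local instance] Algebra.TensorProduct.rightAlgebra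

section E

variable {R B : Type u} [CommRing R] [IsLocalRing R] [CommRing B] [Algebra R B]
  [Algebra.FinitePresentation R B] [Module.Flat R B] (hgi : FlatCA.GeomIntegralFibres R B)
  [hP : ((maximalIdeal R).map (algebraMap R B)).IsPrime]
  (y : Ideal B) [y.IsPrime] [hy : y.LiesOver (maximalIdeal R)]
  {G : Type u} [AddCommGroup G] [Module B G] [Module R G] [IsScalarTower R B G] [Module.Finite B G]
  {r : ℕ} (α : (Fin r → B) →ₗ[B] G)
  (hα : Function.Bijective (α.baseChange ((maximalIdeal R).map (algebraMap R B)).ResidueField))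

include hgi hα in
/-- The case where the flattening ideal of the cokernel is proper, with an abstract quotient. -/
theorem exists_flattens_of_flattens_coker_aux (Rb : Type u) [CommRing Rb] [IsLocalRing Rb]
    [Algebra R Rb] (hRb : Function.Surjective (algebraMap R Rb))
    (h₁ : Flattens R B y (G ⧸ LinearMap.range α) (RingHom.ker (algebraMap R Rb))) :
    ∃ I : Ideal R, Flattens R B y G I ∧
      (Module.FinitePresentation B G → (RingHom.ker (algebraMap R Rb)).FG → I.FG) := by
  haveI : IsLocalHom (algebraMap R Rb) := IsLocalHom.of_surjective _ hRb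
  haveI : Algebra.IsPushout R B Rb (Rb ⊗[R] B) :=
    Algebra.IsPushout.symm inferInstance
  haveI := finitePresentation_model R B Rb (Rb ⊗[R] B)
  haveI := flat_model R B Rb (Rb ⊗[R] B)
  have hgib := geomIntegralFibres_model R B Rb (Rb ⊗[R] B) hgi
  haveI hPb : ((maximalIdeal Rb).map (algebraMap Rb (Rb ⊗[R] B))).IsPrime :=
    GIPrime.map_isPrime (GIF.of_geomIntegralFibres hgib) (maximalIdeal Rb)
  have hloc : (maximalIdeal Rb).comap (algebraMap R Rb) = maximalIdeal R :=
    ((IsLocalRing.local_hom_TFAE (algebraMap R Rb)).out 0 4).mp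
      (inferInstance : IsLocalHom (algebraMap R Rb))
  obtain ⟨yb, hyb, hyby, hybm⟩ := exists_prime_liesOver_both (R := R) (S := B)
    (R' := Rb) (S' := Rb ⊗[R] B) y (maximalIdeal Rb) (by
      have h1 := hy.over
      rw [Ideal.under_def] at h1
      rw [← h1, hloc])
  haveI := hyb
  haveI := hyby
  haveI := hybm
  have hgb : IsBaseChange (Rb ⊗[R] B)
      (TensorProduct.mk B (Rb ⊗[R] B) G 1) := TensorProduct.isBaseChange B G _
  obtain ⟨αb, hαb, ⟨eb⟩⟩ := exists_baseChange_map α hα Rb (Rb ⊗[R] B)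
    ((Rb ⊗[R] B) ⊗[B] G) (TensorProduct.mk B (Rb ⊗[R] B) G 1) hgb
  have hI₁b : (RingHom.ker (algebraMap R Rb)).map (algebraMap R Rb) = ⊥ := by
    rw [Ideal.map_eq_bot_iff_le_ker]
  have hfl := (h₁ Rb (Rb ⊗[R] B)
    ((Rb ⊗[R] B) ⊗[B] (G ⧸ LinearMap.range α)) (TensorProduct.mk B _ _ 1)
    (TensorProduct.isBaseChange B _ _)).mpr hI₁b
  have hflatb : FlatCA.FlatAt Rb yb
      (((Rb ⊗[R] B) ⊗[B] G) ⧸ LinearMap.range αb) :=
    (flatAt_congr yb eb).mpr (hfl yb hyby hybm)
  obtain ⟨I₂, hI₂, hI₂fg⟩ := exists_flattens_of_flat_coker' hgib yb αb hαb hflatb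
  have hle : RingHom.ker (algebraMap R Rb) ≤ I₂.comap (algebraMap R Rb) := by
    intro a ha
    rw [Ideal.mem_comap, RingHom.mem_ker.mp ha]
    exact zero_mem _
  refine ⟨I₂.comap (algebraMap R Rb), ?_, ?_⟩
  · intro R' B' G' _ _ _ _ _ _ _ _ _ _ _ _ _ _ _ _ _ f hf
    constructor
    · intro h0
      have hI₁' : (RingHom.ker (algebraMap R Rb)).map (algebraMap R R') = ⊥ :=
        (h₁ R' B' (B' ⊗[B] (G ⧸ LinearMap.range α)) (TensorProduct.mk B B' _ 1)
          (TensorProduct.isBaseChange B _ B')).mp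
          (flatAbove_coker_of_flatAbove hgi y α hα R' B' G' f hf h0)
      exact (flatAbove_iff_of_quotient hRb y yb I₂ hI₂ R' B' G' f hf hI₁').mp h0
    · intro h0
      have hI₁' : (RingHom.ker (algebraMap R Rb)).map (algebraMap R R') = ⊥ :=
        le_bot_iff.mp (h0 ▸ Ideal.map_mono hle)
      exact (flatAbove_iff_of_quotient hRb y yb I₂ hI₂ R' B' G' f hf hI₁').mpr h0
  · intro hfp hI₁fg
    have h3 := hI₂fg inferInstance
    apply Ideal.fg_of_fg_map_of_fg_inf_ker_of_surjective (f := algebraMap R Rb) ?_ ?_ hRb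
    · rw [Ideal.map_comap_of_surjective _ hRb]
      exact h3
    · rw [inf_eq_right.mpr hle]
      exact hI₁fg

include hgi hα in
/-- **Key step, general case.** -/
theorem exists_flattens_of_flattens_coker (I₁ : Ideal R)
    (h₁ : Flattens R B y (G ⧸ LinearMap.range α) I₁) :
    ∃ I : Ideal R, Flattens R B y G I ∧ (Module.FinitePresentation B G → I₁.FG → I.FG) := by
  by_cases htop : I₁ = ⊤
  · refine ⟨⊤, ?_, fun _ _ => ⟨{1}, by simp⟩⟩
    intro R' B' G' _ _ _ _ _ _ _ _ _ _ _ _ _ _ _ _ _ f hf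
    constructor
    · intro h0
      have h2 := (h₁ R' B' (B' ⊗[B] (G ⧸ LinearMap.range α)) (TensorProduct.mk B B' _ 1)
        (TensorProduct.isBaseChange B _ B')).mp
        (flatAbove_coker_of_flatAbove hgi y α hα R' B' G' f hf h0)
      rw [htop] at h2
      exact h2
    · intro h0
      exfalso
      rw [Ideal.map_top] at h0
      exact top_ne_bot h0
  · haveI : Nontrivial (R ⧸ I₁) := Ideal.Quotient.nontrivial_iff.mpr htop
    haveI : IsLocalRing (R ⧸ I₁) :=
      IsLocalRing.of_surjective' (Ideal.Quotient.mk I₁) Ideal.Quotient.mk_surjective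
    have hk : RingHom.ker (algebraMap R (R ⧸ I₁)) = I₁ := Ideal.mk_ker
    have := exists_flattens_of_flattens_coker_aux hgi y α hα (R ⧸ I₁)
      Ideal.Quotient.mk_surjective (hk.symm ▸ h₁)
    rwa [hk] at this

end E

end Groth.Agent.Lib.helper3.UFlat
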