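import Mathlib
import Groth.Prelude.Def_FlatCA
import Groth.Agent.Lib.Helper3.UFlat4
import Groth.Agent.Lib.Helper3.UFlat8e
import Groth.Agent.Lib.Helper3.CDev2
import Groth.Agent.Lib.Helper3.CDev3

/-!
# Universal flattening at a point IX: induction along a complete dévissage (helper3; S1229)
-/

set_option autoImplicit false
set_option linter.style.haveILetI false
set_option linter.unusedSectionVars false
universe u

open TensorProduct IsLocalRing

namespace Groth.Agent.Lib.helper3.UFlat

open FlatCA Groth.Agent.Lib.helper3.FlatAtLib Groth.Agent.Lib.helper3.CDev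

attribute [local instance] FlatCA.CompleteDevissageAt.hqB FlatCA.CompleteDevissageAt.hqA
  FlatCA.CompleteDevissageAt.overB FlatCA.CompleteDevissageAt.overA

section Zero

variable {R B : Type u} [CommRing R] [IsLocalRing R] [CommRing B] [Algebra R B]
  (y : Ideal B) (M : Type u) [AddCommGroup M] [Module B M]

theorem flattens_of_subsingleton [Subsingleton M] : Flattens R B y M ⊥ := by
  intro R' B' M' _ _ _ _ _ _ _ _ _ _ _ _ _ _ _ _ _ f hf
  haveI : Subsingleton M' := hf.equiv.symm.toEquiv.subsingleton
  rw [Ideal.map_bot]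
  refine ⟨fun _ => rfl, fun _ Q _ _ _ => ?_⟩
  unfold FlatCA.FlatAt
  haveI : Subsingleton (LocalizedModule Q.primeCompl M') :=
    IsLocalizedModule.subsingleton_of_subsingleton Q.primeCompl
      (LocalizedModule.mkLinearMap Q.primeCompl M')
  haveI : Module.Free R' (LocalizedModule Q.primeCompl M') := Module.Free.of_subsingleton _ _
  infer_instance

end Zero

section Induct

variable {R S : Type u} [CommRing R] [IsLocalRing R] [CommRing S] [Algebra R S]
  {N : Type u} [AddCommGroup N] [Module S N] [Module R N] [IsScalarTower R S N]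
  {q : Ideal S} [q.IsPrime]
  (D : CompleteDevissage R S N (maximalIdeal R))
  (DA : CompleteDevissageAt R S N (maximalIdeal R) q D)

theorem exists_flattens_level : ∀ k i, i + k + 1 = D.n →
    ∃ I : Ideal R, Flattens R (D.B i) (DA.qB i) (D.M i) I ∧
      (Algebra.FinitePresentation R S → Module.FinitePresentation S N → I.FG) := by
  intro k
  induction k with
  | zero =>
    intro i hi
    have hi' : i < D.n := by omega
    haveI := D.smooth i hi'
    haveI : Module.Finite (D.B i) (D.M i) := finite_BM D i hi'
    have hgi := gi_B D i hi'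
    have hsurj : Function.Surjective (D.α i) := by
      have := D.cokerLast
      have hn : D.n - 1 = i := by omega
      rwa [hn] at this
    haveI : Subsingleton (D.M i ⧸ LinearMap.range (D.α i)) := by
      rw [Submodule.Quotient.subsingleton_iff]
      exact LinearMap.range_eq_top.mpr hsurj
    obtain ⟨I, hI, hIfg⟩ := exists_flattens_of_flattens_coker hgi (DA.qB i) (D.α i)
      (D.fibreIso i hi') ⊥ (flattens_of_subsingleton (DA.qB i) _)
    refine ⟨I, hI, fun h1 h2 => ?_⟩
    haveI := h1
    haveI := h2
    exact hIfg (fp_all D i hi') Submodule.fg_bot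
  | succ k ih =>
    intro i hi
    have hi' : i < D.n := by omega
    have hi1 : i + 1 < D.n := by omega
    obtain ⟨I', hI', hI'fg⟩ := ih (i + 1) (by omega)
    -- down along the finite map `B (i+1) → A (i+1)`
    haveI := D.finiteBA (i + 1) hi1
    have h1 : Flattens R (D.A (i + 1)) (DA.qA (i + 1)) (D.M (i + 1)) I' :=
      flattens_finite_down (DA.qB (i + 1)) (DA.qA (i + 1)) (DA.uniq (i + 1) hi1) (D.M (i + 1)) I'
        hI'
    -- up along the surjection `B i → A (i+1)`
    have hsurj := D.surjBA' i hi1
    haveI : Module.Finite (D.B i) (D.A (i + 1)) :=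
      Module.Finite.of_surjective (Algebra.linearMap (D.B i) (D.A (i + 1))) hsurj
    haveI : (DA.qA (i + 1)).LiesOver (DA.qB i) := ⟨(DA.qStep i hi1).symm⟩
    have h2 : Flattens R (D.B i) (DA.qB i) (D.M (i + 1)) I' :=
      flattens_finite_up (DA.qB i) (DA.qA (i + 1)) (fun P _ hP => by
        apply Ideal.comap_injective_of_surjective _ hsurj
        have e1 := hP.over
        rw [Ideal.under_def] at e1
        rw [← e1, DA.qStep i hi1]) (D.M (i + 1)) I' h1
    have h3 : Flattens R (D.B i) (DA.qB i) (D.M i ⧸ LinearMap.range (D.α i)) I' :=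
      flattens_of_linearEquiv (DA.qB i) (D.isoCoker i hi1).symm I' h2
    haveI := D.smooth i hi'
    haveI : Module.Finite (D.B i) (D.M i) := finite_BM D i hi'
    have hgi := gi_B D i hi'
    obtain ⟨I, hI, hIfg⟩ := exists_flattens_of_flattens_coker hgi (DA.qB i) (D.α i)
      (D.fibreIso i hi') I' h3
    refine ⟨I, hI, fun h1 h2 => ?_⟩
    have h4 := hI'fg h1 h2
    haveI := h1
    haveI := h2
    exact hIfg (fp_all D i hi') h4

include DA in
/-- **Universal flattening ideal from a complete dévissage.** -/
theorem exists_flattens_of_completeDevissage :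
    ∃ I : Ideal R, Flattens R S q N I ∧
      (Algebra.FinitePresentation R S → Module.FinitePresentation S N → I.FG) := by
  obtain ⟨I, hI, hIfg⟩ := exists_flattens_level D DA (D.n - 1) 0 (by have := D.pos; omega)
  refine ⟨I, ?_, hIfg⟩
  haveI := D.finiteBA 0 D.pos
  have h1 : Flattens R (D.A 0) (DA.qA 0) (D.M 0) I :=
    flattens_finite_down (DA.qB 0) (DA.qA 0) (DA.uniq 0 D.pos) (D.M 0) I hI
  have hsurj := D.surjSA
  haveI : Module.Finite S (D.A 0) :=
    Module.Finite.of_surjective (Algebra.linearMap S (D.A 0)) hsurj
  haveI : (DA.qA 0).LiesOver q := ⟨DA.q0.symm⟩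
  have h2 : Flattens R S q (D.M 0) I :=
    flattens_finite_up q (DA.qA 0) (fun P _ hP => by
      apply Ideal.comap_injective_of_surjective _ hsurj
      have e1 := hP.over
      rw [Ideal.under_def] at e1
      rw [← e1, DA.q0]) (D.M 0) I h1
  exact flattens_of_linearEquiv q D.isoN.symm I h2

end Induct

end Groth.Agent.Lib.helper3.UFlat
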