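import Mathlib
import Groth.Prelude.Def_FlatCA
import Groth.Agent.Lib.Helper3.UFlat9
import Groth.Agent.Lib.Helper3.UnivInjAss1
import Groth.Agent.Lib.Helper26.Purity1
import Groth.Agent.Lib.Helper3.FreeLocalInj1

/-!
# Universal flattening at a point X(b): the case of a point outside the support of the fibre
(helper3; S1229)
-/

set_option autoImplicit false
set_option linter.style.haveILetI false
set_option linter.unusedSectionVars false
universe u

open TensorProduct IsLocalRing

namespace Groth.Agent.Lib.helper3.UFlat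

attribute [local instance] Algebra.TensorProduct.rightAlgebra

section NoSupp

variable {R S : Type u} [CommRing R] [IsLocalRing R] [CommRing S] [Algebra R S]
  (N : Type u) [AddCommGroup N] [Module S N] [Module R N] [IsScalarTower R S N]
  [Module.Finite S N] (q : Ideal S) [q.IsPrime] [hq : q.LiesOver (maximalIdeal R)]

theorem exists_smul_eq_zero_of_not_supp
    (hsupp : ¬ ∃ x ∈ Module.support ((maximalIdeal R).Fiber S)
      (FlatCA.fiberMod (maximalIdeal R) S N), x.asIdeal = FlatCA.fiberIdeal (maximalIdeal R) q) :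
    ∃ s : S, s ∉ q ∧ ∀ n : N, s • n = 0 := by
  haveI hprime : (FlatCA.fiberIdeal (maximalIdeal R) q).IsPrime :=
    Groth.Agent.Lib.helper3.UnivInjAss.fiberIdeal_isPrime (maximalIdeal R) q
  have hx : (⟨FlatCA.fiberIdeal (maximalIdeal R) q, hprime⟩ :
      PrimeSpectrum ((maximalIdeal R).Fiber S)) ∉
      Module.support ((maximalIdeal R).Fiber S) (FlatCA.fiberMod (maximalIdeal R) S N) :=
    fun h => hsupp ⟨_, h, rfl⟩
  haveI : Module.Finite ((maximalIdeal R).Fiber S) (FlatCA.fiberMod (maximalIdeal R) S N) :=
    inferInstanceAs (Module.Finite ((maximalIdeal R).Fiber S) (((maximalIdeal R).Fiber S) ⊗[S] N))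
  rw [Module.mem_support_iff_of_finite] at hx
  obtain ⟨t, htann, htx⟩ := SetLike.not_le_iff_exists.mp hx
  have hsurj : Function.Surjective (algebraMap S ((maximalIdeal R).Fiber S)) :=
    Algebra.TensorProduct.includeRight_surjective (R := R) (S := (maximalIdeal R).ResidueField) S
      (Ideal.algebraMap_residueField_surjective (maximalIdeal R))
  obtain ⟨s, rfl⟩ := hsurj t
  have hsq : s ∉ q := fun h => htx (Ideal.mem_map_of_mem _ h)
  have hJ : RingHom.ker (algebraMap S ((maximalIdeal R).Fiber S)) ≤ q := by
    intro a ha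
    rw [← Groth.Agent.Lib.helper26.Purity.comap_fiberIdeal (maximalIdeal R) q, Ideal.mem_comap]
    have h0 : (Algebra.TensorProduct.includeRight (R := R) (A := (maximalIdeal R).ResidueField)
        (B := S)).toRingHom a = 0 := ha
    rw [h0]
    exact zero_mem _
  have hsN : ∀ n : N, s • n ∈
      (RingHom.ker (algebraMap S ((maximalIdeal R).Fiber S))) • (⊤ : Submodule S N) := by
    intro n
    apply FreeLocalInj.mem_smul_top_of_one_tmul_eq_zero ((maximalIdeal R).Fiber S) hsurj
    have h1 := Module.mem_annihilator.mp htann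
      (show FlatCA.fiberMod (maximalIdeal R) S N from
        (1 : (maximalIdeal R).Fiber S) ⊗ₜ[S] n)
    have h2 : algebraMap S ((maximalIdeal R).Fiber S) s •
        ((1 : (maximalIdeal R).Fiber S) ⊗ₜ[S] n) = 0 := h1
    rw [TensorProduct.smul_tmul', smul_eq_mul, mul_one] at h2
    rw [TensorProduct.tmul_smul, TensorProduct.smul_tmul', Algebra.smul_def, mul_one]
    exact h2
  set J := RingHom.ker (algebraMap S ((maximalIdeal R).Fiber S)) with hJdef
  have hrange : LinearMap.range (algebraMap S (Module.End S N) s) ≤ J • (⊤ : Submodule S N) := by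
    rintro _ ⟨n, rfl⟩
    rw [Module.algebraMap_end_apply]
    exact hsN n
  obtain ⟨P, hmonic, -, hcoeff, haeval⟩ :=
    LinearMap.exists_monic_and_natDegree_eq_and_coeff_mem_pow_and_aeval_eq_zero S
      (algebraMap S (Module.End S N) s) J hrange
  refine ⟨P.eval s, ?_, ?_⟩
  · intro hmem
    rw [Polynomial.eval_eq_sum_range, Finset.sum_range_succ, hmonic.coeff_natDegree, one_mul]
      at hmem
    have h1 : ∑ i ∈ Finset.range P.natDegree, P.coeff i * s ^ i ∈ q := by
      apply Ideal.sum_mem
      intro i hi
      apply Ideal.mul_mem_right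
      apply hJ
      have h3 := hcoeff i
      have h4 : P.natDegree - i ≠ 0 := by
        have := Finset.mem_range.mp hi
        omega
      exact Ideal.pow_le_self h4 h3
    have h2 : s ^ P.natDegree ∈ q := (Ideal.add_mem_iff_right q h1).mp hmem
    exact hsq (Ideal.IsPrime.mem_of_pow_mem inferInstance _ h2)
  · intro n
    rw [Polynomial.aeval_algebraMap_apply] at haeval
    have h5 := LinearMap.congr_fun haeval n
    rw [Module.algebraMap_end_apply, LinearMap.zero_apply] at h5
    rw [← h5]
    congr 1

include hq in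
/-- If the fibre module is not supported at `q`, the zero ideal flattens `N` at `q`. -/
theorem flattens_bot_of_not_supp
    (hsupp : ¬ ∃ x ∈ Module.support ((maximalIdeal R).Fiber S)
      (FlatCA.fiberMod (maximalIdeal R) S N), x.asIdeal = FlatCA.fiberIdeal (maximalIdeal R) q) :
    Flattens R S q N ⊥ := by
  obtain ⟨s, hsq, hs⟩ := exists_smul_eq_zero_of_not_supp N q hsupp
  intro R' S' N' _ _ _ _ _ _ _ _ _ _ _ _ _ _ _ _ _ f hf
  rw [Ideal.map_bot]
  refine ⟨fun _ => rfl, fun _ Q _ hQq _ => ?_⟩
  have hkill : ∀ n' : N', algebraMap S S' s • n' = 0 := by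
    intro n'
    refine hf.inductionOn n' (motive := fun n' => algebraMap S S' s • n' = 0) ?_ ?_ ?_ ?_
    · exact smul_zero _
    · intro n
      rw [algebraMap_smul, ← map_smul, hs, map_zero]
    · intro b x hx
      rw [smul_comm, hx, smul_zero]
    · intro a b ha hb
      rw [smul_add, ha, hb, add_zero]
  have hsQ : algebraMap S S' s ∉ Q := fun h => hsq (by
    rw [hQq.over]
    exact h)
  unfold FlatCA.FlatAt
  haveI : Subsingleton (LocalizedModule Q.primeCompl N') := by
    rw [LocalizedModule.subsingleton_iff]
    intro m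
    exact ⟨algebraMap S S' s, hsQ, hkill m⟩
  haveI : Module.Free R' (LocalizedModule Q.primeCompl N') := Module.Free.of_subsingleton _ _
  infer_instance

end NoSupp

end Groth.Agent.Lib.helper3.UFlat
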