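import Mathlib
import Groth.Prelude.Def_FlatCA
import Groth.Agent.Lib.Helper3.UFlat1
import Groth.Agent.Lib.Helper3.UFlat2

/-!
# Universal flattening at a point III: transfer along flat residue-trivial maps (helper3; S1229)
-/

set_option autoImplicit false
set_option linter.style.haveILetI false
set_option linter.unusedSectionVars false
universe u

open TensorProduct IsLocalRing

namespace Groth.Agent.Lib.helper3.UFlat

section FlatTransfer

variable {R S T : Type u} [CommRing R] [IsLocalRing R] [CommRing S] [CommRing T] [Algebra R S]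
  [Algebra R T] [Algebra S T] [IsScalarTower R S T] [Module.Flat S T]
  (q : Ideal S) [q.IsPrime] (q₂ : Ideal T) [q₂.IsPrime] [hq₂ : q₂.LiesOver q]
  (hres : Function.Bijective (Ideal.ResidueField.mapₐ q q₂ (Algebra.ofId S T) hq₂.over))
  {N N_T : Type u} [AddCommGroup N] [Module S N] [AddCommGroup N_T] [Module T N_T] [Module S N_T]
  [IsScalarTower S T N_T] (f_T : N →ₗ[S] N_T) (hf_T : IsBaseChange T f_T) (I : Ideal R)

include hres hf_T in
/-- Descent of a flattening ideal along a flat residue-trivial ring map (e.g. an étale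
neighbourhood). -/
theorem flattens_descent (h : Flattens R T q₂ N_T I) : Flattens R S q N I := by
  intro R' S' N' _ _ _ _ _ _ _ _ _ _ _ _ _ _ _ _ _ f hf
  obtain ⟨T', _, _, _, _, _, _, _, _, _, _, _, _, hp1, hp2⟩ := exists_pushout_model R R' S T S'
  -- the module
  haveI : IsScalarTower T T' (T' ⊗[S'] N') := inferInstance
  haveI : IsScalarTower S T' (T' ⊗[S'] N') := inferInstance
  haveI : IsScalarTower R' T' (T' ⊗[S'] N') := inferInstance
  haveI : IsScalarTower S S' (T' ⊗[S'] N') := inferInstance
  haveI : IsScalarTower S T (T' ⊗[S'] N') := inferInstance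
  let g : N' →ₗ[S'] T' ⊗[S'] N' := TensorProduct.mk S' T' N' 1
  have hg : IsBaseChange T' g := TensorProduct.isBaseChange S' N' T'
  let ψ : N →ₗ[S] T' ⊗[S'] N' := (g.restrictScalars S).comp f
  have hψ : IsBaseChange T' ψ := IsBaseChange.comp hf hg
  let f_T' : N_T →ₗ[T] T' ⊗[S'] N' := hf_T.lift ψ
  have hcomp : (f_T'.restrictScalars S).comp f_T = ψ := hf_T.lift_comp ψ
  have hf_T' : IsBaseChange T' f_T' := IsBaseChange.of_comp hf_T (by rw [hcomp]; exact hψ)
  have h1 := h R' T' (T' ⊗[S'] N') f_T' hf_T'
  have h2 := flatAbove_iff_of_flat (R' := R') (S := S) (S₂ := T) (S' := S') (S₂' := T') q q₂ hres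
    g hg
  exact h2.trans h1

include hres hf_T in
/-- Ascent of a flattening ideal along a flat residue-trivial ring map (e.g. a localization at
the point). -/
theorem flattens_ascent (h : Flattens R S q N I) : Flattens R T q₂ N_T I := by
  intro R' T' N_T' _ _ _ _ _ _ _ _ _ _ _ _ _ _ _ _ _ f_T' hf_T'
  obtain ⟨S', _, _, _, _, _, _, _, _, _, _, _, _, hp1, hp2⟩ := exists_canonical_model R R' S T T'
  haveI : IsScalarTower R' S' (S' ⊗[S] N) := inferInstance
  letI mS' : Module S' N_T' := Module.compHom _ (algebraMap S' T')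
  haveI : IsScalarTower S' T' N_T' := IsScalarTower.of_algebraMap_smul (fun _ _ => rfl)
  letI mS : Module S N_T' := Module.compHom _ (algebraMap S T)
  haveI : IsScalarTower S T N_T' := IsScalarTower.of_algebraMap_smul (fun _ _ => rfl)
  haveI : IsScalarTower S T' N_T' := IsScalarTower.of_algebraMap_smul (fun s n => by
    show algebraMap S T' s • n = algebraMap S T s • n
    rw [IsScalarTower.algebraMap_apply S T T', algebraMap_smul])
  haveI : IsScalarTower S S' N_T' := IsScalarTower.of_algebraMap_smul (fun s n => by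
    show algebraMap S' T' (algebraMap S S' s) • n = algebraMap S T s • n
    rw [← IsScalarTower.algebraMap_apply S S' T', IsScalarTower.algebraMap_apply S T T',
      algebraMap_smul])
  let f : N →ₗ[S] S' ⊗[S] N := TensorProduct.mk S S' N 1
  have hf : IsBaseChange S' f := TensorProduct.isBaseChange S N S'
  let ψ : N →ₗ[S] N_T' := (f_T'.restrictScalars S).comp f_T
  have hψ : IsBaseChange T' ψ := IsBaseChange.comp hf_T hf_T'
  let g : S' ⊗[S] N →ₗ[S'] N_T' := hf.lift ψ
  have hcomp : (g.restrictScalars S).comp f = ψ := hf.lift_comp ψ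
  have hg : IsBaseChange T' g := IsBaseChange.of_comp hf (by rw [hcomp]; exact hψ)
  have h1 := h R' S' (S' ⊗[S] N) f hf
  have h2 := flatAbove_iff_of_flat (R' := R') (S := S) (S₂ := T) (S' := S') (S₂' := T') q q₂ hres
    g hg
  exact h2.symm.trans h1

end FlatTransfer

end Groth.Agent.Lib.helper3.UFlat
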