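import Mathlib
import Groth.Prelude.Def_FlatCA
import Groth.Agent.Lib.Helper3.UFlat3
import Groth.Agent.Lib.Helper3.UFlat5
import Groth.Agent.Lib.Helper3.UFlat9
import Groth.Agent.Lib.Helper3.UFlat10a
import Groth.Agent.Lib.Helper3.UFlat10b
import Groth.Agent.Lib.Helper26.DevTr2
import Groth.Agent.S1252

/-!
# Universal flattening at a point X: finite type algebras over a henselian local ring
(helper3; S1229)
-/

set_option autoImplicit false
set_option linter.style.haveILetI false
set_option linter.unusedSectionVars false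
universe u

open TensorProduct IsLocalRing

namespace Groth.Agent.Lib.helper3.UFlat

section Hens

variable {R S : Type u} [CommRing R] [HenselianLocalRing R] [CommRing S] [Algebra R S]
  [Algebra.FiniteType R S]
  (N : Type u) [AddCommGroup N] [Module S N] [Module R N] [IsScalarTower R S N]
  [Module.Finite S N] (q : Ideal S) [q.IsPrime] [hq : q.LiesOver (maximalIdeal R)]

/-- **Universal flattening ideal at a point, finite type case over a henselian local ring.** -/
theorem exists_flattens_of_henselian :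
    ∃ I : Ideal R, Flattens R S q N I ∧
      (Algebra.FinitePresentation R S → Module.FinitePresentation S N → I.FG) := by
  by_cases hsupp : ∃ x ∈ Module.support ((maximalIdeal R).Fiber S)
      (FlatCA.fiberMod (maximalIdeal R) S N), x.asIdeal = FlatCA.fiberIdeal (maximalIdeal R) q
  swap
  · exact ⟨⊥, flattens_bot_of_not_supp N q hsupp, fun _ _ => Submodule.fg_bot⟩
  obtain ⟨R₁, S₁, _, _, _, _, _, _, _, _, p₁, q₁, _, _, hetR, hetS, hq₁p₁, hdev⟩ :=
    Groth.Agent.S1252.result N (maximalIdeal R) q hsupp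
  obtain ⟨σ, hσ⟩ := exists_section_of_henselian R₁ p₁ hetR
  haveI : Algebra.Etale R R₁ := hetR.1
  haveI : Algebra.Etale S S₁ := hetS.1
  obtain ⟨hq₁q, hresS⟩ := hetS.2
  letI : Algebra R₁ R := σ.toRingHom.toAlgebra
  haveI : IsScalarTower R R₁ R := IsScalarTower.of_algebraMap_eq (fun r => (σ.commutes r).symm)
  haveI hmp₁ : (maximalIdeal R).LiesOver p₁ := ⟨hσ.symm⟩
  have hσsurj : Function.Surjective (algebraMap R₁ R) := fun r =>
    ⟨algebraMap R R₁ r, σ.commutes r⟩
  obtain ⟨S₂, _, _, _, _, _, _, _, _, _, hpo, hsurj₂, het₂⟩ := exists_baseChange_section R R₁ S S₁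
  haveI := hpo
  haveI := het₂
  haveI := hq₁q
  haveI := hq₁p₁
  -- the prime of `S₂`
  obtain ⟨q₂, hq₂, hq₂q₁, hq₂m⟩ := exists_prime_liesOver_both (R := R₁) (S := S₁) (R' := R)
    (S' := S₂) q₁ (maximalIdeal R) (by
      have h1 := hq₁p₁.over
      have h2 := hmp₁.over
      rw [Ideal.under_def] at h1 h2
      rw [← h1, ← h2])
  haveI := hq₂
  haveI := hq₂q₁
  haveI := hq₂m
  haveI hq₂q : q₂.LiesOver q := Ideal.LiesOver.trans q₂ q₁ q
  haveI : IsScalarTower R S₁ S₂ := IsScalarTower.of_algebraMap_eq (fun r => by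
    rw [IsScalarTower.algebraMap_apply R S S₂, IsScalarTower.algebraMap_apply S S₁ S₂,
      ← IsScalarTower.algebraMap_apply R S S₁])
  -- the modules
  have hf₁ : IsBaseChange S₁ (TensorProduct.mk S S₁ N 1) := TensorProduct.isBaseChange S N S₁
  have hdev₁ : FlatCA.HasCompleteDevissageAt R₁ S₁ (S₁ ⊗[S] N) p₁ q₁ :=
    hdev (S₁ ⊗[S] N) (TensorProduct.mk S S₁ N 1) hf₁
  have hf₂ : IsBaseChange S₂ (TensorProduct.mk S₁ S₂ (S₁ ⊗[S] N) 1) :=
    TensorProduct.isBaseChange S₁ _ S₂
  haveI : Algebra.FiniteType R S₁ := Algebra.FiniteType.trans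
    (inferInstance : Algebra.FiniteType R S) (inferInstance : Algebra.FiniteType S S₁)
  haveI : Algebra.FiniteType R₁ S₁ := Algebra.FiniteType.of_restrictScalars_finiteType R R₁ S₁
  haveI : Algebra.IsPushout R₁ R S₁ S₂ := Algebra.IsPushout.symm hpo
  have hκ := residueField_bijective_of_surjective hσsurj p₁ (maximalIdeal R)
  have hdev₂ : FlatCA.HasCompleteDevissageAt R S₂ (S₂ ⊗[S₁] (S₁ ⊗[S] N)) (maximalIdeal R) q₂ :=
    Groth.Agent.Lib.helper26.DevTr.hasCompleteDevissageAt_baseChange R₁ S₁ (S₁ ⊗[S] N) p₁ q₁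
      hdev₁ R (maximalIdeal R) hκ S₂ (S₂ ⊗[S₁] (S₁ ⊗[S] N))
      (TensorProduct.mk S₁ S₂ (S₁ ⊗[S] N) 1) hf₂ q₂
  obtain ⟨D, ⟨DA⟩⟩ := hdev₂
  obtain ⟨I, hI, hIfg⟩ := exists_flattens_of_completeDevissage D DA
  refine ⟨I, ?_, ?_⟩
  · haveI : Module.Flat S S₂ := Module.Flat.trans S S₁ S₂
    have hres : Function.Bijective
        (Ideal.ResidueField.mapₐ q q₂ (Algebra.ofId S S₂) hq₂q.over) :=
      residueField_bijective_trans q q₁ q₂ hresS
        (residueField_bijective_of_surjective hsurj₂ q₁ q₂)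
    have hf_T : IsBaseChange S₂
        (((TensorProduct.mk S₁ S₂ (S₁ ⊗[S] N) 1).restrictScalars S).comp
          (TensorProduct.mk S S₁ N 1)) := IsBaseChange.comp hf₁ hf₂
    exact flattens_descent q q₂ hres _ hf_T I hI
  · intro h1 h2
    haveI := h1
    haveI := h2
    haveI : Algebra.FinitePresentation S S₂ := Algebra.FinitePresentation.trans S S₁ S₂
    apply hIfg
    · exact Algebra.FinitePresentation.trans R S S₂
    · infer_instance

end Hens

end Groth.Agent.Lib.helper3.UFlat
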