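import Mathlib
import Groth.Agent.Lib.Helper3.CDevBC2

/-!
# Universal flattening at a point XI: models of modules over localizations (helper3; S1229)
-/

set_option autoImplicit false
set_option linter.style.haveILetI false
set_option linter.unusedSectionVars false
universe u

open TensorProduct

namespace Groth.Agent.Lib.helper3.UFlat

/-- A finite module over a localization `B = T⁻¹S₀` is the base change of a finite `S₀`-module,
which can be taken finitely presented if the module is. -/
theorem exists_model_module {S₀ B : Type u} [CommRing S₀] [CommRing B] [Algebra S₀ B]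
    (T : Submonoid S₀) [IsLocalization T B]
    (M : Type u) [AddCommGroup M] [Module B M] [Module.Finite B M] :
    ∃ (M₀ : Type u) (_ : AddCommGroup M₀) (_ : Module S₀ M₀), Module.Finite S₀ M₀ ∧
      (Module.FinitePresentation B M → Module.FinitePresentation S₀ M₀) ∧
      Nonempty (M ≃ₗ[B] B ⊗[S₀] M₀) := by
  classical
  obtain ⟨k, ρ, hρ⟩ := Module.Finite.exists_fin' B M
  let ι : (Fin k → S₀) →ₗ[S₀] (Fin k → B) := (Algebra.linearMap S₀ B).compLeft (Fin k)
  have hι : IsBaseChange B ι := (IsBaseChange.linearMap S₀ B).finitePow (Fin k)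
  have hιa : ∀ (v : Fin k → S₀) (i : Fin k), ι v i = algebraMap S₀ B (v i) := fun _ _ => rfl
  -- clearing denominators
  have hclear : ∀ w : Fin k → B, ∃ t : T, ∃ v : Fin k → S₀,
      ι v = (algebraMap S₀ B t) • w := by
    intro w
    obtain ⟨t, ht⟩ := IsLocalization.exist_integer_multiples_of_finset T (Finset.univ.image w)
    have ht' : ∀ i : Fin k, ∃ c : S₀, algebraMap S₀ B c = (t : S₀) • w i := fun i =>
      ht (w i) (Finset.mem_image_of_mem w (Finset.mem_univ i))
    choose c hc using ht'
    refine ⟨t, c, funext fun i => ?_⟩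
    rw [hιa, hc, Pi.smul_apply, Algebra.smul_def, smul_eq_mul]
  have hback : ∀ (t : T) (v : Fin k → S₀) (w : Fin k → B) (U : Submodule B (Fin k → B)),
      ι v = (algebraMap S₀ B t) • w → ι v ∈ U → w ∈ U := by
    intro t v w U htv hv
    have hu := IsLocalization.map_units B t
    have : w = (↑hu.unit⁻¹ : B) • ι v := by
      rw [htv, smul_smul, IsUnit.val_inv_mul, one_smul]
    rw [this]
    exact Submodule.smul_mem _ _ hv
  have main : ∀ K₀ : Submodule S₀ (Fin k → S₀),
      Submodule.span B (ι '' (K₀ : Set (Fin k → S₀))) = LinearMap.ker ρ →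
      Nonempty (M ≃ₗ[B] B ⊗[S₀] ((Fin k → S₀) ⧸ K₀)) := by
    intro K₀ hK₀
    obtain ⟨e⟩ := CDevBC.nonempty_cokerEquiv_baseChange ι hι
      (TensorProduct.mk S₀ B ((Fin k → S₀) ⧸ K₀) 1) (TensorProduct.isBaseChange S₀ _ B) K₀
      (LinearEquiv.refl _ _) (LinearMap.ker ρ) hK₀.symm
    exact ⟨(ρ.quotKerEquivOfSurjective hρ).symm.trans e⟩
  by_cases hfp : Module.FinitePresentation B M
  · obtain ⟨W, hW⟩ := Module.FinitePresentation.fg_ker ρ hρ
    choose t v htv using hclear
    refine ⟨(Fin k → S₀) ⧸ Submodule.span S₀ ((W.image v : Finset _) : Set (Fin k → S₀)),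
      inferInstance, inferInstance, inferInstance, fun _ => ?_, main _ ?_⟩
    · exact Module.finitePresentation_of_surjective (Submodule.mkQ _) (Submodule.mkQ_surjective _)
        (by rw [Submodule.ker_mkQ]; exact ⟨_, rfl⟩)
    · rw [← hW]
      apply le_antisymm
      · rw [Submodule.span_le]
        rintro _ ⟨x, hx, rfl⟩
        refine Submodule.span_induction ?_ ?_ ?_ ?_ hx
        · intro y hy
          rw [Finset.coe_image] at hy
          obtain ⟨w, hw, rfl⟩ := hy
          rw [SetLike.mem_coe, htv]
          exact Submodule.smul_mem _ _ (Submodule.subset_span hw)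
        · rw [map_zero]; exact zero_mem _
        · intro a b _ _ ha hb
          rw [map_add]; exact add_mem ha hb
        · intro c a _ ha
          rw [map_smul, ← algebraMap_smul B c (ι a)]
          exact Submodule.smul_mem _ _ ha
      · rw [Submodule.span_le]
        intro w hw
        refine hback (t w) (v w) w _ (htv w) (Submodule.subset_span ⟨v w, ?_, rfl⟩)
        exact Submodule.subset_span (Finset.mem_coe.mpr (Finset.mem_image_of_mem v hw))
  · refine ⟨(Fin k → S₀) ⧸ ((LinearMap.ker ρ).restrictScalars S₀).comap ι,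
      inferInstance, inferInstance, inferInstance, fun h => absurd h hfp, main _ ?_⟩
    apply le_antisymm
    · rw [Submodule.span_le]
      rintro _ ⟨x, hx, rfl⟩
      exact hx
    · intro w hw
      obtain ⟨t, v, htv⟩ := hclear w
      have hv : ι v ∈ LinearMap.ker ρ := by
        rw [htv]
        exact Submodule.smul_mem _ _ hw
      exact hback t v w _ htv (Submodule.subset_span ⟨v, hv, rfl⟩)

end Groth.Agent.Lib.helper3.UFlat
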