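import Mathlib
import Groth.Prelude.Def_FlatCA
import Groth.Agent.Lib.Helper3.UFlat3
import Groth.Agent.Lib.Helper3.UFlat4
import Groth.Agent.Lib.Helper3.UFlat10
import Groth.Agent.Lib.Helper3.UFlat11

/-!
# Universal flattening at a point XII: local algebras essentially of finite type over a henselian
local ring (helper3; S1229)
-/

set_option autoImplicit false
set_option linter.style.haveILetI false
set_option linter.unusedSectionVars false
universe u

open TensorProduct IsLocalRing

namespace Groth.Agent.Lib.helper3.UFlat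

section Ess

variable {A B : Type u} [CommRing A] [HenselianLocalRing A] [CommRing B] [IsLocalRing B]
  [Algebra A B] [IsLocalHom (algebraMap A B)]
  (S₀ : Type u) [CommRing S₀] [Algebra A S₀] [Algebra S₀ B] [IsScalarTower A S₀ B]
  [Algebra.FiniteType A S₀] (T : Submonoid S₀) [IsLocalization T B]
  (M : Type u) [AddCommGroup M] [Module B M] [Module.Finite B M]

include T in
theorem exists_flattens_of_isLocalization :
    ∃ I : Ideal A, Flattens A B (maximalIdeal B) M I ∧
      (Algebra.FinitePresentation A S₀ → Module.FinitePresentation B M → I.FG) := by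
  obtain ⟨M₀, _, _, hfin, hfp, ⟨e⟩⟩ := exists_model_module (S₀ := S₀) (B := B) T M
  letI : Module A M₀ := Module.compHom M₀ (algebraMap A S₀)
  haveI : IsScalarTower A S₀ M₀ := IsScalarTower.of_algebraMap_smul (fun _ _ => rfl)
  -- the prime
  haveI hq₀ : ((maximalIdeal B).comap (algebraMap S₀ B)).IsPrime := Ideal.comap_isPrime _ _
  have hloc : (maximalIdeal B).comap (algebraMap A B) = maximalIdeal A :=
    ((IsLocalRing.local_hom_TFAE (algebraMap A B)).out 0 4).mp
      (inferInstance : IsLocalHom (algebraMap A B))
  haveI : ((maximalIdeal B).comap (algebraMap S₀ B)).LiesOver (maximalIdeal A) := ⟨by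
    rw [Ideal.under_def, Ideal.comap_comap, ← IsScalarTower.algebraMap_eq, hloc]⟩
  obtain ⟨I, hI, hIfg⟩ := exists_flattens_of_henselian (R := A) (S := S₀) M₀
    ((maximalIdeal B).comap (algebraMap S₀ B))
  refine ⟨I, ?_, fun h1 h2 => hIfg h1 (hfp h2)⟩
  haveI : Module.Flat S₀ B := IsLocalization.flat B T
  haveI hover : (maximalIdeal B).LiesOver ((maximalIdeal B).comap (algebraMap S₀ B)) := ⟨rfl⟩
  have hres : Function.Bijective (Ideal.ResidueField.mapₐ
      ((maximalIdeal B).comap (algebraMap S₀ B)) (maximalIdeal B) (Algebra.ofId S₀ B)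
      hover.over) :=
    (RingHom.surjectiveOnStalks_of_isLocalization (M := T) B).residueFieldMap_bijective
      _ _ hover.over
  have h1 : Flattens A B (maximalIdeal B) (B ⊗[S₀] M₀) I :=
    flattens_ascent ((maximalIdeal B).comap (algebraMap S₀ B)) (maximalIdeal B) hres
      (TensorProduct.mk S₀ B M₀ 1) (TensorProduct.isBaseChange S₀ M₀ B) I hI
  exact flattens_of_linearEquiv (maximalIdeal B) e.symm I h1

end Ess

end Groth.Agent.Lib.helper3.UFlat
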