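import Mathlib
import Groth.Prelude.Def_FlatCA
import Groth.Agent.Lib.Helper3.UFlat10
import Groth.Agent.Lib.Helper3.HensFinite
import Groth.Agent.S6926

/-!
# The flattening ideal over a complete local ring is universal for all local test rings
(helper3; for S6927)
-/

set_option autoImplicit false
set_option linter.style.haveILetI false
set_option linter.unusedSectionVars false
universe u

open TensorProduct IsLocalRing

namespace Groth.Agent.Lib.helper3.UFlat

attribute [local instance] Algebra.TensorProduct.rightAlgebra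

section Complete

variable {R S : Type u} [CommRing R] [IsLocalRing R] [IsNoetherianRing R]
  [IsAdicComplete (maximalIdeal R) R] [CommRing S] [IsNoetherianRing S] [Algebra R S]
  {M : Type u} [AddCommGroup M] [Module S M] [Module R M] [IsScalarTower R S M] [Module.Finite S M]
  (I : Ideal R) (hIm : I ≤ maximalIdeal R)
  (hI : (∀ (q : Ideal S) [q.IsPrime], q.comap (algebraMap R S) = maximalIdeal R →
      Module.Flat (R ⧸ I) ((R ⧸ I) ⊗[R] LocalizedModule q.primeCompl M)))
  (hmin : ∀ J : Ideal R, (∀ (q : Ideal S) [q.IsPrime],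
      q.comap (algebraMap R S) = maximalIdeal R →
      Module.Flat (R ⧸ J) ((R ⧸ J) ⊗[R] LocalizedModule q.primeCompl M)) → I ≤ J)

include hIm hI hmin in
theorem le_ker_of_flattens (R'' : Type u) [CommRing R''] [IsLocalRing R''] [IsNoetherianRing R'']
    [Algebra R R''] [IsLocalHom (algebraMap R R'')]
    (hJ : ∀ (q : Ideal S) [q.IsPrime], q.LiesOver (maximalIdeal R) →
      ∃ J : Ideal R, Flattens R S q M J ∧ J.map (algebraMap R R'') = ⊥) :
    I ≤ RingHom.ker (algebraMap R R'') := by
  haveI : Algebra.IsPushout R S R'' (R'' ⊗[R] S) := Algebra.IsPushout.symm inferInstance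
  refine (Groth.Agent.S6926.result (R := R) (S := S) (R' := R'') (S' := R'' ⊗[R] S)
    (M := M) (M' := (R'' ⊗[R] S) ⊗[S] M) (TensorProduct.mk S (R'' ⊗[R] S) M 1)
    (TensorProduct.isBaseChange S M (R'' ⊗[R] S)) I hIm hI hmin).mp ?_
  intro q'' _ hq''
  have hloc : (maximalIdeal R'').comap (algebraMap R R'') = maximalIdeal R :=
    ((IsLocalRing.local_hom_TFAE (algebraMap R R'')).out 0 4).mp
      (inferInstance : IsLocalHom (algebraMap R R''))
  haveI hqp : (q''.comap (algebraMap S (R'' ⊗[R] S))).IsPrime := Ideal.comap_isPrime _ _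
  have hq : (q''.comap (algebraMap S (R'' ⊗[R] S))).LiesOver (maximalIdeal R) := ⟨by
    rw [Ideal.under_def, Ideal.comap_comap, ← IsScalarTower.algebraMap_eq,
      IsScalarTower.algebraMap_eq R R'' (R'' ⊗[R] S), ← Ideal.comap_comap, hq'', hloc]⟩
  obtain ⟨J, hJ1, hJ2⟩ := hJ _ hq
  have h1 := (hJ1 R'' (R'' ⊗[R] S) ((R'' ⊗[R] S) ⊗[S] M) (TensorProduct.mk S (R'' ⊗[R] S) M 1)
    (TensorProduct.isBaseChange S M (R'' ⊗[R] S))).mpr hJ2
  exact h1 q'' ⟨rfl⟩ ⟨hq''.symm⟩

end Complete

end Groth.Agent.Lib.helper3.UFlat
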