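import Groth.Agent.Lib.Helper3.UnivGamma2
import Groth.Agent.Lib.Helper3.LamPoly4

/-!
Finer information on the universal polynomial `Pγ n` for `γ^n(xy)`: every monomial involves both
families of variables; stability of the `γ`-filtration pieces under products (helper3).
-/

set_option autoImplicit false
universe u

namespace Groth.Agent.Lib.helper3.UnivGamma

open MvPolynomial Finset LambdaRing
open Groth.Agent.Lib.helper3.GammaLib Groth.Agent.Lib.helper3.GammaFil
open Groth.Agent.Lib.helper3.WeightLib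

section Kill

variable {τ : Type} [DecidableEq τ]

/-- if killing the variables in `S` kills `Γ`, every monomial of `Γ` involves a variable of `S` -/
theorem exists_mem_of_aeval_kill (S : Set τ) [DecidablePred (· ∈ S)] (Γ : MvPolynomial τ ℤ)
    (h : aeval (fun t : τ => if t ∈ S then (0 : MvPolynomial τ ℤ) else X t) Γ = 0) :
    ∀ μ ∈ Γ.support, ∃ t ∈ S, μ t ≠ 0 := by
  intro μ hμ
  by_contra hcon
  have hfree : ∀ t ∈ S, μ t = 0 := by
    intro t ht
    by_contra h0
    exact hcon ⟨t, ht, h0⟩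
  set vals : τ → MvPolynomial τ ℤ := fun t => if t ∈ S then 0 else X t with hvals
  have hmon : ∀ ν : τ →₀ ℕ, coeff μ (aeval vals (monomial ν (1 : ℤ))) = if ν = μ then 1 else 0 := by
    intro ν
    rw [aeval_monomial, map_one, one_mul]
    by_cases hν : ∃ t ∈ S, ν t ≠ 0
    · obtain ⟨t, ht, h0⟩ := hν
      have h1 : (ν.prod fun i k => vals i ^ k) = 0 := by
        rw [Finsupp.prod]
        apply Finset.prod_eq_zero (Finsupp.mem_support_iff.mpr h0)
        rw [hvals]
        simp only [if_pos ht]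
        exact zero_pow h0
      rw [h1, coeff_zero, if_neg]
      rintro rfl
      exact h0 (hfree t ht)
    · have h1 : (ν.prod fun i k => vals i ^ k) = monomial ν 1 := by
        rw [monomial_eq, C_1, one_mul]
        apply Finsupp.prod_congr
        intro t ht
        have : t ∉ S := fun hS => hν ⟨t, hS, Finsupp.mem_support_iff.mp ht⟩
        rw [hvals]
        simp only [if_neg this]
      rw [h1, coeff_monomial]
  have h2 : coeff μ (aeval vals Γ) = coeff μ Γ := by
    conv_lhs => rw [Γ.as_sum, map_sum, coeff_sum]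
    rw [Finset.sum_eq_single μ]
    · have : monomial μ (coeff μ Γ) = (coeff μ Γ) • monomial μ (1 : ℤ) := by
        rw [smul_monomial, smul_eq_mul, mul_one]
      rw [this, map_smul, coeff_smul, hmon μ, if_pos rfl, smul_eq_mul, mul_one]
    · intro ν _ hν
      have : monomial ν (coeff ν Γ) = (coeff ν Γ) • monomial ν (1 : ℤ) := by
        rw [smul_monomial, smul_eq_mul, mul_one]
      rw [this, map_smul, coeff_smul, hmon ν, if_neg hν, smul_zero]
    · intro hn; exact absurd hμ hn
  rw [h, coeff_zero] at h2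
  exact (mem_support_iff.mp hμ) h2.symm

end Kill

theorem constantCoeff_L (n k : ℕ) : constantCoeff (L n (k + 1)) = 0 := by
  induction k using Nat.strong_induction_on with
  | _ k ih =>
    rw [L_succ, map_sub, map_sum]
    have h1 : constantCoeff (Xn n k) = 0 := by
      rw [Xn]; split_ifs <;> simp
    rw [h1, zero_sub, neg_eq_zero]
    refine Finset.sum_eq_zero fun j _ => ?_
    rw [map_mul, ih j j.isLt, mul_zero]

/-- evaluating an isobaric `P` at a point whose `inr`-coordinates vanish gives zero -/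
theorem aeval_eq_zero_of_inr {n : ℕ} {R : Type*} [CommRing R] (P : MvPolynomial (Fin n ⊕ Fin n) ℤ)
    (hn : 1 ≤ n) (hP : IsWeightedHomogeneous
      (Sum.elim (fun k : Fin n => (((k : ℕ) + 1, 0) : ℕ × ℕ)) (fun k : Fin n => ((0, (k : ℕ) + 1) : ℕ × ℕ)))
      P ((n, n) : ℕ × ℕ)) (G : Fin n ⊕ Fin n → R) (hG : ∀ m, G (Sum.inr m) = 0) :
    aeval G P = 0 := by
  rw [P.as_sum, map_sum]
  refine Finset.sum_eq_zero fun d hd => ?_
  rw [aeval_monomial]
  have hw := hP (mem_support_iff.mp hd)
  have h2 : ∃ m : Fin n, d (Sum.inr m) ≠ 0 := by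
    by_contra hcon
    have hall : ∀ m : Fin n, d (Sum.inr m) = 0 := by
      intro m; by_contra h0; exact hcon ⟨m, h0⟩
    have h3 := congrArg Prod.snd hw
    rw [Finsupp.weight_apply, Finsupp.sum, Prod.snd_sum] at h3
    have h4 : ∑ c ∈ d.support, (d c • (Sum.elim (fun k : Fin n => (((k : ℕ) + 1, 0) : ℕ × ℕ))
        (fun k : Fin n => ((0, (k : ℕ) + 1) : ℕ × ℕ))) c).2 = 0 := by
      refine Finset.sum_eq_zero fun c _ => ?_
      rcases c with c | c
      · simp
      · simp [hall c]
    rw [h4] at h3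
    simp only at h3
    omega
  obtain ⟨m, hm⟩ := h2
  have h5 : (d.prod fun i k => G i ^ k) = 0 := by
    rw [Finsupp.prod]
    apply Finset.prod_eq_zero (Finsupp.mem_support_iff.mpr hm)
    rw [hG m]
    exact zero_pow hm
  rw [h5, mul_zero]

theorem aeval_eq_zero_of_inl {n : ℕ} {R : Type*} [CommRing R] (P : MvPolynomial (Fin n ⊕ Fin n) ℤ)
    (hn : 1 ≤ n) (hP : IsWeightedHomogeneous
      (Sum.elim (fun k : Fin n => (((k : ℕ) + 1, 0) : ℕ × ℕ)) (fun k : Fin n => ((0, (k : ℕ) + 1) : ℕ × ℕ)))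
      P ((n, n) : ℕ × ℕ)) (G : Fin n ⊕ Fin n → R) (hG : ∀ m, G (Sum.inl m) = 0) :
    aeval G P = 0 := by
  rw [P.as_sum, map_sum]
  refine Finset.sum_eq_zero fun d hd => ?_
  rw [aeval_monomial]
  have hw := hP (mem_support_iff.mp hd)
  have h2 : ∃ m : Fin n, d (Sum.inl m) ≠ 0 := by
    by_contra hcon
    have hall : ∀ m : Fin n, d (Sum.inl m) = 0 := by
      intro m; by_contra h0; exact hcon ⟨m, h0⟩
    have h3 := congrArg Prod.fst hw
    rw [Finsupp.weight_apply, Finsupp.sum, Prod.fst_sum] at h3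
    have h4 : ∑ c ∈ d.support, (d c • (Sum.elim (fun k : Fin n => (((k : ℕ) + 1, 0) : ℕ × ℕ))
        (fun k : Fin n => ((0, (k : ℕ) + 1) : ℕ × ℕ))) c).1 = 0 := by
      refine Finset.sum_eq_zero fun c _ => ?_
      rcases c with c | c
      · simp [hall c]
      · simp
    rw [h4] at h3
    simp only at h3
    omega
  obtain ⟨m, hm⟩ := h2
  have h5 : (d.prod fun i k => G i ^ k) = 0 := by
    rw [Finsupp.prod]
    apply Finset.prod_eq_zero (Finsupp.mem_support_iff.mpr hm)
    rw [hG m]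
    exact zero_pow hm
  rw [h5, mul_zero]

/-- every monomial of `Pγ n` involves a variable of the second family -/
theorem Pγ_support_inr (n : ℕ) : ∀ μ ∈ (Pγ n).support, ∃ r : Fin n, μ (Sum.inr r) ≠ 0 := by
  classical
  intro μ hμ
  have key : aeval (fun t : Fin n ⊕ Fin n => if t ∈ Set.range (Sum.inr : Fin n → Fin n ⊕ Fin n)
      then (0 : MvPolynomial (Fin n ⊕ Fin n) ℤ) else X t) (Pγ n) = 0 := by
    rw [Pγ, map_sum]
    refine Finset.sum_eq_zero fun k _ => ?_
    rw [map_mul, aeval_bind₁]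
    have : aeval (fun i : Fin (k + 1) ⊕ Fin (k + 1) =>
        aeval (fun t : Fin n ⊕ Fin n => if t ∈ Set.range (Sum.inr : Fin n → Fin n ⊕ Fin n)
          then (0 : MvPolynomial (Fin n ⊕ Fin n) ℤ) else X t)
        (Sum.elim (fun m : Fin (k + 1) => rename Sum.inl (L n ((m : ℕ) + 1)))
          (fun m : Fin (k + 1) => rename Sum.inr (L n ((m : ℕ) + 1))) i)) (Pn (k + 1)) = 0 := by
      apply aeval_eq_zero_of_inr (Pn (k + 1)) (by omega) (isMulPoly_Pn (k + 1)).2
      intro m
      simp only [Sum.elim_inr, aeval_rename]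
      have h1 : ((fun t : Fin n ⊕ Fin n => if t ∈ Set.range (Sum.inr : Fin n → Fin n ⊕ Fin n)
          then (0 : MvPolynomial (Fin n ⊕ Fin n) ℤ) else X t) ∘ Sum.inr) = fun _ => 0 := by
        funext r
        simp
      rw [h1, aeval_zero', constantCoeff_L, map_zero]
    rw [this, mul_zero]
  obtain ⟨t, ⟨r, rfl⟩, ht⟩ := exists_mem_of_aeval_kill _ (Pγ n) key μ hμ
  exact ⟨r, ht⟩

/-- every monomial of `Pγ n` involves a variable of the first family -/
theorem Pγ_support_inl (n : ℕ) : ∀ μ ∈ (Pγ n).support, ∃ r : Fin n, μ (Sum.inl r) ≠ 0 := by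
  classical
  intro μ hμ
  have key : aeval (fun t : Fin n ⊕ Fin n => if t ∈ Set.range (Sum.inl : Fin n → Fin n ⊕ Fin n)
      then (0 : MvPolynomial (Fin n ⊕ Fin n) ℤ) else X t) (Pγ n) = 0 := by
    rw [Pγ, map_sum]
    refine Finset.sum_eq_zero fun k _ => ?_
    rw [map_mul, aeval_bind₁]
    have : aeval (fun i : Fin (k + 1) ⊕ Fin (k + 1) =>
        aeval (fun t : Fin n ⊕ Fin n => if t ∈ Set.range (Sum.inl : Fin n → Fin n ⊕ Fin n)
          then (0 : MvPolynomial (Fin n ⊕ Fin n) ℤ) else X t)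
        (Sum.elim (fun m : Fin (k + 1) => rename Sum.inl (L n ((m : ℕ) + 1)))
          (fun m : Fin (k + 1) => rename Sum.inr (L n ((m : ℕ) + 1))) i)) (Pn (k + 1)) = 0 := by
      apply aeval_eq_zero_of_inl (Pn (k + 1)) (by omega) (isMulPoly_Pn (k + 1)).2
      intro m
      simp only [Sum.elim_inl, aeval_rename]
      have h1 : ((fun t : Fin n ⊕ Fin n => if t ∈ Set.range (Sum.inl : Fin n → Fin n ⊕ Fin n)
          then (0 : MvPolynomial (Fin n ⊕ Fin n) ℤ) else X t) ∘ Sum.inl) = fun _ => 0 := by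
        funext r
        simp
      rw [h1, aeval_zero', constantCoeff_L, map_zero]
    rw [this, mul_zero]
  obtain ⟨t, ⟨r, rfl⟩, ht⟩ := exists_mem_of_aeval_kill _ (Pγ n) key μ hμ
  exact ⟨r, ht⟩

end Groth.Agent.Lib.helper3.UnivGamma
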