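import Groth.Agent.Lib.Helper3.UnivGamma3

/-!
Stability of the pieces of a multiplicative filtration under `γ`-operations of products, and the
leading term of `γ^{a+b}(y y')` (helper3).
-/

set_option autoImplicit false
universe u

namespace Groth.Agent.Lib.helper3.UnivGamma

open MvPolynomial Finset LambdaRing
open Groth.Agent.Lib.helper3.GammaLib Groth.Agent.Lib.helper3.GammaFil
open Groth.Agent.Lib.helper3.WeightLib

section Vmax

variable {A : Type u} [CommRing A] {V : ℕ → Ideal A}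

/-- the filtration `k ↦ V (max k a)` (with `⊤` in degree `0`) -/
def Vmax (V : ℕ → Ideal A) (a : ℕ) : ℕ → Ideal A := fun k => if k = 0 then ⊤ else V (max k a)

theorem Vmax_pos (a k : ℕ) (hk : 1 ≤ k) : Vmax V a k = V (max k a) := by
  rw [Vmax, if_neg (by omega)]

theorem Vmax_zero_left (a : ℕ) : Vmax V a 0 = ⊤ := by
  rw [Vmax, if_pos rfl]

theorem isMulFil_Vmax (hV : IsMulFil V) (a : ℕ) : IsMulFil (Vmax V a) where
  zero := Vmax_zero_left a
  mul i j x y hx hy := by
    rcases Nat.eq_zero_or_pos i with rfl | hi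
    · rw [zero_add]; exact Ideal.mul_mem_left _ _ hy
    rcases Nat.eq_zero_or_pos j with rfl | hj
    · rw [add_zero]; exact Ideal.mul_mem_right _ _ hx
    rw [Vmax_pos a i hi] at hx
    rw [Vmax_pos a j hj] at hy
    rw [Vmax_pos a (i + j) (by omega)]
    refine hV.anti _ _ ?_ (hV.mul _ _ _ _ hx hy)
    omega
  anti i j hij := by
    rcases Nat.eq_zero_or_pos i with rfl | hi
    · rw [Vmax_zero_left]; exact le_top
    rw [Vmax_pos a i hi, Vmax_pos a j (by omega)]
    exact hV.anti _ _ (by omega)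

theorem Vmax_zero (hV : IsMulFil V) : Vmax V 0 = V := by
  funext k
  rcases Nat.eq_zero_or_pos k with rfl | hk
  · rw [Vmax_zero_left, hV.zero]
  · rw [Vmax_pos 0 k hk, Nat.max_zero]

variable [LambdaOps A]

theorem gok_Vmax_iff (a : ℕ) (y : A) :
    GOK (Vmax V a) y ↔ ∀ i : ℕ, 1 ≤ i → gamma i y ∈ V (max i a) := by
  constructor
  · intro h i hi
    have := h i
    rwa [Vmax_pos a i hi] at this
  · intro h i
    rcases Nat.eq_zero_or_pos i with rfl | hi
    · rw [Vmax_zero_left]; trivial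
    · rw [Vmax_pos a i hi]; exact h i hi

theorem GOK.mono_Vmax (hV : IsMulFil V) {a b : ℕ} (hab : a ≤ b) {y : A}
    (h : GOK (Vmax V b) y) : GOK (Vmax V a) y := by
  rw [gok_Vmax_iff] at h ⊢
  intro i hi
  exact hV.anti _ _ (by omega) (h i hi)

theorem GOK.mem_of_Vmax {a : ℕ} {y : A} (h : GOK (Vmax V a) y) (hV : IsMulFil V) : y ∈ V a := by
  rw [gok_Vmax_iff] at h
  have := h 1 le_rfl
  rw [gamma_one_left] at this
  exact hV.anti _ _ (by omega) this

end Vmax

section Weights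

/-- the weights `max (k+1) a` on the first family and `max (k+1) b` on the second -/
def wab (n a b : ℕ) : Fin n ⊕ Fin n → ℕ :=
  Sum.elim (fun k => max ((k : ℕ) + 1) a) (fun k => max ((k : ℕ) + 1) b)

theorem wt_add {τ : Type} [Fintype τ] (w : τ → ℕ) (μ ν : τ →₀ ℕ) :
    wt w (μ + ν) = wt w μ + wt w ν := by
  simp only [wt, Finsupp.add_apply, mul_add, Finset.sum_add_distrib]

theorem wt_single {τ : Type} [Fintype τ] [DecidableEq τ] (w : τ → ℕ) (t : τ) :
    wt w (Finsupp.single t 1) = w t := by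
  rw [wt, Finset.sum_eq_single t]
  · rw [Finsupp.single_eq_same, mul_one]
  · intro s _ hs
    rw [Finsupp.single_eq_of_ne hs, mul_zero]
  · intro h; exact absurd (Finset.mem_univ t) h

theorem le_wt {τ : Type} [Fintype τ] (w : τ → ℕ) (μ : τ →₀ ℕ) (t : τ) : w t * μ t ≤ wt w μ :=
  Finset.single_le_sum (f := fun t => w t * μ t) (fun _ _ => Nat.zero_le _) (Finset.mem_univ t)

theorem wt_mono {τ : Type} [Fintype τ] (w w' : τ → ℕ) (h : ∀ t, w t ≤ w' t) (μ : τ →₀ ℕ) :
    wt w μ ≤ wt w' μ :=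
  Finset.sum_le_sum fun t _ => Nat.mul_le_mul_right _ (h t)

theorem w2_le_wab (n a b : ℕ) (t : Fin n ⊕ Fin n) : w2 n t ≤ wab n a b t := by
  rcases t with t | t
  · exact le_max_left _ _
  · exact le_max_left _ _

theorem num1 (n a b k : ℕ) (μ : (Fin n ⊕ Fin n) →₀ ℕ) (r₁ r₂ : Fin n)
    (h1 : μ (Sum.inl r₁) ≠ 0) (h2 : μ (Sum.inr r₂) ≠ 0) (hk : k ≤ wt (w2 n) μ) :
    max k (a + b) ≤ wt (wab n a b) μ := by
  have hk' := hk.trans (wt_mono _ _ (w2_le_wab n a b) μ)
  have h3 : wt (wab n a b) μ = ∑ r : Fin n, wab n a b (Sum.inl r) * μ (Sum.inl r) +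
      ∑ r : Fin n, wab n a b (Sum.inr r) * μ (Sum.inr r) := by
    rw [wt, Fintype.sum_sum_type]
  have h4 : a ≤ ∑ r : Fin n, wab n a b (Sum.inl r) * μ (Sum.inl r) := by
    refine le_trans ?_ (Finset.single_le_sum (f := fun r => wab n a b (Sum.inl r) * μ (Sum.inl r))
      (fun _ _ => Nat.zero_le _) (Finset.mem_univ r₁))
    calc a ≤ wab n a b (Sum.inl r₁) * 1 := by rw [mul_one]; exact le_max_right _ _
      _ ≤ _ := Nat.mul_le_mul_left _ (Nat.one_le_iff_ne_zero.mpr h1)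
  have h5 : b ≤ ∑ r : Fin n, wab n a b (Sum.inr r) * μ (Sum.inr r) := by
    refine le_trans ?_ (Finset.single_le_sum (f := fun r => wab n a b (Sum.inr r) * μ (Sum.inr r))
      (fun _ _ => Nat.zero_le _) (Finset.mem_univ r₂))
    calc b ≤ wab n a b (Sum.inr r₂) * 1 := by rw [mul_one]; exact le_max_right _ _
      _ ≤ _ := Nat.mul_le_mul_left _ (Nat.one_le_iff_ne_zero.mpr h2)
  omega

end Weights

section Mul

variable {A : Type u} [CommRing A] [LambdaOps A] {V : ℕ → Ideal A}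

/-- products: if `γ^i x ∈ V (max i a)` and `γ^i y ∈ V (max i b)` for `i ≥ 1`, then
`γ^i (xy) ∈ V (max i (a+b))` -/
theorem GOK.mul_Vmax (hA : IsSpecial A) (hV : IsMulFil V) {a b : ℕ} {x y : A}
    (hx : GOK (Vmax V a) x) (hy : GOK (Vmax V b) y) : GOK (Vmax V (a + b)) (x * y) := by
  rw [gok_Vmax_iff] at hx hy ⊢
  intro k hk
  rw [← aeval_Pγ hA k hk x y]
  apply aeval_mem_of_weight hV (wab k a b) _ _ (Pγ k)
  · intro μ hμ
    obtain ⟨r₁, h1⟩ := Pγ_support_inl k μ hμ
    obtain ⟨r₂, h2⟩ := Pγ_support_inr k μ hμ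
    exact num1 k a b k μ r₁ r₂ h1 h2 (weight_Pγ k hk μ hμ)
  · rintro (r | r)
    · exact hx _ (by omega)
    · exact hy _ (by omega)

end Mul

end Groth.Agent.Lib.helper3.UnivGamma
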