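import Groth.Agent.Lib.Helper3.UnivGamma4

/-!
The leading term of `γ^{a+b}(y y')` and of `γ^m(γ^m x)` modulo the next step of a multiplicative
filtration (helper3).
-/

set_option autoImplicit false
universe u

namespace Groth.Agent.Lib.helper3.UnivGamma

open MvPolynomial Finset LambdaRing
open Groth.Agent.Lib.helper3.GammaLib Groth.Agent.Lib.helper3.GammaFil
open Groth.Agent.Lib.helper3.WeightLib

/-- `θ_m = (-1)^{m-1} (m-1)!` -/
def theta (m : ℕ) : ℤ := (-1) ^ (m - 1) * ((m - 1).factorial : ℤ)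

section Prod

/-- the exponent of `X_{p+1} Y_{q+1}` -/
noncomputable def mu0 (p q : ℕ) : (Fin (p + 1 + (q + 1)) ⊕ Fin (p + 1 + (q + 1))) →₀ ℕ :=
  Finsupp.single (Sum.inl ⟨p, by omega⟩) 1 + Finsupp.single (Sum.inr ⟨q, by omega⟩) 1

/-- the coefficient of `γ^{p+1}(y) γ^{q+1}(y')` in `γ^{p+q+2}(y y')` -/
noncomputable def cab (p q : ℕ) : ℤ := coeff (mu0 p q) (Pγ (p + 1 + (q + 1)))

theorem num2 (n a b : ℕ) (ha : 1 ≤ a) (hb : 1 ≤ b) (hn : n = a + b) (μ : (Fin n ⊕ Fin n) →₀ ℕ)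
    (hμ : μ ∈ (Pγ n).support)
    (hne : ∀ r₁ r₂ : Fin n, (r₁ : ℕ) + 1 = a → (r₂ : ℕ) + 1 = b →
      μ ≠ Finsupp.single (Sum.inl r₁) 1 + Finsupp.single (Sum.inr r₂) 1) :
    n + 1 ≤ wt (wab n a b) μ := by
  classical
  obtain ⟨r₁, h1⟩ := Pγ_support_inl n μ hμ
  obtain ⟨r₂, h2⟩ := Pγ_support_inr n μ hμ
  set ν : (Fin n ⊕ Fin n) →₀ ℕ := Finsupp.single (Sum.inl r₁) 1 + Finsupp.single (Sum.inr r₂) 1
    with hν
  have hle : ν ≤ μ := by
    intro t
    rw [hν, Finsupp.add_apply]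
    by_cases ht1 : t = Sum.inl r₁
    · subst ht1
      rw [Finsupp.single_eq_same, Finsupp.single_eq_of_ne (by simp), add_zero]
      exact Nat.one_le_iff_ne_zero.mpr h1
    · by_cases ht2 : t = Sum.inr r₂
      · subst ht2
        rw [Finsupp.single_eq_same, Finsupp.single_eq_of_ne (by simp), zero_add]
        exact Nat.one_le_iff_ne_zero.mpr h2
      · rw [Finsupp.single_eq_of_ne ht1, Finsupp.single_eq_of_ne ht2]
        exact Nat.zero_le _
  have hμν : μ = ν + (μ - ν) := (add_tsub_cancel_of_le hle).symm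
  have hwν : ∀ w : Fin n ⊕ Fin n → ℕ, wt w ν = w (Sum.inl r₁) + w (Sum.inr r₂) := by
    intro w
    rw [hν, wt_add, wt_single, wt_single]
  have hw := weight_Pγ n (by omega) μ hμ
  have e1 : wab n a b (Sum.inl r₁) = max ((r₁ : ℕ) + 1) a := rfl
  have e2 : wab n a b (Sum.inr r₂) = max ((r₂ : ℕ) + 1) b := rfl
  by_cases hρ : μ - ν = 0
  · rw [hρ, add_zero] at hμν
    rw [hμν, hwν]
    rw [hμν, hwν] at hw
    by_contra hcon
    have e3 : w2 n (Sum.inl r₁) = (r₁ : ℕ) + 1 := rfl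
    have e4 : w2 n (Sum.inr r₂) = (r₂ : ℕ) + 1 := rfl
    rw [e1, e2] at hcon
    rw [e3, e4] at hw
    exact hne r₁ r₂ (by omega) (by omega) hμν
  · obtain ⟨t, ht⟩ : ∃ t, (μ - ν) t ≠ 0 := by
      by_contra hcon
      apply hρ
      ext t
      by_contra h0
      exact hcon ⟨t, h0⟩
    have h3 : 1 ≤ wt (wab n a b) (μ - ν) := by
      refine le_trans ?_ (le_wt _ _ t)
      have : 1 ≤ wab n a b t := by
        rcases t with t | t
        · exact le_trans ha (le_max_right _ _)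
        · exact le_trans hb (le_max_right _ _)
      exact Nat.mul_le_mul this (Nat.one_le_iff_ne_zero.mpr ht)
    rw [hμν, wt_add, hwν, e1, e2]
    omega

variable {A : Type u} [CommRing A] [LambdaOps A] {V : ℕ → Ideal A}

/-- the leading term of `γ^{a+b}(y y')` for `y` of level `a = p+1` and `y'` of level `b = q+1` -/
theorem gamma_mul_sub_mem (hA : IsSpecial A) (hV : IsMulFil V) (p q : ℕ) {y y' : A}
    (hy : GOK (Vmax V (p + 1)) y) (hy' : GOK (Vmax V (q + 1)) y') :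
    gamma (p + 1 + (q + 1)) (y * y') - (cab p q : A) * (gamma (p + 1) y * gamma (q + 1) y') ∈
      V (p + 1 + (q + 1) + 1) := by
  classical
  rw [gok_Vmax_iff] at hy hy'
  have hmon : (mu0 p q).prod (fun i k => (Sum.elim
      (fun r : Fin (p + 1 + (q + 1)) => gamma ((r : ℕ) + 1) y)
      (fun r : Fin (p + 1 + (q + 1)) => gamma ((r : ℕ) + 1) y')) i ^ k) =
      gamma (p + 1) y * gamma (q + 1) y' := by
    rw [mu0, Finsupp.prod_add_index' (h := fun i k => (Sum.elim
      (fun r : Fin (p + 1 + (q + 1)) => gamma ((r : ℕ) + 1) y)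
      (fun r : Fin (p + 1 + (q + 1)) => gamma ((r : ℕ) + 1) y')) i ^ k)
      (fun _ => pow_zero _) (fun _ _ _ => pow_add _ _ _),
      Finsupp.prod_single_index (h := fun i k => (Sum.elim
      (fun r : Fin (p + 1 + (q + 1)) => gamma ((r : ℕ) + 1) y)
      (fun r : Fin (p + 1 + (q + 1)) => gamma ((r : ℕ) + 1) y')) i ^ k) (pow_zero _),
      Finsupp.prod_single_index (h := fun i k => (Sum.elim
      (fun r : Fin (p + 1 + (q + 1)) => gamma ((r : ℕ) + 1) y)
      (fun r : Fin (p + 1 + (q + 1)) => gamma ((r : ℕ) + 1) y')) i ^ k) (pow_zero _), pow_one,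
      pow_one]
    rfl
  have h1 : aeval (Sum.elim (fun r : Fin (p + 1 + (q + 1)) => gamma ((r : ℕ) + 1) y)
      (fun r : Fin (p + 1 + (q + 1)) => gamma ((r : ℕ) + 1) y'))
      (Pγ (p + 1 + (q + 1)) - monomial (mu0 p q) (cab p q)) =
      gamma (p + 1 + (q + 1)) (y * y') - (cab p q : A) * (gamma (p + 1) y * gamma (q + 1) y') := by
    rw [map_sub, aeval_Pγ hA _ (by omega) y y', aeval_monomial, hmon, eq_intCast]
  rw [← h1]
  apply aeval_mem_of_weight hV (wab (p + 1 + (q + 1)) (p + 1) (q + 1))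
  · rintro (r | r)
    · exact hy _ (by omega)
    · exact hy' _ (by omega)
  · intro μ hμ
    rw [mem_support_iff, coeff_sub, coeff_monomial] at hμ
    have hne : μ ≠ mu0 p q := by
      rintro rfl
      rw [if_pos rfl, cab, sub_self] at hμ
      exact hμ rfl
    rw [if_neg (Ne.symm hne), sub_zero] at hμ
    apply num2 _ (p + 1) (q + 1) (by omega) (by omega) rfl μ (mem_support_iff.mpr hμ)
    intro r₁ r₂ hr₁ hr₂ heq
    apply hne
    rw [heq, mu0]
    congr 3
    · exact Fin.ext (by simpa using hr₁)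
    · exact Fin.ext (by simpa using hr₂)

end Prod

end Groth.Agent.Lib.helper3.UnivGamma
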