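/-
helper3: EGA IV 14.3.x: a morphism locally of finite presentation such that, after every base
change `Y' ⟶ Y` of finite type with `Y'` irreducible, all irreducible components of `X ×_Y Y'`
dominate `Y'`, is universally open.
-/
import Groth.Agent.Lib.Helper3.UnivOpenAffineSpace

set_option autoImplicit false

namespace Groth.Agent.Lib.helper3.UOA

universe u

open AlgebraicGeometry CategoryTheory Limits MorphismProperty

/-- Statement S2558. -/
theorem universallyOpen_of_components_dominate {X Y : Scheme.{u}} (f : X ⟶ Y)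
    [LocallyOfFinitePresentation f]
    (h : ∀ (Y' : Scheme.{u}) (g : Y' ⟶ Y) [IrreducibleSpace Y'] [LocallyOfFiniteType g]
      [QuasiCompact g],
      ∀ Z ∈ irreducibleComponents (↥(pullback f g) : Type u),
        Dense ((pullback.snd f g).base '' Z)) :
    UniversallyOpen f := by
  apply universallyOpen_of_affineSpace
  intro n _
  apply isOpenMap_of_generalizingMap
  intro x' y'' hy''
  obtain ⟨W, hW⟩ : ∃ W : TopologicalSpace.Closeds ↥(𝔸(ULift.{u} (Fin n); Y)),
      (W : Set _) = closure {y''} := ⟨⟨closure {y''}, isClosed_closure⟩, rfl⟩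
  obtain ⟨Y', ι, hιcl, hrange⟩ : ∃ (Y' : Scheme.{u}) (ι : Y' ⟶ 𝔸(ULift.{u} (Fin n); Y)),
      IsClosedImmersion ι ∧ Set.range ι.base = closure {y''} :=
    ⟨_, (Scheme.IdealSheafData.vanishingIdeal W).subschemeι, inferInstance, by
      rw [Scheme.IdealSheafData.range_subschemeι, Scheme.IdealSheafData.coe_support_vanishingIdeal,
        hW]⟩
  haveI := hιcl
  have hemb : Topology.IsEmbedding ι.base := ι.isClosedEmbedding.isEmbedding
  have hirr : IsIrreducible (Set.range ι.base) := by
    rw [hrange]; exact isIrreducible_singleton.closure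
  haveI : IrreducibleSpace ↥(Set.range ι.base) := Subtype.irreducibleSpace hirr
  haveI : IrreducibleSpace Y' := (hemb.toHomeomorph).irreducibleSpace_iff.mpr inferInstance
  haveI : LocallyOfFiniteType (ι ≫ (𝔸(ULift.{u} (Fin n); Y) ↘ Y)) := inferInstance
  haveI : QuasiCompact (ι ≫ (𝔸(ULift.{u} (Fin n); Y) ↘ Y)) := inferInstance
  have hdom := h Y' (ι ≫ (𝔸(ULift.{u} (Fin n); Y) ↘ Y))
  have hw : pullback.fst f (ι ≫ (𝔸(ULift.{u} (Fin n); Y) ↘ Y)) ≫ f =
      (pullback.snd f (ι ≫ (𝔸(ULift.{u} (Fin n); Y) ↘ Y)) ≫ ι) ≫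
        (𝔸(ULift.{u} (Fin n); Y) ↘ Y) := by
    rw [Category.assoc]; exact pullback.condition
  have hΦ1 := pullback.lift_fst _ _ hw
  have hΦ2 := pullback.lift_snd _ _ hw
  have sqΦ : IsPullback (pullback.lift _ _ hw)
      (pullback.snd f (ι ≫ (𝔸(ULift.{u} (Fin n); Y) ↘ Y)))
      (pullback.snd f (𝔸(ULift.{u} (Fin n); Y) ↘ Y)) ι := by
    refine IsPullback.of_right ?_ hΦ2 (IsPullback.of_hasPullback f _)
    rw [hΦ1]
    exact IsPullback.of_hasPullback f _
  have hx'mem : (pullback.snd f (𝔸(ULift.{u} (Fin n); Y) ↘ Y)).base x' ∈ Set.range ι.base := by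
    rw [hrange]; exact hy''.mem_closure
  obtain ⟨w, hw'⟩ := hx'mem
  obtain ⟨p, hp1, hp2⟩ :=
    Groth.Agent.Lib.helper9.exists_preimage_of_isPullback sqΦ x' w hw'.symm
  have hZ : irreducibleComponent p ∈
      irreducibleComponents (↥(pullback f (ι ≫ (𝔸(ULift.{u} (Fin n); Y) ↘ Y))) : Type u) :=
    irreducibleComponent_mem_irreducibleComponents p
  have hZdense := hdom _ hZ
  obtain ⟨ζ, hζ⟩ := QuasiSober.sober (isIrreducible_irreducibleComponent (x := p))
    (isClosed_irreducibleComponent (x := p))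
  have hζp : ζ ⤳ p := hζ.specializes mem_irreducibleComponent
  have h1 : closure {(pullback.snd f (ι ≫ (𝔸(ULift.{u} (Fin n); Y) ↘ Y))).base ζ} =
      Set.univ := by
    have hsub : (pullback.snd f (ι ≫ (𝔸(ULift.{u} (Fin n); Y) ↘ Y))).base ''
        irreducibleComponent p ⊆
        closure {(pullback.snd f (ι ≫ (𝔸(ULift.{u} (Fin n); Y) ↘ Y))).base ζ} := by
      rw [← hζ.def]
      refine (image_closure_subset_closure_image
        (pullback.snd f (ι ≫ (𝔸(ULift.{u} (Fin n); Y) ↘ Y))).continuous).trans ?_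
      rw [Set.image_singleton]
    have := closure_minimal hsub isClosed_closure
    rw [hZdense.closure_eq] at this
    exact Set.univ_subset_iff.mp this
  have h2 : ι.base ((pullback.snd f (ι ≫ (𝔸(ULift.{u} (Fin n); Y) ↘ Y))).base ζ) = y'' := by
    have hg1 : closure {ι.base ((pullback.snd f (ι ≫ (𝔸(ULift.{u} (Fin n); Y) ↘ Y))).base ζ)} =
        closure {y''} := by
      rw [← Set.image_singleton, ι.isClosedEmbedding.closure_image_eq, h1, Set.image_univ, hrange]
    exact (inseparable_iff_closure_eq.mpr hg1).eq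
  refine ⟨(pullback.lift _ _ hw).base ζ, ?_, ?_⟩
  · exact (hζp.map (pullback.lift _ _ hw).continuous).trans (specializes_of_eq hp1)
  · exact (congrArg (fun φ : pullback f (ι ≫ (𝔸(ULift.{u} (Fin n); Y) ↘ Y)) ⟶
      𝔸(ULift.{u} (Fin n); Y) => φ.base ζ) hΦ2).trans h2

end Groth.Agent.Lib.helper3.UOA
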