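import Mathlib
import Groth.Agent.Lib.Helper3.UnivOpenGenTd
import Groth.Agent.Lib.Helper3.EquidimIrr
import Groth.Agent.Lib.Helper3.EquidimAt

/-!
# A universally open morphism is equidimensional along some irreducible component through each point
(helper3; = S14075)
-/

set_option autoImplicit false
universe u
open CategoryTheory AlgebraicGeometry CategoryTheory.Limits TopologicalSpace Topology Function

namespace Groth.Agent.Lib.helper3.UnivOpenEquidimComp

open Groth.Agent.Lib.helper3 Groth.Agent.Lib.helper3.DimIneq Groth.Agent.Lib.helper3.UnivOpenGenTd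

/-- a version of the main statement where universal openness is only assumed at the generizations of
`x` in its fibre. -/
theorem main_of_isUnivOpenAt {X S : Scheme.{u}} (f : X ⟶ S) [LocallyOfFiniteType f] (x : X)
    (h : ∀ z : X, z ⤳ x → f.base z = f.base x → EGA43.IsUnivOpenAt f z) :
    ∃ W : TopologicalSpace.Closeds X, (W : Set X) ∈ irreducibleComponents (X : Type u) ∧
      ∃ w : ↥((Scheme.IdealSheafData.vanishingIdeal W).subscheme),
        (Scheme.IdealSheafData.vanishingIdeal W).subschemeι.base w = x ∧
        EGA43.IsEquidimAt ((Scheme.IdealSheafData.vanishingIdeal W).subschemeι ≫ f) w := by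
  obtain ⟨z, N, hzx, hfz, -, htdz, hdim⟩ := EquidimIrr.exists_maximal_fibre_point f x
  -- a maximal point of `S` above `f x`
  have hY₀ : irreducibleComponent (f.base x) ∈ irreducibleComponents (S : Type u) :=
    irreducibleComponent_mem_irreducibleComponents _
  obtain ⟨η₀, hη₀⟩ := QuasiSober.sober (isIrreducible_irreducibleComponent (x := f.base x))
    (isClosed_irreducibleComponent (x := f.base x))
  have hsp : η₀ ⤳ f.base z := by
    rw [show f.base z = f.base x from hfz]
    exact hη₀.specializes mem_irreducibleComponent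
  obtain ⟨ξ₀, hξ₀z, hξ₀η, hle⟩ := exists_generization_td_ge f z (h z hzx hfz) η₀ hsp
  obtain ⟨ξ, N', hξξ₀, hfξ, hmaxξ, htdξ, -⟩ := EquidimIrr.exists_maximal_fibre_point f ξ₀
  have hfξη : f.base ξ = η₀ := hfξ.trans hξ₀η
  have hcl : closure ({f.base ξ} : Set S) = irreducibleComponent (f.base x) := by
    rw [hfξη]; exact hη₀.def
  have hcomp : closure ({f.base ξ} : Set S) ∈ irreducibleComponents (S : Type u) := by
    rw [hcl]; exact hY₀
  have hηmax : ∀ y : S, y ⤳ f.base ξ → y = f.base ξ := fun y hy =>
    EquidimAt.eq_of_specializes_of_closure_mem_irreducibleComponents (f.base ξ) hcomp y hy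
  have hξ : closure ({ξ} : Set X) ∈ irreducibleComponents (X : Type u) :=
    EquidimAt.closure_mem_irreducibleComponents_of_forall_specializes ξ
      (fun t ht => hmaxξ t ht (hηmax _ (ht.map f.continuous)))
  have hle2 := td_le_of_specializes_fibre f ξ₀ ξ hξξ₀ hfξ
  have hNN' : N ≤ N' := by
    have := hle.trans hle2
    rw [htdz, htdξ] at this
    exact_mod_cast this
  refine EquidimIrr.exists_equidim_component f x ξ hξ ((hξξ₀.trans hξ₀z).trans hzx) N' htdξ hcomp ?_
  rw [hdim]
  exact_mod_cast hNN'

/-- **S14075**. -/
theorem main {X S : Scheme.{u}} (f : X ⟶ S) [LocallyOfFiniteType f] [UniversallyOpen f] (x : X) :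
    ∃ W : TopologicalSpace.Closeds X, (W : Set X) ∈ irreducibleComponents (X : Type u) ∧
      ∃ w : ↥((Scheme.IdealSheafData.vanishingIdeal W).subscheme),
        (Scheme.IdealSheafData.vanishingIdeal W).subschemeι.base w = x ∧
        EGA43.IsEquidimAt ((Scheme.IdealSheafData.vanishingIdeal W).subschemeι ≫ f) w := by
  apply main_of_isUnivOpenAt f x
  intro z _ _ Y' g' x'' _ U hU
  exact (pullback.snd f g').isOpenMap.image_mem_nhds hU

end Groth.Agent.Lib.helper3.UnivOpenEquidimComp
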