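import Mathlib
import Groth.Prelude
import Groth.Agent.Lib.Helper3.UnivOpenAffineSpace

set_option maxHeartbeats 400000
set_option autoImplicit false

open CategoryTheory CategoryTheory.Limits AlgebraicGeometry

universe u

namespace Groth.Agent.Lib.helper3.UOLin

open MvPolynomial

variable {A B : Type u} [CommRing A] [CommRing B] [Algebra A B]

/-- Decomposition of a polynomial over `B` along module generators `b` of `B` over `A`. -/
theorem exists_decomp {d : ℕ} (b : Fin d → B) (hb : Submodule.span A (Set.range b) = ⊤)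
    {σ : Type u} (g : MvPolynomial σ B) :
    ∃ gs : Fin d → MvPolynomial σ A,
      g = ∑ i : Fin d, MvPolynomial.map (algebraMap A B) (gs i) * MvPolynomial.C (b i) := by
  classical
  induction g using MvPolynomial.induction_on' with
  | monomial m a =>
    have : a ∈ Submodule.span A (Set.range b) := by rw [hb]; trivial
    obtain ⟨c, hc⟩ := (Submodule.mem_span_range_iff_exists_fun A).mp this
    refine ⟨fun i => MvPolynomial.monomial m (c i), ?_⟩
    rw [← hc, map_sum]
    refine Finset.sum_congr rfl fun i _ => ?_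
    rw [MvPolynomial.map_monomial, MvPolynomial.C_apply, MvPolynomial.monomial_mul, add_zero,
      Algebra.smul_def]
  | add p q hp hq =>
    obtain ⟨gp, hgp⟩ := hp
    obtain ⟨gq, hgq⟩ := hq
    refine ⟨fun i => gp i + gq i, ?_⟩
    conv_lhs => rw [hgp, hgq]
    rw [← Finset.sum_add_distrib]
    refine Finset.sum_congr rfl fun i _ => ?_
    rw [map_add, add_mul]

section Square

variable {d : ℕ} {σ : Type u} (gs : Fin d → MvPolynomial σ A)

variable (B) in
/-- `x_i ↦ g_i` over `A`. -/
noncomputable def psiA : MvPolynomial (Fin d) A →ₐ[A] MvPolynomial σ A := MvPolynomial.aeval gs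

/-- `x_i ↦ g_i` over `B`. -/
noncomputable def psiB : MvPolynomial (Fin d) B →ₐ[B] MvPolynomial σ B :=
  MvPolynomial.aeval (fun i => MvPolynomial.map (algebraMap A B) (gs i))

theorem psi_comm :
    (psiB (B := B) gs).toRingHom.comp (MvPolynomial.map (algebraMap A B)) =
      (MvPolynomial.map (algebraMap A B)).comp (psiA gs).toRingHom := by
  apply MvPolynomial.ringHom_ext
  · intro a
    simp [psiA, psiB]
  · intro i
    simp [psiA, psiB]

theorem psiB_linearForm (b : Fin d → B) :
    psiB (B := B) gs (∑ i : Fin d, MvPolynomial.X i * MvPolynomial.C (b i)) =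
      ∑ i : Fin d, MvPolynomial.map (algebraMap A B) (gs i) * MvPolynomial.C (b i) := by
  simp [psiB]

attribute [local instance] MvPolynomial.algebraMvPolynomial

theorem isPushout_square :
    CategoryTheory.IsPushout
      (CommRingCat.ofHom (psiA (σ := σ) gs).toRingHom)
      (CommRingCat.ofHom (MvPolynomial.map (σ := Fin d) (algebraMap A B)))
      (CommRingCat.ofHom (MvPolynomial.map (σ := σ) (algebraMap A B)))
      (CommRingCat.ofHom (psiB (B := B) gs).toRingHom) := by
  letI i1 : Algebra (MvPolynomial (Fin d) A) (MvPolynomial σ A) := (psiA gs).toRingHom.toAlgebra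
  letI i2 : Algebra (MvPolynomial (Fin d) B) (MvPolynomial σ B) :=
    (psiB (B := B) gs).toRingHom.toAlgebra
  letI i3 : Algebra (MvPolynomial (Fin d) A) (MvPolynomial σ B) :=
    ((MvPolynomial.map (algebraMap A B)).comp (psiA gs).toRingHom).toAlgebra
  haveI t1 : IsScalarTower A (MvPolynomial (Fin d) A) (MvPolynomial σ A) :=
    IsScalarTower.of_algebraMap_eq (fun a => by
      show _ = psiA gs (algebraMap A _ a)
      rw [AlgHom.commutes])
  haveI t2 : IsScalarTower (MvPolynomial (Fin d) A) (MvPolynomial σ A) (MvPolynomial σ B) :=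
    IsScalarTower.of_algebraMap_eq (fun a => rfl)
  haveI t3 : IsScalarTower (MvPolynomial (Fin d) A) (MvPolynomial (Fin d) B) (MvPolynomial σ B) :=
    IsScalarTower.of_algebraMap_eq (fun a => by
      have := congrArg (fun φ => φ a) (psi_comm (B := B) gs)
      exact this.symm)
  haveI t4 : IsScalarTower A (MvPolynomial (Fin d) B) (MvPolynomial σ B) :=
    IsScalarTower.of_algebraMap_eq (fun a => by
      show _ = psiB gs (algebraMap A _ a)
      rw [IsScalarTower.algebraMap_apply A B (MvPolynomial (Fin d) B), AlgHom.commutes,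
        ← IsScalarTower.algebraMap_apply])
  haveI t5 : IsScalarTower B (MvPolynomial (Fin d) B) (MvPolynomial σ B) :=
    IsScalarTower.of_algebraMap_eq (fun a => by
      show _ = psiB gs (algebraMap B _ a)
      rw [AlgHom.commutes])
  haveI t6 : IsScalarTower A (MvPolynomial (Fin d) A) (MvPolynomial σ B) :=
    IsScalarTower.of_algebraMap_eq (fun a => by
      show _ = MvPolynomial.map (algebraMap A B) (psiA gs (algebraMap A _ a))
      rw [AlgHom.commutes]
      simp [MvPolynomial.algebraMap_eq, IsScalarTower.algebraMap_apply A B (MvPolynomial σ B)])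
  have hpo : Algebra.IsPushout (MvPolynomial (Fin d) A) (MvPolynomial σ A)
      (MvPolynomial (Fin d) B) (MvPolynomial σ B) :=
    (Algebra.IsPushout.comp_iff A (MvPolynomial (Fin d) A) B (S' := MvPolynomial (Fin d) B)
      (T := MvPolynomial σ A) (T' := MvPolynomial σ B)).mp inferInstance
  exact CommRingCat.isPushout_of_isPushout (MvPolynomial (Fin d) A) (MvPolynomial σ A)
    (MvPolynomial (Fin d) B) (MvPolynomial σ B)

/-- The image of `D(g)`, `g = ψ_B(h)`, is the preimage of the image of `D(h)`. -/
theorem image_basicOpen_eq (h : MvPolynomial (Fin d) B) :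
    PrimeSpectrum.comap (MvPolynomial.map (σ := σ) (algebraMap A B)) ''
        (PrimeSpectrum.basicOpen (psiB (B := B) gs h) : Set (PrimeSpectrum (MvPolynomial σ B))) =
      PrimeSpectrum.comap (psiA (σ := σ) gs).toRingHom ⁻¹'
        (PrimeSpectrum.comap (MvPolynomial.map (σ := Fin d) (algebraMap A B)) ''
          (PrimeSpectrum.basicOpen h : Set (PrimeSpectrum (MvPolynomial (Fin d) B)))) := by
  have sq := isPullback_SpecMap_of_isPushout _ _ _ _ (isPushout_square (B := B) gs)
  have key := Groth.Agent.Lib.helper3.UOA.image_preimage_of_isPullback sq.flip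
    (PrimeSpectrum.basicOpen h : Set (PrimeSpectrum (MvPolynomial (Fin d) B)))
  have hpre : (Spec.map (CommRingCat.ofHom (psiB (B := B) gs).toRingHom)).base ⁻¹'
      (PrimeSpectrum.basicOpen h : Set (PrimeSpectrum (MvPolynomial (Fin d) B))) =
      (PrimeSpectrum.basicOpen (psiB (B := B) gs h) : Set (PrimeSpectrum (MvPolynomial σ B))) := by
    ext q
    simp only [Set.mem_preimage, SetLike.mem_coe, PrimeSpectrum.mem_basicOpen]
    rfl
  rw [hpre] at key
  exact key

end Square

attribute [local instance] MvPolynomial.algebraMvPolynomial in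
theorem isOpenMap_comap_map_of_isOpen {d : ℕ} (b : Fin d → B)
    (hb : Submodule.span A (Set.range b) = ⊤)
    (H : IsOpen (PrimeSpectrum.comap (MvPolynomial.map (σ := Fin d) (algebraMap A B)) ''
        (PrimeSpectrum.basicOpen (∑ i : Fin d, MvPolynomial.X i * MvPolynomial.C (b i)) :
          Set (PrimeSpectrum (MvPolynomial (Fin d) B)))))
    (σ : Type u) :
    IsOpenMap (PrimeSpectrum.comap (MvPolynomial.map (σ := σ) (algebraMap A B))) := by
  rw [PrimeSpectrum.isTopologicalBasis_basic_opens.isOpenMap_iff]
  rintro _ ⟨g, rfl⟩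
  obtain ⟨gs, hgs⟩ := exists_decomp b hb g
  have hg : g = psiB (B := B) gs (∑ i : Fin d, MvPolynomial.X i * MvPolynomial.C (b i)) := by
    rw [psiB_linearForm]; exact hgs
  rw [hg, image_basicOpen_eq]
  exact H.preimage (PrimeSpectrum.continuous_comap _)

attribute [local instance] MvPolynomial.algebraMvPolynomial in
theorem main {d : ℕ} (b : Fin d → B)
    (hb : Submodule.span A (Set.range b) = ⊤) :
    UniversallyOpen (Spec.map (CommRingCat.ofHom (algebraMap A B))) ↔
      IsOpen (PrimeSpectrum.comap (MvPolynomial.map (σ := Fin d) (algebraMap A B)) ''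
        (PrimeSpectrum.basicOpen (∑ i : Fin d, MvPolynomial.X i * MvPolynomial.C (b i)) :
          Set (PrimeSpectrum (MvPolynomial (Fin d) B)))) := by
  constructor
  · intro hf
    have po := CommRingCat.isPushout_of_isPushout A (MvPolynomial (Fin d) A) B
      (MvPolynomial (Fin d) B)
    have sq := isPullback_SpecMap_of_isPushout _ _ _ _ po
    haveI : UniversallyOpen (Spec.map (CommRingCat.ofHom
        (algebraMap (MvPolynomial (Fin d) A) (MvPolynomial (Fin d) B)))) :=
      MorphismProperty.of_isPullback (P := @UniversallyOpen) sq.flip hf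
    exact (Spec.map (CommRingCat.ofHom
        (algebraMap (MvPolynomial (Fin d) A) (MvPolynomial (Fin d) B)))).isOpenMap _
      (PrimeSpectrum.basicOpen _).isOpen
  · intro H
    rw [Groth.Agent.Lib.helper3.UOA.universallyOpen_iff_isOpenMap_affineSpace_map]
    intro n
    rw [AffineSpace.map_SpecMap]
    have h2 : IsOpenMap (Spec.map (CommRingCat.ofHom
        (MvPolynomial.map (σ := ULift.{u} (Fin n)) (algebraMap A B)))) :=
      isOpenMap_comap_map_of_isOpen b hb H (ULift.{u} (Fin n))
    have h1 : IsOpenMap (AffineSpace.SpecIso (ULift.{u} (Fin n)) (CommRingCat.of B)).hom :=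
      (AffineSpace.SpecIso (ULift.{u} (Fin n)) (CommRingCat.of B)).hom.homeomorph.isOpenMap
    have h3 : IsOpenMap (AffineSpace.SpecIso (ULift.{u} (Fin n)) (CommRingCat.of A)).inv :=
      (AffineSpace.SpecIso (ULift.{u} (Fin n)) (CommRingCat.of A)).inv.homeomorph.isOpenMap
    exact (h3.comp (h2.comp h1))

end Groth.Agent.Lib.helper3.UOLin
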