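/-
helper3: universal openness at a point can be tested after base change to the local scheme
`Spec O_{Y,y}` (EGA IV 14.3.3-type), for morphisms locally of finite presentation.
-/
import Groth.Agent.S3404
import Groth.Agent.Lib.Helper8.UnivOpenAt

set_option autoImplicit false

open CategoryTheory CategoryTheory.Limits AlgebraicGeometry

universe u

namespace Groth.Agent.Lib.helper3.UnivOpenStalk

variable {X Y : Scheme.{u}}

/-- If the base change of `f` to `Spec O_{Y,y}` is universally open at the point over `x`,
then `f` is universally open at `x` (`f` locally of finite presentation). -/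
theorem isUnivOpenAt_of_baseChange_fromSpecStalk (f : X ⟶ Y) [LocallyOfFinitePresentation f]
    (x : X) (y : Y) (hxy : f.base x = y)
    (x₁ : ↥(pullback f (Y.fromSpecStalk y)))
    (hx₁ : (pullback.fst f (Y.fromSpecStalk y)).base x₁ = x)
    (H : EGA43.IsUnivOpenAt (pullback.snd f (Y.fromSpecStalk y)) x₁) :
    EGA43.IsUnivOpenAt f x := by
  intro Y' g x' hx'
  have hgy : g.base ((pullback.snd f g).base x') = y := by
    rw [← hxy, ← hx']
    exact (congrArg (fun φ : pullback f g ⟶ Y => φ.base x') (pullback.condition (f := f) (g := g))).symm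
  subst hgy
  -- the local morphism on stalks
  have hk : Spec.map (g.stalkMap ((pullback.snd f g).base x')) ≫
      Y.fromSpecStalk (g.base ((pullback.snd f g).base x')) =
      Y'.fromSpecStalk ((pullback.snd f g).base x') ≫ g :=
    Scheme.SpecMap_stalkMap_fromSpecStalk g
  have sqQ : IsPullback
      (pullback.fst (pullback.snd f g) (Y'.fromSpecStalk ((pullback.snd f g).base x')))
      (pullback.snd (pullback.snd f g) (Y'.fromSpecStalk ((pullback.snd f g).base x')))
      (pullback.snd f g) (Y'.fromSpecStalk ((pullback.snd f g).base x')) :=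
    IsPullback.of_hasPullback _ _
  have sqBig := sqQ.paste_horiz (IsPullback.of_hasPullback f g)
  have hw : (pullback.fst (pullback.snd f g) (Y'.fromSpecStalk ((pullback.snd f g).base x')) ≫
      pullback.fst f g) ≫ f =
      (pullback.snd (pullback.snd f g) (Y'.fromSpecStalk ((pullback.snd f g).base x')) ≫
        Spec.map (g.stalkMap ((pullback.snd f g).base x'))) ≫
        Y.fromSpecStalk (g.base ((pullback.snd f g).base x')) := by
    rw [Category.assoc _ _ (Y.fromSpecStalk _), hk]
    exact sqBig.w
  have hΨ₁ := pullback.lift_fst _ _ hw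
  have hΨ₂ := pullback.lift_snd _ _ hw
  have sqΨ : IsPullback (pullback.lift _ _ hw)
      (pullback.snd (pullback.snd f g) (Y'.fromSpecStalk ((pullback.snd f g).base x')))
      (pullback.snd f (Y.fromSpecStalk (g.base ((pullback.snd f g).base x'))))
      (Spec.map (g.stalkMap ((pullback.snd f g).base x'))) := by
    refine IsPullback.of_right ?_ hΨ₂ (IsPullback.of_hasPullback f _)
    rw [hΨ₁, hk]
    exact sqBig
  -- the point of `Q` over `x'`
  obtain ⟨q, hq₁, hq₂⟩ := Scheme.Pullback.exists_preimage_pullback
    (f := pullback.snd f g) (g := Y'.fromSpecStalk ((pullback.snd f g).base x')) x'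
    (IsLocalRing.closedPoint _) Scheme.fromSpecStalk_closedPoint.symm
  have hinj : Function.Injective
      (pullback.fst f (Y.fromSpecStalk (g.base ((pullback.snd f g).base x')))).base :=
    (pullback.fst f (Y.fromSpecStalk (g.base ((pullback.snd f g).base x')))).isEmbedding.injective
  have hΨq : (pullback.lift _ _ hw).base q = x₁ := by
    apply hinj
    refine ((congrArg (fun φ : pullback (pullback.snd f g)
      (Y'.fromSpecStalk ((pullback.snd f g).base x')) ⟶ X => φ.base q) hΨ₁).trans ?_).trans hx₁.symm
    exact (congrArg (pullback.fst f g).base hq₁).trans hx'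
  have hopen : EGA43.IsOpenAt
      (pullback.snd (pullback.snd f g) (Y'.fromSpecStalk ((pullback.snd f g).base x'))).base q :=
    Groth.Agent.Lib.helper8.isOpenAt_snd_of_isPullback H sqΨ q hΨq
  -- generization lifting
  refine ((Groth.Agent.S3404.result (pullback.snd f g) x').2 inferInstance).mpr ?_
  intro y'' hy''
  have hrange : y'' ∈ Set.range (Y'.fromSpecStalk ((pullback.snd f g).base x')) := by
    rw [Scheme.range_fromSpecStalk]
    exact hy''
  obtain ⟨t, rfl⟩ := hrange
  have ht : t ⤳ (pullback.snd (pullback.snd f g)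
      (Y'.fromSpecStalk ((pullback.snd f g).base x'))).base q := by
    rw [hq₂]
    exact IsLocalRing.specializes_closedPoint t
  obtain ⟨q'', hq'', hq''t⟩ := (Groth.Agent.S3404.result _ q).1 hopen t ht
  refine ⟨(pullback.fst (pullback.snd f g)
    (Y'.fromSpecStalk ((pullback.snd f g).base x'))).base q'', ?_, ?_⟩
  · exact (hq''.map (pullback.fst (pullback.snd f g)
      (Y'.fromSpecStalk ((pullback.snd f g).base x'))).continuous).trans (specializes_of_eq hq₁)
  · rw [← hq''t]
    exact congrArg (fun φ : pullback (pullback.snd f g)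
      (Y'.fromSpecStalk ((pullback.snd f g).base x')) ⟶ Y' => φ.base q'') sqQ.w

/-- Statement S4928. -/
theorem main (f : X ⟶ Y) [LocallyOfFinitePresentation f]
    (x : X) (x₁ : ↥(pullback f (Y.fromSpecStalk (f.base x))))
    (hx₁ : (pullback.fst f (Y.fromSpecStalk (f.base x))).base x₁ = x) :
    EGA43.IsUnivOpenAt f x ↔ EGA43.IsUnivOpenAt (pullback.snd f (Y.fromSpecStalk (f.base x))) x₁ :=
  ⟨fun h => Groth.Agent.Lib.helper8.isUnivOpenAt_of_isPullback h
      (IsPullback.of_hasPullback f _) x₁ hx₁,
    fun H => isUnivOpenAt_of_baseChange_fromSpecStalk f x (f.base x) rfl x₁ hx₁ H⟩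

end Groth.Agent.Lib.helper3.UnivOpenStalk
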