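import Mathlib
import Groth.Agent.Lib.Helper3.GeomFiberBC

/-!
# Descent of universal submersiveness (helper3)
-/

set_option autoImplicit false
universe u
open CategoryTheory CategoryTheory.Limits AlgebraicGeometry

namespace Groth.Agent.Lib.helper3.UnivSubmersive

open Groth.Agent.Lib.helper3.GeomFiberBC

/-- = S4959. -/
theorem universally_isQuotientMap_of_baseChange {X Y Y' : Scheme.{u}} (f : X ⟶ Y) (g : Y' ⟶ Y)
    [Surjective g] (hg : IsProper g ∨ (Flat g ∧ QuasiCompact g))
    (h : MorphismProperty.universally (topologically @Topology.IsQuotientMap) (pullback.snd f g)) :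
    MorphismProperty.universally (topologically @Topology.IsQuotientMap) f := by
  intro XT T i₁ i₂ fT hA
  -- `T' = T ×_Y Y'`
  set p : pullback i₂ g ⟶ T := pullback.fst i₂ g with hp
  have hpq : Topology.IsQuotientMap p := by
    haveI : Surjective p := MorphismProperty.pullback_fst (P := @Surjective) _ _ inferInstance
    rcases hg with hg | ⟨hg1, hg2⟩
    · haveI : IsProper p := MorphismProperty.pullback_fst (P := @IsProper) _ _ hg
      exact (p.isClosedMap).isQuotientMap p.continuous p.surjective
    · haveI : Flat p := MorphismProperty.pullback_fst (P := @Flat) _ _ hg1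
      haveI : QuasiCompact p := MorphismProperty.pullback_fst (P := @QuasiCompact) _ _ hg2
      exact Flat.isQuotientMap_of_surjective p
  -- `X_{T'} = X_T ×_T T'`
  have hC := IsPullback.of_hasPullback fT p
  have hw : (pullback.fst fT p ≫ i₁) ≫ f = (pullback.snd fT p ≫ pullback.snd i₂ g) ≫ g := by
    rw [Category.assoc, ← hA.w, ← Category.assoc, hC.w, Category.assoc, Category.assoc, hp,
      pullback.condition]
  set u : pullback fT p ⟶ pullback f g := pullback.lift _ _ hw with hu
  have e1 : u ≫ pullback.fst f g = pullback.fst fT p ≫ i₁ := pullback.lift_fst _ _ hw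
  have e2 : u ≫ pullback.snd f g = pullback.snd fT p ≫ pullback.snd i₂ g :=
    pullback.lift_snd _ _ hw
  have hbig : IsPullback (pullback.fst fT p ≫ i₁) (pullback.snd fT p) f (p ≫ i₂) :=
    hC.paste_horiz hA.flip
  have hbig' : IsPullback (u ≫ pullback.fst f g) (pullback.snd fT p) f
      (pullback.snd i₂ g ≫ g) := by
    rw [e1]
    exact isPullback_congr_bot hbig (by rw [hp, pullback.condition])
  have hsq : IsPullback u (pullback.snd fT p) (pullback.snd f g) (pullback.snd i₂ g) :=
    IsPullback.of_right hbig' e2 (IsPullback.of_hasPullback f g)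
  have hq1 : Topology.IsQuotientMap (pullback.snd fT p) := h _ _ _ hsq.flip
  have hcomp := hpq.comp hq1
  have heq : (⇑p ∘ ⇑(pullback.snd fT p) : ↥(pullback fT p) → ↥T) =
      ⇑fT ∘ ⇑(pullback.fst fT p) := by
    ext z
    have := congrArg (fun m => m z) hC.w
    exact this.symm
  rw [heq] at hcomp
  exact Topology.IsQuotientMap.of_comp (pullback.fst fT p).continuous fT.continuous hcomp

end Groth.Agent.Lib.helper3.UnivSubmersive
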