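import Mathlib.AlgebraicGeometry.Morphisms.Etale
import Mathlib.AlgebraicGeometry.Morphisms.FormallyUnramified
import Mathlib.AlgebraicGeometry.Morphisms.Finite
import Mathlib.AlgebraicGeometry.Morphisms.Proper
import Mathlib.AlgebraicGeometry.PullbackCarrier
import Mathlib.AlgebraicGeometry.Morphisms.FlatMono

/-!
# Finite unramified morphisms with a one-point fibre of degree one
-/

set_option autoImplicit false
open CategoryTheory CategoryTheory.Limits AlgebraicGeometry Opposite
universe u

namespace Groth.Agent.Lib.helper3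

open Scheme.Pullback in
/-- If the residue field extension at `fst z'` is trivial, a point of `X ×[S] X` with the same
projections as `z'` is equal to `z'`. -/
lemma eq_of_fst_eq_of_snd_eq {X S : Scheme.{u}} (f : X ⟶ S) (z z' : ↑(pullback f f))
    (hκ : Function.Surjective (f.residueFieldMap (pullback.fst f f z')))
    (h1 : pullback.fst f f z = pullback.fst f f z')
    (h2 : pullback.snd f f z = pullback.snd f f z') :
    z = z' := by
  apply (carrierEquiv (f := f) (g := f)).injective
  have e : Triplet.ofPoint z = Triplet.ofPoint z' := Triplet.ext h1 h2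
  have hiso : IsIso (f.residueFieldMap (pullback.fst f f z')) := by
    rw [ConcreteCategory.isIso_iff_bijective]
    exact ⟨(f.residueFieldMap (pullback.fst f f z')).hom.injective, hκ⟩
  have hiso2 : IsIso ((S.residueFieldCongr (Triplet.ofPoint z').hx).inv ≫
      f.residueFieldMap (Triplet.ofPoint z').x) :=
    IsIso.comp_isIso' inferInstance hiso
  have hiso3 : IsIso (Triplet.ofPoint z').tensorInr :=
    pushout_inr_iso_of_left_iso _ _
  have hfield : IsField (Triplet.ofPoint z').tensor :=
    (asIso (Triplet.ofPoint z').tensorInr).commRingCatIsoToRingEquiv.symm.toMulEquiv.isField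
      (Field.toIsField _)
  have hsub : Subsingleton (Spec (Triplet.ofPoint z').tensor) := by
    let := hfield.toField
    exact (inferInstance : Subsingleton (PrimeSpectrum (Triplet.ofPoint z').tensor))
  exact carrierEquiv_eq_iff.mpr ⟨e, hsub.elim _ _⟩

/-- Key lemma: a finite unramified morphism with a one-point fibre of degree one over `s`
is a monomorphism over an open neighbourhood of `s`. -/
lemma exists_opens_forall_mono_restrict {X S : Scheme.{u}} (f : X ⟶ S) [IsFinite f]
    [FormallyUnramified f] (s : S) (x : X)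
    (hx : f.base ⁻¹' {s} = {x}) (hκ : Function.Surjective (f.residueFieldMap x)) :
    ∃ U₁ : S.Opens, s ∈ U₁ ∧ ∀ U : S.Opens, U ≤ U₁ → Mono (f ∣_ U) := by
  have hΔ : IsOpenImmersion (pullback.diagonal f) := inferInstance
  let π : pullback f f ⟶ S := pullback.fst f f ≫ f
  have hπ : IsFinite π := inferInstance
  let Z : Set ↑(pullback f f) := (Set.range (pullback.diagonal f).base)ᶜ
  have hZ : IsClosed Z := (pullback.diagonal f).isOpenEmbedding.isOpen_range.isClosed_compl
  have hπZ : IsClosed (π.base '' Z) := π.isClosedMap _ hZ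
  refine ⟨⟨(π.base '' Z)ᶜ, hπZ.isOpen_compl⟩, ?_, ?_⟩
  · rintro ⟨z, hzZ, hzs⟩
    apply hzZ
    have hzs' : f (pullback.fst f f z) = s := by
      rw [← hzs]; simp [π]
    have h1 : pullback.fst f f z = x := by
      have : pullback.fst f f z ∈ f.base ⁻¹' {s} := hzs'
      rw [hx] at this; exact this
    have h2 : pullback.snd f f z = x := by
      have : pullback.snd f f z ∈ f.base ⁻¹' {s} := by
        change f (pullback.snd f f z) = s
        rw [← hzs', ← Scheme.Hom.comp_apply, ← Scheme.Hom.comp_apply, pullback.condition]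
      rw [hx] at this; exact this
    have hd1 : pullback.fst f f (pullback.diagonal f x) = x := by
      simp [← Scheme.Hom.comp_apply]
    have hd2 : pullback.snd f f (pullback.diagonal f x) = x := by
      simp [← Scheme.Hom.comp_apply]
    exact ⟨x, (eq_of_fst_eq_of_snd_eq f z (pullback.diagonal f x) (by rw [hd1]; exact hκ)
      (h1.trans hd1.symm) (h2.trans hd2.symm)).symm⟩
  · intro U hU
    constructor
    intro T a₁ a₂ h
    have hb : (a₁ ≫ (f ⁻¹ᵁ U).ι) ≫ f = (a₂ ≫ (f ⁻¹ᵁ U).ι) ≫ f := by
      rw [Category.assoc, Category.assoc, ← morphismRestrict_ι, reassoc_of% h]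
    let q : T ⟶ pullback f f := pullback.lift _ _ hb
    have hq : Set.range q.base ⊆ Set.range (pullback.diagonal f).base := by
      rintro _ ⟨t, rfl⟩
      by_contra hcon
      have hmem : π.base (q.base t) ∈ π.base '' Z := ⟨_, hcon, rfl⟩
      have e1 : q ≫ π = (a₁ ≫ (f ⁻¹ᵁ U).ι) ≫ f := by
        change q ≫ pullback.fst f f ≫ f = _
        rw [← Category.assoc]
        congr 1
        exact pullback.lift_fst _ _ _
      have hU' : π.base (q.base t) ∈ (U : Set S) := by
        have e2 : π.base (q.base t) = f.base ((f ⁻¹ᵁ U).ι.base (a₁.base t)) := by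
          rw [← Scheme.Hom.comp_apply, e1]
          rfl
        rw [e2]
        exact (a₁.base t).2
      exact hU hU' hmem
    let q' : T ⟶ X := IsOpenImmersion.lift (pullback.diagonal f) q hq
    have hq' : q' ≫ pullback.diagonal f = q := IsOpenImmersion.lift_fac _ _ hq
    have e1 : a₁ ≫ (f ⁻¹ᵁ U).ι = q' := by
      have : q ≫ pullback.fst f f = a₁ ≫ (f ⁻¹ᵁ U).ι := pullback.lift_fst _ _ _
      rw [← this, ← hq']
      simp
    have e2 : a₂ ≫ (f ⁻¹ᵁ U).ι = q' := by
      have : q ≫ pullback.snd f f = a₂ ≫ (f ⁻¹ᵁ U).ι := pullback.lift_snd _ _ _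
      rw [← this, ← hq']
      simp
    rw [← cancel_mono (f ⁻¹ᵁ U).ι, e1, e2]

end Groth.Agent.Lib.helper3
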