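import Mathlib

set_option autoImplicit false
set_option linter.style.haveILetI false
set_option linter.unusedSectionVars false

universe u

namespace Groth.Agent.Lib.helper3.ValBC

open AlgebraicGeometry CategoryTheory Limits TopologicalSpace

/-- In a quasi-sober space `T`, let `W` be a subset stable under those generizations that stay
in `closure W`.  Every point of `W` is a specialization of a point of `W` that is the generic
point of an irreducible component of the subspace `W`. -/
theorem exists_generic_above {T : Type*} [TopologicalSpace T] [QuasiSober T] (W : Set T)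
    (H : ∀ ζ ∈ closure W, ∀ w ∈ W, ζ ⤳ w → ζ ∈ W) (w₀ : T) (hw₀ : w₀ ∈ W) :
    ∃ (ζ : T) (hζ : ζ ∈ W), ζ ⤳ w₀ ∧
      ∃ C ∈ irreducibleComponents ↥W, IsGenericPoint (⟨ζ, hζ⟩ : ↥W) C := by
  set C : Set ↥W := irreducibleComponent (⟨w₀, hw₀⟩ : ↥W) with hC
  have hCirr : IsIrreducible C := isIrreducible_irreducibleComponent
  have hCcl : IsClosed C := isClosed_irreducibleComponent
  have hCmem : C ∈ irreducibleComponents ↥W := irreducibleComponent_mem_irreducibleComponents _
  have hw₀C : (⟨w₀, hw₀⟩ : ↥W) ∈ C := mem_irreducibleComponent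
  set C' : Set T := Subtype.val '' C with hC'
  have hC'irr : IsIrreducible C' := hCirr.image _ continuous_subtype_val.continuousOn
  have hcl : IsIrreducible (closure C') := hC'irr.closure
  obtain ⟨ζ, hζ⟩ := QuasiSober.sober hcl isClosed_closure
  have hζw₀ : ζ ⤳ w₀ := by
    rw [specializes_iff_mem_closure, hζ.def]
    exact subset_closure ⟨⟨w₀, hw₀⟩, hw₀C, rfl⟩
  have hC'W : C' ⊆ W := by
    rintro _ ⟨w, _, rfl⟩
    exact w.2
  have hζW : ζ ∈ W := H ζ (closure_mono hC'W hζ.mem) w₀ hw₀ hζw₀
  refine ⟨ζ, hζW, hζw₀, C, hCmem, ?_⟩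
  change closure {(⟨ζ, hζW⟩ : ↥W)} = C
  ext w
  rw [closure_subtype, Set.image_singleton, hζ.def, hC', ← closure_subtype, hCcl.closure_eq]

/-- A generic point of an irreducible component (in a `T0` space) has no proper generization. -/
theorem eq_of_specializes_of_isGenericPoint {W : Type*} [TopologicalSpace W] [T0Space W]
    {w : W} {C : Set W} (hC : C ∈ irreducibleComponents W) (hw : IsGenericPoint w C)
    {z : W} (hz : z ⤳ w) : z = w := by
  have h1 : IsIrreducible (closure ({z} : Set W)) := isIrreducible_singleton.closure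
  have h2 : C ⊆ closure ({z} : Set W) := by
    rw [← hw.def]
    exact closure_minimal (Set.singleton_subset_iff.mpr hz.mem_closure) isClosed_closure
  have h3 : closure ({z} : Set W) ⊆ C := hC.2 h1 h2
  have h4 : closure ({z} : Set W) = closure ({w} : Set W) := by
    rw [hw.def]
    exact le_antisymm h3 h2
  exact ((inseparable_iff_closure_eq.mpr h4)).eq

end Groth.Agent.Lib.helper3.ValBC
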