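import Mathlib
import Groth.Agent.Lib.Helper3.ValBC1

set_option autoImplicit false
set_option linter.style.haveILetI false
set_option linter.unusedSectionVars false

universe u

namespace Groth.Agent.Lib.helper3.ValBC

open AlgebraicGeometry CategoryTheory Limits TopologicalSpace IsLocalRing

/-- Topological assembly: from two points `y₀ ⤳ x₀` of the base change lying over `y`, `x`
and over the generic and the closed point of `Spec R`, get the generic points asked for. -/
theorem core {X S : Scheme.{u}} (f : X ⟶ S) (y x : X)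
    (hmax : ∀ z : X, z ∈ closure ({y} : Set X) → f z = f x → z ⤳ x → z = x)
    (R : Type u) [CommRing R] [IsDomain R] [IsLocalRing R] (g : Spec (CommRingCat.of R) ⟶ S)
    (y₀ x₀ : ↑(pullback f g)) (h₁ : pullback.fst f g y₀ = y)
    (h₂ : pullback.snd f g y₀ = (⊥ : PrimeSpectrum R)) (h₃ : pullback.fst f g x₀ = x)
    (h₄ : pullback.snd f g x₀ = closedPoint R) (h₅ : y₀ ⤳ x₀) :
    ∃ (y' : ↑(pullback f g)) (hy't : pullback.snd f g y' = (⊥ : PrimeSpectrum R))
      (hy'Y : pullback.fst f g y' ∈ closure ({y} : Set ↑X)),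
        pullback.fst f g y' = y ∧
        (∃ C ∈ irreducibleComponents ↑((pullback.fst f g) ⁻¹' closure ({y} : Set ↑X) ∩
            (pullback.snd f g) ⁻¹' {(⊥ : PrimeSpectrum R)}),
          IsGenericPoint (⟨y', hy'Y, hy't⟩ : ↑((pullback.fst f g) ⁻¹' closure ({y} : Set ↑X) ∩
            (pullback.snd f g) ⁻¹' {(⊥ : PrimeSpectrum R)})) C) ∧
        ∃ (x' : ↑(pullback f g)) (hx' : x' ∈ closure ({y'} : Set ↑(pullback f g)))
          (hx's : pullback.snd f g x' = IsLocalRing.closedPoint R),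
          pullback.fst f g x' = x ∧
          ∃ C ∈ irreducibleComponents ↑(closure ({y'} : Set ↑(pullback f g)) ∩
              (pullback.snd f g) ⁻¹' {IsLocalRing.closedPoint R}),
            IsGenericPoint (⟨x', hx', hx's⟩ : ↑(closure ({y'} : Set ↑(pullback f g)) ∩
              (pullback.snd f g) ⁻¹' {IsLocalRing.closedPoint R})) C := by
  classical
  have hcond : ∀ z : ↑(pullback f g), f (pullback.fst f g z) = g (pullback.snd f g z) := by
    intro z
    rw [← Scheme.Hom.comp_apply, ← Scheme.Hom.comp_apply, pullback.condition]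
  -- first point
  have hy₀W : y₀ ∈ (pullback.fst f g) ⁻¹' closure ({y} : Set ↑X) ∩
      (pullback.snd f g) ⁻¹' {(⊥ : PrimeSpectrum R)} :=
    ⟨by rw [Set.mem_preimage, h₁]; exact subset_closure rfl, h₂⟩
  have HW₁ : ∀ ζ ∈ closure ((pullback.fst f g) ⁻¹' closure ({y} : Set ↑X) ∩
      (pullback.snd f g) ⁻¹' {(⊥ : PrimeSpectrum R)}),
      ∀ w ∈ (pullback.fst f g) ⁻¹' closure ({y} : Set ↑X) ∩
        (pullback.snd f g) ⁻¹' {(⊥ : PrimeSpectrum R)}, ζ ⤳ w →
      ζ ∈ (pullback.fst f g) ⁻¹' closure ({y} : Set ↑X) ∩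
        (pullback.snd f g) ⁻¹' {(⊥ : PrimeSpectrum R)} := by
    intro ζ hζ w hw hζw
    have hcl : IsClosed ((pullback.fst f g) ⁻¹' closure ({y} : Set ↑X)) :=
      isClosed_closure.preimage (pullback.fst f g).continuous
    refine ⟨closure_minimal Set.inter_subset_left hcl hζ, ?_⟩
    have h := hζw.map (pullback.snd f g).continuous
    have hw2 : pullback.snd f g w = (⊥ : PrimeSpectrum R) := hw.2
    rw [hw2] at h
    have h' : ∀ p : PrimeSpectrum R, p ⤳ (⊥ : PrimeSpectrum R) → p = ⊥ := fun p hp =>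
      le_bot_iff.mp ((PrimeSpectrum.le_iff_specializes _ _).mpr hp)
    exact h' _ h
  obtain ⟨y', hy'W, hy'y₀, hy'gen⟩ := exists_generic_above _ HW₁ y₀ hy₀W
  have hfy' : pullback.fst f g y' = y := by
    have ha : y ⤳ pullback.fst f g y' := specializes_iff_mem_closure.mpr hy'W.1
    have hb : pullback.fst f g y' ⤳ y := h₁ ▸ hy'y₀.map (pullback.fst f g).continuous
    exact (hb.antisymm ha).eq
  refine ⟨y', hy'W.2, hy'W.1, hfy', hy'gen, ?_⟩
  -- second point
  have hx₀W : x₀ ∈ closure ({y'} : Set ↑(pullback f g)) ∩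
      (pullback.snd f g) ⁻¹' {IsLocalRing.closedPoint R} :=
    ⟨(hy'y₀.trans h₅).mem_closure, h₄⟩
  have hclW : IsClosed (closure ({y'} : Set ↑(pullback f g)) ∩
      (pullback.snd f g) ⁻¹' {IsLocalRing.closedPoint R}) :=
    isClosed_closure.inter
      ((IsLocalRing.isClosed_singleton_closedPoint R).preimage (pullback.snd f g).continuous)
  have HW₂ : ∀ ζ ∈ closure (closure ({y'} : Set ↑(pullback f g)) ∩
      (pullback.snd f g) ⁻¹' {IsLocalRing.closedPoint R}),
      ∀ w ∈ closure ({y'} : Set ↑(pullback f g)) ∩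
        (pullback.snd f g) ⁻¹' {IsLocalRing.closedPoint R}, ζ ⤳ w →
      ζ ∈ closure ({y'} : Set ↑(pullback f g)) ∩
        (pullback.snd f g) ⁻¹' {IsLocalRing.closedPoint R} := by
    intro ζ hζ w _ _
    rwa [hclW.closure_eq] at hζ
  obtain ⟨x', hx'W, hx'x₀, hx'gen⟩ := exists_generic_above _ HW₂ x₀ hx₀W
  refine ⟨x', hx'W.1, hx'W.2, ?_, hx'gen⟩
  apply hmax
  · have h := (specializes_iff_mem_closure.mpr hx'W.1).map (pullback.fst f g).continuous
    rw [hfy'] at h
    exact h.mem_closure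
  · have e1 : pullback.snd f g x' = IsLocalRing.closedPoint R := hx'W.2
    rw [hcond, e1, ← h₃, hcond, h₄]
  · exact h₃ ▸ hx'x₀.map (pullback.fst f g).continuous

end Groth.Agent.Lib.helper3.ValBC
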