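import Mathlib
import Groth.Agent.Lib.Helper3.ValBC2

set_option autoImplicit false
set_option linter.style.haveILetI false
set_option linter.unusedSectionVars false

universe u

namespace Groth.Agent.Lib.helper3.ValBC

open AlgebraicGeometry CategoryTheory Limits TopologicalSpace IsLocalRing

theorem comap_bot_of_injective {R A : Type*} [CommRing R] [IsDomain R] [CommRing A] [IsDomain A]
    (j : R →+* A) (hj : Function.Injective j) :
    PrimeSpectrum.comap j (⊥ : PrimeSpectrum A) = (⊥ : PrimeSpectrum R) := by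
  ext a
  change j a ∈ (⊥ : Ideal A) ↔ a ∈ (⊥ : Ideal R)
  rw [Ideal.mem_bot, Ideal.mem_bot, map_eq_zero_iff j hj]

/-- Abstract construction of two points `y₀ ⤳ x₀` in the base change. -/
theorem exists_points {X S : Scheme.{u}} (f : X ⟶ S) (y x : X) (hyx : y ⤳ x)
    (R A : Type u) [CommRing R] [IsDomain R] [IsLocalRing R]
    [CommRing A] [IsDomain A] [IsLocalRing A]
    (φ : X.presheaf.stalk x ⟶ CommRingCat.of A) [IsLocalHom φ.hom]
    (j : CommRingCat.of R ⟶ CommRingCat.of A) [IsLocalHom j.hom]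
    (hj : Function.Injective j.hom)
    (ρ : S.presheaf.stalk (f x) ⟶ CommRingCat.of R)
    (hcomm : ρ ≫ j = f.stalkMap x ≫ φ)
    (i : CommRingCat.of A ⟶ X.residueField y) (hi : Function.Injective i.hom)
    (hi' : φ ≫ i = X.presheaf.stalkSpecializes hyx ≫ X.residue y) :
    ∃ y₀ x₀ : ↑(pullback f (Spec.map ρ ≫ S.fromSpecStalk (f x))),
      pullback.fst f (Spec.map ρ ≫ S.fromSpecStalk (f x)) y₀ = y ∧
      pullback.snd f (Spec.map ρ ≫ S.fromSpecStalk (f x)) y₀ = (⊥ : PrimeSpectrum R) ∧
      pullback.fst f (Spec.map ρ ≫ S.fromSpecStalk (f x)) x₀ = x ∧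
      pullback.snd f (Spec.map ρ ≫ S.fromSpecStalk (f x)) x₀ = closedPoint R ∧ y₀ ⤳ x₀ := by
  have w : (Spec.map φ ≫ X.fromSpecStalk x) ≫ f =
      Spec.map j ≫ (Spec.map ρ ≫ S.fromSpecStalk (f x)) := by
    rw [Category.assoc, ← Scheme.SpecMap_stalkMap_fromSpecStalk, ← Spec.map_comp_assoc,
      ← Spec.map_comp_assoc, hcomm]
  let σ : Spec (CommRingCat.of A) ⟶ pullback f (Spec.map ρ ≫ S.fromSpecStalk (f x)) :=
    pullback.lift (Spec.map φ ≫ X.fromSpecStalk x) (Spec.map j) w
  have hσ₁ : σ ≫ pullback.fst _ _ = Spec.map φ ≫ X.fromSpecStalk x := pullback.lift_fst _ _ _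
  have hσ₂ : σ ≫ pullback.snd _ _ = Spec.map j := pullback.lift_snd _ _ _
  refine ⟨σ (⊥ : PrimeSpectrum A), σ (closedPoint A), ?_, ?_, ?_, ?_, ?_⟩
  · rw [← Scheme.Hom.comp_apply, hσ₁]
    -- the generic point of `Spec A` is the image of the point of `Spec κ(y)`
    have hpt : (⊥ : PrimeSpectrum A) =
        Spec.map i (closedPoint (X.residueField y)) := by
      have h0 : closedPoint (X.residueField y) = (⊥ : PrimeSpectrum (X.residueField y)) := by
        apply PrimeSpectrum.ext
        change maximalIdeal _ = ⊥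
        exact IsLocalRing.maximalIdeal_eq_bot
      rw [h0]
      exact (comap_bot_of_injective i.hom hi).symm
    rw [hpt, ← Scheme.Hom.comp_apply, ← Spec.map_comp_assoc, hi', Spec.map_comp_assoc,
      Scheme.SpecMap_stalkSpecializes_fromSpecStalk]
    exact Scheme.fromSpecResidueField_apply y _
  · rw [← Scheme.Hom.comp_apply, hσ₂]
    exact comap_bot_of_injective j.hom hj
  · rw [← Scheme.Hom.comp_apply, hσ₁, Scheme.Hom.comp_apply]
    have : Spec.map φ (closedPoint A) = closedPoint (X.presheaf.stalk x) :=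
      comap_closedPoint (S := A) φ.hom
    rw [this, Scheme.fromSpecStalk_closedPoint]
  · rw [← Scheme.Hom.comp_apply, hσ₂]
    exact comap_closedPoint (S := A) j.hom
  · exact (specializes_closedPoint (R := A) _).map σ.continuous

end Groth.Agent.Lib.helper3.ValBC
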