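import Mathlib
import Groth.Agent.Lib.Helper3.ValBC3

set_option autoImplicit false
set_option linter.style.haveILetI false
set_option linter.unusedSectionVars false

universe u

namespace Groth.Agent.Lib.helper3.ValBC

open AlgebraicGeometry CategoryTheory Limits TopologicalSpace IsLocalRing

/-- Ring-level data: a valuation subring `A` of `L` and its trace `R` on a subfield `K`. -/
theorem isLocalHom_comap {K L : Type*} [Field K] [Field L] (ι : K →+* L) (A : ValuationSubring L) :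
    IsLocalHom ((ι.comp (A.comap ι).subtype).codRestrict A.toSubring (fun a => a.2)) := by
  constructor
  intro a ha
  obtain ⟨b, hb⟩ := isUnit_iff_exists_inv.mp ha
  have hb' : ι (a : K) * (b : L) = 1 := congrArg Subtype.val hb
  have ha0 : (a : K) ≠ 0 := by
    intro h0
    rw [h0, map_zero, zero_mul] at hb'
    exact zero_ne_one hb'
  have hinv : ι ((a : K)⁻¹) = (b : L) := by
    rw [map_inv₀]
    exact inv_eq_of_mul_eq_one_right hb'
  have hmem : (a : K)⁻¹ ∈ A.comap ι := by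
    rw [ValuationSubring.mem_comap, hinv]
    exact b.2
  refine isUnit_iff_exists_inv.mpr ⟨⟨(a : K)⁻¹, hmem⟩, ?_⟩
  apply Subtype.ext
  change (a : K) * (a : K)⁻¹ = 1
  exact mul_inv_cancel₀ ha0

theorem exists_data {X S : Scheme.{u}} (f : X ⟶ S) (y x : X) (hyx : y ⤳ x) :
    ∃ (R : Type u) (_ : CommRing R) (_ : IsDomain R) (_ : ValuationRing R)
      (g : Spec (CommRingCat.of R) ⟶ S) (y₀ x₀ : ↑(pullback f g)),
      pullback.fst f g y₀ = y ∧ pullback.snd f g y₀ = (⊥ : PrimeSpectrum R) ∧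
      pullback.fst f g x₀ = x ∧ pullback.snd f g x₀ = closedPoint R ∧ y₀ ⤳ x₀ := by
  let ψ : X.presheaf.stalk x ⟶ X.residueField y :=
    X.presheaf.stalkSpecializes hyx ≫ X.residue y
  obtain ⟨A, hA, hA_local⟩ := exists_factor_valuationRing ψ.hom
  let ι : S.residueField (f y) ⟶ X.residueField y := f.residueFieldMap y
  let R : ValuationSubring (S.residueField (f y)) := A.comap ι.hom
  let ρ₀ : S.presheaf.stalk (f x) ⟶ S.residueField (f y) :=
    S.presheaf.stalkSpecializes (f.base.hom.map_specializes hyx) ≫ S.residue (f y)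
  have hnat : ρ₀ ≫ ι = f.stalkMap x ≫ ψ := by
    simp only [ρ₀, ι, ψ, Category.assoc]
    rw [Scheme.residue_residueFieldMap, ← Category.assoc, ← Category.assoc,
      Scheme.Hom.stalkSpecializes_stalkMap]
  have hnat' : ∀ a, ι.hom (ρ₀.hom a) = ψ.hom ((f.stalkMap x).hom a) := fun a =>
    congr($(hnat).hom a)
  have hρmem : ∀ a, ρ₀.hom a ∈ R.toSubring := by
    intro a
    change ι.hom (ρ₀.hom a) ∈ A
    rw [hnat']
    exact hA _
  let φ : X.presheaf.stalk x ⟶ CommRingCat.of A :=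
    CommRingCat.ofHom (ψ.hom.codRestrict A.toSubring hA)
  let jh : R →+* A := (ι.hom.comp R.subtype).codRestrict A.toSubring (fun a => a.2)
  let j : CommRingCat.of R ⟶ CommRingCat.of A := CommRingCat.ofHom jh
  let ρ : S.presheaf.stalk (f x) ⟶ CommRingCat.of R :=
    CommRingCat.ofHom (ρ₀.hom.codRestrict R.toSubring hρmem)
  haveI : IsLocalHom φ.hom := hA_local
  haveI : IsLocalHom j.hom := isLocalHom_comap ι.hom A
  have hj : Function.Injective j.hom := by
    intro a b hab
    apply Subtype.ext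
    have : ι.hom (a : S.residueField (f y)) = ι.hom (b : S.residueField (f y)) :=
      congrArg Subtype.val hab
    exact ι.hom.injective this
  have hcomm : ρ ≫ j = f.stalkMap x ≫ φ := by
    ext a
    exact hnat' a
  let i : CommRingCat.of A ⟶ X.residueField y := CommRingCat.ofHom A.subtype
  have hi : Function.Injective i.hom := Subtype.val_injective
  have hi' : φ ≫ i = X.presheaf.stalkSpecializes hyx ≫ X.residue y := by
    ext a
    rfl
  obtain ⟨y₀, x₀, h⟩ := exists_points f y x hyx R A φ j hj ρ hcomm i hi hi'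
  exact ⟨R, inferInstance, inferInstance, inferInstance, _, y₀, x₀, h⟩

/-- The statement S1481. -/
theorem main {X S : Scheme.{u}} (f : X ⟶ S) (y : X) (s : S) (x : X)
    (hx : x ∈ closure ({y} : Set ↑X)) (hxs : f x = s)
    (hgen : ∃ C ∈ irreducibleComponents ↑(closure ({y} : Set ↑X) ∩ f ⁻¹' {s}), IsGenericPoint (⟨x, hx, hxs⟩ : ↑(closure ({y} : Set ↑X) ∩ f ⁻¹' {s})) C) :
    ∃ (R : Type u) (_ : CommRing R) (_ : IsDomain R) (_ : ValuationRing R) (g : Spec (CommRingCat.of R) ⟶ S),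
      g (⊥ : PrimeSpectrum R) = f y ∧ g (IsLocalRing.closedPoint R) = s ∧
      ∃ (y' : ↑(pullback f g)) (hy't : pullback.snd f g y' = (⊥ : PrimeSpectrum R)) (hy'Y : pullback.fst f g y' ∈ closure ({y} : Set ↑X)),
        pullback.fst f g y' = y ∧
        (∃ C ∈ irreducibleComponents ↑((pullback.fst f g) ⁻¹' closure ({y} : Set ↑X) ∩ (pullback.snd f g) ⁻¹' {(⊥ : PrimeSpectrum R)}),
          IsGenericPoint (⟨y', hy'Y, hy't⟩ : ↑((pullback.fst f g) ⁻¹' closure ({y} : Set ↑X) ∩ (pullback.snd f g) ⁻¹' {(⊥ : PrimeSpectrum R)})) C) ∧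
        ∃ (x' : ↑(pullback f g)) (hx' : x' ∈ closure ({y'} : Set ↑(pullback f g))) (hx's : pullback.snd f g x' = IsLocalRing.closedPoint R),
          pullback.fst f g x' = x ∧
          ∃ C ∈ irreducibleComponents ↑(closure ({y'} : Set ↑(pullback f g)) ∩ (pullback.snd f g) ⁻¹' {IsLocalRing.closedPoint R}),
            IsGenericPoint (⟨x', hx', hx's⟩ : ↑(closure ({y'} : Set ↑(pullback f g)) ∩ (pullback.snd f g) ⁻¹' {IsLocalRing.closedPoint R})) C := by
  subst hxs
  obtain ⟨C, hC, hCgen⟩ := hgen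
  have hmax : ∀ z : X, z ∈ closure ({y} : Set X) → f z = f x → z ⤳ x → z = x := by
    intro z hz hfz hzx
    have hzW : z ∈ closure ({y} : Set ↑X) ∩ f ⁻¹' {f x} := ⟨hz, hfz⟩
    have hsp : (⟨z, hzW⟩ : ↑(closure ({y} : Set ↑X) ∩ f ⁻¹' {f x})) ⤳ ⟨x, hx, rfl⟩ :=
      (subtype_specializes_iff _ _).mpr hzx
    exact congrArg Subtype.val (eq_of_specializes_of_isGenericPoint hC hCgen hsp)
  obtain ⟨R, iR, iD, iV, g, y₀, x₀, h₁, h₂, h₃, h₄, h₅⟩ :=
    exists_data f y x (specializes_iff_mem_closure.mpr hx)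
  have hcond : ∀ z : ↑(pullback f g), f (pullback.fst f g z) = g (pullback.snd f g z) := by
    intro z
    rw [← Scheme.Hom.comp_apply, ← Scheme.Hom.comp_apply, pullback.condition]
  refine ⟨R, iR, iD, iV, g, ?_, ?_, core f y x hmax R g y₀ x₀ h₁ h₂ h₃ h₄ h₅⟩
  · rw [← h₂, ← hcond, h₁]
  · rw [← h₄, ← hcond, h₃]

end Groth.Agent.Lib.helper3.ValBC
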