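import Mathlib
import Groth.Agent.Lib.Helper3.EquidimIrr
import Groth.Agent.Lib.Helper3.ValFibreGeneric
import Groth.Agent.Lib.Helper3.DimBetweenSch
/-!
# Helper library (helper3): over a valuation ring, the irreducible components of the closed fibre
of an irreducible scheme locally of finite type and surjective over the base have the dimension
of the generic fibre.
-/

set_option autoImplicit false
universe u
open CategoryTheory AlgebraicGeometry Function

namespace Groth.Agent.Lib.helper3.ValEquidimFibre

open Groth.Agent.Lib.helper3.DimIneq Groth.Agent.Lib.helper3.FTField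
  Groth.Agent.Lib.helper3.FibreField Groth.Agent.Lib.helper3.DimFibre
  Groth.Agent.Lib.helper3.RelDim Groth.Agent.Lib.helper3.EquidimAt
  Groth.Agent.Lib.helper3.QFinTop

/-- an irreducible component of a fibre has a generic point, maximal in its fibre, whose residue
transcendence degree is the dimension of the component. -/
theorem exists_point_of_component {X Y : Scheme.{u}} (f : X ⟶ Y) [LocallyOfFiniteType f]
    (s : Y) (Z : Set ↥(f.fiber s)) (hZ : Z ∈ irreducibleComponents ↥(f.fiber s)) :
    ∃ x : X, f x = s ∧ (∀ t' : X, t' ⤳ x → f t' = f x → t' = x) ∧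
      ∀ E : ℕ, td (f.residueFieldMap x).hom = E → topologicalKrullDim ↥Z = (E : WithBot ℕ∞) := by
  letI := fiberOver f s
  haveI : LocallyOfFiniteType ((f.fiber s) ↘ Spec (CommRingCat.of (Y.residueField s))) :=
    locallyOfFiniteType_fiber f s
  obtain ⟨ζ, hζ⟩ := QuasiSober.sober hZ.1 (isClosed_of_mem_irreducibleComponents Z hZ)
  have hZζ : closure ({ζ} : Set (f.fiber s)) = Z := hζ.def
  refine ⟨f.fiberι s ζ, fiberι_mem f s ζ, ?_, ?_⟩
  · intro t' hsp hft
    have hg' : f t' = s := by rw [hft]; exact fiberι_mem f s ζ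
    have hmem : t' ∈ Set.range (f.fiberι s) := by rw [f.range_fiberι s]; exact hg'
    obtain ⟨ζ', hζ'⟩ := hmem
    have hsp' : ζ' ⤳ ζ := by
      rw [← fiberι_specializes_iff f s ζ' ζ, hζ']; exact hsp
    have hζζ' := eq_of_specializes_of_closure_mem_irreducibleComponents ζ (hZζ ▸ hZ) ζ' hsp'
    rw [hζζ'] at hζ'
    exact hζ'.symm
  · intro E hE
    rw [← hZζ]
    apply dim_closure_eq_trdeg (Y.residueField s) (f.fiber s) ζ E
    change td (Curv2.resMap (Y.residueField s) (f.fiber s) ζ) = E
    rw [td_resMap_fiber f s ζ]; exact hE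

theorem main (R : Type u) [CommRing R] [IsDomain R] [ValuationRing R]
    (X : Scheme.{u}) [IrreducibleSpace ↥X] (f : X ⟶ Spec (CommRingCat.of R)) [LocallyOfFiniteType f]
    [AlgebraicGeometry.Surjective f]
    (Z : Set ↥(f.fiber (IsLocalRing.closedPoint R)))
    (hZ : Z ∈ irreducibleComponents ↥(f.fiber (IsLocalRing.closedPoint R))) :
    topologicalKrullDim ↥Z =
      topologicalKrullDim ↥(f.fiber (⟨⊥, Ideal.bot_prime⟩ : PrimeSpectrum R)) := by
  obtain ⟨x, hxs, hxmax, hxdim⟩ := exists_point_of_component f (IsLocalRing.closedPoint R) Z hZ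
  have hgen : genericPoint X ⤳ x := genericPoint_specializes x
  have htd := Groth.Agent.Lib.helper3.ValFibreGeneric.td_eq_of_specializes_of_maximal R f x
    (genericPoint X) hgen hxmax
  obtain ⟨E, hE⟩ := exists_nat_td_residueFieldMap f (genericPoint X)
  rw [hxdim E (htd ▸ hE)]
  -- the generic point maps to the generic point
  have hη : f (genericPoint X) = (⟨⊥, Ideal.bot_prime⟩ : PrimeSpectrum R) := by
    obtain ⟨x0, hx0⟩ := AlgebraicGeometry.Surjective.surj (f := f) (⟨⊥, Ideal.bot_prime⟩ : PrimeSpectrum R)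
    have h1 : f (genericPoint X) ⤳ f x0 := (genericPoint_specializes x0).map f.continuous
    rw [hx0] at h1
    have h2 := (PrimeSpectrum.le_iff_specializes _ _).mpr h1
    apply PrimeSpectrum.ext
    exact le_bot_iff.mp h2
  have h1 := dim_closure_inter_fibre f (genericPoint X) E hE
  have h4 : closure ({genericPoint X} : Set X) ∩ f.base ⁻¹' {f.base (genericPoint X)} =
      f.base ⁻¹' {(⟨⊥, Ideal.bot_prime⟩ : PrimeSpectrum R)} := by
    rw [(genericPoint_spec X).def, Set.univ_inter, hη]
    rfl
  rw [h4] at h1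
  rw [← h1]
  exact (IsHomeomorph.topologicalKrullDim_eq _
    (f.fiberHomeo (⟨⊥, Ideal.bot_prime⟩ : PrimeSpectrum R)).isHomeomorph).symm

end Groth.Agent.Lib.helper3.ValEquidimFibre
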