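import Mathlib
import Groth.Prelude.Def_Found
import Groth.Agent.Lib.Helper3.FlatFiniteDense
import Groth.Agent.Lib.Helper3.FibreDimBC
/-!
# Flat proper generically finite over a valuation ring is finite (helper3; = S18734)
-/

set_option autoImplicit false
universe u
open CategoryTheory CategoryTheory.Limits AlgebraicGeometry Function Topology

namespace Groth.Agent.Lib.helper3.FlatFibreDimLSC

/-- **S18734.** -/
theorem isFinite_of_flat_proper_genericallyFinite {R : Type u} [CommRing R]
    [IsDomain R] [ValuationRing R] {Y : Scheme.{u}} (f : Y ⟶ Spec (CommRingCat.of R)) [Flat f]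
    [IsProper f]
    (hgen : IsFinite (pullback.snd f
      (Spec.map (CommRingCat.ofHom (algebraMap R (FractionRing R)))))) :
    IsFinite f := by
  set g := Spec.map (CommRingCat.ofHom (algebraMap R (FractionRing R))) with hg
  let η : Spec (CommRingCat.of R) := (⟨⊥, Ideal.isPrime_bot⟩ : PrimeSpectrum R)
  let η' : Spec (CommRingCat.of (FractionRing R)) :=
    (⟨⊥, Ideal.isPrime_bot⟩ : PrimeSpectrum (FractionRing R))
  have hgη : g η' = η := by
    apply PrimeSpectrum.ext
    change Ideal.comap (algebraMap R (FractionRing R)) ⊥ = ⊥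
    rw [← RingHom.ker_eq_comap_bot]
    exact (RingHom.injective_iff_ker_eq_bot _).mp (IsFractionRing.injective R (FractionRing R))
  haveI : LocallyQuasiFinite f := by
    apply locallyQuasiFinite_of_fibreDimAt_le_zero
    intro x
    have hsp : η ⤳ f x := by
      change (⟨⊥, Ideal.isPrime_bot⟩ : PrimeSpectrum R) ⤳ (f x : PrimeSpectrum R)
      rw [← PrimeSpectrum.le_iff_specializes]
      exact bot_le (a := (f x : PrimeSpectrum R).asIdeal)
    obtain ⟨x', hx', hle⟩ := exists_generization_fibreDimAt_le f x η hsp
    obtain ⟨z, hz1, hz2⟩ := Scheme.Pullback.exists_preimage_pullback (f := f) (g := g) x' η'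
      (by rw [hx', hgη])
    have h1 := FibreDimBC.fibreDimAt_eq_of_isPullback f g (pullback.fst f g) (pullback.snd f g)
      (IsPullback.of_hasPullback f g) z
    have h2 := (QFinAffineSpace.fibreDimAt_eq_zero_of_lqf (pullback.snd f g) z).1
    rw [h1, hz1] at h2
    rw [h2] at hle
    exact hle
  exact IsFinite.of_isProper_of_locallyQuasiFinite f

end Groth.Agent.Lib.helper3.FlatFibreDimLSC
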