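import Mathlib
import Groth.Agent.Lib.Helper3.PdFibre4
import Groth.Agent.Lib.Helper3.ValFp3
import Groth.Agent.Lib.Helper19.FlatIndep
/-!
# Projective dimension over local rings essentially of finite type and flat over a valuation ring
(helper3)

`V` a valuation ring, `A'` a local `V`-algebra, flat and essentially of finite type, `p` an ideal of
`V` with `I = p A' ⊆ 𝔪_{A'}`, `C = A' ⧸ I` the fibre.

* `flat_submodule`: submodules of `V`-flat modules are `V`-flat.
* `mem_smul_top_ker`: for `M` flat over `V` and `K = ker (F → M)`, `K ∩ I F = I K` elementwise.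
* `pd_lt_of_fibre`: for `M` finitely presented over `A'` and flat over `V`,
  `pd_C (C ⊗ M) < i → pd_{A'} M < i`.
* `finitePresentation_ker`, `flat_ker`: syzygies stay finitely presented and `V`-flat.
-/

set_option autoImplicit false
set_option linter.style.haveILetI false
universe u
open CategoryTheory CategoryTheory.Limits TensorProduct

namespace Groth.Agent.Lib.helper3.ValPd

open Groth.Agent.Lib.helper3.PdFibre IsLocalRing

theorem smul_top_iff {R S N : Type*} [CommRing R] [CommRing S] [Algebra R S] [AddCommGroup N]
    [Module R N] [Module S N] [IsScalarTower R S N] (I : Ideal R) (x : N) :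
    x ∈ I • (⊤ : Submodule R N) ↔ x ∈ (I.map (algebraMap R S)) • (⊤ : Submodule S N) := by
  have := Ideal.smul_restrictScalars (R := R) (S := S) (M := N) I (⊤ : Submodule S N)
  rw [Submodule.restrictScalars_top] at this
  rw [← this, Submodule.restrictScalars_mem]

section Basic

variable {V : Type u} [CommRing V] [IsDomain V] [ValuationRing V] {A' : Type u} [CommRing A']
  [Algebra V A']

theorem flat_of_torsionFree {X : Type*} [AddCommGroup X] [Module V X]
    (h : ∀ a : V, a ≠ 0 → ∀ x : X, a • x = 0 → x = 0) : Module.Flat V X := by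
  rw [Module.Flat.flat_iff_torsion_eq_bot_of_isBezout, eq_bot_iff]
  intro x hx
  obtain ⟨a, ha⟩ := (Submodule.mem_torsion_iff x).mp hx
  exact (Submodule.mem_bot V).mpr (h a (nonZeroDivisors.ne_zero a.2) x ha)

omit [ValuationRing V] in
theorem torsionFree_of_flat {X : Type*} [AddCommGroup X] [Module V X] [Module.Flat V X] :
    ∀ a : V, a ≠ 0 → ∀ x : X, a • x = 0 → x = 0 := by
  intro a ha x hx
  have htor : Submodule.torsion V X = ⊥ := Module.Flat.torsion_eq_bot
  have : x ∈ Submodule.torsion V X :=
    (Submodule.mem_torsion_iff x).mpr ⟨⟨a, mem_nonZeroDivisors_of_ne_zero ha⟩, hx⟩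
  rw [htor] at this
  exact (Submodule.mem_bot V).mp this

theorem flat_submodule {F : Type*} [AddCommGroup F] [Module A' F] [Module V F]
    [IsScalarTower V A' F] [Module.Flat V F] (K : Submodule A' F) : Module.Flat V K := by
  apply flat_of_torsionFree
  intro a ha x hx
  apply Subtype.ext
  apply torsionFree_of_flat (V := V) a ha
  have := congrArg Subtype.val hx
  simpa using this

/-- `K ∩ p F ⊆ p K` for the kernel `K` of a map to a `V`-flat module. -/
theorem mem_smul_top_ker {F M : Type*} [AddCommGroup F] [Module A' F] [Module V F]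
    [IsScalarTower V A' F] [AddCommGroup M] [Module A' M] [Module V M] [IsScalarTower V A' M]
    [Module.Flat V M] (f : F →ₗ[A'] M) (p : Ideal V) (x : LinearMap.ker f)
    (hx : (LinearMap.ker f).subtype x ∈ (p.map (algebraMap V A')) • (⊤ : Submodule A' F)) :
    x ∈ (p.map (algebraMap V A')) • (⊤ : Submodule A' (LinearMap.ker f)) := by
  classical
  rw [← smul_top_iff (R := V)] at hx ⊢
  obtain ⟨r, a, y, ha, hsum⟩ := Groth.Agent.Lib.Helper19.FlatIndep.exists_fin_rep p _ hx
  by_cases hr : (Finset.univ : Finset (Fin r)).Nonempty
  · obtain ⟨i, -, hdiv⟩ := Groth.Agent.Lib.helper3.ValFp.exists_dvd_all Finset.univ hr a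
    choose! c hc using hdiv
    by_cases hai : a i = 0
    · have : x = 0 := by
        apply Subtype.ext
        rw [← (show (LinearMap.ker f).subtype x = (x : F) from rfl), ← hsum]
        simp only [ZeroMemClass.coe_zero]
        refine Finset.sum_eq_zero fun t _ => ?_
        rw [hc t (Finset.mem_univ t), hai, zero_mul, zero_smul]
      rw [this]
      exact Submodule.zero_mem _
    · set z : F := ∑ t, c t • y t with hz
      have hxz : (x : F) = a i • z := by
        rw [← (show (LinearMap.ker f).subtype x = (x : F) from rfl), ← hsum, hz, Finset.smul_sum]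
        refine Finset.sum_congr rfl fun t _ => ?_
        rw [smul_smul, ← hc t (Finset.mem_univ t)]
      have hzK : z ∈ LinearMap.ker f := by
        rw [LinearMap.mem_ker]
        apply torsionFree_of_flat (V := V) (a i) hai
        rw [← algebraMap_smul A' (a i), ← map_smul, algebraMap_smul, ← hxz]
        exact x.2
      have : x = a i • (⟨z, hzK⟩ : LinearMap.ker f) := Subtype.ext hxz
      rw [this]
      exact Submodule.smul_mem_smul (ha i) trivial
  · have : x = 0 := by
      apply Subtype.ext
      rw [← (show (LinearMap.ker f).subtype x = (x : F) from rfl), ← hsum]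
      rw [Finset.not_nonempty_iff_eq_empty] at hr
      rw [hr, Finset.sum_empty]
      rfl
    rw [this]
    exact Submodule.zero_mem _

end Basic

end Groth.Agent.Lib.helper3.ValPd
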