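import Mathlib
import Groth.Agent.Lib.Helper3.ValPd1
/-!
# Projective dimension over local rings flat over a valuation ring: the closed fibre detects `pd`
(helper3)

`pd_lt_of_fibre`: `V` valuation ring, `A'` local, flat and essentially of finite type over `V`,
`I = p A' ⊆ 𝔪_{A'}`, `C = A' ⧸ I`.  For `M` finitely presented over `A'` and flat over `V`,
`pd_C (C ⊗ M) < i → pd_{A'} M < i`.
-/

set_option autoImplicit false
set_option linter.style.haveILetI false
universe u
open CategoryTheory CategoryTheory.Limits TensorProduct

namespace Groth.Agent.Lib.helper3.ValPd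

open Groth.Agent.Lib.helper3.PdFibre IsLocalRing

section Main

variable {V : Type u} [CommRing V] [IsDomain V] [ValuationRing V] {A' : Type u} [CommRing A']
  [IsLocalRing A'] [Algebra V A'] [Module.Flat V A'] [Algebra.EssFiniteType V A']

omit [IsLocalRing A'] [Algebra.EssFiniteType V A'] in
theorem flat_pi (s : ℕ) : Module.Flat V (Fin s → A') := by
  apply flat_of_torsionFree
  intro a ha x hx
  funext i
  have := congrFun hx i
  exact torsionFree_of_flat (V := V) a ha (x i) this

end Main

/-- kernels of surjections from finite free modules onto finitely presented modules are finitely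
presented and `V`-flat. -/
theorem finitePresentation_ker (V : Type u) [CommRing V] [IsDomain V] [ValuationRing V]
    {A' : Type u} [CommRing A'] [Algebra V A'] [Module.Flat V A'] [Algebra.EssFiniteType V A']
    {M : Type u} [AddCommGroup M] [Module A' M]
    [Module.FinitePresentation A' M] {s : ℕ} (f : (Fin s → A') →ₗ[A'] M)
    (hf : Function.Surjective f) : Module.FinitePresentation A' (LinearMap.ker f) := by
  haveI : Module.Flat V (Fin s → A') := flat_pi s
  haveI : Module.Flat V (LinearMap.ker f) := flat_submodule (V := V) (LinearMap.ker f)
  haveI : Module.Finite A' (LinearMap.ker f) :=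
    Module.Finite.iff_fg.2 (Module.FinitePresentation.fg_ker f hf)
  exact Groth.Agent.Lib.helper3.ValFp.finitePresentation_of_flat_essFiniteType (A := V)

section Main

variable {V : Type u} [CommRing V] [IsDomain V] [ValuationRing V] {A' : Type u} [CommRing A']
  [IsLocalRing A'] [Algebra V A'] [Module.Flat V A'] [Algebra.EssFiniteType V A']

variable (p : Ideal V) (hp : p.map (algebraMap V A') ≤ maximalIdeal A')

omit [IsLocalRing A'] [Module.Flat V A'] [Algebra.EssFiniteType V A'] in
theorem injective_lTensor_ker {M : Type u} [AddCommGroup M] [Module A' M] [Module V M]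
    [IsScalarTower V A' M] [Module.Flat V M] {s : ℕ} (f : (Fin s → A') →ₗ[A'] M) :
    Function.Injective ((LinearMap.ker f).subtype.lTensor (A' ⧸ p.map (algebraMap V A'))) :=
  Groth.Agent.Lib.Helper19.FlatIndep.inj_of_P _ _ (fun x hx => mem_smul_top_ker f p x hx)

include hp in
/-- **The closed fibre detects projective dimension.** -/
theorem pd_lt_of_fibre : ∀ (i : ℕ) (M : Type u) [AddCommGroup M] [Module A' M] [Module V M]
    [IsScalarTower V A' M] [Module.FinitePresentation A' M] [Module.Flat V M],
    HasProjectiveDimensionLT (ModuleCat.of (A' ⧸ p.map (algebraMap V A'))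
      ((A' ⧸ p.map (algebraMap V A')) ⊗[A'] M)) i →
    HasProjectiveDimensionLT (ModuleCat.of A' M) i := by
  intro i
  induction i with
  | zero =>
    intro M _ _ _ _ _ _ h
    rw [hasProjectiveDimensionLT_zero_iff_isZero] at h ⊢
    haveI : Subsingleton ((A' ⧸ p.map (algebraMap V A')) ⊗[A'] M) :=
      ModuleCat.subsingleton_of_isZero h
    haveI : Subsingleton (M ⧸ (p.map (algebraMap V A')) • (⊤ : Submodule A' M)) :=
      (TensorProduct.quotTensorEquivQuotSMul M (p.map (algebraMap V A'))).symm.toEquiv.subsingleton
    have htop : (p.map (algebraMap V A')) • (⊤ : Submodule A' M) = ⊤ :=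
      Submodule.Quotient.subsingleton_iff.mp inferInstance
    have hbot : (⊤ : Submodule A' M) = ⊥ := by
      refine Submodule.eq_bot_of_le_smul_of_le_jacobson_bot (p.map (algebraMap V A')) ⊤
        Module.Finite.fg_top (le_of_eq htop.symm) ?_
      rw [IsLocalRing.jacobson_eq_maximalIdeal ⊥ bot_ne_top]
      exact hp
    haveI : Subsingleton M := by
      refine subsingleton_of_forall_eq 0 fun x => ?_
      have : x ∈ (⊤ : Submodule A' M) := trivial
      rw [hbot] at this
      exact (Submodule.mem_bot A').mp this
    exact ModuleCat.isZero_of_subsingleton _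
  | succ i ih =>
    cases i with
    | zero =>
      intro M _ _ _ _ _ _ h
      rw [zero_add, ← projective_iff_hasProjectiveDimensionLT_one] at h ⊢
      haveI : Module.Projective (A' ⧸ p.map (algebraMap V A'))
          ((A' ⧸ p.map (algebraMap V A')) ⊗[A'] M) :=
        (IsProjective.iff_projective (R := A' ⧸ p.map (algebraMap V A'))
          (P := (A' ⧸ p.map (algebraMap V A')) ⊗[A'] M)).2 h
      obtain ⟨s, f, hf⟩ := Module.Finite.exists_fin' A' M
      have hK : (LinearMap.ker f).FG := Module.FinitePresentation.fg_ker f hf
      haveI : Module.Projective A' ((Fin s → A') ⧸ LinearMap.ker f) := by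
        refine projective_quot_of_residue_injective _ hK (fun m hm => ?_)
        have hIm : p.map (algebraMap V A') ≤ m := by
          rw [IsLocalRing.eq_maximalIdeal hm]; exact hp
        letI : Algebra (A' ⧸ p.map (algebraMap V A')) (A' ⧸ m) :=
          (Ideal.Quotient.factor hIm).toAlgebra
        haveI : IsScalarTower A' (A' ⧸ p.map (algebraMap V A')) (A' ⧸ m) :=
          IsScalarTower.of_algebraMap_eq (fun b => rfl)
        have hι := injective_lTensor_ker (V := V) p f
        apply injective_lTensor_of_baseChange (C := A' ⧸ p.map (algebraMap V A'))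
        refine LinearMap.lTensor_injective_of_exact_of_flat
          (f.baseChange (A' ⧸ p.map (algebraMap V A'))) ?_
          ((LinearMap.ker f).subtype.baseChange (A' ⧸ p.map (algebraMap V A'))) ?_ ?_ (A' ⧸ m)
        · rw [LinearMap.baseChange_eq_ltensor]
          exact LinearMap.lTensor_surjective _ hf
        · rw [LinearMap.baseChange_eq_ltensor]
          exact hι
        · rw [LinearMap.baseChange_eq_ltensor, LinearMap.baseChange_eq_ltensor]
          exact lTensor_exact _ (LinearMap.exact_subtype_ker_map f) hf
      haveI : Module.Projective A' M :=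
        Module.Projective.of_equiv (f.quotKerEquivOfSurjective hf)
      exact (IsProjective.iff_projective (R := A') (P := M)).1 inferInstance
    | succ j =>
      intro M _ _ _ _ _ _ h
      obtain ⟨s, f, hf⟩ := Module.Finite.exists_fin' A' M
      have hS := ses_shortExact (LinearMap.ker f).subtype f (Submodule.injective_subtype _) hf
        (LinearMap.exact_subtype_ker_map f)
      haveI : Module.Flat V (Fin s → A') := flat_pi s
      haveI : Module.Flat V (LinearMap.ker f) := flat_submodule (V := V) (LinearMap.ker f)
      haveI : Module.FinitePresentation A' (LinearMap.ker f) :=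
        finitePresentation_ker V f hf
      haveI : Projective (ses (LinearMap.ker f).subtype f (LinearMap.exact_subtype_ker_map f)).X₂ :=
        projective_free s
      have hK : HasProjectiveDimensionLT (ModuleCat.of A' (LinearMap.ker f)) (j + 1) := by
        refine ih (LinearMap.ker f) ?_
        have hSC := sesBC_shortExact (LinearMap.ker f).subtype f
          (A' ⧸ p.map (algebraMap V A')) (injective_lTensor_ker (V := V) p f) hf
          (LinearMap.exact_subtype_ker_map f)
        haveI : Projective (sesBC (LinearMap.ker f).subtype f (A' ⧸ p.map (algebraMap V A'))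
            (LinearMap.exact_subtype_ker_map f)).X₂ :=
          (IsProjective.iff_projective (R := A' ⧸ p.map (algebraMap V A'))
            (P := (A' ⧸ p.map (algebraMap V A')) ⊗[A'] (Fin s → A'))).1 inferInstance
        exact hSC.hasProjectiveDimensionLT_X₁ (j + 1)
          (hasProjectiveDimensionLT_of_ge _ 1 (j + 1) (by omega)) h
      exact hS.hasProjectiveDimensionLT_X₃ (j + 1) hK
        (hasProjectiveDimensionLT_of_ge _ 1 (j + 1 + 1) (by omega))

end Main

end Groth.Agent.Lib.helper3.ValPd
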