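import Mathlib
import Groth.Agent.Lib.Helper3.ValPd2
/-!
# Reflexive modules over local rings flat and essentially of finite type over a valuation ring
(helper3)

* `flat_dual`: duals are `V`-flat.
* `finitePresentation_range`, `finitePresentation_ker'`: ranges/kernels of maps between
  (finite) `V`-flat modules are finitely presented.
* `dualEquivKer`: `M^* ≃ ker (F^* → G^*)` for a presentation `G → F → M → 0`.
* `finitePresentation_dual`: duals of f.p. modules are f.p.
* `pd_reflexive`: reflexive f.p. modules have `pd ≤ n - 1` when the closed fibre has global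
  dimension `≤ n`.
-/

set_option autoImplicit false
set_option linter.style.haveILetI false
universe u
open CategoryTheory CategoryTheory.Limits TensorProduct

namespace Groth.Agent.Lib.helper3.ValPd

open Groth.Agent.Lib.helper3.PdFibre IsLocalRing

section Dual

variable {V : Type u} [CommRing V] [IsDomain V] [ValuationRing V] {A' : Type u} [CommRing A']
  [Algebra V A'] [Module.Flat V A']

/-- the dual of any `A'`-module is `V`-torsion-free, hence `V`-flat. -/
theorem flat_dual (X : Type u) [AddCommGroup X] [Module A' X] :
    Module.Flat V (Module.Dual A' X) := by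
  apply flat_of_torsionFree
  intro a ha φ hφ
  ext x
  have h1 : (a • φ) x = 0 := by rw [hφ]; rfl
  rw [LinearMap.smul_apply] at h1
  exact torsionFree_of_flat (V := V) a ha (φ x) h1

variable [Algebra.EssFiniteType V A']

omit [Module.Flat V A'] in
/-- the range of a map from a finite module to a `V`-flat module is finitely presented. -/
theorem finitePresentation_range {F G : Type u} [AddCommGroup F] [Module A' F] [Module.Finite A' F]
    [AddCommGroup G] [Module A' G] [Module V G] [IsScalarTower V A' G] [Module.Flat V G]
    (ψ : F →ₗ[A'] G) : Module.FinitePresentation A' (LinearMap.range ψ) := by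
  haveI : Module.Flat V (LinearMap.range ψ) := flat_submodule (V := V) (LinearMap.range ψ)
  haveI : Module.Finite A' (LinearMap.range ψ) := Module.Finite.range ψ
  exact Groth.Agent.Lib.helper3.ValFp.finitePresentation_of_flat_essFiniteType (A := V)

omit [Module.Flat V A'] in
/-- the kernel of a map from a finite `V`-flat module to a `V`-flat module is finitely presented. -/
theorem finitePresentation_ker' {F G : Type u} [AddCommGroup F] [Module A' F] [Module.Finite A' F]
    [Module V F] [IsScalarTower V A' F] [Module.Flat V F]
    [AddCommGroup G] [Module A' G] [Module V G] [IsScalarTower V A' G] [Module.Flat V G]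
    (ψ : F →ₗ[A'] G) : Module.FinitePresentation A' (LinearMap.ker ψ) := by
  haveI : Module.FinitePresentation A' (LinearMap.range ψ) := finitePresentation_range (V := V) ψ
  haveI : Module.Flat V (LinearMap.ker ψ) := flat_submodule (V := V) (LinearMap.ker ψ)
  haveI : Module.Finite A' (LinearMap.ker ψ) := by
    have := Module.FinitePresentation.fg_ker ψ.rangeRestrict ψ.surjective_rangeRestrict
    rw [LinearMap.ker_rangeRestrict] at this
    exact Module.Finite.iff_fg.2 this
  exact Groth.Agent.Lib.helper3.ValFp.finitePresentation_of_flat_essFiniteType (A := V)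

end Dual

section DualKer

variable {R : Type u} [CommRing R] {G F M : Type u} [AddCommGroup G] [Module R G]
  [AddCommGroup F] [Module R F] [AddCommGroup M] [Module R M]

/-- for an exact sequence `G → F → M → 0`, `M^* ≃ ker (F^* → G^*)`. -/
noncomputable def dualEquivKer (g : G →ₗ[R] F) (f : F →ₗ[R] M) (hf : Function.Surjective f)
    (hex : Function.Exact g f) : Module.Dual R M ≃ₗ[R] LinearMap.ker g.dualMap := by
  refine LinearEquiv.ofBijective
    (f.dualMap.codRestrict (LinearMap.ker g.dualMap) (fun φ => ?_)) ⟨?_, ?_⟩
  · rw [LinearMap.mem_ker]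
    ext x
    simp only [LinearMap.dualMap_apply, LinearMap.zero_apply]
    rw [hex.apply_apply_eq_zero, map_zero]
  · intro φ₁ φ₂ h
    have := congrArg Subtype.val h
    simp only [LinearMap.codRestrict_apply] at this
    exact LinearMap.dualMap_injective_of_surjective hf this
  · rintro ⟨μ, hμ⟩
    rw [LinearMap.mem_ker] at hμ
    have hk : LinearMap.ker f ≤ LinearMap.ker μ := by
      intro x hx
      obtain ⟨y, rfl⟩ := (hex x).mp hx
      have := congrArg (fun ν => ν y) hμ
      simpa using this
    refine ⟨((LinearMap.ker f).liftQ μ hk) ∘ₗ (f.quotKerEquivOfSurjective hf).symm.toLinearMap, ?_⟩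
    apply Subtype.ext
    ext x
    simp only [LinearMap.codRestrict_apply, LinearMap.dualMap_apply, LinearMap.coe_comp,
      LinearEquiv.coe_coe, Function.comp_apply]
    have : (f.quotKerEquivOfSurjective hf).symm (f x) = Submodule.Quotient.mk x := by
      rw [LinearEquiv.symm_apply_eq]
      rfl
    rw [this, Submodule.liftQ_apply]

end DualKer

section Main

theorem finitePresentation_of_equiv_ker {V : Type u} [CommRing V] [IsDomain V] [ValuationRing V]
    {A' : Type u} [CommRing A'] [Algebra V A'] [Algebra.EssFiniteType V A']
    {F G M : Type u} [AddCommGroup F] [Module A' F] [Module.Finite A' F]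
    [Module V F] [IsScalarTower V A' F] [Module.Flat V F]
    [AddCommGroup G] [Module A' G] [Module V G] [IsScalarTower V A' G] [Module.Flat V G]
    [AddCommGroup M] [Module A' M]
    (ψ : F →ₗ[A'] G) (e : M ≃ₗ[A'] LinearMap.ker ψ) : Module.FinitePresentation A' M := by
  haveI : Module.FinitePresentation A' (LinearMap.ker ψ) := finitePresentation_ker' (V := V) ψ
  exact Module.FinitePresentation.of_equiv e.symm

/-- duals of finitely presented modules are finitely presented. -/
theorem finitePresentation_dual (V : Type u) [CommRing V] [IsDomain V] [ValuationRing V]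
    {A' : Type u} [CommRing A'] [Algebra V A'] [Module.Flat V A'] [Algebra.EssFiniteType V A']
    (M : Type u) [AddCommGroup M] [Module A' M]
    [Module.FinitePresentation A' M] : Module.FinitePresentation A' (Module.Dual A' M) := by
  obtain ⟨s, r, f, g, hf, hex⟩ := Module.FinitePresentation.exists_fin' A' M
  haveI : Module.Flat V (Module.Dual A' (Fin s → A')) := flat_dual (V := V) _
  haveI : Module.Flat V (Module.Dual A' (Fin r → A')) := flat_dual (V := V) _
  exact finitePresentation_of_equiv_ker (V := V) g.dualMap (dualEquivKer g f hf hex)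

variable {V : Type u} [CommRing V] [IsDomain V] [ValuationRing V] {A' : Type u} [CommRing A']
  [IsLocalRing A'] [Algebra V A'] [Module.Flat V A'] [Algebra.EssFiniteType V A']

variable (p : Ideal V) (hp : p.map (algebraMap V A') ≤ maximalIdeal A')

include hp in
/-- kernels of maps from finite projective modules to `V`-flat modules have `pd ≤ n - 1`. -/
theorem pd_of_equiv_ker (n : ℕ)
    (hC : ∀ (X : Type u) [AddCommGroup X] [Module (A' ⧸ p.map (algebraMap V A')) X],
      HasProjectiveDimensionLT (ModuleCat.of (A' ⧸ p.map (algebraMap V A')) X) (n + 1))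
    {F G : Type u} [AddCommGroup F] [Module A' F] [Module.Finite A' F] [Module.Projective A' F]
    [AddCommGroup G] [Module A' G] [Module V G] [IsScalarTower V A' G] [Module.Flat V G]
    (ψ : F →ₗ[A'] G) (M : Type u) [AddCommGroup M] [Module A' M]
    (e : M ≃ₗ[A'] LinearMap.ker ψ) :
    HasProjectiveDimensionLT (ModuleCat.of A' M) (n - 1 + 1) := by
  haveI : Module.FinitePresentation A' (LinearMap.range ψ) :=
    finitePresentation_range (V := V) ψ
  haveI : Module.Flat V (LinearMap.range ψ) := flat_submodule (V := V) (LinearMap.range ψ)
  have hQ : HasProjectiveDimensionLT (ModuleCat.of A' (LinearMap.range ψ)) (n + 1) :=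
    pd_lt_of_fibre p hp (n + 1) (LinearMap.range ψ) (hC _)
  have hex : Function.Exact (LinearMap.ker ψ).subtype ψ.rangeRestrict := by
    have := LinearMap.exact_subtype_ker_map ψ.rangeRestrict
    rwa [LinearMap.ker_rangeRestrict] at this
  have hS := ses_shortExact (LinearMap.ker ψ).subtype ψ.rangeRestrict
    (Submodule.injective_subtype _) ψ.surjective_rangeRestrict hex
  haveI : Projective (ses (LinearMap.ker ψ).subtype ψ.rangeRestrict hex).X₂ :=
    (IsProjective.iff_projective (R := A') (P := F)).1 inferInstance
  have hK : HasProjectiveDimensionLT (ModuleCat.of A' (LinearMap.ker ψ)) (n - 1 + 1) := by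
    cases n with
    | zero =>
      haveI : HasProjectiveDimensionLT
          (ses (LinearMap.ker ψ).subtype ψ.rangeRestrict hex).X₃ 1 := hQ
      exact hS.hasProjectiveDimensionLT_X₁ 1 inferInstance
        (hasProjectiveDimensionLT_of_ge _ 1 2 (by omega))
    | succ m =>
      exact hS.hasProjectiveDimensionLT_X₁ (m + 1)
        (hasProjectiveDimensionLT_of_ge _ 1 (m + 1) (by omega)) hQ
  exact hasProjectiveDimensionLT_of_iso (e.symm.toModuleIso) _

include hp in
/-- **Reflexive finitely presented modules have `pd ≤ n - 1`** when all modules over the closed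
fibre have `pd ≤ n`. -/
theorem pd_reflexive (n : ℕ)
    (hC : ∀ (X : Type u) [AddCommGroup X] [Module (A' ⧸ p.map (algebraMap V A')) X],
      HasProjectiveDimensionLT (ModuleCat.of (A' ⧸ p.map (algebraMap V A')) X) (n + 1))
    (M : Type u) [AddCommGroup M] [Module A' M] [Module.FinitePresentation A' M]
    [Module.IsReflexive A' M] :
    HasProjectiveDimensionLT (ModuleCat.of A' M) (n - 1 + 1) := by
  haveI : Module.FinitePresentation A' (Module.Dual A' M) := finitePresentation_dual V M
  obtain ⟨a, b, f', g', hf', hex'⟩ :=
    Module.FinitePresentation.exists_fin' A' (Module.Dual A' M)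
  haveI : Module.Flat V (Module.Dual A' (Fin b → A')) := flat_dual (V := V) _
  exact pd_of_equiv_ker p hp n hC g'.dualMap M
    ((Module.evalEquiv A' M).trans (dualEquivKer g' f' hf' hex'))

end Main

end Groth.Agent.Lib.helper3.ValPd
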