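import Mathlib
import Groth.Agent.S14891

set_option autoImplicit false
set_option linter.style.haveILetI false
set_option linter.unusedSectionVars false
universe u

namespace Groth.Agent.Lib.helper3.ValRank

open IsLocalRing

section Ints

variable {K : Type*} [Field K]

theorem val_intCast_le_one (B : ValuationSubring K) (m : ℤ) : B.valuation (m : K) ≤ 1 :=
  (B.valuation_le_one_iff _).mpr (intCast_mem B m)

theorem val_natCast_le_one (B : ValuationSubring K) (m : ℕ) : B.valuation (m : K) ≤ 1 :=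
  (B.valuation_le_one_iff _).mpr (natCast_mem B m)

theorem val_natAbs (B : ValuationSubring K) (n : ℤ) :
    B.valuation ((n.natAbs : ℕ) : K) = B.valuation (n : K) := by
  rcases Int.natAbs_eq n with h' | h'
  · conv_rhs => rw [h']
    rw [Int.cast_natCast]
  · conv_rhs => rw [h']
    rw [Int.cast_neg, Int.cast_natCast, Valuation.map_neg]

/-- if some nonzero integer is a non-unit, the non-unit integers are the multiples of a least
positive one. -/
theorem exists_least (B : ValuationSubring K) (h : ∃ m : ℕ, 0 < m ∧ B.valuation (m : K) < 1) :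
    ∃ ℓ : ℕ, 0 < ℓ ∧ B.valuation (ℓ : K) < 1 ∧
      (∀ t : ℕ, 0 < t → t < ℓ → B.valuation (t : K) = 1) ∧
      ∀ m : ℤ, B.valuation (m : K) < 1 → (ℓ : ℤ) ∣ m := by
  classical
  refine ⟨Nat.find h, (Nat.find_spec h).1, (Nat.find_spec h).2, fun t ht htl => ?_, fun m hm => ?_⟩
  · have := Nat.find_min h htl
    rw [not_and] at this
    exact le_antisymm (val_natCast_le_one B t) (not_lt.mp (this ht))
  · set ℓ := Nat.find h with hℓ
    have hℓpos : 0 < ℓ := (Nat.find_spec h).1
    have hℓv : B.valuation (ℓ : K) < 1 := (Nat.find_spec h).2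
    have hmod : m % (ℓ : ℤ) = m - (ℓ : ℤ) * (m / (ℓ : ℤ)) := by
      have := Int.emod_add_mul_ediv m (ℓ : ℤ); omega
    have hnn : 0 ≤ m % (ℓ : ℤ) := Int.emod_nonneg _ (by exact_mod_cast hℓpos.ne')
    have hlt : m % (ℓ : ℤ) < ℓ := Int.emod_lt_of_pos _ (by exact_mod_cast hℓpos)
    have hv : B.valuation ((m % (ℓ : ℤ) : ℤ) : K) < 1 := by
      rw [hmod]
      push_cast
      refine lt_of_le_of_lt (Valuation.map_sub _ _ _) (max_lt hm ?_)
      rw [map_mul]
      exact mul_lt_one_of_nonneg_of_lt_one_left zero_le hℓv (val_intCast_le_one B _)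
    obtain ⟨r, hr⟩ := Int.eq_ofNat_of_zero_le hnn
    rw [hr] at hv hlt
    have hr0 : r = 0 := by
      by_contra hr0
      have hrl : r < ℓ := by exact_mod_cast hlt
      have := Nat.find_min h hrl
      exact this ⟨Nat.pos_of_ne_zero hr0, by exact_mod_cast hv⟩
    rw [hr0] at hr
    exact Int.dvd_of_emod_eq_zero (by simpa using hr)

end Ints

section PrimeField

variable {K : Type*} [Field K]

/-- the image of the units of the prime field. -/
def PF (K : Type*) [Field K] : Subgroup Kˣ :=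
  (Units.map (algebraMap (⊥ : Subfield K) K).toMonoidHom).range

theorem exists_rat_of_mem_PF [CharZero K] {c : Kˣ} (hc : c ∈ PF K) :
    ∃ q : ℚ, q ≠ 0 ∧ (c : K) = (q : K) := by
  obtain ⟨c₀, rfl⟩ := hc
  have hle : (⊥ : Subfield K) ≤ (algebraMap ℚ K).fieldRange :=
    le_of_eq Subfield.bot_eq_of_charZero
  have hmem : ((c₀ : (⊥ : Subfield K)) : K) ∈ (algebraMap ℚ K).fieldRange :=
    hle (c₀ : (⊥ : Subfield K)).2
  obtain ⟨q, hq⟩ := hmem
  refine ⟨q, ?_, ?_⟩
  · rintro rfl
    rw [map_zero] at hq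
    exact c₀.ne_zero (Subtype.ext hq.symm)
  · rw [← eq_ratCast (algebraMap ℚ K), hq]; rfl

theorem mem_unitGroup_of_mem_PF_of_charP (p : ℕ) [hp : Fact p.Prime] [CharP K p] {c : Kˣ}
    (hc : c ∈ PF K) (B : ValuationSubring K) : c ∈ B.unitGroup := by
  letI := ZMod.algebra K p
  obtain ⟨c₀, rfl⟩ := hc
  have hle : (⊥ : Subfield K) ≤ (algebraMap (ZMod p) K).fieldRange :=
    le_of_eq (Subfield.bot_eq_of_zMod_algebra p)
  have hmem : ((c₀ : (⊥ : Subfield K)) : K) ∈ (algebraMap (ZMod p) K).fieldRange :=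
    hle (c₀ : (⊥ : Subfield K)).2
  obtain ⟨z, hz⟩ := hmem
  have hz0 : z ≠ 0 := by
    rintro rfl
    rw [map_zero] at hz
    exact c₀.ne_zero (Subtype.ext hz.symm)
  have hpow : (algebraMap (ZMod p) K z) ^ (p - 1) = 1 := by
    rw [← map_pow, ZMod.pow_card_sub_one_eq_one hz0, map_one]
  rw [ValuationSubring.mem_unitGroup_iff]
  have hv : B.valuation ((c₀ : (⊥ : Subfield K)) : K) ^ (p - 1) = 1 := by
    rw [← map_pow, ← hz, hpow, map_one]
  have hp1 : p - 1 ≠ 0 := by have := hp.out.two_le; omega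
  exact (pow_eq_one_iff_of_nonneg zero_le hp1).mp hv

theorem val_rat {B : ValuationSubring K} [CharZero K] (q : ℚ) :
    B.valuation (q : K) = B.valuation (q.num : K) / B.valuation (q.den : K) := by
  rw [Rat.cast_def, map_div₀]

/-- **at most one jump on the prime field** (characteristic zero). -/
theorem bu0 [CharZero K] {B B'' : ValuationSubring K} (hle : B'' ≤ B) {c c' : Kˣ}
    (hc : c ∈ PF K) (hc' : c' ∈ PF K) (h1 : c ∉ B.unitGroup) (h2 : c' ∈ B.unitGroup)
    (h3 : c' ∉ B''.unitGroup) : False := by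
  obtain ⟨q, hq0, hq⟩ := exists_rat_of_mem_PF hc
  obtain ⟨q', hq'0, hq'⟩ := exists_rat_of_mem_PF hc'
  rw [ValuationSubring.mem_unitGroup_iff, hq, val_rat] at h1
  rw [ValuationSubring.mem_unitGroup_iff, hq', val_rat] at h2 h3
  have hden0 : ∀ (A : ValuationSubring K) (r : ℚ), A.valuation (r.den : K) ≠ 0 := fun A r => by
    rw [Valuation.ne_zero_iff]; exact_mod_cast r.den_nz
  -- a least non-unit positive integer for `B`
  have hexB : ∃ m : ℕ, 0 < m ∧ B.valuation (m : K) < 1 := by
    by_contra hcon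
    push Not at hcon
    apply h1
    have hd : B.valuation (q.den : K) = 1 :=
      le_antisymm (val_natCast_le_one B _) (hcon _ q.den_pos)
    have hn : B.valuation (q.num : K) = 1 := by
      have h := hcon q.num.natAbs (Int.natAbs_pos.mpr (Rat.num_ne_zero.mpr hq0))
      have hcast : B.valuation ((q.num.natAbs : ℕ) : K) = B.valuation (q.num : K) :=
        val_natAbs B _
      rw [hcast] at h
      exact le_antisymm (val_intCast_le_one B _) h
    rw [hd, hn, div_one]
  obtain ⟨ℓ, hℓpos, hℓv, hℓmin, hℓdvd⟩ := exists_least B hexB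
  -- `B''` also has one
  have hlt'' : ∀ x : K, B.valuation x < 1 → B''.valuation x < 1 := by
    intro x hx
    have h1 : x ∈ B.nonunits := B.mem_nonunits_iff.mpr hx
    exact B''.mem_nonunits_iff.mp
      ((ValuationSubring.nonunits_le_nonunits.mpr hle) h1)
  obtain ⟨ℓ'', hℓ''pos, hℓ''v, hℓ''min, hℓ''dvd⟩ := exists_least B'' ⟨ℓ, hℓpos, hlt'' _ hℓv⟩
  -- `ℓ = ℓ''`
  have hℓℓ : B.valuation (ℓ'' : K) < 1 := by
    by_contra hnot
    have h1' : B.valuation (ℓ'' : K) = 1 := le_antisymm (val_natCast_le_one B _) (not_lt.mp hnot)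
    obtain ⟨t, ht⟩ : (ℓ'' : ℤ) ∣ (ℓ : ℤ) := hℓ''dvd ℓ (by exact_mod_cast hlt'' _ hℓv)
    have htpos : 0 < t := by
      by_contra htn
      have : (ℓ : ℤ) ≤ 0 := by
        rw [ht]; exact mul_nonpos_of_nonneg_of_nonpos (by positivity) (not_lt.mp htn)
      omega
    obtain ⟨t', rfl⟩ := Int.eq_ofNat_of_zero_le htpos.le
    have ht' : ℓ = ℓ'' * t' := by exact_mod_cast ht
    have hℓ''2 : 2 ≤ ℓ'' := by
      by_contra hh
      have : ℓ'' = 1 := by omega
      rw [this] at hℓ''v
      simp at hℓ''v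
    have ht'lt : t' < ℓ := by
      rw [ht']; nlinarith [Nat.pos_of_ne_zero (by rintro rfl; simp at htpos : t' ≠ 0)]
    have ht'pos : 0 < t' := by exact_mod_cast htpos
    have := hℓmin t' ht'pos ht'lt
    have hv : B.valuation (ℓ : K) = 1 := by
      rw [ht']; push_cast; rw [map_mul, h1', this, mul_one]
    rw [hv] at hℓv
    exact lt_irrefl _ hℓv
  -- analyze `q'`
  set a := q'.num with ha
  set b := q'.den with hb
  have hb0 := hden0 B q'
  have hab : B.valuation (a : K) = B.valuation (b : K) := by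
    rw [div_eq_one_iff_eq hb0] at h2; exact h2
  have hcop : Nat.Coprime a.natAbs b := q'.reduced
  have hnotboth : ¬ (B.valuation (a : K) < 1) := by
    intro hlt
    have hd1 : (ℓ : ℤ) ∣ a := hℓdvd a hlt
    have hd2 : (ℓ : ℤ) ∣ (b : ℤ) := hℓdvd b (by rw [hab] at hlt; exact_mod_cast hlt)
    have hd1' : ℓ ∣ a.natAbs := Int.natCast_dvd.mp hd1
    have hd2' : ℓ ∣ b := Int.natCast_dvd_natCast.mp hd2
    have := Nat.eq_one_of_dvd_coprimes hcop hd1' hd2'
    rw [this] at hℓv
    simp at hℓv
  have ha1 : B.valuation (a : K) = 1 :=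
    le_antisymm (val_intCast_le_one B _) (not_lt.mp hnotboth)
  have hb1 : B.valuation (b : K) = 1 := by rw [← hab]; exact ha1
  -- one of them is a non-unit of `B''`
  have hex : ∃ m : ℤ, B.valuation (m : K) = 1 ∧ B''.valuation (m : K) < 1 := by
    by_contra hcon
    push Not at hcon
    apply h3
    have h1a : B''.valuation (a : K) = 1 :=
      le_antisymm (val_intCast_le_one B'' _) (hcon a ha1)
    have h1b : B''.valuation (b : K) = 1 := by
      have := hcon (b : ℤ) (by exact_mod_cast hb1)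
      exact le_antisymm (val_natCast_le_one B'' _) (by exact_mod_cast this)
    rw [h1a, h1b, div_one]
  obtain ⟨m, hm1, hm2⟩ := hex
  have hd'' : (ℓ'' : ℤ) ∣ m := hℓ''dvd m hm2
  have hdℓ : (ℓ : ℤ) ∣ (ℓ'' : ℤ) := hℓdvd ℓ'' (by exact_mod_cast hℓℓ)
  obtain ⟨k, hk⟩ := hdℓ.trans hd''
  have : B.valuation (m : K) < 1 := by
    rw [hk]; push_cast; rw [map_mul]
    exact mul_lt_one_of_nonneg_of_lt_one_left zero_le hℓv (val_intCast_le_one B _)
  rw [hm1] at this
  exact lt_irrefl _ this

/-- at most one jump on the prime field, any characteristic. -/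
theorem bu {B B'' : ValuationSubring K} (hle : B'' ≤ B) {c c' : Kˣ}
    (hc : c ∈ PF K) (hc' : c' ∈ PF K) (h1 : c ∉ B.unitGroup) (h2 : c' ∈ B.unitGroup)
    (h3 : c' ∉ B''.unitGroup) : False := by
  obtain ⟨p, hp⟩ := CharP.exists K
  rcases CharP.char_is_prime_or_zero K p with hpp | rfl
  · haveI : Fact p.Prime := ⟨hpp⟩
    exact h1 (mem_unitGroup_of_mem_PF_of_charP p hc B)
  · haveI : CharZero K := CharP.charP_to_charZero K
    exact bu0 hle hc hc' h1 h2 h3

end PrimeField

section Chain

theorem linInd_of_prod {G : Type*} [CommGroup G] (H : Subgroup G) {ι : Type*} [Fintype ι]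
    (x : ι → G) (h : ∀ g : ι → ℤ, (∏ i, x i ^ g i) ∈ H → ∀ i, g i = 0) :
    LinearIndependent ℤ
      (fun i => QuotientAddGroup.mk' H.toAddSubgroup (Additive.ofMul (x i))) := by
  rw [Fintype.linearIndependent_iff]
  intro g hg
  apply h g
  have h1 : ∑ i, g i • (QuotientAddGroup.mk' H.toAddSubgroup (Additive.ofMul (x i))) =
      QuotientAddGroup.mk' H.toAddSubgroup (Additive.ofMul (∏ i, x i ^ g i)) := by
    rw [ofMul_prod, map_sum]
    refine Finset.sum_congr rfl fun i _ => ?_
    rw [ofMul_zpow, map_zsmul]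
  rw [h1] at hg
  exact (QuotientAddGroup.eq_zero_iff _).mp hg

variable {K : Type u} [Field K]

theorem ai_of_linInd (L : ValuationSubring K) {ι : Type*} (x : ι → Kˣ)
    (hLI : LinearIndependent ℤ (fun i : ι =>
      QuotientAddGroup.mk' (L.unitGroup ⊔ PF K).toAddSubgroup (Additive.ofMul (x i)))) :
    AlgebraicIndependent (⊥ : Subfield K) (fun i => ((x i : Kˣ) : K)) := by
  let vL := L.valuation
  let vK : Valuation (⊥ : Subfield K) L.ValueGroup := vL.comap (algebraMap (⊥ : Subfield K) K)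
  haveI : vK.HasExtension vL := ⟨Valuation.IsEquiv.refl⟩
  have hπ1 : ∀ w : Kˣ, w ∈ vL.valuationSubring.unitGroup →
      (QuotientAddGroup.mk' (L.unitGroup ⊔ PF K).toAddSubgroup) (Additive.ofMul w) = 0 := by
    intro w hw
    refine (QuotientAddGroup.eq_zero_iff _).mpr ?_
    have hw' : w ∈ L.unitGroup := by
      have e : vL.valuationSubring = L := ValuationSubring.valuationSubring_valuation L
      rw [e] at hw; exact hw
    exact (le_sup_left : L.unitGroup ≤ L.unitGroup ⊔ PF K) hw'
  have hπ2 : ∀ k : (↥(⊥ : Subfield K))ˣ,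
      (QuotientAddGroup.mk' (L.unitGroup ⊔ PF K).toAddSubgroup)
      (Additive.ofMul (Units.map (algebraMap (⊥ : Subfield K) K).toMonoidHom k)) = 0 := by
    intro k
    exact (QuotientAddGroup.eq_zero_iff _).mpr
      ((le_sup_right : PF K ≤ L.unitGroup ⊔ PF K) ⟨k, rfl⟩)
  have hy : AlgebraicIndependent (ResidueField vK.valuationSubring)
      (fun j : PEmpty.{1} => residue vL.valuationSubring ((PEmpty.elim j : vL.valuationSubring))) :=
    algebraicIndependent_empty_type
  have hAI : AlgebraicIndependent (⊥ : Subfield K)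
      (Sum.elim (fun i => ((x i : Kˣ) : K)) (fun j : PEmpty.{1} => ((PEmpty.elim j : vL.valuationSubring) : K))) := by
    refine Groth.Agent.S14891.main vK vL
      (A := Additive Kˣ ⧸ (L.unitGroup ⊔ PF K).toAddSubgroup)
      (QuotientAddGroup.mk' (L.unitGroup ⊔ PF K).toAddSubgroup) ?_ ?_
      x (fun j : PEmpty.{1} => PEmpty.elim j) ?_ ?_
    · exact hπ1
    · exact hπ2
    · exact hLI
    · exact hy
  exact hAI.comp Sum.inl Sum.inl_injective

theorem chain_bound {n : ℕ} (B : Fin (n + 1) → ValuationSubring K) (hB : StrictAnti B) (d : ℕ)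
    (hd : Algebra.trdeg (⊥ : Subfield K) K = d) : n ≤ d + 1 := by
  classical
  have hU : ∀ i j : Fin (n + 1), i ≤ j → (B j).unitGroup ≤ (B i).unitGroup := fun i j hij =>
    ValuationSubring.unitGroup_le_unitGroup.mpr (hB.antitone hij)
  have hx : ∀ i : Fin n, ∃ x : Kˣ, x ∈ (B i.castSucc).unitGroup ∧ x ∉ (B i.succ).unitGroup := by
    intro i
    have hlt : B i.succ < B i.castSucc := hB (Fin.castSucc_lt_succ)
    have : (B i.succ).unitGroup < (B i.castSucc).unitGroup :=
      ValuationSubring.unitGroup_strictMono hlt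
    obtain ⟨x, hx1, hx2⟩ := SetLike.exists_of_lt this
    exact ⟨x, hx1, hx2⟩
  choose x hx1 hx2 using hx
  let Bad : Fin n → Prop := fun i =>
    ∃ c ∈ PF K, c ∈ (B i.castSucc).unitGroup ∧ c ∉ (B i.succ).unitGroup
  have hbad' : ∀ i j : Fin n, i < j → Bad i → Bad j → False := by
    rintro i j hij ⟨c, hc, -, hc2⟩ ⟨c', hc', hc'1, hc'2⟩
    have hle : B j.succ ≤ B j.castSucc := (hB (Fin.castSucc_lt_succ)).le
    refine bu hle hc hc' (fun h => hc2 ?_) hc'1 hc'2
    refine hU i.succ j.castSucc ?_ h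
    rw [Fin.le_def]; simp only [Fin.val_succ, Fin.val_castSucc]; exact hij
  have hbad : ∀ i j : Fin n, Bad i → Bad j → i = j := by
    intro i j hi hj
    rcases lt_trichotomy i j with h | h | h
    · exact (hbad' i j h hi hj).elim
    · exact h
    · exact (hbad' j i h hj hi).elim
  let S := {i : Fin n // ¬ Bad i}
  have hcard : n ≤ Fintype.card S + 1 := by
    have h1 : Fintype.card {i : Fin n // Bad i} ≤ 1 := by
      rw [Fintype.card_le_one_iff_subsingleton]
      exact ⟨fun a b => Subtype.ext (hbad a.1 b.1 a.2 b.2)⟩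
    have h2 : Fintype.card S = Fintype.card (Fin n) - Fintype.card {i : Fin n // Bad i} :=
      Fintype.card_subtype_compl _
    rw [Fintype.card_fin] at h2
    omega
  let L := B (Fin.last n)
  let H : Subgroup Kˣ := L.unitGroup ⊔ PF K
  have hLI : LinearIndependent ℤ
      (fun i : S => QuotientAddGroup.mk' H.toAddSubgroup (Additive.ofMul (x i.1))) := by
    apply linInd_of_prod
    intro g hg
    by_contra hne
    push Not at hne
    -- minimal index with nonzero exponent
    obtain ⟨j, hj, hjmin⟩ : ∃ j : S, g j ≠ 0 ∧ ∀ i : S, g i ≠ 0 → j.1 ≤ i.1 := by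
      obtain ⟨i₀, hi₀⟩ := hne
      obtain ⟨j, hj, hjmin⟩ := Finset.exists_min_image
        (Finset.univ.filter fun i : S => g i ≠ 0) (fun i => i.1) ⟨i₀, by simpa using hi₀⟩
      exact ⟨j, by simpa using hj, fun i hi => hjmin i (by simpa using hi)⟩
    obtain ⟨u, hu, c, hc, huc⟩ := Subgroup.mem_sup.mp hg
    have hulast : ∀ i : Fin (n + 1), u ∈ (B i).unitGroup := fun i => hU i (Fin.last n) (Fin.le_last i) hu
    have hc_eq : c = u⁻¹ * ∏ i, x i.1 ^ g i := by rw [← huc]; group
    -- the whole product is a unit of `B j.castSucc`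
    have hP1 : (∏ i : S, x i.1 ^ g i) ∈ (B j.1.castSucc).unitGroup := by
      refine Subgroup.prod_mem _ fun i _ => ?_
      by_cases hi : g i = 0
      · rw [hi, zpow_zero]; exact Subgroup.one_mem _
      · refine Subgroup.zpow_mem _ (hU j.1.castSucc i.1.castSucc ?_ (hx1 i.1)) _
        exact Fin.castSucc_le_castSucc_iff.mpr (hjmin i hi)
    apply j.2
    refine ⟨c, hc, ?_, fun hcon => ?_⟩
    · rw [hc_eq]
      exact Subgroup.mul_mem _ (Subgroup.inv_mem _ (hulast _)) hP1
    · have hP2 : (∏ i : S, x i.1 ^ g i) ∈ (B j.1.succ).unitGroup := by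
        rw [← huc]; exact Subgroup.mul_mem _ (hulast _) hcon
      rw [← Finset.mul_prod_erase Finset.univ _ (Finset.mem_univ j)] at hP2
      have hrest : (∏ i ∈ Finset.univ.erase j, x i.1 ^ g i) ∈ (B j.1.succ).unitGroup := by
        refine Subgroup.prod_mem _ fun i hi => ?_
        by_cases hi0 : g i = 0
        · rw [hi0, zpow_zero]; exact Subgroup.one_mem _
        · refine Subgroup.zpow_mem _ (hU j.1.succ i.1.castSucc ?_ (hx1 i.1)) _
          have h1 : j.1 ≤ i.1 := hjmin i hi0
          have h2 : j.1 ≠ i.1 := fun h => (Finset.ne_of_mem_erase hi) (Subtype.ext h.symm)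
          have h3 : j.1 < i.1 := lt_of_le_of_ne h1 h2
          rw [Fin.le_def]; simp only [Fin.val_succ, Fin.val_castSucc]; exact h3
      have hxj : x j.1 ^ g j ∈ (B j.1.succ).unitGroup := by
        have := Subgroup.mul_mem _ hP2 (Subgroup.inv_mem _ hrest)
        rwa [mul_inv_cancel_right] at this
      rw [ValuationSubring.mem_unitGroup_iff, Units.val_zpow_eq_zpow_val, map_zpow₀] at hxj
      apply hx2 j.1
      rw [ValuationSubring.mem_unitGroup_iff]
      by_contra hne1
      exact hj ((zpow_eq_one_iff_right₀ zero_le hne1).mp hxj)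
  -- apply the Abhyankar inequality
  have hAI' : AlgebraicIndependent (⊥ : Subfield K) (fun i : S => ((x i.1 : Kˣ) : K)) :=
    ai_of_linInd L (fun i : S => x i.1) hLI
  have hle := hAI'.lift_cardinalMk_le_trdeg
  rw [hd, Cardinal.mk_fintype, Cardinal.lift_natCast, Cardinal.lift_natCast, Nat.cast_le] at hle
  omega

theorem ringKrullDim_le (A : ValuationSubring K) (d : ℕ)
    (hd : Algebra.trdeg (⊥ : Subfield K) K = d) :
    ringKrullDim A ≤ ((d + 1 : ℕ) : WithBot ℕ∞) := by
  unfold ringKrullDim Order.krullDim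
  refine iSup_le fun p => ?_
  have : p.length ≤ d + 1 := by
    let B : Fin (p.length + 1) → ValuationSubring K := fun i =>
      (A.primeSpectrumOrderEquiv (OrderDual.toDual (p i))).1
    refine chain_bound B ?_ d hd
    intro i j hij
    have h1 : p i < p j := p.strictMono hij
    have h2 : A.primeSpectrumOrderEquiv (OrderDual.toDual (p j)) <
        A.primeSpectrumOrderEquiv (OrderDual.toDual (p i)) :=
      (A.primeSpectrumOrderEquiv).strictMono (OrderDual.toDual_lt_toDual.mpr h1)
    exact h2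
  exact_mod_cast this

end Chain

end Groth.Agent.Lib.helper3.ValRank
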