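import Mathlib
import Groth.Agent.Lib.Helper3.ValRank

set_option autoImplicit false
set_option linter.style.haveILetI false
set_option linter.unusedSectionVars false
universe u

namespace Groth.Agent.Lib.helper3.ValRank

open IsLocalRing

/-- a finitely generated field has finite transcendence degree over its prime field. -/
theorem exists_trdeg_eq {F : Type u} [Field F] (t : Finset F)
    (ht : Subfield.closure (t : Set F) = ⊤) :
    ∃ d : ℕ, Algebra.trdeg (⊥ : Subfield F) F = d := by
  have hfg : (⊤ : IntermediateField (⊥ : Subfield F) F).FG := by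
    refine ⟨t, ?_⟩
    rw [eq_top_iff]
    intro x _
    have hx : x ∈ Subfield.closure (t : Set F) := by rw [ht]; trivial
    have hle : Subfield.closure (t : Set F) ≤
        (IntermediateField.adjoin (⊥ : Subfield F) (t : Set F)).toSubfield :=
      Subfield.closure_le.mpr (IntermediateField.subset_adjoin _ _)
    exact hle hx
  haveI : Algebra.EssFiniteType (⊥ : Subfield F) F := IntermediateField.fg_top_iff.mp hfg
  exact Cardinal.lt_aleph0.mp (trdeg_lt_aleph0 (⊥ : Subfield F) F)

/-- abstract version of `ringKrullDim_le`. -/
theorem ringKrullDim_le_of_valuationRing {O F : Type u} [CommRing O] [IsDomain O]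
    [ValuationRing O] [Field F] [Algebra O F] [IsFractionRing O F] (d : ℕ)
    (hd : Algebra.trdeg (⊥ : Subfield F) F = d) :
    ringKrullDim O ≤ ((d + 1 : ℕ) : WithBot ℕ∞) := by
  have e : O ≃+* (ValuationRing.valuation O F).valuationSubring :=
    ValuationRing.equivInteger O F
  rw [ringKrullDim_eq_of_ringEquiv e]
  exact ringKrullDim_le _ d hd

/-- Prüfer domains with finitely generated fraction field have finite Krull dimension. -/
theorem ringKrullDim_le_of_prufer {D : Type u} [CommRing D] [IsDomain D]
    (hD : ∀ (p : Ideal D) [p.IsPrime], ValuationRing (Localization.AtPrime p)) (d : ℕ)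
    (hd : Algebra.trdeg (⊥ : Subfield (FractionRing D)) (FractionRing D) = d) :
    ringKrullDim D ≤ ((d + 1 : ℕ) : WithBot ℕ∞) := by
  rw [ringKrullDim_le_iff_isMaximal_height_le]
  intro M hM
  haveI := hD M
  haveI : IsFractionRing (Localization.AtPrime M) (FractionRing D) :=
    IsFractionRing.isFractionRing_of_isDomain_of_isLocalization M.primeCompl _ _
  have := ringKrullDim_le_of_valuationRing (O := Localization.AtPrime M) (F := FractionRing D) d hd
  rw [IsLocalization.AtPrime.ringKrullDim_eq_height M] at this
  exact this

/-- the fraction field of a domain embedded in a field generated by the image of a finite subset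
is finitely generated. -/
theorem exists_finset_closure_eq_top {D L : Type u} [CommRing D] [IsDomain D] [Field L]
    (ι : D →+* L) (hι : Function.Injective ι) (s : Finset D)
    (h : ∀ z : D, ι z ∈ Subfield.closure (ι '' (s : Set D))) :
    ∃ t : Finset (FractionRing D), Subfield.closure (t : Set (FractionRing D)) = ⊤ := by
  classical
  refine ⟨s.image (algebraMap D (FractionRing D)), ?_⟩
  let ψ : FractionRing D →+* L := IsFractionRing.lift hι
  have hψ : ∀ z : D, ψ (algebraMap D (FractionRing D) z) = ι z := fun z =>
    IsFractionRing.lift_algebraMap hι z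
  have himg : ψ '' ((s.image (algebraMap D (FractionRing D)) : Finset _) : Set (FractionRing D)) =
      ι '' (s : Set D) := by
    rw [Finset.coe_image, Set.image_image]
    exact Set.image_congr fun z _ => hψ z
  have hD : ∀ z : D, algebraMap D (FractionRing D) z ∈
      Subfield.closure ((s.image (algebraMap D (FractionRing D)) : Finset _) :
        Set (FractionRing D)) := by
    intro z
    have h1 := h z
    rw [← himg, ← RingHom.map_field_closure] at h1
    obtain ⟨y, hy, hyz⟩ := h1
    have : y = algebraMap D (FractionRing D) z := ψ.injective (by rw [hyz, hψ])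
    rw [← this]; exact hy
  rw [eq_top_iff]
  intro y _
  obtain ⟨a, b, hb, rfl⟩ := IsFractionRing.div_surjective (A := D) y
  exact Subfield.div_mem _ (hD a) (hD b)

/-- combination. -/
theorem ringKrullDim_lt_top_of_prufer {D L : Type u} [CommRing D] [IsDomain D] [Field L]
    (hD : ∀ (p : Ideal D) [p.IsPrime], ValuationRing (Localization.AtPrime p))
    (ι : D →+* L) (hι : Function.Injective ι) (s : Finset D)
    (h : ∀ z : D, ι z ∈ Subfield.closure (ι '' (s : Set D))) :
    ringKrullDim D < ⊤ := by
  obtain ⟨t, ht⟩ := exists_finset_closure_eq_top ι hι s h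
  obtain ⟨d, hd⟩ := exists_trdeg_eq t ht
  refine lt_of_le_of_lt (ringKrullDim_le_of_prufer hD d hd) ?_
  exact WithBot.coe_lt_coe.mpr (WithTop.coe_lt_top _)

theorem ringKrullDim_lt_top_of_valuationRing {D L : Type u} [CommRing D] [IsDomain D]
    [ValuationRing D] [Field L]
    (ι : D →+* L) (hι : Function.Injective ι) (s : Finset D)
    (h : ∀ z : D, ι z ∈ Subfield.closure (ι '' (s : Set D))) :
    ringKrullDim D < ⊤ := by
  obtain ⟨t, ht⟩ := exists_finset_closure_eq_top ι hι s h
  obtain ⟨d, hd⟩ := exists_trdeg_eq t ht
  refine lt_of_le_of_lt (ringKrullDim_le_of_valuationRing (F := FractionRing D) d hd) ?_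
  exact WithBot.coe_lt_coe.mpr (WithTop.coe_lt_top _)

end Groth.Agent.Lib.helper3.ValRank
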