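import Mathlib
import Groth.Agent.Lib.Helper3.ValRank2
import Groth.Agent.Lib.Helper3.PruferSemilocal

set_option autoImplicit false
set_option linter.style.haveILetI false
universe u

namespace Groth.Agent.Lib.helper3.ValRank

/-- the subring of elements of `R` lying in the subfield generated by `s`. -/
noncomputable def Fsub (R : Type u) [CommRing R] [IsDomain R] (s : Finset R) : Subring R :=
  (Subfield.closure (algebraMap R (FractionRing R) '' (s : Set R))).toSubring.comap
    (algebraMap R (FractionRing R))

variable {R : Type u} [CommRing R] [IsDomain R]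

theorem mem_Fsub (s : Finset R) (r : R) : r ∈ Fsub R s ↔
    algebraMap R (FractionRing R) r ∈
      Subfield.closure (algebraMap R (FractionRing R) '' (s : Set R)) := Iff.rfl

theorem Fsub_mono : Monotone (Fsub R) := by
  intro s t hst r hr
  rw [mem_Fsub] at hr ⊢
  exact Subfield.closure_mono (Set.image_mono (Finset.coe_subset.mpr hst)) hr

theorem subset_Fsub (s : Finset R) {r : R} (hr : r ∈ s) : r ∈ Fsub R s := by
  rw [mem_Fsub]
  exact Subfield.subset_closure ⟨r, hr, rfl⟩

/-- the inclusion of `Fsub R s` in the fraction field of `R`. -/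
noncomputable def Fincl (s : Finset R) : Fsub R s →+* FractionRing R :=
  (algebraMap R (FractionRing R)).comp (Fsub R s).subtype

theorem Fincl_injective (s : Finset R) : Function.Injective (Fincl s) :=
  (IsFractionRing.injective R (FractionRing R)).comp Subtype.val_injective

theorem Fincl_mem (s : Finset R) [DecidablePred (· ∈ Fsub R s)] (z : Fsub R s) :
    Fincl s z ∈ Subfield.closure
      (Fincl s '' ((s.subtype (· ∈ Fsub R s) : Finset (Fsub R s)) : Set (Fsub R s))) := by
  have hz : algebraMap R (FractionRing R) z.1 ∈
      Subfield.closure (algebraMap R (FractionRing R) '' (s : Set R)) := z.2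
  refine Subfield.closure_mono ?_ hz
  rintro _ ⟨r, hr, rfl⟩
  refine ⟨⟨r, subset_Fsub s hr⟩, ?_, rfl⟩
  rw [Finset.mem_coe, Finset.mem_subtype]
  exact hr

theorem ringKrullDim_Fsub_lt_top (s : Finset R) [ValuationRing (Fsub R s)] :
    ringKrullDim (Fsub R s) < ⊤ := by
  classical
  exact ringKrullDim_lt_top_of_valuationRing (Fincl s) (Fincl_injective s) _ (Fincl_mem s)

theorem ringKrullDim_Fsub_lt_top_of_prufer (s : Finset R)
    (hD : ∀ (p : Ideal (Fsub R s)) [p.IsPrime], ValuationRing (Localization.AtPrime p)) :
    ringKrullDim (Fsub R s) < ⊤ := by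
  classical
  exact ringKrullDim_lt_top_of_prufer hD (Fincl s) (Fincl_injective s) _ (Fincl_mem s)

/-- `Fsub R s` is a valuation ring when `R` is. -/
theorem valuationRing_Fsub [ValuationRing R] (s : Finset R) : ValuationRing (Fsub R s) := by
  rw [ValuationRing.iff_dvd_total]
  refine ⟨fun a b => ?_⟩
  have key : ∀ a b : Fsub R s, (a : R) ∣ (b : R) → a ∣ b := by
    intro a b ⟨c, hc⟩
    by_cases ha : a = 0
    · refine ⟨0, ?_⟩
      apply Subtype.ext
      rw [hc, ha]; simp
    · have ha' : algebraMap R (FractionRing R) (a : R) ≠ 0 := by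
        intro h0
        apply ha
        apply Subtype.ext
        exact (IsFractionRing.injective R (FractionRing R)) (by
          rw [h0, Subring.coe_zero, map_zero])
      have hcmem : c ∈ Fsub R s := by
        rw [mem_Fsub]
        have : algebraMap R (FractionRing R) c =
            algebraMap R (FractionRing R) (b : R) / algebraMap R (FractionRing R) (a : R) := by
          rw [hc, map_mul, mul_div_cancel_left₀ _ ha']
        rw [this]
        exact Subfield.div_mem _ b.2 a.2
      exact ⟨⟨c, hcmem⟩, Subtype.ext hc⟩
  rcases ValuationRing.dvd_total (a : R) (b : R) with h | h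
  · exact Or.inl (key a b h)
  · exact Or.inr (key b a h)

theorem finite_primeSpectrum_Fsub [ValuationRing R] (s : Finset R) :
    Finite (PrimeSpectrum (Fsub R s)) := by
  haveI := valuationRing_Fsub s
  refine PruferSemilocal.finite_of_total_of_krullDim_lt_top (fun p q => ?_)
    (ringKrullDim_Fsub_lt_top s)
  exact (ValuationRing.le_total_ideal (A := Fsub R s)).total p.asIdeal q.asIdeal

end Groth.Agent.Lib.helper3.ValRank
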