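import Mathlib
import Groth.Agent.Lib.Helper3.ValRank3
import Groth.Agent.Lib.Helper3.FinInterVal

set_option autoImplicit false
set_option linter.style.haveILetI false
universe u

namespace Groth.Agent.Lib.helper3.ValRank

theorem prufer_of_ringEquiv' {A B : Type u} [CommRing A] [IsDomain A] [CommRing B] [IsDomain B]
    (hB : ∀ (p : Ideal B) [p.IsPrime], ValuationRing (Localization.AtPrime p)) (e : A ≃+* B)
    (p : Ideal A) [p.IsPrime] : ValuationRing (Localization.AtPrime p) := by
  haveI : (p.comap e.symm.toRingHom).IsPrime := Ideal.comap_isPrime _ _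
  haveI := hB (p.comap e.symm.toRingHom)
  have hc : (p.comap e.symm.toRingHom).comap e.toRingHom = p := by
    ext x
    simp
  refine Function.Surjective.valuationRing
    (Localization.localRingHom (p.comap e.symm.toRingHom) p e.symm.toRingHom ?_)
    (RingHom.surjective_localRingHom_of_surjective e.symm.toRingHom e.symm.surjective p)
  rfl

theorem finite_maximalSpectrum_of_ringEquiv {A B : Type*} [CommRing A] [CommRing B]
    (e : A ≃+* B) (hB : Finite (MaximalSpectrum B)) : Finite (MaximalSpectrum A) := by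
  have hmax : ∀ M : MaximalSpectrum A, (M.asIdeal.comap (e.symm : B →+* A)).IsMaximal := by
    intro M
    haveI := M.isMaximal
    exact Ideal.comap_isMaximal_of_surjective (e.symm : B →+* A) e.symm.surjective
  refine Finite.of_injective (fun M : MaximalSpectrum A =>
    (⟨M.asIdeal.comap (e.symm : B →+* A), hmax M⟩ : MaximalSpectrum B)) ?_
  intro M M' h
  have h1 : M.asIdeal.comap (e.symm : B →+* A) = M'.asIdeal.comap (e.symm : B →+* A) :=
    congrArg MaximalSpectrum.asIdeal h
  ext x
  have hx : ∀ N : Ideal A, x ∈ N ↔ e x ∈ N.comap (e.symm : B →+* A) := by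
    intro N
    rw [Ideal.mem_comap]
    simp
  rw [hx, hx, h1]

variable {R : Type u} [CommRing R] [IsDomain R]

/-- `Fsub R s ≃ range ⊓ K`. -/
noncomputable def FsubEquiv (s : Finset R) : Fsub R s ≃+*
    ↥((algebraMap R (FractionRing R)).range ⊓
      (Subfield.closure (algebraMap R (FractionRing R) '' (s : Set R))).toSubring) :=
  RingEquiv.ofBijective
    ((Fincl s).codRestrict ((algebraMap R (FractionRing R)).range ⊓
      (Subfield.closure (algebraMap R (FractionRing R) '' (s : Set R))).toSubring)
      (fun r => Subring.mem_inf.mpr ⟨⟨r.1, rfl⟩, r.2⟩))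
    ⟨fun a b h => Fincl_injective s (congrArg Subtype.val h), by
      rintro ⟨z, ⟨r, rfl⟩, hz⟩
      exact ⟨⟨r, hz⟩, rfl⟩⟩

theorem main_S14730 (hR : ∀ (p : Ideal R) [p.IsPrime], ValuationRing (Localization.AtPrime p))
    (hfin : Finite (MaximalSpectrum R)) (s : Finset R) :
    ∃ R' : Subring R, (↑s : Set R) ⊆ R' ∧
      (∀ (p : Ideal R') [p.IsPrime], ValuationRing (Localization.AtPrime p)) ∧
      Finite (MaximalSpectrum R') ∧ ringKrullDim R' < ⊤ := by
  obtain ⟨h1, h2, -⟩ := FinInterVal.main R (FractionRing R) hR hfin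
    (Subfield.closure (algebraMap R (FractionRing R) '' (s : Set R)))
  have hP : ∀ (p : Ideal (Fsub R s)) [p.IsPrime], ValuationRing (Localization.AtPrime p) :=
    fun p _ => prufer_of_ringEquiv' h1 (FsubEquiv s) p
  exact ⟨Fsub R s, fun r hr => subset_Fsub s (Finset.mem_coe.mp hr), hP,
    finite_maximalSpectrum_of_ringEquiv (FsubEquiv s) h2, ringKrullDim_Fsub_lt_top_of_prufer s hP⟩

end Groth.Agent.Lib.helper3.ValRank
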