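import Mathlib
import Groth.Agent.Lib.Helper3.ValFp3
/-!
# Weakly unramified local algebras over valuation rings, I: basics (helper3)

`V` a valuation ring, `W` a local `V`-algebra, local homomorphism, torsion-free (`TF`), with
`𝔪_W = 𝔪_V W` (`MaxGen`), essentially of finite type.

* `G V x` : `x = c · unit` with `c ∈ V`;
* `dvd_of_map_dvd`, `G_of_G_smul`, `exists_mul_of_mem_map`;
* `exists_dvd_ne_zero` : every nonzero element of `W` divides a nonzero element of `V`
  (uses Raynaud–Gruson over valuation rings, `ValFp3`);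
* `isDomain`.
-/

set_option autoImplicit false
set_option linter.style.haveILetI false
set_option linter.unusedSectionVars false
universe u

namespace Groth.Agent.Lib.helper3.ValWU

open IsLocalRing

section Basic

variable {V : Type u} [CommRing V] [IsDomain V] [ValuationRing V]
  {W : Type u} [CommRing W] [Algebra V W] [IsLocalRing W] [IsLocalHom (algebraMap V W)]

/-- torsion-freeness hypothesis. -/
def TF (V W : Type u) [CommRing V] [CommRing W] [Algebra V W] : Prop :=
  ∀ a : V, a ≠ 0 → ∀ w : W, algebraMap V W a * w = 0 → w = 0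

/-- the maximal ideal of `W` is generated by the maximal ideal of `V`. -/
def MaxGen (V W : Type u) [CommRing V] [IsLocalRing V] [CommRing W] [Algebra V W] : Prop :=
  ∀ w : W, ¬ IsUnit w → ∃ m ∈ maximalIdeal V, ∃ w' : W, w = algebraMap V W m * w'

/-- weak unramifiedness of an element. -/
def G (V : Type u) {W : Type u} [CommRing V] [CommRing W] [Algebra V W] (x : W) : Prop :=
  ∃ (c : V) (u : Wˣ), x = algebraMap V W c * u

theorem algebraMap_injective (htf : TF V W) :
    Function.Injective (algebraMap V W) := by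
  rw [injective_iff_map_eq_zero]
  intro a ha
  by_contra hne
  have := htf a hne 1 (by rw [mul_one, ha])
  exact one_ne_zero this

theorem map_mem_maximalIdeal {m : V} (hm : m ∈ maximalIdeal V) :
    algebraMap V W m ∈ maximalIdeal W := by
  rw [mem_maximalIdeal, mem_nonunits_iff] at hm ⊢
  intro h
  exact hm (isUnit_of_map_unit (algebraMap V W) m h)

/-- divisibility between elements of `V` can be tested in `W`. -/
theorem dvd_of_map_dvd (htf : TF V W) {a b : V}
    (h : algebraMap V W a ∣ algebraMap V W b) : a ∣ b := by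
  rcases ValuationRing.dvd_total a b with hab | hba
  · exact hab
  · obtain ⟨m, rfl⟩ := hba
    by_cases hm : IsUnit m
    · obtain ⟨u, rfl⟩ := hm
      exact ⟨↑u⁻¹, by rw [mul_assoc, Units.mul_inv, mul_one]⟩
    · obtain ⟨w, hw⟩ := h
      have hmW : algebraMap V W m ∈ maximalIdeal W := map_mem_maximalIdeal
        ((mem_maximalIdeal m).mpr (mem_nonunits_iff.mpr hm))
      have hu : IsUnit (1 - algebraMap V W m * w) := by
        have : algebraMap V W m * w ∈ maximalIdeal W := Ideal.mul_mem_right _ _ hmW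
        by_contra hnu
        have h1 : 1 - algebraMap V W m * w ∈ maximalIdeal W :=
          (mem_maximalIdeal _).mpr (mem_nonunits_iff.mpr hnu)
        have h2 := Ideal.add_mem _ h1 this
        rw [sub_add_cancel] at h2
        exact (Ideal.ne_top_iff_one _).mp (maximalIdeal.isMaximal W).ne_top h2
      have h0 : algebraMap V W b * (1 - algebraMap V W m * w) = 0 := by
        rw [map_mul] at hw
        rw [mul_sub, mul_one, ← mul_assoc, ← hw, sub_self]
      have hb0 : algebraMap V W b = 0 := by
        obtain ⟨u, hu'⟩ := hu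
        rw [← hu'] at h0
        exact (Units.mul_left_eq_zero u).mp h0
      have hb : b = 0 := algebraMap_injective htf (by rw [hb0, map_zero])
      rw [hb, zero_mul]

/-- `G` is invariant under multiplication by nonzero elements of `V`. -/
theorem G_of_G_smul (htf : TF V W) {s : V} (hs : s ≠ 0) {x : W}
    (h : G V (algebraMap V W s * x)) : G V x := by
  obtain ⟨c, u, hcu⟩ := h
  have hdvd : algebraMap V W s ∣ algebraMap V W c :=
    ⟨x * ↑u⁻¹, by rw [← mul_assoc, hcu, mul_assoc, Units.mul_inv, mul_one]⟩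
  obtain ⟨c', rfl⟩ := dvd_of_map_dvd htf hdvd
  refine ⟨c', u, ?_⟩
  have : algebraMap V W s * (x - algebraMap V W c' * u) = 0 := by
    rw [mul_sub, hcu, map_mul, mul_assoc, sub_self]
  exact sub_eq_zero.mp (htf s hs _ this)

theorem G_mul_unit {x : W} (h : G V x) (v : Wˣ) : G V (x * v) := by
  obtain ⟨c, u, rfl⟩ := h
  exact ⟨c, u * v, by rw [mul_assoc, Units.val_mul]⟩

theorem G_of_G_mul_unit {x : W} (v : Wˣ) (h : G V (x * v)) : G V x := by
  have := G_mul_unit h v⁻¹
  rwa [mul_assoc, Units.mul_inv, mul_one] at this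

theorem G_of_isUnit {x : W} (h : IsUnit x) : G V x :=
  ⟨1, h.unit, by rw [map_one, one_mul, IsUnit.unit_spec]⟩

/-- elements of `𝔪 W`: single multiple. -/
theorem exists_mul_of_mem_map (I : Ideal V) {x : W} (hx : x ∈ I.map (algebraMap V W)) :
    ∃ a ∈ I, ∃ w : W, x = algebraMap V W a * w := by
  classical
  refine Submodule.span_induction ?_ ?_ ?_ ?_ hx
  · rintro _ ⟨a, ha, rfl⟩
    exact ⟨a, ha, 1, (mul_one _).symm⟩
  · exact ⟨0, I.zero_mem, 0, by simp⟩
  · rintro x y _ _ ⟨a, ha, w, rfl⟩ ⟨b, hb, w', rfl⟩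
    rcases ValuationRing.dvd_total a b with ⟨c, rfl⟩ | ⟨c, rfl⟩
    · exact ⟨a, ha, w + algebraMap V W c * w', by rw [map_mul]; ring⟩
    · exact ⟨b, hb, algebraMap V W c * w + w', by rw [map_mul]; ring⟩
  · rintro r x _ ⟨a, ha, w, rfl⟩
    exact ⟨a, ha, r * w, by rw [smul_eq_mul]; ring⟩

end Basic

section B4

variable {V : Type u} [CommRing V] [IsDomain V] [ValuationRing V]
  {W : Type u} [CommRing W] [Algebra V W] [IsLocalRing W] [IsLocalHom (algebraMap V W)]
  [Algebra.EssFiniteType V W]

/-- the `V`-saturation of the ideal generated by `x`. -/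
def satIdeal (V : Type u) {W : Type u} [CommRing V] [IsDomain V] [CommRing W] [Algebra V W]
    (x : W) : Ideal W where
  carrier := {w | ∃ a : V, a ≠ 0 ∧ algebraMap V W a * w ∈ Ideal.span {x}}
  zero_mem' := ⟨1, one_ne_zero, by simp⟩
  add_mem' := by
    rintro w w' ⟨a, ha, h⟩ ⟨b, hb, h'⟩
    refine ⟨a * b, mul_ne_zero ha hb, ?_⟩
    have : algebraMap V W (a * b) * (w + w') =
        algebraMap V W b * (algebraMap V W a * w) + algebraMap V W a * (algebraMap V W b * w') := by
      rw [map_mul]; ring
    rw [this]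
    exact Ideal.add_mem _ (Ideal.mul_mem_left _ _ h) (Ideal.mul_mem_left _ _ h')
  smul_mem' := by
    rintro c w ⟨a, ha, h⟩
    refine ⟨a, ha, ?_⟩
    have : algebraMap V W a * (c • w) = c * (algebraMap V W a * w) := by
      rw [smul_eq_mul]; ring
    rw [this]
    exact Ideal.mul_mem_left _ _ h

theorem mem_satIdeal {x w : W} :
    w ∈ satIdeal V x ↔ ∃ a : V, a ≠ 0 ∧ algebraMap V W a * w ∈ Ideal.span {x} := Iff.rfl

theorem satIdeal_fg (x : W) : (satIdeal V x).FG := by
  have htfQ : ∀ a : V, a ≠ 0 → ∀ y : W ⧸ satIdeal V x, a • y = 0 → y = 0 := by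
    intro a ha y hy
    obtain ⟨w, rfl⟩ := Ideal.Quotient.mk_surjective y
    have h1 : Ideal.Quotient.mk (satIdeal V x) (algebraMap V W a * w) = 0 := by
      rw [map_mul]
      rw [Algebra.smul_def] at hy
      exact hy
    rw [Ideal.Quotient.eq_zero_iff_mem, mem_satIdeal] at h1
    obtain ⟨b, hb, hbw⟩ := h1
    rw [Ideal.Quotient.eq_zero_iff_mem, mem_satIdeal]
    exact ⟨b * a, mul_ne_zero hb ha, by rwa [map_mul, mul_assoc]⟩
  haveI : Module.Flat V (W ⧸ satIdeal V x) := by
    rw [Module.Flat.flat_iff_torsion_eq_bot_of_isBezout, eq_bot_iff]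
    intro y hy
    obtain ⟨a, ha⟩ := (Submodule.mem_torsion_iff y).mp hy
    exact (Submodule.mem_bot V).mpr (htfQ a (nonZeroDivisors.ne_zero a.2) y ha)
  haveI : Module.FinitePresentation W (W ⧸ satIdeal V x) :=
    Groth.Agent.Lib.helper3.ValFp.finitePresentation_of_flat_essFiniteType (A := V)
  have := Module.FinitePresentation.fg_ker (Submodule.mkQ (satIdeal V x))
    (Submodule.mkQ_surjective _)
  rwa [Submodule.ker_mkQ] at this

/-- **(B4)** every nonzero element of `W` divides a nonzero element of `V`. -/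
theorem exists_dvd_ne_zero (hmax : MaxGen V W) {x : W} (hx : x ≠ 0) :
    ∃ r : V, r ≠ 0 ∧ x ∣ algebraMap V W r := by
  by_cases htop : satIdeal V x = ⊤
  · have h1 : (1 : W) ∈ satIdeal V x := by rw [htop]; trivial
    obtain ⟨a, ha, h⟩ := mem_satIdeal.mp h1
    rw [mul_one, Ideal.mem_span_singleton] at h
    exact ⟨a, ha, h⟩
  · exfalso
    have hle : satIdeal V x ≤ maximalIdeal W := IsLocalRing.le_maximalIdeal htop
    have hsm : (satIdeal V x : Submodule W W) ≤ maximalIdeal W • (satIdeal V x : Submodule W W) := by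
      intro n hn
      have hnu : ¬ IsUnit n := fun hu => htop (Ideal.eq_top_of_isUnit_mem _ hn hu)
      obtain ⟨m, hm, w', rfl⟩ := hmax n hnu
      by_cases hm0 : m = 0
      · rw [hm0, map_zero, zero_mul]
        exact Submodule.zero_mem _
      · have hw' : w' ∈ satIdeal V x := by
          obtain ⟨a, ha, h⟩ := mem_satIdeal.mp hn
          exact mem_satIdeal.mpr ⟨a * m, mul_ne_zero ha hm0, by rwa [map_mul, mul_assoc]⟩
        exact Submodule.smul_mem_smul (map_mem_maximalIdeal hm) hw'
    have hbot := Submodule.eq_bot_of_le_smul_of_le_jacobson_bot (maximalIdeal W)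
      (satIdeal V x : Submodule W W) (satIdeal_fg x) hsm
      (by rw [IsLocalRing.jacobson_eq_maximalIdeal ⊥ bot_ne_top])
    have hxm : x ∈ satIdeal V x :=
      mem_satIdeal.mpr ⟨1, one_ne_zero, by rw [map_one, one_mul]; exact Ideal.mem_span_singleton_self x⟩
    rw [hbot] at hxm
    exact hx ((Submodule.mem_bot W).mp hxm)

/-- **(B3)** `W` is a domain. -/
theorem isDomain (htf : TF V W) (hmax : MaxGen V W) : IsDomain W := by
  haveI : NoZeroDivisors W := by
    refine ⟨fun {x y} hxy => ?_⟩
    by_cases hx : x = 0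
    · exact Or.inl hx
    · right
      obtain ⟨r, hr, z, hz⟩ := exists_dvd_ne_zero hmax hx
      apply htf r hr
      rw [hz, mul_comm x z, mul_assoc, hxy, mul_zero]
  exact NoZeroDivisors.to_isDomain W

end B4

end Groth.Agent.Lib.helper3.ValWU
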