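import Mathlib
import Groth.Agent.Lib.Helper3.ValWU1
/-!
# Weakly unramified local algebras over valuation rings, II: the quotient pair and Lemma D (helper3)

For a prime `𝔭` of `V`, the pair `(V ⧸ 𝔭, W ⧸ 𝔭 W)` inherits `TF`, `MaxGen`, locality.
`mem_map_of_forall_dvd` (Lemma D): if every `a ∉ 𝔭` divides `x` in `W` and `𝔭 ≠ 𝔪`, then `x ∈ 𝔭 W`.
-/

set_option autoImplicit false
set_option linter.style.haveILetI false
set_option linter.unusedSectionVars false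
universe u

namespace Groth.Agent.Lib.helper3.ValWU

open IsLocalRing

section Quot

variable {V : Type u} [CommRing V] [IsDomain V] [ValuationRing V]
  {W : Type u} [CommRing W] [Algebra V W] [IsLocalRing W] [IsLocalHom (algebraMap V W)]
  [Algebra.EssFiniteType V W]

variable (𝔭 : Ideal V) [h𝔭 : 𝔭.IsPrime]

/-- `𝔭 W ∩ V = 𝔭`. -/
theorem mem_of_map_mem_map (htf : TF V W) {a : V}
    (ha : algebraMap V W a ∈ 𝔭.map (algebraMap V W)) : a ∈ 𝔭 := by
  obtain ⟨p, hp, w, hw⟩ := exists_mul_of_mem_map 𝔭 ha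
  have : p ∣ a := dvd_of_map_dvd htf ⟨w, hw⟩
  obtain ⟨c, rfl⟩ := this
  exact 𝔭.mul_mem_right _ hp

theorem map_ne_top (htf : TF V W) : 𝔭.map (algebraMap V W) ≠ ⊤ := by
  intro h
  have h1 : algebraMap V W 1 ∈ 𝔭.map (algebraMap V W) := by rw [h]; trivial
  exact h𝔭.ne_top ((Ideal.eq_top_iff_one _).mpr (mem_of_map_mem_map 𝔭 htf h1))

/-- torsion-freeness of the quotient pair. -/
theorem tf_quot (htf : TF V W) : TF (V ⧸ 𝔭) (W ⧸ 𝔭.map (algebraMap V W)) := by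
  intro a ha w hw
  obtain ⟨a, rfl⟩ := Ideal.Quotient.mk_surjective a
  obtain ⟨w, rfl⟩ := Ideal.Quotient.mk_surjective w
  have ha' : a ∉ 𝔭 := fun h => ha (Ideal.Quotient.eq_zero_iff_mem.mpr h)
  rw [Ideal.Quotient.algebraMap_quotient_map_quotient, ← map_mul,
    Ideal.Quotient.eq_zero_iff_mem] at hw
  obtain ⟨p, hp, w', hw'⟩ := exists_mul_of_mem_map 𝔭 hw
  rcases ValuationRing.dvd_total a p with ⟨c, rfl⟩ | ⟨c, rfl⟩
  · have hc : c ∈ 𝔭 := (h𝔭.mem_or_mem hp).resolve_left ha'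
    have ha0 : a ≠ 0 := fun h => ha' (h ▸ 𝔭.zero_mem)
    have : algebraMap V W a * (w - algebraMap V W c * w') = 0 := by
      rw [mul_sub, hw', map_mul, mul_assoc, sub_self]
    have hww := sub_eq_zero.mp (htf a ha0 _ this)
    rw [Ideal.Quotient.eq_zero_iff_mem, hww]
    exact Ideal.mul_mem_right _ _ (Ideal.mem_map_of_mem _ hc)
  · exact absurd (𝔭.mul_mem_right _ hp) ha'

theorem isLocalRing_quot (htf : TF V W) : IsLocalRing (W ⧸ 𝔭.map (algebraMap V W)) := by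
  haveI : Nontrivial (W ⧸ 𝔭.map (algebraMap V W)) :=
    Ideal.Quotient.nontrivial_iff.mpr (map_ne_top 𝔭 htf)
  exact IsLocalRing.of_surjective' (Ideal.Quotient.mk (𝔭.map (algebraMap V W)))
    Ideal.Quotient.mk_surjective

theorem not_isUnit_of_mk_not_isUnit {w : W}
    (h : ¬ IsUnit (Ideal.Quotient.mk (𝔭.map (algebraMap V W)) w)) : ¬ IsUnit w :=
  fun hu => h (hu.map _)

theorem isUnit_mk_iff (htf : TF V W) {w : W} :
    IsUnit (Ideal.Quotient.mk (𝔭.map (algebraMap V W)) w) ↔ IsUnit w := by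
  refine ⟨fun h => ?_, fun h => h.map _⟩
  obtain ⟨y, hy⟩ := h.exists_right_inv
  obtain ⟨y, rfl⟩ := Ideal.Quotient.mk_surjective y
  rw [← map_mul, ← map_one (Ideal.Quotient.mk (𝔭.map (algebraMap V W))),
    Ideal.Quotient.eq] at hy
  have hle : 𝔭.map (algebraMap V W) ≤ maximalIdeal W := IsLocalRing.le_maximalIdeal (map_ne_top 𝔭 htf)
  have h1 : w * y - 1 ∈ maximalIdeal W := hle hy
  by_contra hnu
  have h2 : w * y ∈ maximalIdeal W :=
    Ideal.mul_mem_right _ _ ((mem_maximalIdeal _).mpr (mem_nonunits_iff.mpr hnu))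
  have h3 := Ideal.sub_mem _ h2 h1
  rw [sub_sub_cancel] at h3
  exact (Ideal.ne_top_iff_one _).mp (maximalIdeal.isMaximal W).ne_top h3

theorem isLocalHom_quot (htf : TF V W) :
    IsLocalHom (algebraMap (V ⧸ 𝔭) (W ⧸ 𝔭.map (algebraMap V W))) := by
  constructor
  intro a ha
  obtain ⟨a, rfl⟩ := Ideal.Quotient.mk_surjective a
  rw [Ideal.Quotient.algebraMap_quotient_map_quotient, isUnit_mk_iff 𝔭 htf] at ha
  exact (isUnit_of_map_unit (algebraMap V W) a ha).map _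

theorem maxGen_quot (htf : TF V W) (hmax : MaxGen V W) :
    letI := isLocalRing_quot (W := W) 𝔭 htf
    haveI : IsDomain (V ⧸ 𝔭) := Ideal.Quotient.isDomain 𝔭
    haveI : ValuationRing (V ⧸ 𝔭) :=
      Function.Surjective.valuationRing (Ideal.Quotient.mk 𝔭) Ideal.Quotient.mk_surjective
    MaxGen (V ⧸ 𝔭) (W ⧸ 𝔭.map (algebraMap V W)) := by
  haveI : IsDomain (V ⧸ 𝔭) := Ideal.Quotient.isDomain 𝔭
  haveI : ValuationRing (V ⧸ 𝔭) :=
    Function.Surjective.valuationRing (Ideal.Quotient.mk 𝔭) Ideal.Quotient.mk_surjective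
  intro w hw
  obtain ⟨w, rfl⟩ := Ideal.Quotient.mk_surjective w
  rw [isUnit_mk_iff 𝔭 htf] at hw
  obtain ⟨m, hm, w', rfl⟩ := hmax w hw
  refine ⟨Ideal.Quotient.mk 𝔭 m, ?_, Ideal.Quotient.mk _ w', ?_⟩
  · rw [mem_maximalIdeal, mem_nonunits_iff] at hm ⊢
    intro hu
    obtain ⟨y, hy⟩ := hu.exists_right_inv
    obtain ⟨y, rfl⟩ := Ideal.Quotient.mk_surjective y
    rw [← map_mul, ← map_one (Ideal.Quotient.mk 𝔭), Ideal.Quotient.eq] at hy
    have hle : 𝔭 ≤ maximalIdeal V := IsLocalRing.le_maximalIdeal h𝔭.ne_top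
    have h1 := hle hy
    have h2 : m * y ∈ maximalIdeal V :=
      Ideal.mul_mem_right _ _ ((mem_maximalIdeal _).mpr (mem_nonunits_iff.mpr hm))
    have h3 := Ideal.sub_mem _ h2 h1
    rw [sub_sub_cancel] at h3
    exact (Ideal.ne_top_iff_one _).mp (maximalIdeal.isMaximal V).ne_top h3
  · rw [Ideal.Quotient.algebraMap_quotient_map_quotient, ← map_mul]

/-- **Lemma D.** If every `a ∉ 𝔭` divides `x` and `𝔭 ≠ 𝔪`, then `x ∈ 𝔭 W`. -/
theorem mem_map_of_forall_dvd (htf : TF V W) (hmax : MaxGen V W)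
    (hne : 𝔭 ≠ maximalIdeal V) (x : W)
    (h : ∀ a : V, a ∉ 𝔭 → algebraMap V W a ∣ x) : x ∈ 𝔭.map (algebraMap V W) := by
  letI := isLocalRing_quot (W := W) 𝔭 htf
  haveI : IsDomain (V ⧸ 𝔭) := Ideal.Quotient.isDomain 𝔭
  haveI : ValuationRing (V ⧸ 𝔭) :=
    Function.Surjective.valuationRing (Ideal.Quotient.mk 𝔭) Ideal.Quotient.mk_surjective
  haveI := isLocalHom_quot (W := W) 𝔭 htf
  have htf' := tf_quot (W := W) 𝔭 htf
  have hmax' := maxGen_quot (W := W) 𝔭 htf hmax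
  by_contra hx
  have hx' : Ideal.Quotient.mk (𝔭.map (algebraMap V W)) x ≠ 0 := by
    rwa [Ne, Ideal.Quotient.eq_zero_iff_mem]
  obtain ⟨r, hr, hdvd⟩ := exists_dvd_ne_zero hmax' hx'
  obtain ⟨r, rfl⟩ := Ideal.Quotient.mk_surjective r
  have hr' : r ∉ 𝔭 := fun h => hr (Ideal.Quotient.eq_zero_iff_mem.mpr h)
  -- an element of `𝔪 ∖ 𝔭`
  obtain ⟨a, ham, hap⟩ : ∃ a ∈ maximalIdeal V, a ∉ 𝔭 := by
    by_contra hcon
    push Not at hcon
    exact hne (le_antisymm (IsLocalRing.le_maximalIdeal h𝔭.ne_top) hcon)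
  have har : a * r ∉ 𝔭 := fun h => (h𝔭.mem_or_mem h).elim hap hr'
  obtain ⟨y, hy⟩ := h (a * r) har
  have h1 : algebraMap (V ⧸ 𝔭) (W ⧸ 𝔭.map (algebraMap V W)) (Ideal.Quotient.mk 𝔭 (a * r)) ∣
      algebraMap (V ⧸ 𝔭) (W ⧸ 𝔭.map (algebraMap V W)) (Ideal.Quotient.mk 𝔭 r) := by
    refine Dvd.dvd.trans ?_ hdvd
    rw [Ideal.Quotient.algebraMap_quotient_map_quotient, hy, map_mul]
    exact ⟨Ideal.Quotient.mk _ y, map_mul _ _ _⟩
  obtain ⟨t, ht⟩ := dvd_of_map_dvd htf' h1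
  obtain ⟨t, rfl⟩ := Ideal.Quotient.mk_surjective t
  rw [← map_mul, Ideal.Quotient.eq] at ht
  -- `r - a r t ∈ 𝔭`, so `1 - a t ∈ 𝔭`
  have h2 : r * (1 - a * t) ∈ 𝔭 := by
    have : r * (1 - a * t) = r - a * r * t := by ring
    rw [this]; exact ht
  have h3 : 1 - a * t ∈ 𝔭 := (h𝔭.mem_or_mem h2).resolve_left hr'
  have h4 : 1 - a * t ∈ maximalIdeal V := IsLocalRing.le_maximalIdeal h𝔭.ne_top h3
  have h5 := Ideal.add_mem _ h4 (Ideal.mul_mem_right t _ ham)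
  rw [sub_add_cancel] at h5
  exact (Ideal.ne_top_iff_one _).mp (maximalIdeal.isMaximal V).ne_top h5

end Quot

end Groth.Agent.Lib.helper3.ValWU
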