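import Mathlib
import Groth.Agent.Lib.Helper3.ValWU2

set_option autoImplicit false
set_option linter.style.haveILetI false
set_option linter.unusedSectionVars false
universe u

namespace Groth.Agent.Lib.helper3.ValWU

open IsLocalRing

/-- `W` is a localization of a finite `V`-subalgebra. -/
def FinLoc (V W : Type u) [CommRing V] [CommRing W] [Algebra V W] : Prop :=
  ∃ C : Subalgebra V W, C.toSubmodule.FG ∧ ∀ w : W, ∃ y ∈ C, ∃ s ∈ C, IsUnit s ∧ w * s = y

section General

variable {V : Type u} [CommRing V] [IsDomain V] [ValuationRing V]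

/-- elements of `I C`: single multiple (any algebra). -/
theorem exists_mul_of_mem_map' {C : Type*} [CommRing C] [Algebra V C] (I : Ideal V) {x : C}
    (hx : x ∈ I.map (algebraMap V C)) : ∃ a ∈ I, ∃ w : C, x = algebraMap V C a * w := by
  classical
  refine Submodule.span_induction ?_ ?_ ?_ ?_ hx
  · rintro _ ⟨a, ha, rfl⟩
    exact ⟨a, ha, 1, (mul_one _).symm⟩
  · exact ⟨0, I.zero_mem, 0, by simp⟩
  · rintro x y _ _ ⟨a, ha, w, rfl⟩ ⟨b, hb, w', rfl⟩
    rcases ValuationRing.dvd_total a b with ⟨c, rfl⟩ | ⟨c, rfl⟩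
    · exact ⟨a, ha, w + algebraMap V C c * w', by rw [map_mul]; ring⟩
    · exact ⟨b, hb, algebraMap V C c * w + w', by rw [map_mul]; ring⟩
  · rintro r x _ ⟨a, ha, w, rfl⟩
    exact ⟨a, ha, r * w, by rw [smul_eq_mul]; ring⟩

end General

section Top

variable {V : Type u} [CommRing V] [IsDomain V] [ValuationRing V]
  {W : Type u} [CommRing W] [Algebra V W] [IsLocalRing W] [IsLocalHom (algebraMap V W)]
  [Algebra.EssFiniteType V W]

variable (C : Subalgebra V W)

/-- the prime of `C` below the maximal ideal of `W`. -/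
def qC : Ideal C := (maximalIdeal W).comap (algebraMap C W)

theorem mem_qC {c : C} : c ∈ qC C ↔ ¬ IsUnit (c : W) := by
  rw [qC, Ideal.mem_comap, mem_maximalIdeal, mem_nonunits_iff]
  rfl

instance : (qC C).IsPrime := Ideal.comap_isPrime _ _

theorem comap_qC : (qC C).comap (algebraMap V C) = maximalIdeal V := by
  ext a
  rw [Ideal.mem_comap, mem_qC, mem_maximalIdeal, mem_nonunits_iff]
  constructor
  · intro h hu
    exact h (hu.map (algebraMap V W))
  · intro h hu
    exact h (isUnit_of_map_unit (algebraMap V W) a hu)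

theorem map_le_qC : (maximalIdeal V).map (algebraMap V C) ≤ qC C := by
  rw [Ideal.map_le_iff_le_comap, comap_qC]

variable {C}

theorem isMaximal_qC (hfg : C.toSubmodule.FG) : (qC C).IsMaximal := by
  haveI : Module.Finite V C := Module.Finite.iff_fg.mpr hfg
  haveI : Algebra.IsIntegral V C := inferInstance
  apply Ideal.isMaximal_of_isIntegral_of_isMaximal_comap (R := V) (qC C)
  rw [comap_qC]
  infer_instance

/-- for a non-unit `g ∈ C` there is `s ∈ C`, a unit of `W`, with `s g ∈ 𝔪 C`. -/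
theorem exists_unit_mul_mem (hmax : MaxGen V W)
    (hC : ∀ w : W, ∃ y ∈ C, ∃ s ∈ C, IsUnit s ∧ w * s = y) {g : C} (hg : g ∈ qC C) :
    ∃ s : C, IsUnit (s : W) ∧ s * g ∈ (maximalIdeal V).map (algebraMap V C) := by
  obtain ⟨m, hm, w, hw⟩ := hmax (g : W) ((mem_qC C).mp hg)
  obtain ⟨y, hy, s, hs, hsu, hws⟩ := hC w
  refine ⟨⟨s, hs⟩, hsu, ?_⟩
  have : (⟨s, hs⟩ : C) * g = algebraMap V C m * ⟨y, hy⟩ := by
    apply Subtype.ext
    change s * (g : W) = algebraMap V W m * y
    rw [hw, ← hws]; ring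
  rw [this]
  exact Ideal.mul_mem_right _ _ (Ideal.mem_map_of_mem _ hm)

theorem isNoetherianRing_quot (hfg : C.toSubmodule.FG) :
    IsNoetherianRing (C ⧸ (maximalIdeal V).map (algebraMap V C)) := by
  haveI : Module.Finite V C := Module.Finite.iff_fg.mpr hfg
  letI : Field (V ⧸ maximalIdeal V) := Ideal.Quotient.field _
  haveI : Module.Finite (V ⧸ maximalIdeal V) (C ⧸ (maximalIdeal V).map (algebraMap V C)) :=
    Module.Finite.of_restrictScalars_finite V _ _
  have h1 : IsNoetherian (V ⧸ maximalIdeal V) (C ⧸ (maximalIdeal V).map (algebraMap V C)) :=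
    inferInstance
  exact isNoetherian_of_tower (V ⧸ maximalIdeal V) h1

/-- **Step A**: a uniform `s₁`. -/
theorem exists_unit_mul_qC_le (hmax : MaxGen V W) (hfg : C.toSubmodule.FG)
    (hC : ∀ w : W, ∃ y ∈ C, ∃ s ∈ C, IsUnit s ∧ w * s = y) :
    ∃ s₁ : C, IsUnit (s₁ : W) ∧
      ∀ g ∈ qC C, s₁ * g ∈ (maximalIdeal V).map (algebraMap V C) := by
  classical
  haveI := isNoetherianRing_quot (C := C) hfg
  set mC : Ideal C := (maximalIdeal V).map (algebraMap V C) with hmC
  -- the colon ideals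
  let col : C → Ideal C := fun s =>
    { carrier := {g | s * g ∈ mC}
      zero_mem' := by simp
      add_mem' := fun {a b} ha hb => by
        change s * (a + b) ∈ mC
        rw [mul_add]; exact Ideal.add_mem _ ha hb
      smul_mem' := fun c a ha => by
        change s * (c • a) ∈ mC
        rw [smul_eq_mul, mul_left_comm]; exact Ideal.mul_mem_left _ _ ha }
  let 𝒜 : Set (Ideal (C ⧸ mC)) :=
    {J | ∃ s : C, IsUnit (s : W) ∧ J = (col s).map (Ideal.Quotient.mk mC)}
  have h𝒜 : 𝒜.Nonempty := ⟨_, 1, by simp, rfl⟩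
  obtain ⟨J₁, ⟨s₁, hs₁u, rfl⟩, hJmax⟩ := set_has_maximal_iff_noetherian.mpr
    (inferInstance : IsNoetherian (C ⧸ mC) (C ⧸ mC)) 𝒜 h𝒜
  refine ⟨s₁, hs₁u, fun g hg => ?_⟩
  obtain ⟨s', hs'u, hs'g⟩ := exists_unit_mul_mem hmax hC hg
  have hle : col s₁ ≤ col (s₁ * s') := by
    intro a ha
    change s₁ * s' * a ∈ mC
    have : s₁ * s' * a = s' * (s₁ * a) := by ring
    rw [this]; exact Ideal.mul_mem_left _ _ ha
  have hmem : (col (s₁ * s')).map (Ideal.Quotient.mk mC) ∈ 𝒜 :=
    ⟨s₁ * s', by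
      rw [Subalgebra.coe_mul]; exact hs₁u.mul hs'u, rfl⟩
  have hnlt := hJmax _ hmem
  have heq : (col (s₁ * s')).map (Ideal.Quotient.mk mC) = (col s₁).map (Ideal.Quotient.mk mC) := by
    by_contra hne
    exact hnlt (lt_of_le_of_ne (Ideal.map_mono hle) (Ne.symm hne))
  have hg' : g ∈ col (s₁ * s') := by
    change s₁ * s' * g ∈ mC
    rw [mul_assoc]; exact Ideal.mul_mem_left _ _ hs'g
  have h2 : Ideal.Quotient.mk mC g ∈ (col s₁).map (Ideal.Quotient.mk mC) := by
    rw [← heq]; exact Ideal.mem_map_of_mem _ hg'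
  obtain ⟨g', hg'1, hg'2⟩ :=
    (Ideal.mem_map_iff_of_surjective _ Ideal.Quotient.mk_surjective).mp h2
  rw [Ideal.Quotient.eq] at hg'2
  have : s₁ * g = s₁ * g' - s₁ * (g' - g) := by ring
  rw [this]
  exact Ideal.sub_mem _ hg'1 (Ideal.mul_mem_left _ _ hg'2)

/-- the approximate idempotent `e₀` and the element `m₀`. -/
theorem exists_e0 (hmax : MaxGen V W) (hfg : C.toSubmodule.FG)
    (hC : ∀ w : W, ∃ y ∈ C, ∃ s ∈ C, IsUnit s ∧ w * s = y) (hm : maximalIdeal V ≠ ⊥) :
    ∃ (e₀ : C) (m₀ : V), m₀ ∈ maximalIdeal V ∧ m₀ ≠ 0 ∧ 1 - e₀ ∈ qC C ∧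
      (∀ g ∈ qC C, e₀ * g ∈ (maximalIdeal V).map (algebraMap V C)) ∧
      ∃ c₀ : C, e₀ * (1 - e₀) = algebraMap V C m₀ * c₀ := by
  obtain ⟨s₁, hs₁u, hs₁⟩ := exists_unit_mul_qC_le hmax hfg hC
  haveI := isMaximal_qC (C := C) hfg
  have hs₁q : s₁ ∉ qC C := fun h => (mem_qC C).mp h hs₁u
  obtain ⟨t, ht⟩ := Ideal.IsMaximal.exists_inv (I := qC C) inferInstance hs₁q
  obtain ⟨i, hi, hti⟩ := ht
  -- `t * s₁ + i = 1`
  set e₀ : C := s₁ * t with he₀
  have h1 : 1 - e₀ ∈ qC C := by
    have : 1 - e₀ = i := by rw [he₀, ← hti]; ring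
    rw [this]; exact hi
  have h2 : ∀ g ∈ qC C, e₀ * g ∈ (maximalIdeal V).map (algebraMap V C) := by
    intro g hg
    have : e₀ * g = t * (s₁ * g) := by rw [he₀]; ring
    rw [this]; exact Ideal.mul_mem_left _ _ (hs₁ g hg)
  obtain ⟨m', hm', c', hc'⟩ := exists_mul_of_mem_map' (maximalIdeal V) (h2 _ h1)
  by_cases hm0 : m' = 0
  · obtain ⟨m₀, hm₀, hm₀0⟩ := Submodule.exists_mem_ne_zero_of_ne_bot hm
    refine ⟨e₀, m₀, hm₀, hm₀0, h1, h2, 0, ?_⟩
    rw [hc', hm0, map_zero, zero_mul, mul_zero]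
  · exact ⟨e₀, m', hm', hm0, h1, h2, c', hc'⟩

/-- units of `W` lying in `C` are invertible in `C` modulo `m₀ W`, uniformly. -/
theorem exists_inv_mod (hfg : C.toSubmodule.FG) {e₀ : C} {m₀ : V}
    (h1 : 1 - e₀ ∈ qC C)
    (h2 : ∀ g ∈ qC C, e₀ * g ∈ (maximalIdeal V).map (algebraMap V C))
    (h3 : ∃ c₀ : C, e₀ * (1 - e₀) = algebraMap V C m₀ * c₀)
    (s : C) (hs : IsUnit (s : W)) :
    ∃ (t : C) (w : W), (s : W) * t - 1 = algebraMap V W m₀ * w := by
  haveI : Module.Finite V C := Module.Finite.iff_fg.mpr hfg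
  haveI : Algebra.IsIntegral V C := inferInstance
  haveI hqmax := isMaximal_qC (C := C) hfg
  -- `e₀` is a unit of `W` and `1 - e₀ ∈ m₀ W`
  have he₀u : IsUnit (e₀ : W) := by
    by_contra hnu
    have ha : e₀ ∈ qC C := (mem_qC C).mpr hnu
    have := Ideal.add_mem _ h1 ha
    rw [sub_add_cancel] at this
    exact (Ideal.ne_top_iff_one _).mp hqmax.ne_top this
  obtain ⟨c₀, hc₀⟩ := h3
  have h1e : ∃ w : W, (1 - (e₀ : W)) = algebraMap V W m₀ * w := by
    obtain ⟨u, hu⟩ := he₀u
    refine ⟨↑u⁻¹ * c₀, ?_⟩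
    have h := congrArg (fun c : C => (c : W)) hc₀
    simp only [Subalgebra.coe_mul, Subalgebra.coe_sub, Subalgebra.coe_one,
      Subalgebra.coe_algebraMap] at h
    have : (1 - (e₀ : W)) = ↑u⁻¹ * ((e₀ : W) * (1 - e₀)) := by
      rw [← hu, ← mul_assoc, Units.inv_mul, one_mul]
    rw [this, h]; ring
  -- the ideal `(s, m₀, 1 - e₀)` is the unit ideal
  have htop : Ideal.span {s, algebraMap V C m₀, 1 - e₀} = ⊤ := by
    by_contra hne
    obtain ⟨M, hM, hle⟩ := Ideal.exists_le_maximal _ hne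
    have hs' : s ∈ M := hle (Ideal.subset_span (by simp))
    have hm' : algebraMap V C m₀ ∈ M := hle (Ideal.subset_span (by simp))
    have he' : 1 - e₀ ∈ M := hle (Ideal.subset_span (by simp))
    have hMV : M.comap (algebraMap V C) = maximalIdeal V := by
      haveI := Ideal.isMaximal_comap_of_isIntegral_of_isMaximal (R := V) M
      exact IsLocalRing.eq_maximalIdeal this
    have hmM : (maximalIdeal V).map (algebraMap V C) ≤ M := by
      rw [Ideal.map_le_iff_le_comap, hMV]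
    have he₀M : e₀ ∉ M := by
      intro h
      have := Ideal.add_mem _ he' h
      rw [sub_add_cancel] at this
      exact (Ideal.ne_top_iff_one _).mp hM.ne_top this
    have hqM : qC C ≤ M := by
      intro g hg
      exact (hM.isPrime.mem_or_mem (hmM (h2 g hg))).resolve_left he₀M
    have : qC C = M := hqmax.eq_of_le hM.ne_top hqM
    rw [← this] at hs'
    exact (mem_qC C).mp hs' hs
  have h1mem : (1 : C) ∈ Ideal.span {s, algebraMap V C m₀, 1 - e₀} := by rw [htop]; trivial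
  rw [Ideal.mem_span_insert] at h1mem
  obtain ⟨t, z, hz, h1z⟩ := h1mem
  rw [Ideal.mem_span_pair] at hz
  obtain ⟨c₁, c₂, rfl⟩ := hz
  obtain ⟨w₁, hw₁⟩ := h1e
  refine ⟨t, -((c₁ : W) + c₂ * w₁), ?_⟩
  have h := congrArg (fun c : C => (c : W)) h1z
  simp only [Subalgebra.coe_mul, Subalgebra.coe_add, Subalgebra.coe_sub, Subalgebra.coe_one,
    Subalgebra.coe_algebraMap] at h
  have : (s : W) * t - 1 = -((c₁ : W) * algebraMap V W m₀ + c₂ * (1 - e₀)) := by
    linear_combination (-1 : W) * h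
  rw [this, hw₁]; ring

/-- **(★)** `W = C + m₀ W`. -/
theorem exists_add_mul (hfg : C.toSubmodule.FG)
    (hC : ∀ w : W, ∃ y ∈ C, ∃ s ∈ C, IsUnit s ∧ w * s = y)
    {e₀ : C} {m₀ : V}
    (h1 : 1 - e₀ ∈ qC C)
    (h2 : ∀ g ∈ qC C, e₀ * g ∈ (maximalIdeal V).map (algebraMap V C))
    (h3 : ∃ c₀ : C, e₀ * (1 - e₀) = algebraMap V C m₀ * c₀) (w : W) :
    ∃ c ∈ C, ∃ w' : W, w = c + algebraMap V W m₀ * w' := by
  obtain ⟨y, hy, s, hs, hsu, hws⟩ := hC w
  obtain ⟨t, w₁, ht⟩ := exists_inv_mod hfg h1 h2 h3 ⟨s, hs⟩ hsu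
  refine ⟨y * t, C.mul_mem hy t.2, -(w * w₁), ?_⟩
  have : s * (t : W) = 1 + algebraMap V W m₀ * w₁ := by
    rw [← ht]; ring
  calc w = w * (s * (t : W)) - w * (algebraMap V W m₀ * w₁) := by rw [this]; ring
    _ = y * t + algebraMap V W m₀ * -(w * w₁) := by rw [← mul_assoc, hws]; ring

end Top

section Basis

variable {V : Type u} [CommRing V] [IsDomain V] [ValuationRing V]
  {W : Type u} [CommRing W] [Algebra V W] [IsLocalRing W] [IsLocalHom (algebraMap V W)]
  [Algebra.EssFiniteType V W]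

/-- A *good family*: lifts of a basis of the residue field extension. -/
structure GoodFam (V W : Type u) [CommRing V] [IsDomain V] [ValuationRing V] [CommRing W]
    [Algebra V W] [IsLocalRing W] (f : ℕ) (ω : Fin f → W) : Prop where
  span : ∀ x : W, ∃ (l : Fin f → V) (m : V) (w' : W), m ∈ maximalIdeal V ∧
    x = ∑ i, algebraMap V W (l i) * ω i + algebraMap V W m * w'
  indep : ∀ l : Fin f → V, (∃ j, IsUnit (l j)) → IsUnit (∑ i, algebraMap V W (l i) * ω i)

/-- existence of a good family when the residue field extension is finite. -/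
theorem exists_goodFam (hmax : MaxGen V W)
    [Module.Finite (ResidueField V) (ResidueField W)] :
    ∃ (f : ℕ) (ω : Fin f → W), GoodFam V W f ω := by
  classical
  let b := Module.finBasis (ResidueField V) (ResidueField W)
  choose ω hω using fun i => residue_surjective (R := W) (b i)
  refine ⟨_, ω, ⟨fun x => ?_, fun l hl => ?_⟩⟩
  · choose l hl using fun i => residue_surjective (R := V) (b.repr (residue W x) i)
    have hres : residue W (x - ∑ i, algebraMap V W (l i) * ω i) = 0 := by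
      rw [map_sub, map_sum]
      have : ∀ i, residue W (algebraMap V W (l i) * ω i) = b.repr (residue W x) i • b i := by
        intro i
        rw [map_mul, hω, ← ResidueField.algebraMap_residue, hl, Algebra.smul_def]
      simp only [this]
      rw [b.sum_repr, sub_self]
    rw [residue_eq_zero_iff, mem_maximalIdeal, mem_nonunits_iff] at hres
    obtain ⟨m, hm, w', hw'⟩ := hmax _ hres
    exact ⟨l, m, w', hm, by rw [← hw']; ring⟩
  · obtain ⟨j, hj⟩ := hl
    by_contra hnu
    have hres : residue W (∑ i, algebraMap V W (l i) * ω i) = 0 := by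
      rw [residue_eq_zero_iff, mem_maximalIdeal, mem_nonunits_iff]; exact hnu
    rw [map_sum] at hres
    have : ∀ i, residue W (algebraMap V W (l i) * ω i) = residue V (l i) • b i := by
      intro i
      rw [map_mul, hω, ← ResidueField.algebraMap_residue, Algebra.smul_def]
    simp only [this] at hres
    have h0 := (Fintype.linearIndependent_iff.mp b.linearIndependent) _ hres j
    rw [residue_eq_zero_iff, mem_maximalIdeal, mem_nonunits_iff] at h0
    exact h0 hj

/-- finiteness of the residue field extension from `(★)`. -/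
theorem finite_residueField {C : Subalgebra V W} (hfg : C.toSubmodule.FG) {m₀ : V}
    (hm₀ : m₀ ∈ maximalIdeal V)
    (hstar : ∀ w : W, ∃ c ∈ C, ∃ w' : W, w = c + algebraMap V W m₀ * w') :
    Module.Finite (ResidueField V) (ResidueField W) := by
  haveI : Module.Finite V C := Module.Finite.iff_fg.mpr hfg
  let φ : C →ₗ[V] ResidueField W :=
    ((Algebra.linearMap W (ResidueField W)).restrictScalars V) ∘ₗ C.val.toLinearMap
  have hφ : Function.Surjective φ := by
    intro x
    obtain ⟨w, rfl⟩ := residue_surjective x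
    obtain ⟨c, hc, w', hw'⟩ := hstar w
    refine ⟨⟨c, hc⟩, ?_⟩
    change residue W c = residue W w
    rw [hw', map_add, map_mul]
    have : residue W (algebraMap V W m₀) = 0 := by
      rw [residue_eq_zero_iff]; exact map_mem_maximalIdeal hm₀
    rw [this, zero_mul, add_zero]
  haveI : Module.Finite V (ResidueField W) := Module.Finite.of_surjective φ hφ
  exact Module.Finite.of_restrictScalars_finite V _ _

/-- `W = F + m₀ W` by Nakayama. -/
theorem exists_repr_mod_one {C : Subalgebra V W} (hfg : C.toSubmodule.FG) {m₀ : V}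
    (hstar : ∀ w : W, ∃ c ∈ C, ∃ w' : W, w = c + algebraMap V W m₀ * w')
    {f : ℕ} {ω : Fin f → W} (hω : GoodFam V W f ω) (x : W) :
    ∃ (l : Fin f → V) (w' : W), x = ∑ i, algebraMap V W (l i) * ω i + algebraMap V W m₀ * w' := by
  classical
  let F : Submodule V W := Submodule.span V (Set.range ω)
  let Mw : Submodule V W := (Ideal.span {algebraMap V W m₀}).restrictScalars V
  have hsumF : ∀ l : Fin f → V, ∑ i, algebraMap V W (l i) * ω i ∈ F := by
    intro l
    refine Submodule.sum_mem _ fun i _ => ?_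
    rw [← Algebra.smul_def]
    exact Submodule.smul_mem _ _ (Submodule.subset_span ⟨i, rfl⟩)
  have hMw : ∀ w : W, algebraMap V W m₀ * w ∈ Mw := fun w =>
    Ideal.mul_mem_right _ _ (Ideal.mem_span_singleton_self _)
  have hle : C.toSubmodule ≤ (F ⊔ Mw) ⊔ maximalIdeal V • C.toSubmodule := by
    intro c hc
    obtain ⟨l, m, w', hm, hx⟩ := hω.span c
    obtain ⟨c', hc', w'', hw''⟩ := hstar w'
    have : c = (∑ i, algebraMap V W (l i) * ω i + algebraMap V W m₀ * (algebraMap V W m * w'')) +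
        m • c' := by
      rw [hx, hw'', Algebra.smul_def]; ring
    rw [this]
    exact Submodule.add_mem_sup
      (Submodule.add_mem_sup (hsumF l) (hMw _)) (Submodule.smul_mem_smul hm hc')
  have hCle := Submodule.le_of_le_smul_of_le_jacobson_bot hfg
    (by rw [IsLocalRing.jacobson_eq_maximalIdeal ⊥ bot_ne_top]) hle
  obtain ⟨c, hc, w', hw'⟩ := hstar x
  have hcm := hCle hc
  obtain ⟨y, hy, z, hz, hyz⟩ := Submodule.mem_sup.mp hcm
  obtain ⟨l, hl⟩ := (Submodule.mem_span_range_iff_exists_fun V).mp hy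
  obtain ⟨z', hz'⟩ := Ideal.mem_span_singleton'.mp hz
  refine ⟨l, z' + w', ?_⟩
  rw [hw', ← hyz, ← hl, ← hz']
  simp only [Algebra.smul_def]
  ring

theorem exists_repr_mod_pow {C : Subalgebra V W} (hfg : C.toSubmodule.FG) {m₀ : V}
    (hstar : ∀ w : W, ∃ c ∈ C, ∃ w' : W, w = c + algebraMap V W m₀ * w')
    {f : ℕ} {ω : Fin f → W} (hω : GoodFam V W f ω) (k : ℕ) (x : W) :
    ∃ (l : Fin f → V) (w' : W),
      x = ∑ i, algebraMap V W (l i) * ω i + algebraMap V W (m₀ ^ k) * w' := by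
  induction k generalizing x with
  | zero =>
    exact ⟨0, x, by simp⟩
  | succ k ih =>
    obtain ⟨l, w', hx⟩ := ih x
    obtain ⟨l', w'', hw'⟩ := exists_repr_mod_one hfg hstar hω w'
    refine ⟨fun i => l i + m₀ ^ k * l' i, w'', ?_⟩
    rw [hx, hw', pow_succ, map_mul, mul_add, Finset.mul_sum, ← add_assoc, ← Finset.sum_add_distrib]
    congr 1
    · refine Finset.sum_congr rfl fun i _ => ?_
      rw [map_add, map_mul]; ring
    · ring

/-- **step (h)**: elements not divisible by `m₀ ^ k` are `c · unit`. -/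
theorem G_of_not_pow_dvd {m₀ : V} {f : ℕ} {ω : Fin f → W}
    (hω : GoodFam V W f ω) (k : ℕ)
    (hrep : ∀ x : W, ∃ (l : Fin f → V) (w' : W),
      x = ∑ i, algebraMap V W (l i) * ω i + algebraMap V W (m₀ ^ k) * w')
    (x : W) (hx : ¬ algebraMap V W (m₀ ^ k) ∣ x) : G V x := by
  classical
  obtain ⟨l, w', hxl⟩ := hrep x
  have hne : (Finset.univ : Finset (Fin f)).Nonempty := by
    by_contra hemp
    rw [Finset.not_nonempty_iff_eq_empty] at hemp
    apply hx
    rw [hxl, hemp, Finset.sum_empty, zero_add]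
    exact dvd_mul_right _ _
  obtain ⟨j, -, hj⟩ := Groth.Agent.Lib.helper3.ValFp.exists_dvd_all Finset.univ hne l
  choose! μ hμ using fun i => hj i (Finset.mem_univ i)
  set c := l j with hc
  -- `c` strictly divides `m₀ ^ k`
  have hcm : ¬ m₀ ^ k ∣ c := by
    rintro ⟨d, hd⟩
    apply hx
    rw [hxl]
    refine dvd_add (Finset.dvd_sum fun i _ => ?_) (dvd_mul_right _ _)
    rw [hμ i, hd, map_mul, map_mul, mul_assoc, mul_assoc]
    exact dvd_mul_right _ _
  obtain ⟨n, hn⟩ : c ∣ m₀ ^ k := (ValuationRing.dvd_total c (m₀ ^ k)).resolve_right hcm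
  have hnu : ¬ IsUnit n := by
    rintro ⟨u, rfl⟩
    exact hcm ⟨↑u⁻¹, by rw [hn, mul_assoc, Units.mul_inv, mul_one]⟩
  by_cases hc0 : c = 0
  · exfalso
    apply hx
    rw [hn, hc0, zero_mul, map_zero]
    rw [hxl]
    have : ∀ i, l i = 0 := fun i => by rw [hμ i, hc0, zero_mul]
    simp [this, hn, hc0]
  -- `μ j` is a unit
  have hμj : IsUnit (μ j) := by
    have h1 : c * 1 = c * μ j := by rw [mul_one]; exact hμ j
    have := mul_left_cancel₀ hc0 h1
    rw [← this]; exact isUnit_one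
  have hz := hω.indep μ ⟨j, hμj⟩
  have hnW : algebraMap V W n * w' ∈ maximalIdeal W :=
    Ideal.mul_mem_right _ _ (map_mem_maximalIdeal
      ((mem_maximalIdeal n).mpr (mem_nonunits_iff.mpr hnu)))
  have hu : IsUnit (∑ i, algebraMap V W (μ i) * ω i + algebraMap V W n * w') := by
    by_contra hnu'
    have h1 := (mem_maximalIdeal _).mpr (mem_nonunits_iff.mpr hnu')
    have h2 := Ideal.sub_mem _ h1 hnW
    rw [add_sub_cancel_right] at h2
    exact (mem_nonunits_iff.mp ((mem_maximalIdeal _).mp h2)) hz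
  refine ⟨c, hu.unit, ?_⟩
  rw [IsUnit.unit_spec, hxl, hn, mul_add, Finset.mul_sum, map_mul]
  congr 1
  · refine Finset.sum_congr rfl fun i _ => ?_
    rw [hμ i, map_mul]; ring
  · ring

end Basis

section PowInf

variable {V : Type u} [CommRing V] [IsDomain V] [ValuationRing V]

/-- the ideal `⋂ₖ m₀ᵏ V`. -/
def powInf (m₀ : V) : Ideal V := ⨅ k : ℕ, Ideal.span {m₀ ^ k}

theorem mem_powInf {m₀ a : V} : a ∈ powInf m₀ ↔ ∀ k : ℕ, m₀ ^ k ∣ a := by
  simp only [powInf, Ideal.mem_iInf, Ideal.mem_span_singleton]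

theorem powInf_isPrime {m₀ : V} (hm₀ : m₀ ∈ maximalIdeal V) : (powInf m₀).IsPrime := by
  refine ⟨?_, ?_⟩
  · intro h
    have h1 : (1 : V) ∈ powInf m₀ := by rw [h]; trivial
    have := mem_powInf.mp h1 1
    rw [pow_one] at this
    exact (mem_nonunits_iff.mp ((mem_maximalIdeal _).mp hm₀)) (isUnit_of_dvd_one this)
  · intro a b hab
    by_contra hcon
    push Not at hcon
    obtain ⟨ha, hb⟩ := hcon
    have ha0 : a ≠ 0 := fun h => ha (by rw [h]; exact Ideal.zero_mem _)
    have hb0 : b ≠ 0 := fun h => hb (by rw [h]; exact Ideal.zero_mem _)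
    rw [mem_powInf] at ha hb
    push Not at ha hb
    obtain ⟨k, hk⟩ := ha
    obtain ⟨n, hn⟩ := hb
    obtain ⟨a', ha'⟩ := (ValuationRing.dvd_total a (m₀ ^ k)).resolve_right hk
    obtain ⟨b', hb'⟩ := (ValuationRing.dvd_total b (m₀ ^ n)).resolve_right hn
    obtain ⟨d, hd⟩ := mem_powInf.mp hab (k + n + 1)
    have h2 : m₀ ^ (k + n) = a * b * (a' * b') := by
      rw [pow_add, ha', hb']; ring
    have h3 : m₀ ^ (k + n) * (1 - m₀ * d * (a' * b')) = 0 := by
      have : m₀ ^ (k + n) * (m₀ * d * (a' * b')) = a * b * (a' * b') := by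
        rw [hd, pow_succ]; ring
      rw [mul_sub, mul_one, this, h2, sub_self]
    have hu : IsUnit (1 - m₀ * d * (a' * b')) := by
      by_contra hnu
      have h4 := (mem_maximalIdeal _).mpr (mem_nonunits_iff.mpr hnu)
      have h5 : m₀ * d * (a' * b') ∈ maximalIdeal V := by
        rw [mul_assoc]; exact Ideal.mul_mem_right _ _ hm₀
      have h6 := Ideal.add_mem _ h4 h5
      rw [sub_add_cancel] at h6
      exact (mem_nonunits_iff.mp ((mem_maximalIdeal _).mp h6)) isUnit_one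
    have h7 : m₀ ^ (k + n) = 0 := hu.mul_left_eq_zero.mp h3
    rw [pow_succ, h7, zero_mul, zero_mul] at hd
    rcases mul_eq_zero.mp hd with h | h
    · exact ha0 h
    · exact hb0 h

theorem powInf_ne_maximalIdeal {m₀ : V} (hm₀ : m₀ ∈ maximalIdeal V) (hne : m₀ ≠ 0) :
    powInf m₀ ≠ maximalIdeal V := by
  intro h
  have h1 : m₀ ∈ powInf m₀ := by rw [h]; exact hm₀
  obtain ⟨d, hd⟩ := mem_powInf.mp h1 2
  have h2 : m₀ * (1 - m₀ * d) = 0 := by
    rw [mul_sub, mul_one]; nth_rewrite 1 [hd]; ring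
  rcases mul_eq_zero.mp h2 with h3 | h3
  · exact hne h3
  · have h5 : m₀ * d ∈ maximalIdeal V := Ideal.mul_mem_right _ _ hm₀
    have h6 : (1 : V) ∈ maximalIdeal V := by
      have : (1 : V) = m₀ * d := by linear_combination h3
      rw [this]; exact h5
    exact (mem_nonunits_iff.mp ((mem_maximalIdeal _).mp h6)) isUnit_one

end PowInf

section TopStep

variable {V : Type u} [CommRing V] [IsDomain V] [ValuationRing V]
  {W : Type u} [CommRing W] [Algebra V W] [IsLocalRing W] [IsLocalHom (algebraMap V W)]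
  [Algebra.EssFiniteType V W]

/-- **Top step**: there is a prime `𝔭₀ ⊊ 𝔪` such that all elements outside `𝔭₀ W` are of the
form `c · unit`. -/
theorem top_step (htf : TF V W) (hmax : MaxGen V W) (hfin : FinLoc V W)
    (hm : maximalIdeal V ≠ ⊥) :
    ∃ 𝔭₀ : Ideal V, 𝔭₀.IsPrime ∧ 𝔭₀ ≠ maximalIdeal V ∧
      ∀ x : W, x ∉ 𝔭₀.map (algebraMap V W) → G V x := by
  obtain ⟨C, hfg, hC⟩ := hfin
  obtain ⟨e₀, m₀, hm₀, hm₀0, h1, h2, h3⟩ := exists_e0 hmax hfg hC hm
  have hstar := exists_add_mul hfg hC h1 h2 h3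
  haveI := finite_residueField hfg hm₀ hstar
  obtain ⟨f, ω, hω⟩ := exists_goodFam (V := V) (W := W) hmax
  haveI := powInf_isPrime hm₀
  refine ⟨powInf m₀, powInf_isPrime hm₀, powInf_ne_maximalIdeal hm₀ hm₀0, fun x hx => ?_⟩
  have hD : ¬ ∀ a : V, a ∉ powInf m₀ → algebraMap V W a ∣ x := fun h =>
    hx (mem_map_of_forall_dvd (powInf m₀) htf hmax (powInf_ne_maximalIdeal hm₀ hm₀0) x h)
  push Not at hD
  obtain ⟨a, ha, hax⟩ := hD
  rw [mem_powInf] at ha
  push Not at ha
  obtain ⟨k, hk⟩ := ha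
  obtain ⟨a', ha'⟩ := (ValuationRing.dvd_total a (m₀ ^ k)).resolve_right hk
  apply G_of_not_pow_dvd hω k (exists_repr_mod_pow hfg hstar hω k) x
  intro hdvd
  apply hax
  refine dvd_trans ?_ hdvd
  rw [ha', map_mul]; exact dvd_mul_right _ _

end TopStep

end Groth.Agent.Lib.helper3.ValWU
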