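import Mathlib
import Groth.Agent.Lib.Helper3.ValWU3
/-!
# Weakly unramified local algebras over valuation rings, IV: localization and descent (helper3)

* localized pair `(V_𝔭, W_𝔭)` for `𝔭 ∈ Σ`; transfer of all hypotheses;
* `main` : `TF`, `MaxGen`, `FinLoc` ⇒ every nonzero `x : W` is `c · unit`.
-/

set_option autoImplicit false
set_option linter.style.haveILetI false
set_option linter.unusedSectionVars false
universe u

namespace Groth.Agent.Lib.helper3.ValWU

open IsLocalRing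

/-- localizations of valuation rings are valuation rings. -/
theorem valuationRing_of_isLocalization {V : Type*} [CommRing V] [IsDomain V] [ValuationRing V]
    (M : Submonoid V) (V' : Type*) [CommRing V'] [IsDomain V'] [Algebra V V']
    [IsLocalization M V'] : ValuationRing V' := by
  refine ValuationRing.iff_dvd_total.mpr ⟨fun x y => ?_⟩
  obtain ⟨a, s, rfl⟩ := IsLocalization.exists_mk'_eq M x
  obtain ⟨b, t, rfl⟩ := IsLocalization.exists_mk'_eq M y
  rcases ValuationRing.dvd_total a b with ⟨c, hc⟩ | ⟨c, hc⟩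
  · left
    refine ⟨IsLocalization.mk' V' (c * s) t, ?_⟩
    rw [← IsLocalization.mk'_mul, hc, IsLocalization.mk'_eq_iff_eq]
    congr 1
    push_cast
    ring
  · right
    refine ⟨IsLocalization.mk' V' (c * t) s, ?_⟩
    rw [← IsLocalization.mk'_mul, hc, IsLocalization.mk'_eq_iff_eq]
    congr 1
    push_cast
    ring

/-- the property defining the set `Σ`. -/
def Sig (V W : Type u) [CommRing V] [CommRing W] [Algebra V W] (𝔭 : Ideal V) : Prop :=
  ∀ x : W, x ∉ 𝔭.map (algebraMap V W) → G V x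

section Loc

variable {V : Type u} [CommRing V] [IsDomain V] [ValuationRing V]
  {W : Type u} [CommRing W] [Algebra V W] [IsLocalRing W] [IsLocalHom (algebraMap V W)]
  [Algebra.EssFiniteType V W]
  (𝔭 : Ideal V) [h𝔭 : 𝔭.IsPrime]
  (V' : Type u) [CommRing V'] [Algebra V V'] [IsLocalization.AtPrime V' 𝔭]
  (W' : Type u) [CommRing W'] [Algebra W W']
  [IsLocalization (Algebra.algebraMapSubmonoid W 𝔭.primeCompl) W']
  [Algebra V' W'] [Algebra V W'] [IsScalarTower V V' W'] [IsScalarTower V W W']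

include 𝔭 in
theorem isDomain_loc : IsDomain V' :=
  IsLocalization.isDomain_of_le_nonZeroDivisors V' 𝔭.primeCompl_le_nonZeroDivisors

include 𝔭 in
theorem valuationRing_loc [IsDomain V'] : ValuationRing V' :=
  valuationRing_of_isLocalization 𝔭.primeCompl V'

variable (W) in
/-- The ideal `𝔭 W'`. -/
def JJ : Ideal W' := (𝔭.map (algebraMap V W)).map (algebraMap W W')

theorem isUnit_map_of_notMem (hS : Sig V W 𝔭) {w : W} (hw : w ∉ 𝔭.map (algebraMap V W)) :
    IsUnit (algebraMap W W' w) := by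
  obtain ⟨c, u, rfl⟩ := hS w hw
  have hc : c ∉ 𝔭 := fun hc => hw (Ideal.mul_mem_right _ _ (Ideal.mem_map_of_mem _ hc))
  rw [map_mul]
  refine IsUnit.mul ?_ (u.isUnit.map _)
  exact IsLocalization.map_units W' (⟨algebraMap V W c, Algebra.mem_algebraMapSubmonoid_of_mem ⟨c, hc⟩⟩ :
    Algebra.algebraMapSubmonoid W 𝔭.primeCompl)

theorem JJ_ne_top (htf : TF V W) : JJ W 𝔭 W' ≠ ⊤ := by
  rw [JJ, IsLocalization.map_algebraMap_ne_top_iff_disjoint (Algebra.algebraMapSubmonoid W 𝔭.primeCompl)]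
  rw [Set.disjoint_left]
  rintro x ⟨a, ha, rfl⟩ hx
  exact ha (mem_of_map_mem_map 𝔭 htf hx)

theorem mem_JJ_of_not_isUnit (hS : Sig V W 𝔭) {x : W'} (hx : ¬ IsUnit x) : x ∈ JJ W 𝔭 W' := by
  obtain ⟨w, s, rfl⟩ := IsLocalization.exists_mk'_eq (Algebra.algebraMapSubmonoid W 𝔭.primeCompl) x
  have hw : w ∈ 𝔭.map (algebraMap V W) := by
    by_contra hw
    apply hx
    have h1 := IsLocalization.mk'_spec W' w s
    have h2 : IsUnit (IsLocalization.mk' W' w s * algebraMap W W' s) := by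
      rw [h1]; exact isUnit_map_of_notMem 𝔭 W' hS hw
    exact isUnit_of_mul_isUnit_left h2
  rw [IsLocalization.mk'_eq_mul_mk'_one]
  exact Ideal.mul_mem_right _ _ (Ideal.mem_map_of_mem _ hw)

theorem not_isUnit_of_mem_JJ (htf : TF V W) {x : W'} (hx : x ∈ JJ W 𝔭 W') : ¬ IsUnit x :=
  fun hu => JJ_ne_top 𝔭 W' htf (Ideal.eq_top_of_isUnit_mem _ hx hu)

include 𝔭 W in
theorem isLocalRing_loc (htf : TF V W) (hS : Sig V W 𝔭) : IsLocalRing W' := by
  haveI : Nontrivial W' := ⟨⟨0, 1, fun h => JJ_ne_top 𝔭 W' htf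
    ((Ideal.eq_top_iff_one _).mpr (h ▸ Ideal.zero_mem _))⟩⟩
  refine IsLocalRing.of_nonunits_add fun a b ha hb => ?_
  exact not_isUnit_of_mem_JJ 𝔭 W' htf (Ideal.add_mem _ (mem_JJ_of_not_isUnit 𝔭 W' hS ha)
    (mem_JJ_of_not_isUnit 𝔭 W' hS hb))

theorem exists_mk'_of_not_isUnit (hS : Sig V W 𝔭) {x : W'} (hx : ¬ IsUnit x) :
    ∃ w ∈ 𝔭.map (algebraMap V W), ∃ s : Algebra.algebraMapSubmonoid W 𝔭.primeCompl,
      x = IsLocalization.mk' W' w s := by
  obtain ⟨w, s, rfl⟩ := IsLocalization.exists_mk'_eq (Algebra.algebraMapSubmonoid W 𝔭.primeCompl) x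
  refine ⟨w, ?_, s, rfl⟩
  by_contra hw
  apply hx
  have h1 := IsLocalization.mk'_spec W' w s
  have h2 : IsUnit (IsLocalization.mk' W' w s * algebraMap W W' s) := by
    rw [h1]; exact isUnit_map_of_notMem 𝔭 W' hS hw
  exact isUnit_of_mul_isUnit_left h2

include 𝔭 W in
theorem isLocalHom_loc (htf : TF V W) : IsLocalHom (algebraMap V' W') := by
  refine ⟨fun x hx => ?_⟩
  obtain ⟨a, s, rfl⟩ := IsLocalization.exists_mk'_eq 𝔭.primeCompl x
  rw [IsLocalization.AtPrime.isUnit_mk'_iff V' 𝔭]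
  intro ha
  have h1 : algebraMap V' W' (IsLocalization.mk' V' a s) * algebraMap V' W' (algebraMap V V' s) =
      algebraMap V' W' (algebraMap V V' a) := by rw [← map_mul, IsLocalization.mk'_spec]
  have h2 : algebraMap V' W' (algebraMap V V' a) ∈ JJ W 𝔭 W' := by
    rw [← IsScalarTower.algebraMap_apply, IsScalarTower.algebraMap_apply V W W']
    exact Ideal.mem_map_of_mem _ (Ideal.mem_map_of_mem _ ha)
  have h3 : IsUnit (algebraMap V' W' (algebraMap V V' s)) := (IsLocalization.map_units V' s).map _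
  exact not_isUnit_of_mem_JJ 𝔭 W' htf h2 (h1 ▸ hx.mul h3)

include 𝔭 W in
theorem essFiniteType_loc : Algebra.EssFiniteType V' W' := by
  haveI : Algebra.EssFiniteType W W' :=
    Algebra.EssFiniteType.of_isLocalization W' (Algebra.algebraMapSubmonoid W 𝔭.primeCompl)
  haveI : Algebra.EssFiniteType V W' := Algebra.EssFiniteType.comp V W W'
  exact Algebra.EssFiniteType.of_comp V V' W'

include 𝔭 W in
theorem tf_loc (htf : TF V W) : TF V' W' := by
  intro x' hx' w' h
  obtain ⟨a, s, rfl⟩ := IsLocalization.exists_mk'_eq 𝔭.primeCompl x'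
  obtain ⟨w, t, rfl⟩ :=
    IsLocalization.exists_mk'_eq (Algebra.algebraMapSubmonoid W 𝔭.primeCompl) w'
  have ha : a ≠ 0 := by rintro rfl; exact hx' (IsLocalization.mk'_zero _)
  have h1 : algebraMap W W' (algebraMap V W a * w) = 0 := by
    have e1 : algebraMap V' W' (algebraMap V V' a) =
        algebraMap V' W' (IsLocalization.mk' V' a s) * algebraMap V' W' (algebraMap V V' s) := by
      rw [← map_mul, IsLocalization.mk'_spec]
    have e2 : algebraMap W W' w = IsLocalization.mk' W' w t * algebraMap W W' t :=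
      (IsLocalization.mk'_spec W' w t).symm
    rw [map_mul, ← IsScalarTower.algebraMap_apply, IsScalarTower.algebraMap_apply V V' W', e1, e2]
    linear_combination (algebraMap V' W' (algebraMap V V' s) * algebraMap W W' t) * h
  obtain ⟨⟨_, c, hc, rfl⟩, hc'⟩ :=
    (IsLocalization.map_eq_zero_iff (Algebra.algebraMapSubmonoid W 𝔭.primeCompl) W' _).mp h1
  have hw : w = 0 := htf (c * a) (mul_ne_zero (fun h => hc (h ▸ 𝔭.zero_mem)) ha) w
    (by rw [map_mul, mul_assoc]; exact hc')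
  rw [hw, IsLocalization.mk'_zero]

include 𝔭 W in
theorem maxGen_loc [IsDomain V'] [ValuationRing V'] (hS : Sig V W 𝔭) : MaxGen V' W' := by
  intro x hx
  obtain ⟨w, hw, s, rfl⟩ := exists_mk'_of_not_isUnit 𝔭 W' hS hx
  obtain ⟨b, hb, w₁, rfl⟩ := exists_mul_of_mem_map' 𝔭 hw
  refine ⟨algebraMap V V' b, (IsLocalization.AtPrime.to_map_mem_maximal_iff V' 𝔭 b).mpr hb,
    IsLocalization.mk' W' w₁ s, ?_⟩
  rw [← IsScalarTower.algebraMap_apply, IsScalarTower.algebraMap_apply V W W',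
    ← IsLocalization.mul_mk'_eq_mk'_of_mul]

include 𝔭 W in
theorem finLoc_loc (hfin : FinLoc V W) : FinLoc V' W' := by
  classical
  obtain ⟨C, hfg, hC⟩ := hfin
  let φ : W →ₐ[V] W' := IsScalarTower.toAlgHom V W W'
  let C₁ : Subalgebra V W' := C.map φ
  let C' : Subalgebra V' W' := Algebra.adjoin V' (C₁ : Set W')
  have hsub : ∀ c ∈ C, algebraMap W W' c ∈ C' := fun c hc =>
    Algebra.subset_adjoin ⟨c, hc, rfl⟩
  refine ⟨C', ?_, ?_⟩
  · have h1 : Subalgebra.toSubmodule C' = Submodule.span V' (C₁ : Set W') := by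
      rw [Algebra.adjoin_eq_span]
      congr 1
      exact congrArg _ (Submonoid.closure_eq C₁.toSubmonoid)
    obtain ⟨gens, hgens⟩ := hfg
    have h2 : (C₁ : Set W') = ((Submodule.span V (φ '' (gens : Set W)) : Submodule V W') : Set W') := by
      have : Subalgebra.toSubmodule C₁ = Submodule.span V (φ '' (gens : Set W)) := by
        rw [Subalgebra.map_toSubmodule, ← hgens, Submodule.map_span]; rfl
      rw [← this]; rfl
    rw [h1, h2, Submodule.span_span_of_tower]
    exact ⟨gens.image φ, by simp⟩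
  · intro w'
    obtain ⟨w, t, rfl⟩ :=
      IsLocalization.exists_mk'_eq (Algebra.algebraMapSubmonoid W 𝔭.primeCompl) w'
    obtain ⟨a, ha, hat⟩ := t.2
    obtain rfl : t = (⟨algebraMap V W a, Algebra.mem_algebraMapSubmonoid_of_mem
        (⟨a, ha⟩ : 𝔭.primeCompl)⟩ : Algebra.algebraMapSubmonoid W 𝔭.primeCompl) :=
      Subtype.ext hat.symm
    obtain ⟨y, hy, s, hs, hsu, hws⟩ := hC w
    refine ⟨IsLocalization.mk' W' y (⟨algebraMap V W a, Algebra.mem_algebraMapSubmonoid_of_mem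
        (⟨a, ha⟩ : 𝔭.primeCompl)⟩ : Algebra.algebraMapSubmonoid W 𝔭.primeCompl), ?_,
      algebraMap W W' s, hsub s hs, hsu.map _, ?_⟩
    · have : IsLocalization.mk' W' y
          (⟨algebraMap V W a, Algebra.mem_algebraMapSubmonoid_of_mem
            (⟨a, ha⟩ : 𝔭.primeCompl)⟩ : Algebra.algebraMapSubmonoid W 𝔭.primeCompl) =
          (IsLocalization.mk' V' 1 (⟨a, ha⟩ : 𝔭.primeCompl)) • algebraMap W W' y := by
        rw [Algebra.smul_def, IsLocalization.algebraMap_mk' W V' W', map_one,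
          mul_comm, IsLocalization.mul_mk'_eq_mk'_of_mul, mul_one]
      rw [this]
      exact C'.smul_mem (hsub y hy) _
    · rw [← hws, mul_comm, IsLocalization.mul_mk'_eq_mk'_of_mul, mul_comm]

include 𝔭 in
omit [IsLocalRing W] [IsLocalHom (algebraMap V W)] [Algebra.EssFiniteType V W] in
theorem maximalIdeal_loc_ne_bot [IsDomain V'] [ValuationRing V'] (h𝔭0 : 𝔭 ≠ ⊥) :
    maximalIdeal V' ≠ ⊥ := by
  obtain ⟨b, hb, hb0⟩ := Submodule.exists_mem_ne_zero_of_ne_bot h𝔭0
  intro h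
  have h1 : algebraMap V V' b ∈ maximalIdeal V' :=
    (IsLocalization.AtPrime.to_map_mem_maximal_iff V' 𝔭 b).mpr hb
  rw [h, Ideal.mem_bot] at h1
  exact hb0 ((IsLocalization.injective V' 𝔭.primeCompl_le_nonZeroDivisors) (h1.trans (map_zero _).symm))

omit [IsLocalRing W] [IsLocalHom (algebraMap V W)] [Algebra.EssFiniteType V W] in
include 𝔭 in
/-- clearing denominators. -/
theorem clear_denoms (x : W) (b' : V') (w' : W')
    (h : algebraMap W W' x = algebraMap V' W' b' * w') :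
    ∃ (r b : V) (w : W) (s : V) (t : Algebra.algebraMapSubmonoid W 𝔭.primeCompl),
      r ∉ 𝔭 ∧ s ∉ 𝔭 ∧ algebraMap V V' b = b' * algebraMap V V' s ∧
      algebraMap W W' w = w' * algebraMap W W' t ∧
      algebraMap V W r * x = algebraMap V W b * w := by
  obtain ⟨b, s, rfl⟩ := IsLocalization.exists_mk'_eq 𝔭.primeCompl b'
  obtain ⟨w, t, rfl⟩ :=
    IsLocalization.exists_mk'_eq (Algebra.algebraMapSubmonoid W 𝔭.primeCompl) w'
  obtain ⟨t₀, ht₀, ht₀t⟩ := t.2
  have e : algebraMap W W' (algebraMap V W s * t * x) = algebraMap W W' (algebraMap V W b * w) := by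
    have e1 : algebraMap V' W' (algebraMap V V' b) =
        algebraMap V' W' (IsLocalization.mk' V' b s) * algebraMap V' W' (algebraMap V V' s) := by
      rw [← map_mul, IsLocalization.mk'_spec]
    have e2 : algebraMap W W' w = IsLocalization.mk' W' w t * algebraMap W W' t :=
      (IsLocalization.mk'_spec W' w t).symm
    rw [map_mul, map_mul, map_mul, ← IsScalarTower.algebraMap_apply V W W',
      ← IsScalarTower.algebraMap_apply V W W', IsScalarTower.algebraMap_apply V V' W',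
      IsScalarTower.algebraMap_apply V V' W' b, e1, e2, h]
    ring
  obtain ⟨c, hc⟩ := (IsLocalization.eq_iff_exists
    (Algebra.algebraMapSubmonoid W 𝔭.primeCompl) W').mp e
  obtain ⟨c₀, hc₀, hc₀c⟩ := c.2
  refine ⟨c₀ * s * t₀, c₀ * b, w, c₀ * s, t, ?_, ?_, ?_, (IsLocalization.mk'_spec W' w t).symm, ?_⟩
  · exact 𝔭.primeCompl.mul_mem (𝔭.primeCompl.mul_mem hc₀ s.2) ht₀
  · exact 𝔭.primeCompl.mul_mem hc₀ s.2
  · rw [map_mul, map_mul, ← mul_assoc, mul_comm _ (algebraMap V V' c₀), mul_assoc,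
      IsLocalization.mk'_spec]
  · rw [map_mul, map_mul, map_mul, hc₀c, ht₀t]
    linear_combination hc

/-- torsion-freeness modulo `𝔭 W`. -/
theorem mem_map_of_mul_mem (htf : TF V W) {a : V} (ha : a ∉ 𝔭) {w : W}
    (h : algebraMap V W a * w ∈ 𝔭.map (algebraMap V W)) : w ∈ 𝔭.map (algebraMap V W) := by
  have h1 := tf_quot (W := W) 𝔭 htf (Ideal.Quotient.mk 𝔭 a)
    (fun h0 => ha (Ideal.Quotient.eq_zero_iff_mem.mp h0))
    (Ideal.Quotient.mk _ w)
    (by rw [Ideal.Quotient.algebraMap_quotient_map_quotient, ← map_mul,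
          Ideal.Quotient.eq_zero_iff_mem]; exact h)
  exact Ideal.Quotient.eq_zero_iff_mem.mp h1

/-- **descent**: a prime of `V'` in `Σ(V', W')` restricts to a prime of `V` in `Σ(V, W)`. -/
theorem sig_comap [IsDomain V'] [ValuationRing V'] (htf : TF V W) (hS : Sig V W 𝔭)
    (𝔭₀ : Ideal V') [𝔭₀.IsPrime] (hS' : Sig V' W' 𝔭₀) :
    Sig V W (𝔭₀.comap (algebraMap V V')) := by
  intro x hx
  have hle : 𝔭₀.comap (algebraMap V V') ≤ 𝔭 := by
    intro b hb
    have : algebraMap V V' b ∈ maximalIdeal V' :=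
      IsLocalRing.le_maximalIdeal (Ideal.IsPrime.ne_top inferInstance) hb
    exact (IsLocalization.AtPrime.to_map_mem_maximal_iff V' 𝔭 b).mp this
  have hx' : algebraMap W W' x ∉ 𝔭₀.map (algebraMap V' W') := by
    intro hmem
    obtain ⟨b', hb', w', hw'⟩ := exists_mul_of_mem_map' 𝔭₀ hmem
    obtain ⟨r, b, w, s, t, hr, hs, hb, -, hrx⟩ := clear_denoms 𝔭 V' W' x b' w' hw'
    apply hx
    refine mem_map_of_mul_mem _ htf (fun hr' => hr (hle hr')) (a := r) ?_
    rw [hrx]
    refine Ideal.mul_mem_right _ _ (Ideal.mem_map_of_mem _ ?_)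
    rw [Ideal.mem_comap, hb]
    exact Ideal.mul_mem_right _ _ hb'
  obtain ⟨c', u', hxu⟩ := hS' _ hx'
  obtain ⟨r, b, w, s, t, hr, hs, hb, hw, hrx⟩ := clear_denoms 𝔭 V' W' x c' u' hxu
  have hwu : IsUnit (algebraMap W W' w) := by
    rw [hw]
    exact u'.isUnit.mul (IsLocalization.map_units W' t)
  have hwn : w ∉ 𝔭.map (algebraMap V W) := fun hmem =>
    not_isUnit_of_mem_JJ 𝔭 W' htf (Ideal.mem_map_of_mem _ hmem) hwu
  obtain ⟨c₂, u₂, rfl⟩ := hS w hwn
  refine G_of_G_smul htf (fun h0 => hr (h0 ▸ 𝔭.zero_mem)) (s := r) ⟨b * c₂, u₂, ?_⟩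
  rw [hrx, map_mul, mul_assoc]

include 𝔭 in
omit [IsLocalRing W] [IsLocalHom (algebraMap V W)] [Algebra.EssFiniteType V W] in
theorem comap_le' [IsDomain V'] [ValuationRing V'] (𝔭₀ : Ideal V') [𝔭₀.IsPrime] :
    𝔭₀.comap (algebraMap V V') ≤ 𝔭 := by
  intro b hb
  have : algebraMap V V' b ∈ maximalIdeal V' :=
    IsLocalRing.le_maximalIdeal (Ideal.IsPrime.ne_top inferInstance) hb
  exact (IsLocalization.AtPrime.to_map_mem_maximal_iff V' 𝔭 b).mp this

include 𝔭 in
omit [IsLocalRing W] [IsLocalHom (algebraMap V W)] [Algebra.EssFiniteType V W] in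
theorem comap_ne [IsDomain V'] [ValuationRing V'] (𝔭₀ : Ideal V')
    (hne : 𝔭₀ ≠ maximalIdeal V') : 𝔭₀.comap (algebraMap V V') ≠ 𝔭 := by
  intro h
  apply hne
  rw [← IsLocalization.map_under 𝔭.primeCompl V' 𝔭₀]
  change Ideal.map (algebraMap V V') (Ideal.comap (algebraMap V V') 𝔭₀) = _
  rw [h]
  exact IsLocalization.AtPrime.map_eq_maximalIdeal 𝔭 V'

end Loc

section Main

variable {V : Type u} [CommRing V] [IsDomain V] [ValuationRing V]
  {W : Type u} [CommRing W] [Algebra V W] [IsLocalRing W] [IsLocalHom (algebraMap V W)]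
  [Algebra.EssFiniteType V W]

theorem sig_maximalIdeal (hmax : MaxGen V W) : Sig V W (maximalIdeal V) := by
  intro x hx
  apply G_of_isUnit
  by_contra hu
  obtain ⟨m, hm, w', rfl⟩ := hmax x hu
  exact hx (Ideal.mul_mem_right _ _ (Ideal.mem_map_of_mem _ hm))

/-- **Main theorem**: a torsion-free local essentially finite type `V`-algebra `W` which is a
localization of a finite `V`-algebra and whose maximal ideal is generated by that of `V` is
weakly unramified: every nonzero element is `c · unit` with `c ∈ V`. -/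
theorem main (htf : TF V W) (hmax : MaxGen V W) (hfin : FinLoc V W) (x : W) (hx : x ≠ 0) :
    G V x := by
  classical
  let S : Set (Ideal V) := {𝔭 | 𝔭.IsPrime ∧ Sig V W 𝔭}
  have hSm : maximalIdeal V ∈ S := ⟨inferInstance, sig_maximalIdeal hmax⟩
  have hchain : IsChain (· ≤ ·) S := fun a _ b _ _ => le_total a b
  have hprime : (sInf S).IsPrime :=
    Ideal.sInf_isPrime_of_isChain ⟨_, hSm⟩ hchain (fun p hp => hp.1)
  haveI := hprime
  have hS1 : Sig V W (sInf S) := by
    by_cases hne : sInf S = maximalIdeal V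
    · rw [hne]; exact hSm.2
    intro y hy
    have hD : ¬ ∀ a : V, a ∉ sInf S → algebraMap V W a ∣ y := fun h =>
      hy (mem_map_of_forall_dvd (sInf S) htf hmax hne y h)
    push Not at hD
    obtain ⟨a, ha, hay⟩ := hD
    rw [Submodule.mem_sInf] at ha
    push Not at ha
    obtain ⟨𝔭, h𝔭S, ha𝔭⟩ := ha
    haveI := h𝔭S.1
    apply h𝔭S.2
    intro hmem
    obtain ⟨b, hb, w, rfl⟩ := exists_mul_of_mem_map' 𝔭 hmem
    rcases ValuationRing.dvd_total a b with ⟨c, rfl⟩ | ⟨c, rfl⟩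
    · exact hay (by rw [map_mul, mul_assoc]; exact dvd_mul_right _ _)
    · exact ha𝔭 (Ideal.mul_mem_right _ _ hb)
  have hbot : sInf S = ⊥ := by
    by_contra h0
    set 𝔭₁ := sInf S with h𝔭₁
    let V' := Localization.AtPrime 𝔭₁
    let W' := Localization (Algebra.algebraMapSubmonoid W 𝔭₁.primeCompl)
    haveI : IsDomain V' := isDomain_loc 𝔭₁ V'
    haveI : ValuationRing V' := valuationRing_loc 𝔭₁ V'
    haveI : IsLocalRing W' := isLocalRing_loc 𝔭₁ W' htf hS1
    haveI : IsLocalHom (algebraMap V' W') := isLocalHom_loc (W := W) 𝔭₁ V' W' htf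
    haveI : Algebra.EssFiniteType V' W' := essFiniteType_loc (W := W) 𝔭₁ V' W'
    obtain ⟨𝔭₀, h𝔭₀, hne, hS0⟩ := top_step (V := V') (W := W') (tf_loc 𝔭₁ V' W' htf)
      (maxGen_loc 𝔭₁ V' W' hS1) (finLoc_loc 𝔭₁ V' W' hfin) (maximalIdeal_loc_ne_bot 𝔭₁ V' h0)
    haveI := h𝔭₀
    have h2 : 𝔭₀.comap (algebraMap V V') ∈ S :=
      ⟨Ideal.comap_isPrime _ _, sig_comap 𝔭₁ V' W' htf hS1 𝔭₀ hS0⟩
    have h3 : 𝔭₁ ≤ 𝔭₀.comap (algebraMap V V') := sInf_le h2
    have h4 : 𝔭₀.comap (algebraMap V V') ≤ 𝔭₁ := comap_le' 𝔭₁ V' 𝔭₀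
    exact comap_ne 𝔭₁ V' 𝔭₀ hne (le_antisymm h4 h3)
  apply hS1
  rw [hbot, Ideal.map_bot]
  exact hx

end Main

end Groth.Agent.Lib.helper3.ValWU
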