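import Mathlib
import Groth.Agent.Lib.Helper3.ValWU4
/-!
# Weakly unramified local algebras over valuation rings, V: étale algebras (helper3)

* `finLoc_atPrime` : Zariski's main theorem ⇒ `FinLoc A B_m` for `B` of finite type, quasi-finite
  at `m`;
* `tf_of_flat`, `valuationRing_of_forall_G`;
* `etale_local` : for `B` étale over a valuation ring `A` and `m` over `𝔪_A`, `B_m` is a
  valuation ring, weakly unramified over `A`.
-/

set_option autoImplicit false
set_option linter.style.haveILetI false
set_option linter.unusedSectionVars false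
universe u

namespace Groth.Agent.Lib.helper3.ValWU

open IsLocalRing

/-- Zariski's main theorem gives `FinLoc`. -/
theorem finLoc_atPrime {A B : Type u} [CommRing A] [CommRing B] [Algebra A B]
    [Algebra.FiniteType A B] (m : Ideal B) [m.IsPrime] [Algebra.WeaklyQuasiFiniteAt A m] :
    FinLoc A (Localization.AtPrime m) := by
  obtain ⟨S', hfg, r, hr, hbij⟩ :=
    Algebra.QuasiFiniteAt.exists_fg_and_exists_notMem_and_awayMap_bijective (R := A) m
  have hsurj := Localization.awayMap_surjective_iff.mp hbij.2
  let φ : B →ₐ[A] Localization.AtPrime m := IsScalarTower.toAlgHom A B _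
  refine ⟨S'.map φ, ?_, fun w => ?_⟩
  · rw [Subalgebra.map_toSubmodule]; exact hfg.map _
  · obtain ⟨b, t, rfl⟩ := IsLocalization.exists_mk'_eq m.primeCompl w
    obtain ⟨y₁, n₁, h₁⟩ := hsurj b
    obtain ⟨y₂, n₂, h₂⟩ := hsurj t
    have h₁' : (y₁ : B) = (r : B) ^ n₁ * b := h₁
    have h₂' : (y₂ : B) = (r : B) ^ n₂ * t := h₂
    refine ⟨φ (y₁ * r ^ n₂ : S'), ⟨_, (y₁ * r ^ n₂ : S').2, rfl⟩,
      φ (y₂ * r ^ n₁ : S'), ⟨_, (y₂ * r ^ n₁ : S').2, rfl⟩, ?_, ?_⟩
    · have hmem : ((y₂ * r ^ n₁ : S') : B) ∈ m.primeCompl := by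
        change ((y₂ * r ^ n₁ : S') : B) ∉ m
        push_cast
        rw [h₂']
        intro hcon
        rcases Ideal.IsPrime.mem_or_mem inferInstance hcon with h | h
        · rcases Ideal.IsPrime.mem_or_mem inferInstance h with h | h
          · exact hr (Ideal.IsPrime.mem_of_pow_mem inferInstance _ h)
          · exact t.2 h
        · exact hr (Ideal.IsPrime.mem_of_pow_mem inferInstance _ h)
      exact IsLocalization.map_units (Localization.AtPrime m) ⟨_, hmem⟩
    · have e1 : ((y₂ * r ^ n₁ : S') : B) = (r : B) ^ n₂ * t * (r : B) ^ n₁ := by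
        push_cast; rw [h₂']
      have e2 : ((y₁ * r ^ n₂ : S') : B) = (r : B) ^ n₁ * b * (r : B) ^ n₂ := by
        push_cast; rw [h₁']
      change IsLocalization.mk' (Localization.AtPrime m) b t *
        algebraMap B (Localization.AtPrime m) ((y₂ * r ^ n₁ : S') : B) =
        algebraMap B (Localization.AtPrime m) ((y₁ * r ^ n₂ : S') : B)
      rw [e1, e2, mul_comm, IsLocalization.mul_mk'_eq_mk'_of_mul,
        IsLocalization.mk'_eq_iff_eq_mul, ← map_mul]
      congr 1
      ring

/-- `TF` from flatness. -/
theorem tf_of_flat {A W : Type u} [CommRing A] [IsDomain A] [CommRing W] [Algebra A W]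
    [Module.Flat A W] : TF A W := by
  intro a ha w hw
  rw [← Algebra.smul_def] at hw
  have hreg := Module.Flat.isSMulRegular_of_nonZeroDivisors (M := W)
    (mem_nonZeroDivisors_of_ne_zero ha)
  exact hreg (by simp only [hw, smul_zero])

/-- consequences of `main`. -/
theorem valuationRing_of_forall_G {V : Type u} [CommRing V] [IsDomain V] [ValuationRing V]
    {W : Type u} [CommRing W] [IsDomain W] [Algebra V W] (h : ∀ x : W, x ≠ 0 → G V x) :
    ValuationRing W := by
  refine ValuationRing.iff_dvd_total.mpr ⟨fun x y => ?_⟩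
  by_cases hx : x = 0
  · right; rw [hx]; exact dvd_zero _
  by_cases hy : y = 0
  · left; rw [hy]; exact dvd_zero _
  obtain ⟨c, u, rfl⟩ := h x hx
  obtain ⟨d, v, rfl⟩ := h y hy
  rcases ValuationRing.dvd_total c d with ⟨e, rfl⟩ | ⟨e, rfl⟩
  · left
    refine ⟨algebraMap V W e * ↑u⁻¹ * v, ?_⟩
    rw [map_mul]
    calc algebraMap V W c * algebraMap V W e * ↑v
        = algebraMap V W c * algebraMap V W e * (↑u * ↑u⁻¹) * ↑v := by
          rw [Units.mul_inv, mul_one]
      _ = _ := by ring
  · right
    refine ⟨algebraMap V W e * ↑v⁻¹ * u, ?_⟩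
    rw [map_mul]
    calc algebraMap V W d * algebraMap V W e * ↑u
        = algebraMap V W d * algebraMap V W e * (↑v * ↑v⁻¹) * ↑u := by
          rw [Units.mul_inv, mul_one]
      _ = _ := by ring

theorem etale_local (A B : Type u) [CommRing A] [IsDomain A] [ValuationRing A]
    [CommRing B] [Algebra A B] [Algebra.Etale A B] (m : Ideal B) [m.IsPrime]
    (hm : m.comap (algebraMap A B) = IsLocalRing.maximalIdeal A) :
    IsDomain (Localization.AtPrime m) ∧
    (∀ _ : IsDomain (Localization.AtPrime m), ValuationRing (Localization.AtPrime m)) ∧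
    Function.Injective (algebraMap A (Localization.AtPrime m)) ∧
    IsLocalHom (algebraMap A (Localization.AtPrime m)) ∧
    ∀ b : Localization.AtPrime m, b ≠ 0 → ∃ (a : A) (u : (Localization.AtPrime m)ˣ),
      b = u * algebraMap A (Localization.AtPrime m) a := by
  haveI hloc : IsLocalHom (algebraMap A (Localization.AtPrime m)) := by
    refine ⟨fun a ha => ?_⟩
    by_contra hnu
    have h1 : a ∈ maximalIdeal A := (mem_maximalIdeal a).mpr (mem_nonunits_iff.mpr hnu)
    rw [← hm, Ideal.mem_comap] at h1
    have h2 := (IsLocalization.AtPrime.to_map_mem_maximal_iff (Localization.AtPrime m) m _).mpr h1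
    rw [← IsScalarTower.algebraMap_apply] at h2
    exact (mem_nonunits_iff.mp ((mem_maximalIdeal _).mp h2)) ha
  haveI : Algebra.FiniteType A B := inferInstance
  haveI : Algebra.EssFiniteType B (Localization.AtPrime m) :=
    Algebra.EssFiniteType.of_isLocalization _ m.primeCompl
  haveI : Algebra.EssFiniteType A (Localization.AtPrime m) := Algebra.EssFiniteType.comp A B _
  haveI : Algebra.FormallyUnramified B (Localization.AtPrime m) :=
    Algebra.FormallyUnramified.of_isLocalization m.primeCompl
  haveI : Algebra.FormallyUnramified A (Localization.AtPrime m) :=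
    Algebra.FormallyUnramified.comp A B _
  haveI : Algebra.QuasiFiniteAt A m := (inferInstance : Algebra.QuasiFinite A (Localization.AtPrime m))
  haveI : Module.Flat B (Localization.AtPrime m) := IsLocalization.flat _ m.primeCompl
  haveI : Module.Flat A (Localization.AtPrime m) := Module.Flat.trans A B _
  have htf : TF A (Localization.AtPrime m) := tf_of_flat
  have hmax : MaxGen A (Localization.AtPrime m) := by
    intro w hw
    have h1 : w ∈ maximalIdeal (Localization.AtPrime m) :=
      (mem_maximalIdeal w).mpr (mem_nonunits_iff.mpr hw)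
    rw [← Algebra.FormallyUnramified.map_maximalIdeal (R := A)] at h1
    exact exists_mul_of_mem_map' _ h1
  have hfin : FinLoc A (Localization.AtPrime m) := finLoc_atPrime m
  have hG := main htf hmax hfin
  have hdom : IsDomain (Localization.AtPrime m) := isDomain htf hmax
  refine ⟨hdom, fun _ => valuationRing_of_forall_G hG, algebraMap_injective htf, hloc, ?_⟩
  intro b hb
  obtain ⟨c, u, rfl⟩ := hG b hb
  exact ⟨c, u, mul_comm _ _⟩

end Groth.Agent.Lib.helper3.ValWU
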