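import Mathlib
import Groth.Agent.Lib.Helper3.ValWU5
/-!
# Weakly unramified local algebras over valuation rings, VI: smooth algebras (helper3)

* Gauss valuation ring `V[T₁..Tₙ]_{𝔪V[T]}`: `exists_eq_C_mul_primitive`, `gauss_G`,
  `valuationRing_gauss`, `isDomain_gauss`;
* `finLoc_of_tower`, `comap_eq_map_of_minimal` (going down for flat maps);
* `smooth_core` : `B` étale over `V[T₁..Tₙ]`, a domain, `p'` minimal over `𝔪B` ⇒ `B_{p'}` is a
  valuation ring weakly unramified over `V`;
* `transfer`, `smooth_local` : the same for a smooth `V`-algebra domain `A` (= S14726).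
-/

set_option autoImplicit false
set_option linter.style.haveILetI false
set_option linter.unusedSectionVars false
universe u

namespace Groth.Agent.Lib.helper3.ValWU

open IsLocalRing

section Gauss

variable {V : Type u} [CommRing V] [IsDomain V] [ValuationRing V] {σ : Type*}

theorem isPrime_map_C' {S : Type*} [CommRing S] {σ : Type*} (q : Ideal S) [q.IsPrime] :
    (q.map (MvPolynomial.C : S →+* MvPolynomial σ S)).IsPrime := by
  rw [← Ideal.Quotient.isDomain_iff_prime]
  exact MulEquiv.isDomain (MvPolynomial σ (S ⧸ q))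
    (MvPolynomial.quotientEquivQuotientMvPolynomial q).symm.toMulEquiv

/-- content decomposition over a valuation ring. -/
theorem exists_eq_C_mul_primitive (g : MvPolynomial σ V) (hg : g ≠ 0) :
    ∃ (c : V) (g₀ : MvPolynomial σ V), c ≠ 0 ∧ g = MvPolynomial.C c * g₀ ∧
      g₀ ∉ (maximalIdeal V).map (MvPolynomial.C : V →+* MvPolynomial σ V) := by
  classical
  have hne : g.support.Nonempty := MvPolynomial.support_nonempty.mpr hg  -- check
  obtain ⟨j, hj, hdvd⟩ := Groth.Agent.Lib.helper3.ValFp.exists_dvd_all g.support hne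
    (fun i => g.coeff i)
  choose! μ hμ using hdvd
  have hc0 : g.coeff j ≠ 0 := MvPolynomial.mem_support_iff.mp hj
  refine ⟨g.coeff j, ∑ i ∈ g.support, MvPolynomial.monomial i (μ i), hc0, ?_, ?_⟩
  · rw [Finset.mul_sum]
    conv_lhs => rw [← MvPolynomial.support_sum_monomial_coeff g]
    refine Finset.sum_congr rfl fun i hi => ?_
    rw [MvPolynomial.C_mul_monomial, ← hμ i hi]
  · rw [MvPolynomial.mem_map_C_iff]
    intro hall
    have h1 := hall j
    rw [MvPolynomial.coeff_sum] at h1
    simp only [MvPolynomial.coeff_monomial] at h1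
    rw [Finset.sum_ite_eq' g.support j, if_pos hj] at h1
    have h2 : g.coeff j * 1 = g.coeff j * μ j := by rw [mul_one]; exact hμ j hj
    have h3 := mul_left_cancel₀ hc0 h2
    rw [← h3] at h1
    exact (mem_nonunits_iff.mp ((mem_maximalIdeal _).mp h1)) isUnit_one

end Gauss

section GaussLoc

variable {V : Type u} [CommRing V] [IsDomain V] [ValuationRing V] {σ : Type*}

instance isPrime_map_maximalIdeal :
    ((maximalIdeal V).map (algebraMap V (MvPolynomial σ V))).IsPrime := by
  rw [MvPolynomial.algebraMap_eq]; exact isPrime_map_C' _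

variable (V₁ : Type u) [CommRing V₁] [Algebra (MvPolynomial σ V) V₁]
  [IsLocalization.AtPrime V₁ ((maximalIdeal V).map (algebraMap V (MvPolynomial σ V)))]
  [Algebra V V₁] [IsScalarTower V (MvPolynomial σ V) V₁]

include V σ in
theorem isDomain_gauss : IsDomain V₁ :=
  IsLocalization.isDomain_of_le_nonZeroDivisors (M :=
    ((maximalIdeal V).map (algebraMap V (MvPolynomial σ V))).primeCompl) V₁
    (Ideal.primeCompl_le_nonZeroDivisors _)

include V σ in
/-- every nonzero element of the Gauss localization is `c · unit`. -/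
theorem gauss_G (x : V₁) (hx : x ≠ 0) : G V x := by
  obtain ⟨g, s, rfl⟩ := IsLocalization.exists_mk'_eq
    ((maximalIdeal V).map (algebraMap V (MvPolynomial σ V))).primeCompl x
  have hg : g ≠ 0 := by rintro rfl; exact hx (IsLocalization.mk'_zero _)
  obtain ⟨c, g₀, hc, rfl, hg₀⟩ := exists_eq_C_mul_primitive g hg
  rw [← MvPolynomial.algebraMap_eq] at hg₀
  have hu : IsUnit (IsLocalization.mk' V₁ g₀ s) :=
    (IsLocalization.AtPrime.isUnit_mk'_iff V₁ _ g₀ s).mpr hg₀
  refine ⟨c, hu.unit, ?_⟩
  rw [IsUnit.unit_spec, ← IsLocalization.mul_mk'_eq_mk'_of_mul, ← MvPolynomial.algebraMap_eq,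
    ← IsScalarTower.algebraMap_apply]

include V σ in
theorem valuationRing_gauss [IsDomain V₁] : ValuationRing V₁ :=
  valuationRing_of_forall_G (V := V) (gauss_G (σ := σ) V₁)

end GaussLoc

theorem finLoc_of_tower {P V₁ W : Type u} [CommRing P] [CommRing V₁] [CommRing W]
    [Algebra P V₁] [Algebra P W] [Algebra V₁ W] [IsScalarTower P V₁ W] (h : FinLoc P W) :
    FinLoc V₁ W := by
  classical
  obtain ⟨C, hfg, hC⟩ := h
  let C' : Subalgebra V₁ W := Algebra.adjoin V₁ (C : Set W)
  have hsub : ∀ c ∈ C, c ∈ C' := fun c hc => Algebra.subset_adjoin hc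
  refine ⟨C', ?_, fun w => ?_⟩
  · have h1 : Subalgebra.toSubmodule C' = Submodule.span V₁ (C : Set W) := by
      rw [Algebra.adjoin_eq_span]
      congr 1
      exact congrArg _ (Submonoid.closure_eq C.toSubmonoid)
    obtain ⟨gens, hgens⟩ := hfg
    have h2 : (C : Set W) = ((Submodule.span P (gens : Set W) : Submodule P W) : Set W) := by
      rw [hgens]; rfl
    rw [h1, h2, Submodule.span_span_of_tower]
    exact ⟨gens, rfl⟩
  · obtain ⟨y, hy, s, hs, hsu, hws⟩ := hC w
    exact ⟨y, hsub y hy, s, hsub s hs, hsu, hws⟩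

theorem comap_eq_map_of_minimal {V P B : Type*} [CommRing V] [CommRing P] [CommRing B]
    [Algebra V P] [Algebra V B] [Algebra P B] [IsScalarTower V P B] [Module.Flat P B]
    (I : Ideal V) [hI : (I.map (algebraMap V P)).IsPrime] (p' : Ideal B) [p'.IsPrime]
    (hp' : p' ∈ (I.map (algebraMap V B)).minimalPrimes) :
    p'.comap (algebraMap P B) = I.map (algebraMap V P) := by
  have hle : I.map (algebraMap V P) ≤ p'.comap (algebraMap P B) := by
    rw [Ideal.map_le_iff_le_comap, Ideal.comap_comap, ← IsScalarTower.algebraMap_eq]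
    exact Ideal.map_le_iff_le_comap.mp hp'.1.2
  haveI : p'.LiesOver (p'.comap (algebraMap P B)) := ⟨rfl⟩
  obtain ⟨P₁, hP₁le, hP₁prime, hP₁lo⟩ := Ideal.exists_ideal_le_liesOver_of_le
    (p := I.map (algebraMap V P)) (q := p'.comap (algebraMap P B)) p' hle
  have h1 : I.map (algebraMap V B) ≤ P₁ := by
    rw [IsScalarTower.algebraMap_eq V P B, ← Ideal.map_map, Ideal.map_le_iff_le_comap]
    exact hP₁lo.over.le
  have h2 : p' ≤ P₁ := hp'.2 ⟨hP₁prime, h1⟩ hP₁le
  have h3 : P₁ = p' := le_antisymm hP₁le h2
  rw [← h3]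
  exact hP₁lo.over.symm

section Core

variable {V : Type u} [CommRing V] [IsDomain V] [ValuationRing V] (n : ℕ)
    (B : Type u) [CommRing B] [IsDomain B] [Algebra V B] [Algebra (MvPolynomial (Fin n) V) B]
    [IsScalarTower V (MvPolynomial (Fin n) V) B] [Algebra.Etale (MvPolynomial (Fin n) V) B]
    (p' : Ideal B) [p'.IsPrime]

include n in
set_option maxHeartbeats 1600000 in
theorem smooth_core (hp' : p' ∈ ((maximalIdeal V).map (algebraMap V B)).minimalPrimes) :
    ValuationRing (Localization.AtPrime p') ∧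
    Function.Injective (algebraMap V (Localization.AtPrime p')) ∧
    IsLocalHom (algebraMap V (Localization.AtPrime p')) ∧
    ∀ x : Localization.AtPrime p', x ≠ 0 → G V x := by
  classical
  let P := MvPolynomial (Fin n) V
  let W := Localization.AtPrime p'
  let 𝔮 : Ideal P := (maximalIdeal V).map (algebraMap V P)
  have hq : p'.comap (algebraMap P B) = 𝔮 := comap_eq_map_of_minimal (maximalIdeal V) p' hp'
  let V₁ := Localization.AtPrime 𝔮
  haveI : IsDomain V₁ := isDomain_gauss (V := V) (σ := Fin n) V₁
  haveI : ValuationRing V₁ := valuationRing_gauss (V := V) (σ := Fin n) V₁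
  have hunit : ∀ y : 𝔮.primeCompl, IsUnit (algebraMap P W y) := by
    intro y
    rw [IsScalarTower.algebraMap_apply P B W]
    refine IsLocalization.map_units W (⟨algebraMap P B y, ?_⟩ : p'.primeCompl)
    intro hmem
    exact y.2 (hq.le (Ideal.mem_comap.mpr hmem))
  let ψ : V₁ →+* W := IsLocalization.lift hunit
  letI : Algebra V₁ W := ψ.toAlgebra
  haveI : IsScalarTower P V₁ W :=
    IsScalarTower.of_algebraMap_eq' (IsLocalization.lift_comp hunit).symm
  haveI : IsScalarTower V V₁ W := by
    refine IsScalarTower.of_algebraMap_eq' ?_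
    rw [IsScalarTower.algebraMap_eq V P W, IsScalarTower.algebraMap_eq P V₁ W,
      RingHom.comp_assoc, ← IsScalarTower.algebraMap_eq V P V₁]
  haveI hlocV : IsLocalHom (algebraMap V W) := by
    refine ⟨fun a ha => ?_⟩
    by_contra hnu
    have h1 : a ∈ maximalIdeal V := (mem_maximalIdeal a).mpr (mem_nonunits_iff.mpr hnu)
    have h2 : algebraMap V B a ∈ p' := hp'.1.2 (Ideal.mem_map_of_mem _ h1)
    have h3 := (IsLocalization.AtPrime.to_map_mem_maximal_iff W p' _).mpr h2
    rw [← IsScalarTower.algebraMap_apply] at h3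
    exact (mem_nonunits_iff.mp ((mem_maximalIdeal _).mp h3)) ha
  haveI hloc : IsLocalHom (algebraMap V₁ W) := by
    refine ⟨fun x hx => ?_⟩
    obtain ⟨g, s, rfl⟩ := IsLocalization.exists_mk'_eq 𝔮.primeCompl x
    rw [IsLocalization.AtPrime.isUnit_mk'_iff V₁ 𝔮]
    intro hg
    have h1 : algebraMap V₁ W (IsLocalization.mk' V₁ g s) * algebraMap V₁ W (algebraMap P V₁ s) =
        algebraMap V₁ W (algebraMap P V₁ g) := by rw [← map_mul, IsLocalization.mk'_spec]
    have h2 : algebraMap P B g ∈ p' := Ideal.mem_comap.mp (hq.ge hg)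
    have h3 := (IsLocalization.AtPrime.to_map_mem_maximal_iff W p' _).mpr h2
    rw [← IsScalarTower.algebraMap_apply P B W, IsScalarTower.algebraMap_apply P V₁ W] at h3
    have h4 : IsUnit (algebraMap V₁ W (algebraMap P V₁ s)) :=
      (IsLocalization.map_units V₁ s).map _
    exact (mem_nonunits_iff.mp ((mem_maximalIdeal _).mp h3)) (h1 ▸ hx.mul h4)
  haveI : Algebra.EssFiniteType P W := Algebra.EssFiniteType.comp P B W
  haveI : Algebra.EssFiniteType V₁ W := Algebra.EssFiniteType.of_comp P V₁ W
  haveI : Algebra.FormallyUnramified P W := Algebra.FormallyUnramified.comp P B W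
  haveI : Algebra.FormallyUnramified V₁ W := Algebra.FormallyUnramified.of_restrictScalars P V₁ W
  haveI : Algebra.QuasiFiniteAt P p' := (inferInstance : Algebra.QuasiFinite P W)
  haveI : Module.Flat V B := Module.Flat.trans V P B
  haveI : Module.Flat V W := Module.Flat.trans V B W
  have htfV : TF V W := tf_of_flat
  have hinjV : Function.Injective (algebraMap V W) := algebraMap_injective htfV
  have hG1 : ∀ x : V₁, x ≠ 0 → G V x := gauss_G (σ := Fin n) V₁
  have hinj1 : Function.Injective (algebraMap V₁ W) := by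
    rw [injective_iff_map_eq_zero]
    intro x hx
    by_contra hne
    obtain ⟨c, u, rfl⟩ := hG1 x hne
    rw [map_mul, ← IsScalarTower.algebraMap_apply] at hx
    have hc : c ≠ 0 := by rintro rfl; exact hne (by rw [map_zero, zero_mul])
    rcases mul_eq_zero.mp hx with h | h
    · exact hc (hinjV (h.trans (map_zero _).symm))
    · exact (u.isUnit.map (algebraMap V₁ W)).ne_zero h
  have htf : TF V₁ W := by
    intro a ha w hw
    rcases mul_eq_zero.mp hw with h | h
    · exact absurd (hinj1 (h.trans (map_zero _).symm)) ha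
    · exact h
  have hmax : MaxGen V₁ W := by
    intro w hw
    have h1 : w ∈ maximalIdeal W := (mem_maximalIdeal w).mpr (mem_nonunits_iff.mpr hw)
    rw [← Algebra.FormallyUnramified.map_maximalIdeal (R := V₁)] at h1
    exact exists_mul_of_mem_map' _ h1
  have hfin : FinLoc V₁ W := finLoc_of_tower (P := P) (finLoc_atPrime p')
  have hG := main htf hmax hfin
  have hGV : ∀ x : W, x ≠ 0 → G V x := by
    intro x hx
    obtain ⟨c₁, u, rfl⟩ := hG x hx
    have hc₁ : c₁ ≠ 0 := by rintro rfl; exact hx (by rw [map_zero, zero_mul])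
    obtain ⟨c, u₁, rfl⟩ := hG1 c₁ hc₁
    refine ⟨c, Units.map (algebraMap V₁ W).toMonoidHom u₁ * u, ?_⟩
    rw [map_mul, ← IsScalarTower.algebraMap_apply, Units.val_mul, mul_assoc]
    rfl
  exact ⟨valuationRing_of_forall_G hGV, hinjV, hlocV, hGV⟩

end Core

/-- transfer of the conclusions along an algebra isomorphism. -/
theorem transfer {V W W₂ : Type u} [CommRing V] [IsDomain V] [ValuationRing V] [CommRing W]
    [IsDomain W] [CommRing W₂] [IsDomain W₂] [Algebra V W] [Algebra V W₂] (e : W ≃ₐ[V] W₂)
    (h : ValuationRing W ∧ Function.Injective (algebraMap V W) ∧ IsLocalHom (algebraMap V W) ∧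
      ∀ x : W, x ≠ 0 → G V x) :
    ValuationRing W₂ ∧ Function.Injective (algebraMap V W₂) ∧ IsLocalHom (algebraMap V W₂) ∧
      ∀ x : W₂, x ≠ 0 → G V x := by
  obtain ⟨hval, hinj, hloc, hG⟩ := h
  refine ⟨?_, ?_, ?_, ?_⟩
  · exact Function.Surjective.valuationRing (e : W →+* W₂) e.surjective
  · intro a b hab
    apply hinj
    apply e.injective
    rw [e.commutes, e.commutes, hab]
  · refine ⟨fun a ha => ?_⟩
    have h1 : IsUnit (e.symm (algebraMap V W₂ a)) := ha.map e.symm
    rw [e.symm.commutes] at h1
    exact hloc.map_nonunit a h1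
  · intro x hx
    have hx' : e.symm x ≠ 0 := fun h0 => hx (by
      have := congrArg e h0
      rwa [e.apply_symm_apply, map_zero] at this)
    obtain ⟨c, u, hcu⟩ := hG _ hx'
    refine ⟨c, Units.map (e : W →* W₂) u, ?_⟩
    have := congrArg e hcu
    rw [e.apply_symm_apply, map_mul, e.commutes] at this
    rw [this]
    rfl

theorem smooth_local (V : Type u) [CommRing V] [IsDomain V] [ValuationRing V]
    (A : Type u) [CommRing A] [IsDomain A] [Algebra V A] [Algebra.Smooth V A]
    (p : Ideal A) [p.IsPrime]
    (hp : p ∈ ((maximalIdeal V).map (algebraMap V A)).minimalPrimes) :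
    ValuationRing (Localization.AtPrime p) ∧
      Function.Injective (algebraMap V (Localization.AtPrime p)) ∧
      IsLocalHom (algebraMap V (Localization.AtPrime p)) ∧
      ∀ x : Localization.AtPrime p, x ≠ 0 → G V x := by
  classical
  obtain ⟨f, hf, n, inst, htower, hse⟩ :=
    Algebra.IsSmoothAt.exists_isStandardEtale_mvPolynomial (R := V) (p := p)
  have hf0 : f ≠ 0 := fun h => hf (h ▸ p.zero_mem)
  haveI : IsDomain (Localization.Away f) :=
    IsLocalization.isDomain_localization (powers_le_nonZeroDivisors_of_noZeroDivisors hf0)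
  have hdisj : Disjoint (Submonoid.powers f : Set A) (p : Set A) :=
    (Ideal.disjoint_powers_iff_notMem_of_isPrime _).mpr hf
  let p' : Ideal (Localization.Away f) := p.map (algebraMap A (Localization.Away f))
  haveI hp'prime : p'.IsPrime :=
    IsLocalization.isPrime_of_isPrime_disjoint (.powers f) _ _ ‹_› hdisj
  have hcomap : p'.comap (algebraMap A (Localization.Away f)) = p :=
    IsLocalization.under_map_of_isPrime_disjoint (.powers f) _ ‹_› hdisj
  have hp' : p' ∈ ((maximalIdeal V).map (algebraMap V (Localization.Away f))).minimalPrimes := by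
    refine ⟨⟨hp'prime, ?_⟩, ?_⟩
    · rw [IsScalarTower.algebraMap_eq V A (Localization.Away f), ← Ideal.map_map]
      exact Ideal.map_mono hp.1.2
    · rintro Q ⟨hQ, hQle⟩ hQp'
      haveI := hQ
      have hQc : Q.comap (algebraMap A (Localization.Away f)) ≤ p := by
        rw [← hcomap]; exact Ideal.comap_mono hQp'
      have h1 : Q.comap (algebraMap A (Localization.Away f)) = p := by
        refine le_antisymm hQc (hp.2 ⟨Ideal.comap_isPrime _ _, ?_⟩ hQc)
        rw [← Ideal.map_le_iff_le_comap, Ideal.map_map, ← IsScalarTower.algebraMap_eq]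
        exact hQle
      have h2 := IsLocalization.map_under (.powers f) (Localization.Away f) Q
      change Ideal.map _ (Q.comap (algebraMap A (Localization.Away f))) = Q at h2
      rw [h1] at h2
      exact h2.le
  have hcore := smooth_core n (Localization.Away f) p' hp'
  haveI hWloc : IsLocalization.AtPrime (Localization.AtPrime p') p := by
    have := IsLocalization.isLocalization_isLocalization_atPrime_isLocalization
      (Submonoid.powers f) (Localization.AtPrime p') p'
    convert this using 2
    all_goals exact hcomap.symm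
  let e : Localization.AtPrime p' ≃ₐ[A] Localization.AtPrime p :=
    IsLocalization.algEquiv p.primeCompl _ _
  exact transfer (e.restrictScalars V) hcore

end Groth.Agent.Lib.helper3.ValWU
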