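import Mathlib
import Groth.Agent.Lib.Helper3.ValWU5
import Groth.Agent.Lib.Helper24.HensNormal
/-!
# (Strict) henselization of a valuation ring (helper3)

Uses helper24's construction of the (strict) henselization as a direct limit of local rings of
étale algebras, and `ValWU.etale_local`.

* `Concl A S` : `S` is a domain and every nonzero element is `unit * algebraMap a`;
* `concl_Hens`, `concl_SHens`, `concl_of_algEquiv`;
* `main` (= S1975).
-/

set_option autoImplicit false
set_option linter.style.haveILetI false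
set_option linter.unusedSectionVars false
universe u

namespace Groth.Agent.Lib.helper3.ValWUHens

open IsLocalRing Groth.Agent.Lib.helper3.ValWU Groth.Agent.Lib.Helper24.DirectLimitProps

/-- the conclusion of S1975 for a given `A`-algebra. -/
def Concl (A S : Type u) [CommRing A] [CommRing S] [Algebra A S] : Prop :=
  IsDomain S ∧ ∀ s : S, s ≠ 0 → ∃ (a : A) (u : Sˣ), s = u * algebraMap A S a

theorem concl_of_algEquiv {A S S' : Type u} [CommRing A] [CommRing S] [CommRing S'] [Algebra A S]
    [Algebra A S'] (e : S ≃ₐ[A] S') (h : Concl A S) : Concl A S' := by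
  obtain ⟨h1, h2⟩ := h
  refine ⟨e.symm.injective.isDomain e.symm.toRingHom, fun s hs => ?_⟩
  have hs' : e.symm s ≠ 0 := fun h0 => hs (by
    have := congrArg e h0
    rwa [e.apply_symm_apply, map_zero] at this)
  obtain ⟨a, u, hau⟩ := h2 _ hs'
  refine ⟨a, Units.map (e : S →* S') u, ?_⟩
  have := congrArg e hau
  rw [e.apply_symm_apply, map_mul, e.commutes] at this
  rw [this]
  rfl

section Strict

open Groth.Agent.Lib.Helper24.StrictHens Groth.Agent.Lib.Helper24.StrictHens.SIdx

variable {A : Type u} [CommRing A] [IsDomain A] [ValuationRing A] {Ω : Type u} [Field Ω]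
  [Algebra A Ω] [Algebra (ResidueField A) Ω] [IsScalarTower A (ResidueField A) Ω]

theorem comap_q_S (i : SIdx A Ω) : i.q.comap (algebraMap A i.C) = maximalIdeal A := by
  ext a
  rw [Ideal.mem_comap, mem_maximalIdeal, mem_nonunits_iff]
  constructor
  · intro h hu
    exact (Ideal.IsPrime.ne_top inferInstance) (Ideal.eq_top_of_isUnit_mem _ h (hu.map _))
  · intro h
    by_contra hq
    apply h
    have : IsUnit (algebraMap A i.G a) := by
      rw [IsScalarTower.algebraMap_apply A i.C i.G]
      exact (IsLocalization.AtPrime.isUnit_to_map_iff i.G i.q _).mpr hq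
    exact isUnit_of_map_unit (algebraMap A i.G) a this

theorem stage_S (i : SIdx A Ω) : Concl A i.G := by
  obtain ⟨h1, -, -, -, h5⟩ := etale_local A i.C i.q (comap_q_S i)
  exact ⟨h1, h5⟩

theorem concl_SHens : Concl A (SHens A Ω) := by
  refine ⟨isDomain_limit (fun i : SIdx A Ω => i.G) (fun i j h => trR A Ω i j h)
      (fun i => (stage_S i).1), fun z hz => ?_⟩
  obtain ⟨i, x, rfl⟩ := exists_ofS z
  have hx : x ≠ 0 := by rintro rfl; exact hz (map_zero _)
  obtain ⟨a, u, rfl⟩ := (stage_S i).2 x hx
  refine ⟨a, Units.map (ofS i : i.G →* SHens A Ω) u, ?_⟩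
  rw [map_mul, Groth.Agent.Lib.Helper24.StrictHens.algebraMap_eq i a]
  rfl

end Strict

section Hens

open Groth.Agent.Lib.helper24.Henselization Groth.Agent.Lib.helper24.Henselization.Idx

variable {A : Type u} [CommRing A] [IsDomain A] [ValuationRing A]

theorem comap_q_H (i : Idx A) : i.q.comap (algebraMap A i.C) = maximalIdeal A := by
  ext a
  rw [Ideal.mem_comap, mem_maximalIdeal, mem_nonunits_iff]
  constructor
  · intro h hu
    exact (Ideal.IsPrime.ne_top inferInstance) (Ideal.eq_top_of_isUnit_mem _ h (hu.map _))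
  · intro h
    by_contra hq
    apply h
    have : IsUnit (algebraMap A i.G a) := by
      rw [IsScalarTower.algebraMap_apply A i.C i.G]
      exact (IsLocalization.AtPrime.isUnit_to_map_iff i.G i.q _).mpr hq
    exact isUnit_of_map_unit (algebraMap A i.G) a this

theorem stage_H (i : Idx A) : Concl A i.G := by
  obtain ⟨h1, -, -, -, h5⟩ := etale_local A i.C i.q (comap_q_H i)
  exact ⟨h1, h5⟩

theorem concl_Hens : Concl A (Hens A) := by
  refine ⟨isDomain_limit (fun i : Idx A => i.G) (fun i j h => trR A i j h)
      (fun i => (stage_H i).1), fun z hz => ?_⟩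
  obtain ⟨i, x, rfl⟩ := exists_ofH z
  have hx : x ≠ 0 := by rintro rfl; exact hz (map_zero _)
  obtain ⟨a, u, rfl⟩ := (stage_H i).2 x hx
  refine ⟨a, Units.map (ofH i : i.G →* Hens A) u, ?_⟩
  rw [map_mul, Groth.Agent.Lib.helper24.Henselization.algebraMap_eq i a]
  rfl

end Hens

theorem main (A S : Type u) [CommRing A] [IsDomain A] [ValuationRing A] [CommRing S]
    [IsLocalRing S] [Algebra A S] [IsLocalHom (algebraMap A S)]
    (h : Hensel.IsHenselization A S ∨ Hensel.IsStrictHenselization A S) :
    IsDomain S ∧ (∀ _ : IsDomain S, ValuationRing S) ∧ Function.Injective (algebraMap A S) ∧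
      ∀ s : S, s ≠ 0 → ∃ (a : A) (u : Sˣ), s = u * algebraMap A S a := by
  have key : Concl A S ∧ Module.FaithfullyFlat A S := by
    rcases h with h | h
    · haveI := h
      obtain ⟨e⟩ := Groth.Agent.Lib.helper24.Henselization.exists_algEquiv A
        (Groth.Agent.Lib.helper24.Henselization.Hens A) S
      exact ⟨concl_of_algEquiv e concl_Hens,
        Groth.Agent.Lib.helper24.Henselization.faithfullyFlat_of_isHenselization A S⟩
    · haveI := h
      obtain ⟨e⟩ := Groth.Agent.Lib.Helper24.StrictHens.exists_algEquiv_SH A S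
      exact ⟨concl_of_algEquiv e concl_SHens,
        Groth.Agent.Lib.Helper24.StrictHens.faithfullyFlat_of_isStrictHenselization A S⟩
  obtain ⟨⟨hd, hG⟩, hff⟩ := key
  refine ⟨hd, fun _ => ?_, FaithfulSMul.algebraMap_injective A S, hG⟩
  refine valuationRing_of_forall_G (V := A) fun x hx => ?_
  obtain ⟨a, u, rfl⟩ := hG x hx
  exact ⟨a, u, mul_comm _ _⟩

end Groth.Agent.Lib.helper3.ValWUHens
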