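import Groth.Agent.Lib.Helper3.SchDomSC

/-!
# The reduced closed subscheme on the closure of the images of a family of geometrically reduced
schemes commutes with extension of the base field (helper3, EGA IV 11.10.7)
-/

set_option autoImplicit false
set_option linter.style.haveILetI false
set_option linter.unusedSectionVars false
universe u v
open CategoryTheory CategoryTheory.Limits AlgebraicGeometry TopologicalSpace Opposite TensorProduct

namespace Groth.Agent.Lib.helper3.VanBC

section Van

variable {X : Scheme.{u}} {ι : Type v} (Z : ι → Scheme.{u}) (f : ∀ i, Z i ⟶ X)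

/-- a section over an affine open which pulls back to zero on every member lies in the vanishing
ideal of the closure of the union of the images -/
theorem mem_vanishingIdeal_of_app_eq_zero (U : X.affineOpens) (s : Γ(X, U.1))
    (hs : ∀ i, (f i).app U.1 s = 0) :
    s ∈ (Scheme.IdealSheafData.vanishingIdeal
      (Closeds.closure (⋃ i, Set.range (f i)))).ideal U := by
  rw [Scheme.IdealSheafData.vanishingIdeal_ideal, PrimeSpectrum.mem_vanishingIdeal]
  intro x hx
  by_contra hsx
  have h1 : U.2.fromSpec x ∈ X.basicOpen s := by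
    have h2 : x ∈ U.2.fromSpec ⁻¹ᵁ X.basicOpen s := by
      rw [U.2.fromSpec_preimage_basicOpen s]
      exact hsx
    exact h2
  have hx' : U.2.fromSpec x ∈ closure (⋃ i, Set.range (f i)) := hx
  obtain ⟨y, hy1, hy2⟩ := mem_closure_iff.mp hx' (X.basicOpen s) (X.basicOpen s).isOpen h1
  obtain ⟨i, z, rfl⟩ := Set.mem_iUnion.mp hy2
  have h3 : z ∈ (f i) ⁻¹ᵁ X.basicOpen s := hy1
  rw [Scheme.preimage_basicOpen, hs i, Scheme.basicOpen_zero] at h3
  exact h3

/-- a section in the vanishing ideal of the closure of the union of the images pulls back to zero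
on every reduced member -/
theorem app_eq_zero_of_mem_vanishingIdeal (U : X.affineOpens) (s : Γ(X, U.1))
    (hs : s ∈ (Scheme.IdealSheafData.vanishingIdeal
      (Closeds.closure (⋃ i, Set.range (f i)))).ideal U) (i : ι) [IsReduced (Z i)] :
    (f i).app U.1 s = 0 := by
  rw [Scheme.IdealSheafData.vanishingIdeal_ideal, PrimeSpectrum.mem_vanishingIdeal] at hs
  rw [← basicOpen_eq_bot_iff, ← Scheme.preimage_basicOpen]
  refine le_bot_iff.mp (fun z hz => ?_)
  have hz' : f i z ∈ X.basicOpen s := hz
  have hzU : f i z ∈ (U.1 : Set X) := X.basicOpen_le s hz'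
  rw [← U.2.range_fromSpec] at hzU
  obtain ⟨x, hx⟩ := hzU
  have h1 : s ∈ x.asIdeal := by
    apply hs x
    change U.2.fromSpec x ∈ closure (⋃ i, Set.range (f i))
    rw [hx]
    exact subset_closure (Set.mem_iUnion.mpr ⟨i, z, rfl⟩)
  have h2 : x ∈ U.2.fromSpec ⁻¹ᵁ X.basicOpen s := by
    change U.2.fromSpec x ∈ X.basicOpen s
    rw [hx]
    exact hz'
  rw [U.2.fromSpec_preimage_basicOpen s] at h2
  exact (h2 h1).elim

end Van

theorem app_eq_zero_of_comp_eq {P Q R : Scheme.{u}} (a : P ⟶ Q) (b : Q ⟶ R) (c : P ⟶ R)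
    (h : a ≫ b = c) (U : R.Opens) (s : Γ(R, U))
    (h0 : (a.app (b ⁻¹ᵁ U)).hom ((b.app U).hom s) = 0) : (c.app U).hom s = 0 := by
  subst h
  rw [Scheme.Hom.comp_app]
  exact h0

section Sub

variable {X : Scheme.{u}} {ι : Type v} (Z : ι → Scheme.{u}) (f : ∀ i, Z i ⟶ X)

/-- the vanishing ideal sheaf of the closure of the union of the images -/
noncomputable abbrev vI : X.IdealSheafData :=
  Scheme.IdealSheafData.vanishingIdeal (Closeds.closure (⋃ i, Set.range (f i)))

variable [∀ i, IsReduced (Z i)]

theorem vI_le_ker (i : ι) : (vI Z f).subschemeι.ker ≤ (f i).ker := by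
  rw [Scheme.IdealSheafData.ker_subschemeι]
  refine Scheme.IdealSheafData.le_ofIdeals_iff.mpr (fun U s hs => ?_)
  exact app_eq_zero_of_mem_vanishingIdeal Z f U s hs i

/-- the members factor through the reduced closed subscheme -/
noncomputable def toSub (i : ι) : Z i ⟶ (vI Z f).subscheme :=
  IsClosedImmersion.lift (vI Z f).subschemeι (f i) (vI_le_ker Z f i)

theorem toSub_ι (i : ι) : toSub Z f i ≫ (vI Z f).subschemeι = f i :=
  IsClosedImmersion.lift_fac _ _ _

/-- the family of factorisations through the reduced closed subscheme is schematically dominant -/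
theorem schDominant_toSub (V : (vI Z f).subscheme.Opens) (t : Γ((vI Z f).subscheme, V))
    (ht : ∀ i, (toSub Z f i).app V t = 0) : t = 0 := by
  have hloc : ∀ y : V, ∃ (W : (vI Z f).subscheme.Opens) (hWV : W ≤ V), y.1 ∈ W ∧
      (vI Z f).subscheme.presheaf.map (homOfLE hWV).op t = 0 := by
    intro y
    obtain ⟨W₀, hW₀, hW₀V⟩ := (vI Z f).subschemeι.isEmbedding.isInducing.isOpen_iff.mp V.2
    have hyW₀ : (vI Z f).subschemeι y.1 ∈ W₀ := by
      have : y.1 ∈ (vI Z f).subschemeι ⁻¹' W₀ := by
        rw [hW₀V]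
        exact y.2
      exact this
    obtain ⟨U, hU, hyU, hUW₀⟩ := exists_isAffineOpen_mem_and_subset
      (x := (vI Z f).subschemeι y.1) (U := ⟨W₀, hW₀⟩) hyW₀
    have hle : (vI Z f).subschemeι ⁻¹ᵁ U ≤ V := by
      intro w hw
      have h1 : (vI Z f).subschemeι w ∈ W₀ := hUW₀ hw
      have h2 : w ∈ (vI Z f).subschemeι ⁻¹' W₀ := h1
      rw [hW₀V] at h2
      exact h2
    refine ⟨(vI Z f).subschemeι ⁻¹ᵁ U, hle, hyU, ?_⟩
    obtain ⟨s, hs⟩ := (vI Z f).subschemeι_app_surjective ⟨U, hU⟩
      ((vI Z f).subscheme.presheaf.map (homOfLE hle).op t)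
    have hs0 : s ∈ (vI Z f).ideal ⟨U, hU⟩ := by
      refine mem_vanishingIdeal_of_app_eq_zero Z f ⟨U, hU⟩ s (fun i => ?_)
      refine app_eq_zero_of_comp_eq (toSub Z f i) (vI Z f).subschemeι (f i) (toSub_ι Z f i) U s ?_
      have h4 : ((vI Z f).subschemeι.app U).hom s =
          (vI Z f).subscheme.presheaf.map (homOfLE hle).op t := hs
      rw [h4]
      have nat := (toSub Z f i).naturality (homOfLE hle).op
      have h5 := congr($(nat).hom t)
      simp only [CommRingCat.hom_comp, RingHom.comp_apply] at h5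
      refine h5.trans ?_
      have h6 : ((toSub Z f i).app V).hom t = 0 := ht i
      rw [h6, map_zero]
    rw [← (vI Z f).ker_subschemeι_app ⟨U, hU⟩] at hs0
    exact hs.symm.trans hs0
  choose W hWV hxW hW0 using hloc
  apply Groth.Agent.Lib.helper3.SchDomFP.eq_zero_of_cover W V hWV
  · intro y hy
    exact Opens.mem_iSup.mpr ⟨⟨y, hy⟩, hxW ⟨y, hy⟩⟩
  · intro x
    exact hW0 x

end Sub

theorem comp_app_eq_zero_of_eq {P Q R : Scheme.{u}} (a : P ⟶ Q) (b : Q ⟶ R) (c : P ⟶ R)
    (h : a ≫ b = c) (U : R.Opens) (s : Γ(R, U)) (h0 : (c.app U).hom s = 0) :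
    (a.app (b ⁻¹ᵁ U)).hom ((b.app U).hom s) = 0 := by
  subst h
  rw [Scheme.Hom.comp_app] at h0
  exact h0

section BC

open Groth.Agent.Lib.helper3.SchDomT5 Groth.Agent.Lib.helper3.SchDomSC

variable {k : Type u} [Field k] {X : Scheme.{u}} (p : X ⟶ Spec (CommRingCat.of k))
  {ι : Type v} (Z : ι → Scheme.{u}) (f : ∀ i, Z i ⟶ X) [∀ i, IsReduced (Z i)]
  {S' : Scheme.{u}} (q : S' ⟶ Spec (CommRingCat.of k))

/-- the base-changed members factor through the base change of the reduced closed subscheme -/
noncomputable def toSub' (i : ι) :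
    pullback (f i ≫ p) q ⟶ pullback (pullback.fst p q) (vI Z f).subschemeι :=
  pullback.lift (bcMap (f i) p q) (pullback.fst (f i ≫ p) q ≫ toSub Z f i) (by
    rw [bcMap_fst, Category.assoc, toSub_ι])

theorem toSub'_fst (i : ι) :
    toSub' p Z f q i ≫ pullback.fst (pullback.fst p q) (vI Z f).subschemeι = bcMap (f i) p q :=
  pullback.lift_fst _ _ _

theorem toSub'_snd (i : ι) :
    toSub' p Z f q i ≫ pullback.snd (pullback.fst p q) (vI Z f).subschemeι =
      pullback.fst (f i ≫ p) q ≫ toSub Z f i :=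
  pullback.lift_snd _ _ _

/-- the comparison isomorphism `Y ×_k S' ≅ X' ×_X Y` -/
noncomputable def cmpIso : pullback ((vI Z f).subschemeι ≫ p) q ≅
    pullback (pullback.fst p q) (vI Z f).subschemeι :=
  (pullbackRightPullbackFstIso p q (vI Z f).subschemeι).symm ≪≫
    pullbackSymmetry (vI Z f).subschemeι (pullback.fst p q)

theorem cmpIso_hom_fst_fst : (cmpIso p Z f q).hom ≫
    pullback.fst (pullback.fst p q) (vI Z f).subschemeι ≫ pullback.fst p q =
      pullback.fst _ _ ≫ (vI Z f).subschemeι := by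
  simp only [cmpIso, Iso.trans_hom, Iso.symm_hom, Category.assoc, pullbackSymmetry_hom_comp_fst_assoc,
    pullbackRightPullbackFstIso_inv_snd_fst]

theorem cmpIso_hom_fst_snd : (cmpIso p Z f q).hom ≫
    pullback.fst (pullback.fst p q) (vI Z f).subschemeι ≫ pullback.snd p q =
      pullback.snd _ _ := by
  simp only [cmpIso, Iso.trans_hom, Iso.symm_hom, Category.assoc, pullbackSymmetry_hom_comp_fst_assoc,
    pullbackRightPullbackFstIso_inv_snd_snd]

theorem cmpIso_hom_snd : (cmpIso p Z f q).hom ≫
    pullback.snd (pullback.fst p q) (vI Z f).subschemeι = pullback.fst _ _ := by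
  simp only [cmpIso, Iso.trans_hom, Iso.symm_hom, Category.assoc, pullbackSymmetry_hom_comp_snd,
    pullbackRightPullbackFstIso_inv_fst]

/-- **the base-changed factorisations form a schematically dominant family** (EGA IV 11.10.6) -/
theorem schDominant_toSub' (V : (pullback (pullback.fst p q) (vI Z f).subschemeι).Opens)
    (t : Γ(pullback (pullback.fst p q) (vI Z f).subschemeι, V))
    (ht : ∀ i, (toSub' p Z f q i).app V t = 0) : t = 0 := by
  have hc0 : ∀ i, (toSub Z f i ≫ (vI Z f).subschemeι ≫ p) ≫ 𝟙 _ = 𝟙 _ ≫ f i ≫ p := fun i => by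
    rw [Category.id_comp, Category.comp_id, ← Category.assoc, toSub_ι]
  refine schDom_of_iso
    (a := fun i => bcMap (toSub Z f i) ((vI Z f).subschemeι ≫ p) q)
    (a' := toSub' p Z f q) (cmpIso p Z f q).hom
    (fun i => pullback.map (toSub Z f i ≫ (vI Z f).subschemeι ≫ p) q (f i ≫ p) q (𝟙 _) (𝟙 _) (𝟙 _)
      (hc0 i) ((Category.comp_id _).trans (Category.id_comp _).symm)) (fun i => ?_)
    (Groth.Agent.Lib.helper3.SchDomField.schDominant_baseChange_field
      ((vI Z f).subschemeι ≫ p) q Z (toSub Z f) (schDominant_toSub Z f)) V t ht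
  apply pullback.hom_ext
  · apply pullback.hom_ext
    · simp only [Category.assoc, toSub'_fst, bcMap_fst, pullback.lift_fst_assoc, Category.comp_id,
        cmpIso_hom_fst_fst, toSub_ι]
    · simp only [Category.assoc, toSub'_fst, pullback.lift_snd, Category.comp_id,
        cmpIso_hom_fst_snd]
  · simp only [Category.assoc, toSub'_snd, pullback.lift_fst_assoc, Category.comp_id,
      cmpIso_hom_snd, bcMap_fst]

variable [∀ i, IsReduced (pullback (f i ≫ p) q)]

/-- **EGA IV 11.10.7**: over a field, the reduced closed subscheme on the closure of the union of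
the images of a family of (geometrically) reduced schemes commutes with base change. -/
theorem vanishingIdeal_baseChange :
    Scheme.IdealSheafData.vanishingIdeal
      (Closeds.closure (⋃ i, Set.range (bcMap (f i) p q))) =
      (vI Z f).comap (pullback.fst p q) := by
  apply le_antisymm
  · rw [Scheme.IdealSheafData.comap]
    refine Scheme.IdealSheafData.le_ofIdeals_iff.mpr (fun U s hs => ?_)
    have h1 : ∀ i, ((bcMap (f i) p q).app U.1).hom s = 0 := fun i =>
      app_eq_zero_of_mem_vanishingIdeal (fun i => pullback (f i ≫ p) q)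
        (fun i => bcMap (f i) p q) U s hs i
    refine schDominant_toSub' p Z f q _ _ (fun i => ?_)
    exact comp_app_eq_zero_of_eq (toSub' p Z f q i)
      (pullback.fst (pullback.fst p q) (vI Z f).subschemeι) (bcMap (f i) p q)
      (toSub'_fst p Z f q i) U.1 s (h1 i)
  · intro U s hs
    have h0 : ((pullback.fst (pullback.fst p q) (vI Z f).subschemeι).app U.1).hom s = 0 :=
      Scheme.Hom.ideal_ker_le _ U hs
    refine mem_vanishingIdeal_of_app_eq_zero (fun i => pullback (f i ≫ p) q)
      (fun i => bcMap (f i) p q) U s (fun i => ?_)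
    refine app_eq_zero_of_comp_eq (toSub' p Z f q i)
      (pullback.fst (pullback.fst p q) (vI Z f).subschemeι) (bcMap (f i) p q)
      (toSub'_fst p Z f q i) U.1 s ?_
    rw [h0, map_zero]

end BC

end Groth.Agent.Lib.helper3.VanBC
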