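import Mathlib
import Groth.Agent.Lib.Helper3.HorizPrime11
import Groth.Agent.Lib.Helper3.DimFibre
import Groth.Agent.Lib.Helper3.SecCompDim2
import Groth.Agent.Lib.Helper3.DimIneqSch
import Groth.Agent.Lib.Helper3.DimIneqSch2
import Groth.Agent.Lib.Helper5.FibreDimGE
import Groth.Agent.Lib.Helper11.LfpNhd
/-!
# A locally principal closed subscheme with empty generic fibre is vertical (helper3; = S1387)
-/

set_option autoImplicit false
set_option linter.style.haveILetI false
set_option linter.unusedSectionVars false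
universe u
open CategoryTheory AlgebraicGeometry Function TopologicalSpace Topology

namespace Groth.Agent.Lib.helper3.VertDiv

open Groth.Agent.Lib.helper3.DimIneq Groth.Agent.Lib.helper3.HorizPrime
  Groth.Agent.Lib.helper3.FibreParam Groth.Agent.Lib.helper3.DimFibre

theorem closure_singleton_mem_irreducibleComponents {T : Type*} [TopologicalSpace T]
    [QuasiSober T] (y : T) (h : ∀ y' : T, y' ⤳ y → y' = y) :
    closure ({y} : Set T) ∈ irreducibleComponents T := by
  refine ⟨isIrreducible_singleton.closure, ?_⟩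
  intro t ht hle
  have hirr : IsIrreducible (closure t) := ht.closure
  obtain ⟨y', hy'⟩ := QuasiSober.sober hirr isClosed_closure
  have hy'y : y' ⤳ y := by
    rw [specializes_iff_mem_closure, hy'.def]
    exact subset_closure (hle (subset_closure rfl))
  have := h y' hy'y
  subst this
  rw [hy'.def]
  exact subset_closure

theorem main {X S : Scheme.{u}} (f : X ⟶ S) [IrreducibleSpace ↑S] [IrreducibleSpace ↑X]
    [IsDominant f] [LocallyOfFiniteType f]
    (s : S) (hdim : topologicalKrullDim ↑(f.fiber s) ≤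
      topologicalKrullDim ↑(f.fiber (genericPoint ↑S)))
    (Z : X.IdealSheafData) (hZ : ∀ x : X, ∃ (U : X.Opens) (hU : IsAffineOpen U) (g : Γ(X, U)),
      x ∈ U ∧ Z.ideal ⟨U, hU⟩ = Ideal.span {g})
    (hη : ∀ x ∈ (Z.support : Set ↑X), f x ≠ genericPoint ↑S) :
    ∀ x : ↑(f ⁻¹' {s}), (x : ↑X) ∈ (Z.support : Set ↑X) →
      ∃ C ∈ irreducibleComponents ↑(f ⁻¹' {s}), x ∈ C ∧
        Subtype.val '' C ⊆ (Z.support : Set ↑X) := by
  intro x hxZ
  set ξ := genericPoint X with hξdef
  have hξ : ∀ z : X, ξ ⤳ z := fun z => (genericPoint_spec X).specializes (Set.mem_univ z)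
  have hfξ : f ξ = genericPoint S := by
    have h1 : IsGenericPoint (f ξ) (Set.univ : Set S) := by
      rw [isGenericPoint_def]
      apply Set.eq_univ_of_univ_subset
      rw [← f.denseRange.closure_range]
      apply closure_minimal _ isClosed_closure
      rintro _ ⟨z, rfl⟩
      exact ((hξ z).map f.continuous).mem_closure
    exact ((genericPoint_spec S).eq h1).symm
  obtain ⟨n, hn⟩ := exists_nat_td_residueFieldMap f ξ
  have hdimη : topologicalKrullDim (f.fiber (genericPoint S)) = n := by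
    have := dim_fiber_generic f ξ hξ n hn
    rw [hfξ] at this
    exact this
  have hbound : ∀ (y : X) (a : ℕ), f y = s → td (f.residueFieldMap y).hom = a → a ≤ n := by
    intro y a hy ha
    have h1 := Groth.Agent.Lib.helper5.FibreDimGE.le_dim_fiber_of_td f y a ha
    rw [hy] at h1
    have h2 := h1.trans (hdim.trans_eq hdimη)
    exact_mod_cast h2
  choose tdn htdn using fun y : X => exists_nat_td_residueFieldMap f y
  set 𝒴 : Set X := {y | y ⤳ x.1 ∧ f y = s ∧ y ∈ (Z.support : Set X)} with h𝒴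
  have hx𝒴 : x.1 ∈ 𝒴 := ⟨specializes_rfl, x.2, hxZ⟩
  obtain ⟨y, hy𝒴, hymax⟩ : ∃ y ∈ 𝒴, ∀ z ∈ 𝒴, tdn z ≤ tdn y := by
    obtain ⟨y, hy, hmin⟩ := WellFounded.has_min
      (InvImage.wf (fun y : X => n - tdn y) Nat.lt_wfRel.wf) 𝒴 ⟨x.1, hx𝒴⟩
    refine ⟨y, hy, fun z hz => ?_⟩
    have h1 : ¬ (n - tdn z < n - tdn y) := hmin z hz
    have h2 := hbound z (tdn z) hz.2.1 (htdn z)
    have h3 := hbound y (tdn y) hy.2.1 (htdn y)
    omega
  obtain ⟨hyx, hys, hyZ⟩ := hy𝒴
  -- `y` has no proper generization in the fibre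
  have hgen : ∀ y' : X, f y' = s → y' ⤳ y → y' = y := by
    intro y' hy's hy'y
    by_contra hne
    have hlt := SecCompDim.td_lt_of_specializes_of_ne f y y' hy'y (hy's.trans hys.symm) hne
    rw [htdn y, htdn y'] at hlt
    have hlt' : tdn y < tdn y' := by exact_mod_cast hlt
    have hb := hbound y' (tdn y') hy's (htdn y')
    obtain ⟨U, hU, g, hyU, hZU⟩ := hZ y
    obtain ⟨_, ⟨V, hV : IsAffineOpen V, rfl⟩, hsV, -⟩ :=
      S.isBasis_affineOpens.exists_subset_of_mem_open (Set.mem_univ (f y)) isOpen_univ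
    obtain ⟨_, ⟨W, hW : IsAffineOpen W, rfl⟩, hyW, hWsub⟩ :=
      X.isBasis_affineOpens.exists_subset_of_mem_open
        (show y ∈ ((U ⊓ f ⁻¹ᵁ V : X.Opens) : Set X) from ⟨hyU, hsV⟩) (U ⊓ f ⁻¹ᵁ V).isOpen
    have hWU : W ≤ U := fun z hz => (hWsub hz).1
    have e : W ≤ f ⁻¹ᵁ V := fun z hz => (hWsub hz).2
    have hξW : ξ ∈ W := (hξ y).mem_open W.isOpen hyW
    set ψ := (f.appLE V W e).hom with hψ
    have hψft : ψ.FiniteType := LocallyOfFiniteType.finiteType_appLE f hV hW e
    have hcomap : ∀ (y : X) (hy : y ∈ W), (hW.primeIdealOf ⟨y, hy⟩).asIdeal.comap ψ =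
        (hV.primeIdealOf ⟨f y, e hy⟩).asIdeal := by
      intro y hy
      have := IsAffineOpen.comap_primeIdealOf_appLE (f := f) (x := y) V hV W hW e hy
      exact congrArg PrimeSpectrum.asIdeal this
    have hinjV : ∀ (s s' : S) (hs : s ∈ V) (hs' : s' ∈ V),
        (hV.primeIdealOf ⟨s, hs⟩).asIdeal = (hV.primeIdealOf ⟨s', hs'⟩).asIdeal → s = s' := by
      intro s s' hs hs' h
      have h4 : hV.primeIdealOf ⟨s, hs⟩ = hV.primeIdealOf ⟨s', hs'⟩ := PrimeSpectrum.ext h
      have h5 := congrArg hV.fromSpec h4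
      rw [hV.fromSpec_primeIdealOf, hV.fromSpec_primeIdealOf] at h5
      exact h5
    set gW : Γ(X, W) := (X.presheaf.map (homOfLE hWU).op).hom g with hgW
    have hZW : Z.ideal ⟨W, hW⟩ = Ideal.span {gW} := by
      have := Z.map_ideal (U := ⟨W, hW⟩) (V := ⟨U, hU⟩) hWU
      rw [← this, hZU, Ideal.map_span, Set.image_singleton]
      rfl
    have hsupp : ∀ (z : X) (hz : z ∈ W),
        z ∈ (Z.support : Set X) ↔ gW ∈ (hW.primeIdealOf ⟨z, hz⟩).asIdeal := by
      intro z hz
      rw [SetLike.mem_coe, Scheme.IdealSheafData.mem_support_iff_of_mem (U := ⟨W, hW⟩) hz,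
        Scheme.mem_zeroLocus_iff, hZW]
      constructor
      · intro h
        have := h gW (Ideal.subset_span rfl)
        rw [Groth.Agent.Lib.helper11.LfpNhd.mem_basicOpen_iff_notMem_primeIdealOf hW gW z hz,
          not_not] at this
        exact this
      · intro h a ha
        rw [SetLike.mem_coe, Ideal.mem_span_singleton'] at ha
        obtain ⟨c, rfl⟩ := ha
        rw [Groth.Agent.Lib.helper11.LfpNhd.mem_basicOpen_iff_notMem_primeIdealOf hW _ z hz,
          not_not]
        exact Ideal.mul_mem_left _ c h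
    set P₀ := (hW.primeIdealOf ⟨ξ, hξW⟩).asIdeal with hP₀
    set q := (hW.primeIdealOf ⟨y, hyW⟩).asIdeal with hq
    have hle : P₀ ≤ q := (specializes_iff_primeIdealOf_le hW ξ y hξW hyW).mp (hξ y)
    have hgq : gW ∈ q := (hsupp y hyW).mp hyZ
    have hn' : td (Ideal.quotientMap P₀ ψ le_rfl) = n := by
      rw [hP₀, td_quotientMap_eq f hV hW e ξ hξW]; exact hn
    obtain ⟨P, hPp, hP₀P, hPq, hgP, hPc⟩ :=
      exists_prime_horizontal_general ψ hψft P₀ q hle gW hgq n hn' (by
        intro Q hQp hP₀Q hQq hQc hgQ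
        haveI := hQp
        obtain ⟨z, hzW, hzQ⟩ := exists_point_of_prime hW Q
        have hzy : z ⤳ y := by
          rw [specializes_iff_primeIdealOf_le hW z y hzW hyW, hzQ]; exact hQq
        have hfz : f z = s := by
          rw [← hys]
          apply hinjV _ _ (e hzW) (e hyW)
          rw [← hcomap z hzW, ← hcomap y hyW, hzQ, hQc]
        have hzZ : z ∈ (Z.support : Set X) := (hsupp z hzW).mpr (hzQ ▸ hgQ)
        have hz𝒴 : z ∈ 𝒴 := ⟨hzy.trans hyx, hfz, hzZ⟩
        have h1 := hymax z hz𝒴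
        rw [← td_quotientMap_congr_prime _ _ _ hzQ, td_quotientMap_eq f hV hW e z hzW, htdn z]
        have : tdn z + 1 ≤ n := by omega
        exact_mod_cast this)
    haveI := hPp
    obtain ⟨z, hzW, hzP⟩ := exists_point_of_prime hW P
    have hzZ : z ∈ (Z.support : Set X) := (hsupp z hzW).mpr (hzP ▸ hgP)
    have hfz : f z = f ξ := by
      apply hinjV _ _ (e hzW) (e hξW)
      rw [← hcomap z hzW, ← hcomap ξ hξW, hzP, hPc]
    exact hη z hzZ (hfz.trans hfξ)
  haveI : QuasiSober ↑(f ⁻¹' {s}) := (f.fiberHomeo s).symm.isClosedEmbedding.quasiSober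
  set yF : ↑(f ⁻¹' {s}) := ⟨y, hys⟩ with hyF
  refine ⟨closure {yF}, closure_singleton_mem_irreducibleComponents yF ?_, ?_, ?_⟩
  · intro y' hy'
    have h1 : (y' : X) ⤳ y := (Topology.IsInducing.subtypeVal.specializes_iff).mpr hy'
    exact Subtype.ext (hgen y'.1 y'.2 h1)
  · rw [← specializes_iff_mem_closure]
    exact (Topology.IsInducing.subtypeVal.specializes_iff).mp hyx
  · rintro _ ⟨c, hc, rfl⟩
    have h1 : yF ⤳ c := specializes_iff_mem_closure.mpr hc
    have h2 : y ⤳ (c : X) := (Topology.IsInducing.subtypeVal.specializes_iff).mpr h1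
    exact h2.mem_closed Z.support.isClosed hyZ

end Groth.Agent.Lib.helper3.VertDiv
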