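import Mathlib
import Groth.Agent.Lib.Helper3.WEtaleSch
import Groth.Agent.S7127

/-! Weakly étale ring maps: localization at primes (both directions). -/

set_option autoImplicit false
universe u

namespace Groth.Agent.Lib.helper3.WEtaleLoc

open TensorProduct Groth.Agent.Lib.helper3 Groth.Agent.Lib.helper3.WEtaleSch

/-- (R1) weak étaleness passes to the local ring maps. -/
theorem Q_localRingHom {R S : Type u} [CommRing R] [CommRing S] (f : R →+* S) (hf : Q f)
    (J : Ideal S) (hJ : J.IsPrime) : Q (Localization.localRingHom _ J f rfl) := by
  unfold Q at hf ⊢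
  algebraize [f, Localization.localRingHom (Ideal.comap f J) J f rfl]
  have : IsScalarTower R (Localization.AtPrime (Ideal.comap f J)) (Localization.AtPrime J) :=
    .of_algebraMap_eq fun x ↦ (Localization.localRingHom_to_map _ _ _ rfl x).symm
  haveI h1 : Algebra.WeaklyEtale R S := hf
  haveI h2 : Algebra.WeaklyEtale R (Localization.AtPrime (Ideal.comap f J)) :=
    WEtale3.weaklyEtale_of_isLocalization (Ideal.comap f J).primeCompl
  haveI h3 : Algebra.WeaklyEtale S (Localization.AtPrime J) :=
    WEtale3.weaklyEtale_of_isLocalization J.primeCompl
  haveI h4 : Algebra.WeaklyEtale R (Localization.AtPrime J) :=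
    Algebra.WeaklyEtale.trans R S _
  exact Groth.Agent.S7127.result R (Localization.AtPrime (Ideal.comap f J))
    (Localization.AtPrime J)

/-- (R2) weak étaleness can be checked on the local ring maps. -/
theorem Q_ofLocalizationPrime : RingHom.OfLocalizationPrime @Q := by
  intro R S _ _ f H
  unfold Q
  algebraize [f]
  refine ⟨?_, ?_⟩
  · have h1 : f.Flat := RingHom.Flat.ofLocalizationPrime f (fun J hJ => by
      have h2 := H J hJ
      unfold Q at h2
      letI := (Localization.localRingHom (Ideal.comap f J) J f rfl).toAlgebra
      exact h2.flat)
    exact h1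
  · letI : Algebra (S ⊗[R] S) S :=
      (Algebra.TensorProduct.lmul' R (S := S)).toRingHom.toAlgebra
    show Module.Flat (S ⊗[R] S) S
    apply Module.flat_of_isLocalized_maximal S S (fun P _ ↦ Localization.AtPrime P)
      (fun P _ ↦ Algebra.linearMap S _)
    intro P hP
    haveI : P.IsPrime := hP.isPrime
    have HP := H P inferInstance
    unfold Q at HP
    algebraize [Localization.localRingHom (Ideal.comap f P) P f rfl]
    have : IsScalarTower R (Localization.AtPrime (Ideal.comap f P)) (Localization.AtPrime P) :=
      .of_algebraMap_eq fun x ↦ (Localization.localRingHom_to_map _ _ _ rfl x).symm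
    have hwe : Algebra.WeaklyEtale (Localization.AtPrime (Ideal.comap f P))
        (Localization.AtPrime P) := HP
    have hSL : (IsScalarTower.toAlgHom R S (Localization.AtPrime P)).Flat :=
      (RingHom.flat_algebraMap_iff).mpr (IsLocalization.flat (Localization.AtPrime P) P.primeCompl)
    have g1 : (Algebra.TensorProduct.map (IsScalarTower.toAlgHom R S (Localization.AtPrime P))
        (IsScalarTower.toAlgHom R S (Localization.AtPrime P))).Flat :=
      RingHom.Flat.tensorProductMap hSL hSL
    haveI : TensorProduct.CompatibleSMul R (Localization.AtPrime (Ideal.comap f P))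
        (Localization.AtPrime P) (Localization.AtPrime P) :=
      IsLocalization.tensorProduct_compatibleSMul (Ideal.comap f P).primeCompl _ _ _
    let e : (Localization.AtPrime P) ⊗[Localization.AtPrime (Ideal.comap f P)]
        (Localization.AtPrime P) ≃ₐ[Localization.AtPrime (Ideal.comap f P)]
        (Localization.AtPrime P) ⊗[R] (Localization.AtPrime P) :=
      Algebra.TensorProduct.equivOfCompatibleSMul R _ _ _ _
    have g2 : (e.symm.toAlgHom.toRingHom).Flat := .of_bijective e.symm.bijective
    have g3 : (Algebra.TensorProduct.lmul' (Localization.AtPrime (Ideal.comap f P))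
        (S := Localization.AtPrime P)).toRingHom.Flat :=
      Algebra.WeaklyEtale.flat_lmul' _ _
    have hcomp : algebraMap (S ⊗[R] S) (Localization.AtPrime P) =
        ((Algebra.TensorProduct.lmul' (Localization.AtPrime (Ideal.comap f P))
          (S := Localization.AtPrime P)).toRingHom.comp (e.symm.toAlgHom.toRingHom)).comp
        (Algebra.TensorProduct.map (IsScalarTower.toAlgHom R S (Localization.AtPrime P))
          (IsScalarTower.toAlgHom R S (Localization.AtPrime P))).toRingHom := by
      apply RingHom.ext
      intro x
      induction x using TensorProduct.induction_on with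
      | zero => simp
      | tmul a b =>
        rw [IsScalarTower.algebraMap_apply (S ⊗[R] S) S (Localization.AtPrime P),
          RingHom.algebraMap_toAlgebra]
        simp only [AlgHom.toRingHom_eq_coe, RingHom.coe_coe,
          Algebra.TensorProduct.lmul'_apply_tmul, map_mul, RingHom.coe_comp,
          Function.comp_apply, Algebra.TensorProduct.map_tmul, IsScalarTower.coe_toAlgHom']
        rfl
      | add x y hx hy => rw [map_add, map_add, hx, hy]
    rw [← RingHom.flat_algebraMap_iff, hcomp]
    exact (g1.comp g2).comp g3

end Groth.Agent.Lib.helper3.WEtaleLoc
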