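import Mathlib

set_option autoImplicit false
set_option linter.style.haveILetI false
set_option linter.unusedSectionVars false
universe u

namespace Groth.Agent.Lib.helper3.WeakDimOne

open IsLocalRing

/-- a finitely generated flat ideal of a local ring is zero or generated by a regular element. -/
theorem exists_gen_of_flat {B : Type*} [CommRing B] [IsLocalRing B] (J : Ideal B) (hJ : J.FG)
    [Module.Flat B J] :
    ∃ c : B, J = Ideal.span {c} ∧ (c = 0 ∨ ∀ r : B, r * c = 0 → r = 0) := by
  classical
  haveI : Module.Finite B J := Module.Finite.iff_fg.mpr hJ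
  haveI : Module.Free B J := Module.free_of_flat_of_isLocalRing
  let b := Module.Free.chooseBasis B J
  have hsub : ∀ i j : Module.Free.ChooseBasisIndex B J, i = j := by
    intro i j
    by_contra hij
    have h0 : ((b j : J) : B) • b i - ((b i : J) : B) • b j = 0 := by
      apply Subtype.ext
      simp only [Submodule.coe_sub, Submodule.coe_smul, smul_eq_mul, Submodule.coe_zero]
      ring
    have hli := b.linearIndependent
    rw [linearIndependent_iff] at hli
    have h1 := hli (Finsupp.single i ((b j : J) : B) - Finsupp.single j ((b i : J) : B)) (by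
      rw [map_sub, Finsupp.linearCombination_single, Finsupp.linearCombination_single]
      exact h0)
    have h2 := DFunLike.congr_fun h1 i
    simp only [Finsupp.coe_sub, Pi.sub_apply, Finsupp.single_eq_same, Finsupp.coe_zero,
      Pi.zero_apply] at h2
    rw [Finsupp.single_eq_of_ne (by exact fun h => hij h), sub_zero] at h2
    exact b.ne_zero j (Subtype.ext h2)
  by_cases hne : Nonempty (Module.Free.ChooseBasisIndex B J)
  · obtain ⟨i⟩ := hne
    refine ⟨((b i : J) : B), ?_, Or.inr fun r hr => ?_⟩
    · apply le_antisymm
      · intro x hx
        have hx' : (⟨x, hx⟩ : J) ∈ Submodule.span B (Set.range b) := by rw [b.span_eq]; trivial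
        have hrange : Set.range b = {b i} := by
          ext z; constructor
          · rintro ⟨j, rfl⟩; rw [hsub j i]; rfl
          · rintro rfl; exact ⟨i, rfl⟩
        rw [hrange, Submodule.mem_span_singleton] at hx'
        obtain ⟨a, ha⟩ := hx'
        rw [Ideal.mem_span_singleton']
        refine ⟨a, ?_⟩
        have := congrArg Subtype.val ha
        simpa using this
      · rw [Ideal.span_singleton_le_iff_mem]; exact (b i).2
    · have h1 : r • b i = 0 := by
        apply Subtype.ext
        simpa using hr
      have h2 := congrArg b.repr h1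
      rw [map_smul, b.repr_self, map_zero] at h2
      have h3 := DFunLike.congr_fun h2 i
      simpa using h3
  · refine ⟨0, ?_, Or.inl rfl⟩
    rw [not_nonempty_iff] at hne
    have : (⊤ : Submodule B J) = ⊥ := by
      rw [← b.span_eq, Set.range_eq_empty, Submodule.span_empty]
    rw [Ideal.span_singleton_eq_bot.mpr rfl, eq_bot_iff]
    intro x hx
    have hx' : (⟨x, hx⟩ : J) ∈ (⊤ : Submodule B J) := trivial
    rw [this, Submodule.mem_bot] at hx'
    exact congrArg Subtype.val hx'

/-- a local ring all of whose two-generated ideals are flat is a valuation domain. -/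
theorem valuationRing_of_flat_pairs (B : Type*) [CommRing B] [IsLocalRing B]
    (h : ∀ x y : B, Module.Flat B (Ideal.span ({x, y} : Set B))) :
    ∃ _ : IsDomain B, ValuationRing B := by
  have K : ∀ x y : B, ∃ c : B, Ideal.span ({x, y} : Set B) = Ideal.span {c} ∧
      (c = 0 ∨ ∀ r : B, r * c = 0 → r = 0) := fun x y => by
    haveI := h x y
    classical
    exact exists_gen_of_flat _ ⟨{x, y}, by simp⟩
  have hreg : ∀ x : B, x ≠ 0 → ∀ r : B, r * x = 0 → r = 0 := by
    intro x hx r hr
    obtain ⟨c, hc, hc'⟩ := K x x
    rw [Set.pair_eq_singleton] at hc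
    have hxc : x ∈ Ideal.span {c} := hc ▸ Ideal.mem_span_singleton_self x
    have hcx : c ∈ Ideal.span {x} := hc ▸ Ideal.mem_span_singleton_self c
    obtain ⟨u, hu⟩ := Ideal.mem_span_singleton'.mp hxc
    obtain ⟨v, hv⟩ := Ideal.mem_span_singleton'.mp hcx
    rcases hc' with rfl | hc'
    · rw [mul_zero] at hu; exact (hx hu.symm).elim
    · apply hc'
      rw [← hv, ← mul_assoc, mul_comm r v, mul_assoc, hr, mul_zero]
  haveI : NoZeroDivisors B := ⟨fun {a b} hab => by
    by_cases hb : b = 0
    · exact Or.inr hb
    · exact Or.inl (hreg b hb a hab)⟩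
  haveI : IsDomain B := NoZeroDivisors.to_isDomain B
  refine ⟨inferInstance, ?_⟩
  rw [ValuationRing.iff_local_bezout_domain]
  refine ⟨inferInstance, ?_⟩
  rw [IsBezout.iff_span_pair_isPrincipal]
  intro x y
  obtain ⟨c, hc, -⟩ := K x y
  exact ⟨⟨c, hc⟩⟩

theorem flat_span_pair_localization {A : Type u} [CommRing A] (p : Ideal A) [p.IsPrime]
    (hfg : ∀ I : Ideal A, I.FG → Module.Flat A I) (x y : Localization.AtPrime p) :
    Module.Flat (Localization.AtPrime p) (Ideal.span ({x, y} : Set (Localization.AtPrime p))) := by
  classical
  obtain ⟨a, s, hx⟩ := IsLocalization.exists_mk'_eq p.primeCompl x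
  obtain ⟨b, t, hy⟩ := IsLocalization.exists_mk'_eq p.primeCompl y
  let I : Ideal A := Ideal.span {a, b}
  haveI : Module.Flat A I := hfg I ⟨{a, b}, by simp [I]⟩
  let L : Submodule (Localization.AtPrime p) (Localization.AtPrime p) := Submodule.localized' (Localization.AtPrime p) p.primeCompl (Algebra.linearMap A (Localization.AtPrime p)) I
  have hL : L = Ideal.span ({IsLocalization.mk' (Localization.AtPrime p) a s, IsLocalization.mk' (Localization.AtPrime p) b t} : Set (Localization.AtPrime p)) := by
    show Submodule.localized' (Localization.AtPrime p) p.primeCompl (Algebra.linearMap A (Localization.AtPrime p)) (Submodule.span A {a, b}) = _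
    rw [Submodule.localized'_span, Set.image_pair]
    apply le_antisymm
    · rw [Submodule.span_le]
      rintro z (rfl | rfl)
      · have : algebraMap A (Localization.AtPrime p) a = algebraMap A (Localization.AtPrime p) s * IsLocalization.mk' (Localization.AtPrime p) a s :=
          (IsLocalization.mk'_spec' (Localization.AtPrime p) a s).symm
        show algebraMap A (Localization.AtPrime p) a ∈ _
        rw [this]
        exact Ideal.mul_mem_left _ _ (Ideal.subset_span (Set.mem_insert _ _))
      · have : algebraMap A (Localization.AtPrime p) b = algebraMap A (Localization.AtPrime p) t * IsLocalization.mk' (Localization.AtPrime p) b t :=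
          (IsLocalization.mk'_spec' (Localization.AtPrime p) b t).symm
        show algebraMap A (Localization.AtPrime p) b ∈ _
        rw [this]
        exact Ideal.mul_mem_left _ _ (Ideal.subset_span (Set.mem_insert_of_mem _ rfl))
    · rw [Ideal.span_le]
      rintro z (rfl | rfl)
      · have : IsLocalization.mk' (Localization.AtPrime p) a s = IsLocalization.mk' (Localization.AtPrime p) 1 s * algebraMap A (Localization.AtPrime p) a := by
          rw [mul_comm, IsLocalization.mul_mk'_eq_mk'_of_mul, mul_one]
        rw [this]
        exact Ideal.mul_mem_left _ _ (Submodule.subset_span (Set.mem_insert _ _))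
      · have : IsLocalization.mk' (Localization.AtPrime p) b t = IsLocalization.mk' (Localization.AtPrime p) 1 t * algebraMap A (Localization.AtPrime p) b := by
          rw [mul_comm, IsLocalization.mul_mk'_eq_mk'_of_mul, mul_one]
        rw [this]
        exact Ideal.mul_mem_left _ _ (Submodule.subset_span (Set.mem_insert_of_mem _ rfl))
  haveI : Module.Flat (Localization.AtPrime p) L := Module.Flat.of_isLocalizedModule (R := A) (Localization.AtPrime p) p.primeCompl
    (Submodule.toLocalized' (Localization.AtPrime p) p.primeCompl (Algebra.linearMap A (Localization.AtPrime p)) I)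
  rw [← hx, ← hy, ← hL]
  exact this

theorem main (A : Type u) [CommRing A] :
    List.TFAE [∀ I : Ideal A, Module.Flat A I,
      ∀ I : Ideal A, I.FG → Module.Flat A I,
      ∀ (M : Type u) [AddCommGroup M] [Module A M], Module.Flat A M →
        ∀ N : Submodule A M, Module.Flat A N,
      ∀ (p : Ideal A) [p.IsPrime], ∃ _ : IsDomain (Localization.AtPrime p),
        ValuationRing (Localization.AtPrime p)] := by
  tfae_have 1 → 2 := fun h I _ => h I
  tfae_have 2 → 4 := fun h p _ =>
    valuationRing_of_flat_pairs _ (flat_span_pair_localization p h)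
  tfae_have 3 → 1 := fun h I => h A inferInstance I
  tfae_have 4 → 3 := by
    intro h M _ _ hM N
    apply Module.flat_of_localized_maximal
    intro P hP
    obtain ⟨hdom, hval⟩ := h P
    set B := Localization.AtPrime P
    rw [← Module.flat_iff_of_isLocalization B P.primeCompl,
      Module.Flat.flat_iff_torsion_eq_bot_of_isBezout]
    haveI : Module.Flat B (LocalizedModule P.primeCompl M) := inferInstance
    have hM0 : Submodule.torsion B (LocalizedModule P.primeCompl M) = ⊥ :=
      Module.Flat.torsion_eq_bot
    let g : LocalizedModule P.primeCompl N →ₗ[B] LocalizedModule P.primeCompl M :=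
      LocalizedModule.map P.primeCompl N.subtype
    have hg : Function.Injective g :=
      LocalizedModule.map_injective P.primeCompl N.subtype Subtype.val_injective
    rw [eq_bot_iff]
    rintro x ⟨r, hr⟩
    rw [Submodule.mem_bot]
    apply hg
    rw [map_zero]
    have : g x ∈ Submodule.torsion B (LocalizedModule P.primeCompl M) := by
      refine ⟨r, ?_⟩
      have hr' : (r : B) • x = 0 := hr
      show (r : B) • g x = 0
      rw [← map_smul, hr', map_zero]
    rw [hM0] at this
    exact this
  tfae_finish

end Groth.Agent.Lib.helper3.WeakDimOne
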